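import Mathlib
import Cfsg.Prelude.Def_Transfer
import Cfsg.Agent.H2.PUtil
import Cfsg.Agent.Lib.CoprimeB
import Cfsg.Agent.Lib.Components
/-! Minimal nontrivial coprime actions (Hall–Higman reduction) and, for `p` odd, triviality of
coprime actions trivial on elements of order `p`. -/
open Subgroup Cfsg.Agent.Lib.Coprime Cfsg.Agent.Lib.CoprimeB Cfsg.Agent.H2
open scoped commutatorElement
namespace Cfsg.Agent.Lib.MinAct
variable {G : Type*} [Group G]

/-- `N(P)` normalizes characteristic subgroups of `P` -/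
theorem normalizer_le_normalizer_char {P : Subgroup G} (C : Subgroup P) [hC : C.Characteristic] :
    normalizer (P : Set G) ≤ normalizer ((C.map P.subtype : Subgroup G) : Set G) := by
  intro n hn
  have h1 : ∀ n ∈ normalizer (P : Set G), ∀ x ∈ C.map P.subtype, n * x * n⁻¹ ∈ C.map P.subtype := by
    rintro n hn _ ⟨y, hy, rfl⟩
    have h3 := (characteristic_iff_map_le.1 hC (P.normalizerMonoidHom ⟨n, hn⟩)) ⟨y, hy, rfl⟩
    exact ⟨_, h3, rfl⟩
  rw [mem_normalizer_iff]
  intro x
  refine ⟨h1 n hn x, fun h => ?_⟩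
  have h2 := h1 n⁻¹ (inv_mem hn) _ h
  have e : n⁻¹ * (n * x * n⁻¹) * n⁻¹⁻¹ = x := by group
  rwa [e] at h2

theorem inf_centralizer_le_commutator_aux [Finite G] {P A : Subgroup G} [P.Normal]
    (hcop : (Nat.card A).Coprime (Nat.card P)) (hPA : ⁅P, A⁆ = P) :
    P ⊓ centralizer (A : Set G) ≤ ⁅P, P⁆ := by
  intro x hx
  let π := QuotientGroup.mk' (⁅P, P⁆ : Subgroup G)
  have hV : IsMulCommutative (P.map π) := by
    rw [PUtil.isMulCommutative_iff]
    rintro _ ⟨a, ha, rfl⟩ _ ⟨b, hb, rfl⟩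
    rw [← commutatorElement_eq_one_iff_mul_comm, ← map_commutatorElement]
    exact (QuotientGroup.eq_one_iff _).2 (commutator_mem_commutator ha hb)
  have hn : (P.map π).Normal := Normal.map inferInstance _ (QuotientGroup.mk'_surjective _)
  have hAV : A.map π ≤ normalizer ((P.map π : Subgroup _) : Set _) := by
    rw [normalizer_eq_top_iff.mpr hn]; exact le_top
  have hc : (Nat.card (A.map π)).Coprime (Nat.card (P.map π)) :=
    Nat.Coprime.coprime_dvd_left (Subgroup.card_map_dvd _ _)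
      (Nat.Coprime.coprime_dvd_right (Subgroup.card_map_dvd _ _) hcop)
  have h1 := abelian_inf_eq_bot hV hAV hc
  rw [← map_commutator, hPA] at h1
  have h2 : π x ∈ (P.map π ⊓ centralizer ((A.map π : Subgroup _) : Set _)) ⊓ P.map π := by
    refine ⟨⟨mem_map_of_mem _ hx.1, mem_centralizer_iff.2 ?_⟩, mem_map_of_mem _ hx.1⟩
    rintro _ ⟨a, ha, rfl⟩
    rw [← map_mul, ← map_mul, mem_centralizer_iff.1 hx.2 a ha]
  rw [h1, mem_bot] at h2
  exact (QuotientGroup.eq_one_iff _).1 h2

/-- if `P = [P,A]` (coprime action) then `C_P(A) ≤ [P,P]` -/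
theorem inf_centralizer_le_commutator [Finite G] {P A : Subgroup G}
    (hAP : A ≤ normalizer (P : Set G)) (hcop : (Nat.card A).Coprime (Nat.card P))
    (hPA : ⁅P, A⁆ = P) : P ⊓ centralizer (A : Set G) ≤ ⁅P, P⁆ := by
  set N := normalizer (P : Set G) with hN
  have hPN : P ≤ N := le_normalizer
  have hn : (P.subgroupOf N).Normal := inferInstance
  have h1 := inf_centralizer_le_commutator_aux (P := P.subgroupOf N) (A := A.subgroupOf N)
    (by
      rw [Nat.card_congr (subgroupOfEquivOfLe hAP).toEquiv, Nat.card_congr (subgroupOfEquivOfLe hPN).toEquiv]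
      exact hcop)
    (by
      apply Subgroup.map_injective N.subtype_injective
      rw [map_commutator, map_subgroupOf_eq_of_le hPN, map_subgroupOf_eq_of_le hAP, hPA])
  intro x hx
  have h2 : (⟨x, hPN hx.1⟩ : N) ∈ ⁅P.subgroupOf N, P.subgroupOf N⁆ := by
    apply h1
    refine ⟨hx.1, mem_centralizer_iff.2 ?_⟩
    intro a ha
    exact Subtype.ext (mem_centralizer_iff.1 hx.2 _ ha)
  have h3 := mem_map_of_mem N.subtype h2
  rwa [map_commutator, map_subgroupOf_eq_of_le hPN] at h3

theorem coprime_of_pgroup [Finite G] {p : ℕ} [Fact p.Prime] {A P : Subgroup G} (hP : IsPGroup p P)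
    (hAp : (Nat.card A).Coprime p) : (Nat.card A).Coprime (Nat.card P) := by
  obtain ⟨k, hk⟩ := IsPGroup.iff_card.1 hP
  rw [hk]; exact Nat.Coprime.pow_right k hAp

variable [Finite G] {p : ℕ} [hp' : Fact p.Prime] {B A P : Subgroup G}

theorem min_commutator (hP : IsPGroup p P) (hBP : B ≤ normalizer (P : Set G)) (hAB : A ≤ B)
    (hAn : B ≤ normalizer (A : Set G)) (hAp : (Nat.card A).Coprime p) (hnt : ⁅P, A⁆ ≠ ⊥)
    (hmin : ∀ U : Subgroup G, U < P → B ≤ normalizer (U : Set G) → ⁅U, A⁆ = ⊥) : ⁅P, A⁆ = P := by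
  by_contra hne
  have hAP : A ≤ normalizer (P : Set G) := hAB.trans hBP
  have h1 := hmin ⁅P, A⁆ (lt_of_le_of_ne (commutator_le_of_normalizes hAP) hne)
    (le_normalizer_commutator hBP hAn)
  rw [commutator_commutator_eq hAP (coprime_of_pgroup hP hAp) (Or.inr (isSolvable_of_isPGroup hP))] at h1
  exact hnt h1

theorem min_le_commutator (hP : IsPGroup p P) (hBP : B ≤ normalizer (P : Set G)) (hAB : A ≤ B)
    (hAn : B ≤ normalizer (A : Set G)) (hAp : (Nat.card A).Coprime p) (hnt : ⁅P, A⁆ ≠ ⊥)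
    (hmin : ∀ U : Subgroup G, U < P → B ≤ normalizer (U : Set G) → ⁅U, A⁆ = ⊥)
    {U : Subgroup G} (hU : U < P) (hBU : B ≤ normalizer (U : Set G)) : U ≤ ⁅P, P⁆ := by
  have h1 := hmin U hU hBU
  have h2 := min_commutator hP hBP hAB hAn hAp hnt hmin
  refine le_trans ?_ (inf_centralizer_le_commutator (hAB.trans hBP) (coprime_of_pgroup hP hAp) h2)
  refine le_inf hU.le ?_
  rwa [commutator_eq_bot_iff_le_centralizer] at h1

/-- **Hall–Higman reduction.** -/
theorem hall_higman (hP : IsPGroup p P) (hBP : B ≤ normalizer (P : Set G)) (hAB : A ≤ B)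
    (hAn : B ≤ normalizer (A : Set G)) (hAp : (Nat.card A).Coprime p) (hnt : ⁅P, A⁆ ≠ ⊥)
    (hmin : ∀ U : Subgroup G, U < P → B ≤ normalizer (U : Set G) → ⁅U, A⁆ = ⊥) :
    ⁅P, A⁆ = P ∧ (Cfsg.IsElementaryAbelian p P ∨ Cfsg.IsSpecial p ↥P) ∧
      (∀ U : Subgroup G, (frattini ↥P).map P.subtype ≤ U → U ≤ P → B ≤ normalizer (U : Set G) →
        U = (frattini ↥P).map P.subtype ∨ U = P) ∧ (p ≠ 2 → ∀ x ∈ P, x ^ p = 1) := by
  have hp : p.Prime := Fact.out
  have hPA := min_commutator hP hBP hAB hAn hAp hnt hmin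
  have hle : ∀ U : Subgroup G, U < P → B ≤ normalizer (U : Set G) → U ≤ ⁅P, P⁆ := fun U h1 h2 =>
    min_le_commutator hP hBP hAB hAn hAp hnt hmin h1 h2
  have hP1 : P ≠ ⊥ := by rintro rfl; exact hnt (commutator_bot_left _)
  set Φ : Subgroup G := (frattini P).map P.subtype with hΦ
  have hD : (commutator P).map P.subtype = ⁅P, P⁆ := map_subtype_commutator P
  have hDΦ : ⁅P, P⁆ ≤ Φ := by
    rw [← hD]; exact Subgroup.map_mono (Lib.Nilp.commutator_le_frattini hP)
  have hΦlt : Φ < P := by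
    refine lt_of_le_of_ne (map_subtype_le _) ?_
    intro h
    have h1 : frattini P = ⊤ := by
      apply Subgroup.map_injective P.subtype_injective
      rw [← hΦ, h, ← MonoidHom.range_eq_map, range_subtype]
    have : Nontrivial P := (nontrivial_iff_ne_bot P).2 hP1
    have h2 : frattini P < ⊤ := by
      obtain ⟨M, hM, _⟩ := Lib.Basic.exists_le_coatom (H := (⊥ : Subgroup P)) bot_ne_top
      exact (frattini_le_coatom hM).trans_lt (lt_top_iff_ne_top.2 hM.1)
    exact h2.ne h1
  have hBΦ : B ≤ normalizer (Φ : Set G) := hBP.trans (normalizer_le_normalizer_char _)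
  have hΦD : Φ = ⁅P, P⁆ := le_antisymm (hle Φ hΦlt hBΦ) hDΦ
  have hirr : ∀ U : Subgroup G, Φ ≤ U → U ≤ P → B ≤ normalizer (U : Set G) → U = Φ ∨ U = P := by
    intro U h1 h2 h3
    by_cases hUP : U = P
    · exact Or.inr hUP
    · left
      exact le_antisymm ((hle U (lt_of_le_of_ne h2 hUP) h3).trans hDΦ) h1
  by_cases hab : IsMulCommutative P
  · -- abelian case
    have hPP : ⁅P, P⁆ = ⊥ := by
      rw [commutator_eq_bot_iff_le_centralizer]
      exact le_centralizer_iff_isMulCommutative.2 hab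
    letI : CommGroup P := { (inferInstance : Group P) with mul_comm := hab.is_comm.comm }
    set V : Subgroup G := (powMonoidHom p : P →* P).ker.map P.subtype with hV
    have hVm : ∀ v, v ∈ V ↔ v ∈ P ∧ v ^ p = 1 := by
      intro v
      constructor
      · rintro ⟨w, hw, rfl⟩
        exact ⟨w.2, congrArg Subtype.val hw⟩
      · rintro ⟨h1, h2⟩
        exact ⟨⟨v, h1⟩, Subtype.ext h2, rfl⟩
    have hVP : V = P := by
      by_contra hne
      have hlt : V < P := lt_of_le_of_ne (fun v hv => ((hVm v).1 hv).1) hne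
      have hBV : B ≤ normalizer (V : Set G) := by
        intro b hb
        apply PUtil.mem_normalizer_of_conj_mem
        intro v hv
        rw [hVm] at hv ⊢
        exact ⟨(mem_normalizer_iff.1 (hBP hb) v).1 hv.1, by rw [conj_pow, hv.2]; group⟩
      have h1 := hle V hlt hBV
      rw [hPP, le_bot_iff] at h1
      obtain ⟨x, hx, hxo⟩ := PUtil.exists_orderOf_prime hp hP1 hP
      have h2 : x ∈ V := (hVm x).2 ⟨hx, by rw [← hxo]; exact pow_orderOf_eq_one x⟩
      rw [h1, mem_bot] at h2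
      rw [h2, orderOf_one] at hxo
      exact hp.one_lt.ne hxo
    have hall : ∀ x ∈ P, x ^ p = 1 := by
      intro x hx
      rw [← hVP, hVm] at hx; exact hx.2
    exact ⟨hPA, Or.inl ⟨hab, hall⟩, hirr, fun _ => hall⟩
  · -- nonabelian
    set Z : Subgroup G := P ⊓ centralizer (P : Set G) with hZ
    have hZc : (center P).map P.subtype = Z := Lib.Components.map_center_eq P
    have hZlt : Z < P := by
      refine lt_of_le_of_ne inf_le_left ?_
      intro h
      apply hab
      rw [PUtil.isMulCommutative_iff]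
      intro a ha b hb
      rw [← h] at hb
      exact mem_centralizer_iff.1 hb.2 a ha
    have hBZ : B ≤ normalizer (Z : Set G) := by
      rw [← hZc]; exact hBP.trans (normalizer_le_normalizer_char _)
    have hZD := hle Z hZlt hBZ
    have hBD : B ≤ normalizer ((⁅P, P⁆ : Subgroup G) : Set G) := by rw [← hΦD]; exact hBΦ
    have hDlt : ⁅P, P⁆ < P := by rw [← hΦD]; exact hΦlt
    have hDA := hmin _ hDlt hBD
    have hDZ : ⁅P, P⁆ ≤ Z := le_inf hDlt.le
      (le_centralizer_of_commutator_eq hPA hDlt.le (normalizer_commutator_ge_left P P) hDA)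
    have hZeq : Z = ⁅P, P⁆ := le_antisymm hZD hDZ
    have hspec : Cfsg.IsSpecial p P := by
      refine ⟨hP, ?_, ?_⟩
      · apply Subgroup.map_injective P.subtype_injective
        rw [hZc, hZeq]; exact hΦD
      · apply Subgroup.map_injective P.subtype_injective
        rw [hZc, hZeq]; exact hD
    refine ⟨hPA, Or.inr hspec, hirr, ?_⟩
    intro hp2
    have hpow : ∀ x ∈ P, x ^ p ∈ Z := by
      intro x hx
      rw [hZeq, ← hΦD]
      exact ⟨_, Lib.Nilp.pow_mem_frattini hP ⟨x, hx⟩, rfl⟩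
    have hcen : ∀ z ∈ Z, ∀ x ∈ P, z * x = x * z := fun z hz x hx => (mem_centralizer_iff.1 hz.2 x hx).symm
    have hcomm : ∀ x ∈ P, ∀ y ∈ P, ⁅y, x⁆ ∈ Z := fun x hx y hy => hDZ (commutator_mem_commutator hy hx)
    -- work in the group P
    have hcommP : ∀ x y : P, ∀ z : P, ⁅y, x⁆ * z = z * ⁅y, x⁆ := fun x y z =>
      Subtype.ext (hcen _ (hcomm x x.2 y y.2) z z.2)
    have hyx : ∀ x y : P, y * x = ⁅y, x⁆ * (x * y) := fun x y => by rw [commutatorElement_def]; group
    have hc1 : ∀ x y : P, ⁅y, x⁆ ^ p = 1 := by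
      intro x y
      -- y^n x = c^n x y^n
      have h1 : ∀ n : ℕ, y ^ n * x = ⁅y, x⁆ ^ n * (x * y ^ n) := by
        intro n
        induction n with
        | zero => simp
        | succ n ih =>
          have hcn : ∀ z : P, ⁅y, x⁆ ^ n * z = z * ⁅y, x⁆ ^ n := fun z =>
            (Commute.pow_left (show Commute ⁅y, x⁆ z from hcommP x y z) n).eq
          calc y ^ (n + 1) * x = y * (y ^ n * x) := by rw [pow_succ']; group
            _ = y * (⁅y, x⁆ ^ n * (x * y ^ n)) := by rw [ih]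
            _ = (y * ⁅y, x⁆ ^ n) * (x * y ^ n) := by group
            _ = (⁅y, x⁆ ^ n * y) * (x * y ^ n) := by rw [hcn y]
            _ = ⁅y, x⁆ ^ n * (y * x) * y ^ n := by group
            _ = ⁅y, x⁆ ^ n * (⁅y, x⁆ * (x * y)) * y ^ n := by rw [← hyx x y]
            _ = _ := by rw [pow_succ, pow_succ']; group
      have h2 := h1 p
      have h3 : (y ^ p) * x = x * y ^ p := Subtype.ext (hcen _ (hpow y y.2) x x.2)
      rw [h3] at h2
      exact (mul_eq_right.1 h2.symm)
    have hmulp : ∀ x y : P, (x * y) ^ p = x ^ p * y ^ p := by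
      intro x y
      have h1 := UniqSub.mul_pow_of_central (c := ⁅y, x⁆) (hcommP x y) (hyx x y) p
      have h2 := UniqSub.dvd_choose_two hp le_rfl (Or.inl hp2)
      rw [pow_one] at h2
      obtain ⟨m, hm⟩ := h2
      rw [hm, pow_mul, hc1, one_pow, mul_one] at h1
      exact h1
    let f : P →* P := { toFun := fun x => x ^ p, map_one' := one_pow p, map_mul' := hmulp }
    have hZA := hmin Z hZlt hBZ
    rw [commutator_eq_bot_iff_le_centralizer] at hZA
    have hker : ⁅P, A⁆ ≤ f.ker.map P.subtype := by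
      rw [commutator_le]
      intro x hx a ha
      have haP : a ∈ normalizer (P : Set G) := hBP (hAB ha)
      have hx' : a * x⁻¹ * a⁻¹ ∈ P := (mem_normalizer_iff.1 haP _).1 (P.inv_mem hx)
      refine ⟨⟨x, hx⟩ * ⟨a * x⁻¹ * a⁻¹, hx'⟩, ?_, ?_⟩
      · show f (⟨x, hx⟩ * ⟨a * x⁻¹ * a⁻¹, hx'⟩) = 1
        rw [map_mul]
        apply Subtype.ext
        show x ^ p * (a * x⁻¹ * a⁻¹) ^ p = 1
        rw [conj_pow, inv_pow]
        have h4 := mem_centralizer_iff.1 (hZA (hpow x hx)) a ha
        have h5 : a * (x ^ p)⁻¹ * a⁻¹ = (x ^ p)⁻¹ := by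
          have : a * (x ^ p)⁻¹ * a⁻¹ = (a * x ^ p * a⁻¹)⁻¹ := by group
          rw [this, h4]; group
        rw [h5, mul_inv_cancel]
      · show x * (a * x⁻¹ * a⁻¹) = ⁅x, a⁆
        rw [commutatorElement_def]; group
    rw [hPA] at hker
    intro x hx
    obtain ⟨y, hy, rfl⟩ := hker hx
    exact congrArg Subtype.val hy

/-- For `p` odd a `p'`-group acting on a `p`-group and centralizing all elements of order `p`
acts trivially. -/
theorem trivial_of_order_p (hp2 : p ≠ 2) {P A : Subgroup G} (hP : IsPGroup p P)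
    (hAP : A ≤ normalizer (P : Set G)) (hAp : (Nat.card A).Coprime p)
    (h : ∀ x ∈ P, x ^ p = 1 → ∀ a ∈ A, a * x = x * a) : ⁅P, A⁆ = ⊥ := by
  by_contra hne
  -- minimal A-invariant subgroup not centralized
  obtain ⟨Q, hQ⟩ := (Set.toFinite {Q : Subgroup G | Q ≤ P ∧ A ≤ normalizer (Q : Set G) ∧ ⁅Q, A⁆ ≠ ⊥}).exists_minimal
    ⟨P, le_rfl, hAP, hne⟩
  obtain ⟨hQP, hAQ, hQA⟩ := hQ.prop
  have h1 := hall_higman (B := A) (A := A) (P := Q) (hP.to_le hQP) hAQ le_rfl le_normalizer hAp hQA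
    (by
      intro U hU hAU
      by_contra hUA
      exact hU.not_ge (hQ.le_of_le ⟨hU.le.trans hQP, hAU, hUA⟩ hU.le))
  apply hQA
  rw [commutator_eq_bot_iff_le_centralizer]
  intro x hx
  rw [mem_centralizer_iff]
  intro a ha
  exact h x (hQP hx) (h1.2.2.2 hp2 x hx) a ha

end Cfsg.Agent.Lib.MinAct
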