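import Cfsg.Agent.Lib.CoprimeB
import Cfsg.Prelude.Def_Solvable

/-!
Counting for trivial-intersection self-normalizing subgroups (Frobenius complements).
-/

set_option autoImplicit false

open Subgroup Pointwise
open scoped commutatorElement
open Cfsg.Agent.Lib.Basic Cfsg.Agent.Lib.SchurZas Cfsg.Agent.Lib.Coprime Cfsg.Agent.Lib.CoprimeB
open Cfsg.Agent.Lib.Partition

namespace Cfsg.Agent.Lib.Frob

variable {G : Type*} [Group G]

/-- trivial intersection with conjugates by elements outside -/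
def TI (H : Subgroup G) : Prop := ∀ g : G, g ∉ H → H ⊓ MulAut.conj g • H = ⊥

/-- nonidentity elements in conjugates of `H` -/
def conjSet (H : Subgroup G) : Set G := {x : G | x ≠ 1 ∧ ∃ g : G, x ∈ MulAut.conj g • H}

theorem TI.mem_of_inf {H : Subgroup G} (h : TI H) {g x : G} (hx : x ≠ 1) (h1 : x ∈ H)
    (h2 : x ∈ MulAut.conj g • H) : g ∈ H := by
  by_contra hg
  have : x ∈ H ⊓ MulAut.conj g • H := mem_inf.mpr ⟨h1, h2⟩
  rw [h g hg, mem_bot] at this
  exact hx this

theorem TI.mem_of_mem_conj {H : Subgroup G} (h : TI H) {g k x : G} (hx : x ≠ 1)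
    (h1 : x ∈ MulAut.conj g • H) (h2 : x ∈ MulAut.conj k • H) : g⁻¹ * k ∈ H := by
  rw [mem_conj_smul_iff] at h1 h2
  apply h.mem_of_inf (x := g⁻¹ * x * g) _ h1
  · rw [mem_conj_smul_iff]
    have e : (g⁻¹ * k)⁻¹ * (g⁻¹ * x * g) * (g⁻¹ * k) = k⁻¹ * x * k := by group
    rw [e]; exact h2
  · intro h3
    apply hx
    have : x = g * (g⁻¹ * x * g) * g⁻¹ := by group
    rw [this, h3]; group

theorem conj_eq_of_mem {H : Subgroup G} {g k : G} (h : g⁻¹ * k ∈ H) :
    MulAut.conj g • H = MulAut.conj k • H := by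
  have : k = g * (g⁻¹ * k) := by group
  rw [this, map_mul, mul_smul, conj_smul_eq_self_of_mem h]

theorem TI.conj_eq {H : Subgroup G} (h : TI H) {g k x : G} (hx : x ≠ 1)
    (h1 : x ∈ MulAut.conj g • H) (h2 : x ∈ MulAut.conj k • H) :
    MulAut.conj g • H = MulAut.conj k • H :=
  conj_eq_of_mem (h.mem_of_mem_conj hx h1 h2)

theorem TI.conj {H : Subgroup G} (h : TI H) (k : G) : TI (MulAut.conj k • H) := by
  intro g hg
  rw [eq_bot_iff]
  intro x hx
  by_contra hx1
  rw [mem_bot] at hx1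
  have h1 := (mem_inf.mp hx).1
  have h2 := (mem_inf.mp hx).2
  rw [← mul_smul, ← map_mul] at h2
  have h3 := h.mem_of_mem_conj hx1 h1 h2
  apply hg
  rw [mem_conj_smul_iff]
  have e : k⁻¹ * (g * k) = k⁻¹ * g * k := by group
  rwa [e] at h3

theorem card_conjSet [Finite G] {H : Subgroup G} (h : TI H) :
    Nat.card (conjSet H) = H.index * (Nat.card H - 1) := by
  have e : (G ⧸ H) × {x : H // x ≠ 1} ≃ conjSet H := by
    refine Equiv.ofBijective (fun p => ⟨p.1.out * (p.2 : H) * p.1.out⁻¹, ?_, p.1.out, ?_⟩) ⟨?_, ?_⟩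
    · intro h1
      apply p.2.2
      apply Subtype.ext
      have : ((p.2 : H) : G) = p.1.out⁻¹ * (p.1.out * (p.2 : H) * p.1.out⁻¹) * p.1.out := by group
      rw [this, h1]; simp
    · rw [mem_conj_smul_iff]
      have : p.1.out⁻¹ * (p.1.out * ((p.2 : H) : G) * p.1.out⁻¹) * p.1.out = (p.2 : H) := by group
      rw [this]; exact (p.2 : H).2
    · rintro ⟨c, x, hx⟩ ⟨d, y, hy⟩ hxy
      have h1 : c.out * (x : G) * c.out⁻¹ = d.out * (y : G) * d.out⁻¹ := congrArg Subtype.val hxy
      have hx1 : (c.out * (x : G) * c.out⁻¹) ≠ 1 := by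
        intro h1
        apply hx
        apply Subtype.ext
        have : (x : G) = c.out⁻¹ * (c.out * x * c.out⁻¹) * c.out := by group
        rw [this, h1]; simp
      have h2 := h.mem_of_mem_conj (g := c.out) (k := d.out) hx1
        (by rw [mem_conj_smul_iff]
            have : c.out⁻¹ * (c.out * (x : G) * c.out⁻¹) * c.out = x := by group
            rw [this]; exact x.2)
        (by rw [mem_conj_smul_iff, h1]
            have : d.out⁻¹ * (d.out * (y : G) * d.out⁻¹) * d.out = y := by group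
            rw [this]; exact y.2)
      have h3 : c = d := by
        rw [← c.out_eq', ← d.out_eq']
        exact QuotientGroup.eq.mpr h2
      subst h3
      have h4 : (x : G) = y := by
        have := mul_right_cancel h1
        exact mul_left_cancel this
      have h5 : x = y := Subtype.ext h4
      subst h5; rfl
    · rintro ⟨x, hx, g, hg⟩
      rw [mem_conj_smul_iff] at hg
      set c : G ⧸ H := (g : G ⧸ H) with hc
      have h1 : c.out⁻¹ * g ∈ H := by
        rw [← QuotientGroup.eq, ← hc]; exact c.out_eq'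
      have h2 : c.out⁻¹ * x * c.out ∈ H := by
        have : c.out⁻¹ * x * c.out = (c.out⁻¹ * g) * (g⁻¹ * x * g) * (c.out⁻¹ * g)⁻¹ := by group
        rw [this]
        exact H.mul_mem (H.mul_mem h1 hg) (H.inv_mem h1)
      refine ⟨⟨c, ⟨⟨_, h2⟩, ?_⟩⟩, ?_⟩
      · intro h3
        apply hx
        have h4 : c.out⁻¹ * x * c.out = 1 := congrArg Subtype.val h3
        have : x = c.out * (c.out⁻¹ * x * c.out) * c.out⁻¹ := by group
        rw [this, h4]; simp
      · apply Subtype.ext
        change c.out * (c.out⁻¹ * x * c.out) * c.out⁻¹ = x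
        group
  rw [← Nat.card_congr e, Nat.card_prod, ← index_eq_card]
  congr 1
  have := Fintype.ofFinite H
  classical
  rw [Nat.card_eq_fintype_card, Nat.card_eq_fintype_card]
  simp [Fintype.card_subtype_compl]

theorem card_conjSet_add_index [Finite G] {H : Subgroup G} (h : TI H) :
    Nat.card (conjSet H) + H.index = Nat.card G := by
  rw [card_conjSet h, ← H.index_mul_card]
  have : 0 < Nat.card H := Nat.card_pos
  obtain ⟨m, hm⟩ : ∃ m, Nat.card H = m + 1 := ⟨Nat.card H - 1, by omega⟩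
  rw [hm]; simp; ring

theorem frobeniusKernel_eq (H : Subgroup G) : Cfsg.frobeniusKernel H = (conjSet H)ᶜ := by
  ext x
  simp only [Cfsg.frobeniusKernel, conjSet, Set.mem_setOf_eq, Set.mem_compl_iff, not_and, not_exists]
  constructor
  · rintro (h | h) h1
    · exact absurd h h1
    · exact h
  · intro h
    by_cases hx : x = 1
    · exact Or.inl hx
    · exact Or.inr (h hx)

theorem card_kernel [Finite G] {H : Subgroup G} (h : TI H) :
    Nat.card (Cfsg.frobeniusKernel H) = H.index := by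
  have h1 := card_conjSet_add_index h
  have h2 := Set.ncard_add_ncard_compl (conjSet H)
  rw [frobeniusKernel_eq]
  change Nat.card (conjSet H) + Nat.card ((conjSet H)ᶜ : Set G) = Nat.card G at h2
  omega

/-- free actions -/
theorem card_dvd_of_free {A X : Type*} [Group A] [Finite A] [Finite X] [MulAction A X]
    (h : ∀ x : X, MulAction.stabilizer A x = ⊥) : Nat.card A ∣ Nat.card X := by
  have e := MulAction.selfEquivSigmaOrbitsQuotientStabilizer A X
  have := Fintype.ofFinite (Quotient (MulAction.orbitRel A X))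
  rw [Nat.card_congr e, Nat.card_sigma]
  apply Finset.dvd_sum
  intro ω _
  rw [h, Nat.card_congr (QuotientGroup.quotientBot (G := A)).toEquiv]

theorem index_mod_card [Finite G] {H : Subgroup G} (h : TI H) :
    H.index % Nat.card H = 1 % Nat.card H := by
  -- H acts on the complement of the trivial coset
  let X : SubMulAction H (G ⧸ H) :=
    { carrier := {c | c ≠ (((1 : G) : G ⧸ H))}
      smul_mem' := by
        intro a c hc h1
        apply hc
        have h2 : c = a⁻¹ • (((1 : G) : G ⧸ H)) := by rw [← h1, inv_smul_smul]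
        rw [h2]
        change (((a⁻¹ : H) : G) • ((1 : G) : G ⧸ H)) = _
        rw [MulAction.Quotient.smul_coe, QuotientGroup.eq]
        simp }
  have h1 : Nat.card H ∣ Nat.card X := by
    apply card_dvd_of_free
    rintro ⟨c, hc⟩
    rw [eq_bot_iff]
    intro a ha
    rw [MulAction.mem_stabilizer_iff] at ha
    have ha' : (a : G) • c = c := congrArg Subtype.val ha
    obtain ⟨g, rfl⟩ := QuotientGroup.mk_surjective c
    rw [MulAction.Quotient.smul_coe, QuotientGroup.eq] at ha'
    by_contra hne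
    rw [mem_bot] at hne
    have h3 : (a : G) ∈ MulAut.conj g • H := by
      rw [mem_conj_smul_iff]
      have := H.inv_mem ha'
      have e : (((a : G) • g)⁻¹ * g)⁻¹ = g⁻¹ * a * g := by
        simp [smul_eq_mul, mul_assoc]
      rwa [e] at this
    have h4 := h.mem_of_inf (x := (a : G)) (fun h => hne (Subtype.ext h)) a.2 h3
    apply hc
    rw [QuotientGroup.eq]
    simpa using h4
  have h2 : Nat.card X + 1 = H.index := by
    rw [index_eq_card]
    have h3 := Set.ncard_add_ncard_compl ({((1 : G) : G ⧸ H)} : Set (G ⧸ H))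
    rw [Set.ncard_singleton] at h3
    rw [← h3, add_comm]
    rfl
  obtain ⟨m, hm⟩ := h1
  rw [← h2, hm, Nat.add_mod, Nat.mul_mod_right, zero_add, Nat.mod_mod]

theorem card_coprime_index [Finite G] {H : Subgroup G} (h : TI H) :
    (Nat.card H).Coprime H.index := by
  have h1 := index_mod_card h
  have h2 : H.index ≡ 1 [MOD Nat.card H] := h1
  have h3 := h2.gcd_eq
  rw [Nat.gcd_one_left] at h3
  exact Nat.Coprime.symm h3

/-- Two nontrivial proper TI subgroups: some conjugates meet nontrivially. -/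
theorem exists_conj_inf_ne_bot [Finite G] {H K : Subgroup G} (hH : TI H) (hK : TI K)
    (hH0 : H ≠ ⊥) (hK0 : K ≠ ⊥) : ∃ g : G, H ⊓ MulAut.conj g • K ≠ ⊥ := by
  by_contra hcon
  push Not at hcon
  have hd : Disjoint (conjSet H) (conjSet K) := by
    rw [Set.disjoint_left]
    rintro x ⟨hx, g, hg⟩ ⟨-, k, hk⟩
    apply hx
    have h1 : g⁻¹ * x * g ∈ H ⊓ MulAut.conj (g⁻¹ * k) • K := by
      refine mem_inf.mpr ⟨mem_conj_smul_iff.mp hg, ?_⟩
      rw [mem_conj_smul_iff]
      have e : (g⁻¹ * k)⁻¹ * (g⁻¹ * x * g) * (g⁻¹ * k) = k⁻¹ * x * k := by group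
      rw [e]; exact mem_conj_smul_iff.mp hk
    rw [hcon, mem_bot] at h1
    have : x = g * (g⁻¹ * x * g) * g⁻¹ := by group
    rw [this, h1]; group
  have h1 := card_conjSet_add_index hH
  have h2 := card_conjSet_add_index hK
  have h3 : Nat.card (conjSet H) + Nat.card (conjSet K) < Nat.card G := by
    have h4 : (conjSet H ∪ conjSet K).ncard = (conjSet H).ncard + (conjSet K).ncard :=
      Set.ncard_union_eq hd
    have h5 : (conjSet H ∪ conjSet K).ncard < (Set.univ : Set G).ncard := by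
      apply Set.ncard_lt_ncard _ (Set.toFinite _)
      refine ⟨Set.subset_univ _, fun h => ?_⟩
      rcases h (Set.mem_univ (1 : G)) with h6 | h6
      · exact h6.1 rfl
      · exact h6.1 rfl
    rw [h4, Set.ncard_univ] at h5
    exact h5
  have h4 : 2 * H.index ≤ Nat.card G := by
    rw [← H.index_mul_card, mul_comm]
    exact Nat.mul_le_mul_left _ ((one_lt_card_iff_ne_bot H).mpr hH0)
  have h5 : 2 * K.index ≤ Nat.card G := by
    rw [← K.index_mul_card, mul_comm]
    exact Nat.mul_le_mul_left _ ((one_lt_card_iff_ne_bot K).mpr hK0)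
  omega

/-- centralizers of nonidentity elements of a TI subgroup are inside -/
theorem TI.mem_of_commute {H : Subgroup G} (h : TI H) {g x y : G} (hx : x ≠ 1)
    (h1 : x ∈ MulAut.conj g • H) (h2 : y * x = x * y) : y ∈ MulAut.conj g • H := by
  have h3 : x ∈ MulAut.conj (y * g) • H := by
    rw [mem_conj_smul_iff] at h1 ⊢
    have e : (y * g)⁻¹ * x * (y * g) = g⁻¹ * (y⁻¹ * (x * y)) * g := by group
    rw [e, ← h2]
    have e2 : g⁻¹ * (y⁻¹ * (y * x)) * g = g⁻¹ * x * g := by group
    rw [e2]; exact h1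
  have h4 := h.mem_of_mem_conj hx h1 h3
  rw [mem_conj_smul_iff]
  have e : g⁻¹ * (y * g) = g⁻¹ * y * g := by group
  rwa [e] at h4

theorem TI.mem_of_conj_mem {H : Subgroup G} (h : TI H) {g x y : G} (hx : x ≠ 1)
    (h1 : x ∈ MulAut.conj g • H) (h2 : y * x * y⁻¹ ∈ MulAut.conj g • H) :
    y ∈ MulAut.conj g • H := by
  have h3 : x ∈ MulAut.conj (y⁻¹ * g) • H := by
    rw [mem_conj_smul_iff] at h2 ⊢
    have e : (y⁻¹ * g)⁻¹ * x * (y⁻¹ * g) = g⁻¹ * (y * x * y⁻¹) * g := by group
    rw [e]; exact h2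
  have h4 := h.mem_of_mem_conj hx h1 h3
  rw [mem_conj_smul_iff]
  have e : (g⁻¹ * (y⁻¹ * g))⁻¹ = g⁻¹ * y * g := by group
  rw [← e]; exact H.inv_mem h4

/-- the intersection of a conjugate of a TI subgroup with a subgroup `L` is TI in `L` -/
theorem TI.subgroupOf {H : Subgroup G} (h : TI H) (g : G) (L : Subgroup G) :
    TI ((MulAut.conj g • H).subgroupOf L) := by
  intro l hl
  rw [eq_bot_iff]
  intro x hx
  have h1 := mem_subgroupOf.mp (mem_inf.mp hx).1
  have h2 := (mem_inf.mp hx).2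
  rw [mem_conj_smul_iff, mem_subgroupOf, mem_conj_smul_iff] at h2
  by_contra hx1
  rw [mem_bot] at hx1
  have h3 : (x : G) ∈ MulAut.conj ((l : G) * g) • H := by
    rw [mem_conj_smul_iff]
    have e : ((l : G) * g)⁻¹ * x * ((l : G) * g) = g⁻¹ * ((l⁻¹ * x * l : L) : G) * g := by
      push_cast; group
    rw [e]; exact h2
  have h4 := h.mem_of_mem_conj (fun h => hx1 (Subtype.ext h)) h1 h3
  apply hl
  rw [mem_subgroupOf, mem_conj_smul_iff]
  have e : g⁻¹ * ((l : G) * g) = g⁻¹ * l * g := by group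
  rwa [e] at h4

/-- conjugates of a TI subgroup which meet `L` nontrivially are conjugate under `L` -/
theorem TI.conj_of_inf_ne_bot [Finite G] {H : Subgroup G} (h : TI H) {L : Subgroup G} {g₁ g₂ : G}
    (h1 : L ⊓ MulAut.conj g₁ • H ≠ ⊥) (h2 : L ⊓ MulAut.conj g₂ • H ≠ ⊥) :
    ∃ l ∈ L, MulAut.conj g₁ • H = MulAut.conj (l * g₂) • H := by
  have ne : ∀ g : G, L ⊓ MulAut.conj g • H ≠ ⊥ → (MulAut.conj g • H).subgroupOf L ≠ ⊥ := by
    intro g hg h0
    apply hg
    rw [inf_comm, ← subgroupOf_map_subtype, h0, Subgroup.map_bot]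
  obtain ⟨l, hl⟩ := exists_conj_inf_ne_bot (h.subgroupOf g₁ L) (h.subgroupOf g₂ L) (ne _ h1) (ne _ h2)
  refine ⟨l, l.2, ?_⟩
  obtain ⟨⟨x, hx⟩, hx1⟩ := Subgroup.ne_bot_iff_exists_ne_one.mp hl
  have h3 := mem_subgroupOf.mp (mem_inf.mp hx).1
  have h4 := (mem_inf.mp hx).2
  rw [mem_conj_smul_iff, mem_subgroupOf, mem_conj_smul_iff] at h4
  refine h.conj_eq (x := (x : G)) ?_ h3 ?_
  · intro h5
    exact hx1 (Subtype.ext (Subtype.ext h5))
  · rw [mem_conj_smul_iff]
    have e : ((l : G) * g₂)⁻¹ * x * ((l : G) * g₂) = g₂⁻¹ * ((l⁻¹ * x * l : L) : G) * g₂ := by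
      push_cast; group
    rw [e]; exact h4

/-- A TI subgroup all of whose conjugates cover the group is the whole group. -/
theorem TI.eq_top_of_cover [Finite G] {H : Subgroup G} (h : TI H)
    (hc : ∀ x : G, x ≠ 1 → ∃ g : G, x ∈ MulAut.conj g • H) : H = ⊤ := by
  have h1 := card_conjSet_add_index h
  have h2 : conjSet H = ({1} : Set G)ᶜ := by
    ext x
    simp only [conjSet, Set.mem_setOf_eq, Set.mem_compl_iff, Set.mem_singleton_iff]
    exact ⟨fun h => h.1, fun h => ⟨h, hc x h⟩⟩
  have h3 := Set.ncard_add_ncard_compl ({1} : Set G)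
  rw [Set.ncard_singleton, ← h2] at h3
  change 1 + Nat.card (conjSet H) = Nat.card G at h3
  rw [← index_eq_one]
  omega

/-- if `a` acts fixed-point-freely on the abelian group `V` then every element of `V` is a
commutator `[v, a]` -/
theorem surjective_of_fpf [Finite G] {V : Subgroup G} (hV : IsMulCommutative V) {a : G}
    (ha : a ∈ normalizer (V : Set G)) (hfpf : V ⊓ centralizer {a} = ⊥) :
    V ≤ ⁅V, zpowers a⁆ := by
  have hn : ∀ v ∈ V, a * v * a⁻¹ ∈ V := fun v hv => (mem_normalizer_iff.mp ha v).mp hv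
  have hinj : Function.Injective (fun v : V => (⟨(v : G) * (a * (v : G)⁻¹ * a⁻¹),
      V.mul_mem v.2 (hn _ (V.inv_mem v.2))⟩ : V)) := by
    intro v w hvw
    have h1 : (v : G) * (a * (v : G)⁻¹ * a⁻¹) = w * (a * (w : G)⁻¹ * a⁻¹) := congrArg Subtype.val hvw
    have h2 : (w : G)⁻¹ * v ∈ V ⊓ centralizer {a} := by
      refine mem_inf.mpr ⟨V.mul_mem (V.inv_mem w.2) v.2, ?_⟩
      rw [mem_centralizer_iff]
      rintro z rfl
      have h3 : (w : G)⁻¹ * v = z * ((w : G)⁻¹ * v) * z⁻¹ := by
        calc (w : G)⁻¹ * v = (w : G)⁻¹ * (v * (z * (v : G)⁻¹ * z⁻¹)) * (z * v * z⁻¹) := by group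
          _ = (w : G)⁻¹ * (w * (z * (w : G)⁻¹ * z⁻¹)) * (z * v * z⁻¹) := by rw [h1]
          _ = _ := by group
      exact (eq_mul_inv_iff_mul_eq.mp h3).symm
    rw [hfpf, mem_bot] at h2
    exact Subtype.ext (inv_mul_eq_one.mp h2).symm
  intro v hv
  obtain ⟨w, hw⟩ := Finite.surjective_of_injective hinj ⟨v, hv⟩
  have hw' : (w : G) * (a * (w : G)⁻¹ * a⁻¹) = v := congrArg Subtype.val hw
  have e : v = ⁅(w : G), a⁆ := by rw [← hw', commutatorElement_def]; group
  rw [e]
  exact commutator_mem_commutator w.2 (mem_zpowers a)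

/-- Norm argument: `A` acting fixed-point-freely on an abelian group, `A` a union of `r + 1`
subgroups of prime order meeting trivially, `r` a prime divisor of `|A|`: impossible. -/
theorem false_of_partition_fpf [Finite G] {A V : Subgroup G} (hV : IsMulCommutative V)
    (hV0 : V ≠ ⊥) (hAV : A ≤ normalizer (V : Set G))
    (hfpf : ∀ a ∈ A, a ≠ 1 → V ⊓ centralizer {a} = ⊥) {r : ℕ} (hr : r.Prime)
    (hrA : r ∣ Nat.card A) (hord : ∀ a : A, a ≠ 1 → (orderOf a).Prime)
    (hcard : (primeSubgroups A).card = r + 1) : False := by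
  have : Fact r.Prime := ⟨hr⟩
  let _ : CommGroup V := { mul_comm := hV.is_comm.comm }
  let φ : A →* MulAut V := act hAV
  have hfix : ∀ (B : Subgroup A), B ≠ ⊥ → ∀ v : V, nrm φ B v ∈ (⊥ : Subgroup V) := by
    intro B hB v
    obtain ⟨b, hb1⟩ := Subgroup.ne_bot_iff_exists_ne_one.mp hB
    have h1 := nrm_fixed φ B v b.2
    have h3 : ((b : A) : G) * (nrm φ B v : V) * (((b : A) : G))⁻¹ = (nrm φ B v : V) :=
      congrArg Subtype.val h1
    have h4 : ((nrm φ B v : V) : G) ∈ V ⊓ centralizer {((b : A) : G)} := by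
      refine mem_inf.mpr ⟨(nrm φ B v).2, ?_⟩
      rw [mem_centralizer_iff]
      rintro z rfl
      exact mul_inv_eq_iff_eq_mul.mp h3
    rw [hfpf _ (b : A).2 (fun h => hb1 (Subtype.ext (Subtype.ext h))), mem_bot] at h4
    rw [mem_bot]; exact Subtype.ext h4
  have hAt : (⊤ : Subgroup A) ≠ ⊥ := by
    intro h
    have h1 := card_top (G := A)
    rw [h, card_bot] at h1
    rw [← h1, Nat.dvd_one] at hrA
    exact hr.one_lt.ne' hrA
  have hpow : ∀ v : V, v ^ r = 1 := by
    intro v
    have := pow_mem_of_partition φ (primeSubgroups A) (by omega) (cover_primeSubgroups hord)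
      (fun B hB C hC hne => inf_eq_bot_of_prime (mem_primeSubgroups.mp hB)
        (mem_primeSubgroups.mp hC) hne) ⊥ v
      (fun B hB => hfix B (by
        rintro rfl
        have := mem_primeSubgroups.mp hB
        rw [card_bot] at this
        exact Nat.not_prime_one this) _) (hfix ⊤ hAt _)
    rwa [hcard, Nat.add_sub_cancel, mem_bot] at this
  have hVr : IsPGroup r V := fun v => ⟨1, by rw [pow_one]; exact hpow v⟩
  obtain ⟨a, ha⟩ := exists_prime_orderOf_dvd_card' r hrA
  have hz : IsPGroup r (zpowers (a : G)) := by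
    apply IsPGroup.of_card (n := 1)
    rw [Nat.card_zpowers, orderOf_coe, ha, pow_one]
  have ha1 : (a : G) ≠ 1 := by
    intro h
    have : a = 1 := Subtype.ext h
    rw [this, orderOf_one] at ha
    exact hr.one_lt.ne ha
  have h1 := commutator_lt_of_pgroup hVr hz (zpowers_le.mpr (hAV a.2)) hV0
  exact absurd (surjective_of_fpf hV (hAV a.2) (hfpf a a.2 ha1)) h1.not_ge

/-- abelian groups acting fixed-point-freely on an abelian group are cyclic -/
theorem isCyclic_of_fpf_comm [Finite G] {A V : Subgroup G} (hV : IsMulCommutative V)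
    (hV0 : V ≠ ⊥) (hAV : A ≤ normalizer (V : Set G))
    (hfpf : ∀ a ∈ A, a ≠ 1 → V ⊓ centralizer {a} = ⊥) (hA : IsMulCommutative A) : IsCyclic A := by
  by_contra hnc
  obtain ⟨p, hp, E, hE, he⟩ := exists_elementary_of_not_isCyclic hA hnc
  set E' : Subgroup G := E.map A.subtype with hE'
  have hEA : E' ≤ A := map_subtype_le _
  have hcE : Nat.card E' = p ^ 2 := by
    rw [← hE]
    exact Nat.card_congr (E.equivMapOfInjective _ A.subtype_injective).symm.toEquiv
  have hpow : ∀ a : E', a ^ p = 1 := by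
    rintro ⟨_, ⟨x, hx, rfl⟩⟩
    apply Subtype.ext
    change (A.subtype x) ^ p = 1
    rw [← map_pow, he x hx, map_one]
  have hord : ∀ a : E', a ≠ 1 → (orderOf a).Prime := fun a ha => by
    rw [(orderOf_eq_prime_iff (hp := ⟨hp⟩)).mpr ⟨hpow a, ha⟩]; exact hp
  exact false_of_partition_fpf (A := E') hV hV0 (hEA.trans hAV)
    (fun a ha => hfpf a (hEA ha)) hp (by rw [hcE]; exact dvd_pow_self p two_ne_zero) hord
    (card_primeSubgroups_sq hp hcE hpow)

end Cfsg.Agent.Lib.Frob
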