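import Cfsg.Agent.Lib.CharExc
import Cfsg.Agent.Lib.CharKer
import Cfsg.Agent.Lib.Frob

set_option autoImplicit false

/-!
# Frobenius' theorem
-/

namespace Cfsg.Agent.Lib.CharFrobThm

open Cfsg Representation Module Cfsg.Agent.Lib.CharBasic Cfsg.Agent.Lib.CharInd
open Cfsg.Agent.Lib.CharKer Cfsg.Agent.Lib.CharExc
open scoped ComplexConjugate Pointwise

noncomputable section

variable {G : Type*} [Group G]

section Ext

variable [Fintype G]

/-- The extension of a class function `φ` of a TI-subgroup. -/
def starFn (H : Subgroup G) (φ : H → ℂ) : G → ℂ :=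
  indFun H (φ - fun _ => φ 1) + fun _ => φ 1

variable {H : Subgroup G}

theorem starFn_one (φ : H → ℂ) : starFn H φ 1 = φ 1 := by
  simp only [starFn, Pi.add_apply, indFun_one, Pi.sub_apply, sub_self, mul_zero, zero_add]

theorem starFn_mem (hTI : ∀ g : G, g ∉ H → ∀ t ∈ H, g * t * g⁻¹ ∈ H → t = 1) {φ : H → ℂ}
    (hφ : IsClassFunction H φ) (t : H) : starFn H φ t = φ t := by
  by_cases ht : t = 1
  · subst ht; exact starFn_one φ
  · simp only [starFn, Pi.add_apply]
    rw [indFun_eq_of_ti H (H : Set G) hTI _ (classFn_sub hφ (classFn_const _))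
      (fun x hx => absurd x.2 hx) t t.2 ht]
    simp

theorem starFn_irr (hTI : ∀ g : G, g ∉ H → ∀ t ∈ H, g * t * g⁻¹ ∈ H → t = 1) {φ : H → ℂ}
    (hφ : IsIrrCharacter H φ) : IsIrrCharacter G (starFn H φ) := by
  classical
  cases nonempty_fintype H
  by_cases h1 : φ = fun _ => 1
  · have : starFn H φ = fun _ => 1 := by
      rw [starFn, h1]
      have : ((fun _ => 1 : H → ℂ) - fun _ => (fun _ => 1 : H → ℂ) 1) = 0 := by funext x; simp
      rw [this, indFun_zero]; funext g; simp
    rw [this]; exact isIrr_trivial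
  obtain ⟨d, hd, hd1⟩ := isIrr_one_eq hφ
  have hcl := isChar_classFn (isChar_of_irr hφ)
  have hconst : (fun _ : H => φ 1) = (d : ℂ) • fun _ => (1 : ℂ) := by funext x; simp [hd1]
  have hconstG : (fun _ : G => φ 1) = (d : ℂ) • fun _ => (1 : ℂ) := by funext x; simp [hd1]
  have hgen : IsGeneralizedCharacter G (starFn H φ) := by
    refine gen_add (isGen_ind H (gen_sub (gen_of_irr hφ) ?_)) ?_
    · rw [hconst]; exact gen_nsmul d (gen_of_irr isIrr_trivial)
    · rw [hconstG]; exact gen_nsmul d (gen_of_irr isIrr_trivial)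
  have hφ1 : classInner φ (fun _ => 1) = 0 := irr_inner_ne hφ isIrr_trivial h1
  have h1φ : classInner (fun _ => 1) φ = 0 := irr_inner_ne isIrr_trivial hφ (Ne.symm h1)
  have hT : classInner (fun _ : H => (1:ℂ)) (fun _ => 1) = 1 := irr_inner_self isIrr_trivial
  have hTG : classInner (fun _ : G => (1:ℂ)) (fun _ => 1) = 1 := irr_inner_self isIrr_trivial
  have e1 : classInner (indFun H (φ - fun _ => φ 1)) (indFun H (φ - fun _ => φ 1)) =
      1 + (d : ℂ) * d := by
    rw [indFun_isometry_of_ti H (H : Set G) hTI _ _ (classFn_sub hcl (classFn_const _))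
      (fun x hx => absurd x.2 hx) (fun x hx => absurd x.2 hx) (by simp), hconst,
      classInner_sub_left, classInner_sub_right, classInner_sub_right, classInner_smul_left,
      classInner_smul_right, classInner_smul_left, classInner_smul_right, irr_inner_self hφ, hφ1,
      h1φ, hT]
    simp
  have e2 : classInner (indFun H (φ - fun _ => φ 1)) (fun _ => 1) = -d := by
    rw [reciprocity H _ _ (classFn_const 1), hconst, classInner_sub_left, classInner_smul_left]
    change classInner φ (fun _ => 1) - d * classInner (fun _ : H => (1:ℂ)) (fun _ => 1) = _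
    rw [hφ1, hT]; ring
  have e3 : classInner (fun _ => 1) (indFun H (φ - fun _ => φ 1)) = -d := by
    rw [← classInner_conj_symm, e2]; simp
  refine norm_one_pos hgen ?_ ?_
  · rw [starFn, hconstG, classInner_add_left, classInner_add_right, classInner_add_right,
      classInner_smul_left, classInner_smul_right, classInner_smul_left, classInner_smul_right,
      e1, e2, e3, hTG]
    simp
  · rw [starFn_one, hd1]
    simpa using hd

end Ext

/-- **Frobenius' theorem**. -/
theorem frobenius [Finite G] {H : Subgroup G} (h : Frob.TI H) :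
    ∃ N : Subgroup G, (N : Set G) = frobeniusKernel H ∧ N.Normal ∧ Subgroup.IsComplement' N H := by
  classical
  cases nonempty_fintype G
  have hTI : ∀ g : G, g ∉ H → ∀ t ∈ H, g * t * g⁻¹ ∈ H → t = 1 := by
    intro g hg t ht hgt
    have hg' : g⁻¹ ∉ H := fun h => hg (by simpa using H.inv_mem h)
    have h1 := h g⁻¹ hg'
    have h2 : t ∈ H ⊓ MulAut.conj g⁻¹ • H := by
      refine Subgroup.mem_inf.mpr ⟨ht, ?_⟩
      rw [Subgroup.mem_pointwise_smul_iff_inv_smul_mem, ← map_inv, MulAut.smul_def,
        MulAut.conj_apply, inv_inv]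
      exact hgt
    rw [h1] at h2
    exact Subgroup.mem_bot.mp h2
  let M : Subgroup G := ⨅ φ : IrrCharacter H, kerChar (starFn H φ.1)
    (isChar_of_irr (starFn_irr hTI φ.2))
  have hM : ∀ x, x ∈ M ↔ ∀ φ : IrrCharacter H, starFn H φ.1 x = φ.1 1 := by
    intro x
    simp only [M, Subgroup.mem_iInf, mem_kerChar, starFn_one]
  have hMn : M.Normal := by
    apply Subgroup.normal_iInf_normal
    intro φ
    exact kerChar_normal _
  have hMH : ∀ x ∈ M, x ∈ H → x = 1 := by
    intro x hx hxH
    have h1 : ∀ φ : IrrCharacter H, φ.1 ⟨x, hxH⟩ = φ.1 1 := by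
      intro φ
      rw [← starFn_mem hTI (isChar_classFn (isChar_of_irr φ.2)) ⟨x, hxH⟩]
      exact (hM x).mp hx φ
    cases nonempty_fintype H
    have h2 := irr_separates h1
    rw [isConj_comm, isConj_iff] at h2
    obtain ⟨c, hc⟩ := h2
    have h3 : (⟨x, hxH⟩ : H) = 1 := by rw [← hc]; simp
    exact congrArg Subtype.val h3
  have hset : (M : Set G) = frobeniusKernel H := by
    ext x
    constructor
    · intro hx
      by_cases hx1 : x = 1
      · exact Or.inl hx1
      right
      intro g hg
      apply hx1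
      have h1 : g⁻¹ * x * g ∈ H := by
        rw [Subgroup.mem_pointwise_smul_iff_inv_smul_mem, ← map_inv, MulAut.smul_def,
          MulAut.conj_apply, inv_inv] at hg
        exact hg
      have h2 : g⁻¹ * x * g ∈ M := by
        have := hMn.conj_mem x hx g⁻¹
        rwa [inv_inv] at this
      have h3 := hMH _ h2 h1
      have h4 : x = g * (g⁻¹ * x * g) * g⁻¹ := by group
      rw [h4, h3]; group
    · intro hx
      rw [SetLike.mem_coe, hM]
      intro φ
      rcases hx with rfl | hx
      · exact starFn_one _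
      · simp only [starFn, Pi.add_apply]
        rw [indFun_eq_zero_of_not_conj, zero_add]
        intro y hy
        exfalso
        apply hx y
        rw [Subgroup.mem_pointwise_smul_iff_inv_smul_mem, ← map_inv, MulAut.smul_def,
          MulAut.conj_apply, inv_inv]
        exact hy
  refine ⟨M, hset, hMn, ?_⟩
  apply Subgroup.isComplement'_of_card_mul_and_disjoint
  · have h1 : Nat.card M = H.index := by
      rw [← Frob.card_kernel h, ← hset]; rfl
    rw [h1, Subgroup.index_mul_card]
  · rw [disjoint_iff, eq_bot_iff]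
    intro x hx
    exact Subgroup.mem_bot.mpr (hMH x hx.1 hx.2)

end

end Cfsg.Agent.Lib.CharFrobThm
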