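import Mathlib
import Cfsg.Agent.Lib.Frob
import Cfsg.Agent.Lib.CoprimeB
import Cfsg.Agent.Lib.Cyc
import Cfsg.Agent.Lib.CharFrobThm
import Cfsg.Agent.S0037
import Cfsg.Agent.S0041

/-!
More on fixed-point-free action and Frobenius complements.
-/

set_option autoImplicit false

namespace Cfsg.Agent.Lib.FrobB

open Subgroup Cfsg.Agent.Lib.Basic Cfsg.Agent.Lib.Cores Cfsg.Agent.Lib.SchurZas Cfsg.Agent.Lib.Frob
open scoped Pointwise

variable {G : Type*} [Group G]

/-- center of a subgroup as a subgroup of the big group -/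
theorem map_center_eq_inf_centralizer (P : Subgroup G) :
    (center P).map P.subtype = P ⊓ centralizer (P : Set G) := by
  ext x
  constructor
  · rintro ⟨y, hy, rfl⟩
    refine mem_inf.mpr ⟨y.2, ?_⟩
    rw [mem_centralizer_iff]
    intro z hz
    have := mem_center_iff.mp hy ⟨z, hz⟩
    exact congrArg Subtype.val this
  · intro hx
    obtain ⟨h1, h2⟩ := mem_inf.mp hx
    refine ⟨⟨x, h1⟩, ?_, rfl⟩
    apply mem_center_iff.mpr
    intro z
    exact Subtype.ext (mem_centralizer_iff.mp h2 z z.2)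

theorem normalizer_le_normalizer_inf_centralizer (P : Subgroup G) :
    normalizer (P : Set G) ≤ normalizer ((P ⊓ centralizer (P : Set G) : Subgroup G) : Set G) := by
  rw [← map_center_eq_inf_centralizer]
  intro x hx
  rw [map_center_eq_inf_centralizer]
  rw [mem_normalizer_iff]
  intro y
  have h1 := fun z => mem_normalizer_iff.mp hx z
  constructor
  · intro hy
    obtain ⟨h2, h3⟩ := mem_inf.mp hy
    refine mem_inf.mpr ⟨(h1 y).mp h2, ?_⟩
    rw [mem_centralizer_iff] at h3 ⊢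
    intro z hz
    have h4 : x⁻¹ * z * x ∈ P := by
      rw [h1]; have e : x * (x⁻¹ * z * x) * x⁻¹ = z := by group
      rw [e]; exact hz
    have h5 := h3 _ h4
    have e1 : z * (x * y * x⁻¹) = x * ((x⁻¹ * z * x) * y) * x⁻¹ := by group
    have e2 : x * y * x⁻¹ * z = x * (y * (x⁻¹ * z * x)) * x⁻¹ := by group
    rw [e1, e2, h5]
  · intro hy
    obtain ⟨h2, h3⟩ := mem_inf.mp hy
    refine mem_inf.mpr ⟨(h1 y).mpr h2, ?_⟩
    rw [mem_centralizer_iff] at h3 ⊢
    intro z hz
    have h5 := h3 _ ((h1 z).mp hz)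
    have e1 : z * y = x⁻¹ * ((x * z * x⁻¹) * (x * y * x⁻¹)) * x := by group
    have e2 : y * z = x⁻¹ * ((x * y * x⁻¹) * (x * z * x⁻¹)) * x := by group
    rw [e1, e2, h5]

/-- Coprime action on a nontrivial group: there is an invariant nontrivial abelian `p`-subgroup. -/
theorem exists_invariant_abelian [Finite G] {B K : Subgroup G} (hBK : B ≤ normalizer (K : Set G))
    (hcop : (Nat.card B).Coprime (Nat.card K)) (hs : Group.IsSolvable B ∨ Group.IsSolvable K)
    {p : ℕ} (hp : p.Prime) (hpK : p ∣ Nat.card K) :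
    ∃ V : Subgroup G, V ≤ K ∧ V ≠ ⊥ ∧ IsMulCommutative V ∧ IsPGroup p V ∧
      B ≤ normalizer (V : Set G) := by
  have : Fact p.Prime := ⟨hp⟩
  obtain ⟨P, hP⟩ := Coprime.exists_invariant_sylow hBK hcop hs p
  obtain ⟨P', hP'⟩ : ∃ P' : Subgroup G, P' = (P : Subgroup K).map K.subtype := ⟨_, rfl⟩
  rw [← hP'] at hP
  have hPp : IsPGroup p P' := hP' ▸ P.isPGroup'.map _
  have hP0 : P' ≠ ⊥ := by
    rw [hP']
    intro h
    have h1 := (Subgroup.map_eq_bot_iff_of_injective _ K.subtype_injective).mp h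
    have h2 := P.card_eq_multiplicity
    rw [h1, card_bot] at h2
    have h3 := hp.factorization_pos_of_dvd Nat.card_pos.ne' hpK
    have h4 := Nat.one_lt_pow h3.ne' hp.one_lt
    omega
  have : Nontrivial P' := (nontrivial_iff_ne_bot _).mpr hP0
  have hc := hPp.center_nontrivial
  refine ⟨P' ⊓ centralizer (P' : Set G), inf_le_left.trans (hP' ▸ map_subtype_le _), ?_, ?_, ?_, ?_⟩
  · rw [← map_center_eq_inf_centralizer]
    intro h
    exact ((nontrivial_iff_ne_bot _).mp hc) ((Subgroup.map_eq_bot_iff_of_injective _ P'.subtype_injective).mp h)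
  · rw [Nilp.isMulCommutative_iff_forall]
    intro x hx y hy
    exact (mem_centralizer_iff.mp (mem_inf.mp hy).2 x (mem_inf.mp hx).1)
  · exact hPp.to_le inf_le_left
  · exact hP.trans (normalizer_le_normalizer_inf_centralizer P')

theorem isSolvable_sup {N H : Subgroup G} (h : H ≤ normalizer (N : Set G))
    (hN : Group.IsSolvable N) (hH : Group.IsSolvable H) : Group.IsSolvable (N ⊔ H : Subgroup G) := by
  have hn := normal_subgroupOf_sup h
  have hN' : Group.IsSolvable (N.subgroupOf (N ⊔ H)) :=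
    solvable_of_solvable_injective (f := (subgroupOfEquivOfLe (le_sup_left : N ≤ N ⊔ H)).toMonoidHom)
      (subgroupOfEquivOfLe _).injective
  have hQ : Group.IsSolvable ((N ⊔ H : Subgroup G) ⧸ N.subgroupOf (N ⊔ H)) := by
    let f : H →* (N ⊔ H : Subgroup G) ⧸ N.subgroupOf (N ⊔ H) :=
      (QuotientGroup.mk' (N.subgroupOf (N ⊔ H))).comp (inclusion (le_sup_right : H ≤ N ⊔ H))
    have hf : Function.Surjective f := by
      intro y
      obtain ⟨⟨y, hy⟩, rfl⟩ := QuotientGroup.mk'_surjective _ y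
      obtain ⟨n, hn', z, hz, rfl⟩ := (mem_sup_iff_left h).mp hy
      refine ⟨⟨z, hz⟩, ?_⟩
      rw [QuotientGroup.mk'_apply]
      apply QuotientGroup.eq.mpr
      rw [mem_subgroupOf]
      show (z⁻¹ * (n * z) : G) ∈ N
      have := (mem_normalizer_iff.mp (inv_mem (h hz)) n).mp hn'
      simpa [mul_assoc] using this
    exact solvable_of_surjective hf
  exact solvable_of_ker_le_range (N.subgroupOf (N ⊔ H)).subtype
    (QuotientGroup.mk' (N.subgroupOf (N ⊔ H))) (by rw [QuotientGroup.ker_mk', range_subtype])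

/-- A group acting fixed-point-freely cannot itself contain an element of prime order acting
fixed-point-freely on a nontrivial subgroup of coprime order. -/
theorem no_fpf_in_fpf [Finite G] {H N M : Subgroup G} (hHN : H ≤ normalizer (N : Set G))
    (hcop : (Nat.card H).Coprime (Nat.card N)) (hN : N ≠ ⊥)
    (hfpf : ∀ h ∈ H, h ≠ 1 → N ⊓ centralizer {h} = ⊥) (hMH : M ≤ H) (hM : M ≠ ⊥) {x : G} (hxH : x ∈ H)
    {q : ℕ} (hq : q.Prime) (hx : orderOf x = q) (hxM : x ∈ normalizer (M : Set G))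
    (hqM : ¬ q ∣ Nat.card M) (hxf : M ⊓ centralizer {x} = ⊥) : False := by
  have : Fact q.Prime := ⟨hq⟩
  have hXc : Nat.card (zpowers x) = q := by rw [Nat.card_zpowers, hx]
  have hXM : zpowers x ≤ normalizer (M : Set G) := zpowers_le.mpr hxM
  have hXs : Group.IsSolvable (zpowers x) := CoprimeB.isSolvable_of_comm inferInstance
  obtain ⟨r, hr, hrM⟩ := Nat.exists_prime_and_dvd (fun h => hM (card_eq_one.mp h) : Nat.card M ≠ 1)
  have : Fact r.Prime := ⟨hr⟩
  obtain ⟨Z, hZM, hZ0, hZc, hZp, hZx⟩ := exists_invariant_abelian hXM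
    (by rw [hXc]; exact (Nat.Prime.coprime_iff_not_dvd hq).mpr hqM) (Or.inl hXs) hr hrM
  -- B = Z <x> acts fixed-point-freely on an abelian subgroup of N
  have hqr : q ≠ r := by rintro rfl; exact hqM hrM
  have hZs : Group.IsSolvable Z := CoprimeB.isSolvable_of_comm hZc
  have hBH : Z ⊔ zpowers x ≤ H := sup_le (hZM.trans hMH) (zpowers_le.mpr hxH)
  have hBs : Group.IsSolvable (Z ⊔ zpowers x : Subgroup G) := isSolvable_sup hZx hZs hXs
  obtain ⟨p, hp, hpN⟩ := Nat.exists_prime_and_dvd (fun h => hN (card_eq_one.mp h) : Nat.card N ≠ 1)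
  obtain ⟨V, hVN, hV0, hVc, hVp, hVB⟩ := exists_invariant_abelian (hBH.trans hHN)
    (Nat.Coprime.coprime_dvd_left (card_dvd_of_le hBH) hcop) (Or.inl hBs) hp hpN
  have hVf : ∀ b ∈ Z ⊔ zpowers x, b ≠ 1 → V ⊓ centralizer {b} = ⊥ := fun b hb hb1 =>
    eq_bot_iff.mpr (le_trans (inf_le_inf_right _ hVN) (hfpf b (hBH hb) hb1).le)
  -- Z is cyclic
  have hZcyc : IsCyclic Z := isCyclic_of_fpf_comm hVc hV0 (le_sup_left.trans hVB)
    (fun b hb hb1 => hVf b (mem_sup_left hb) hb1) hZc
  -- the subgroup of order r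
  have hrZ : r ∣ Nat.card Z := by
    obtain ⟨k, hk⟩ := (IsPGroup.iff_card).mp hZp
    rw [hk]
    apply dvd_pow_self
    rintro rfl
    exact hZ0 (card_eq_one.mp (by rw [hk, pow_zero]))
  obtain ⟨Y₀, hY₀⟩ := Cyc.exists_subgroup_card hrZ
  obtain ⟨Y, hY⟩ : ∃ Y : Subgroup G, Y = Y₀.map Z.subtype := ⟨_, rfl⟩
  have hYc : Nat.card Y = r := by
    rw [hY, card_map_of_injective Z.subtype_injective, hY₀]
  have hYZ : Y ≤ Z := hY ▸ map_subtype_le _
  have hYx : zpowers x ≤ normalizer (Y : Set G) := by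
    rw [zpowers_le]
    apply Coprime.mem_normalizer_of_conj_smul_eq
    have h1 : MulAut.conj x • Y ≤ Z := by
      have h2 := Coprime.conj_smul_eq_of_mem_normalizer (hZx (mem_zpowers x))
      rw [← h2]
      exact pointwise_smul_le_pointwise_smul_iff.mpr hYZ
    have h3 := card_conj_smul x Y
    exact le_antisymm (Cyc.le_of_card_dvd_of_le hZcyc h1 hYZ (h3 ▸ dvd_rfl))
      (Cyc.le_of_card_dvd_of_le hZcyc hYZ h1 (h3 ▸ dvd_rfl))
  have hcard : Nat.card (Y ⊔ zpowers x : Subgroup G) = r * q := by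
    rw [card_sup_of_inf_eq_bot hYx, hYc, hXc]
    apply disjoint_iff.mp
    apply disjoint_of_coprime_natCard
    rw [hYc, hXc]
    exact (Nat.coprime_primes hr hq).mpr hqr.symm
  have hle : Y ⊔ zpowers x ≤ Z ⊔ zpowers x := sup_le_sup_right hYZ _
  have hcyc := Cfsg.Agent.S0041.result (Y ⊔ zpowers x) V hV0 (hle.trans hVB)
    (fun b hb hb1 => hVf b (hle hb) hb1) (Or.inr ⟨r, q, hr, hq, hcard⟩)
  have hcomm := Cyc.isMulCommutative_of_isCyclic hcyc
  rw [Nilp.isMulCommutative_iff_forall] at hcomm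
  have hY0 : Y ≠ ⊥ := by
    intro h
    rw [h, card_bot] at hYc
    exact hr.one_lt.ne hYc
  obtain ⟨⟨y, hy⟩, hy0⟩ := Subgroup.ne_bot_iff_exists_ne_one.mp hY0
  have hy1 : y ≠ 1 := fun h => hy0 (Subtype.ext h)
  have h1 : (y : G) ∈ M ⊓ centralizer {x} := by
    refine mem_inf.mpr ⟨hZM (hYZ hy), ?_⟩
    rw [mem_centralizer_singleton_iff]
    exact hcomm _ (mem_sup_left hy) _ (mem_sup_right (mem_zpowers x))
  rw [hxf, mem_bot] at h1
  exact hy1 h1

/-- no Frobenius complement contains a proper nontrivial Frobenius complement -/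
theorem eq_of_le [Finite G] {H K : Subgroup G} (hH : TI H) (hHt : H ≠ ⊤) (hK : TI K)
    (hK0 : K ≠ ⊥) (hKH : K ≤ H) : K = H := by
  by_contra hne
  obtain ⟨N, hNk, hNn, hNc⟩ := CharFrobThm.frobenius hH
  have hN0 : N ≠ ⊥ := by
    rintro rfl
    have := hNc.sup_eq_top
    rw [bot_sup_eq] at this
    exact hHt this
  have hcop : (Nat.card H).Coprime (Nat.card N) := by
    rw [← hNc.index_eq_card]; exact card_coprime_index hH
  have hinf : N ⊓ H = ⊥ := hNc.disjoint.eq_bot
  have hfpf : ∀ h ∈ H, h ≠ 1 → N ⊓ centralizer {h} = ⊥ := by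
    intro h hh hh1
    rw [eq_bot_iff, ← hinf]
    intro y hy
    obtain ⟨hyN, hyc⟩ := mem_inf.mp hy
    rw [mem_centralizer_singleton_iff] at hyc
    refine mem_inf.mpr ⟨hyN, ?_⟩
    have := hH.mem_of_commute (g := 1) hh1 (by simpa using hh) (y := y) (by first | exact hyc | exact hyc.symm)
    simpa using this
  -- K as a subgroup of H
  have hK' : TI (K.subgroupOf H) := by
    have := hK.subgroupOf 1 H
    simpa using this
  obtain ⟨M, hMk, hMn, hMc⟩ := CharFrobThm.frobenius hK'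
  have hM0 : M ≠ ⊥ := by
    rintro rfl
    have := hMc.sup_eq_top
    rw [bot_sup_eq] at this
    exact hne (le_antisymm hKH (subgroupOf_eq_top.mp this))
  have hMcop : (Nat.card (K.subgroupOf H)).Coprime (Nat.card M) := by
    rw [← hMc.index_eq_card]; exact card_coprime_index hK'
  rw [Nat.card_congr (subgroupOfEquivOfLe hKH).toEquiv] at hMcop
  obtain ⟨q, hq, hqK⟩ := Nat.exists_prime_and_dvd (fun h => hK0 (card_eq_one.mp h) : Nat.card K ≠ 1)
  have : Fact q.Prime := ⟨hq⟩
  obtain ⟨⟨x, hxK⟩, hx⟩ := exists_prime_orderOf_dvd_card' q hqK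
  rw [orderOf_mk] at hx
  have hx1 : x ≠ 1 := by
    rintro rfl
    rw [orderOf_one] at hx
    exact hq.one_lt.ne hx
  have hMinf : M ⊓ K.subgroupOf H = ⊥ := hMc.disjoint.eq_bot
  refine no_fpf_in_fpf (M := M.map H.subtype) (x := x) (by rw [normalizer_eq_top_iff.mpr hNn]; exact le_top) hcop hN0 hfpf
    (map_subtype_le _) (fun h => hM0 ((Subgroup.map_eq_bot_iff_of_injective _ H.subtype_injective).mp h))
    (hKH hxK) hq hx ?_ ?_ ?_
  · exact le_normalizer_map_subtype M (hKH hxK)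
  · rw [card_map_of_injective H.subtype_injective]
    intro hd
    exact hq.one_lt.ne' (Nat.dvd_one.mp (hMcop ▸ Nat.dvd_gcd hqK hd))
  · rw [eq_bot_iff]
    intro y hy
    obtain ⟨hyM, hyc⟩ := mem_inf.mp hy
    rw [mem_centralizer_singleton_iff] at hyc
    have h1 : y ∈ K := by
      have := hK.mem_of_commute (g := 1) hx1 (by simpa using hxK) (y := y) (by first | exact hyc | exact hyc.symm)
      simpa using this
    obtain ⟨m, hm, rfl⟩ := hyM
    have h2 : m ∈ M ⊓ K.subgroupOf H := mem_inf.mpr ⟨hm, h1⟩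
    rw [hMinf, mem_bot] at h2
    rw [h2, map_one]; exact one_mem _

end Cfsg.Agent.Lib.FrobB
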