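import Mathlib
import Cfsg.Prelude.Def_Solvable
import Cfsg.Agent.Lib.Basic
import Cfsg.Agent.Lib.SchurZas
import Cfsg.Agent.Lib.ClassSizes
import Cfsg.Agent.H3.Count

/-!
# Frobenius complements: elementary facts (helper3)

No character theory here: the kernel is assumed to be a subgroup where needed.
-/

set_option autoImplicit false

namespace Cfsg.Agent.Lib.FrobGrp

open Subgroup Cfsg Cfsg.Agent.Lib.Basic Cfsg.Agent.Lib.ClassSizes Cfsg.Agent.H3.Count
open scoped Pointwise

variable {G : Type*} [Group G]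

theorem mem_conj_smul {H : Subgroup G} {g x : G} :
    x ∈ MulAut.conj g • H ↔ g⁻¹ * x * g ∈ H := by
  rw [Subgroup.mem_pointwise_smul_iff_inv_smul_mem]
  have : (MulAut.conj g)⁻¹ • x = g⁻¹ * x * g := by
    rw [← map_inv, MulAut.smul_def, MulAut.conj_apply, inv_inv]
  rw [this]

theorem mem_of_conj_mem {H : Subgroup G} (hH : IsFrobeniusComplement H) {x g : G} (hx : x ∈ H)
    (hx1 : x ≠ 1) (h : g⁻¹ * x * g ∈ H) : g ∈ H := by
  by_contra hg
  have h1 := hH.2.2 g hg
  have h2 : x ∈ H ⊓ (MulAut.conj g • H) := ⟨hx, mem_conj_smul.2 h⟩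
  rw [h1, mem_bot] at h2
  exact hx1 h2

theorem mem_of_commute {H : Subgroup G} (hH : IsFrobeniusComplement H) {x g : G} (hx : x ∈ H)
    (hx1 : x ≠ 1) (h : g * x = x * g) : g ∈ H := by
  refine mem_of_conj_mem hH hx hx1 ?_
  have : g⁻¹ * x * g = x := by rw [mul_assoc, ← h]; group
  rw [this]; exact hx

theorem centralizer_le {H : Subgroup G} (hH : IsFrobeniusComplement H) {x : G} (hx : x ∈ H)
    (hx1 : x ≠ 1) : centralizer ({x} : Set G) ≤ H := fun _ hg =>
  mem_of_commute hH hx hx1 (mem_centralizer_singleton.1 hg)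

theorem card_dvd_of_free {H X : Type*} [Group H] [Finite H] [MulAction H X] [Finite X]
    (h : ∀ x : X, MulAction.stabilizer H x = ⊥) : Nat.card H ∣ Nat.card X := by
  classical
  haveI := Fintype.ofFinite (MulAction.orbitRel.Quotient H X)
  rw [Nat.card_congr (MulAction.selfEquivSigmaOrbitsQuotientStabilizer H X), Nat.card_sigma]
  refine Finset.dvd_sum fun ω _ => ?_
  rw [h, Nat.card_congr (QuotientGroup.quotientBot (G := H)).toEquiv]

theorem mem_frobeniusKernel {H : Subgroup G} {x : G} :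
    x ∈ frobeniusKernel H ↔ x = 1 ∨ ∀ g : G, g⁻¹ * x * g ∉ H := by
  unfold frobeniusKernel
  simp only [Set.mem_ofPred_eq, mem_conj_smul]

theorem frobeniusKernel_conj {H : Subgroup G} {x : G} (hx : x ∈ frobeniusKernel H) (g : G) :
    g * x * g⁻¹ ∈ frobeniusKernel H := by
  rw [mem_frobeniusKernel] at hx ⊢
  rcases hx with rfl | hx
  · left; group
  · right
    intro k hk
    apply hx (g⁻¹ * k)
    have : (g⁻¹ * k)⁻¹ * x * (g⁻¹ * k) = k⁻¹ * (g * x * g⁻¹) * k := by group
    rw [this]; exact hk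

/-- The number of elements of the kernel is the index of the complement. -/
theorem card_frobeniusKernel [Finite G] {H : Subgroup G} (hH : IsFrobeniusComplement H) :
    Nat.card (frobeniusKernel H) = H.index := by
  classical
  -- nonidentity elements of conjugates of `H`
  let U := {y : G // y ≠ 1 ∧ ∃ g : G, g⁻¹ * y * g ∈ H}
  let f : G × {h : H // h ≠ 1} → U := fun z => ⟨z.1 * (z.2.1 : G) * z.1⁻¹, by
    constructor
    · intro h
      apply z.2.2
      apply Subtype.ext
      have : (z.2.1 : G) = z.1⁻¹ * (z.1 * (z.2.1 : G) * z.1⁻¹) * z.1 := by group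
      rw [this, h]; simp
    · refine ⟨z.1, ?_⟩
      have : z.1⁻¹ * (z.1 * (z.2.1 : G) * z.1⁻¹) * z.1 = z.2.1 := by group
      rw [this]; exact z.2.1.2⟩
  have hfib : ∀ y, Nat.card {z // f z = y} = Nat.card H := by
    rintro ⟨y, hy1, g, hg⟩
    refine Nat.card_congr
      { toFun := fun z => ⟨g⁻¹ * z.1.1, ?_⟩
        invFun := fun k => ⟨(g * k, ⟨⟨(k : G)⁻¹ * (g⁻¹ * y * g) * k, H.mul_mem (H.mul_mem (H.inv_mem k.2) hg) k.2⟩, ?_⟩), ?_⟩
        left_inv := ?_
        right_inv := ?_ }
    · have h1 : z.1.1 * (z.1.2.1 : G) * z.1.1⁻¹ = y := congrArg Subtype.val z.2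
      have h2 : g⁻¹ * y * g ≠ 1 := by
        intro h
        apply hy1
        have : y = g * (g⁻¹ * y * g) * g⁻¹ := by group
        rw [this, h]; group
      refine mem_of_conj_mem hH hg h2 ?_
      have h3 : (g⁻¹ * z.1.1)⁻¹ * (g⁻¹ * y * g) * (g⁻¹ * z.1.1) = z.1.2.1 := by
        have e1 : (g⁻¹ * z.1.1)⁻¹ * (g⁻¹ * y * g) * (g⁻¹ * z.1.1) = z.1.1⁻¹ * y * z.1.1 := by group
        have e2 : z.1.1⁻¹ * (z.1.1 * (z.1.2.1 : G) * z.1.1⁻¹) * z.1.1 = z.1.2.1 := by group
        rw [e1, ← e2, h1]
      rw [h3]; exact z.1.2.1.2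
    · intro h
      apply hy1
      have h1 : (k : G)⁻¹ * (g⁻¹ * y * g) * k = 1 := congrArg Subtype.val h
      have : y = g * k * ((k : G)⁻¹ * (g⁻¹ * y * g) * k) * (g * k)⁻¹ := by group
      rw [this, h1]; group
    · apply Subtype.ext
      change g * k * ((k : G)⁻¹ * (g⁻¹ * y * g) * k) * (g * k)⁻¹ = y
      group
    · rintro ⟨⟨a, ⟨b, hb⟩⟩, hz⟩
      have h1 : a * (b : G) * a⁻¹ = y := congrArg Subtype.val hz
      apply Subtype.ext
      refine Prod.ext ?_ (Subtype.ext (Subtype.ext ?_))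
      · change g * (g⁻¹ * a) = a
        group
      · change (g⁻¹ * a)⁻¹ * (g⁻¹ * y * g) * (g⁻¹ * a) = b
        have e1 : (g⁻¹ * a)⁻¹ * (g⁻¹ * y * g) * (g⁻¹ * a) = a⁻¹ * y * a := by group
        have e2 : a⁻¹ * (a * (b : G) * a⁻¹) * a = b := by group
        rw [e1, ← e2, h1]
    · intro k
      apply Subtype.ext
      change g⁻¹ * (g * k) = k
      group
  have h1 := card_eq_mul_of_fiber_eq f _ hfib
  rw [Nat.card_prod] at h1
  have hH1 : Nat.card {h : H // h ≠ 1} + 1 = Nat.card H := by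
    have e : Nat.card H = Nat.card {h : H // h = 1} + Nat.card {h : H // ¬ h = 1} := by
      rw [← Nat.card_sum]
      exact Nat.card_congr (Equiv.sumCompl (fun h : H => h = 1)).symm
    have e1 : Nat.card {h : H // h = 1} = 1 := Nat.card_unique
    rw [e, e1, add_comm]
  have hG : Nat.card G = Nat.card (frobeniusKernel H) + Nat.card U := by
    have e : Nat.card G = Nat.card {y : G // y ∈ frobeniusKernel H} +
        Nat.card {y : G // ¬ y ∈ frobeniusKernel H} := by
      rw [← Nat.card_sum]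
      exact Nat.card_congr (Equiv.sumCompl (fun y : G => y ∈ frobeniusKernel H)).symm
    rw [e]
    congr 1
    refine Nat.card_congr (Equiv.subtypeEquivRight fun y => ?_)
    rw [mem_frobeniusKernel]
    push Not
    rfl
  have h2 := H.card_mul_index
  have hpos : 0 < Nat.card H := Nat.card_pos
  -- |U| |H| = |G| (|H|-1) = |H| * index * (|H| - 1)
  have h3 : Nat.card U = H.index * Nat.card {h : H // h ≠ 1} := by
    apply Nat.eq_of_mul_eq_mul_right hpos
    rw [← h1, ← h2]; ring
  rw [← h2, ← hH1, h3] at hG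
  have h4 : (Nat.card {h : H // h ≠ 1} + 1) * H.index = H.index * Nat.card {h : H // h ≠ 1} + H.index := by
    ring
  rw [h4] at hG
  omega

section kernel

variable {H K : Subgroup G}

theorem kernel_normal (hK : frobeniusKernel H = (K : Set G)) : K.Normal := ⟨fun n hn g => by
  rw [← SetLike.mem_coe, ← hK] at hn ⊢
  exact frobeniusKernel_conj hn g⟩

theorem kernel_inf (hK : frobeniusKernel H = (K : Set G)) : K ⊓ H = ⊥ := by
  rw [eq_bot_iff]
  rintro x ⟨hx, hxH⟩
  have hx' : x ∈ (K : Set G) := hx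
  rw [← hK, mem_frobeniusKernel] at hx'
  rcases hx' with rfl | hx
  · exact mem_bot.2 rfl
  · exfalso
    apply hx 1
    simpa using hxH

theorem kernel_card [Finite G] (hH : IsFrobeniusComplement H)
    (hK : frobeniusKernel H = (K : Set G)) : Nat.card K = H.index := by
  rw [← card_frobeniusKernel hH, hK]; rfl

theorem kernel_isComplement' [Finite G] (hH : IsFrobeniusComplement H)
    (hK : frobeniusKernel H = (K : Set G)) : K.IsComplement' H := by
  have hn := kernel_normal hK
  refine isComplement'_of_card_mul_and_disjoint ?_ (disjoint_iff.2 (kernel_inf hK))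
  rw [kernel_card hH hK, mul_comm, H.card_mul_index]

/-- kernel elements do not commute with nontrivial elements of the complement. -/
theorem kernel_not_commute (hH : IsFrobeniusComplement H)
    (hK : frobeniusKernel H = (K : Set G)) {h k : G} (hh : h ∈ H) (h1 : h ≠ 1) (hk : k ∈ K)
    (hc : k * h = h * k) : k = 1 := by
  have h2 := mem_of_commute hH hh h1 hc
  have h3 : k ∈ K ⊓ H := ⟨hk, h2⟩
  rwa [kernel_inf hK, mem_bot] at h3

theorem kernel_card_modEq [Finite G] (hH : IsFrobeniusComplement H)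
    (hK : frobeniusKernel H = (K : Set G)) : Nat.card H ∣ Nat.card K - 1 := by
  classical
  have hn := kernel_normal hK
  -- H acts freely on the nonidentity elements of `K`
  let act : MulAction H {k : K // k ≠ 1} :=
    { smul := fun h k => ⟨⟨(h : G) * (k.1 : G) * (h : G)⁻¹, hn.conj_mem _ k.1.2 _⟩, fun e => k.2 (by
        have h1 : (h : G) * (k.1 : G) * (h : G)⁻¹ = 1 := congrArg Subtype.val e
        apply Subtype.ext
        have : (k.1 : G) = (h : G)⁻¹ * ((h : G) * (k.1 : G) * (h : G)⁻¹) * h := by group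
        rw [this, h1]; simp)⟩
      one_smul := fun k => Subtype.ext (Subtype.ext (by
        change ((1 : H) : G) * (k.1 : G) * ((1 : H) : G)⁻¹ = k.1
        simp))
      mul_smul := fun a b k => Subtype.ext (Subtype.ext (by
        change ((a * b : H) : G) * (k.1 : G) * ((a * b : H) : G)⁻¹ = (a : G) * ((b : G) * k.1 * (b : G)⁻¹) * (a : G)⁻¹
        rw [Subgroup.coe_mul]; group)) }
  have h1 : Nat.card H ∣ Nat.card {k : K // k ≠ 1} := by
    refine card_dvd_of_free fun k => ?_
    rw [eq_bot_iff]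
    intro h hh
    rw [mem_bot]
    by_contra hne
    have h2 : (h : G) * (k.1 : G) * (h : G)⁻¹ = k.1 :=
      congrArg (fun z : {k : K // k ≠ 1} => ((z.1 : K) : G)) hh
    have h3 : (k.1 : G) = 1 := by
      refine kernel_not_commute hH hK h.2 (fun e => hne (Subtype.ext e)) k.1.2 ?_
      rw [mul_inv_eq_iff_eq_mul] at h2
      exact h2.symm
    exact k.2 (Subtype.ext h3)
  have h2 : Nat.card {k : K // k ≠ 1} = Nat.card K - 1 := by
    have e : Nat.card K = Nat.card {h : K // h = 1} + Nat.card {h : K // ¬ h = 1} := by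
      rw [← Nat.card_sum]
      exact Nat.card_congr (Equiv.sumCompl (fun h : K => h = 1)).symm
    have e1 : Nat.card {h : K // h = 1} = 1 := Nat.card_unique
    rw [e, e1, Nat.add_sub_cancel_left]
  rwa [h2] at h1

theorem kernel_coprime [Finite G] (hH : IsFrobeniusComplement H)
    (hK : frobeniusKernel H = (K : Set G)) : (Nat.card K).Coprime (Nat.card H) := by
  have h1 := kernel_card_modEq hH hK
  have hpos : 0 < Nat.card K := Nat.card_pos
  rw [Nat.coprime_iff_gcd_eq_one]
  have h2 : Nat.gcd (Nat.card K) (Nat.card H) ∣ Nat.card K - 1 := (Nat.gcd_dvd_right _ _).trans h1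
  have h3 : Nat.gcd (Nat.card K) (Nat.card H) ∣ Nat.card K := Nat.gcd_dvd_left _ _
  have h4 := (Nat.dvd_sub h3 h2)
  have h5 : Nat.card K - (Nat.card K - 1) = 1 := by omega
  rw [h5] at h4
  exact Nat.dvd_one.1 h4

theorem kernel_ne_bot [Finite G] (hH : IsFrobeniusComplement H)
    (hK : frobeniusKernel H = (K : Set G)) : K ≠ ⊥ := by
  intro hb
  have h1 := kernel_card hH hK
  rw [hb, card_bot, eq_comm, index_eq_one] at h1
  exact hH.2.1 h1

end kernel

/-- Frobenius criterion: a complement of a normal subgroup acting without fixed points. -/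
theorem frobenius_of_complement [Finite G] {N H : Subgroup G} [hN : N.Normal] (hinf : N ⊓ H = ⊥)
    (hsup : N ⊔ H = ⊤) (hNb : N ≠ ⊥) (hHb : H ≠ ⊥)
    (hfree : ∀ h ∈ H, h ≠ 1 → ∀ n ∈ N, n * h = h * n → n = 1) :
    IsFrobeniusComplement H ∧ frobeniusKernel H = (N : Set G) := by
  have hdec : ∀ g : G, ∃ n ∈ N, ∃ h ∈ H, g = n * h := by
    intro g
    have : g ∈ N ⊔ H := by rw [hsup]; trivial
    obtain ⟨n, hn, h, hh, e⟩ := (mem_sup_of_normal_left).1 this
    exact ⟨n, hn, h, hh, e.symm⟩
  have hint : ∀ x, x ∈ N → x ∈ H → x = 1 := by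
    intro x h1 h2
    have : x ∈ N ⊓ H := ⟨h1, h2⟩
    rwa [hinf, mem_bot] at this
  have hHt : H ≠ ⊤ := by
    rintro rfl
    apply hNb
    rwa [inf_top_eq] at hinf
  refine ⟨⟨hHb, hHt, ?_⟩, ?_⟩
  · intro g hg
    rw [eq_bot_iff]
    rintro x ⟨hx, hx'⟩
    have hx' : x ∈ MulAut.conj g • H := hx'
    rw [mem_conj_smul] at hx'
    rw [mem_bot]
    by_contra hx1
    obtain ⟨n, hn, h, hh, rfl⟩ := hdec g
    have hn1 : n ≠ 1 := by
      rintro rfl
      apply hg; simpa using hh
    -- y = n⁻¹ x n ∈ H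
    have hy : n⁻¹ * x * n ∈ H := by
      have e : n⁻¹ * x * n = h * ((n * h)⁻¹ * x * (n * h)) * h⁻¹ := by group
      rw [e]
      exact H.mul_mem (H.mul_mem hh hx') (H.inv_mem hh)
    have h1 : x⁻¹ * (n⁻¹ * x * n) = 1 := by
      apply hint
      · have e : x⁻¹ * (n⁻¹ * x * n) = (x⁻¹ * n⁻¹ * x⁻¹⁻¹) * n := by group
        rw [e]
        exact N.mul_mem (hN.conj_mem _ (N.inv_mem hn) _) hn
      · exact H.mul_mem (H.inv_mem hx) hy
    have h2 : n * x = x * n := by
      rw [inv_mul_eq_one] at h1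
      calc n * x = n * (n⁻¹ * x * n) := by rw [← h1]
        _ = x * n := by group
    exact hn1 (hfree x hx hx1 n hn h2)
  · ext x
    rw [mem_frobeniusKernel, SetLike.mem_coe]
    constructor
    · rintro (rfl | hx)
      · exact N.one_mem
      · by_contra hxN
        obtain ⟨n, hn, h, hh, rfl⟩ := hdec x
        have h1 : h ≠ 1 := by
          rintro rfl
          apply hxN; simpa using hn
        have hm : h⁻¹ * n * h ∈ N := by
          have := hN.conj_mem n hn h⁻¹
          rwa [inv_inv] at this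
        obtain ⟨u, hu, hue⟩ := exists_conj_of_coset N h (fun u hu hc => hfree h hh h1 u hu hc) hm
        apply hx u
        have e : u⁻¹ * (n * h) * u = h := by
          have e2 : n * h = h * (h⁻¹ * n * h) := by group
          rw [e2, ← hue]; group
        rw [e]; exact hh
    · intro hx
      by_cases hx1 : x = 1
      · exact Or.inl hx1
      · right
        intro g hg
        have h1 : g⁻¹ * x * g ∈ N := by
          have := hN.conj_mem x hx g⁻¹
          rwa [inv_inv] at this
        have h2 := hint _ h1 hg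
        apply hx1
        have e : x = g * (g⁻¹ * x * g) * g⁻¹ := by group
        rw [e, h2]; group

end Cfsg.Agent.Lib.FrobGrp
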