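import Mathlib
import Cfsg.Agent.Lib.PGrpB
import Cfsg.Agent.Lib.PGrpD

/-!
`p`-groups, `p` odd: normal elementary abelian subgroups; Omega_1 of metacyclic groups.
-/

set_option autoImplicit false

namespace Cfsg.Agent.Lib.PGrpE

open Subgroup Cfsg.Agent.Lib.Basic Cfsg.Agent.Lib.PGrpA Cfsg.Agent.Lib.PGrpC
open scoped commutatorElement Pointwise

variable {G : Type*} [Group G]

/-- A maximal normal elementary abelian subgroup inside a normal subgroup `S`. -/
theorem exists_max_normal_elementary [Finite G] (p : ℕ) [hp : Fact p.Prime] (hG : IsPGroup p G)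
    (h2 : p ≠ 2) (S : Subgroup G) [hS : S.Normal] :
    ∃ A : Subgroup G, A.Normal ∧ A ≤ S ∧ (∀ x ∈ A, ∀ y ∈ A, x * y = y * x) ∧ (∀ a ∈ A, a ^ p = 1) ∧
      (∀ x ∈ S, (∀ a ∈ A, a * x = x * a) → x ^ p = 1 → x ∈ A) := by
  obtain ⟨A, ⟨h1, h3, h4, h5⟩, hmax⟩ := Set.exists_max_image {A : Subgroup G | A.Normal ∧ A ≤ S ∧
    (∀ x ∈ A, ∀ y ∈ A, x * y = y * x) ∧ (∀ a ∈ A, a ^ p = 1)}
    (fun A => Nat.card A) (Set.toFinite _) ⟨⊥, inferInstance, bot_le, by
      intro x hx y hy
      rw [mem_bot.mp hx, mem_bot.mp hy], by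
      intro x hx
      rw [mem_bot.mp hx, one_pow]⟩
  refine ⟨A, h1, h3, h4, h5, fun x hxS hx hxp => ?_⟩
  exact maximal_normal_abelian hG (n := 1) one_ne_zero (by rwa [pow_one]) h3 h4
    (by simpa using h5)
    (fun B hB1 hB2 hB3 hB4 hAB => (eq_of_le_of_card_ge hAB (hmax B ⟨hB1, hB2, hB3, by simpa using hB4⟩)).symm)
    hxS hx (by simpa using hxp)

theorem exists_normal_rank_two [Finite G] {p : ℕ} [hp : Fact p.Prime] (h2 : p ≠ 2)
    (hG : IsPGroup p G) (S : Subgroup G) [hS : S.Normal] (hnc : ¬ IsCyclic S) :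
    ∃ A : Subgroup G, A ≤ S ∧ A.Normal ∧ Cfsg.IsElementaryAbelian p A ∧ Nat.card A = p ^ 2 := by
  obtain ⟨A, hAn, hAS, hAc, hAe, hA⟩ := exists_max_normal_elementary p hG h2 S
  by_cases hc : p ^ 2 ≤ Nat.card A
  · obtain ⟨C, hC, -, hCA, hcC⟩ := exists_normal_card hG (bot_le : (⊥ : Subgroup G) ≤ A) 2 (by
      rw [card_bot, one_mul]; exact hc)
    rw [card_bot, one_mul] at hcC
    refine ⟨C, hCA.trans hAS, hC, ⟨?_, fun a ha => hAe a (hCA ha)⟩, hcC⟩
    rw [Nilp.isMulCommutative_iff_forall]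
    exact fun x hx y hy => hAc x (hCA hx) y (hCA hy)
  · exfalso
    push Not at hc
    apply hnc
    obtain ⟨n, hn⟩ := IsPGroup.iff_card.mp (hG.to_subgroup A)
    have hn2 : n < 2 := by
      by_contra h
      push Not at h
      rw [hn] at hc
      exact absurd (Nat.pow_le_pow_right hp.out.pos h) (not_le.mpr hc)
    have hcen : A ≤ center G := by
      have : n = 0 ∨ n = 1 := by omega
      rcases this with rfl | rfl
      · rw [pow_zero, card_eq_one] at hn
        rw [hn]; exact bot_le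
      · exact le_center_of_card_eq_prime hG (by rw [hn, pow_one])
    have hin : ∀ x ∈ S, x ^ p = 1 → x ∈ A := fun x hx hxp =>
      hA x hx (fun a ha => (mem_center_iff.mp (hcen ha) x).symm) hxp
    apply isCyclic_of_unique h2 (hG.to_subgroup S)
    intro x y hx hy
    have hxA : (x : G) ∈ A := hin x x.2 (by rw [← hx, ← orderOf_coe]; exact pow_orderOf_eq_one _)
    have hyA : (y : G) ∈ A := hin y y.2 (by rw [← hy, ← orderOf_coe]; exact pow_orderOf_eq_one _)
    have h3 : zpowers (y : G) = A := by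
      apply eq_of_le_of_card_ge (zpowers_le.mpr hyA)
      rw [Nat.card_zpowers, orderOf_coe, hy, hn]
      calc p ^ n ≤ p ^ 1 := Nat.pow_le_pow_right hp.out.pos (by omega)
        _ = p := pow_one p
    rw [← h3] at hxA
    obtain ⟨k, hk⟩ := mem_zpowers_iff.mp hxA
    exact mem_zpowers_iff.mpr ⟨k, Subtype.ext (by push_cast; exact hk)⟩

theorem card_le_sq_of_no_rank_three [Finite G] {p : ℕ} [hp : Fact p.Prime] (h2 : p ≠ 2)
    (hG : IsPGroup p G)
    (h : ∀ A : Subgroup G, A.Normal → IsMulCommutative A → (∀ a ∈ A, a ^ p = 1) → Nat.card A ≠ p ^ 3)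
    (E : Subgroup G) (hE : IsMulCommutative E) (hEe : ∀ e ∈ E, e ^ p = 1) : Nat.card E ≤ p ^ 2 := by
  obtain ⟨A, hAn, -, hAc, hAe, hA⟩ := exists_max_normal_elementary p hG h2 ⊤
  obtain ⟨n, hn⟩ := IsPGroup.iff_card.mp (hG.to_subgroup A)
  have hn2 : n ≤ 2 := by
    by_contra hcon
    push Not at hcon
    obtain ⟨C, hC, -, hCA, hcC⟩ := exists_normal_card hG (bot_le : (⊥ : Subgroup G) ≤ A) 3 (by
      rw [card_bot, one_mul, hn]; exact Nat.pow_le_pow_right hp.out.pos hcon)
    rw [card_bot, one_mul] at hcC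
    refine h C hC ?_ (fun a ha => hAe a (hCA ha)) hcC
    rw [Nilp.isMulCommutative_iff_forall]
    exact fun x hx y hy => hAc x (hCA hx) y (hCA hy)
  have hEC : E ⊓ centralizer (A : Set G) ≤ A := by
    intro x hx
    obtain ⟨h1, h3⟩ := mem_inf.mp hx
    exact hA x (mem_top x) (fun a ha => mem_centralizer_iff.mp h3 a ha) (hEe x h1)
  have hidx := PGrpB.index_centralizer_le hG n A hAn hn
  have h1 : Nat.card E ≤ Nat.card (E ⊓ centralizer (A : Set G) : Subgroup G) * (centralizer (A : Set G)).index := by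
    have h3 := relIndex_mul_card (H := E ⊓ centralizer (A : Set G)) (K := E) inf_le_left
    rw [inf_relIndex_left] at h3
    rw [← h3, mul_comm]
    apply Nat.mul_le_mul_left
    have h4 : (centralizer (A : Set G)).relIndex E ≤ (centralizer (A : Set G)).index := by
      have : (centralizer (A : Set G)).Normal := inferInstance
      exact Nat.le_of_dvd (Nat.pos_of_ne_zero index_ne_zero_of_finite) (relIndex_dvd_index_of_normal _ _)
    exact h4
  by_cases hA2 : Nat.card (E ⊓ centralizer (A : Set G) : Subgroup G) = Nat.card A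
  · have h3 : E ⊓ centralizer (A : Set G) = A := eq_of_le_of_card_ge hEC hA2.ge
    have h4 : A ≤ E := h3 ▸ inf_le_left
    have h5 : E ≤ centralizer (A : Set G) := by
      intro x hx
      rw [mem_centralizer_iff]
      intro y hy
      exact Nilp.isMulCommutative_iff_forall.mp hE y (h4 hy) x hx
    have h6 : E ≤ A := by
      rw [inf_eq_left.mpr h5] at h3
      exact h3.le
    calc Nat.card E ≤ Nat.card A := card_le_of_le h6
      _ = p ^ n := hn
      _ ≤ _ := Nat.pow_le_pow_right hp.out.pos hn2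
  · -- then |E ∩ C(A)| ≤ p^(n-1)
    obtain ⟨k, hk⟩ := IsPGroup.iff_card.mp (hG.to_subgroup (E ⊓ centralizer (A : Set G)))
    have hkn : k < n := by
      have h3 := card_le_of_le hEC
      have h4 : Nat.card (E ⊓ centralizer (A : Set G) : Subgroup G) < Nat.card A := lt_of_le_of_ne h3 hA2
      rw [hk, hn] at h4
      exact (Nat.pow_lt_pow_iff_right hp.out.one_lt).mp h4
    rw [hk] at h1
    calc Nat.card E ≤ p ^ k * p ^ (n * (n - 1) / 2) := h1.trans (Nat.mul_le_mul_left _ hidx)
      _ = p ^ (k + n * (n - 1) / 2) := by rw [pow_add]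
      _ ≤ _ := by
        apply Nat.pow_le_pow_right hp.out.pos
        have : n = 0 ∨ n = 1 ∨ n = 2 := by omega
        rcases this with rfl | rfl | rfl <;> simp <;> omega

/-- In a metacyclic `p`-group, subgroups of exponent `p` have order at most `p²`. -/
theorem card_le_of_metacyclic [Finite G] {p : ℕ} [hp : Fact p.Prime] {N : Subgroup G} [hN : N.Normal]
    (h1 : IsCyclic N) (h2 : IsCyclic (G ⧸ N)) (H : Subgroup G) (hH : ∀ x ∈ H, x ^ p = 1) :
    Nat.card H ≤ p ^ 2 := by
  have hcyc : ∀ (C : Type _) [Group C] [Finite C], IsCyclic C → (∀ x : C, x ^ p = 1) → Nat.card C ≤ p := by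
    intro C _ _ hC hx
    obtain ⟨g, hg⟩ := hC.exists_generator
    rw [← orderOf_eq_card_of_forall_mem_zpowers hg]
    exact orderOf_le_of_pow_eq_one hp.out.pos (hx g)
  have h3 : Nat.card (N.subgroupOf H) ≤ p := by
    have h4 : Nat.card (N ⊓ H : Subgroup G) ≤ p := by
      have : IsCyclic ((N ⊓ H).subgroupOf N) := inferInstance
      have h5 : IsCyclic (N ⊓ H : Subgroup G) :=
        isCyclic_of_surjective (subgroupOfEquivOfLe (inf_le_left : N ⊓ H ≤ N)) (MulEquiv.surjective _)
      exact hcyc _ h5 (fun x => Subtype.ext (hH x (mem_inf.mp x.2).2))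
    rw [← subgroupOf_map_subtype, card_map_of_injective H.subtype_injective] at h4
    exact h4
  have h4 : (N.subgroupOf H).index ≤ p := by
    rw [index_eq_card]
    have hn : (N.subgroupOf H).Normal := inferInstance
    let f : H →* G ⧸ N := (QuotientGroup.mk' N).comp H.subtype
    have hker : f.ker = N.subgroupOf H := by
      ext x
      rw [MonoidHom.mem_ker, mem_subgroupOf]
      exact QuotientGroup.eq_one_iff (x : G)
    have h5 : IsCyclic f.range := inferInstance
    have h6 : Nat.card f.range ≤ p := by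
      apply hcyc _ h5
      rintro ⟨_, x, rfl⟩
      apply Subtype.ext
      show (f x) ^ p = 1
      rw [← map_pow]
      have : x ^ p = 1 := Subtype.ext (hH x x.2)
      rw [this, map_one]
    rw [← index_eq_card, ← hker, index_ker]
    exact h6
  rw [← (N.subgroupOf H).card_mul_index, sq]
  exact Nat.mul_le_mul h3 h4

end Cfsg.Agent.Lib.PGrpE
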