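import Mathlib
import Cfsg.Agent.Lib.PGrpE

/-!
`p`-groups: consequences of the classification of groups with a cyclic subgroup of index `p`.
-/

set_option autoImplicit false

namespace Cfsg.Agent.Lib.PGrpF

open Subgroup Cfsg.Agent.Lib.Basic Cfsg.Agent.Lib.PGrpA Cfsg.Agent.Lib.PGrpC
open scoped commutatorElement Pointwise

variable {G : Type*} [Group G]

/-- `p`-groups with at most one subgroup of order `p` -/
theorem unique_imp [Finite G] {p : ℕ} [hp : Fact p.Prime] (hG : IsPGroup p G)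
    (hu : ∀ x y : G, orderOf x = p → orderOf y = p → x ∈ zpowers y) :
    IsCyclic G ∨ (p = 2 ∧ ∃ n : ℕ, Nonempty (G ≃* QuaternionGroup (2 ^ n))) := by
  by_cases h2 : p = 2
  · subst h2
    have hu' : ∀ x y : G, orderOf x = 2 → orderOf y = 2 → x = y := by
      intro x y hx hy
      have h1 := hu x y hx hy
      obtain ⟨k, hk⟩ := mem_zpowers_iff.mp h1
      have hy2 : y ^ 2 = 1 := by rw [← hy]; exact pow_orderOf_eq_one y
      rcases Int.even_or_odd k with ⟨l, hl⟩ | ⟨l, hl⟩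
      · exfalso
        have : x = 1 := by
          rw [← hk, hl, ← two_mul, zpow_mul]
          have : y ^ (2 : ℤ) = 1 := by exact_mod_cast hy2
          rw [this, one_zpow]
        rw [this, orderOf_one] at hx
        norm_num at hx
      · rw [← hk, hl, zpow_add, zpow_mul, zpow_one]
        have : y ^ (2 : ℤ) = 1 := by exact_mod_cast hy2
        rw [this, one_zpow, one_mul]
    rcases PGrpD.cyclic_or_quaternion hG hu' with h | ⟨m, a, b, hm, ha, hb, h, hba, hc⟩
    · exact Or.inl h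
    · exact Or.inr ⟨rfl, m, PGrpD.quaternion_iso ha hb h hba hc⟩
  · exact Or.inl (isCyclic_of_unique h2 hG hu)

theorem eq_top_of_prime_index [Finite G] {p : ℕ} (hp : p.Prime) {C H : Subgroup G} (hC : C.index = p)
    (h : C < H) : H = ⊤ := by
  have h5 : C.relIndex H * H.index = p := by
    rw [relIndex_mul_index h.le, hC]
  have h6 : C.relIndex H ≠ 1 := fun h' => h.not_ge (relIndex_eq_one.mp h')
  have h7 := (Nat.prime_mul_iff.mp (h5 ▸ hp)).resolve_right (fun h => h6 h.2)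
  exact index_eq_one.mp h7.2

/-- if `b` outside `<a>` (of prime index) commutes with `a` then the group is abelian -/
theorem comm_of_index [Finite G] {p : ℕ} (hp : p.Prime) {a b : G} (hi : (zpowers a).index = p)
    (hb : b ∉ zpowers a) (h : b * a = a * b) (x y : G) : x * y = y * x := by
  have h1 : centralizer {a} = ⊤ := by
    apply eq_top_of_prime_index hp hi
    refine lt_of_le_of_ne (zpowers_le.mpr (mem_centralizer_singleton_iff.mpr rfl)) ?_
    intro he
    exact hb (he ▸ mem_centralizer_singleton_iff.mpr h)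
  have h2 : centralizer {b} = ⊤ := by
    apply eq_top_of_prime_index hp hi
    refine lt_of_le_of_ne (zpowers_le.mpr (mem_centralizer_singleton_iff.mpr h.symm)) ?_
    intro he
    exact hb (he ▸ mem_centralizer_singleton_iff.mpr rfl)
  have h3 : center G = ⊤ := by
    apply eq_top_of_prime_index hp hi
    have ha : a ∈ center G := mem_center_iff.mpr fun g => by
      have : g ∈ centralizer {a} := h1 ▸ mem_top g
      exact mem_centralizer_singleton_iff.mp this
    have hb' : b ∈ center G := mem_center_iff.mpr fun g => by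
      have : g ∈ centralizer {b} := h2 ▸ mem_top g
      exact mem_centralizer_singleton_iff.mp this
    refine lt_of_le_of_ne (zpowers_le.mpr ha) ?_
    intro he
    exact hb (he ▸ hb')
  have : y ∈ center G := h3 ▸ mem_top y
  exact mem_center_iff.mp this x

theorem exists_gen {C : Subgroup G} (hC : IsCyclic C) : ∃ a : G, zpowers a = C := by
  obtain ⟨⟨a, haC⟩, ha⟩ := hC.exists_generator
  refine ⟨a, le_antisymm (zpowers_le.mpr haC) ?_⟩
  intro x hx
  obtain ⟨k, hk⟩ := mem_zpowers_iff.mp (ha ⟨x, hx⟩)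
  exact mem_zpowers_iff.mpr ⟨k, by simpa using congrArg Subtype.val hk⟩

theorem odd_nonabelian [Finite G] {p : ℕ} [hp : Fact p.Prime] (h2 : p ≠ 2) {m : ℕ}
    (hG : Nat.card G = p ^ (m + 2)) {C : Subgroup G} (hC : IsCyclic C) (hCi : C.index = p)
    (hna : ∃ x y : G, x * y ≠ y * x) : ∃ a b : G, zpowers a = C ∧ orderOf a = p ^ (m + 1) ∧
      orderOf b = p ∧ b ∉ zpowers a ∧ b * a * b⁻¹ = a ^ (1 + p ^ m) := by
  obtain ⟨a, rfl⟩ := exists_gen hC
  have hGp : IsPGroup p G := IsPGroup.of_card hG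
  have hnc : ¬ IsCyclic G := by
    intro h
    obtain ⟨x, y, hxy⟩ := hna
    exact hxy ((Cyc.isMulCommutative_of_isCyclic h).is_comm.comm x y)
  obtain ⟨b, hb, hbo⟩ := odd_exists h2 hGp hCi hnc
  obtain ⟨m', hm', hGm, ⟨r, hr⟩, -⟩ := setting_aux hGp hCi hnc hb
  have hmm : m' = m := by
    rw [hG] at hGm
    have := Nat.pow_right_injective hp.out.two_le hGm
    omega
  subst hmm
  have hbp : b ^ p = 1 := by rw [← hbo]; exact pow_orderOf_eq_one b
  obtain ⟨⟨s, hs⟩, -, hcen, -⟩ := odd_pow h2 hm' hr (by rw [hbp, one_mul, mul_one])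
  have hsp : ¬ (p : ℤ) ∣ s := by
    rintro ⟨t, rfl⟩
    have h1 : a ^ r = a := by
      nth_rw 2 [← zpow_one a]
      rw [zpow_eq_iff hm']
      exact ⟨t, by rw [hs]; push_cast; ring⟩
    rw [h1] at hr
    obtain ⟨x, y, hxy⟩ := hna
    exact hxy (comm_of_index hp.out hCi hb (mul_inv_eq_iff_eq_mul.mp hr) x y)
  -- inverse of s mod p
  obtain ⟨t, ht⟩ : ∃ t : ℕ, (p : ℤ) ∣ s * t - 1 := by
    have hs0 : (s : ZMod p) ≠ 0 := by
      rw [Ne, ZMod.intCast_zmod_eq_zero_iff_dvd]; exact hsp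
    refine ⟨((s : ZMod p)⁻¹).val, ?_⟩
    rw [← ZMod.intCast_zmod_eq_zero_iff_dvd]
    push_cast
    rw [ZMod.natCast_zmod_val, mul_inv_cancel₀ hs0, sub_self]
  have htp : ¬ p ∣ t := by
    intro h
    have h1 : (p : ℤ) ∣ s * t := (Int.natCast_dvd_natCast.mpr h).mul_left s
    have h3 := dvd_sub h1 ht
    rw [sub_sub_cancel] at h3
    exact hp.out.one_lt.ne' (by exact_mod_cast Int.eq_one_of_dvd_one (by positivity) h3)
  have hbt : orderOf (b ^ t) = p := by
    rw [orderOf_pow, hbo, (Nat.Prime.coprime_iff_not_dvd hp.out).mpr htp, Nat.div_one]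
  refine ⟨a, b ^ t, rfl, hm', hbt, ?_, ?_⟩
  · intro h
    have h1 : zpowers (b ^ t) = zpowers b := by
      apply eq_of_le_of_card_ge (zpowers_le.mpr (pow_mem (mem_zpowers b) t))
      rw [Nat.card_zpowers, Nat.card_zpowers, hbo, hbt]
    have h3 : b ∈ zpowers (b ^ t) := h1 ▸ mem_zpowers b
    exact hb (zpowers_le.mpr h h3)
  · have key : ∀ n : ℕ, b ^ n * a * (b ^ n)⁻¹ = a * (a ^ p ^ m') ^ (s * n) := by
      intro n
      induction n with
      | zero => simp
      | succ n ih =>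
        have hc : Commute (a ^ p ^ m') b := hcen.symm
        have e : b ^ (n + 1) * a * (b ^ (n + 1))⁻¹ = b * (b ^ n * a * (b ^ n)⁻¹) * b⁻¹ := by
          rw [pow_succ']; group
        have h1 : b * (a ^ p ^ m') ^ (s * n) * b⁻¹ = (a ^ p ^ m') ^ (s * n) := by
          rw [← (hc.zpow_left _).eq, mul_inv_cancel_right]
        have h3 : a ^ r = a * (a ^ p ^ m') ^ s := by
          rw [hs, zpow_add, zpow_one, zpow_mul]
          congr 2
          exact_mod_cast zpow_natCast a (p ^ m')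
        calc b ^ (n + 1) * a * (b ^ (n + 1))⁻¹ = b * (a * (a ^ p ^ m') ^ (s * n)) * b⁻¹ := by
              rw [e, ih]
          _ = (b * a * b⁻¹) * (b * (a ^ p ^ m') ^ (s * n) * b⁻¹) := by group
          _ = a * (a ^ p ^ m') ^ s * (a ^ p ^ m') ^ (s * n) := by rw [hr, h1, h3]
          _ = _ := by rw [mul_assoc, ← zpow_add]; congr 2; push_cast; ring
    rw [key t]
    have : a * (a ^ p ^ m') ^ (s * t) = a ^ (1 + ((p ^ m' : ℕ) : ℤ) * (s * t)) := by
      rw [zpow_add, zpow_one, zpow_mul a ((p ^ m' : ℕ) : ℤ) (s * t), zpow_natCast a]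
    rw [this, ← zpow_natCast, zpow_eq_iff hm']
    obtain ⟨u, hu⟩ := ht
    refine ⟨u, ?_⟩
    push_cast
    have : s * t = 1 + p * u := by linarith
    rw [this]; ring

theorem two_nonabelian [Finite G] {m : ℕ}
    (hG : Nat.card G = 2 ^ (m + 2)) {C : Subgroup G} (hC : IsCyclic C) (hCi : C.index = 2)
    (hna : ∃ x y : G, x * y ≠ y * x) : ∃ a b : G, zpowers a = C ∧ orderOf a = 2 ^ (m + 1) ∧
      1 ≤ m ∧ b ∉ zpowers a ∧ ((b ^ 2 = 1 ∧ b * a * b⁻¹ = a⁻¹) ∨
      (b ^ 2 = a ^ (2 ^ m) ∧ b * a * b⁻¹ = a⁻¹) ∨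
      (2 ≤ m ∧ b ^ 2 = 1 ∧ b * a * b⁻¹ = a ^ (1 + 2 ^ m)) ∨
      (2 ≤ m ∧ b ^ 2 = 1 ∧ b * a * b⁻¹ = a ^ (2 ^ m - 1))) := by
  obtain ⟨a, rfl⟩ := exists_gen hC
  have hGp : IsPGroup 2 G := IsPGroup.of_card hG
  have hnc : ¬ IsCyclic G := by
    intro h
    obtain ⟨x, y, hxy⟩ := hna
    exact hxy ((Cyc.isMulCommutative_of_isCyclic h).is_comm.comm x y)
  have : ∃ b : G, b ∉ zpowers a := by
    by_contra hcon
    push Not at hcon
    have : zpowers a = ⊤ := eq_top_iff.mpr fun x _ => hcon x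
    rw [this, index_top] at hCi
    norm_num at hCi
  obtain ⟨b, hb⟩ := this
  obtain ⟨m', hm', hGm, ⟨r, hr⟩, k, hk⟩ := setting_aux hGp hCi hnc hb
  have hmm : m' = m := by
    rw [hG] at hGm
    have := Nat.pow_right_injective le_rfl hGm
    omega
  subst hmm
  have hab : b * a ≠ a * b := by
    intro h
    obtain ⟨x, y, hxy⟩ := hna
    exact hxy (comm_of_index Nat.prime_two hCi hb h x y)
  have hm1 : 1 ≤ m' := by
    by_contra h
    have : m' = 0 := by omega
    subst this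
    have h1 : Nat.card G = 2 ^ 2 := hG
    have := IsPGroup.commutative_of_card_eq_prime_sq h1
    exact hab (this b a)
  obtain ⟨j, h⟩ := two_main hm1 hm' hr hk hab
  refine ⟨a, b * a ^ j, rfl, hm', hm1, ?_, h⟩
  intro h
  have := mul_mem h (inv_mem (zpow_mem (mem_zpowers a) j))
  rw [mul_inv_cancel_right] at this
  exact hb this

/-- Ω₁ of a noncyclic `p`-group with a cyclic subgroup of index `p`, `p` odd -/
theorem omega_of_cyclic_index [Finite G] {p : ℕ} [hp : Fact p.Prime] (h2 : p ≠ 2)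
    (hG : IsPGroup p G) (hnc : ¬ IsCyclic G) {C : Subgroup G} (hC : IsCyclic C) (hCi : C.index = p) :
    ∃ a b : G, ∃ m : ℕ, orderOf a = p ^ (m + 1) ∧ orderOf b = p ∧ b ∉ zpowers a ∧
      b * a ^ p ^ m = a ^ p ^ m * b ∧
      ∀ x : G, x ^ p = 1 → x ∈ closure ({a ^ p ^ m, b} : Set G) := by
  obtain ⟨a, rfl⟩ := exists_gen hC
  obtain ⟨b, hb, hbo⟩ := odd_exists h2 hG hCi hnc
  obtain ⟨m, hm, -, ⟨r, hr⟩, -⟩ := setting_aux hG hCi hnc hb
  have hbp : b ^ p = 1 := by rw [← hbo]; exact pow_orderOf_eq_one b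
  obtain ⟨-, -, hcen, -⟩ := odd_pow h2 hm hr (by rw [hbp, one_mul, mul_one])
  refine ⟨a, b, m, hm, hbo, hb, hcen, fun x hx => ?_⟩
  -- x = b^i a^j
  have hn := normal_of_index hG hCi
  have hcard : Nat.card (G ⧸ zpowers a) = p := by rw [← index_eq_card, hCi]
  have hb1 : (b : G ⧸ zpowers a) ≠ 1 := fun h => hb ((QuotientGroup.eq_one_iff b).mp h)
  have h1 : (x : G ⧸ zpowers a) ∈ zpowers (b : G ⧸ zpowers a) :=
    mem_zpowers_of_prime_card hcard hb1
  obtain ⟨i, hi⟩ := mem_zpowers_iff.mp h1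
  rw [← QuotientGroup.mk_zpow] at hi
  have h3 := QuotientGroup.eq.mp hi
  obtain ⟨j, hj⟩ := mem_zpowers_iff.mp h3
  have hxe : x = b ^ i * a ^ j := by rw [hj]; group
  -- b^i acts as a power map
  obtain ⟨r', hr'⟩ := mem_zpowers_iff.mp (hn.conj_mem a (mem_zpowers a) (b ^ i))
  have hbip : (b ^ i) ^ p = 1 := by
    rw [← zpow_natCast, ← zpow_mul, mul_comm, zpow_mul, zpow_natCast, hbp, one_zpow]
  obtain ⟨-, -, -, h4⟩ := odd_pow h2 hm hr'.symm (by rw [hbip, one_mul, mul_one])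
  have h5 := h4 j
  rw [← hxe, hx, hbip, one_mul] at h5
  have h6 : (p : ℤ) ^ m ∣ j := by
    have h7 : (orderOf a : ℤ) ∣ j * p := orderOf_dvd_iff_zpow_eq_one.mpr h5.symm
    rw [hm] at h7
    push_cast at h7
    rw [pow_succ] at h7
    exact Int.dvd_of_mul_dvd_mul_right (by exact_mod_cast hp.out.ne_zero) h7
  obtain ⟨l, rfl⟩ := h6
  rw [hxe]
  have hbm : b ∈ closure ({a ^ p ^ m, b} : Set G) := Subgroup.subset_closure (Or.inr rfl)
  have ham : a ^ p ^ m ∈ closure ({a ^ p ^ m, b} : Set G) := Subgroup.subset_closure (Or.inl rfl)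
  apply mul_mem
  · exact zpow_mem hbm i
  · rw [zpow_mul]
    have : a ^ ((p : ℤ) ^ m) = a ^ p ^ m := by exact_mod_cast zpow_natCast a (p ^ m)
    rw [this]
    exact zpow_mem ham l

end Cfsg.Agent.Lib.PGrpF
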