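import Mathlib
import Cfsg.Agent.Lib.FrobB
import Cfsg.Agent.Lib.FrobGrp
import Cfsg.Agent.Lib.PGrpF
import Cfsg.Agent.S0068
import Cfsg.Agent.Lib.Nilp
import Cfsg.Agent.Lib.Subnorm
import Cfsg.Agent.Lib.ClassSizes

/-!
Structure of groups acting fixed-point-freely: Sylow subgroups, the centre.
-/

set_option autoImplicit false

namespace Cfsg.Agent.Lib.FrobC

open Subgroup Cfsg.Agent.Lib.Basic Cfsg.Agent.Lib.Cores Cfsg.Agent.Lib.SchurZas Cfsg.Agent.Lib.Frob
open Cfsg.Agent.Lib.FrobB
open scoped Pointwise

variable {G : Type*} [Group G]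

/-- coprimeness for a complement acting fixed-point-freely -/
theorem coprime_of_fpf [Finite G] {K H : Subgroup G} [K.Normal] (hc : IsComplement' K H)
    (hK : K ≠ ⊥) (hH : H ≠ ⊥) (hfpf : ∀ h ∈ H, h ≠ 1 → K ⊓ centralizer {h} = ⊥) :
    Cfsg.IsFrobeniusComplement H ∧ (Nat.card H).Coprime (Nat.card K) := by
  have h1 := (FrobGrp.frobenius_of_complement (N := K) (H := H) hc.disjoint.eq_bot hc.sup_eq_top hK hH (by
    intro h hh h1 n hn hnh
    have : n ∈ K ⊓ centralizer {h} := mem_inf.mpr ⟨hn, mem_centralizer_singleton_iff.mpr hnh⟩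
    rwa [hfpf h hh h1, mem_bot] at this)).1
  refine ⟨h1, ?_⟩
  have h2 := card_coprime_index (show TI H from h1.2.2)
  rwa [hc.index_eq_card] at h2

/-- abelian subgroups of a group acting fixed-point-freely are cyclic -/
theorem isCyclic_of_comm [Finite G] {K A : Subgroup G} (hAK : A ≤ normalizer (K : Set G))
    (hK : K ≠ ⊥) (hcop : (Nat.card A).Coprime (Nat.card K))
    (hfpf : ∀ h ∈ A, h ≠ 1 → K ⊓ centralizer {h} = ⊥) (hA : IsMulCommutative A) : IsCyclic A := by
  obtain ⟨p, hp, hpK⟩ := Nat.exists_prime_and_dvd (fun h => hK (card_eq_one.mp h) : Nat.card K ≠ 1)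
  obtain ⟨V, hVK, hV0, hVc, -, hVA⟩ := exists_invariant_abelian hAK hcop
    (Or.inl (CoprimeB.isSolvable_of_comm hA)) hp hpK
  exact isCyclic_of_fpf_comm hVc hV0 hVA (fun b hb hb1 =>
    eq_bot_iff.mpr (le_trans (inf_le_inf_right _ hVK) (hfpf b hb hb1).le)) hA

/-- subgroups of order `pq` of a group acting fixed-point-freely are cyclic -/
theorem isCyclic_of_pq [Finite G] {K A : Subgroup G} (hAK : A ≤ normalizer (K : Set G))
    (hK : K ≠ ⊥) (hcop : (Nat.card A).Coprime (Nat.card K)) (hs : Group.IsSolvable A)
    (hfpf : ∀ h ∈ A, h ≠ 1 → K ⊓ centralizer {h} = ⊥) {q r : ℕ} (hq : q.Prime) (hr : r.Prime)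
    (hc : Nat.card A = q * r) : IsCyclic A := by
  obtain ⟨p, hp, hpK⟩ := Nat.exists_prime_and_dvd (fun h => hK (card_eq_one.mp h) : Nat.card K ≠ 1)
  obtain ⟨V, hVK, hV0, hVc, -, hVA⟩ := exists_invariant_abelian hAK hcop
    (Or.inl hs) hp hpK
  exact Cfsg.Agent.S0041.result A V hV0 hVA (fun b hb hb1 =>
    eq_bot_iff.mpr (le_trans (inf_le_inf_right _ hVK) (hfpf b hb hb1).le)) (Or.inr ⟨q, r, hq, hr, hc⟩)

/-- `p`-subgroups of a group acting fixed-point-freely have at most one subgroup of order `p`. -/
theorem unique_of_fpf [Finite G] {K P : Subgroup G} (hPK : P ≤ normalizer (K : Set G))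
    (hK : K ≠ ⊥) (hcop : (Nat.card P).Coprime (Nat.card K))
    (hfpf : ∀ h ∈ P, h ≠ 1 → K ⊓ centralizer {h} = ⊥) {p : ℕ} [Fact p.Prime] (hP : IsPGroup p P)
    {x y : G} (hx : x ∈ P) (hy : y ∈ P) (hxo : orderOf x = p) (hyo : orderOf y = p) : x ∈ zpowers y := by
  have hp : p.Prime := Fact.out
  -- a central element of order `p`
  have hP0 : P ≠ ⊥ := by
    rintro rfl
    rw [mem_bot] at hx
    rw [hx, orderOf_one] at hxo
    exact hp.one_lt.ne hxo
  have hnt : Nontrivial P := (nontrivial_iff_ne_bot _).mpr hP0
  have hcn := hP.center_nontrivial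
  have hd : p ∣ Nat.card (center P) := by
    obtain ⟨k, hk⟩ := IsPGroup.iff_card.mp (hP.to_subgroup (center P))
    rw [hk]
    apply dvd_pow_self
    rintro rfl
    rw [pow_zero] at hk
    exact ((nontrivial_iff_ne_bot _).mp hcn) (card_eq_one.mp hk)
  obtain ⟨⟨⟨z, hzP⟩, hzc⟩, hzo⟩ := exists_prime_orderOf_dvd_card' p hd
  rw [orderOf_mk, orderOf_mk] at hzo
  have key : ∀ w ∈ P, orderOf w = p → zpowers w = zpowers z := by
    intro w hw hwo
    have hcomm : z * w = w * z := by
      have := mem_center_iff.mp hzc ⟨w, hw⟩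
      exact (congrArg Subtype.val this).symm
    have hAc : IsMulCommutative (closure ({z, w} : Set G)) := by
      apply isMulCommutative_closure
      rintro a (rfl | rfl) b (rfl | rfl)
      · rfl
      · exact hcomm
      · exact hcomm.symm
      · rfl
    have hAP : closure ({z, w} : Set G) ≤ P := by
      rw [closure_le]
      rintro a (rfl | rfl)
      · exact hzP
      · exact hw
    have hcyc := isCyclic_of_comm (hAP.trans hPK) hK (Nat.Coprime.coprime_dvd_left (card_dvd_of_le hAP) hcop)
      (fun h hh => hfpf h (hAP hh)) hAc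
    have hzA : zpowers z ≤ closure ({z, w} : Set G) :=
      zpowers_le.mpr (Subgroup.subset_closure (Or.inl rfl))
    have hwA : zpowers w ≤ closure ({z, w} : Set G) :=
      zpowers_le.mpr (Subgroup.subset_closure (Or.inr rfl))
    have hcard : Nat.card (zpowers z) = Nat.card (zpowers w) := by
      rw [Nat.card_zpowers, Nat.card_zpowers, hzo, hwo]
    exact le_antisymm (Cyc.le_of_card_dvd_of_le hcyc hwA hzA (hcard ▸ dvd_rfl))
      (Cyc.le_of_card_dvd_of_le hcyc hzA hwA (hcard ▸ dvd_rfl))
  rw [key y hy hyo, ← key x hx hxo]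
  exact mem_zpowers x

theorem center_ne_bot [Finite G] {K H : Subgroup G} [K.Normal] (hc : IsComplement' K H)
    (hK : K ≠ ⊥) (hH : H ≠ ⊥) (hfpf : ∀ h ∈ H, h ≠ 1 → K ⊓ centralizer {h} = ⊥) :
    center H ≠ ⊥ := by
  obtain ⟨-, hcop⟩ := coprime_of_fpf hc hK hH hfpf
  have hnK : ∀ A : Subgroup G, A ≤ normalizer (K : Set G) := fun A => by
    rw [normalizer_eq_top_iff.mpr (inferInstance : K.Normal)]; exact le_top
  by_cases heven : 2 ∣ Nat.card H
  · obtain ⟨⟨s, hs, hso, hsu, -⟩, -⟩ := Cfsg.Agent.S0068.result K H hc hK hfpf heven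
    intro h
    have h1 : (⟨s, hs⟩ : H) ∈ center H := by
      rw [mem_center_iff]
      intro g
      apply Subtype.ext
      have h2 : orderOf ((g : G) * s * (g : G)⁻¹) = 2 := by
        rw [show (g : G) * s * (g : G)⁻¹ = MulAut.conj (g : G) s from rfl, MulEquiv.orderOf_eq]; exact hso
      have h3 := hsu _ (mul_mem (mul_mem g.2 hs) (inv_mem g.2)) h2
      exact mul_inv_eq_iff_eq_mul.mp h3
    rw [h, mem_bot] at h1
    have : s = 1 := congrArg Subtype.val h1
    rw [this, orderOf_one] at hso
    norm_num at hso
  · -- all Sylow subgroups are cyclic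
    have hZ : IsZGroup H := by
      refine ⟨fun p hp P => ?_⟩
      haveI : Fact p.Prime := ⟨hp⟩
      by_cases h2 : p = 2
      · subst h2
        have h3 : Nat.card P = 1 := by
          obtain ⟨k, hk⟩ := IsPGroup.iff_card.mp P.isPGroup'
          rcases Nat.eq_zero_or_pos k with h0 | h0
          · rw [hk, h0, pow_zero]
          · exfalso
            apply heven
            exact (dvd_pow_self 2 h0.ne').trans (hk ▸ (P : Subgroup H).card_subgroup_dvd_card)
        have : Subsingleton P := (Nat.card_eq_one_iff_unique.mp h3).1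
        infer_instance
      · apply PGrpC.isCyclic_of_unique h2 P.isPGroup'
        intro x y hx hy
        have hPle : (P : Subgroup H).map H.subtype ≤ H := map_subtype_le _
        have h3 := unique_of_fpf (P := (P : Subgroup H).map H.subtype) (hnK _) hK
          (Nat.Coprime.coprime_dvd_left (card_dvd_of_le hPle) hcop) (fun h hh => hfpf h (hPle hh))
          (P.isPGroup'.map _) (x := ((x : H) : G)) (y := ((y : H) : G)) ⟨x, x.2, rfl⟩ ⟨y, y.2, rfl⟩
          (by rw [orderOf_coe, orderOf_coe]; exact hx) (by rw [orderOf_coe, orderOf_coe]; exact hy)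
        obtain ⟨k, hk⟩ := mem_zpowers_iff.mp h3
        exact mem_zpowers_iff.mpr ⟨k, Subtype.ext (Subtype.ext (by push_cast; exact hk))⟩
    have hsol : Group.IsSolvable H := inferInstance
    -- q smallest prime
    have hH1 : Nat.card H ≠ 1 := fun h => hH (card_eq_one.mp h)
    obtain ⟨q, hqdef⟩ : ∃ q, q = (Nat.card H).minFac := ⟨_, rfl⟩
    have hq : q.Prime := hqdef ▸ Nat.minFac_prime hH1
    have hqH : q ∣ Nat.card H := hqdef ▸ Nat.minFac_dvd _
    haveI : Fact q.Prime := ⟨hq⟩
    -- q divides the order of the Fitting subgroup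
    have hqF : q ∣ Nat.card (pCore q H) := by
      by_contra hnd
      obtain ⟨x, hx⟩ := exists_prime_orderOf_dvd_card' q hqH
      have hcent : x ∈ centralizer (Cfsg.fittingSubgroup H : Set H) := by
        rw [fitting_eq_iSup_pCore]
        have hle : (⨆ p : Nat.Primes, pCore (p : ℕ) H) ≤ centralizer {x} := by
          apply iSup_le
          intro r
          haveI : Fact (r : ℕ).Prime := ⟨r.2⟩
          by_cases hr0 : pCore (r : ℕ) H = ⊥
          · rw [hr0]; exact bot_le
          have hqr : q ≠ r := by
            rintro hqr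
            rw [← hqr] at hr0
            apply hnd
            obtain ⟨k, hk⟩ := IsPGroup.iff_card.mp (pCore_isPGroup (G := H) q)
            rw [hk]
            apply dvd_pow_self
            rintro rfl
            exact hr0 (card_eq_one.mp (by rw [hk, pow_zero]))
          have hOn : (pCore (r : ℕ) H).Normal := pCore_normal _
          have hOc : IsCyclic (pCore (r : ℕ) H) := (pCore_isPGroup (G := H) (r : ℕ)).isCyclic_of_isZGroup
          have hOcomm := Cyc.isMulCommutative_of_isCyclic hOc
          -- the action of `x` on elements of order r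
          have hcx : Nat.card (zpowers x) = q := by rw [Nat.card_zpowers, hx]
          have h1 : zpowers x ≤ centralizer (pCore (r : ℕ) H : Set H) := by
            have hnor : ∀ L : Subgroup H, L ≤ normalizer (pCore (r : ℕ) H : Set H) := fun L => by
              rw [normalizer_eq_top_iff.mpr hOn]; exact le_top
            obtain ⟨k, hk⟩ := IsPGroup.iff_card.mp (pCore_isPGroup (G := H) (r : ℕ))
            refine CoprimeB.abelian_trivial_of_prime_order hOcomm (hnor _) (by
              rw [hcx, hk]
              exact Nat.Coprime.pow_right _ ((Nat.coprime_primes hq r.2).mpr hqr)) ?_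
            intro v hv hvp a ha
            have hvr : orderOf v = r := by
              have h2 : orderOf v ∣ (r : ℕ) ^ k := by
                rw [← hk, ← Nat.card_zpowers]; exact card_dvd_of_le (zpowers_le.mpr hv)
              exact (Nat.prime_dvd_prime_iff_eq hvp r.2).mp (hvp.dvd_of_dvd_pow h2)
            have hvn : (zpowers v).Normal := Cyc.normal_of_le_isCyclic hOc (zpowers_le.mpr hv)
            have hxn : zpowers x ≤ normalizer (zpowers v : Set H) := by
              rw [normalizer_eq_top_iff.mpr hvn]; exact le_top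
            have hcB : Nat.card (zpowers v ⊔ zpowers x : Subgroup H) = r * q := by
              rw [card_sup_of_inf_eq_bot hxn, hcx, Nat.card_zpowers, hvr]
              apply disjoint_iff.mp
              apply disjoint_of_coprime_natCard
              rw [hcx, Nat.card_zpowers, hvr]
              exact (Nat.coprime_primes r.2 hq).mpr hqr.symm
            have hBle : (zpowers v ⊔ zpowers x : Subgroup H).map H.subtype ≤ H := map_subtype_le _
            have hcyc := isCyclic_of_pq (K := K) (A := (zpowers v ⊔ zpowers x : Subgroup H).map H.subtype)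
              (hnK _) hK (Nat.Coprime.coprime_dvd_left (card_dvd_of_le hBle) hcop)
              (solvable_of_surjective (H.subtype.subgroupMap_surjective _))
              (fun h hh => hfpf h (hBle hh)) r.2 hq (by
                rw [card_map_of_injective H.subtype_injective, hcB])
            have hcomm := Nilp.isMulCommutative_iff_forall.mp (Cyc.isMulCommutative_of_isCyclic hcyc)
            have h2 := hcomm (a : G) ⟨a, mem_sup_right ha, rfl⟩ (v : G) ⟨v, mem_sup_left (mem_zpowers v), rfl⟩
            exact Subtype.ext h2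
          intro y hy
          rw [mem_centralizer_singleton_iff]
          exact (mem_centralizer_iff.mp (h1 (mem_zpowers x)) y hy)
        intro y hy
        exact (mem_centralizer_singleton_iff.mp (hle hy))
      have h1 := Nilp.centralizer_fitting_le (G := H) hcent
      -- `<x>` is subnormal, hence in the `q`-core
      have hsub : (zpowers x).IsSubnormal := by
        have h2 : ((zpowers x).subgroupOf (Cfsg.fittingSubgroup H)).IsSubnormal :=
          Subnorm.isSubnormal_of_nilpotent fitting_nilpotent _
        have h3 : (Cfsg.fittingSubgroup H).IsSubnormal := (fitting_normal (G := H)).isSubnormal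
        exact IsSubnormal.trans (zpowers_le.mpr h1) h2 h3
      have h4 := Subnorm.le_pCore_of_isSubnormal hsub (IsPGroup.of_card (n := 1) (p := q) (by
        rw [Nat.card_zpowers, hx, pow_one]))
      apply hnd
      have h5 := card_dvd_of_le h4
      rwa [Nat.card_zpowers, hx] at h5
    -- the subgroup of order `q`
    have hOn : (pCore q H).Normal := pCore_normal _
    have hOc : IsCyclic (pCore q H) := (pCore_isPGroup (G := H) q).isCyclic_of_isZGroup
    obtain ⟨⟨y, hyO⟩, hyo⟩ := exists_prime_orderOf_dvd_card' q hqF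
    rw [orderOf_mk] at hyo
    have hyn : (zpowers y).Normal := Cyc.normal_of_le_isCyclic hOc (zpowers_le.mpr hyO)
    have hy1 : y ≠ 1 := by
      rintro rfl
      rw [orderOf_one] at hyo
      exact hq.one_lt.ne hyo
    intro hbot
    apply hy1
    rw [← mem_bot, ← hbot, ← ClassSizes.index_centralizer_eq_one_iff]
    by_contra hne
    have h1 : (centralizer ({y} : Set H)).index < q := by
      rw [ClassSizes.index_centralizer_eq]
      have h2 : Nat.card {z : H // IsConj y z} ≤ Nat.card {z : zpowers y // z ≠ 1} := by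
        have hmem : ∀ z : {z : H // IsConj y z}, (z : H) ∈ zpowers y := by
          rintro ⟨z, hz⟩
          obtain ⟨g, hg⟩ := isConj_iff.mp hz
          show z ∈ zpowers y
          rw [← hg]; exact hyn.conj_mem y (mem_zpowers y) g
        refine Nat.card_le_card_of_injective (fun z => (⟨⟨z, hmem z⟩, ?_⟩ : {z : zpowers y // z ≠ 1})) ?_
        · intro h
          have h3 : (z : H) = 1 := congrArg Subtype.val h
          obtain ⟨g, hg⟩ := isConj_iff.mp z.2
          rw [h3, mul_inv_eq_iff_eq_mul, one_mul] at hg
          exact hy1 (mul_left_cancel (hg.trans (mul_one g).symm))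
        · intro z w hzw
          exact Subtype.ext (congrArg (fun t => ((t : zpowers y) : H)) (congrArg Subtype.val hzw))
      have h3 : Nat.card {z : zpowers y // z ≠ 1} < Nat.card (zpowers y) := by
        exact Finite.card_subtype_lt (x := (1 : zpowers y)) (by simp)
      rw [Nat.card_zpowers, hyo] at h3
      omega
    have h2 := Nat.minFac_le_of_dvd (n := Nat.card H) (m := (centralizer ({y} : Set H)).index) (by
      have : (centralizer ({y} : Set H)).index ≠ 0 := index_ne_zero_of_finite
      omega) (index_dvd_card _)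
    omega

end Cfsg.Agent.Lib.FrobC
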