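import Mathlib
import Cfsg.Prelude.Def_Transfer

/-!
# Extraspecial groups

`Dat p z` : the centre of `E` is `⟨z⟩` of order `p` and contains all commutators.

* `glue` : amalgamation of an isomorphism of centralizers of hyperbolic pairs.
* `Dat.sub` : the centralizer of a hyperbolic pair.
-/

universe u v w

open Subgroup
open scoped commutatorElement Pointwise

namespace Cfsg.Agent.Lib.ExSp

/-- the centre is `⟨z⟩` of order `p` and contains all commutators -/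
structure Dat (p : ℕ) {E : Type*} [Group E] (z : E) : Prop where
  ord : orderOf z = p
  zc : ∀ x : E, x * z = z * x
  comm : ∀ x y : E, ⁅x, y⁆ ∈ zpowers z
  cen : ∀ x : E, (∀ y : E, x * y = y * x) → x ∈ zpowers z

variable {E : Type*} [Group E] {p : ℕ} {z : E}

namespace Dat

theorem cc (D : Dat p z) {c : E} (hc : c ∈ zpowers z) (x : E) : Commute x c := by
  obtain ⟨n, rfl⟩ := mem_zpowers_iff.mp hc
  exact Commute.zpow_right (D.zc x) n

theorem comm_c (D : Dat p z) (x y w : E) : Commute w ⁅x, y⁆ := D.cc (D.comm x y) w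

theorem mul_left (D : Dat p z) (x y w : E) : ⁅x * y, w⁆ = ⁅x, w⁆ * ⁅y, w⁆ := by
  have h := (D.comm_c y w x).eq
  have h1 : ⁅x * y, w⁆ = x * ⁅y, w⁆ * x⁻¹ * ⁅x, w⁆ := by simp only [commutatorElement_def]; group
  rw [h1, h, mul_inv_cancel_right, (D.comm_c y w ⁅x, w⁆).eq]

theorem mul_right (D : Dat p z) (x y w : E) : ⁅x, y * w⁆ = ⁅x, y⁆ * ⁅x, w⁆ := by
  have h := (D.comm_c x w y).eq
  have h1 : ⁅x, y * w⁆ = ⁅x, y⁆ * (y * ⁅x, w⁆ * y⁻¹) := by simp only [commutatorElement_def]; group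
  rw [h1, h, mul_inv_cancel_right]

/-- `x ↦ [x, w]` -/
def homL (D : Dat p z) (w : E) : E →* E where
  toFun x := ⁅x, w⁆
  map_one' := commutatorElement_one_left w
  map_mul' x y := D.mul_left x y w

/-- `x ↦ [w, x]` -/
def homR (D : Dat p z) (w : E) : E →* E where
  toFun x := ⁅w, x⁆
  map_one' := commutatorElement_one_right w
  map_mul' x y := D.mul_right w x y

theorem zpow_left (D : Dat p z) (x w : E) (n : ℤ) : ⁅x ^ n, w⁆ = ⁅x, w⁆ ^ n := map_zpow (D.homL w) x n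

theorem zpow_right (D : Dat p z) (x w : E) (n : ℤ) : ⁅x, w ^ n⁆ = ⁅x, w⁆ ^ n := map_zpow (D.homR x) w n

theorem pow_left (D : Dat p z) (x w : E) (n : ℕ) : ⁅x ^ n, w⁆ = ⁅x, w⁆ ^ n := map_pow (D.homL w) x n

theorem zp (D : Dat p z) {c : E} (hc : c ∈ zpowers z) : c ^ p = 1 := by
  obtain ⟨n, rfl⟩ := mem_zpowers_iff.mp hc
  rw [← zpow_natCast, ← zpow_mul, mul_comm, zpow_mul, zpow_natCast, ← D.ord, pow_orderOf_eq_one, one_zpow]

theorem pow_mem (D : Dat p z) (x : E) : x ^ p ∈ zpowers z := by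
  refine D.cen _ fun y => ?_
  rw [← commutatorElement_eq_one_iff_mul_comm, D.pow_left, D.zp (D.comm x y)]

/-- reordering -/
theorem swap (D : Dat p z) {x y : E} (h : ⁅x, y⁆ = z) (b c : ℤ) :
    y ^ b * x ^ c = x ^ c * y ^ b * z ^ (-(b * c)) := by
  have h1 : ⁅y ^ b, x ^ c⁆ = z ^ (-(b * c)) := by
    rw [D.zpow_left, D.zpow_right, ← commutatorElement_inv, h, ← zpow_mul, inv_zpow', mul_comm c b]
  have h2 : y ^ b * x ^ c = ⁅y ^ b, x ^ c⁆ * (x ^ c * y ^ b) := by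
    simp only [commutatorElement_def]; group
  rw [h2, h1]
  exact (D.cc (zpow_mem (mem_zpowers z) _) _).symm.eq

/-- decomposition along a hyperbolic pair -/
theorem decomp (D : Dat p z) {x y : E} (h : ⁅x, y⁆ = z) (g : E) :
    ∃ a b : ℤ, ∃ k ∈ centralizer ({x, y} : Set E), g = x ^ a * y ^ b * k := by
  obtain ⟨a, ha⟩ := mem_zpowers_iff.mp (D.comm g y)
  obtain ⟨b, hb⟩ := mem_zpowers_iff.mp (D.comm x g)
  refine ⟨a, b, (x ^ a * y ^ b)⁻¹ * g, ?_, by rw [mul_inv_cancel_left]⟩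
  have h1 : ⁅y ^ b, y⁆ = 1 := by rw [D.zpow_left, commutatorElement_self, one_zpow]
  have h2 : ⁅x ^ a, x⁆ = 1 := by rw [D.zpow_left, commutatorElement_self, one_zpow]
  have hinv : ∀ u w : E, ⁅u⁻¹, w⁆ = ⁅u, w⁆⁻¹ := fun u w => map_inv (D.homL w) u
  have h3 : ⁅(x ^ a * y ^ b)⁻¹ * g, y⁆ = 1 := by
    rw [D.mul_left, hinv, D.mul_left, h1, mul_one, D.zpow_left, h, ha, inv_mul_cancel]
  have h4 : ⁅(x ^ a * y ^ b)⁻¹ * g, x⁆ = 1 := by
    have h5 : ⁅y, x⁆ = z⁻¹ := by rw [← commutatorElement_inv, h]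
    have h6 : ⁅g, x⁆ = (z ^ b)⁻¹ := by rw [← commutatorElement_inv, hb]
    rw [D.mul_left, hinv, D.mul_left, h2, one_mul, D.zpow_left, h5, h6, inv_zpow, inv_inv, mul_inv_cancel]
  rw [mem_centralizer_iff]
  rintro w (rfl | rfl)
  · exact (commutatorElement_eq_one_iff_mul_comm.mp h4).symm
  · exact (commutatorElement_eq_one_iff_mul_comm.mp h3).symm

theorem z_mem (D : Dat p z) (S : Set E) : z ∈ centralizer S := by
  rw [mem_centralizer_iff]
  exact fun x _ => D.zc x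

/-- the centralizer of a hyperbolic pair -/
theorem sub (D : Dat p z) {x y : E} (h : ⁅x, y⁆ = z) :
    Dat p (⟨z, D.z_mem _⟩ : centralizer ({x, y} : Set E)) where
  ord := (orderOf_injective (centralizer ({x, y} : Set E)).subtype (subtype_injective _) ⟨z, D.z_mem _⟩).symm.trans D.ord
  zc := fun w => Subtype.ext (D.zc w)
  comm := fun u w => by
    obtain ⟨n, hn⟩ := mem_zpowers_iff.mp (D.comm (u : E) w)
    exact mem_zpowers_iff.mpr ⟨n, Subtype.ext (by rw [coe_zpow]; exact hn)⟩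
  cen := fun u hu => by
    have h1 : ∀ w : E, (u : E) * w = w * u := by
      intro w
      obtain ⟨a, b, k, hk, rfl⟩ := D.decomp h w
      have hux : Commute (u : E) x := (mem_centralizer_iff.mp u.2 x (Or.inl rfl)).symm
      have huy : Commute (u : E) y := (mem_centralizer_iff.mp u.2 y (Or.inr rfl)).symm
      have huk : Commute (u : E) k := congrArg Subtype.val (hu ⟨k, hk⟩)
      exact (((hux.zpow_right a).mul_right (huy.zpow_right b)).mul_right huk).eq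
    obtain ⟨n, hn⟩ := mem_zpowers_iff.mp (D.cen _ h1)
    exact mem_zpowers_iff.mpr ⟨n, Subtype.ext (by simpa using hn)⟩

theorem exists_pair [hp : Fact p.Prime] (D : Dat p z) (h : ¬ ∀ x y : E, x * y = y * x) :
    ∃ x y : E, ⁅x, y⁆ = z := by
  push Not at h
  obtain ⟨x, y, hxy⟩ := h
  obtain ⟨n, hn⟩ := mem_zpowers_iff.mp (D.comm x y)
  have h1 : ⁅x, y⁆ ≠ 1 := fun h => hxy (commutatorElement_eq_one_iff_mul_comm.mp h)
  have h2 : ¬ (p : ℤ) ∣ n := by
    rintro ⟨m, rfl⟩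
    apply h1
    rw [← hn, zpow_mul, zpow_natCast, ← D.ord, pow_orderOf_eq_one, one_zpow]
  have h3 : IsCoprime (p : ℤ) n := by
    rw [Int.isCoprime_iff_gcd_eq_one]
    exact (hp.out.coprime_iff_not_dvd).mpr (fun h => h2 (Int.natCast_dvd.mpr h))
  obtain ⟨a, b, hab⟩ := h3
  refine ⟨x, y ^ b, ?_⟩
  rw [D.zpow_right, ← hn, ← zpow_mul]
  have h4 : n * b = 1 - a * p := by linarith
  have h5 : z ^ (a * (p : ℤ)) = 1 := by
    rw [zpow_mul, zpow_natCast]; exact D.zp (zpow_mem (mem_zpowers z) _)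
  rw [h4, zpow_sub, zpow_one, h5, inv_one, mul_one]

theorem dvd_of_zpow (D : Dat p z) {n : ℤ} (h : z ^ n = 1) : (p : ℤ) ∣ n := by
  have := orderOf_dvd_iff_zpow_eq_one.mpr h
  rwa [D.ord] at this

end Dat

theorem Dat.mul1 (D : Dat p z) {x y : E} (h : ⁅x, y⁆ = z) (a b c d : ℤ) (k l : E)
    (hk : Commute k (x ^ c * y ^ d)) :
    x ^ a * y ^ b * k * (x ^ c * y ^ d * l) = x ^ (a + c) * y ^ (b + d) * (z ^ (-(b * c)) * k * l) := by
  have e1 : x ^ a * y ^ b * k * (x ^ c * y ^ d * l) = x ^ a * y ^ b * (k * (x ^ c * y ^ d)) * l := by group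
  rw [e1, hk.eq]
  have e2 : x ^ a * y ^ b * (x ^ c * y ^ d * k) * l = x ^ a * (y ^ b * x ^ c) * (y ^ d * k * l) := by group
  rw [e2, D.swap h b c]
  have e3 : x ^ a * (x ^ c * y ^ b * z ^ (-(b * c))) * (y ^ d * k * l) =
      x ^ (a + c) * y ^ b * (z ^ (-(b * c)) * y ^ d) * k * l := by
    rw [zpow_add]; simp only [mul_assoc]
  rw [e3, ← (D.cc (zpow_mem (mem_zpowers z) _) (y ^ d)).eq, zpow_add y]
  simp only [mul_assoc]

theorem Dat.dv1 (D : Dat p z) {x y : E} (h : ⁅x, y⁆ = z) (a b : ℤ) (k : E)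
    (hk : k ∈ centralizer ({x, y} : Set E)) (h1 : x ^ a * y ^ b * k = 1) : (p : ℤ) ∣ a ∧ (p : ℤ) ∣ b := by
  have hkx : ⁅k, x⁆ = 1 := commutatorElement_eq_one_iff_mul_comm.mpr (mem_centralizer_iff.mp hk _ (Or.inl rfl)).symm
  have hky : ⁅k, y⁆ = 1 := commutatorElement_eq_one_iff_mul_comm.mpr (mem_centralizer_iff.mp hk _ (Or.inr rfl)).symm
  constructor
  · have h2 : ⁅x ^ a * y ^ b * k, y⁆ = z ^ a := by
      rw [D.mul_left, D.mul_left, hky, mul_one, D.zpow_left, D.zpow_left, commutatorElement_self, one_zpow, mul_one, h]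
    rw [h1, commutatorElement_one_left] at h2
    exact D.dvd_of_zpow h2.symm
  · have h2 : ⁅x ^ a * y ^ b * k, x⁆ = z ^ (-b) := by
      rw [D.mul_left, D.mul_left, hkx, mul_one, D.zpow_left, D.zpow_left, commutatorElement_self, one_zpow, one_mul,
        ← commutatorElement_inv, h, inv_zpow']
    rw [h1, commutatorElement_one_left] at h2
    exact (dvd_neg).mp (D.dvd_of_zpow h2.symm)

theorem hpw {x z : E} {n : ℤ} (h : x ^ p = z ^ n) (a : ℤ) : x ^ ((p : ℤ) * a) = z ^ (n * a) := by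
  rw [zpow_mul, zpow_natCast, h, ← zpow_mul]

/-- amalgamation along a hyperbolic pair -/
theorem glue {E₁ : Type*} {E₂ : Type*} [Group E₁] [Group E₂] {p : ℕ} {z₁ x₁ y₁ : E₁} {z₂ x₂ y₂ : E₂}
    (D₁ : Dat p z₁) (D₂ : Dat p z₂) (h₁ : ⁅x₁, y₁⁆ = z₁) (h₂ : ⁅x₂, y₂⁆ = z₂)
    (hx : ∃ n : ℤ, x₁ ^ p = z₁ ^ n ∧ x₂ ^ p = z₂ ^ n) (hy : ∃ n : ℤ, y₁ ^ p = z₁ ^ n ∧ y₂ ^ p = z₂ ^ n)
    (ψ : centralizer ({x₁, y₁} : Set E₁) ≃* centralizer ({x₂, y₂} : Set E₂))
    (hψ : ((ψ ⟨z₁, D₁.z_mem _⟩ : centralizer ({x₂, y₂} : Set E₂)) : E₂) = z₂) :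
    ∃ f : E₁ ≃* E₂, f z₁ = z₂ := by
  -- the relation
  let R : E₁ → E₂ → Prop := fun g h => ∃ a b : ℤ, ∃ k : centralizer ({x₁, y₁} : Set E₁),
    g = x₁ ^ a * y₁ ^ b * k ∧ h = x₂ ^ a * y₂ ^ b * (ψ k : E₂)
  have hψz : ∀ n : ℤ, ((ψ ((⟨z₁, D₁.z_mem _⟩ : centralizer ({x₁, y₁} : Set E₁)) ^ n) : centralizer ({x₂, y₂} : Set E₂)) : E₂) = z₂ ^ n := by
    intro n
    rw [map_zpow, coe_zpow, hψ]
  have hc1 : ∀ (k : centralizer ({x₁, y₁} : Set E₁)) (a b : ℤ), Commute (k : E₁) (x₁ ^ a * y₁ ^ b) := by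
    intro k a b
    have hux : Commute (k : E₁) x₁ := (mem_centralizer_iff.mp k.2 _ (Or.inl rfl)).symm
    have huy : Commute (k : E₁) y₁ := (mem_centralizer_iff.mp k.2 _ (Or.inr rfl)).symm
    exact (hux.zpow_right a).mul_right (huy.zpow_right b)
  have hc2 : ∀ (k : centralizer ({x₂, y₂} : Set E₂)) (a b : ℤ), Commute (k : E₂) (x₂ ^ a * y₂ ^ b) := by
    intro k a b
    have hux : Commute (k : E₂) x₂ := (mem_centralizer_iff.mp k.2 _ (Or.inl rfl)).symm
    have huy : Commute (k : E₂) y₂ := (mem_centralizer_iff.mp k.2 _ (Or.inr rfl)).symm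
    exact (hux.zpow_right a).mul_right (huy.zpow_right b)
  have hmul : ∀ {g h g' h'}, R g h → R g' h' → R (g * g') (h * h') := by
    rintro _ _ _ _ ⟨a, b, k, rfl, rfl⟩ ⟨c, d, l, rfl, rfl⟩
    refine ⟨a + c, b + d, (⟨z₁, D₁.z_mem _⟩ : centralizer ({x₁, y₁} : Set E₁)) ^ (-(b * c)) * k * l, ?_, ?_⟩
    · rw [D₁.mul1 h₁ a b c d k l (hc1 k c d)]
      rfl
    · rw [D₂.mul1 h₂ a b c d _ _ (hc2 (ψ k) c d), map_mul, map_mul, coe_mul, coe_mul, hψz]
  have htot1 : ∀ g, ∃ h, R g h := by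
    intro g
    obtain ⟨a, b, k, hk, rfl⟩ := D₁.decomp h₁ g
    exact ⟨_, a, b, ⟨k, hk⟩, rfl, rfl⟩
  have htot2 : ∀ h, ∃ g, R g h := by
    intro g
    obtain ⟨a, b, k, hk, rfl⟩ := D₂.decomp h₂ g
    exact ⟨_, a, b, ψ.symm ⟨k, hk⟩, rfl, by rw [MulEquiv.apply_symm_apply]⟩
  -- fibres over the identity
  obtain ⟨n, hn1, hn2⟩ := hx
  obtain ⟨m, hm1, hm2⟩ := hy
  have hone1 : ∀ h, R 1 h → h = 1 := by
    rintro _ ⟨a, b, k, h1, rfl⟩
    obtain ⟨⟨a', rfl⟩, ⟨b', rfl⟩⟩ := D₁.dv1 h₁ a b k k.2 h1.symm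
    rw [hpw hn1, hpw hm1, ← zpow_add] at h1
    have h2 : k = (⟨z₁, D₁.z_mem _⟩ : centralizer ({x₁, y₁} : Set E₁)) ^ (-(n * a' + m * b')) := by
      apply Subtype.ext
      rw [coe_zpow, zpow_neg]
      exact (eq_inv_of_mul_eq_one_right h1.symm)
    rw [hpw hn2, hpw hm2, ← zpow_add, h2, hψz, zpow_neg, mul_inv_cancel]
  have hone2 : ∀ g, R g 1 → g = 1 := by
    rintro _ ⟨a, b, k, rfl, h1⟩
    obtain ⟨⟨a', rfl⟩, ⟨b', rfl⟩⟩ := D₂.dv1 h₂ a b _ (ψ k).2 h1.symm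
    rw [hpw hn2, hpw hm2, ← zpow_add] at h1
    have h2 : ψ k = ψ ((⟨z₁, D₁.z_mem _⟩ : centralizer ({x₁, y₁} : Set E₁)) ^ (-(n * a' + m * b'))) := by
      apply Subtype.ext
      rw [hψz, zpow_neg]
      exact (eq_inv_of_mul_eq_one_right h1.symm)
    have h3 := ψ.injective h2
    rw [hpw hn1, hpw hm1, ← zpow_add, h3, coe_zpow, zpow_neg, mul_inv_cancel]
  -- inverses
  have hinv : ∀ {g h}, R g h → R g⁻¹ h⁻¹ := by
    intro g h hgh
    obtain ⟨h', hh'⟩ := htot1 g⁻¹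
    have h1 := hmul hgh hh'
    rw [mul_inv_cancel] at h1
    have h2 := hone1 _ h1
    rwa [inv_eq_of_mul_eq_one_right h2]
  have huniq : ∀ {g h h'}, R g h → R g h' → h = h' := by
    intro g h h' h1 h2
    have h3 := hmul h1 (hinv h2)
    rw [mul_inv_cancel] at h3
    exact mul_inv_eq_one.mp (hone1 _ h3)
  have huniq2 : ∀ {g g' h}, R g h → R g' h → g = g' := by
    intro g g' h h1 h2
    have h3 := hmul h1 (hinv h2)
    rw [mul_inv_cancel] at h3
    exact mul_inv_eq_one.mp (hone2 _ h3)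
  choose f hf using htot1
  refine ⟨MulEquiv.ofBijective (MonoidHom.mk' f fun a b => huniq (hf _) (hmul (hf a) (hf b))) ⟨?_, ?_⟩, ?_⟩
  · intro a b hab
    change f a = f b at hab
    have h1 := hf a
    rw [hab] at h1
    exact huniq2 h1 (hf b)
  · intro h
    obtain ⟨g, hg⟩ := htot2 h
    exact ⟨g, huniq (hf g) hg⟩
  · change f z₁ = z₂
    refine huniq (hf _) ⟨0, 0, ⟨z₁, D₁.z_mem _⟩, ?_, ?_⟩
    · rw [zpow_zero, zpow_zero, one_mul, one_mul]
    · rw [zpow_zero, zpow_zero, one_mul, one_mul, hψ]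

theorem dat_of [Finite E] {p : ℕ} [hp : Fact p.Prime] (h : Cfsg.IsExtraspecial p E) : ∃ z : E, Dat p z := by
  obtain ⟨⟨h0, h1, h2⟩, h3⟩ := h
  obtain ⟨z, hz⟩ := isCyclic_of_prime_card h3
  have hz' : ∀ x : E, x ∈ center E → x ∈ zpowers (z : E) := by
    intro x hx
    obtain ⟨n, hn⟩ := mem_zpowers_iff.mp (hz ⟨x, hx⟩)
    exact mem_zpowers_iff.mpr ⟨n, by simpa using congrArg Subtype.val hn⟩
  refine ⟨z, ?_, fun x => mem_center_iff.mp z.2 x, fun x y => hz' _ ?_, fun x hx => hz' _ ?_⟩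
  · rw [← h3, ← orderOf_eq_card_of_forall_mem_zpowers hz]
    exact (orderOf_injective (center E).subtype (subtype_injective _) _)
  · rw [← h2, _root_.commutator_def]
    exact commutator_mem_commutator (mem_top _) (mem_top _)
  · rw [mem_center_iff]
    exact fun y => (hx y).symm

/-- the order of the centralizer of a hyperbolic pair -/
theorem Dat.card_eq [Finite E] [hp : Fact p.Prime] (D : Dat p z) {x y : E} (h : ⁅x, y⁆ = z) :
    Nat.card E = p ^ 2 * Nat.card (centralizer ({x, y} : Set E)) := by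
  have hc : Nat.card (zpowers z) = p := by rw [Nat.card_zpowers, D.ord]
  let f : E →* zpowers z × zpowers z :=
    ((D.homL x).codRestrict _ fun g => D.comm g x).prod ((D.homL y).codRestrict _ fun g => D.comm g y)
  have hker : f.ker = centralizer ({x, y} : Set E) := by
    ext g
    rw [MonoidHom.mem_ker, mem_centralizer_iff, Prod.ext_iff]
    constructor
    · rintro ⟨h1, h2⟩ w (rfl | rfl)
      · exact (commutatorElement_eq_one_iff_mul_comm.mp (congrArg Subtype.val h1)).symm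
      · exact (commutatorElement_eq_one_iff_mul_comm.mp (congrArg Subtype.val h2)).symm
    · intro h1
      exact ⟨Subtype.ext (commutatorElement_eq_one_iff_mul_comm.mpr (h1 x (Or.inl rfl)).symm),
        Subtype.ext (commutatorElement_eq_one_iff_mul_comm.mpr (h1 y (Or.inr rfl)).symm)⟩
  have hsurj : Function.Surjective f := by
    rintro ⟨⟨u, hu⟩, ⟨v, hv⟩⟩
    obtain ⟨a, rfl⟩ := mem_zpowers_iff.mp hu
    obtain ⟨b, rfl⟩ := mem_zpowers_iff.mp hv
    refine ⟨x ^ b * y ^ (-a), Prod.ext (Subtype.ext ?_) (Subtype.ext ?_)⟩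
    · change ⁅x ^ b * y ^ (-a), x⁆ = z ^ a
      rw [D.mul_left, D.zpow_left, D.zpow_left, commutatorElement_self, one_zpow, one_mul,
          ← commutatorElement_inv, h, inv_zpow', neg_neg]
    · change ⁅x ^ b * y ^ (-a), y⁆ = z ^ b
      rw [D.mul_left, D.zpow_left, D.zpow_left, commutatorElement_self, one_zpow, mul_one, h]
  rw [← hker, ← card_mul_index f.ker, index_ker, MonoidHom.range_eq_top.mpr hsurj, card_top, Nat.card_prod, hc]
  ring

/-- S0095 -/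
theorem card_odd {p : ℕ} [hp : Fact p.Prime] (n : ℕ) : ∀ (E : Type u) [Group E] [Finite E] (z : E) (_ : Dat p z)
    (_ : Nat.card E ≤ n), ∃ m : ℕ, Nat.card E = p ^ (2 * m + 1) := by
  induction n with
  | zero => intro E _ _ z D h; exact absurd (Nat.le_zero.mp h) Nat.card_pos.ne'
  | succ n ih =>
    intro E _ _ z D hn
    by_cases hab : ∀ x y : E, x * y = y * x
    · refine ⟨0, ?_⟩
      have h1 : zpowers z = ⊤ := by rw [eq_top_iff]; exact fun x _ => D.cen x (hab x)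
      rw [← card_top, ← h1, Nat.card_zpowers, D.ord]
      ring
    · obtain ⟨x, y, h⟩ := D.exists_pair hab
      have h1 := D.card_eq h
      have h2 : 0 < Nat.card (centralizer ({x, y} : Set E)) := Nat.card_pos
      have h3 : 2 ^ 2 ≤ p ^ 2 := Nat.pow_le_pow_left hp.out.two_le 2
      obtain ⟨m, hm⟩ := ih _ _ (D.sub h) (by nlinarith)
      exact ⟨m + 1, by rw [h1, hm]; ring⟩

end Cfsg.Agent.Lib.ExSp
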