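import Mathlib

/-!
# Alternating forms over a field: symplectic bases, Witt's lemma
-/

set_option autoImplicit false
set_option linter.all false

namespace Cfsg.Agent.Lib.Alt

open Module

variable {F : Type*} [Field F]

theorem alt_swap {V : Type*} [AddCommGroup V] [Module F V] {B : LinearMap.BilinForm F V}
    (hA : B.IsAlt) (x y : V) : B x y = - B y x := by
  have h := hA (x + y)
  simp only [map_add, LinearMap.add_apply] at h
  rw [hA x, hA y] at h
  linear_combination h

/-- The rearrangement of indices used in the induction. -/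
def idxEquiv (ι κ : Type) :
    ((Unit ⊕ Unit) ⊕ ((ι ⊕ ι) ⊕ κ)) ≃ ((Option ι ⊕ Option ι) ⊕ κ) where
  toFun x := match x with
    | Sum.inl (Sum.inl _) => Sum.inl (Sum.inl none)
    | Sum.inl (Sum.inr _) => Sum.inl (Sum.inr none)
    | Sum.inr (Sum.inl (Sum.inl i)) => Sum.inl (Sum.inl (some i))
    | Sum.inr (Sum.inl (Sum.inr i)) => Sum.inl (Sum.inr (some i))
    | Sum.inr (Sum.inr k) => Sum.inr k
  invFun x := match x with
    | Sum.inl (Sum.inl none) => Sum.inl (Sum.inl ())
    | Sum.inl (Sum.inr none) => Sum.inl (Sum.inr ())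
    | Sum.inl (Sum.inl (some i)) => Sum.inr (Sum.inl (Sum.inl i))
    | Sum.inl (Sum.inr (some i)) => Sum.inr (Sum.inl (Sum.inr i))
    | Sum.inr k => Sum.inr (Sum.inr k)
  left_inv x := by rcases x with (x | x) | ((x | x) | x) <;> rfl
  right_inv x := by rcases x with ((_ | x) | (_ | x)) | x <;> rfl

/-- Existence of a symplectic basis (with radical), with general index types. -/
theorem exists_basis_aux (n : ℕ) : ∀ (V : Type*) [AddCommGroup V] [Module F V]
    [FiniteDimensional F V] (B : LinearMap.BilinForm F V), B.IsAlt → finrank F V = n →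
    ∃ (ι κ : Type) (_ : Fintype ι) (_ : Fintype κ) (b : Basis ((ι ⊕ ι) ⊕ κ) F V),
      (∀ i, B (b (Sum.inl (Sum.inl i))) (b (Sum.inl (Sum.inr i))) = 1) ∧
      (∀ i j, i ≠ j → B (b (Sum.inl (Sum.inl i))) (b (Sum.inl (Sum.inr j))) = 0) ∧
      (∀ i j, B (b (Sum.inl (Sum.inl i))) (b (Sum.inl (Sum.inl j))) = 0) ∧
      (∀ i j, B (b (Sum.inl (Sum.inr i))) (b (Sum.inl (Sum.inr j))) = 0) ∧
      (∀ j v, B (b (Sum.inr j)) v = 0) := by
  induction n using Nat.strong_induction_on with
  | _ n ih =>
    intro V _ _ _ B hA hn
    by_cases hB : B = 0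
    · subst hB
      refine ⟨Empty, Fin n, inferInstance, inferInstance,
        (finBasisOfFinrankEq F V hn).reindex
          ((Equiv.emptySum (Empty ⊕ Empty) (Fin n)).symm), ?_, ?_, ?_, ?_, ?_⟩
      · intro i; exact i.elim
      · intro i; exact i.elim
      · intro i; exact i.elim
      · intro i; exact i.elim
      · intro j v; simp
    · obtain ⟨u, v0, huv0⟩ : ∃ u v, B u v ≠ 0 := by
        by_contra hcon
        push Not at hcon
        apply hB
        ext x y
        simpa using hcon x y
      set v := (B u v0)⁻¹ • v0 with hv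
      have huv : B u v = 1 := by rw [hv]; simp [huv0]
      have hvu : B v u = -1 := by rw [alt_swap hA, huv]
      have huu : B u u = 0 := hA u
      have hvv : B v v = 0 := hA v
      let K : Submodule F V := LinearMap.ker (B u) ⊓ LinearMap.ker (B v)
      have hK : ∀ x, x ∈ K ↔ B u x = 0 ∧ B v x = 0 := fun x => Iff.rfl
      let φ : V ≃ₗ[F] (F × F) × K :=
        { toFun := fun x => ((B x v, B u x), ⟨x - B x v • u - B u x • v, by
            rw [hK]
            have h1 := alt_swap hA v x
            simp only [map_sub, map_smul, smul_eq_mul, huu, huv, hvu, hvv, h1]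
            constructor <;> ring⟩)
          map_add' := fun x y => by
            refine Prod.ext (Prod.ext ?_ ?_) (Subtype.ext ?_)
            · simp
            · simp
            · simp only [map_add, LinearMap.add_apply, Prod.snd_add, Submodule.coe_add]
              module
          map_smul' := fun c x => by
            refine Prod.ext (Prod.ext ?_ ?_) (Subtype.ext ?_)
            · simp
            · simp
            · simp only [map_smul, LinearMap.smul_apply, Prod.smul_snd, RingHom.id_apply,
                Submodule.coe_smul, smul_eq_mul]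
              module
          invFun := fun z => z.1.1 • u + z.1.2 • v + z.2.1
          left_inv := fun x => by simp
          right_inv := fun z => by
            obtain ⟨⟨a, b⟩, k, hk⟩ := z
            have hk' := (hK k).mp hk
            have h1 : B k v = 0 := by rw [alt_swap hA, hk'.2, neg_zero]
            refine Prod.ext (Prod.ext ?_ ?_) (Subtype.ext ?_)
            · simp [huv, hvv, h1]
            · simp [huv, huu, hk'.1]
            · simp only [map_add, LinearMap.add_apply, map_smul, LinearMap.smul_apply, huv, hvv,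
                huu, h1, hk'.1, smul_eq_mul]
              module }
      have hφ : ∀ z, φ.symm z = z.1.1 • u + z.1.2 • v + z.2.1 := fun z => rfl
      have hfr : finrank F K + 2 = n := by
        have := φ.finrank_eq
        rw [finrank_prod, finrank_prod, finrank_self, hn] at this
        omega
      have hAK : (B.restrict K).IsAlt := fun x => hA x.1
      obtain ⟨ι, κ, hι, hκ, b, h1, h2, h3, h4, h5⟩ := ih (finrank F K) (by omega) K
        (B.restrict K) hAK rfl
      let b2 : Basis (Unit ⊕ Unit) F (F × F) := (Basis.singleton Unit F).prod (Basis.singleton Unit F)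
      let b3 : Basis ((Unit ⊕ Unit) ⊕ ((ι ⊕ ι) ⊕ κ)) F V := (b2.prod b).map φ.symm
      let b4 := b3.reindex (idxEquiv ι κ)
      have e1 : b4 (Sum.inl (Sum.inl none)) = u := by
        simp only [b4, Basis.reindex_apply]
        show b3 (Sum.inl (Sum.inl ())) = u
        simp [b3, b2, hφ]
      have e2 : b4 (Sum.inl (Sum.inr none)) = v := by
        simp only [b4, Basis.reindex_apply]
        show b3 (Sum.inl (Sum.inr ())) = v
        simp [b3, b2, hφ]
      have e3 : ∀ i, b4 (Sum.inl (Sum.inl (some i))) = b (Sum.inl (Sum.inl i)) := by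
        intro i
        simp only [b4, Basis.reindex_apply]
        show b3 (Sum.inr (Sum.inl (Sum.inl i))) = _
        simp [b3, b2, hφ]
      have e4 : ∀ i, b4 (Sum.inl (Sum.inr (some i))) = b (Sum.inl (Sum.inr i)) := by
        intro i
        simp only [b4, Basis.reindex_apply]
        show b3 (Sum.inr (Sum.inl (Sum.inr i))) = _
        simp [b3, b2, hφ]
      have e5 : ∀ i, b4 (Sum.inr i) = b (Sum.inr i) := by
        intro i
        simp only [b4, Basis.reindex_apply]
        show b3 (Sum.inr (Sum.inr i)) = _
        simp [b3, b2, hφ]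
      have huK : ∀ x : K, B u x = 0 := fun x => ((hK x).mp x.2).1
      have hvK : ∀ x : K, B v x = 0 := fun x => ((hK x).mp x.2).2
      have hKu : ∀ x : K, B x u = 0 := fun x => by rw [alt_swap hA, huK, neg_zero]
      have hKv : ∀ x : K, B x v = 0 := fun x => by rw [alt_swap hA, hvK, neg_zero]
      refine ⟨Option ι, κ, inferInstance, inferInstance, b4, ?_, ?_, ?_, ?_, ?_⟩
      · rintro (_ | i)
        · rw [e1, e2]; exact huv
        · rw [e3, e4]; exact h1 i
      · rintro (_ | i) (_ | j) hij
        · exact absurd rfl hij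
        · rw [e1, e4]; exact huK _
        · rw [e3, e2]; exact hKv _
        · rw [e3, e4]; exact h2 i j (fun h => hij (by rw [h]))
      · rintro (_ | i) (_ | j)
        · rw [e1]; exact huu
        · rw [e1, e3]; exact huK _
        · rw [e3, e1]; exact hKu _
        · rw [e3, e3]; exact h3 i j
      · rintro (_ | i) (_ | j)
        · rw [e2]; exact hvv
        · rw [e2, e4]; exact hvK _
        · rw [e4, e2]; exact hKv _
        · rw [e4, e4]; exact h4 i j
      · intro j x
        rw [e5]
        have hx : x = φ.symm (φ x) := (φ.symm_apply_apply x).symm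
        rw [hx, hφ, map_add, map_add, map_smul, map_smul, hKu, hKv]
        have := h5 j (φ x).2
        simp only [smul_zero, zero_add]
        exact this

/-- Existence of a symplectic basis (with radical). -/
theorem exists_basis {V : Type*} [AddCommGroup V] [Module F V]
    [FiniteDimensional F V] (B : LinearMap.BilinForm F V) (hA : B.IsAlt) :
    ∃ (m k : ℕ) (b : Basis ((Fin m ⊕ Fin m) ⊕ Fin k) F V),
      (∀ i j : Fin m, B (b (Sum.inl (Sum.inl i))) (b (Sum.inl (Sum.inr j)))
        = if i = j then 1 else 0) ∧
      (∀ i j : Fin m, B (b (Sum.inl (Sum.inl i))) (b (Sum.inl (Sum.inl j))) = 0) ∧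
      (∀ i j : Fin m, B (b (Sum.inl (Sum.inr i))) (b (Sum.inl (Sum.inr j))) = 0) ∧
      (∀ (j : Fin k) (v : V), B (b (Sum.inr j)) v = 0) := by
  obtain ⟨ι, κ, hι, hκ, b, h1, h2, h3, h4, h5⟩ := exists_basis_aux (F := F) _ V B hA rfl
  let e1 := Fintype.equivFin ι
  let e2 := Fintype.equivFin κ
  refine ⟨Fintype.card ι, Fintype.card κ,
    b.reindex (Equiv.sumCongr (Equiv.sumCongr e1 e1) e2), ?_, ?_, ?_, ?_⟩
  · intro i j
    simp only [Basis.reindex_apply]
    show B (b (Sum.inl (Sum.inl (e1.symm i)))) (b (Sum.inl (Sum.inr (e1.symm j)))) = _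
    split_ifs with h
    · rw [h]; exact h1 _
    · exact h2 _ _ (fun h' => h (e1.symm.injective h'))
  · intro i j
    simp only [Basis.reindex_apply]
    exact h3 _ _
  · intro i j
    simp only [Basis.reindex_apply]
    exact h4 _ _
  · intro j v
    simp only [Basis.reindex_apply]
    exact h5 _ _

/-- A non-degenerate alternating form has a symplectic basis. -/
theorem exists_basis_of_nondegenerate {V : Type*} [AddCommGroup V] [Module F V]
    [FiniteDimensional F V] (B : LinearMap.BilinForm F V) (hA : B.IsAlt) (hB : B.Nondegenerate) :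
    ∃ (m : ℕ) (b : Basis (Fin m ⊕ Fin m) F V),
      (∀ i j : Fin m, B (b (Sum.inl i)) (b (Sum.inr j)) = if i = j then 1 else 0) ∧
      (∀ i j : Fin m, B (b (Sum.inl i)) (b (Sum.inl j)) = 0) ∧
      (∀ i j : Fin m, B (b (Sum.inr i)) (b (Sum.inr j)) = 0) := by
  obtain ⟨m, k, b, h1, h2, h3, h4⟩ := exists_basis B hA
  have hk : k = 0 := by
    by_contra hk
    have := hB.1 (b (Sum.inr ⟨0, Nat.pos_of_ne_zero hk⟩)) (h4 _)
    exact b.ne_zero _ this
  subst hk
  exact ⟨m, b.reindex (Equiv.sumEmpty _ _), fun i j => by simpa using h1 i j,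
    fun i j => by simpa using h2 i j, fun i j => by simpa using h3 i j⟩

/-- The dimension of a non-degenerate alternating space is even. -/
theorem even_finrank {V : Type*} [AddCommGroup V] [Module F V]
    [FiniteDimensional F V] (B : LinearMap.BilinForm F V) (hA : B.IsAlt) (hB : B.Nondegenerate) :
    Even (finrank F V) := by
  obtain ⟨m, b, -⟩ := exists_basis_of_nondegenerate B hA hB
  rw [finrank_eq_card_basis b]
  simp

/-! ### Transvections and Witt's lemma -/

section Witt

variable {V : Type*} [AddCommGroup V] [Module F V]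

/-- The transvection `x ↦ x + c B(x,w) w`. -/
def trv (B : LinearMap.BilinForm F V) (hA : B.IsAlt) (w : V) (c : F) : V ≃ₗ[F] V where
  toFun x := x + (c * B x w) • w
  map_add' x y := by simp only [map_add, LinearMap.add_apply]; module
  map_smul' a x := by
    simp only [map_smul, LinearMap.smul_apply, smul_eq_mul, RingHom.id_apply]; module
  invFun x := x - (c * B x w) • w
  left_inv x := by
    simp only [map_add, LinearMap.add_apply, map_smul, LinearMap.smul_apply, smul_eq_mul, hA w]
    module
  right_inv x := by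
    simp only [map_sub, LinearMap.sub_apply, map_smul, LinearMap.smul_apply, smul_eq_mul, hA w]
    module

theorem trv_apply (B : LinearMap.BilinForm F V) (hA : B.IsAlt) (w : V) (c : F) (x : V) :
    trv B hA w c x = x + (c * B x w) • w := rfl

theorem trv_isometry (B : LinearMap.BilinForm F V) (hA : B.IsAlt) (w : V) (c : F) (x y : V) :
    B (trv B hA w c x) (trv B hA w c y) = B x y := by
  simp only [trv_apply, map_add, LinearMap.add_apply, map_smul, LinearMap.smul_apply, smul_eq_mul,
    hA w, alt_swap hA w y]
  ring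

/-- Two proper subspaces do not cover. -/
theorem exists_notMem_notMem {S : Submodule F V} {f g : V →ₗ[F] F}
    (hf : ∃ x ∈ S, f x ≠ 0) (hg : ∃ x ∈ S, g x ≠ 0) : ∃ x ∈ S, f x ≠ 0 ∧ g x ≠ 0 := by
  obtain ⟨x, hx, hfx⟩ := hf
  obtain ⟨y, hy, hgy⟩ := hg
  by_cases h1 : g x = 0
  · by_cases h2 : f y = 0
    · refine ⟨x + y, S.add_mem hx hy, ?_, ?_⟩
      · rw [map_add, h2, add_zero]; exact hfx
      · rw [map_add, h1, zero_add]; exact hgy
    · exact ⟨y, hy, h2, hgy⟩
  · exact ⟨x, hx, hfx, h1⟩

theorem exists_orth_ne_zero [FiniteDimensional F V] {B : LinearMap.BilinForm F V}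
    (hA : B.IsAlt) (hB : B.Nondegenerate) {X : Submodule F V} {u : V} (hu : u ∉ X) :
    ∃ z ∈ B.orthogonal X, B u z ≠ 0 := by
  by_contra hcon
  push Not at hcon
  apply hu
  rw [← LinearMap.BilinForm.orthogonal_orthogonal hB hA.isRefl X]
  intro z hz
  change B z u = 0
  rw [alt_swap hA, hcon z hz, neg_zero]

/-- Key step: two vectors outside `X` with the same products with `X` are related by an isometry
fixing `X`. -/
theorem exists_isometry_fix [FiniteDimensional F V] {B : LinearMap.BilinForm F V}
    (hA : B.IsAlt) (hB : B.Nondegenerate) {X : Submodule F V} {u u' : V} (hu : u ∉ X)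
    (hu' : u' ∉ X) (h : ∀ x ∈ X, B x u = B x u') :
    ∃ g : V ≃ₗ[F] V, (∀ x y, B (g x) (g y) = B x y) ∧ (∀ x ∈ X, g x = x) ∧ g u = u' := by
  have step : ∀ u u' : V, (∀ x ∈ X, B x u = B x u') → B u u' ≠ 0 →
      ∃ g : V ≃ₗ[F] V, (∀ x y, B (g x) (g y) = B x y) ∧ (∀ x ∈ X, g x = x) ∧ g u = u' := by
    intro u u' h hne
    refine ⟨trv B hA (u' - u) (B u u')⁻¹, trv_isometry B hA _ _, ?_, ?_⟩
    · intro x hx
      rw [trv_apply, map_sub, h x hx]
      simp
    · rw [trv_apply, map_sub, hA u, sub_zero, inv_mul_cancel₀ hne, one_smul]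
      abel
  by_cases hne : B u u' = 0
  · obtain ⟨z1, hz1, h1⟩ := exists_orth_ne_zero hA hB hu
    obtain ⟨z2, hz2, h2⟩ := exists_orth_ne_zero hA hB hu'
    obtain ⟨z, hz, h3, h4⟩ := exists_notMem_notMem (S := B.orthogonal X) (f := B u) (g := B u')
      ⟨z1, hz1, h1⟩ ⟨z2, hz2, h2⟩
    have hzX : ∀ x ∈ X, B x z = 0 := fun x hx => hz x hx
    obtain ⟨g1, a1, b1, c1⟩ := step u (u + z) (fun x hx => by rw [map_add, hzX x hx, add_zero])
      (by rw [map_add, hA u, zero_add]; exact h3)
    obtain ⟨g2, a2, b2, c2⟩ := step (u + z) u'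
      (fun x hx => by rw [map_add, hzX x hx, add_zero, h x hx])
      (by rw [map_add, LinearMap.add_apply, hne, zero_add, alt_swap hA]
          exact neg_ne_zero.mpr h4)
    refine ⟨g1.trans g2, fun x y => ?_, fun x hx => ?_, ?_⟩
    · simp [a1, a2]
    · simp [b1 x hx, b2 x hx]
    · simp [c1, c2]
  · exact step u u' h hne

/-- Witt's lemma for alternating forms, in terms of independent families. -/
theorem witt_family [FiniteDimensional F V] {B : LinearMap.BilinForm F V}
    (hA : B.IsAlt) (hB : B.Nondegenerate) (n : ℕ) : ∀ (v w : Fin n → V),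
    LinearIndependent F v → LinearIndependent F w →
    (∀ i j, B (v i) (v j) = B (w i) (w j)) →
    ∃ g : V ≃ₗ[F] V, (∀ x y : V, B (g x) (g y) = B x y) ∧ ∀ i, g (v i) = w i := by
  induction n with
  | zero =>
    intro v w _ _ _
    exact ⟨LinearEquiv.refl F V, fun u v => rfl, fun i => i.elim0⟩
  | succ n ih =>
    intro v w hv hw h
    obtain ⟨g, hg1, hg2⟩ := ih (fun i => v i.castSucc) (fun i => w i.castSucc)
      (hv.comp _ (Fin.castSucc_injective n)) (hw.comp _ (Fin.castSucc_injective n))
      (fun i j => h _ _)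
    set X := Submodule.span F (Set.range (fun i : Fin n => w i.castSucc)) with hX
    have hwn : w (Fin.last n) ∉ X := by
      have h1 := hw.notMem_span_image (s := Set.range Fin.castSucc) (x := Fin.last n) (by
        rintro ⟨i, hi⟩; exact absurd hi (Fin.castSucc_lt_last i).ne)
      rw [← Set.range_comp] at h1
      exact h1
    have hvn : g (v (Fin.last n)) ∉ X := by
      have h1 := hv.notMem_span_image (s := Set.range Fin.castSucc) (x := Fin.last n) (by
        rintro ⟨i, hi⟩; exact absurd hi (Fin.castSucc_lt_last i).ne)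
      rw [← Set.range_comp] at h1
      intro h2
      apply h1
      have h3 : X = (Submodule.span F (Set.range (v ∘ Fin.castSucc))).map (g : V →ₗ[F] V) := by
        rw [Submodule.map_span, ← Set.range_comp, hX]
        congr 2
        funext i
        simp [hg2 i]
      rw [h3, Submodule.mem_map] at h2
      obtain ⟨y, hy, hyg⟩ := h2
      have : y = v (Fin.last n) := g.injective hyg
      rwa [← this]
    have hprod : ∀ x ∈ X, B x (g (v (Fin.last n))) = B x (w (Fin.last n)) := by
      intro x hx
      induction hx using Submodule.span_induction with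
      | mem x hx =>
        obtain ⟨i, rfl⟩ := hx
        change B (w i.castSucc) _ = B (w i.castSucc) _
        rw [← h i.castSucc (Fin.last n), ← hg2 i, hg1]
      | zero => simp
      | add x y _ _ hx hy => simp [hx, hy]
      | smul a x _ hx => simp [hx]
    obtain ⟨g', a, b, c⟩ := exists_isometry_fix hA hB hvn hwn hprod
    refine ⟨g.trans g', fun x y => by simp [a, hg1], fun i => ?_⟩
    refine Fin.lastCases ?_ (fun i => ?_) i
    · simpa using c
    · simp only [LinearEquiv.trans_apply, hg2]
      exact b _ (Submodule.subset_span ⟨i, rfl⟩)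

/-- Witt's lemma for alternating forms. -/
theorem witt [FiniteDimensional F V] {B : LinearMap.BilinForm F V}
    (hA : B.IsAlt) (hB : B.Nondegenerate) (X : Submodule F V) (φ : X →ₗ[F] V)
    (hinj : Function.Injective φ) (h : ∀ x y : X, B (φ x) (φ y) = B (x : V) (y : V)) :
    ∃ g : V ≃ₗ[F] V, (∀ u v : V, B (g u) (g v) = B u v) ∧ ∀ x : X, g (x : V) = φ x := by
  let b := finBasis F X
  obtain ⟨g, h1, h2⟩ := witt_family hA hB _ (fun i => (b i : V)) (fun i => φ (b i))
    (b.linearIndependent.map' X.subtype (Submodule.ker_subtype X))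
    (b.linearIndependent.map' φ (LinearMap.ker_eq_bot.mpr hinj))
    (fun i j => (h _ _).symm)
  refine ⟨g, h1, fun x => ?_⟩
  have : (g : V →ₗ[F] V).comp X.subtype = φ := b.ext fun i => by simpa using h2 i
  exact congrArg (fun f : X →ₗ[F] V => f x) this

end Witt

end Cfsg.Agent.Lib.Alt
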