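import Mathlib

/-! Element orders in alternating groups. -/

set_option linter.all false
set_option maxHeartbeats 400000

namespace Cfsg.Agent.Lib.AltO

/-- a prime power dividing the order divides a part -/
theorem exists_part {n : ℕ} {σ : Equiv.Perm (Fin n)} {p k : ℕ} (hp : p.Prime) (hk : 0 < k) (h : p ^ k ∣ orderOf σ) : ∃ a ∈ σ.cycleType, p ^ k ∣ a := by
  classical
  by_contra hcon
  push Not at hcon
  rw [← Equiv.Perm.lcm_cycleType] at h
  have key : ∀ s : Multiset ℕ, (∀ a ∈ s, ¬ p ^ k ∣ a) → (∀ a ∈ s, a ≠ 0) → ¬ p ^ k ∣ s.lcm := by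
    intro s
    induction s using Multiset.induction_on with
    | empty =>
      intro _ _ h
      rw [Multiset.lcm_zero] at h
      have h1 := Nat.dvd_one.mp h
      have h2 : 1 < p ^ k := Nat.one_lt_pow hk.ne' hp.one_lt
      omega
    | cons a s ih =>
      intro h1 h2 h3
      rw [Multiset.lcm_cons] at h3
      have ha := h1 a (Multiset.mem_cons_self a s)
      have ha0 := h2 a (Multiset.mem_cons_self a s)
      have hs := ih (fun b hb => h1 b (Multiset.mem_cons_of_mem hb)) (fun b hb => h2 b (Multiset.mem_cons_of_mem hb))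
      have hs0 : s.lcm ≠ 0 := by
        intro h0
        rw [Multiset.lcm_eq_zero_iff] at h0
        exact h2 0 (Multiset.mem_cons_of_mem h0) rfl
      have h4 : p ^ k ∣ Nat.lcm a s.lcm := h3
      rw [hp.pow_dvd_iff_le_factorization (Nat.lcm_ne_zero ha0 hs0), Nat.factorization_lcm ha0 hs0, Finsupp.sup_apply, le_sup_iff] at h4
      rcases h4 with h5 | h5
      · exact ha ((hp.pow_dvd_iff_le_factorization ha0).mpr h5)
      · exact hs ((hp.pow_dvd_iff_le_factorization hs0).mpr h5)
  exact key _ hcon (fun a ha h0 => by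
    have := Equiv.Perm.two_le_of_mem_cycleType ha
    omega) h

theorem sum_le {n : ℕ} (σ : Equiv.Perm (Fin n)) : σ.cycleType.sum ≤ n := by
  rw [Equiv.Perm.sum_cycleType]
  have := σ.support.card_le_univ
  rwa [Fintype.card_fin] at this

/-- two parts -/
theorem two_parts {s : Multiset ℕ} {a b : ℕ} (ha : a ∈ s) (hb : b ∈ s) (hab : a ≠ b) : a + b ≤ s.sum := by
  obtain ⟨t, rfl⟩ := Multiset.exists_cons_of_mem ha
  have hb' : b ∈ t := (Multiset.mem_cons.mp hb).resolve_left (Ne.symm hab)
  rw [Multiset.sum_cons]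
  have := Multiset.le_sum_of_mem hb'
  omega

/-- realisation -/
theorem exists_alt {n : ℕ} (m : Multiset ℕ) (hm : m.sum ≤ n) (h2 : ∀ a ∈ m, 2 ≤ a) (he : Even (m.sum + Multiset.card m)) :
    ∃ σ : alternatingGroup (Fin n), orderOf σ = m.lcm := by
  obtain ⟨g, hg⟩ := (Equiv.Perm.exists_with_cycleType_iff (α := Fin n) (m := m)).mpr ⟨by rw [Fintype.card_fin]; exact hm, h2⟩
  have hmem : g ∈ alternatingGroup (Fin n) := by
    rw [Equiv.Perm.mem_alternatingGroup, Equiv.Perm.sign_of_cycleType, hg, he.neg_one_pow]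
  exact ⟨⟨g, hmem⟩, by rw [Subgroup.orderOf_mk, ← Equiv.Perm.lcm_cycleType, hg]⟩

theorem s2466 (n r s : ℕ) (hr : r.Prime) (hs : s.Prime) (hr2 : r ≠ 2) (hs2 : s ≠ 2) (hrs : r ≠ s) (hrn : r ≤ n) (hsn : s ≤ n) :
    (r * s ∈ Set.range (orderOf : alternatingGroup (Fin n) → ℕ)) ↔ r + s ≤ n := by
  constructor
  · rintro ⟨σ, hσ⟩
    have hσ' : orderOf (σ : Equiv.Perm (Fin n)) = r * s := by rw [Subgroup.orderOf_coe]; exact hσ
    obtain ⟨a, ha, hra⟩ := exists_part (σ := (σ : Equiv.Perm (Fin n))) hr one_pos (by rw [hσ', pow_one]; exact Dvd.intro s rfl)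
    obtain ⟨b, hb, hsb⟩ := exists_part (σ := (σ : Equiv.Perm (Fin n))) hs one_pos (by rw [hσ', pow_one]; exact Dvd.intro_left r rfl)
    rw [pow_one] at hra hsb
    have hle := sum_le (σ : Equiv.Perm (Fin n))
    have ha2 := Equiv.Perm.two_le_of_mem_cycleType ha
    have hb2 := Equiv.Perm.two_le_of_mem_cycleType hb
    by_cases hab : a = b
    · subst hab
      have h1 : r * s ∣ a := Nat.Coprime.mul_dvd_of_dvd_of_dvd ((Nat.coprime_primes hr hs).mpr hrs) hra hsb
      have h2 := Nat.le_of_dvd (by omega) h1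
      have h3 := Multiset.le_sum_of_mem ha
      have h4 : r + s ≤ r * s := by nlinarith [hr.two_le, hs.two_le]
      omega
    · have h1 := two_parts ha hb hab
      have h2 := Nat.le_of_dvd (by omega) hra
      have h3 := Nat.le_of_dvd (by omega) hsb
      omega
  · intro h
    have hro := hr.odd_of_ne_two hr2
    have hso := hs.odd_of_ne_two hs2
    obtain ⟨σ, hσ⟩ := exists_alt (n := n) {r, s} (by simpa using h) (by
      intro a ha
      rw [Multiset.insert_eq_cons, Multiset.mem_cons, Multiset.mem_singleton] at ha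
      rcases ha with rfl | rfl
      · exact hr.two_le
      · exact hs.two_le) (by
      simp only [Multiset.insert_eq_cons, Multiset.sum_cons, Multiset.sum_singleton, Multiset.card_cons, Multiset.card_singleton]
      exact (hro.add_odd hso).add even_two)
    refine ⟨σ, ?_⟩
    rw [hσ]
    simp only [Multiset.insert_eq_cons, Multiset.lcm_cons, Multiset.lcm_singleton]
    show Nat.lcm r (normalize s) = r * s
    rw [normalize_eq]
    exact ((Nat.coprime_primes hr hs).mpr hrs).lcm_eq_mul

theorem s2467 (n r : ℕ) (hn : 4 ≤ n) (hr : r.Prime) (hr2 : r ≠ 2) (hrn : r ≤ n) :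
    (2 * r ∈ Set.range (orderOf : alternatingGroup (Fin n) → ℕ)) ↔ r + 4 ≤ n := by
  have hro := hr.odd_of_ne_two hr2
  constructor
  · rintro ⟨σ, hσ⟩
    have hσ' : orderOf (σ : Equiv.Perm (Fin n)) = 2 * r := by rw [Subgroup.orderOf_coe]; exact hσ
    obtain ⟨a, ha, hra⟩ := exists_part (σ := (σ : Equiv.Perm (Fin n))) hr one_pos (by rw [hσ', pow_one]; exact Dvd.intro_left 2 rfl)
    obtain ⟨b, hb, hsb⟩ := exists_part (σ := (σ : Equiv.Perm (Fin n))) Nat.prime_two one_pos (by rw [hσ', pow_one]; exact Dvd.intro r rfl)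
    rw [pow_one] at hra hsb
    have hle := sum_le (σ : Equiv.Perm (Fin n))
    have ha2 := Equiv.Perm.two_le_of_mem_cycleType ha
    have hb2 := Equiv.Perm.two_le_of_mem_cycleType hb
    -- another even part
    have hsign := σ.2
    rw [Equiv.Perm.mem_alternatingGroup, Equiv.Perm.sign_of_cycleType] at hsign
    have heven : Even ((σ : Equiv.Perm (Fin n)).cycleType.sum + Multiset.card (σ : Equiv.Perm (Fin n)).cycleType) := by
      by_contra h
      rw [Nat.not_even_iff_odd] at h
      rw [h.neg_one_pow] at hsign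
      exact absurd hsign (by decide)
    obtain ⟨t, ht⟩ := Multiset.exists_cons_of_mem hb
    rw [ht, Multiset.sum_cons, Multiset.card_cons] at heven
    have hkey : ∀ t : Multiset ℕ, (∀ c ∈ t, ¬ 2 ∣ c) → Even (t.sum + Multiset.card t) := by
      intro t
      induction t using Multiset.induction_on with
      | empty => intro _; simp
      | cons c t ih =>
        intro h
        rw [Multiset.sum_cons, Multiset.card_cons]
        have h1 := ih (fun d hd => h d (Multiset.mem_cons_of_mem hd))
        have h2 := h c (Multiset.mem_cons_self c t)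
        rw [Nat.even_iff] at h1 ⊢
        omega
    have hexc : ∃ c ∈ t, 2 ∣ c := by
      by_contra hcon
      push Not at hcon
      have h1 := hkey t hcon
      rw [Nat.even_iff] at h1 heven
      omega
    obtain ⟨c, hc, hc2⟩ := hexc
    obtain ⟨u, hu⟩ := Multiset.exists_cons_of_mem hc
    have hcm : c ∈ (σ : Equiv.Perm (Fin n)).cycleType := by rw [ht]; exact Multiset.mem_cons_of_mem hc
    have hc3 := Equiv.Perm.two_le_of_mem_cycleType hcm
    rw [ht, hu, Multiset.sum_cons, Multiset.sum_cons] at hle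
    rw [ht, hu, Multiset.mem_cons, Multiset.mem_cons] at ha
    have hr3 : 3 ≤ r := by have := hr.two_le; omega
    have h2r : ∀ d, 2 ∣ d → r ∣ d → 2 ≤ d → 2 * r ≤ d := by
      intro d h1 h3 h4
      have h5 : 2 * r ∣ d := Nat.Coprime.mul_dvd_of_dvd_of_dvd ((Nat.coprime_primes Nat.prime_two hr).mpr (Ne.symm hr2)) h1 h3
      exact Nat.le_of_dvd (by omega) h5
    rcases ha with rfl | rfl | ha
    · have := h2r a hsb hra ha2
      omega
    · have := h2r a hc2 hra ha2
      omega
    · have h1 := Multiset.le_sum_of_mem ha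
      have h3 := Nat.le_of_dvd (by omega) hra
      omega
  · intro h
    obtain ⟨σ, hσ⟩ := exists_alt (n := n) {r, 2, 2} (by simp; omega) (by
      intro a ha
      simp only [Multiset.insert_eq_cons, Multiset.mem_cons, Multiset.mem_singleton] at ha
      rcases ha with rfl | rfl | rfl
      · exact hr.two_le
      · exact le_rfl
      · exact le_rfl) (by
      simp only [Multiset.insert_eq_cons, Multiset.sum_cons, Multiset.sum_singleton, Multiset.card_cons, Multiset.card_singleton]
      rw [Nat.odd_iff] at hro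
      rw [Nat.even_iff]
      omega)
    refine ⟨σ, ?_⟩
    rw [hσ]
    simp only [Multiset.insert_eq_cons, Multiset.lcm_cons, Multiset.lcm_singleton]
    show Nat.lcm r (Nat.lcm 2 (normalize 2)) = 2 * r
    rw [normalize_eq, Nat.lcm_self, mul_comm]
    exact ((Nat.coprime_primes hr Nat.prime_two).mpr hr2).lcm_eq_mul

end Cfsg.Agent.Lib.AltO
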