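import Mathlib
import Cfsg.Prelude.Def_HallClasses

/-!
# Sylow 2-subgroups of symmetric and alternating groups are self-normalising
-/

set_option autoImplicit false

namespace Cfsg.Agent.Lib.AltSyl

open Equiv Equiv.Perm

section pro
variable {G : Type*} [Group G] [Finite G] {p : ℕ} [Fact p.Prime]

theorem pronormal_of {H : Subgroup G} (S : Sylow p G) (hS : (S : Subgroup G) ≤ H)
    (h : ∀ g : G, (∀ x ∈ S, g * x * g⁻¹ ∈ S) → H.map (MulAut.conj g).toMonoidHom = H) : Cfsg.IsPronormal H := by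
  intro g
  have h1 : (S : Subgroup G) ≤ H ⊔ H.map (MulAut.conj g).toMonoidHom := hS.trans le_sup_left
  have h2 : ((g • S : Sylow p G) : Subgroup G) ≤ H ⊔ H.map (MulAut.conj g).toMonoidHom := by
    refine le_trans ?_ le_sup_right
    rintro _ ⟨x, hx, rfl⟩
    exact ⟨x, hS hx, rfl⟩
  obtain ⟨k, hk⟩ := MulAction.exists_smul_eq (H ⊔ H.map (MulAut.conj g).toMonoidHom : Subgroup G) (S.subtype h1) ((g • S).subtype h2)
  rw [Sylow.smul_subtype] at hk
  have h3 : (k : G) • S = g • S := Sylow.subtype_injective hk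
  have h4 : ((k : G)⁻¹ * g) • S = S := by rw [mul_smul, ← h3, ← mul_smul, inv_mul_cancel, one_smul]
  have h5 := h ((k : G)⁻¹ * g) (fun x hx => by
    have h6 : ((k : G)⁻¹ * g) * x * ((k : G)⁻¹ * g)⁻¹ ∈ ((k : G)⁻¹ * g) • S := by
      exact ⟨x, hx, rfl⟩
    rwa [h4] at h6)
  refine ⟨k, k.2, ?_⟩
  have h6 : (H.map (MulAut.conj ((k : G)⁻¹ * g)).toMonoidHom).map (MulAut.conj (k : G)).toMonoidHom =
      H.map (MulAut.conj g).toMonoidHom := by
    rw [Subgroup.map_map]
    congr 1
    ext x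
    show (k : G) * (((k : G)⁻¹ * g) * x * ((k : G)⁻¹ * g)⁻¹) * (k : G)⁻¹ = g * x * g⁻¹
    group
  rw [h5] at h6
  exact h6.symm

theorem exists_sylow_le {H : Subgroup G} (hH : ¬ p ∣ H.index) : ∃ S : Sylow p G, (S : Subgroup G) ≤ H := by
  have Q : Sylow p H := default
  have h1 : Nat.card ((Q : Subgroup H).map H.subtype) = p ^ (Nat.card G).factorization p := by
    have h2 : Nat.card ((Q : Subgroup H).map H.subtype) = Nat.card (Q : Subgroup H) :=
      Nat.card_congr ((Q : Subgroup H).equivMapOfInjective H.subtype H.subtype_injective).toEquiv.symm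
    rw [h2, Sylow.card_eq_multiplicity]
    congr 1
    rw [← H.card_mul_index, Nat.factorization_mul Nat.card_pos.ne' H.index_ne_zero_of_finite, Finsupp.add_apply,
      Nat.factorization_eq_zero_of_not_dvd hH, add_zero]
  refine ⟨Sylow.ofCard _ h1, ?_⟩
  rintro _ ⟨x, _, rfl⟩
  exact x.2

end pro

section om
variable {K R : Type}

lemma papp {α : Type*} (e : Perm α) (a : α) : e (e⁻¹ a) = a := by rw [← Perm.mul_apply, mul_inv_cancel, Perm.one_apply]

/-- the model set -/
abbrev Om (K R : Type) := (K × Bool) ⊕ R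

/-- the partner -/
def pa : Om K R → Om K R
  | .inl (i, x) => .inl (i, !x)
  | .inr r => .inr r

lemma pa_pa (a : Om K R) : pa (pa a) = a := by rcases a with ⟨i, x⟩ | r <;> simp [pa]

lemma pa_inl (i : K) (x : Bool) : pa (.inl (i, x) : Om K R) = .inl (i, !x) := rfl

lemma pa_inr (r : R) : pa (.inr r : Om K R) = .inr r := rfl

lemma pa_inj {a b : Om K R} (h : pa a = pa b) : a = b := by rw [← pa_pa a, h, pa_pa]

lemma pa_ne (i : K) (x : Bool) : pa (.inl (i, x) : Om K R) ≠ .inl (i, x) := by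
  rw [pa_inl]
  intro h
  have := congrArg Prod.snd (Sum.inl.inj h)
  simp at this

lemma pa_fix [Subsingleton R] {a b : Om K R} (ha : pa a = a) (hb : pa b = b) : a = b := by
  rcases a with ⟨i, x⟩ | r
  · exact absurd ha (pa_ne i x)
  · rcases b with ⟨i, x⟩ | s
    · exact absurd hb (pa_ne i x)
    · rw [Subsingleton.elim r s]

variable (K R) in
/-- permutations preserving all pairs -/
def EE : Subgroup (Perm (Om K R)) where
  carrier := {e | ∀ a, e a = a ∨ e a = pa a}
  one_mem' := fun a => Or.inl rfl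
  mul_mem' := fun {e f} he hf a => by
    show e (f a) = a ∨ e (f a) = pa a
    rcases hf a with h | h <;> rw [h]
    · exact he a
    · rcases he (pa a) with h' | h' <;> rw [h']
      · right; rfl
      · left; exact pa_pa a
  inv_mem' := fun {e} he a => by
    show e⁻¹ a = a ∨ e⁻¹ a = pa a
    rcases he (e⁻¹ a) with h | h
    · left; rw [papp] at h; exact h.symm
    · right
      rw [papp] at h
      have h2 := congrArg pa h
      rw [pa_pa] at h2
      exact h2.symm

lemma mem_EE {e : Perm (Om K R)} : e ∈ EE K R ↔ ∀ a, e a = a ∨ e a = pa a := Iff.rfl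

lemma EE_sq {e : Perm (Om K R)} (he : e ∈ EE K R) : e * e = 1 := by
  ext a
  show e (e a) = a
  rcases he a with h | h
  · rw [h, h]
  · rw [h]
    rcases he (pa a) with h' | h'
    · have h2 : pa a = a := e.injective (h'.trans h.symm)
      rw [h', h2]
    · rw [h', pa_pa]

lemma EE_isPGroup : IsPGroup 2 (EE K R) := by
  intro g
  refine ⟨1, ?_⟩
  apply Subtype.ext
  show (g : Perm (Om K R)) ^ (2 ^ 1) = 1
  rw [pow_one, pow_two]
  exact EE_sq g.2

lemma EE_conj {w e : Perm (Om K R)} (hw : ∀ a, w (pa a) = pa (w a)) (he : e ∈ EE K R) : w * e * w⁻¹ ∈ EE K R := by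
  intro a
  show w (e (w⁻¹ a)) = a ∨ w (e (w⁻¹ a)) = pa a
  rcases he (w⁻¹ a) with h | h
  · left; rw [h, papp]
  · right; rw [h, hw, papp]

lemma EE_comm {e : Perm (Om K R)} (he : e ∈ EE K R) (a : Om K R) : e (pa a) = pa (e a) := by
  rcases he a with h | h
  · rw [h]
    rcases he (pa a) with h' | h'
    · exact h'
    · rw [pa_pa] at h'
      have h2 := e.injective (h'.trans h.symm)
      rw [h', h2]
  · rw [h, pa_pa]
    rcases he (pa a) with h' | h'
    · have h2 := e.injective (h'.trans h.symm)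
      rw [h', h2]
    · rw [h', pa_pa]

/-- the lift of permutations of pairs -/
def lam : Perm K →* Perm (Om K R) where
  toFun π := Equiv.Perm.sumCongr (Equiv.prodCongr π (Equiv.refl Bool)) 1
  map_one' := by ext a; rcases a with ⟨i, x⟩ | r <;> rfl
  map_mul' π τ := by ext a; rcases a with ⟨i, x⟩ | r <;> rfl

lemma lam_inl (π : Perm K) (i : K) (x : Bool) : lam (R := R) π (.inl (i, x)) = .inl (π i, x) := rfl

lemma lam_inr (π : Perm K) (r : R) : lam (R := R) π (.inr r) = .inr r := rfl

lemma lam_pa (π : Perm K) (a : Om K R) : lam π (pa a) = pa (lam π a) := by rcases a with ⟨i, x⟩ | r <;> rfl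

lemma lam_inj : Function.Injective (lam (K := K) (R := R)) := by
  intro π τ h
  ext i
  have h1 := congrArg (fun f : Perm (Om K R) => f (.inl (i, false))) h
  exact congrArg Prod.fst (Sum.inl.inj h1)

lemma lam_EE {π : Perm K} (h : lam (R := R) π ∈ EE K R) : π = 1 := by
  ext i
  rcases h (.inl (i, false)) with h | h
  · exact congrArg Prod.fst (Sum.inl.inj h)
  · exact congrArg Prod.fst (Sum.inl.inj h)

lemma sign_lam [Fintype K] [Fintype R] [DecidableEq K] [DecidableEq R] (π : Perm K) : sign (lam (R := R) π) = 1 := by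
  have h1 : lam (R := R) π = Equiv.Perm.sumCongr (Equiv.prodCongrLeft (fun _ : Bool => π)) 1 := by
    ext a; rcases a with ⟨i, x⟩ | r <;> rfl
  rw [h1, Equiv.Perm.sign_sumCongr, Equiv.Perm.sign_prodCongrLeft, map_one, mul_one]
  simp

lemma decomp [Finite K] [Subsingleton R] {w : Perm (Om K R)} (hw : ∀ a, w (pa a) = pa (w a)) :
    ∃ π : Perm K, w * (lam π)⁻¹ ∈ EE K R := by
  have h1 : ∀ i : K, ∃ (j : K) (y : Bool), w (.inl (i, false)) = .inl (j, y) := by
    intro i
    rcases h : w (.inl (i, false)) with ⟨j, y⟩ | r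
    · exact ⟨j, y, rfl⟩
    · exfalso
      have h2 := hw (.inl (i, false))
      rw [h, pa_inr, ← h] at h2
      exact pa_ne i false (w.injective h2)
  choose f y hf using h1
  have hf2 : ∀ i, w (.inl (i, true)) = .inl (f i, !(y i)) := by
    intro i
    have h2 := hw (.inl (i, false))
    rw [hf, pa_inl, pa_inl] at h2
    exact h2
  have hinj : Function.Injective f := by
    intro i j hij
    by_cases hy : y i = y j
    · have h2 : w (.inl (i, false)) = w (.inl (j, false)) := by rw [hf, hf, hij, hy]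
      exact congrArg Prod.fst (Sum.inl.inj (w.injective h2))
    · have h2 : w (.inl (i, true)) = w (.inl (j, false)) := by
        rw [hf2, hf, hij]
        congr 2
        cases hyi : y i <;> cases hyj : y j <;> simp_all
      exact congrArg Prod.fst (Sum.inl.inj (w.injective h2))
  refine ⟨Equiv.ofBijective f (Finite.injective_iff_bijective.1 hinj), ?_⟩
  intro a
  set π := Equiv.ofBijective f (Finite.injective_iff_bijective.1 hinj) with hπ
  show w ((lam π)⁻¹ a) = a ∨ w ((lam π)⁻¹ a) = pa a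
  obtain ⟨b, rfl⟩ : ∃ b, a = lam π b := ⟨(lam π)⁻¹ a, (papp _ _).symm⟩
  have h2 : (lam π)⁻¹ (lam π b) = b := by rw [← Perm.mul_apply, inv_mul_cancel, Perm.one_apply]
  rw [h2]
  rcases b with ⟨i, x⟩ | r
  · rw [lam_inl]
    have h3 : π i = f i := rfl
    rw [h3, pa_inl]
    cases x
    · rw [hf]; cases y i <;> simp
    · rw [hf2]; cases y i <;> simp
  · left
    rw [lam_inr]
    have h3 := hw (.inr r)
    rw [pa_inr] at h3
    exact pa_fix h3.symm (pa_inr r)

section
variable [DecidableEq K] [DecidableEq R]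

lemma swap_pa_mem (a : Om K R) : swap a (pa a) ∈ EE K R := by
  intro c
  rw [swap_apply_def]
  split_ifs with h1 h2
  · right; rw [h1]
  · right; rw [h2, pa_pa]
  · left; rfl

lemma pair_of_swap [Fintype K] [Fintype R] [Subsingleton R] {T : Subgroup (Perm (Om K R))} (hT : IsPGroup 2 T) (hE : EE K R ≤ T)
    {a b : Om K R} (hab : a ≠ b) (h : swap a b ∈ T) : b = pa a := by
  have key : ∀ a b c : Om K R, a ≠ b → a ≠ c → b ≠ c → swap a b ∈ T → swap a c ∈ T → False := by
    intro a b c hab hac hbc h1 h2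
    have h3 := (Equiv.Perm.isThreeCycle_swap_mul_swap_same hab hac hbc).orderOf
    obtain ⟨k, hk⟩ := IsPGroup.iff_orderOf.1 hT ⟨swap a b * swap a c, T.mul_mem h1 h2⟩
    rw [Subgroup.orderOf_mk, h3] at hk
    have h4 : (3 : ℕ) ∣ 2 ^ k := hk ▸ dvd_refl 3
    have h5 := Nat.Prime.dvd_of_dvd_pow (by norm_num) h4
    norm_num at h5
  by_contra hne
  by_cases ha : pa a = a
  · have hb : pa b ≠ b := fun hb => hab (pa_fix ha hb)
    refine key b a (pa b) hab.symm hb.symm ?_ (by rwa [swap_comm]) (hE (swap_pa_mem b))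
    intro h2
    apply hne
    rw [h2, pa_pa]
  · exact key a b (pa a) hab (Ne.symm ha) hne h (hE (swap_pa_mem a))

lemma comm_all [Subsingleton R] {w : Perm (Om K R)} (h : ∀ a, pa a ≠ a → w (pa a) = pa (w a)) (a : Om K R) : w (pa a) = pa (w a) := by
  by_cases ha : pa a = a
  · by_contra hne
    rw [ha] at hne
    set b := w⁻¹ (pa (w a)) with hb
    have hwb : w b = pa (w a) := papp _ _
    have hba : b ≠ a := fun h2 => hne (by rw [← hwb, h2])
    by_cases hb2 : pa b = b
    · exact hba (pa_fix hb2 ha)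
    · have h3 := h b hb2
      rw [hwb, pa_pa] at h3
      have h4 := w.injective h3
      rw [← pa_pa b, h4] at hba
      exact hba ha
  · exact h a ha

lemma comm_of_norm [Fintype K] [Fintype R] [Subsingleton R] {T : Subgroup (Perm (Om K R))} (hT : IsPGroup 2 T) (hE : EE K R ≤ T)
    {w : Perm (Om K R)} (hw : ∀ x ∈ T, w * x * w⁻¹ ∈ T) (a : Om K R) : w (pa a) = pa (w a) := by
  apply comm_all
  intro a ha
  have h1 := hw _ (hE (swap_pa_mem a))
  rw [← Equiv.swap_apply_apply] at h1
  exact pair_of_swap hT hE (fun h => ha (w.injective h).symm) h1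

/-- the Sylow subgroup on the pairs -/
def topSyl [Fintype K] [Fintype R] [Subsingleton R] (T : Sylow 2 (Perm (Om K R))) (hE : EE K R ≤ T) : Sylow 2 (Perm K) where
  toSubgroup := (T : Subgroup (Perm (Om K R))).comap lam
  isPGroup' := T.isPGroup'.comap_of_injective _ lam_inj
  is_maximal' := by
    intro P hP hTP
    apply le_antisymm ?_ hTP
    have h1 : P.map lam ≤ Subgroup.normalizer (EE K R : Set (Perm (Om K R))) := by
      rintro _ ⟨π, -, rfl⟩
      rw [Subgroup.mem_normalizer_iff]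
      intro e
      constructor
      · exact EE_conj (lam_pa π)
      · intro h
        have h2 := EE_conj (lam_pa (R := R) π⁻¹) h
        have h3 : lam π⁻¹ * (lam π * e * (lam π)⁻¹) * (lam π⁻¹)⁻¹ = e := by
          rw [map_inv]; group
        rwa [h3] at h2
    have h2 : IsPGroup 2 (P.map lam ⊔ EE K R : Subgroup (Perm (Om K R))) := (hP.map lam).to_sup_of_normal_right' EE_isPGroup h1
    have h3 : (T : Subgroup (Perm (Om K R))) ≤ P.map lam ⊔ EE K R := by
      intro t ht
      obtain ⟨π, hπ⟩ := decomp (comm_of_norm T.isPGroup' hE (w := t) (fun x hx => T.mul_mem (T.mul_mem ht hx) (T.inv_mem ht)))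
      have h4 : lam π ∈ T := by
        have h5 := T.mul_mem (T.inv_mem (hE hπ)) ht
        have h6 : (t * (lam π)⁻¹)⁻¹ * t = lam π := by group
        rwa [h6] at h5
      have h7 : t = (t * (lam π)⁻¹) * lam π := by group
      rw [h7]
      exact Subgroup.mul_mem _ (Subgroup.mem_sup_right hπ) (Subgroup.mem_sup_left ⟨π, hTP h4, rfl⟩)
    have h4 := T.is_maximal' h2 h3
    intro π hπ
    show lam π ∈ (T : Subgroup (Perm (Om K R)))
    have h5 : lam (R := R) π ∈ P.map lam ⊔ EE K R := Subgroup.mem_sup_left ⟨π, hπ, rfl⟩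
    rw [h4] at h5
    exact h5

lemma mem_topSyl [Fintype K] [Fintype R] [Subsingleton R] (T : Sylow 2 (Perm (Om K R))) (hE : EE K R ≤ T) {π : Perm K} :
    π ∈ topSyl T hE ↔ lam π ∈ T := Iff.rfl

/-- from commuting with the partner map -/
lemma mem_of_comm [Fintype K] [Fintype R] [Subsingleton R] (T : Sylow 2 (Perm (Om K R))) (hE : EE K R ≤ T)
    (IH : ∀ T' : Sylow 2 (Perm K), ∀ g : Perm K, (∀ x ∈ T', g * x * g⁻¹ ∈ T') → g ∈ T') {g : Perm (Om K R)}
    (hc : ∀ a, g (pa a) = pa (g a)) (hg : ∀ x : Perm K, lam x ∈ T → g * lam x * g⁻¹ ∈ T) : g ∈ T := by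
  obtain ⟨π, hπ⟩ := decomp hc
  have h1 : π ∈ topSyl T hE := by
    apply IH
    intro x hx
    rw [mem_topSyl] at hx ⊢
    have h2 := hg x hx
    have h3 : lam (π * x * π⁻¹) = (g * (lam π)⁻¹)⁻¹ * (g * lam x * g⁻¹) * (g * (lam π)⁻¹) := by
      rw [map_mul, map_mul, map_inv]; group
    rw [h3]
    exact T.mul_mem (T.mul_mem (T.inv_mem (hE hπ)) h2) (hE hπ)
  rw [mem_topSyl] at h1
  have h7 : g = (g * (lam π)⁻¹) * lam π := by group
  rw [h7]
  exact T.mul_mem (hE hπ) h1

end
end om

/-- choosing coordinates -/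
lemma exists_model {Ω K R : Type} [Fintype Ω] [Fintype K] [Fintype R] [DecidableEq K] [DecidableEq R] [DecidableEq Ω]
    (hc : Fintype.card Ω = Fintype.card (Om K R)) (T : Sylow 2 (Perm Ω)) :
    ∃ (e : Ω ≃ Om K R) (T' : Sylow 2 (Perm (Om K R))), EE K R ≤ T' ∧ ∀ x, x ∈ T ↔ e.permCongrHom x ∈ T' := by
  have e0 : Ω ≃ Om K R := Fintype.equivOfCardEq hc
  set f := e0.permCongrHom with hf
  have hr : (T : Subgroup (Perm Ω)) ≤ f.symm.toMonoidHom.range := fun x _ => ⟨f x, f.symm_apply_apply x⟩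
  set T0 : Sylow 2 (Perm (Om K R)) := T.comapOfInjective f.symm.toMonoidHom f.symm.injective hr with hT0
  obtain ⟨T', hT'⟩ := (EE_isPGroup (K := K) (R := R)).exists_le_sylow
  obtain ⟨g, hg⟩ := MulAction.exists_smul_eq (Perm (Om K R)) T0 T'
  have hm0 : ∀ x, x ∈ T ↔ f x ∈ T0 := by
    intro x
    have h1 : f x ∈ T0 ↔ f.symm (f x) ∈ T := Iff.rfl
    rw [h1, f.symm_apply_apply]
  refine ⟨e0.trans g, T', hT', ?_⟩
  intro x
  rw [hm0 x, ← hg]
  have h1 : (e0.trans g).permCongrHom x = g * f x * g⁻¹ := rfl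
  rw [h1]
  constructor
  · intro h
    exact ⟨f x, h, rfl⟩
  · rintro ⟨y, hy, hy2⟩
    have h2 : g * y * g⁻¹ = g * f x * g⁻¹ := hy2
    have h3 : y = f x := by simpa using h2
    rw [← h3]
    exact hy

/-- Sylow 2-subgroups of symmetric groups are self-normalising -/
theorem sym_norm : ∀ (n : ℕ) (Ω : Type) [Fintype Ω] [DecidableEq Ω], Fintype.card Ω = n → ∀ (T : Sylow 2 (Perm Ω)) (g : Perm Ω),
    (∀ x ∈ T, g * x * g⁻¹ ∈ T) → g ∈ T := by
  intro n
  induction n using Nat.strong_induction_on with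
  | _ n ih =>
    intro Ω _ _ hn T g hg
    by_cases h0 : n = 0
    · rw [h0, Fintype.card_eq_zero_iff] at hn
      have : g = 1 := by ext a; exact (hn.false a).elim
      rw [this]; exact T.one_mem
    · have hc : Fintype.card Ω = Fintype.card (Om (Fin (n / 2)) (Fin (n % 2))) := by
        simp [Om]
        omega
      obtain ⟨e, T', hE, hT⟩ := exists_model hc T
      have : Subsingleton (Fin (n % 2)) := by
        rw [Fin.subsingleton_iff_le_one]; omega
      have hg' : ∀ x ∈ T', e.permCongrHom g * x * (e.permCongrHom g)⁻¹ ∈ T' := by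
        intro x hx
        obtain ⟨y, rfl⟩ := e.permCongrHom.surjective x
        have h1 := hg y ((hT y).2 hx)
        rw [hT, map_mul, map_mul, map_inv] at h1
        exact h1
      rw [hT]
      refine mem_of_comm T' hE (fun T'' g' h' => ih (n / 2) (by omega) (Fin (n / 2)) (Fintype.card_fin _) T'' g' h')
        (comm_of_norm T'.isPGroup' hE hg') (fun x hx => hg' _ hx)

end Cfsg.Agent.Lib.AltSyl
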