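import Cfsg.Agent.Lib.AltSyl

/-!
# Sylow 2-subgroups of alternating groups and pronormality
-/

set_option autoImplicit false

namespace Cfsg.Agent.Lib.AltSyl

open Equiv Equiv.Perm

section
variable {K R : Type} [DecidableEq K] [DecidableEq R]

lemma comm_alt [Fintype K] [Fintype R] [Subsingleton R] (T : Sylow 2 (Perm (Om K R))) (hE : EE K R ≤ T) (hK : 3 ≤ Fintype.card K)
    {g : Perm (Om K R)} (hg : ∀ x ∈ T, sign x = 1 → g * x * g⁻¹ ∈ T) (a : Om K R) : g (pa a) = pa (g a) := by
  apply comm_all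
  intro a ha
  by_contra hne
  rcases a with ⟨i, x⟩ | r
  swap
  · exact ha rfl
  set a : Om K R := .inl (i, x) with hadef
  have key : ∀ j, j ≠ i → g⁻¹ (pa (g a)) = .inl (j, false) ∨ g⁻¹ (pa (g a)) = .inl (j, true) := by
    intro j hj
    set c : Om K R := .inl (j, false) with hcdef
    have hpc : pa c = .inl (j, true) := rfl
    have hac : a ≠ c := fun h => hj (congrArg Prod.fst (Sum.inl.inj h)).symm
    have hapc : a ≠ pa c := fun h => hj (congrArg Prod.fst (Sum.inl.inj h)).symm
    have hcc : c ≠ pa c := (pa_ne j false).symm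
    set t0 := swap a (pa a) * swap c (pa c) with ht0
    have ht0T : t0 ∈ T := T.mul_mem (hE (swap_pa_mem a)) (hE (swap_pa_mem c))
    have hs : sign t0 = 1 := by
      rw [ht0, map_mul, sign_swap (Ne.symm ha), sign_swap hcc]; rfl
    have htT := hg t0 ht0T hs
    set t := g * t0 * g⁻¹ with ht
    have hcomm := comm_of_norm T.isPGroup' hE (w := t) (fun x hx => T.mul_mem (T.mul_mem htT hx) (T.inv_mem htT))
    have happ : ∀ b, t (g b) = g (t0 b) := by
      intro b
      rw [ht]
      show g (t0 (g⁻¹ (g b))) = g (t0 b)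
      have h1 : g⁻¹ (g b) = b := by rw [← Perm.mul_apply, inv_mul_cancel, Perm.one_apply]
      rw [h1]
    have h1 : t (g a) = g (pa a) := by
      rw [happ, ht0, Perm.mul_apply, swap_apply_of_ne_of_ne hac hapc, swap_apply_left]
    have h2 : t (pa (g a)) = pa (g (pa a)) := by rw [hcomm, h1]
    set y := g⁻¹ (pa (g a)) with hy
    have hgy : g y = pa (g a) := papp _ _
    by_contra hcon
    push Not at hcon
    obtain ⟨hy1, hy2⟩ := hcon
    by_cases hya : y = a
    · rw [hya] at hgy
      have h3 : pa (g (pa a)) = g (pa a) := by rw [← h2, ← hgy, h1]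
      exact ha (g.injective (pa_fix h3 hgy.symm))
    · by_cases hypa : y = pa a
      · rw [hypa] at hgy
        exact hne hgy
      · have h3 : t0 y = y := by
          have h31 : swap c (pa c) y = y := swap_apply_of_ne_of_ne hy1 hy2
          rw [ht0, Perm.mul_apply, h31, swap_apply_of_ne_of_ne hya hypa]
        have h4 := happ y
        rw [h3, hgy, h2] at h4
        exact ha (g.injective (pa_inj h4))
  have h1 : 1 < (Finset.univ.erase i).card := by
    rw [Finset.card_erase_of_mem (Finset.mem_univ _), Finset.card_univ]; omega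
  obtain ⟨j, hj, j', hj', hjj⟩ := Finset.one_lt_card.1 h1
  have h2 := key j (Finset.ne_of_mem_erase hj)
  have h3 := key j' (Finset.ne_of_mem_erase hj')
  apply hjj
  rcases h2 with h2 | h2 <;> rcases h3 with h3 | h3 <;> rw [h2] at h3 <;> exact congrArg Prod.fst (Sum.inl.inj h3)

end

/-- Sylow 2-subgroups of alternating groups of degree at least 6 are self-normalising -/
theorem alt_norm (n : ℕ) (hn : 6 ≤ n) (S : Sylow 2 (alternatingGroup (Fin n))) (g : alternatingGroup (Fin n))
    (hg : ∀ x ∈ S, g * x * g⁻¹ ∈ S) : g ∈ S := by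
  obtain ⟨T, hT⟩ := Sylow.exists_comap_eq_of_injective S (f := (alternatingGroup (Fin n)).subtype) Subtype.val_injective
  have hST : ∀ x : alternatingGroup (Fin n), x ∈ S ↔ (x : Perm (Fin n)) ∈ T := by
    intro x
    have h1 : x ∈ (S : Subgroup (alternatingGroup (Fin n))) ↔ x ∈ (T : Subgroup (Perm (Fin n))).comap (alternatingGroup (Fin n)).subtype := by
      rw [hT]
    exact h1
  have hc : Fintype.card (Fin n) = Fintype.card (Om (Fin (n / 2)) (Fin (n % 2))) := by
    simp [Om]
    omega
  obtain ⟨e, T', hE, hTT⟩ := exists_model hc T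
  have : Subsingleton (Fin (n % 2)) := by
    rw [Fin.subsingleton_iff_le_one]; omega
  have hsign : ∀ x : Perm (Fin n), sign (e.permCongrHom x) = sign x := fun x => Equiv.Perm.sign_permCongr e x
  have hg' : ∀ x ∈ T', sign x = 1 → e.permCongrHom (g : Perm (Fin n)) * x * (e.permCongrHom (g : Perm (Fin n)))⁻¹ ∈ T' := by
    intro x hx hs
    obtain ⟨y, rfl⟩ := e.permCongrHom.surjective x
    rw [hsign] at hs
    have h1 := hg ⟨y, mem_alternatingGroup.2 hs⟩ ((hST _).2 ((hTT y).2 hx))
    rw [hST, hTT] at h1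
    have h2 : e.permCongrHom ((g * ⟨y, mem_alternatingGroup.2 hs⟩ * g⁻¹ : alternatingGroup (Fin n)) : Perm (Fin n)) =
        e.permCongrHom (g : Perm (Fin n)) * e.permCongrHom y * (e.permCongrHom (g : Perm (Fin n)))⁻¹ := by
      rw [← map_inv, ← map_mul, ← map_mul]; rfl
    rwa [h2] at h1
  rw [hST, hTT]
  refine mem_of_comm T' hE (fun T'' g' h' => sym_norm (n / 2) (Fin (n / 2)) (Fintype.card_fin _) T'' g' h')
    (comm_alt T' hE (by rw [Fintype.card_fin]; omega) hg') (fun x hx => hg' _ hx (sign_lam x))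

theorem coset_inj5 {G : Type*} [Group G] [Finite G] [IsSimpleGroup G] {H : Subgroup G} (hH : H ≠ ⊤) :
    Function.Injective (MulAction.toPermHom G (G ⧸ H)) := by
  rw [← MonoidHom.ker_eq_bot_iff, ← Subgroup.normalCore_eq_ker]
  rcases (inferInstance : H.normalCore.Normal).eq_bot_or_eq_top with h | h
  · exact h
  · exact absurd (top_le_iff.mp (h ▸ H.normalCore_le)) hH

theorem dvd_fact5 {G : Type*} [Group G] [Finite G] [IsSimpleGroup G] {H : Subgroup G} (hH : H ≠ ⊤) :
    Nat.card G ∣ (H.index).factorial := by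
  classical
  have : Fintype (G ⧸ H) := Fintype.ofFinite _
  have h1 := Subgroup.card_dvd_of_injective _ (coset_inj5 hH)
  rw [Nat.card_eq_fintype_card (α := Equiv.Perm (G ⧸ H)), Fintype.card_perm, ← Nat.card_eq_fintype_card] at h1
  exact h1

theorem index_ge5 {G : Type*} [Group G] [Finite G] [IsSimpleGroup G] (h : Nat.card G = 60) {H : Subgroup G} (hH : H ≠ ⊤) :
    5 ≤ H.index := by
  by_contra hcon
  have h1 := dvd_fact5 hH
  rw [h] at h1
  have h2 : H.index ≤ 4 := by omega
  have h3 := Nat.factorial_le h2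
  have h4 := Nat.le_of_dvd (Nat.factorial_pos _) h1
  have h5 : (4 : ℕ).factorial = 24 := by norm_num [Nat.factorial]
  omega

/-- degree 5 -/
theorem five {G : Type*} [Group G] [Finite G] [IsSimpleGroup G] (hG : Nat.card G = 60) {H : Subgroup G} (S : Sylow 2 G)
    (hS : (S : Subgroup G) ≤ H) (g : G) (hg : ∀ x ∈ S, g * x * g⁻¹ ∈ S) : H.map (MulAut.conj g).toMonoidHom = H := by
  classical
  have hS4 : Nat.card (S : Subgroup G) = 4 := by
    rw [Sylow.card_eq_multiplicity, hG]
    have hf2 : (60 : ℕ).factorization 2 = 2 := by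
      rw [show (60 : ℕ) = 2 ^ 2 * 15 by norm_num, Nat.factorization_mul (by norm_num) (by norm_num), Finsupp.add_apply,
        Nat.Prime.factorization_pow (by norm_num), Finsupp.single_eq_same, Nat.factorization_eq_zero_of_not_dvd (by norm_num)]
    rw [hf2]; norm_num
  have hcard := H.card_mul_index
  rw [hG] at hcard
  have h4 : 4 ∣ Nat.card H := by rw [← hS4]; exact Subgroup.card_dvd_of_le hS
  have hSS : S.1.map (MulAut.conj g).toMonoidHom = S.1 := by
    apply Subgroup.eq_of_le_of_card_ge
    · rintro _ ⟨x, hx, rfl⟩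
      exact hg x hx
    · rw [Nat.card_congr ((S : Subgroup G).equivMapOfInjective (MulAut.conj g).toMonoidHom (MulAut.conj g).injective).toEquiv.symm]
  have hmem : g ∈ H → H.map (MulAut.conj g).toMonoidHom = H := by
    intro hgH
    apply le_antisymm
    · rintro _ ⟨x, hx, rfl⟩
      exact H.mul_mem (H.mul_mem hgH hx) (H.inv_mem hgH)
    · intro x hx
      refine ⟨g⁻¹ * x * g, H.mul_mem (H.mul_mem (H.inv_mem hgH) hx) hgH, ?_⟩
      show g * (g⁻¹ * x * g) * g⁻¹ = x
      group
  obtain ⟨m, hm⟩ := h4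
  rw [hm] at hcard
  have h15 : m * H.index = 15 := by nlinarith
  by_cases htop : H = ⊤
  · exact hmem (by rw [htop]; trivial)
  have h5 := index_ge5 hG htop
  have hm3 : m ≤ 3 := by
    by_contra hcon
    push Not at hcon
    nlinarith
  have hm1 : m ≠ 0 := by rintro rfl; omega
  have hm2 : m ≠ 2 := by rintro rfl; omega
  have hm13 : m = 1 ∨ m = 3 := by omega
  rcases hm13 with rfl | rfl
  · -- H = S
    have h1 : (S : Subgroup G) = H := Subgroup.eq_of_le_of_card_ge hS (by rw [hS4, hm])
    rw [← h1]; exact hSS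
  · -- index 5
    have hidx : H.index = 5 := by omega
    have hX : Nat.card (G ⧸ H) = 5 := hidx
    haveI : Fintype (G ⧸ H) := Fintype.ofFinite _
    apply hmem
    -- fixed points of S
    have hmod := (S.isPGroup'.card_modEq_card_fixedPoints (G ⧸ H))
    rw [hX] at hmod
    set X0 := MulAction.fixedPoints (S : Subgroup G) (G ⧸ H) with hX0
    have hH0 : ((1 : G) : G ⧸ H) ∈ X0 := by
      intro s
      show (((s : G) * 1 : G) : G ⧸ H) = ((1 : G) : G ⧸ H)
      rw [mul_one]
      refine QuotientGroup.eq.2 ?_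
      rw [mul_one]
      exact H.inv_mem (hS s.2)
    have hgH0 : ((g : G) : G ⧸ H) ∈ X0 := by
      intro s
      have h1 : g⁻¹ * (s : G) * g ∈ (S : Subgroup G) := by
        have h2 : (s : G) ∈ S.1.map (MulAut.conj g).toMonoidHom := by rw [hSS]; exact s.2
        obtain ⟨y, hy, hy2⟩ := h2
        have h3 : g * y * g⁻¹ = s := hy2
        rw [← h3]
        have : g⁻¹ * (g * y * g⁻¹) * g = y := by group
        rw [this]; exact hy
      show (((s : G) * g : G) : G ⧸ H) = (g : G ⧸ H)
      refine QuotientGroup.eq.2 ?_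
      have h2 : ((s : G) * g)⁻¹ * g = (g⁻¹ * (s : G) * g)⁻¹ := by group
      rw [h2]
      exact H.inv_mem (hS h1)
    by_contra hgH
    have hne : ((1 : G) : G ⧸ H) ≠ (g : G ⧸ H) := by
      intro h
      apply hgH
      have := QuotientGroup.eq.1 h
      simpa using this
    -- at least three fixed points
    have hX0c : 2 ≤ Nat.card X0 := by
      have h1 : ({((1 : G) : G ⧸ H), (g : G ⧸ H)} : Set (G ⧸ H)) ⊆ X0 := by
        rintro x (rfl | rfl)
        · exact hH0
        · exact hgH0
      have h2 := Set.ncard_le_ncard h1 (Set.toFinite _)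
      rw [Set.ncard_pair hne] at h2
      exact h2
    have hX03 : 3 ≤ Nat.card X0 := by
      have h1 : 5 % 2 = Nat.card X0 % 2 := hmod
      omega
    -- the complement
    let P : (G ⧸ H) → Prop := fun x => x ∉ X0
    have hPc : Nat.card {x // P x} ≤ 2 := by
      have h1 : Nat.card {x // P x} = Nat.card (X0ᶜ : Set (G ⧸ H)) := rfl
      have h2 := Set.ncard_add_ncard_compl X0
      rw [hX] at h2
      have h3 : Set.ncard X0 = Nat.card X0 := rfl
      have h4 : Set.ncard X0ᶜ = Nat.card (X0ᶜ : Set (G ⧸ H)) := rfl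
      omega
    let ψ0 : ↥(S : Subgroup G) → {f : Perm (G ⧸ H) // ∀ a, ¬ P a → f a = a} := fun s =>
      ⟨MulAction.toPermHom G (G ⧸ H) s, fun a ha => (not_not.1 ha) s⟩
    have hψ0 : Function.Injective ψ0 := by
      intro s t h
      exact Subtype.ext (coset_inj5 htop (congrArg Subtype.val h))
    have h1 := Nat.card_le_card_of_injective ψ0 hψ0
    rw [hS4, ← Nat.card_congr (Equiv.Perm.subtypeEquivSubtypePerm P), Nat.card_perm] at h1
    have h2 := Nat.factorial_le hPc
    have h3 : (2 : ℕ).factorial = 2 := rfl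
    have h4 : 4 ≤ (Nat.card {x // P x}).factorial := h1
    omega

theorem alt_pronormal (n : ℕ) (hn : 5 ≤ n) (H : Subgroup (alternatingGroup (Fin n))) (hH : Odd H.index) : Cfsg.IsPronormal H := by
  have h2 : ¬ 2 ∣ H.index := fun h => (Nat.not_even_iff_odd.2 hH) (even_iff_two_dvd.2 h)
  haveI : Fact (Nat.Prime 2) := ⟨Nat.prime_two⟩
  obtain ⟨S, hS⟩ := exists_sylow_le (p := 2) h2
  refine pronormal_of S hS (fun g hg => ?_)
  rcases Nat.lt_or_ge n 6 with h6 | h6
  · have h5 : n = 5 := by omega
    subst h5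
    haveI : IsSimpleGroup (alternatingGroup (Fin 5)) := alternatingGroup.isSimpleGroup_five
    refine five ?_ S hS g hg
    rw [nat_card_alternatingGroup]
    simp [Nat.factorial]
  · have hgH := hS (alt_norm n h6 S g hg)
    apply le_antisymm
    · rintro _ ⟨x, hx, rfl⟩
      exact H.mul_mem (H.mul_mem hgH hx) (H.inv_mem hgH)
    · intro x hx
      refine ⟨g⁻¹ * x * g, H.mul_mem (H.mul_mem (H.inv_mem hgH) hx) hgH, ?_⟩
      show g * (g⁻¹ * x * g) * g⁻¹ = x
      group

end Cfsg.Agent.Lib.AltSyl
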