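import Mathlib
import Cfsg.Agent.Lib.SLn

/-! Automorphisms of `PSL_n`: conjugation by `GL_n`, field automorphisms, inverse transpose;
transvections `1 + v ⊗ w`. -/

set_option linter.all false

namespace Cfsg.Agent.Lib.AutPSL

open Matrix

section Desc

variable {G : Type*} [Group G]

/-- automorphisms act on the central quotient -/
def desc : MulAut G →* MulAut (G ⧸ Subgroup.center G) where
  toFun f := QuotientGroup.congr (Subgroup.center G) (Subgroup.center G) f (by
    have h := (Subgroup.characteristic_iff_map_eq (H := Subgroup.center G)).mp inferInstance f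
    exact h)
  map_one' := by
    ext x
    induction x using QuotientGroup.induction_on
    rfl
  map_mul' f g := by
    ext x
    induction x using QuotientGroup.induction_on
    rfl

theorem desc_mk (f : MulAut G) (s : G) :
    desc f (QuotientGroup.mk s) = QuotientGroup.mk (f s) := rfl

theorem eq_desc_iff (f : MulAut G) (β : MulAut (G ⧸ Subgroup.center G)) :
    β = desc f ↔ ∀ s : G, β (QuotientGroup.mk s) = QuotientGroup.mk (f s) := by
  constructor
  · rintro rfl s
    rfl
  · intro h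
    ext x
    induction x using QuotientGroup.induction_on with
    | H s => exact h s

end Desc

section Auts

variable {n : ℕ} {F : Type*} [Field F]

local notation "SL" => Matrix.SpecialLinearGroup (Fin n) F

/-- conjugation by an invertible matrix -/
def cj (g : GL (Fin n) F) : MulAut SL where
  toFun s := ⟨(g : Matrix (Fin n) (Fin n) F) * (s : Matrix (Fin n) (Fin n) F) *
    ((g⁻¹ : GL (Fin n) F) : Matrix (Fin n) (Fin n) F), by
      rw [Matrix.det_mul, Matrix.det_mul, s.2, mul_one, ← Matrix.det_mul, ← Units.val_mul,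
        mul_inv_cancel, Units.val_one, Matrix.det_one]⟩
  invFun s := ⟨((g⁻¹ : GL (Fin n) F) : Matrix (Fin n) (Fin n) F) *
    (s : Matrix (Fin n) (Fin n) F) * (g : Matrix (Fin n) (Fin n) F), by
      rw [Matrix.det_mul, Matrix.det_mul, s.2, mul_one, ← Matrix.det_mul, ← Units.val_mul,
        inv_mul_cancel, Units.val_one, Matrix.det_one]⟩
  left_inv s := by
    apply Subtype.ext
    show ((g⁻¹ : GL (Fin n) F) : Matrix (Fin n) (Fin n) F) *
      ((g : Matrix (Fin n) (Fin n) F) * (s : Matrix (Fin n) (Fin n) F) *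
      ((g⁻¹ : GL (Fin n) F) : Matrix (Fin n) (Fin n) F)) * (g : Matrix (Fin n) (Fin n) F) = s
    have h : ((g⁻¹ : GL (Fin n) F) : Matrix (Fin n) (Fin n) F) * (g : Matrix (Fin n) (Fin n) F) = 1 := by
      rw [← Units.val_mul, inv_mul_cancel, Units.val_one]
    calc _ = (((g⁻¹ : GL (Fin n) F) : Matrix (Fin n) (Fin n) F) * (g : Matrix (Fin n) (Fin n) F)) *
          (s : Matrix (Fin n) (Fin n) F) * (((g⁻¹ : GL (Fin n) F) : Matrix (Fin n) (Fin n) F) *
          (g : Matrix (Fin n) (Fin n) F)) := by simp only [Matrix.mul_assoc]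
      _ = _ := by rw [h, one_mul, mul_one]
  right_inv s := by
    apply Subtype.ext
    show (g : Matrix (Fin n) (Fin n) F) *
      (((g⁻¹ : GL (Fin n) F) : Matrix (Fin n) (Fin n) F) * (s : Matrix (Fin n) (Fin n) F) *
      (g : Matrix (Fin n) (Fin n) F)) * ((g⁻¹ : GL (Fin n) F) : Matrix (Fin n) (Fin n) F) = s
    have h : (g : Matrix (Fin n) (Fin n) F) * ((g⁻¹ : GL (Fin n) F) : Matrix (Fin n) (Fin n) F) = 1 := by
      rw [← Units.val_mul, mul_inv_cancel, Units.val_one]
    calc _ = ((g : Matrix (Fin n) (Fin n) F) * ((g⁻¹ : GL (Fin n) F) : Matrix (Fin n) (Fin n) F)) *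
          (s : Matrix (Fin n) (Fin n) F) * ((g : Matrix (Fin n) (Fin n) F) *
          ((g⁻¹ : GL (Fin n) F) : Matrix (Fin n) (Fin n) F)) := by simp only [Matrix.mul_assoc]
      _ = _ := by rw [h, one_mul, mul_one]
  map_mul' s t := by
    apply Subtype.ext
    show (g : Matrix (Fin n) (Fin n) F) * ((s : Matrix (Fin n) (Fin n) F) *
      (t : Matrix (Fin n) (Fin n) F)) * ((g⁻¹ : GL (Fin n) F) : Matrix (Fin n) (Fin n) F)
      = ((g : Matrix (Fin n) (Fin n) F) * (s : Matrix (Fin n) (Fin n) F) *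
        ((g⁻¹ : GL (Fin n) F) : Matrix (Fin n) (Fin n) F)) *
        ((g : Matrix (Fin n) (Fin n) F) * (t : Matrix (Fin n) (Fin n) F) *
        ((g⁻¹ : GL (Fin n) F) : Matrix (Fin n) (Fin n) F))
    have h : ((g⁻¹ : GL (Fin n) F) : Matrix (Fin n) (Fin n) F) * (g : Matrix (Fin n) (Fin n) F) = 1 := by
      rw [← Units.val_mul, inv_mul_cancel, Units.val_one]
    calc _ = (g : Matrix (Fin n) (Fin n) F) * (s : Matrix (Fin n) (Fin n) F) *
          (((g⁻¹ : GL (Fin n) F) : Matrix (Fin n) (Fin n) F) * (g : Matrix (Fin n) (Fin n) F)) *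
          ((t : Matrix (Fin n) (Fin n) F) * ((g⁻¹ : GL (Fin n) F) : Matrix (Fin n) (Fin n) F)) := by
          rw [h, mul_one]; simp only [Matrix.mul_assoc]
      _ = _ := by simp only [Matrix.mul_assoc]

theorem cj_coe (g : GL (Fin n) F) (s : SL) : ((cj g s : SL) : Matrix (Fin n) (Fin n) F)
    = (g : Matrix (Fin n) (Fin n) F) * (s : Matrix (Fin n) (Fin n) F) *
      ((g⁻¹ : GL (Fin n) F) : Matrix (Fin n) (Fin n) F) := rfl

theorem cj_mul (g h : GL (Fin n) F) : cj (g * h) = cj g * cj h := by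
  ext1 s
  apply Subtype.ext
  show ((g * h : GL (Fin n) F) : Matrix (Fin n) (Fin n) F) * (s : Matrix (Fin n) (Fin n) F) *
      (((g * h)⁻¹ : GL (Fin n) F) : Matrix (Fin n) (Fin n) F) =
    (g : Matrix (Fin n) (Fin n) F) * ((h : Matrix (Fin n) (Fin n) F) *
      (s : Matrix (Fin n) (Fin n) F) * ((h⁻¹ : GL (Fin n) F) : Matrix (Fin n) (Fin n) F)) *
      ((g⁻¹ : GL (Fin n) F) : Matrix (Fin n) (Fin n) F)
  rw [_root_.mul_inv_rev, Units.val_mul, Units.val_mul]
  simp only [Matrix.mul_assoc]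

theorem cj_one : cj (1 : GL (Fin n) F) = 1 := by
  ext1 s
  apply Subtype.ext
  rw [cj_coe]
  simp

/-- conjugation as a homomorphism -/
def cjHom : GL (Fin n) F →* MulAut SL where
  toFun := cj
  map_one' := cj_one
  map_mul' := cj_mul

theorem cj_inv (g : GL (Fin n) F) : cj g⁻¹ = (cj g)⁻¹ := map_inv (cjHom (n := n) (F := F)) g

/-- entrywise field automorphism -/
def fa (σ : F ≃+* F) : MulAut SL where
  toFun s := Matrix.SpecialLinearGroup.map (σ : F →+* F) s
  invFun s := Matrix.SpecialLinearGroup.map (σ.symm : F →+* F) s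
  left_inv s := by
    apply Subtype.ext
    ext i j
    show σ.symm (σ (s i j)) = s i j
    simp
  right_inv s := by
    apply Subtype.ext
    ext i j
    show σ (σ.symm (s i j)) = s i j
    simp
  map_mul' s t := map_mul _ s t

theorem fa_coe (σ : F ≃+* F) (s : SL) : ((fa σ s : SL) : Matrix (Fin n) (Fin n) F)
    = (s : Matrix (Fin n) (Fin n) F).map σ := rfl

theorem fa_mul (σ τ : F ≃+* F) : (fa (σ * τ) : MulAut SL) = fa σ * fa τ := rfl

theorem fa_one : (fa (1 : F ≃+* F) : MulAut SL) = 1 := rfl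

/-- field automorphisms as a homomorphism -/
def faHom : (F ≃+* F) →* MulAut SL where
  toFun := fa
  map_one' := fa_one
  map_mul' := fa_mul

/-- inverse transpose -/
def it : MulAut SL where
  toFun s := Matrix.SpecialLinearGroup.transpose s⁻¹
  invFun s := Matrix.SpecialLinearGroup.transpose s⁻¹
  left_inv s := by
    apply Subtype.ext
    show Matrix.transpose (Matrix.adjugate (Matrix.transpose (Matrix.adjugate
      (s : Matrix (Fin n) (Fin n) F)))) = s
    rw [Matrix.adjugate_transpose, Matrix.transpose_transpose]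
    have : (s⁻¹)⁻¹ = s := inv_inv s
    exact congrArg Subtype.val this
  right_inv s := by
    apply Subtype.ext
    show Matrix.transpose (Matrix.adjugate (Matrix.transpose (Matrix.adjugate
      (s : Matrix (Fin n) (Fin n) F)))) = s
    rw [Matrix.adjugate_transpose, Matrix.transpose_transpose]
    have : (s⁻¹)⁻¹ = s := inv_inv s
    exact congrArg Subtype.val this
  map_mul' s t := by
    apply Subtype.ext
    show Matrix.transpose (((s * t)⁻¹ : SL) : Matrix (Fin n) (Fin n) F) =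
      Matrix.transpose ((s⁻¹ : SL) : Matrix (Fin n) (Fin n) F) *
      Matrix.transpose ((t⁻¹ : SL) : Matrix (Fin n) (Fin n) F)
    rw [_root_.mul_inv_rev, ← Matrix.transpose_mul]
    rfl

theorem it_coe (s : SL) : ((it s : SL) : Matrix (Fin n) (Fin n) F)
    = Matrix.transpose ((s⁻¹ : SL) : Matrix (Fin n) (Fin n) F) := rfl

theorem it_mul_it : (it : MulAut SL) * it = 1 := by
  ext1 s
  exact (it : MulAut SL).left_inv s

theorem it_inv : (it : MulAut SL)⁻¹ = it := inv_eq_of_mul_eq_one_left it_mul_it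

theorem coe_inv_eq (s : SL) : ((s⁻¹ : SL) : Matrix (Fin n) (Fin n) F)
    = (s : Matrix (Fin n) (Fin n) F)⁻¹ := by
  symm
  apply Matrix.inv_eq_left_inv
  have : s⁻¹ * s = 1 := inv_mul_cancel s
  exact congrArg Subtype.val this

theorem it_fa (σ : F ≃+* F) : (it : MulAut SL) * fa σ = fa σ * it := by
  ext1 s
  apply Subtype.ext
  show Matrix.transpose (((fa σ s)⁻¹ : SL) : Matrix (Fin n) (Fin n) F) =
    (Matrix.transpose ((s⁻¹ : SL) : Matrix (Fin n) (Fin n) F)).map σ
  rw [← map_inv, fa_coe, Matrix.transpose_map]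

/-- inverse transpose on `GL` -/
def itGL (g : GL (Fin n) F) : GL (Fin n) F where
  val := Matrix.transpose ((g⁻¹ : GL (Fin n) F) : Matrix (Fin n) (Fin n) F)
  inv := Matrix.transpose (g : Matrix (Fin n) (Fin n) F)
  val_inv := by
    rw [← Matrix.transpose_mul, ← Units.val_mul, mul_inv_cancel, Units.val_one,
      Matrix.transpose_one]
  inv_val := by
    rw [← Matrix.transpose_mul, ← Units.val_mul, inv_mul_cancel, Units.val_one,
      Matrix.transpose_one]

theorem it_cj (g : GL (Fin n) F) : (it : MulAut SL) * cj g = cj (itGL g) * it := by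
  ext1 s
  apply Subtype.ext
  show Matrix.transpose (((cj g s)⁻¹ : SL) : Matrix (Fin n) (Fin n) F) =
    Matrix.transpose ((g⁻¹ : GL (Fin n) F) : Matrix (Fin n) (Fin n) F) *
      Matrix.transpose ((s⁻¹ : SL) : Matrix (Fin n) (Fin n) F) *
      Matrix.transpose (g : Matrix (Fin n) (Fin n) F)
  rw [← map_inv, cj_coe, Matrix.transpose_mul, Matrix.transpose_mul, Matrix.mul_assoc]

/-- field automorphism on `GL` -/
def faGL (σ : F ≃+* F) : GL (Fin n) F →* GL (Fin n) F :=
  Matrix.GeneralLinearGroup.map (σ : F →+* F)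

theorem faGL_coe (σ : F ≃+* F) (g : GL (Fin n) F) :
    ((faGL σ g : GL (Fin n) F) : Matrix (Fin n) (Fin n) F)
      = (g : Matrix (Fin n) (Fin n) F).map σ := rfl

theorem fa_cj (σ : F ≃+* F) (g : GL (Fin n) F) :
    (fa σ : MulAut SL) * cj g = cj (faGL σ g) * fa σ := by
  ext1 s
  apply Subtype.ext
  show (((g : Matrix (Fin n) (Fin n) F) * (s : Matrix (Fin n) (Fin n) F) *
      ((g⁻¹ : GL (Fin n) F) : Matrix (Fin n) (Fin n) F))).map σ =
    ((faGL σ g : GL (Fin n) F) : Matrix (Fin n) (Fin n) F) *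
      (s : Matrix (Fin n) (Fin n) F).map σ *
      (((faGL σ g)⁻¹ : GL (Fin n) F) : Matrix (Fin n) (Fin n) F)
  rw [← map_inv, faGL_coe, faGL_coe]
  have h := map_mul (RingHom.mapMatrix (m := Fin n) (σ : F →+* F))
  have e1 := h ((g : Matrix (Fin n) (Fin n) F) * (s : Matrix (Fin n) (Fin n) F))
    ((g⁻¹ : GL (Fin n) F) : Matrix (Fin n) (Fin n) F)
  have e2 := h (g : Matrix (Fin n) (Fin n) F) (s : Matrix (Fin n) (Fin n) F)
  rw [e2] at e1
  exact e1

end Auts

section Tv

variable {n : ℕ} {F : Type*} [Field F]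

local notation "SL" => Matrix.SpecialLinearGroup (Fin n) F

theorem det_tv (v w : Fin n → F) (h : w ⬝ᵥ v = 0) : (1 + vecMulVec v w).det = 1 := by
  have := Matrix.det_one_add_replicateCol_mul_replicateRow (ι := Unit) v w
  rw [h, add_zero] at this
  rw [← this]
  congr 2
  ext i j
  simp [vecMulVec, Matrix.mul_apply]

/-- auxiliary constructor -/
def tv0 (v w : Fin n → F) (h : w ⬝ᵥ v = 0) : SL := ⟨1 + vecMulVec v w, det_tv v w h⟩

open Classical in
/-- the transvection `1 + v ⊗ w` -/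
noncomputable def tv (v w : Fin n → F) : SL :=
  if h : w ⬝ᵥ v = 0 then tv0 v w h else 1

theorem tv_coe {v w : Fin n → F} (h : w ⬝ᵥ v = 0) :
    ((tv v w : SL) : Matrix (Fin n) (Fin n) F) = 1 + vecMulVec v w := by
  rw [tv, dif_pos h]
  rfl

theorem tv_smul_comm (v w : Fin n → F) {a : F} (ha : a ≠ 0) : tv (a • v) w = tv v (a • w) := by
  by_cases h : w ⬝ᵥ v = 0
  · apply Subtype.ext
    rw [tv_coe, tv_coe, Matrix.smul_vecMulVec, Matrix.vecMulVec_smul]
    · rw [smul_dotProduct, h, smul_zero]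
    · rw [dotProduct_smul, h, smul_zero]
  · have h1 : ¬ (w ⬝ᵥ (a • v) = 0) := by
      rw [dotProduct_smul, smul_eq_mul]; exact mul_ne_zero ha h
    have h2 : ¬ ((a • w) ⬝ᵥ v = 0) := by
      rw [smul_dotProduct, smul_eq_mul]; exact mul_ne_zero ha h
    rw [tv, tv, dif_neg h1, dif_neg h2]

theorem vecMulVec_zero_left' (w : Fin n → F) : vecMulVec (0 : Fin n → F) w = 0 := by
  ext i j; simp [vecMulVec]

theorem vecMulVec_zero_right' (v : Fin n → F) : vecMulVec v (0 : Fin n → F) = 0 := by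
  ext i j; simp [vecMulVec]

theorem tv_zero_left (w : Fin n → F) : tv (0 : Fin n → F) w = 1 := by
  apply Subtype.ext
  rw [tv_coe (by simp), vecMulVec_zero_left', add_zero]
  rfl

theorem tv_zero_right (v : Fin n → F) : tv v (0 : Fin n → F) = 1 := by
  apply Subtype.ext
  rw [tv_coe (by simp), vecMulVec_zero_right', add_zero]
  rfl

theorem tv_mul_left {v v' w : Fin n → F} (h : w ⬝ᵥ v = 0) (h' : w ⬝ᵥ v' = 0) :
    tv v w * tv v' w = tv (v + v') w := by
  apply Subtype.ext
  show ((tv v w : SL) : Matrix (Fin n) (Fin n) F) * ((tv v' w : SL) : Matrix (Fin n) (Fin n) F) = _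
  rw [tv_coe h, tv_coe h', tv_coe (by rw [dotProduct_add, h, h', add_zero])]
  have e : vecMulVec v w * vecMulVec v' w = 0 := by
    rw [Matrix.vecMulVec_mul_vecMulVec, h', zero_smul, vecMulVec_zero_right']
  rw [Matrix.mul_add, Matrix.add_mul, Matrix.add_mul, e, Matrix.add_vecMulVec]
  simp only [Matrix.mul_one, Matrix.one_mul, add_zero, add_assoc]

theorem tv_mul_right {v w w' : Fin n → F} (h : w ⬝ᵥ v = 0) (h' : w' ⬝ᵥ v = 0) :
    tv v w * tv v w' = tv v (w + w') := by
  apply Subtype.ext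
  show ((tv v w : SL) : Matrix (Fin n) (Fin n) F) * ((tv v w' : SL) : Matrix (Fin n) (Fin n) F) = _
  rw [tv_coe h, tv_coe h', tv_coe (by rw [add_dotProduct, h, h', add_zero])]
  have e : vecMulVec v w * vecMulVec v w' = 0 := by
    rw [Matrix.vecMulVec_mul_vecMulVec, h, zero_smul, vecMulVec_zero_right']
  rw [Matrix.mul_add, Matrix.add_mul, Matrix.add_mul, e, Matrix.vecMulVec_add]
  simp only [Matrix.mul_one, Matrix.one_mul, add_zero, add_assoc]

theorem cj_tv (g : GL (Fin n) F) {v w : Fin n → F} (h : w ⬝ᵥ v = 0) :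
    cj g (tv v w) = tv ((g : Matrix (Fin n) (Fin n) F) *ᵥ v)
      (w ᵥ* ((g⁻¹ : GL (Fin n) F) : Matrix (Fin n) (Fin n) F)) := by
  have hg : ((g⁻¹ : GL (Fin n) F) : Matrix (Fin n) (Fin n) F) * (g : Matrix (Fin n) (Fin n) F) = 1 := by
    rw [← Units.val_mul, inv_mul_cancel, Units.val_one]
  have hg' : (g : Matrix (Fin n) (Fin n) F) * ((g⁻¹ : GL (Fin n) F) : Matrix (Fin n) (Fin n) F) = 1 := by
    rw [← Units.val_mul, mul_inv_cancel, Units.val_one]
  have h2 : (w ᵥ* ((g⁻¹ : GL (Fin n) F) : Matrix (Fin n) (Fin n) F)) ⬝ᵥ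
      ((g : Matrix (Fin n) (Fin n) F) *ᵥ v) = 0 := by
    rw [Matrix.dotProduct_mulVec, Matrix.vecMul_vecMul, hg, Matrix.vecMul_one, h]
  apply Subtype.ext
  rw [cj_coe, tv_coe h, tv_coe h2, Matrix.mul_add, Matrix.add_mul, Matrix.mul_one, hg',
    Matrix.mul_vecMulVec, Matrix.vecMulVec_mul]

theorem fa_tv (σ : F ≃+* F) {v w : Fin n → F} (h : w ⬝ᵥ v = 0) :
    fa σ (tv v w) = tv (fun i => σ (v i)) (fun i => σ (w i)) := by
  have h2 : (fun i => σ (w i)) ⬝ᵥ (fun i => σ (v i)) = 0 := by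
    simp only [dotProduct] at h ⊢
    rw [← map_zero σ, ← h, map_sum]
    simp
  apply Subtype.ext
  rw [fa_coe, tv_coe h, tv_coe h2]
  ext i j
  simp only [Matrix.map_apply, Matrix.add_apply, vecMulVec_apply, map_add, map_mul]
  congr 1
  by_cases hij : i = j
  · subst hij; simp
  · simp [Matrix.one_apply, hij]

theorem tv_inv {v w : Fin n → F} (h : w ⬝ᵥ v = 0) : (tv v w)⁻¹ = tv (-v) w := by
  rw [inv_eq_iff_mul_eq_one, tv_mul_left h (by rw [dotProduct_neg, h, neg_zero]), add_neg_cancel,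
    tv_zero_left]

theorem it_tv {v w : Fin n → F} (h : w ⬝ᵥ v = 0) : it (tv v w) = tv (-w) v := by
  have h1 : w ⬝ᵥ (-v) = 0 := by rw [dotProduct_neg, h, neg_zero]
  have h2 : v ⬝ᵥ (-w) = 0 := by rw [dotProduct_neg, dotProduct_comm, h, neg_zero]
  apply Subtype.ext
  rw [it_coe, tv_inv h, tv_coe h1, tv_coe h2]
  ext i j
  simp only [Matrix.transpose_apply, Matrix.add_apply, vecMulVec_apply, Pi.neg_apply,
    Matrix.one_apply, eq_comm (a := j) (b := i)]
  ring

end Tv

end Cfsg.Agent.Lib.AutPSL
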