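import Mathlib
import Cfsg.Agent.Lib.AutPSL1
import Cfsg.Agent.Lib.GLSL

/-! Automorphisms of `PSL_n(q)` permute the transvection groups. -/

set_option linter.all false

namespace Cfsg.Agent.Lib.AutPSL

open Matrix

section Eq

variable {n : ℕ} {F : Type*} [Field F]

local notation "SL" => Matrix.SpecialLinearGroup (Fin n) F
local notation "PSL" => Matrix.ProjectiveSpecialLinearGroup (Fin n) F

/-- the class in `PSL` -/
def mk (s : Matrix.SpecialLinearGroup (Fin n) F) : Matrix.ProjectiveSpecialLinearGroup (Fin n) F :=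
  QuotientGroup.mk s

theorem mk_mul (s t : SL) : mk (s * t) = mk s * mk t := rfl
theorem mk_inv (s : SL) : mk s⁻¹ = (mk s)⁻¹ := rfl
theorem mk_one : mk (1 : SL) = 1 := rfl
theorem mk_surj (x : PSL) : ∃ s : SL, mk s = x := QuotientGroup.mk_surjective x

theorem mk_eq_iff (a b : SL) : mk a = mk b ↔
    ∃ r : F, (b : Matrix (Fin n) (Fin n) F) = r • (a : Matrix (Fin n) (Fin n) F) := by
  rw [mk, mk, QuotientGroup.eq]
  constructor
  · intro h
    obtain ⟨r, -, hr⟩ := Matrix.SpecialLinearGroup.mem_center_iff.mp h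
    refine ⟨r, ?_⟩
    have : b = a * (a⁻¹ * b) := by group
    rw [this]
    show (a : Matrix (Fin n) (Fin n) F) * ((a⁻¹ * b : SL) : Matrix (Fin n) (Fin n) F) = _
    rw [← hr]
    ext i j
    simp [Matrix.scalar_apply, Matrix.mul_diagonal, mul_comm]
  · rintro ⟨r, hr⟩
    have h1 : ((a⁻¹ * b : SL) : Matrix (Fin n) (Fin n) F) = r • 1 := by
      show ((a⁻¹ : SL) : Matrix (Fin n) (Fin n) F) * (b : Matrix (Fin n) (Fin n) F) = _
      rw [hr, Matrix.mul_smul]
      congr 1
      have : a⁻¹ * a = 1 := inv_mul_cancel a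
      exact congrArg Subtype.val this
    rw [Subgroup.mem_center_iff]
    intro g
    apply Subtype.ext
    show (g : Matrix (Fin n) (Fin n) F) * ((a⁻¹ * b : SL) : Matrix (Fin n) (Fin n) F)
      = ((a⁻¹ * b : SL) : Matrix (Fin n) (Fin n) F) * (g : Matrix (Fin n) (Fin n) F)
    rw [h1]
    simp

theorem mk_tv_eq (hn : 1 ≤ n) {v w v' w' : Fin n → F} (h : w ⬝ᵥ v = 0) (h' : w' ⬝ᵥ v' = 0)
    (he : mk (tv v w) = mk (tv v' w')) : vecMulVec v w = vecMulVec v' w' := by
  obtain ⟨r, hr⟩ := (mk_eq_iff _ _).mp he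
  rw [tv_coe h, tv_coe h'] at hr
  by_cases hr1 : r = 1
  · subst hr1
    rw [one_smul] at hr
    exact (add_left_cancel hr).symm
  · exfalso
    have hN : vecMulVec v w * vecMulVec v w = 0 := by
      rw [Matrix.vecMulVec_mul_vecMulVec, h, zero_smul, vecMulVec_zero_right']
    have hN' : vecMulVec v' w' * vecMulVec v' w' = 0 := by
      rw [Matrix.vecMulVec_mul_vecMulVec, h', zero_smul, vecMulVec_zero_right']
    have e1 : vecMulVec v' w' = (r - 1) • (1 : Matrix (Fin n) (Fin n) F) + r • vecMulVec v w := by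
      have : vecMulVec v' w' = r • (1 + vecMulVec v w) - 1 := by rw [← hr]; abel
      rw [this, smul_add, sub_smul, one_smul]; abel
    have e2 : (r - 1) ^ 2 • (1 : Matrix (Fin n) (Fin n) F) + (2 * r * (r - 1)) • vecMulVec v w = 0 := by
      have : vecMulVec v' w' * vecMulVec v' w' = (r - 1) ^ 2 • (1 : Matrix (Fin n) (Fin n) F)
          + (2 * r * (r - 1)) • vecMulVec v w := by
        rw [e1]
        rw [add_mul, mul_add, mul_add, smul_mul_smul_comm, smul_mul_smul_comm, smul_mul_smul_comm,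
          smul_mul_smul_comm, hN, one_mul, one_mul, mul_one, smul_zero, add_zero, add_assoc,
          ← add_smul]
        congr 2 <;> ring
      rw [← this, hN']
    have e3 : (r - 1) ^ 2 • vecMulVec v w = 0 := by
      have := congrArg (fun M => M * vecMulVec v w) e2
      simp only [add_mul, smul_mul_assoc, one_mul, hN, smul_zero, add_zero, zero_mul] at this
      exact this
    have hr2 : (r - 1) ^ 2 ≠ 0 := pow_ne_zero _ (sub_ne_zero.mpr hr1)
    have e4 : vecMulVec v w = 0 := (smul_eq_zero.mp e3).resolve_left hr2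
    rw [e4, smul_zero, add_zero] at e2
    have : (1 : Matrix (Fin n) (Fin n) F) = 0 := (smul_eq_zero.mp e2).resolve_left hr2
    have h00 := congrFun (congrFun this ⟨0, hn⟩) ⟨0, hn⟩
    simp at h00

theorem vecMulVec_eq_zero {v w : Fin n → F} : vecMulVec v w = 0 ↔ v = 0 ∨ w = 0 := by
  constructor
  · intro h
    by_contra hcon
    push Not at hcon
    obtain ⟨i, hi⟩ := Function.ne_iff.mp hcon.1
    obtain ⟨j, hj⟩ := Function.ne_iff.mp hcon.2
    have := congrFun (congrFun h i) j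
    rw [vecMulVec_apply] at this
    rcases mul_eq_zero.mp this with h | h
    · exact hi h
    · exact hj h
  · rintro (rfl | rfl)
    · exact vecMulVec_zero_left' w
    · exact vecMulVec_zero_right' v

theorem mk_tv_ne_one (hn : 1 ≤ n) {v w : Fin n → F} (h : w ⬝ᵥ v = 0) (hv : v ≠ 0) (hw : w ≠ 0) :
    mk (tv v w) ≠ 1 := by
  intro he
  have h0 : mk (tv v w) = mk (tv (0 : Fin n → F) w) := by rw [he, tv_zero_left, mk_one]
  have := mk_tv_eq hn h (by simp) h0
  rw [vecMulVec_zero_left', vecMulVec_eq_zero] at this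
  rcases this with h | h
  · exact hv h
  · exact hw h

/-- parallel from equality of nonzero rank-one matrices -/
theorem parallel_of_eq {v w v' w' : Fin n → F} (hw : w ≠ 0) (hv' : v' ≠ 0)
    (h : vecMulVec v w = vecMulVec v' w') :
    (∃ c : F, v = c • v') ∧ (v ≠ 0 → ∃ c : F, w' = c • w) := by
  constructor
  · obtain ⟨j, hj⟩ := Function.ne_iff.mp hw
    have hj : w j ≠ 0 := hj
    refine ⟨(w j)⁻¹ * w' j, ?_⟩
    funext i
    have := congrFun (congrFun h i) j
    rw [vecMulVec_apply, vecMulVec_apply] at this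
    show v i = (w j)⁻¹ * w' j * v' i
    field_simp
    linear_combination this
  · intro hv
    obtain ⟨i, hi⟩ := Function.ne_iff.mp hv'
    have hi : v' i ≠ 0 := hi
    refine ⟨(v' i)⁻¹ * v i, ?_⟩
    funext j
    have := congrFun (congrFun h i) j
    rw [vecMulVec_apply, vecMulVec_apply] at this
    show w' j = (v' i)⁻¹ * v i * w j
    field_simp
    linear_combination -this

end Eq

section Trans

variable {n : ℕ} {F : Type*} [Field F]

theorem det_one_add_vmv (x y : Fin n → F) : (1 + vecMulVec x y).det = 1 + y ⬝ᵥ x := by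
  have h := Matrix.det_one_add_replicateCol_mul_replicateRow (ι := Unit) x y
  have e : (1 : Matrix (Fin n) (Fin n) F) + vecMulVec x y
      = 1 + replicateCol Unit x * replicateRow Unit y := by
    ext i j
    simp [vecMulVec, Matrix.mul_apply]
  rw [e, h]

/-- `1 + x ⊗ y` in `GL` -/
noncomputable def g1 (x y : Fin n → F) (h : 1 + y ⬝ᵥ x ≠ 0) : GL (Fin n) F :=
  Matrix.GeneralLinearGroup.mkOfDetNeZero (1 + vecMulVec x y) (by
    rw [det_one_add_vmv]; exact h)

theorem g1_coe (x y : Fin n → F) (h : 1 + y ⬝ᵥ x ≠ 0) :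
    ((g1 x y h : GL (Fin n) F) : Matrix (Fin n) (Fin n) F) = 1 + vecMulVec x y := rfl

theorem g1_mulVec (x y z : Fin n → F) (h : 1 + y ⬝ᵥ x ≠ 0) :
    ((g1 x y h : GL (Fin n) F) : Matrix (Fin n) (Fin n) F) *ᵥ z = z + (y ⬝ᵥ z) • x := by
  rw [g1_coe, Matrix.add_mulVec, Matrix.one_mulVec, Matrix.vecMulVec_mulVec]
  simp

theorem vecMul_g1 (x y z : Fin n → F) (h : 1 + y ⬝ᵥ x ≠ 0) :
    z ᵥ* ((g1 x y h : GL (Fin n) F) : Matrix (Fin n) (Fin n) F) = z + (z ⬝ᵥ x) • y := by
  rw [g1_coe, Matrix.vecMul_add, Matrix.vecMul_one, Matrix.vecMul_vecMulVec]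

theorem exists_g_vec (i : Fin n) {v : Fin n → F} (hv : v ≠ 0) :
    ∃ g : GL (Fin n) F, (g : Matrix (Fin n) (Fin n) F) *ᵥ (Pi.single i 1) = v := by
  have key : ∀ v : Fin n → F, v i ≠ 0 →
      ∃ g : GL (Fin n) F, (g : Matrix (Fin n) (Fin n) F) *ᵥ (Pi.single i 1) = v := by
    intro v hvi
    refine ⟨g1 (v - Pi.single i 1) (Pi.single i 1) ?_, ?_⟩
    · rw [single_one_dotProduct]
      simpa using hvi
    · rw [g1_mulVec, single_one_dotProduct]
      simp
  by_cases h0 : v i = 0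
  · obtain ⟨j, hj⟩ := Function.ne_iff.mp hv
    have hj : v j ≠ 0 := hj
    have hij : i ≠ j := by rintro rfl; exact hj h0
    have hd : 1 + (Pi.single j (1 : F) : Fin n → F) ⬝ᵥ (Pi.single i 1) ≠ 0 := by
      rw [single_one_dotProduct]
      simp [Ne.symm hij]
    obtain ⟨g, hg⟩ := key (((g1 (Pi.single i 1) (Pi.single j 1) hd : GL (Fin n) F) :
      Matrix (Fin n) (Fin n) F) *ᵥ v) (by
        rw [g1_mulVec, single_one_dotProduct]
        simp [h0, hj])
    refine ⟨(g1 (Pi.single i 1) (Pi.single j 1) hd)⁻¹ * g, ?_⟩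
    rw [Units.val_mul, ← Matrix.mulVec_mulVec, hg, Matrix.mulVec_mulVec, ← Units.val_mul,
      inv_mul_cancel, Units.val_one, Matrix.one_mulVec]
  · exact key v h0

theorem exists_g_functional {i l : Fin n} (hil : i ≠ l) {w : Fin n → F} (hw : w ≠ 0)
    (hi : w i = 0) : ∃ k : GL (Fin n) F, (k : Matrix (Fin n) (Fin n) F) *ᵥ (Pi.single i 1) = Pi.single i 1 ∧
      (Pi.single l 1) ᵥ* (k : Matrix (Fin n) (Fin n) F) = w := by
  have key : ∀ w : Fin n → F, w l ≠ 0 → w i = 0 →
      ∃ k : GL (Fin n) F, (k : Matrix (Fin n) (Fin n) F) *ᵥ (Pi.single i 1) = Pi.single i 1 ∧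
      (Pi.single l 1) ᵥ* (k : Matrix (Fin n) (Fin n) F) = w := by
    intro w hwl hwi
    refine ⟨g1 (Pi.single l 1) (w - Pi.single l 1) ?_, ?_, ?_⟩
    · rw [dotProduct_single_one]
      simpa using hwl
    · rw [g1_mulVec, dotProduct_single_one]
      simp [hwi, hil]
    · rw [vecMul_g1, dotProduct_single_one]
      simp
  by_cases h0 : w l = 0
  · obtain ⟨j, hj⟩ := Function.ne_iff.mp hw
    have hj : w j ≠ 0 := hj
    have hlj : l ≠ j := by rintro rfl; exact hj h0
    have hij : i ≠ j := by rintro rfl; exact hj hi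
    have hd : 1 + (Pi.single l (1 : F) : Fin n → F) ⬝ᵥ (Pi.single j 1) ≠ 0 := by
      rw [single_one_dotProduct]
      simp [hlj]
    obtain ⟨k, hk1, hk2⟩ := key (w ᵥ* ((g1 (Pi.single j 1) (Pi.single l 1) hd : GL (Fin n) F) :
      Matrix (Fin n) (Fin n) F)) (by
        rw [vecMul_g1, dotProduct_single_one]
        simp [h0, hj]) (by
        rw [vecMul_g1, dotProduct_single_one]
        simp [hi, hil])
    have hfix : ((g1 (Pi.single j 1) (Pi.single l 1) hd : GL (Fin n) F) :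
      Matrix (Fin n) (Fin n) F) *ᵥ (Pi.single i 1) = Pi.single i 1 := by
      rw [g1_mulVec, single_one_dotProduct]
      simp [Ne.symm hil]
    have hfix' : (((g1 (Pi.single j 1) (Pi.single l 1) hd)⁻¹ : GL (Fin n) F) :
      Matrix (Fin n) (Fin n) F) *ᵥ (Pi.single i 1) = Pi.single i 1 := by
      conv_lhs => rw [← hfix]
      rw [Matrix.mulVec_mulVec, ← Units.val_mul, inv_mul_cancel, Units.val_one, Matrix.one_mulVec]
    refine ⟨k * (g1 (Pi.single j 1) (Pi.single l 1) hd)⁻¹, ?_, ?_⟩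
    · rw [Units.val_mul, ← Matrix.mulVec_mulVec, hfix', hk1]
    · rw [Units.val_mul, ← Matrix.vecMul_vecMul, hk2, Matrix.vecMul_vecMul, ← Units.val_mul,
        mul_inv_cancel, Units.val_one, Matrix.vecMul_one]
  · exact key w h0 hi

/-- transitivity of `GL` on incident pairs -/
theorem exists_g_pair {i l : Fin n} (hil : i ≠ l) {v w : Fin n → F} (hv : v ≠ 0) (hw : w ≠ 0)
    (h : w ⬝ᵥ v = 0) : ∃ g : GL (Fin n) F, (g : Matrix (Fin n) (Fin n) F) *ᵥ (Pi.single i 1) = v ∧
      (Pi.single l 1) ᵥ* ((g⁻¹ : GL (Fin n) F) : Matrix (Fin n) (Fin n) F) = w := by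
  obtain ⟨a, ha⟩ := exists_g_vec i hv
  have hw' : w ᵥ* (a : Matrix (Fin n) (Fin n) F) ≠ 0 := by
    intro h0
    apply hw
    have := congrArg (fun z => z ᵥ* ((a⁻¹ : GL (Fin n) F) : Matrix (Fin n) (Fin n) F)) h0
    simp only [Matrix.vecMul_vecMul, Matrix.zero_vecMul] at this
    rwa [← Units.val_mul, mul_inv_cancel, Units.val_one, Matrix.vecMul_one] at this
  obtain ⟨k, hk1, hk2⟩ := exists_g_functional hil hw' (by
    rw [← dotProduct_single_one (w ᵥ* (a : Matrix (Fin n) (Fin n) F)) i, ← Matrix.dotProduct_mulVec,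
      ha, h])
  refine ⟨a * k⁻¹, ?_, ?_⟩
  · have hk1' : ((k⁻¹ : GL (Fin n) F) : Matrix (Fin n) (Fin n) F) *ᵥ (Pi.single i 1) = Pi.single i 1 := by
      conv_lhs => rw [← hk1]
      rw [Matrix.mulVec_mulVec, ← Units.val_mul, inv_mul_cancel, Units.val_one, Matrix.one_mulVec]
    rw [Units.val_mul, ← Matrix.mulVec_mulVec, hk1', ha]
  · rw [_root_.mul_inv_rev, inv_inv, Units.val_mul, ← Matrix.vecMul_vecMul, hk2,
      Matrix.vecMul_vecMul, ← Units.val_mul, mul_inv_cancel, Units.val_one, Matrix.vecMul_one]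

theorem toGL_coe' (s : Matrix.SpecialLinearGroup (Fin n) F) :
    ((s : GL (Fin n) F) : Matrix (Fin n) (Fin n) F) = (s : Matrix (Fin n) (Fin n) F) := rfl

/-- transitivity of `SL` on incident pairs up to scalars -/
theorem exists_s_pair {i l : Fin n} (hil : i ≠ l) {v w : Fin n → F} (hv : v ≠ 0) (hw : w ≠ 0)
    (h : w ⬝ᵥ v = 0) : ∃ (s : Matrix.SpecialLinearGroup (Fin n) F) (c : F), c ≠ 0 ∧
      ∀ a : F, s * tv (a • (Pi.single i 1 : Fin n → F)) (Pi.single l 1) * s⁻¹
        = tv ((a * c) • v) w := by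
  obtain ⟨g, hg1, hg2⟩ := exists_g_pair hil hv hw h
  set d := (g : Matrix (Fin n) (Fin n) F).det with hd
  have hd0 : d ≠ 0 := by
    have := g.isUnit.map Matrix.detMonoidHom
    exact this.ne_zero
  have hD : 1 + (Pi.single l (1 : F) : Fin n → F) ⬝ᵥ (Pi.single l (d⁻¹ - 1)) ≠ 0 := by
    rw [single_one_dotProduct]
    simpa using hd0
  set D : GL (Fin n) F := g1 (Pi.single l (d⁻¹ - 1)) (Pi.single l 1) hD with hDdef
  have hDi : (D : Matrix (Fin n) (Fin n) F) *ᵥ (Pi.single i 1) = Pi.single i 1 := by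
    rw [hDdef, g1_mulVec, single_one_dotProduct]
    simp [Ne.symm hil]
  have hDl : (Pi.single l 1) ᵥ* (D : Matrix (Fin n) (Fin n) F) = Pi.single l d⁻¹ := by
    rw [hDdef, vecMul_g1, single_one_dotProduct]
    funext j
    by_cases hj : j = l
    · subst hj; simp
    · simp [hj]
  have hDdet : (D : Matrix (Fin n) (Fin n) F).det = d⁻¹ := by
    rw [hDdef, g1_coe, det_one_add_vmv, single_one_dotProduct]
    simp
  have hDl' : (Pi.single l 1) ᵥ* ((D⁻¹ : GL (Fin n) F) : Matrix (Fin n) (Fin n) F)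
      = d • (Pi.single l 1 : Fin n → F) := by
    have h1 : (Pi.single l 1 : Fin n → F) = d • ((Pi.single l 1) ᵥ* (D : Matrix (Fin n) (Fin n) F)) := by
      rw [hDl]
      funext j
      by_cases hj : j = l
      · subst hj; simp [hd0]
      · simp [hj]
    conv_lhs => rw [h1]
    rw [Matrix.smul_vecMul, Matrix.vecMul_vecMul, ← Units.val_mul, mul_inv_cancel, Units.val_one,
      Matrix.vecMul_one]
  let s : Matrix.SpecialLinearGroup (Fin n) F :=
    ⟨((g * D : GL (Fin n) F) : Matrix (Fin n) (Fin n) F), by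
      rw [Units.val_mul, Matrix.det_mul, hDdet, ← hd, mul_inv_cancel₀ hd0]⟩
  have hs : (s : GL (Fin n) F) = g * D := Units.ext rfl
  refine ⟨s, d, hd0, fun a => ?_⟩
  have h0 : (Pi.single l (1 : F) : Fin n → F) ⬝ᵥ (a • (Pi.single i 1 : Fin n → F)) = 0 := by
    rw [single_one_dotProduct]
    simp [Ne.symm hil]
  have h1 := cj_tv (g * D) h0
  have h2 : cj (g * D) (tv (a • (Pi.single i 1 : Fin n → F)) (Pi.single l 1))
      = s * tv (a • (Pi.single i 1 : Fin n → F)) (Pi.single l 1) * s⁻¹ := by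
    apply Subtype.ext
    rw [cj_coe, ← hs]
    rfl
  rw [← h2, h1]
  have e1 : ((g * D : GL (Fin n) F) : Matrix (Fin n) (Fin n) F) *ᵥ (a • (Pi.single i 1 : Fin n → F))
      = a • v := by
    rw [Matrix.mulVec_smul, Units.val_mul, ← Matrix.mulVec_mulVec, hDi, hg1]
  have e2 : (Pi.single l 1) ᵥ* (((g * D)⁻¹ : GL (Fin n) F) : Matrix (Fin n) (Fin n) F) = d • w := by
    rw [_root_.mul_inv_rev, Units.val_mul, ← Matrix.vecMul_vecMul, hDl', Matrix.smul_vecMul, hg2]
  rw [e1, e2, ← tv_smul_comm _ _ hd0, smul_smul, mul_comm d a]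

end Trans

end Cfsg.Agent.Lib.AutPSL
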