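import Mathlib
import Cfsg.Agent.Lib.AutPSL2
import Cfsg.Agent.Lib.SL2

/-! Unitriangular Sylow subgroup of `PSL_n(q)`, transvection groups. -/

set_option linter.all false

namespace Cfsg.Agent.Lib.AutPSL

open Matrix
open scoped Pointwise

section UT

variable {n : ℕ} {F : Type*} [Field F]

local notation "SL" => Matrix.SpecialLinearGroup (Fin n) F
local notation "PSL" => Matrix.ProjectiveSpecialLinearGroup (Fin n) F

/-- unitriangular matrices -/
def IsUT (s : Matrix (Fin n) (Fin n) F) : Prop :=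
  ∀ i j : Fin n, j ≤ i → s i j = (1 : Matrix (Fin n) (Fin n) F) i j

theorem IsUT.mul {s t : Matrix (Fin n) (Fin n) F} (hs : IsUT s) (ht : IsUT t) : IsUT (s * t) := by
  intro i j hij
  rw [Matrix.mul_apply, Finset.sum_eq_single i]
  · rw [hs i i le_rfl, Matrix.one_apply_eq, one_mul, ht i j hij]
  · intro k _ hk
    rcases lt_or_gt_of_ne hk with h | h
    · rw [hs i k h.le, Matrix.one_apply_ne (Ne.symm hk), zero_mul]
    · rw [ht k j (hij.trans h.le), Matrix.one_apply_ne, mul_zero]
      rintro rfl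
      exact absurd h (not_lt.mpr hij)
  · intro h
    exact absurd (Finset.mem_univ i) h

theorem IsUT.blockTriangular {s : Matrix (Fin n) (Fin n) F} (hs : IsUT s) :
    s.BlockTriangular id := by
  intro i j hij
  rw [hs i j (le_of_lt hij), Matrix.one_apply_ne]
  exact fun h => absurd hij (by rw [h]; exact lt_irrefl _)

theorem IsUT.det {s : Matrix (Fin n) (Fin n) F} (hs : IsUT s) : s.det = 1 := by
  rw [Matrix.det_of_upperTriangular hs.blockTriangular]
  apply Finset.prod_eq_one
  intro i _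
  rw [hs i i le_rfl, Matrix.one_apply_eq]

theorem IsUT.left_of_mul {s t : Matrix (Fin n) (Fin n) F} (hs : IsUT s) (h : s * t = 1)
    (ht : t.BlockTriangular id) : IsUT t := by
  intro i j hij
  rcases eq_or_lt_of_le hij with rfl | hlt
  · have h1 := congrFun (congrFun h j) j
    rw [Matrix.mul_apply, Finset.sum_eq_single j] at h1
    · rwa [hs j j le_rfl, Matrix.one_apply_eq, one_mul, ← Matrix.one_apply_eq j] at h1
    · intro k _ hk
      rcases lt_or_gt_of_ne hk with h | h
      · rw [hs j k h.le, Matrix.one_apply_ne (Ne.symm hk), zero_mul]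
      · rw [ht h, mul_zero]
    · intro h
      exact absurd (Finset.mem_univ j) h
  · rw [ht hlt, Matrix.one_apply_ne]
    exact fun h => absurd hlt (by rw [h]; exact lt_irrefl _)

/-- the unitriangular subgroup -/
def UU (n : ℕ) (F : Type*) [Field F] : Subgroup (Matrix.SpecialLinearGroup (Fin n) F) where
  carrier := {s | IsUT (s : Matrix (Fin n) (Fin n) F)}
  one_mem' := fun i j _ => rfl
  mul_mem' := fun {s t} hs ht => hs.mul ht
  inv_mem' := by
    intro s hs
    have h : s * s⁻¹ = 1 := mul_inv_cancel s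
    have h' : (s : Matrix (Fin n) (Fin n) F) * ((s⁻¹ : Matrix.SpecialLinearGroup (Fin n) F) : Matrix (Fin n) (Fin n) F) = 1 :=
      congrArg Subtype.val h
    refine IsUT.left_of_mul hs h' ?_
    have hb : (s : Matrix (Fin n) (Fin n) F).BlockTriangular id := IsUT.blockTriangular hs
    rw [coe_inv_eq]
    haveI : Invertible (s : Matrix (Fin n) (Fin n) F).det :=
      ⟨1, by rw [s.2, one_mul], by rw [s.2, one_mul]⟩
    haveI : Invertible (s : Matrix (Fin n) (Fin n) F) :=
      Matrix.invertibleOfDetInvertible _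
    exact Matrix.blockTriangular_inv_of_blockTriangular hb

theorem mem_UU {s : SL} : s ∈ UU n F ↔ IsUT (s : Matrix (Fin n) (Fin n) F) := Iff.rfl

/-- strictly upper triangular positions -/
abbrev UP (n : ℕ) := {p : Fin n × Fin n // p.1 < p.2}

theorem card_UP (n : ℕ) : Fintype.card (UP n) = n * (n - 1) / 2 := by
  have h1 : Fintype.card (UP n) = ∑ j : Fin n, (j : ℕ) := by
    rw [Fintype.card_subtype]
    have : (Finset.univ.filter (fun p : Fin n × Fin n => p.1 < p.2)).card
        = ∑ j : Fin n, (Finset.univ.filter (fun i : Fin n => i < j)).card := by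
      rw [← Finset.card_sigma]
      refine Finset.card_bij' (fun p _ => ⟨p.2, p.1⟩) (fun p _ => (p.2, p.1)) ?_ ?_ ?_ ?_
      · intro a ha
        simpa using ha
      · intro a ha
        simpa using ha
      · intro a ha; rfl
      · intro a ha; rfl
    rw [this]
    refine Finset.sum_congr rfl fun j _ => ?_
    have : (Finset.univ.filter (fun i : Fin n => i < j)) = Finset.Iio j := by
      ext i; simp
    rw [this, Fin.card_Iio]
  rw [h1, ← Fin.sum_univ_eq_sum_range (fun i => i) n |>.symm, Finset.sum_range_id]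

/-- parametrisation of the unitriangular group -/
noncomputable def uuEquiv (n : ℕ) (F : Type*) [Field F] : ↥(UU n F) ≃ (UP n → F) where
  toFun u p := ((u : Matrix.SpecialLinearGroup (Fin n) F) : Matrix (Fin n) (Fin n) F) p.1.1 p.1.2
  invFun f := ⟨⟨fun i j => if h : i < j then f ⟨(i, j), h⟩ else (1 : Matrix (Fin n) (Fin n) F) i j,
      IsUT.det (fun i j hij => by rw [dif_neg (not_lt.mpr hij)])⟩,
      fun i j hij => by
        show (if h : i < j then f ⟨(i, j), h⟩ else (1 : Matrix (Fin n) (Fin n) F) i j) = _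
        rw [dif_neg (not_lt.mpr hij)]⟩
  left_inv u := by
    apply Subtype.ext
    apply Subtype.ext
    ext i j
    show (if h : i < j then ((u : Matrix.SpecialLinearGroup (Fin n) F) : Matrix (Fin n) (Fin n) F) i j
      else (1 : Matrix (Fin n) (Fin n) F) i j) = ((u : Matrix.SpecialLinearGroup (Fin n) F) : Matrix (Fin n) (Fin n) F) i j
    by_cases h : i < j
    · rw [dif_pos h]
    · rw [dif_neg h, u.2 i j (not_lt.mp h)]
  right_inv f := by
    funext p
    show (if h : p.1.1 < p.1.2 then f ⟨(p.1.1, p.1.2), h⟩ else (1 : Matrix (Fin n) (Fin n) F) p.1.1 p.1.2) = _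
    rw [dif_pos p.2]

theorem card_UU [Fintype F] : Nat.card ↥(UU n F) = Fintype.card F ^ (n * (n - 1) / 2) := by
  rw [Nat.card_congr (uuEquiv n F), Nat.card_eq_fintype_card, Fintype.card_fun, card_UP]

/-- image of the unitriangular group in `PSL` -/
def PU (n : ℕ) (F : Type*) [Field F] : Subgroup (Matrix.ProjectiveSpecialLinearGroup (Fin n) F) :=
  (UU n F).map (QuotientGroup.mk' _)

theorem mem_PU {x : PSL} : x ∈ PU n F ↔ ∃ u : SL, u ∈ UU n F ∧ mk u = x := Iff.rfl

theorem mk_injOn_UU (hn : 1 ≤ n) {u t : SL} (hu : u ∈ UU n F) (ht : t ∈ UU n F)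
    (h : mk u = mk t) : u = t := by
  obtain ⟨r, hr⟩ := (mk_eq_iff _ _).mp h
  have h00 := congrFun (congrFun hr ⟨0, hn⟩) ⟨0, hn⟩
  rw [ht _ _ le_rfl, Matrix.smul_apply, hu _ _ le_rfl, Matrix.one_apply_eq, smul_eq_mul, mul_one] at h00
  rw [← h00, one_smul] at hr
  exact (Subtype.ext hr).symm

theorem card_PU (hn : 1 ≤ n) [Fintype F] :
    Nat.card ↥(PU n F) = Fintype.card F ^ (n * (n - 1) / 2) := by
  rw [← card_UU]
  symm
  apply Nat.card_congr
  refine Equiv.ofBijective (fun u => ⟨mk (u : SL), (u : SL), u.2, rfl⟩) ⟨?_, ?_⟩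
  · intro u t h
    apply Subtype.ext
    exact mk_injOn_UU hn u.2 t.2 (congrArg Subtype.val h)
  · rintro ⟨x, u, hu, rfl⟩
    exact ⟨⟨u, hu⟩, rfl⟩

end UT

section Syl

variable {n : ℕ} {F : Type*} [Field F] [Fintype F]

local notation "SL" => Matrix.SpecialLinearGroup (Fin n) F
local notation "PSL" => Matrix.ProjectiveSpecialLinearGroup (Fin n) F

theorem not_dvd_index (hn : 1 ≤ n) {p : ℕ} [hp : Fact p.Prime] [CharP F p] :
    ¬ p ∣ (PU n F).index := by
  obtain ⟨k, hk0, hk⟩ := Cfsg.Agent.Lib.SL2.card_eq_pow (F := F) p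
  have h1 := Cfsg.Agent.Lib.GLSL.card_PSL (F := F) n hn
  have h2 := Cfsg.Agent.Lib.GLSL.card_SL (F := F) n hn
  have h3 := Cfsg.Agent.Lib.GLSL.card_GL_eq F n
  have h4 : Nat.card (GL (Fin n) F) = ∏ i : Fin n, (Fintype.card F ^ n - Fintype.card F ^ (i : ℕ)) :=
    Matrix.card_GL_field n
  have h5 := (PU n F).card_mul_index
  rw [card_PU hn] at h5
  rw [← h1, ← h5] at h2
  rw [← h4, h3] at h2
  have hq : 0 < Fintype.card F ^ (n * (n - 1) / 2) := pow_pos Fintype.card_pos _
  have h6 : (Fintype.card F - 1) * (Nat.gcd n (Fintype.card F - 1) * (PU n F).index)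
      = ∏ i ∈ Finset.range n, (Fintype.card F ^ (i + 1) - 1) := by
    apply Nat.eq_of_mul_eq_mul_left hq
    rw [← h2]; ring
  intro hdvd
  have h7 : p ∣ ∏ i ∈ Finset.range n, (Fintype.card F ^ (i + 1) - 1) := by
    rw [← h6]
    exact dvd_mul_of_dvd_right (dvd_mul_of_dvd_right hdvd _) _
  obtain ⟨i, -, hi⟩ := (Prime.dvd_finset_prod_iff hp.out.prime _).mp h7
  have h8 : p ∣ Fintype.card F ^ (i + 1) := by
    rw [hk]
    exact dvd_pow (dvd_pow_self p hk0.ne') (Nat.succ_ne_zero i)
  have h9 : 1 ≤ Fintype.card F ^ (i + 1) := Nat.one_le_pow _ _ Fintype.card_pos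
  have h10 := (Nat.dvd_sub h8 hi)
  rw [Nat.sub_sub_self h9] at h10
  exact hp.out.one_lt.ne' (Nat.dvd_one.mp h10)

theorem isPGroup_PU (hn : 1 ≤ n) {p : ℕ} [hp : Fact p.Prime] [CharP F p] :
    IsPGroup p ↥(PU n F) := by
  obtain ⟨k, hk0, hk⟩ := Cfsg.Agent.Lib.SL2.card_eq_pow (F := F) p
  apply IsPGroup.of_card (n := k * (n * (n - 1) / 2))
  rw [card_PU hn, hk, pow_mul]

/-- Sylow subgroup of `PSL` -/
noncomputable def sylU (hn : 1 ≤ n) (p : ℕ) [hp : Fact p.Prime] [CharP F p] : Sylow p PSL :=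
  IsPGroup.toSylow (isPGroup_PU hn) (not_dvd_index hn)

theorem sylU_coe (hn : 1 ≤ n) (p : ℕ) [hp : Fact p.Prime] [CharP F p] :
    ((sylU hn p : Sylow p PSL) : Subgroup PSL) = PU n F := rfl

end Syl

end Cfsg.Agent.Lib.AutPSL
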