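import Mathlib
import Cfsg.Agent.Lib.AutPSL3

/-! Transvection groups of `PSL_n(q)` are permuted by automorphisms. -/

set_option linter.all false

namespace Cfsg.Agent.Lib.AutPSL

open Matrix
open scoped Pointwise

section X

variable {n : ℕ} {F : Type*} [Field F]

local notation "SL" => Matrix.SpecialLinearGroup (Fin n) F
local notation "PSL" => Matrix.ProjectiveSpecialLinearGroup (Fin n) F

theorem tv_of_not {v w : Fin n → F} (h : ¬ (w ⬝ᵥ v = 0)) (a : F) : tv (a • v) w = 1 := by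
  by_cases ha : a = 0
  · rw [ha, zero_smul, tv_zero_left]
  · rw [tv, dif_neg]
    rw [dotProduct_smul, smul_eq_mul]
    exact mul_ne_zero ha h

theorem smul_inc {v w : Fin n → F} (h : w ⬝ᵥ v = 0) (a : F) : w ⬝ᵥ (a • v) = 0 := by
  rw [dotProduct_smul, h, smul_zero]

theorem tv_smul_mul (v w : Fin n → F) (a b : F) :
    tv (a • v) w * tv (b • v) w = tv ((a + b) • v) w := by
  by_cases h : w ⬝ᵥ v = 0
  · rw [tv_mul_left (smul_inc h a) (smul_inc h b), add_smul]
  · rw [tv_of_not h, tv_of_not h, tv_of_not h, one_mul]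

/-- the transvection group in `PSL` -/
def X (v w : Fin n → F) : Subgroup (Matrix.ProjectiveSpecialLinearGroup (Fin n) F) where
  carrier := {x | ∃ a : F, x = mk (tv (a • v) w)}
  one_mem' := ⟨0, by rw [zero_smul, tv_zero_left, mk_one]⟩
  mul_mem' := by
    rintro _ _ ⟨a, rfl⟩ ⟨b, rfl⟩
    exact ⟨a + b, by rw [← tv_smul_mul, mk_mul]⟩
  inv_mem' := by
    rintro _ ⟨a, rfl⟩
    refine ⟨-a, ?_⟩
    rw [eq_comm, ← mul_eq_one_iff_eq_inv, ← mk_mul, tv_smul_mul, neg_add_cancel, zero_smul,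
      tv_zero_left, mk_one]

theorem mem_X {v w : Fin n → F} {x : PSL} : x ∈ X v w ↔ ∃ a : F, x = mk (tv (a • v) w) := Iff.rfl

theorem X_smul_left (v w : Fin n → F) {c : F} (hc : c ≠ 0) : X (c • v) w = X v w := by
  ext x
  rw [mem_X, mem_X]
  constructor
  · rintro ⟨a, rfl⟩
    exact ⟨a * c, by rw [smul_smul]⟩
  · rintro ⟨a, rfl⟩
    exact ⟨a * c⁻¹, by rw [smul_smul, mul_assoc, inv_mul_cancel₀ hc, mul_one]⟩

theorem X_smul_right (v w : Fin n → F) {c : F} (hc : c ≠ 0) : X v (c • w) = X v w := by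
  ext x
  rw [mem_X, mem_X]
  constructor
  · rintro ⟨a, rfl⟩
    exact ⟨c * a, by rw [← tv_smul_comm _ _ hc, smul_smul]⟩
  · rintro ⟨a, rfl⟩
    exact ⟨c⁻¹ * a, by rw [← tv_smul_comm _ _ hc, smul_smul, ← mul_assoc, mul_inv_cancel₀ hc, one_mul]⟩

/-- `SL` acts on the transvection groups -/
theorem conj_X (s : SL) {v w : Fin n → F} (h : w ⬝ᵥ v = 0) :
    MulAut.conj (mk s) • X v w = X ((s : Matrix (Fin n) (Fin n) F) *ᵥ v)
      (w ᵥ* ((s⁻¹ : SL) : Matrix (Fin n) (Fin n) F)) := by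
  have key : ∀ a : F, mk s * mk (tv (a • v) w) * (mk s)⁻¹ =
      mk (tv (a • ((s : Matrix (Fin n) (Fin n) F) *ᵥ v)) (w ᵥ* ((s⁻¹ : SL) : Matrix (Fin n) (Fin n) F))) := by
    intro a
    rw [← mk_inv, ← mk_mul, ← mk_mul]
    congr 1
    have h1 := cj_tv (s : GL (Fin n) F) (smul_inc h a)
    have h2 : cj (s : GL (Fin n) F) (tv (a • v) w) = s * tv (a • v) w * s⁻¹ := rfl
    rw [← h2, h1, Matrix.mulVec_smul]
    rfl
  ext x
  rw [Subgroup.mem_smul_pointwise_iff_exists, mem_X]
  constructor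
  · rintro ⟨y, ⟨a, rfl⟩, rfl⟩
    exact ⟨a, key a⟩
  · rintro ⟨a, rfl⟩
    exact ⟨_, ⟨a, rfl⟩, key a⟩

theorem inc_conj (s : SL) {v w : Fin n → F} (h : w ⬝ᵥ v = 0) :
    (w ᵥ* ((s⁻¹ : SL) : Matrix (Fin n) (Fin n) F)) ⬝ᵥ ((s : Matrix (Fin n) (Fin n) F) *ᵥ v) = 0 := by
  have : ((s⁻¹ : SL) : Matrix (Fin n) (Fin n) F) * (s : Matrix (Fin n) (Fin n) F) = 1 :=
    congrArg Subtype.val (inv_mul_cancel s)
  rw [Matrix.dotProduct_mulVec, Matrix.vecMul_vecMul, this, Matrix.vecMul_one, h]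

theorem mulVec_ne_zero (s : SL) {v : Fin n → F} (h : v ≠ 0) : (s : Matrix (Fin n) (Fin n) F) *ᵥ v ≠ 0 := by
  intro h0
  apply h
  have : ((s⁻¹ : SL) : Matrix (Fin n) (Fin n) F) * (s : Matrix (Fin n) (Fin n) F) = 1 :=
    congrArg Subtype.val (inv_mul_cancel s)
  rw [← Matrix.one_mulVec v, ← this, ← Matrix.mulVec_mulVec, h0, Matrix.mulVec_zero]

theorem vecMul_ne_zero (s : SL) {w : Fin n → F} (h : w ≠ 0) :
    w ᵥ* ((s⁻¹ : SL) : Matrix (Fin n) (Fin n) F) ≠ 0 := by
  intro h0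
  apply h
  have : ((s⁻¹ : SL) : Matrix (Fin n) (Fin n) F) * (s : Matrix (Fin n) (Fin n) F) = 1 :=
    congrArg Subtype.val (inv_mul_cancel s)
  rw [← Matrix.vecMul_one w, ← this, ← Matrix.vecMul_vecMul, h0, Matrix.zero_vecMul]

/-- standard vectors -/
abbrev E (i : Fin n) : Fin n → F := Pi.single i 1

theorem E_ne_zero (i : Fin n) : (E i : Fin n → F) ≠ 0 := by
  intro h
  have := congrFun h i
  simp at this

theorem E_inc {i j : Fin n} (h : i ≠ j) : (E j : Fin n → F) ⬝ᵥ (E i) = 0 := by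
  rw [single_one_dotProduct]
  simp [h.symm]

/-- all transvection groups are conjugate -/
theorem X_eq_conj {i l : Fin n} (hil : i ≠ l) {v w : Fin n → F} (hv : v ≠ 0) (hw : w ≠ 0)
    (h : w ⬝ᵥ v = 0) : ∃ s : SL, X v w = MulAut.conj (mk s) • X (E i) (E l) := by
  obtain ⟨s, c, hc, hs⟩ := exists_s_pair hil hv hw h
  refine ⟨s, ?_⟩
  ext x
  rw [Subgroup.mem_smul_pointwise_iff_exists, mem_X]
  constructor
  · rintro ⟨a, rfl⟩
    refine ⟨_, ⟨a * c⁻¹, rfl⟩, ?_⟩
    show mk s * mk _ * (mk s)⁻¹ = _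
    rw [← mk_inv, ← mk_mul, ← mk_mul, hs, mul_assoc, inv_mul_cancel₀ hc, mul_one]
  · rintro ⟨y, ⟨a, rfl⟩, rfl⟩
    refine ⟨a * c, ?_⟩
    show mk s * mk _ * (mk s)⁻¹ = _
    rw [← mk_inv, ← mk_mul, ← mk_mul, hs]

end X

section Center

variable {n : ℕ} {F : Type*} [Field F]

local notation "SL" => Matrix.SpecialLinearGroup (Fin n) F
local notation "PSL" => Matrix.ProjectiveSpecialLinearGroup (Fin n) F

theorem isUT_tv {i j : Fin n} (h : i < j) (a : F) : tv (a • (E i : Fin n → F)) (E j) ∈ UU n F := by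
  intro k l hkl
  rw [tv_coe (smul_inc (E_inc h.ne) a), Matrix.add_apply, vecMulVec_apply]
  by_cases hk : k = i
  · subst hk
    have : l ≠ j := by
      rintro rfl
      exact absurd h (not_lt.mpr hkl)
    simp [this]
  · simp [hk]

/-- the centre of the unitriangular group is the highest root group -/
theorem center_PU (hn : 2 ≤ n) :
    PU n F ⊓ Subgroup.centralizer (PU n F : Set PSL) =
      X (E (⟨0, by omega⟩ : Fin n)) (E (⟨n - 1, by omega⟩ : Fin n)) := by
  set z : Fin n := ⟨0, by omega⟩ with hz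
  set l : Fin n := ⟨n - 1, by omega⟩ with hl
  have hzl : z < l := by
    rw [Fin.lt_def]
    show 0 < n - 1
    omega
  have hz' : ∀ i : Fin n, z ≤ i := fun i => Nat.zero_le _
  have hl' : ∀ i : Fin n, i ≤ l := fun i => Nat.le_sub_one_of_lt i.2
  ext x
  rw [Subgroup.mem_inf, Subgroup.mem_centralizer_iff]
  constructor
  · rintro ⟨⟨u, hu, rfl⟩, hc⟩
    have hu' : IsUT (u : Matrix (Fin n) (Fin n) F) := hu
    have key : ∀ i j : Fin n, i < j → vecMulVec ((u : Matrix (Fin n) (Fin n) F) *ᵥ (E i)) (E j)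
        = vecMulVec (E i) ((E j) ᵥ* (u : Matrix (Fin n) (Fin n) F)) := by
      intro i j hij
      have ht : tv ((1 : F) • (E i : Fin n → F)) (E j) ∈ UU n F := isUT_tv hij 1
      have h1 := hc (mk (tv ((1 : F) • (E i : Fin n → F)) (E j))) ⟨_, ht, rfl⟩
      have h2 : tv ((1 : F) • (E i : Fin n → F)) (E j) * u = u * tv ((1 : F) • (E i : Fin n → F)) (E j) :=
        mk_injOn_UU (by omega) ((UU n F).mul_mem ht hu) ((UU n F).mul_mem hu ht) h1
      have h3 : ((tv ((1 : F) • (E i : Fin n → F)) (E j) : SL) : Matrix (Fin n) (Fin n) F) *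
          (u : Matrix (Fin n) (Fin n) F) = (u : Matrix (Fin n) (Fin n) F) *
          ((tv ((1 : F) • (E i : Fin n → F)) (E j) : SL) : Matrix (Fin n) (Fin n) F) :=
        congrArg Subtype.val h2
      rw [tv_coe (smul_inc (E_inc hij.ne) 1), one_smul, Matrix.add_mul, Matrix.mul_add,
        Matrix.one_mul, Matrix.mul_one] at h3
      have h4 := add_left_cancel h3
      rw [Matrix.vecMulVec_mul, Matrix.mul_vecMulVec] at h4
      exact h4.symm
    have col : ∀ i k : Fin n, i < l → k ≠ i → (u : Matrix (Fin n) (Fin n) F) k i = 0 := by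
      intro i k hi hk
      have := congrFun (congrFun (key i l hi) k) l
      rw [vecMulVec_apply, vecMulVec_apply] at this
      simpa [hk] using this
    have row : ∀ j k : Fin n, z < j → k ≠ j → (u : Matrix (Fin n) (Fin n) F) j k = 0 := by
      intro j k hj hk
      have := congrFun (congrFun (key z j hj) z) k
      rw [vecMulVec_apply, vecMulVec_apply] at this
      simpa [hk] using this.symm
    refine ⟨(u : Matrix (Fin n) (Fin n) F) z l, ?_⟩
    show mk u = _
    congr 1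
    apply Subtype.ext
    rw [tv_coe (smul_inc (E_inc hzl.ne) _)]
    ext i j
    rw [Matrix.add_apply, vecMulVec_apply]
    by_cases hij : j ≤ i
    · rw [hu' i j hij]
      by_cases hi : i = z
      · have hj : j ≠ l := by
          rintro rfl
          rw [hi] at hij
          exact absurd hzl (not_lt.mpr hij)
        simp [hj]
      · simp [hi]
    · have hij' : i < j := not_le.mp hij
      rw [Matrix.one_apply_ne hij'.ne]
      by_cases hi : i = z
      · by_cases hj : j = l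
        · subst hi; subst hj
          simp
        · have := col j i (lt_of_le_of_ne (hl' j) hj) hij'.ne
          rw [this]
          simp [hj]
      · have := row i j (lt_of_le_of_ne (hz' i) (Ne.symm hi)) hij'.ne'
        rw [this]
        simp [hi]
  · rintro ⟨a, rfl⟩
    refine ⟨⟨_, isUT_tv hzl a, rfl⟩, ?_⟩
    rintro _ ⟨u, hu, rfl⟩
    have hu' : IsUT (u : Matrix (Fin n) (Fin n) F) := hu
    have h1 : (u : Matrix (Fin n) (Fin n) F) *ᵥ (E z) = E z := by
      funext i
      simp only [Matrix.mulVec_single_one, Matrix.col_apply]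
      rw [hu' i z (hz' i)]
      by_cases hi : i = z
      · subst hi; simp
      · simp [Matrix.one_apply, hi]
    have h2 : (E l) ᵥ* (u : Matrix (Fin n) (Fin n) F) = E l := by
      funext i
      simp only [Matrix.single_one_vecMul, Matrix.row_apply]
      rw [hu' l i (hl' i)]
      by_cases hi : i = l
      · subst hi; simp
      · simp [Matrix.one_apply, hi, Ne.symm hi]
    show mk u * mk _ = mk _ * mk u
    rw [← mk_mul, ← mk_mul]
    congr 1
    apply Subtype.ext
    show (u : Matrix (Fin n) (Fin n) F) * ((tv (a • (E z : Fin n → F)) (E l) : SL) : Matrix (Fin n) (Fin n) F)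
      = ((tv (a • (E z : Fin n → F)) (E l) : SL) : Matrix (Fin n) (Fin n) F) * (u : Matrix (Fin n) (Fin n) F)
    rw [tv_coe (smul_inc (E_inc hzl.ne) _), Matrix.mul_add, Matrix.add_mul, Matrix.one_mul,
      Matrix.mul_one, Matrix.mul_vecMulVec, Matrix.vecMulVec_mul, Matrix.mulVec_smul, h1, h2]

end Center

section ClaimA

variable {n : ℕ} {F : Type*} [Field F]

local notation "SL" => Matrix.SpecialLinearGroup (Fin n) F
local notation "PSL" => Matrix.ProjectiveSpecialLinearGroup (Fin n) F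

theorem conj_mul_aut {G : Type*} [Group G] (α : MulAut G) (g : G) :
    α * MulAut.conj g = MulAut.conj (α g) * α := by
  ext x
  show α (g * x * g⁻¹) = α g * α x * (α g)⁻¹
  rw [map_mul, map_mul, map_inv]

theorem smul_centralizer {G : Type*} [Group G] (α : MulAut G) (H : Subgroup G) :
    α • (H ⊓ Subgroup.centralizer (H : Set G))
      = (α • H) ⊓ Subgroup.centralizer ((α • H : Subgroup G) : Set G) := by
  ext x
  rw [Subgroup.mem_inf, Subgroup.mem_smul_pointwise_iff_exists,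
    Subgroup.mem_smul_pointwise_iff_exists, Subgroup.mem_centralizer_iff]
  constructor
  · rintro ⟨y, ⟨hy1, hy2⟩, rfl⟩
    refine ⟨⟨y, hy1, rfl⟩, ?_⟩
    intro h hh
    obtain ⟨k, hk, rfl⟩ := (Subgroup.mem_smul_pointwise_iff_exists _ _ _).mp hh
    show α k * α y = α y * α k
    rw [← map_mul, ← map_mul, Subgroup.mem_centralizer_iff.mp hy2 k hk]
  · rintro ⟨⟨y, hy, rfl⟩, h⟩
    refine ⟨y, ⟨hy, ?_⟩, rfl⟩
    refine Subgroup.mem_centralizer_iff.mpr ?_
    intro k hk
    have := h (α • k) ((Subgroup.mem_smul_pointwise_iff_exists _ _ _).mpr ⟨k, hk, rfl⟩)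
    apply α.injective
    rw [map_mul, map_mul]
    exact this

theorem aut_X [Fintype F] (hn : 2 ≤ n) (α : MulAut PSL) {v w : Fin n → F} (hv : v ≠ 0) (hw : w ≠ 0)
    (h : w ⬝ᵥ v = 0) : ∃ v' w' : Fin n → F, v' ≠ 0 ∧ w' ≠ 0 ∧ w' ⬝ᵥ v' = 0 ∧
      α • X v w = X v' w' := by
  obtain ⟨p, hp⟩ := CharP.exists F
  haveI : Fact p.Prime := ⟨CharP.char_is_prime F p⟩
  set z : Fin n := ⟨0, by omega⟩ with hz
  set l : Fin n := ⟨n - 1, by omega⟩ with hl
  have hzl : z ≠ l := by
    intro h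
    have := congrArg Fin.val h
    simp only [hz, hl] at this
    omega
  obtain ⟨s, hs⟩ := X_eq_conj hzl hv hw h
  haveI : Finite PSL := inferInstance
  obtain ⟨g, hg⟩ := MulAction.exists_smul_eq PSL (sylU (n := n) (F := F) (by omega) p)
    (α • sylU (n := n) (F := F) (by omega) p)
  have hg' : MulAut.conj g • PU n F = α • PU n F := congrArg Sylow.toSubgroup hg
  have h1 : α • X (E z) (E l) = MulAut.conj g • X (E z : Fin n → F) (E l) := by
    rw [← center_PU hn, smul_centralizer, smul_centralizer, hg']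
  obtain ⟨t, ht⟩ := mk_surj (α (mk s) * g)
  have h2 : α • X v w = MulAut.conj (mk t) • X (E z : Fin n → F) (E l) := by
    rw [hs, smul_smul, conj_mul_aut, ← smul_smul, h1, smul_smul, ← map_mul, ht]
  rw [conj_X t (E_inc hzl)] at h2
  exact ⟨_, _, mulVec_ne_zero t (E_ne_zero z), vecMul_ne_zero t (E_ne_zero l),
    inc_conj t (E_inc hzl), h2⟩

end ClaimA

end Cfsg.Agent.Lib.AutPSL
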