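import Mathlib
import Cfsg.Agent.Lib.AutPSL4

/-! Automorphisms of `PSL_n(q)`, `n ≥ 3`: the frame argument. -/

set_option linter.all false

namespace Cfsg.Agent.Lib.AutPSL

open Matrix
open scoped Pointwise

section Par

variable {n : ℕ} {F : Type*} [Field F]

local notation "SL" => Matrix.SpecialLinearGroup (Fin n) F
local notation "PSL" => Matrix.ProjectiveSpecialLinearGroup (Fin n) F

/-- parallel vectors -/
def Par (v v' : Fin n → F) : Prop := ∃ c : F, c ≠ 0 ∧ v' = c • v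

theorem Par.refl (v : Fin n → F) : Par v v := ⟨1, one_ne_zero, (one_smul _ _).symm⟩
theorem Par.symm {v v' : Fin n → F} (h : Par v v') : Par v' v := by
  obtain ⟨c, hc, rfl⟩ := h
  exact ⟨c⁻¹, inv_ne_zero hc, by rw [smul_smul, inv_mul_cancel₀ hc, one_smul]⟩
theorem Par.trans {v v' v'' : Fin n → F} (h : Par v v') (h' : Par v' v'') : Par v v'' := by
  obtain ⟨c, hc, rfl⟩ := h
  obtain ⟨d, hd, rfl⟩ := h'
  exact ⟨d * c, mul_ne_zero hd hc, by rw [smul_smul]⟩

theorem par_of_smul {v v' : Fin n → F} (hv' : v' ≠ 0) {c : F} (h : v' = c • v) : Par v v' := by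
  refine ⟨c, ?_, h⟩
  rintro rfl
  rw [zero_smul] at h
  exact hv' h

theorem par_of_minors {w w' : Fin n → F} (hw : w ≠ 0) (hw' : w' ≠ 0)
    (h : ∀ i j, w i * w' j = w j * w' i) : Par w w' := by
  obtain ⟨j, hj⟩ := Function.ne_iff.mp hw
  have hj : w j ≠ 0 := hj
  apply par_of_smul hw' (c := w' j / w j)
  funext i
  show w' i = w' j / w j * w i
  have := h i j
  field_simp
  linear_combination -this

theorem exists_dual {w w' : Fin n → F} (hw : w ≠ 0) (hw' : w' ≠ 0) (h : ¬ Par w w') :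
    (∃ x : Fin n → F, w ⬝ᵥ x = 1 ∧ w' ⬝ᵥ x = 0) ∧ (∃ x : Fin n → F, w ⬝ᵥ x = 0 ∧ w' ⬝ᵥ x = 1) := by
  have : ∃ i j, w i * w' j - w j * w' i ≠ 0 := by
    by_contra hcon
    push Not at hcon
    exact h (par_of_minors hw hw' fun i j => sub_eq_zero.mp (hcon i j))
  obtain ⟨i, j, hd⟩ := this
  constructor
  · refine ⟨(w i * w' j - w j * w' i)⁻¹ • (w' j • E i - w' i • E j), ?_, ?_⟩
    · rw [dotProduct_smul, dotProduct_sub, dotProduct_smul, dotProduct_smul, dotProduct_single_one,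
        dotProduct_single_one, smul_eq_mul, smul_eq_mul, smul_eq_mul]
      rw [mul_comm (w' j), mul_comm (w' i), inv_mul_cancel₀ hd]
    · rw [dotProduct_smul, dotProduct_sub, dotProduct_smul, dotProduct_smul, dotProduct_single_one,
        dotProduct_single_one, smul_eq_mul, smul_eq_mul, smul_eq_mul]
      ring
  · refine ⟨(w i * w' j - w j * w' i)⁻¹ • (w i • E j - w j • E i), ?_, ?_⟩
    · rw [dotProduct_smul, dotProduct_sub, dotProduct_smul, dotProduct_smul, dotProduct_single_one,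
        dotProduct_single_one, smul_eq_mul, smul_eq_mul, smul_eq_mul]
      ring
    · rw [dotProduct_smul, dotProduct_sub, dotProduct_smul, dotProduct_smul, dotProduct_single_one,
        dotProduct_single_one, smul_eq_mul, smul_eq_mul, smul_eq_mul, inv_mul_cancel₀ hd]

theorem exists_common_zero (hn : 3 ≤ n) (w w' : Fin n → F) :
    ∃ z : Fin n → F, z ≠ 0 ∧ w ⬝ᵥ z = 0 ∧ w' ⬝ᵥ z = 0 := by
  let f : (Fin n → F) →ₗ[F] (Fin 2 → F) := Matrix.toLin' (Matrix.of ![w, w'])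
  have hk : LinearMap.ker f ≠ ⊥ := by
    apply LinearMap.ker_ne_bot_of_finrank_lt
    rw [Module.finrank_fintype_fun_eq_card, Module.finrank_fintype_fun_eq_card, Fintype.card_fin,
      Fintype.card_fin]
    omega
  obtain ⟨z, hz, hz0⟩ := Submodule.exists_mem_ne_zero_of_ne_bot hk
  refine ⟨z, hz0, ?_, ?_⟩
  · have := congrFun (LinearMap.mem_ker.mp hz) 0
    simpa [f, Matrix.mulVec] using this
  · have := congrFun (LinearMap.mem_ker.mp hz) 1
    simpa [f, Matrix.mulVec] using this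

theorem X_eq_iff (hn : 1 ≤ n) {v w v' w' : Fin n → F} (hv : v ≠ 0) (hw : w ≠ 0) (h : w ⬝ᵥ v = 0)
    (hv' : v' ≠ 0) (hw' : w' ≠ 0) (h' : w' ⬝ᵥ v' = 0) :
    X v w = X v' w' ↔ Par v v' ∧ Par w w' := by
  constructor
  · intro he
    have h1 : mk (tv ((1 : F) • v) w) ∈ X v' w' := by rw [← he]; exact ⟨1, rfl⟩
    obtain ⟨a, ha⟩ := h1
    rw [one_smul] at ha
    have ha0 : a ≠ 0 := by
      rintro rfl
      rw [zero_smul, tv_zero_left] at ha
      exact mk_tv_ne_one hn h hv hw ha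
    have hav : a • v' ≠ 0 := smul_ne_zero ha0 hv'
    have h2 := mk_tv_eq hn h (smul_inc h' a) ha
    obtain ⟨⟨c, hc⟩, h3⟩ := parallel_of_eq hw hav h2
    obtain ⟨d, hd⟩ := h3 hv
    refine ⟨?_, par_of_smul hw' hd⟩
    apply Par.symm
    apply par_of_smul hv (c := c * a)
    rw [hc, smul_smul]
  · rintro ⟨⟨c, hc, rfl⟩, ⟨d, hd, rfl⟩⟩
    rw [X_smul_left _ _ hc, X_smul_right _ _ hd]

/-- the set of transvection classes and `1` -/
def TV (n : ℕ) (F : Type*) [Field F] : Set (Matrix.ProjectiveSpecialLinearGroup (Fin n) F) :=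
  {x | ∃ v w : Fin n → F, v ≠ 0 ∧ w ≠ 0 ∧ w ⬝ᵥ v = 0 ∧ x ∈ X v w}

theorem one_mem_TV (hn : 2 ≤ n) : (1 : PSL) ∈ TV n F := by
  have h : (⟨0, by omega⟩ : Fin n) ≠ ⟨1, by omega⟩ := by
    intro h
    have := congrArg Fin.val h
    simp at this
  exact ⟨_, _, E_ne_zero _, E_ne_zero _, E_inc h, Subgroup.one_mem _⟩

theorem mk_tv_mem_TV (hn : 2 ≤ n) {v w : Fin n → F} (h : w ⬝ᵥ v = 0) : mk (tv v w) ∈ TV n F := by
  by_cases hv : v = 0
  · rw [hv, tv_zero_left]
    exact one_mem_TV hn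
  by_cases hw : w = 0
  · rw [hw, tv_zero_right]
    exact one_mem_TV hn
  exact ⟨v, w, hv, hw, h, 1, by rw [one_smul]⟩

/-- all products are transvections -/
def Rel (H K : Subgroup (Matrix.ProjectiveSpecialLinearGroup (Fin n) F)) : Prop :=
  ∀ x ∈ H, ∀ y ∈ K, x * y ∈ TV n F

theorem aut_TV [Fintype F] (hn : 2 ≤ n) (α : MulAut PSL) {x : PSL} (hx : x ∈ TV n F) :
    α x ∈ TV n F := by
  obtain ⟨v, w, hv, hw, h, hx⟩ := hx
  obtain ⟨v', w', hv', hw', h', he⟩ := aut_X hn α hv hw h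
  refine ⟨v', w', hv', hw', h', ?_⟩
  rw [← he]
  exact Subgroup.smul_mem_pointwise_smul _ _ _ hx

theorem Rel.aut [Fintype F] (hn : 2 ≤ n) (α : MulAut PSL) {H K : Subgroup PSL} (h : Rel H K) :
    Rel (α • H) (α • K) := by
  intro x hx y hy
  obtain ⟨x, hx', rfl⟩ := (Subgroup.mem_smul_pointwise_iff_exists _ _ _).mp hx
  obtain ⟨y, hy', rfl⟩ := (Subgroup.mem_smul_pointwise_iff_exists _ _ _).mp hy
  have := aut_TV hn α (h x hx' y hy')
  rwa [map_mul] at this

theorem rel_aut_iff [Fintype F] (hn : 2 ≤ n) (α : MulAut PSL) {H K : Subgroup PSL} :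
    Rel (α • H) (α • K) ↔ Rel H K := by
  constructor
  · intro h
    have := h.aut hn α⁻¹
    rwa [inv_smul_smul, inv_smul_smul] at this
  · exact fun h => h.aut hn α

theorem rel_iff (hn : 3 ≤ n) {v w v' w' : Fin n → F} (hv : v ≠ 0) (hw : w ≠ 0) (h : w ⬝ᵥ v = 0)
    (hv' : v' ≠ 0) (hw' : w' ≠ 0) (h' : w' ⬝ᵥ v' = 0) :
    Rel (X v w) (X v' w') ↔ Par v v' ∨ Par w w' := by
  constructor
  · intro hR
    by_contra hcon
    push Not at hcon
    obtain ⟨hcv, hcw⟩ := hcon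
    have h1 := hR _ ⟨1, rfl⟩ _ ⟨1, rfl⟩
    rw [one_smul, one_smul, ← mk_mul] at h1
    obtain ⟨x, y, hx, hy, hxy, a, ha⟩ := h1
    obtain ⟨r, hr⟩ := (mk_eq_iff _ _).mp ha
    rw [tv_coe (smul_inc hxy a)] at hr
    have e : ((tv v w * tv v' w' : SL) : Matrix (Fin n) (Fin n) F) =
        (1 + vecMulVec v w) * (1 + vecMulVec v' w') := by
      rw [← tv_coe h, ← tv_coe h']; rfl
    rw [e] at hr
    set u := a • x with hu
    have hyu : y ⬝ᵥ u = 0 := smul_inc hxy a
    have app : ∀ z, z + (y ⬝ᵥ z) • u = r • (z + (w' ⬝ᵥ z) • v' + (w ⬝ᵥ z + (w' ⬝ᵥ z) * (w ⬝ᵥ v')) • v) := by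
      intro z
      have h2 := congrArg (fun M => M *ᵥ z) hr
      simp only [Matrix.add_mulVec, Matrix.one_mulVec, Matrix.smul_mulVec, Matrix.vecMulVec_mulVec,
        ← Matrix.mulVec_mulVec, Matrix.mulVec_add] at h2
      simp only [op_smul_eq_smul] at h2
      rw [h2]
      congr 1
      rw [dotProduct_smul, smul_eq_mul, add_smul]
      abel
    obtain ⟨z, hz0, hz1, hz2⟩ := exists_common_zero hn w w'
    have hr1 : r = 1 := by
      by_contra hr1
      have h3 := app z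
      rw [hz1, hz2] at h3
      simp only [zero_smul, zero_mul, add_zero] at h3
      have h4 : (y ⬝ᵥ z) • u = (r - 1) • z := by
        rw [sub_smul, one_smul, ← h3]; abel
      have h5 : y ⬝ᵥ ((y ⬝ᵥ z) • u) = 0 := smul_inc hyu _
      rw [h4, dotProduct_smul, smul_eq_mul] at h5
      have h6 : y ⬝ᵥ z = 0 := (mul_eq_zero.mp h5).resolve_left (sub_ne_zero.mpr hr1)
      rw [h6, zero_smul] at h4
      exact hz0 ((smul_eq_zero.mp h4.symm).resolve_left (sub_ne_zero.mpr hr1))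
    subst hr1
    obtain ⟨⟨x1, hx1, hx1'⟩, ⟨x2, hx2, hx2'⟩⟩ := exists_dual hw hw' hcw
    have h7 := app x1
    rw [hx1, hx1'] at h7
    simp only [zero_smul, zero_mul, add_zero, one_smul] at h7
    have h8 : (y ⬝ᵥ x1) • u = v := add_left_cancel h7
    have h9 := app x2
    rw [hx2, hx2'] at h9
    simp only [zero_add, one_mul, one_smul, add_assoc] at h9
    have h10 : (y ⬝ᵥ x2) • u = v' + (w ⬝ᵥ v') • v := add_left_cancel h9
    have hc : y ⬝ᵥ x1 ≠ 0 := by
      intro h0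
      rw [h0, zero_smul] at h8
      exact hv h8.symm
    have h11 : u = (y ⬝ᵥ x1)⁻¹ • v := by rw [← h8, smul_smul, inv_mul_cancel₀ hc, one_smul]
    apply hcv
    apply par_of_smul hv' (c := (y ⬝ᵥ x2) * (y ⬝ᵥ x1)⁻¹ - w ⬝ᵥ v')
    rw [sub_smul, ← smul_smul, ← h11, h10]
    abel
  · rintro (⟨c, hc, rfl⟩ | ⟨c, hc, rfl⟩)
    · rw [X_smul_left _ _ hc]
      have h'' : w' ⬝ᵥ v = 0 := by
        rw [dotProduct_smul, smul_eq_mul] at h'
        exact (mul_eq_zero.mp h').resolve_left hc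
      rintro _ ⟨a, rfl⟩ _ ⟨b, rfl⟩
      rw [← mk_mul]
      by_cases ha : a = 0
      · rw [ha, zero_smul, tv_zero_left, one_mul]
        exact mk_tv_mem_TV (by omega) (smul_inc h'' b)
      by_cases hb : b = 0
      · rw [hb, zero_smul, tv_zero_left, mul_one]
        exact mk_tv_mem_TV (by omega) (smul_inc h a)
      rw [tv_smul_comm _ _ ha, tv_smul_comm _ _ hb, tv_mul_right]
      · apply mk_tv_mem_TV (by omega)
        rw [add_dotProduct, smul_dotProduct, smul_dotProduct, h, h'', smul_zero, smul_zero, add_zero]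
      · rw [smul_dotProduct, h, smul_zero]
      · rw [smul_dotProduct, h'', smul_zero]
    · rw [X_smul_right _ _ hc]
      have h'' : w ⬝ᵥ v' = 0 := by
        rw [smul_dotProduct, smul_eq_mul] at h'
        exact (mul_eq_zero.mp h').resolve_left hc
      rintro _ ⟨a, rfl⟩ _ ⟨b, rfl⟩
      rw [← mk_mul, tv_mul_left (smul_inc h a) (smul_inc h'' b)]
      apply mk_tv_mem_TV (by omega)
      rw [dotProduct_add, smul_inc h a, smul_inc h'' b, add_zero]

end Par

end Cfsg.Agent.Lib.AutPSL
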