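import Mathlib
import Cfsg.Agent.Lib.AutPSL5

/-! Automorphisms of `PSL_n(q)`, `n ≥ 3`: reduction to automorphisms fixing the root groups. -/

set_option linter.all false

namespace Cfsg.Agent.Lib.AutPSL

open Matrix
open scoped Pointwise

section Colour

variable {n : ℕ}

theorem exists_third' (hn : 3 ≤ n) (i j : Fin n) : ∃ k : Fin n, k ≠ i ∧ k ≠ j := by
  have h : (Finset.univ \ ({i, j} : Finset (Fin n))).Nonempty := by
    rw [← Finset.card_pos]
    have h1 := Finset.le_card_sdiff ({i, j} : Finset (Fin n)) Finset.univ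
    have h2 : ({i, j} : Finset (Fin n)).card ≤ 2 := Finset.card_le_two
    rw [Finset.card_univ, Fintype.card_fin] at h1
    omega
  obtain ⟨k, hk⟩ := h
  simp only [Finset.mem_sdiff, Finset.mem_univ, true_and, Finset.mem_insert,
    Finset.mem_singleton, not_or] at hk
  exact ⟨k, hk.1, hk.2⟩

/-- the combinatorial argument: `R`, `S` equivalence relations on off-diagonal pairs -/
theorem colour (hn : 3 ≤ n) (R S : Fin n → Fin n → Fin n → Fin n → Prop)
    (hRs : ∀ i j k l, R i j k l → R k l i j) (hSs : ∀ i j k l, S i j k l → S k l i j)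
    (hRt : ∀ i j k l a b, R i j k l → R k l a b → R i j a b)
    (hSt : ∀ i j k l a b, S i j k l → S k l a b → S i j a b)
    (hRr : ∀ i j, R i j i j) (hSr : ∀ i j, S i j i j)
    (hrow : ∀ i j k, i ≠ j → i ≠ k → R i j i k ∨ S i j i k)
    (hcol : ∀ i j k, i ≠ k → j ≠ k → R i k j k ∨ S i k j k)
    (hnR : ∀ i j k l, i ≠ j → k ≠ l → R i j k l → i = k ∨ j = l)
    (hnS : ∀ i j k l, i ≠ j → k ≠ l → S i j k l → i = k ∨ j = l) :
    ((∀ i j k, i ≠ j → i ≠ k → R i j i k) ∧ (∀ i j k, i ≠ k → j ≠ k → S i k j k)) ∨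
    ((∀ i j k, i ≠ j → i ≠ k → S i j i k) ∧ (∀ i j k, i ≠ k → j ≠ k → R i k j k)) := by
  have row : ∀ i, (∀ j k, i ≠ j → i ≠ k → R i j i k) ∨ (∀ j k, i ≠ j → i ≠ k → S i j i k) := by
    intro i
    by_cases h : ∀ j k, i ≠ j → i ≠ k → R i j i k
    · exact Or.inl h
    · right
      push Not at h
      obtain ⟨j, k, hij, hik, hR⟩ := h
      have hS : S i j i k := (hrow i j k hij hik).resolve_left hR
      have key : ∀ l, i ≠ l → S i j i l := by
        intro l hl
        rcases hrow i j l hij hl with h | h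
        · rcases hrow i k l hik hl with h' | h'
          · exact absurd (hRt _ _ _ _ _ _ h (hRs _ _ _ _ h')) hR
          · exact hSt _ _ _ _ _ _ hS h'
        · exact h
      intro a b ha hb
      exact hSt _ _ _ _ _ _ (hSs _ _ _ _ (key a ha)) (key b hb)
  have col : ∀ k, (∀ i j, i ≠ k → j ≠ k → R i k j k) ∨ (∀ i j, i ≠ k → j ≠ k → S i k j k) := by
    intro k
    by_cases h : ∀ i j, i ≠ k → j ≠ k → R i k j k
    · exact Or.inl h
    · right
      push Not at h
      obtain ⟨i, j, hik, hjk, hR⟩ := h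
      have hS : S i k j k := (hcol i j k hik hjk).resolve_left hR
      have key : ∀ l, l ≠ k → S i k l k := by
        intro l hl
        rcases hcol i l k hik hl with h | h
        · rcases hcol j l k hjk hl with h' | h'
          · exact absurd (hRt _ _ _ _ _ _ h (hRs _ _ _ _ h')) hR
          · exact hSt _ _ _ _ _ _ hS h'
        · exact h
      intro a b ha hb
      exact hSt _ _ _ _ _ _ (hSs _ _ _ _ (key a ha)) (key b hb)
  have incR : ∀ i j, i ≠ j → (∀ a b, i ≠ a → i ≠ b → R i a i b) →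
      (∀ a b, a ≠ j → b ≠ j → R a j b j) → False := by
    intro i j hij h1 h2
    obtain ⟨k, hki, hkj⟩ := exists_third' hn i j
    have h3 : R i k i j := h1 k j (Ne.symm hki) hij
    have h4 : R i j k j := h2 i k hij hkj
    rcases hnR i k k j (Ne.symm hki) hkj (hRt _ _ _ _ _ _ h3 h4) with h | h
    · exact hki h.symm
    · exact hkj h
  have incS : ∀ i j, i ≠ j → (∀ a b, i ≠ a → i ≠ b → S i a i b) →
      (∀ a b, a ≠ j → b ≠ j → S a j b j) → False := by
    intro i j hij h1 h2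
    obtain ⟨k, hki, hkj⟩ := exists_third' hn i j
    have h3 : S i k i j := h1 k j (Ne.symm hki) hij
    have h4 : S i j k j := h2 i k hij hkj
    rcases hnS i k k j (Ne.symm hki) hkj (hSt _ _ _ _ _ _ h3 h4) with h | h
    · exact hki h.symm
    · exact hkj h
  have z : Fin n := ⟨0, by omega⟩
  rcases row z with hz | hz
  · left
    have c1 : ∀ j, z ≠ j → (∀ a b, a ≠ j → b ≠ j → S a j b j) := fun j hj =>
      (col j).resolve_left (fun h => incR z j hj hz h)
    have r1 : ∀ i, (∀ a b, i ≠ a → i ≠ b → R i a i b) := by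
      intro i
      obtain ⟨j, hji, hjz⟩ := exists_third' hn i z
      exact (row i).resolve_right (fun h => incS i j (Ne.symm hji) h (c1 j (Ne.symm hjz)))
    have c2 : ∀ j, (∀ a b, a ≠ j → b ≠ j → S a j b j) := by
      intro j
      obtain ⟨i, hij, -⟩ := exists_third' hn j j
      exact (col j).resolve_left (fun h => incR i j hij (r1 i) h)
    exact ⟨fun i j k hij hik => r1 i j k hij hik, fun i j k hik hjk => c2 k i j hik hjk⟩
  · right
    have c1 : ∀ j, z ≠ j → (∀ a b, a ≠ j → b ≠ j → R a j b j) := fun j hj =>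
      (col j).resolve_right (fun h => incS z j hj hz h)
    have r1 : ∀ i, (∀ a b, i ≠ a → i ≠ b → S i a i b) := by
      intro i
      obtain ⟨j, hji, hjz⟩ := exists_third' hn i z
      exact (row i).resolve_left (fun h => incR i j (Ne.symm hji) h (c1 j (Ne.symm hjz)))
    have c2 : ∀ j, (∀ a b, a ≠ j → b ≠ j → R a j b j) := by
      intro j
      obtain ⟨i, hij, -⟩ := exists_third' hn j j
      exact (col j).resolve_right (fun h => incS i j hij (r1 i) h)
    exact ⟨fun i j k hij hik => r1 i j k hij hik, fun i j k hik hjk => c2 k i j hik hjk⟩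

end Colour

section Frame

variable {n : ℕ} {F : Type*} [Field F]

local notation "SL" => Matrix.SpecialLinearGroup (Fin n) F
local notation "PSL" => Matrix.ProjectiveSpecialLinearGroup (Fin n) F

theorem desc_cj_X (g : GL (Fin n) F) {v w : Fin n → F} (h : w ⬝ᵥ v = 0) :
    (desc (cj g) : MulAut PSL) • X v w = X ((g : Matrix (Fin n) (Fin n) F) *ᵥ v)
      (w ᵥ* ((g⁻¹ : GL (Fin n) F) : Matrix (Fin n) (Fin n) F)) := by
  have key : ∀ a : F, (desc (cj g) : MulAut PSL) (mk (tv (a • v) w)) =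
      mk (tv (a • ((g : Matrix (Fin n) (Fin n) F) *ᵥ v))
        (w ᵥ* ((g⁻¹ : GL (Fin n) F) : Matrix (Fin n) (Fin n) F))) := by
    intro a
    have h1 := cj_tv g (smul_inc h a)
    have h2 : (desc (cj g) : MulAut PSL) (mk (tv (a • v) w)) = mk (cj g (tv (a • v) w)) := rfl
    rw [h2, h1, Matrix.mulVec_smul]
  ext x
  rw [Subgroup.mem_smul_pointwise_iff_exists, mem_X]
  constructor
  · rintro ⟨y, ⟨a, rfl⟩, rfl⟩
    exact ⟨a, key a⟩
  · rintro ⟨a, rfl⟩
    exact ⟨_, ⟨a, rfl⟩, key a⟩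

theorem desc_it_X {v w : Fin n → F} (h : w ⬝ᵥ v = 0) :
    (desc it : MulAut PSL) • X v w = X w v := by
  have key : ∀ a : F, (desc it : MulAut PSL) (mk (tv (a • v) w)) = mk (tv ((-a) • w) v) := by
    intro a
    have h1 := it_tv (smul_inc h a)
    have h2 : (desc it : MulAut PSL) (mk (tv (a • v) w)) = mk (it (tv (a • v) w)) := rfl
    rw [h2, h1]
    by_cases ha : a = 0
    · subst ha; simp [tv_zero_right, tv_zero_left]
    · rw [neg_smul, ← smul_neg, tv_smul_comm _ _ ha]
  ext x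
  rw [Subgroup.mem_smul_pointwise_iff_exists, mem_X]
  constructor
  · rintro ⟨y, ⟨a, rfl⟩, rfl⟩
    exact ⟨-a, key a⟩
  · rintro ⟨a, rfl⟩
    refine ⟨_, ⟨-a, rfl⟩, ?_⟩
    have := key (-a)
    rw [neg_neg] at this
    exact this

/-- `α` maps the frame of root groups to `X (v i) (w j)` -/
def Framed (α : MulAut (Matrix.ProjectiveSpecialLinearGroup (Fin n) F)) : Prop :=
  ∃ v w : Fin n → (Fin n → F), (∀ i, v i ≠ 0) ∧ (∀ j, w j ≠ 0) ∧
    (∀ i j, i ≠ j → w j ⬝ᵥ v i = 0) ∧ ∀ i j, i ≠ j → α • X (E i) (E j) = X (v i) (w j)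

theorem framed_or [Fintype F] (hn : 3 ≤ n) (α : MulAut PSL) :
    Framed α ∨ Framed (α * desc it) := by
  have hex : ∀ i j : Fin n, ∃ vw : (Fin n → F) × (Fin n → F), i ≠ j →
      vw.1 ≠ 0 ∧ vw.2 ≠ 0 ∧ vw.2 ⬝ᵥ vw.1 = 0 ∧ α • X (E i) (E j) = X vw.1 vw.2 := by
    intro i j
    by_cases hij : i = j
    · exact ⟨(0, 0), fun h => absurd hij h⟩
    · obtain ⟨v', w', h1, h2, h3, h4⟩ := aut_X (by omega) α (E_ne_zero i) (E_ne_zero j) (E_inc hij)
      exact ⟨(v', w'), fun _ => ⟨h1, h2, h3, h4⟩⟩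
  choose f hf using hex
  have hrel : ∀ i j k l : Fin n, i ≠ j → k ≠ l →
      (Par (f i j).1 (f k l).1 ∨ Par (f i j).2 (f k l).2 ↔ i = k ∨ j = l) := by
    intro i j k l hij hkl
    obtain ⟨h1, h2, h3, h4⟩ := hf i j hij
    obtain ⟨h1', h2', h3', h4'⟩ := hf k l hkl
    rw [← rel_iff hn h1 h2 h3 h1' h2' h3', ← h4, ← h4', rel_aut_iff (by omega),
      rel_iff hn (E_ne_zero i) (E_ne_zero j) (E_inc hij) (E_ne_zero k) (E_ne_zero l) (E_inc hkl)]
    have hE : ∀ a b : Fin n, Par (E a : Fin n → F) (E b) ↔ a = b := by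
      intro a b
      constructor
      · rintro ⟨c, hc, h⟩
        by_contra hab
        have := congrFun h b
        simp [hab, Ne.symm hab] at this
      · rintro rfl
        exact Par.refl _
    rw [hE, hE]
  have hc := colour hn (fun i j k l => Par (f i j).1 (f k l).1) (fun i j k l => Par (f i j).2 (f k l).2)
    (fun i j k l h => h.symm) (fun i j k l h => h.symm)
    (fun i j k l a b h h' => h.trans h') (fun i j k l a b h h' => h.trans h')
    (fun i j => Par.refl _) (fun i j => Par.refl _)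
    (fun i j k hij hik => (hrel i j i k hij hik).mpr (Or.inl rfl))
    (fun i j k hik hjk => (hrel i k j k hik hjk).mpr (Or.inr rfl))
    (fun i j k l hij hkl h => (hrel i j k l hij hkl).mp (Or.inl h))
    (fun i j k l hij hkl h => (hrel i j k l hij hkl).mp (Or.inr h))
  have hnxt : ∀ i : Fin n, ∃ k : Fin n, k ≠ i := fun i => by
    obtain ⟨k, hk, -⟩ := exists_third' hn i i
    exact ⟨k, hk⟩
  choose nx hnx using hnxt
  rcases hc with ⟨hr, hcl⟩ | ⟨hr, hcl⟩
  · left
    refine ⟨fun i => (f i (nx i)).1, fun j => (f (nx j) j).2, fun i => (hf i (nx i) (Ne.symm (hnx i))).1,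
      fun j => (hf (nx j) j (hnx j)).2.1, ?_, ?_⟩
    · intro i j hij
      obtain ⟨c, hc, h1⟩ := hr i j (nx i) hij (Ne.symm (hnx i))
      obtain ⟨d, hd, h2⟩ := hcl i (nx j) j hij (hnx j)
      show (f (nx j) j).2 ⬝ᵥ (f i (nx i)).1 = 0
      rw [h1, h2, smul_dotProduct, dotProduct_smul, (hf i j hij).2.2.1, smul_zero, smul_zero]
    · intro i j hij
      obtain ⟨c, hc, h1⟩ := hr i j (nx i) hij (Ne.symm (hnx i))
      obtain ⟨d, hd, h2⟩ := hcl i (nx j) j hij (hnx j)
      show α • X (E i) (E j) = X (f i (nx i)).1 (f (nx j) j).2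
      rw [h1, h2, X_smul_left _ _ hc, X_smul_right _ _ hd]
      exact (hf i j hij).2.2.2
  · right
    refine ⟨fun i => (f (nx i) i).1, fun j => (f j (nx j)).2, fun i => (hf (nx i) i (hnx i)).1,
      fun j => (hf j (nx j) (Ne.symm (hnx j))).2.1, ?_, ?_⟩
    · intro i j hij
      obtain ⟨c, hc, h1⟩ := hcl j (nx i) i (Ne.symm hij) (hnx i)
      obtain ⟨d, hd, h2⟩ := hr j i (nx j) (Ne.symm hij) (Ne.symm (hnx j))
      show (f j (nx j)).2 ⬝ᵥ (f (nx i) i).1 = 0
      rw [h1, h2, smul_dotProduct, dotProduct_smul, (hf j i (Ne.symm hij)).2.2.1, smul_zero, smul_zero]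
    · intro i j hij
      obtain ⟨c, hc, h1⟩ := hcl j (nx i) i (Ne.symm hij) (hnx i)
      obtain ⟨d, hd, h2⟩ := hr j i (nx j) (Ne.symm hij) (Ne.symm (hnx j))
      show (α * desc it) • X (E i) (E j) = X (f (nx i) i).1 (f j (nx j)).2
      rw [h1, h2, X_smul_left _ _ hc, X_smul_right _ _ hd, ← smul_smul, desc_it_X (E_inc hij)]
      exact (hf j i (Ne.symm hij)).2.2.2

/-- root groups `X_ij`, `X_jk` do not commute -/
theorem not_commute {i j k : Fin n} (hij : i ≠ j) (hjk : j ≠ k) (hik : i ≠ k) :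
    mk (tv (E i : Fin n → F) (E j)) * mk (tv (E j) (E k)) ≠
      mk (tv (E j : Fin n → F) (E k)) * mk (tv (E i) (E j)) := by
  intro h
  rw [← mk_mul, ← mk_mul] at h
  obtain ⟨r, hr⟩ := (mk_eq_iff _ _).mp h
  have e1 : ((tv (E j : Fin n → F) (E k) * tv (E i) (E j) : SL) : Matrix (Fin n) (Fin n) F)
      = 1 + vecMulVec (E i) (E j) + vecMulVec (E j) (E k) := by
    show ((tv (E j : Fin n → F) (E k) : SL) : Matrix (Fin n) (Fin n) F) *
      ((tv (E i) (E j) : SL) : Matrix (Fin n) (Fin n) F) = _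
    rw [tv_coe (E_inc hjk), tv_coe (E_inc hij), Matrix.add_mul, Matrix.mul_add, Matrix.mul_add,
      Matrix.one_mul, Matrix.one_mul, Matrix.mul_one, Matrix.vecMulVec_mul_vecMulVec, E_inc hik,
      zero_smul, vecMulVec_zero_right', add_zero]
  have e2 : ((tv (E i : Fin n → F) (E j) * tv (E j) (E k) : SL) : Matrix (Fin n) (Fin n) F)
      = 1 + vecMulVec (E i) (E j) + vecMulVec (E j) (E k) + vecMulVec (E i) (E k) := by
    show ((tv (E i : Fin n → F) (E j) : SL) : Matrix (Fin n) (Fin n) F) *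
      ((tv (E j) (E k) : SL) : Matrix (Fin n) (Fin n) F) = _
    rw [tv_coe (E_inc hjk), tv_coe (E_inc hij), Matrix.add_mul, Matrix.mul_add, Matrix.mul_add,
      Matrix.one_mul, Matrix.one_mul, Matrix.mul_one, Matrix.vecMulVec_mul_vecMulVec]
    have : (E j : Fin n → F) ⬝ᵥ E j = 1 := by rw [single_one_dotProduct]; simp
    rw [this, one_smul]
    abel
  rw [e1, e2] at hr
  have h1 := congrFun (congrFun hr k) k
  have h2 := congrFun (congrFun hr i) k
  simp only [Matrix.add_apply, Matrix.smul_apply, vecMulVec_apply, Matrix.one_apply_eq,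
    Pi.single_eq_same, Pi.single_eq_of_ne hik.symm, Pi.single_eq_of_ne hjk.symm,
    Pi.single_eq_of_ne hij, zero_mul, mul_zero, add_zero, smul_eq_mul, mul_one,
    Matrix.one_apply_ne hik, zero_add, one_mul] at h1 h2
  rw [← h1] at h2
  exact zero_ne_one (h2.trans (by ring))

/-- a framed automorphism becomes one fixing the frame after conjugation -/
theorem Framed.exists_gl (hn : 3 ≤ n) {α : MulAut PSL} (h : Framed α) :
    ∃ g : GL (Fin n) F, ∀ i j : Fin n, i ≠ j →
      α • X (E i : Fin n → F) (E j) = (desc (cj g) : MulAut PSL) • X (E i : Fin n → F) (E j) := by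
  obtain ⟨v, w, hv, hw, hvw, hX⟩ := h
  have hd : ∀ j, w j ⬝ᵥ v j ≠ 0 := by
    intro j h0
    obtain ⟨i, hij, -⟩ := exists_third' hn j j
    obtain ⟨k, hki, hkj⟩ := exists_third' hn i j
    have h1 : α (mk (tv (E i : Fin n → F) (E j))) ∈ X (v i) (w j) := by
      rw [← hX i j hij]
      exact Subgroup.smul_mem_pointwise_smul _ _ _ ⟨1, by rw [one_smul]⟩
    have h2 : α (mk (tv (E j : Fin n → F) (E k))) ∈ X (v j) (w k) := by
      rw [← hX j k (Ne.symm hkj)]
      exact Subgroup.smul_mem_pointwise_smul _ _ _ ⟨1, by rw [one_smul]⟩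
    obtain ⟨a, ha⟩ := h1
    obtain ⟨b, hb⟩ := h2
    apply not_commute (F := F) hij (Ne.symm hkj) (Ne.symm hki)
    apply α.injective
    rw [map_mul, map_mul, ha, hb, ← mk_mul, ← mk_mul]
    congr 1
    apply Subtype.ext
    show ((tv (a • v i) (w j) : SL) : Matrix (Fin n) (Fin n) F) *
      ((tv (b • v j) (w k) : SL) : Matrix (Fin n) (Fin n) F) =
      ((tv (b • v j) (w k) : SL) : Matrix (Fin n) (Fin n) F) *
      ((tv (a • v i) (w j) : SL) : Matrix (Fin n) (Fin n) F)
    rw [tv_coe (smul_inc (hvw i j hij) a), tv_coe (smul_inc (hvw j k (Ne.symm hkj)) b),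
      Matrix.add_mul, Matrix.mul_add, Matrix.mul_add, Matrix.add_mul, Matrix.mul_add, Matrix.mul_add,
      Matrix.vecMulVec_mul_vecMulVec, Matrix.vecMulVec_mul_vecMulVec, smul_inc h0,
      smul_inc (hvw i k (Ne.symm hki)), zero_smul, zero_smul, vecMulVec_zero_right',
      vecMulVec_zero_right']
    simp only [Matrix.one_mul, Matrix.mul_one]
    abel
  set M : Matrix (Fin n) (Fin n) F := Matrix.of (fun k i => v i k) with hM
  set N : Matrix (Fin n) (Fin n) F := Matrix.of (fun j k => w j k) with hN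
  have hNM : N * M = Matrix.diagonal (fun i => w i ⬝ᵥ v i) := by
    ext j i
    rw [Matrix.mul_apply, Matrix.diagonal_apply]
    have : ∑ k, N j k * M k i = w j ⬝ᵥ v i := rfl
    rw [this]
    by_cases hji : j = i
    · subst hji; simp
    · rw [if_neg hji, hvw i j (Ne.symm hji)]
  have hdet : M.det ≠ 0 := by
    intro h0
    have := congrArg Matrix.det hNM
    rw [Matrix.det_mul, h0, mul_zero, Matrix.det_diagonal] at this
    exact (Finset.prod_ne_zero_iff.mpr fun i _ => hd i) this.symm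
  set g : GL (Fin n) F := Matrix.GeneralLinearGroup.mkOfDetNeZero M hdet with hg
  have hgM : (g : Matrix (Fin n) (Fin n) F) = M := rfl
  have hgE : ∀ i, (g : Matrix (Fin n) (Fin n) F) *ᵥ (E i) = v i := by
    intro i
    rw [hgM]
    funext k
    simp [hM]
  have hEg : ∀ j, (E j) ᵥ* ((g⁻¹ : GL (Fin n) F) : Matrix (Fin n) (Fin n) F)
      = (w j ⬝ᵥ v j)⁻¹ • w j := by
    intro j
    have h1 : w j ᵥ* (g : Matrix (Fin n) (Fin n) F) = (w j ⬝ᵥ v j) • (E j : Fin n → F) := by
      funext i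
      have e : (w j ᵥ* (g : Matrix (Fin n) (Fin n) F)) i = w j ⬝ᵥ v i := rfl
      rw [e, Pi.smul_apply]
      by_cases hij : i = j
      · subst hij; simp
      · rw [hvw i j hij]; simp [hij]
    have h2 : (E j : Fin n → F) = (w j ⬝ᵥ v j)⁻¹ • (w j ᵥ* (g : Matrix (Fin n) (Fin n) F)) := by
      rw [h1, smul_smul, inv_mul_cancel₀ (hd j), one_smul]
    conv_lhs => rw [h2]
    rw [Matrix.smul_vecMul, Matrix.vecMul_vecMul, ← Units.val_mul, mul_inv_cancel, Units.val_one,
      Matrix.vecMul_one]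
  refine ⟨g, fun i j hij => ?_⟩
  rw [hX i j hij, desc_cj_X g (E_inc hij), hgE, hEg, X_smul_right _ _ (inv_ne_zero (hd j))]

end Frame

end Cfsg.Agent.Lib.AutPSL
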