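import Mathlib
import Cfsg.Agent.Lib.AutPSL6

/-! Automorphisms of `PSL_n(q)` are inner-diagonal-field-graph. -/

set_option linter.all false

namespace Cfsg.Agent.Lib.AutPSL

open Matrix
open scoped Pointwise

section XX

variable {n : ℕ} {F : Type*} [Field F]

local notation "SL" => Matrix.SpecialLinearGroup (Fin n) F
local notation "PSL" => Matrix.ProjectiveSpecialLinearGroup (Fin n) F

/-- root elements in `PSL` -/
noncomputable def xx (i j : Fin n) (a : F) : Matrix.ProjectiveSpecialLinearGroup (Fin n) F :=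
  mk (tv (a • (E i : Fin n → F)) (E j))

theorem xx_inj {i j : Fin n} (hij : i ≠ j) {a b : F} (h : xx i j a = xx i j b) : a = b := by
  have hn : 1 ≤ n := Nat.lt_of_le_of_lt (Nat.zero_le _) i.2
  have := mk_tv_eq hn (smul_inc (E_inc hij) a) (smul_inc (E_inc hij) b) h
  have := congrFun (congrFun this i) j
  simpa [vecMulVec_apply] using this

theorem xx_add {i j : Fin n} (hij : i ≠ j) (a b : F) : xx i j (a + b) = xx i j a * xx i j b := by
  rw [xx, xx, xx, ← mk_mul, tv_smul_mul]

theorem xx_zero (i j : Fin n) : xx i j (0 : F) = 1 := by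
  rw [xx, zero_smul, tv_zero_left, mk_one]

theorem xx_mem (i j : Fin n) (a : F) : xx i j a ∈ X (E i : Fin n → F) (E j) := ⟨a, rfl⟩

theorem xx_conj {i j k : Fin n} (hij : i ≠ j) (hjk : j ≠ k) (hik : i ≠ k) (a b : F) :
    xx i j a * xx j k b * (xx i j a)⁻¹ = xx j k b * xx i k (a * b) := by
  rw [xx, xx, xx, ← mk_inv, ← mk_mul, ← mk_mul, ← mk_mul]
  congr 1
  set s : SL := tv (a • (E i : Fin n → F)) (E j) with hs
  have h1 : s * tv (b • (E j : Fin n → F)) (E k) * s⁻¹ = cj (s : GL (Fin n) F) (tv (b • (E j : Fin n → F)) (E k)) := rfl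
  rw [h1, cj_tv _ (smul_inc (E_inc hjk) b)]
  have e1 : ((s : GL (Fin n) F) : Matrix (Fin n) (Fin n) F) *ᵥ (b • (E j : Fin n → F))
      = b • (E j : Fin n → F) + (a * b) • (E i) := by
    show (s : Matrix (Fin n) (Fin n) F) *ᵥ _ = _
    rw [hs, tv_coe (smul_inc (E_inc hij) a), Matrix.add_mulVec, Matrix.one_mulVec,
      Matrix.vecMulVec_mulVec, dotProduct_smul]
    have : (E j : Fin n → F) ⬝ᵥ E j = 1 := by rw [single_one_dotProduct]; simp
    rw [this, op_smul_eq_smul, smul_smul]
    simp [mul_comm]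
  have e2 : (E k) ᵥ* (((s : GL (Fin n) F)⁻¹ : GL (Fin n) F) : Matrix (Fin n) (Fin n) F) = E k := by
    have : (((s : GL (Fin n) F)⁻¹ : GL (Fin n) F) : Matrix (Fin n) (Fin n) F)
        = ((s⁻¹ : SL) : Matrix (Fin n) (Fin n) F) := rfl
    rw [this, hs, tv_inv (smul_inc (E_inc hij) a), ← smul_neg, ← neg_one_smul F, smul_smul,
      tv_coe (smul_inc (E_inc hij) _), Matrix.vecMul_add, Matrix.vecMul_one,
      Matrix.vecMul_vecMulVec, smul_inc (E_inc hik), zero_smul, add_zero]
  rw [e1, e2, tv_mul_left (smul_inc (E_inc hjk) b) (smul_inc (E_inc hik) _)]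

theorem tv_eq_transvection {i j : Fin n} (hij : i ≠ j) (a : F) :
    tv (a • (E i : Fin n → F)) (E j) = Matrix.SpecialLinearGroup.transvection hij a := by
  apply Subtype.ext
  rw [tv_coe (smul_inc (E_inc hij) a)]
  show _ = (1 : Matrix (Fin n) (Fin n) F) + Matrix.single i j a
  congr 1
  ext k l
  rw [vecMulVec_apply, Matrix.single_apply, Pi.smul_apply, smul_eq_mul]
  by_cases hk : k = i
  · by_cases hl : l = j
    · subst hk; subst hl; simp
    · simp [hl, Ne.symm hl]
  · simp [hk, Ne.symm hk]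

/-- automorphisms agreeing on root elements are equal -/
theorem aut_ext (hn : 2 ≤ n) {β γ : MulAut PSL} (h : ∀ i j : Fin n, i ≠ j → ∀ a : F,
    β (xx i j a) = γ (xx i j a)) : β = γ := by
  haveI : Nontrivial (Fin n) := Fin.nontrivial_iff_two_le.mpr hn
  ext x
  obtain ⟨s, rfl⟩ := mk_surj x
  refine Cfsg.Agent.Lib.SLn.transvection_induction (fun s => β (mk s) = γ (mk s)) ?_ ?_ s
  · intro i j hij c
    show β (mk _) = γ (mk _)
    rw [← tv_eq_transvection hij c]
    exact h i j hij c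
  · intro A B hA hB
    show β (mk _) = γ (mk _)
    rw [mk_mul, map_mul, map_mul]
    rw [show β (mk A) = γ (mk A) from hA, show β (mk B) = γ (mk B) from hB]

/-- diagonal matrices in `GL` -/
noncomputable def dg (d : Fin n → F) (hd : ∀ i, d i ≠ 0) : GL (Fin n) F :=
  Matrix.GeneralLinearGroup.mkOfDetNeZero (Matrix.diagonal d) (by
    rw [Matrix.det_diagonal]
    exact Finset.prod_ne_zero_iff.mpr fun i _ => hd i)

theorem dg_E (d : Fin n → F) (hd : ∀ i, d i ≠ 0) (i : Fin n) :
    ((dg d hd : GL (Fin n) F) : Matrix (Fin n) (Fin n) F) *ᵥ (E i) = d i • (E i) := by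
  show (Matrix.diagonal d) *ᵥ (E i) = _
  funext k
  rw [Matrix.mulVec_diagonal]
  by_cases hk : k = i
  · subst hk; simp
  · simp [hk]

theorem E_dg (d : Fin n → F) (hd : ∀ i, d i ≠ 0) (j : Fin n) :
    (E j) ᵥ* (((dg d hd)⁻¹ : GL (Fin n) F) : Matrix (Fin n) (Fin n) F) = (d j)⁻¹ • (E j) := by
  have h1 : (E j : Fin n → F) = (d j)⁻¹ • ((E j) ᵥ* ((dg d hd : GL (Fin n) F) : Matrix (Fin n) (Fin n) F)) := by
    show _ = (d j)⁻¹ • ((E j) ᵥ* (Matrix.diagonal d))
    funext k
    rw [Pi.smul_apply, Matrix.vecMul_diagonal]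
    by_cases hk : k = j
    · subst hk
      simp [hd k]
    · simp [hk]
  conv_lhs => rw [h1]
  rw [Matrix.smul_vecMul, Matrix.vecMul_vecMul, ← Units.val_mul, mul_inv_cancel, Units.val_one,
    Matrix.vecMul_one]

theorem desc_dg_xx (d : Fin n → F) (hd : ∀ i, d i ≠ 0) {i j : Fin n} (hij : i ≠ j) (a : F) :
    (desc (cj (dg d hd)) : MulAut PSL) (xx i j a) = xx i j (d i * (d j)⁻¹ * a) := by
  have h : (desc (cj (dg d hd)) : MulAut PSL) (xx i j a) =
    mk (cj (dg d hd) (tv (a • (E i : Fin n → F)) (E j))) := rfl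
  rw [h, cj_tv _ (smul_inc (E_inc hij) a), Matrix.mulVec_smul, dg_E, E_dg,
    ← tv_smul_comm _ _ (inv_ne_zero (hd j)), smul_smul, smul_smul, xx]
  congr 3
  ring

theorem desc_fa_xx (σ : F ≃+* F) {i j : Fin n} (hij : i ≠ j) (a : F) :
    (desc (fa σ) : MulAut PSL) (xx i j a) = xx i j (σ a) := by
  have h : (desc (fa σ) : MulAut PSL) (xx i j a) = mk (fa σ (tv (a • (E i : Fin n → F)) (E j))) := rfl
  rw [h, fa_tv _ (smul_inc (E_inc hij) a), xx]
  congr 2
  · funext k
    by_cases hk : k = i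
    · subst hk; simp
    · simp [hk]
  · funext k
    by_cases hk : k = j
    · subst hk; simp
    · simp [hk]

/-- the functions attached to an automorphism fixing the root groups -/
theorem exists_fun (β : MulAut PSL) (h : ∀ i j : Fin n, i ≠ j →
    β • X (E i : Fin n → F) (E j) = X (E i : Fin n → F) (E j)) :
    ∃ s : Fin n → Fin n → F → F, ∀ i j, i ≠ j → (∀ a, β (xx i j a) = xx i j (s i j a)) ∧
      (∀ a b, s i j (a + b) = s i j a + s i j b) ∧ Function.Injective (s i j) := by
  have hex : ∀ i j : Fin n, ∀ a : F, ∃ b : F, i ≠ j → β (xx i j a) = xx i j b := by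
    intro i j a
    by_cases hij : i = j
    · exact ⟨0, fun h => absurd hij h⟩
    · have h1 : β (xx i j a) ∈ X (E i : Fin n → F) (E j) := by
        rw [← h i j hij]
        exact Subgroup.smul_mem_pointwise_smul _ _ _ (xx_mem i j a)
      obtain ⟨b, hb⟩ := h1
      exact ⟨b, fun _ => hb⟩
  choose s hs using hex
  refine ⟨s, fun i j hij => ⟨fun a => hs i j a hij, fun a b => ?_, fun a b hab => ?_⟩⟩
  · apply xx_inj hij
    rw [xx_add hij, ← hs i j _ hij, ← hs i j _ hij, ← hs i j _ hij, xx_add hij, map_mul]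
  · apply xx_inj hij
    apply β.injective
    rw [hs i j a hij, hs i j b hij, hab]

theorem exists_ringEquiv [Finite F] {s : F → F} (h1 : s 1 = 1) (ha : ∀ a b, s (a + b) = s a + s b)
    (hm : ∀ a b, s (a * b) = s a * s b) : ∃ σ : F ≃+* F, ∀ a, σ a = s a := by
  have h0 : s 0 = 0 := by
    have := ha 0 0
    rw [add_zero] at this
    exact left_eq_add.mp this
  let f : F →+* F :=
    { toFun := s, map_one' := h1, map_mul' := hm, map_zero' := h0, map_add' := ha }
  have hb : Function.Bijective f := Finite.injective_iff_bijective.mp f.injective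
  exact ⟨RingEquiv.ofBijective f hb, fun a => rfl⟩

theorem fixing_three [Finite F] (hn : 3 ≤ n) (β : MulAut PSL) (h : ∀ i j : Fin n, i ≠ j →
    β • X (E i : Fin n → F) (E j) = X (E i : Fin n → F) (E j)) :
    ∃ (g : GL (Fin n) F) (σ : F ≃+* F), β = desc (cj g * fa σ) := by
  obtain ⟨s, hs⟩ := exists_fun β h
  have hmul : ∀ i j k : Fin n, i ≠ j → j ≠ k → i ≠ k → ∀ a b, s i k (a * b) = s i j a * s j k b := by
    intro i j k hij hjk hik a b
    have h1 := congrArg β (xx_conj hij hjk hik a b)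
    rw [map_mul, map_mul, map_mul, map_inv, (hs i j hij).1, (hs j k hjk).1, (hs i k hik).1,
      xx_conj hij hjk hik] at h1
    exact (xx_inj hik (mul_left_cancel h1)).symm
  have hne : ∀ i j : Fin n, i ≠ j → s i j 1 ≠ 0 := by
    intro i j hij h0
    have h1 := (hs i j hij).2.1 0 0
    rw [add_zero] at h1
    have h2 : s i j 0 = 0 := left_eq_add.mp h1
    exact one_ne_zero ((hs i j hij).2.2 (h0.trans h2.symm))
  have hc : ∀ i j k : Fin n, i ≠ j → j ≠ k → i ≠ k → s i k 1 = s i j 1 * s j k 1 := by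
    intro i j k hij hjk hik
    have := hmul i j k hij hjk hik 1 1
    rwa [mul_one] at this
  have hinv : ∀ i j : Fin n, i ≠ j → s i j 1 * s j i 1 = 1 := by
    intro i j hij
    obtain ⟨k, hki, hkj⟩ := exists_third' hn i j
    have h1 := hc i j k hij (Ne.symm hkj) (Ne.symm hki)
    have h2 := hc j i k (Ne.symm hij) (Ne.symm hki) (Ne.symm hkj)
    rw [h2, ← mul_assoc] at h1
    exact (mul_eq_right₀ (hne i k (Ne.symm hki))).mp h1.symm
  set z : Fin n := ⟨0, by omega⟩ with hz
  let d : Fin n → F := fun i => if i = z then 1 else s i z 1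
  have hd : ∀ i, d i ≠ 0 := by
    intro i
    show (if i = z then 1 else s i z 1) ≠ 0
    split_ifs with hi
    · exact one_ne_zero
    · exact hne i z hi
  have hdd : ∀ i j : Fin n, i ≠ j → d i * (d j)⁻¹ = s i j 1 := by
    intro i j hij
    show (if i = z then 1 else s i z 1) * (if j = z then 1 else s j z 1)⁻¹ = _
    by_cases hi : i = z
    · have hj : j ≠ z := fun h => hij (hi.trans h.symm)
      rw [if_pos hi, if_neg hj, one_mul, hi, eq_comm]
      exact eq_inv_of_mul_eq_one_left (hinv z j (Ne.symm hj))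
    · by_cases hj : j = z
      · rw [if_neg hi, if_pos hj, inv_one, mul_one, hj]
      · rw [if_neg hi, if_neg hj, hc i j z hij hj hi, mul_assoc, mul_inv_cancel₀ (hne j z hj), mul_one]
  have hst : ∀ i j : Fin n, i ≠ j → ∀ k l : Fin n, k ≠ l → ∀ a, (s i j 1)⁻¹ * s i j a = (s k l 1)⁻¹ * s k l a := by
    have row : ∀ i j k : Fin n, i ≠ j → i ≠ k → ∀ a, (s i j 1)⁻¹ * s i j a = (s i k 1)⁻¹ * s i k a := by
      intro i j k hij hik a
      by_cases hjk : j = k
      · rw [hjk]
      have h1 := hmul i j k hij hjk hik a 1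
      rw [mul_one] at h1
      rw [h1, hc i j k hij hjk hik]
      have := hne i j hij
      have := hne j k hjk
      field_simp
    have col : ∀ i j k : Fin n, i ≠ k → j ≠ k → ∀ a, (s i k 1)⁻¹ * s i k a = (s j k 1)⁻¹ * s j k a := by
      intro i j k hik hjk a
      by_cases hij : i = j
      · rw [hij]
      have h1 := hmul i j k hij hjk hik 1 a
      rw [one_mul] at h1
      rw [h1, hc i j k hij hjk hik]
      have := hne i j hij
      have := hne j k hjk
      field_simp
    intro i j hij k l hkl a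
    by_cases hil : i = l
    · -- go via a third index
      subst hil
      obtain ⟨m, hmi, hmk⟩ := exists_third' hn i k
      rw [row i j m hij (Ne.symm hmi) a, col i k m (Ne.symm hmi) (Ne.symm hmk) a,
        row k m i (Ne.symm hmk) hkl a]
    · rw [row i j l hij hil a, col i k l hil hkl a]
  obtain ⟨o, ho, -⟩ := exists_third' hn z z
  obtain ⟨k, hkz, hko⟩ := exists_third' hn z o
  obtain ⟨σ, hσ⟩ := exists_ringEquiv (s := fun a => (s z o 1)⁻¹ * s z o a)
    (inv_mul_cancel₀ (hne z o (Ne.symm ho)))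
    (fun a b => by
      show (s z o 1)⁻¹ * s z o (a + b) = (s z o 1)⁻¹ * s z o a + (s z o 1)⁻¹ * s z o b
      rw [(hs z o (Ne.symm ho)).2.1, mul_add])
    (fun a b => by
      show (s z o 1)⁻¹ * s z o (a * b) = (s z o 1)⁻¹ * s z o a * ((s z o 1)⁻¹ * s z o b)
      have e1 := hst z k (Ne.symm hkz) z o (Ne.symm ho) a
      have e2 := hst k o hko z o (Ne.symm ho) b
      rw [← e1, ← e2, hmul z k o (Ne.symm hkz) hko (Ne.symm ho),
        hc z k o (Ne.symm hkz) hko (Ne.symm ho)]
      have := hne z k (Ne.symm hkz)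
      have := hne k o hko
      field_simp)
  refine ⟨dg d hd, σ, ?_⟩
  apply aut_ext (by omega)
  intro i j hij a
  rw [map_mul]
  show _ = (desc (cj (dg d hd)) : MulAut PSL) ((desc (fa σ) : MulAut PSL) (xx i j a))
  rw [desc_fa_xx σ hij, desc_dg_xx d hd hij, (hs i j hij).1, hdd i j hij, hσ,
    ← hst i j hij z o (Ne.symm ho) a]
  congr 1
  rw [← mul_assoc, mul_inv_cancel₀ (hne i j hij), one_mul]

/-- main theorem for `n ≥ 3` -/
theorem exists_factor_three [Fintype F] (hn : 3 ≤ n) (α : MulAut PSL) :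
    ∃ (g : GL (Fin n) F) (σ : F ≃+* F), α = desc (cj g * fa σ) ∨ α = desc (cj g * fa σ * it) := by
  have key : ∀ α : MulAut PSL, Framed α → ∃ (g : GL (Fin n) F) (σ : F ≃+* F), α = desc (cj g * fa σ) := by
    intro α h
    obtain ⟨g, hg⟩ := h.exists_gl hn
    obtain ⟨g', σ, h'⟩ := fixing_three hn ((desc (cj g))⁻¹ * α) (fun i j hij => by
      rw [← smul_smul, hg i j hij, inv_smul_smul])
    refine ⟨g * g', σ, ?_⟩
    rw [cj_mul, mul_assoc, map_mul, ← h', mul_inv_cancel_left]
  rcases framed_or hn α with h | h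
  · obtain ⟨g, σ, h⟩ := key α h
    exact ⟨g, σ, Or.inl h⟩
  · obtain ⟨g, σ, h⟩ := key _ h
    refine ⟨g, σ, Or.inr ?_⟩
    rw [map_mul, ← h, mul_assoc, ← map_mul, it_mul_it, map_one, mul_one]

end XX

end Cfsg.Agent.Lib.AutPSL
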