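import Mathlib
import Cfsg.Prelude.Def_LieTypeDatum
import Cfsg.Agent.Lib.AutPSL7

/-! Automorphisms of `PSL_2(q)`; the general factorization. -/

set_option linter.all false

namespace Cfsg.Agent.Lib.AutPSL

open Matrix
open scoped Pointwise

section Two

variable {F : Type*} [Field F]

local notation "SL" => Matrix.SpecialLinearGroup (Fin 2) F
local notation "PSL" => Matrix.ProjectiveSpecialLinearGroup (Fin 2) F

theorem tv01 (a : F) : ((tv (a • (E 0 : Fin 2 → F)) (E 1) : SL) : Matrix (Fin 2) (Fin 2) F)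
    = !![1, a; 0, 1] := by
  rw [tv_coe (smul_inc (E_inc (by decide)) a)]
  ext i j
  fin_cases i <;> fin_cases j <;> simp [vecMulVec_apply]

theorem tv10 (a : F) : ((tv (a • (E 1 : Fin 2 → F)) (E 0) : SL) : Matrix (Fin 2) (Fin 2) F)
    = !![1, 0; a, 1] := by
  rw [tv_coe (smul_inc (E_inc (by decide)) a)]
  ext i j
  fin_cases i <;> fin_cases j <;> simp [vecMulVec_apply]

/-- the element `u(a) u⁻(b) u(a)` -/
noncomputable def ww (a b : F) : SL :=
  tv (a • (E 0 : Fin 2 → F)) (E 1) * tv (b • (E 1 : Fin 2 → F)) (E 0) * tv (a • (E 0 : Fin 2 → F)) (E 1)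

theorem ww_coe (a b : F) : ((ww a b : SL) : Matrix (Fin 2) (Fin 2) F)
    = !![1 + a * b, a + (1 + a * b) * a; b, 1 + b * a] := by
  show ((tv (a • (E 0 : Fin 2 → F)) (E 1) : SL) : Matrix (Fin 2) (Fin 2) F) *
    ((tv (b • (E 1 : Fin 2 → F)) (E 0) : SL) : Matrix (Fin 2) (Fin 2) F) *
    ((tv (a • (E 0 : Fin 2 → F)) (E 1) : SL) : Matrix (Fin 2) (Fin 2) F) = _
  rw [tv01, tv10]
  ext i j
  fin_cases i <;> fin_cases j <;> simp [Matrix.mul_apply, Fin.sum_univ_two] <;> ring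

theorem ww_conj {a : F} (ha : a ≠ 0) (b : F) :
    ww a (-a⁻¹) * tv (b • (E 0 : Fin 2 → F)) (E 1) * (ww a (-a⁻¹))⁻¹
      = tv ((-(a⁻¹ ^ 2 * b)) • (E 1 : Fin 2 → F)) (E 0) := by
  rw [mul_inv_eq_iff_eq_mul]
  apply Subtype.ext
  show ((ww a (-a⁻¹) : SL) : Matrix (Fin 2) (Fin 2) F) *
    ((tv (b • (E 0 : Fin 2 → F)) (E 1) : SL) : Matrix (Fin 2) (Fin 2) F) =
    ((tv ((-(a⁻¹ ^ 2 * b)) • (E 1 : Fin 2 → F)) (E 0) : SL) : Matrix (Fin 2) (Fin 2) F) *
    ((ww a (-a⁻¹) : SL) : Matrix (Fin 2) (Fin 2) F)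
  rw [tv01, tv10, ww_coe]
  ext i j
  fin_cases i <;> fin_cases j <;> simp [Matrix.mul_apply, Fin.sum_univ_two, ha] <;> field_simp <;> ring

theorem ww_unique {a b : F} (h : MulAut.conj (mk (ww a b)) • X (E 0 : Fin 2 → F) (E 1)
    = X (E 1 : Fin 2 → F) (E 0)) : 1 + a * b = 0 := by
  rw [conj_X _ (E_inc (by decide))] at h
  have h1 := (X_eq_iff (by norm_num) (mulVec_ne_zero _ (E_ne_zero _)) (vecMul_ne_zero _ (E_ne_zero _))
    (inc_conj _ (E_inc (by decide))) (E_ne_zero _) (E_ne_zero _) (E_inc (by decide))).mp h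
  obtain ⟨c, hc, h2⟩ := h1.1
  have h3 := congrFun h2 0
  rw [ww_coe] at h3
  simp at h3
  exact h3.resolve_left hc

theorem conj_ww_X {a : F} (ha : a ≠ 0) :
    MulAut.conj (mk (ww a (-a⁻¹))) • X (E 0 : Fin 2 → F) (E 1) = X (E 1 : Fin 2 → F) (E 0) := by
  ext x
  rw [Subgroup.mem_smul_pointwise_iff_exists, mem_X]
  constructor
  · rintro ⟨y, ⟨b, rfl⟩, rfl⟩
    refine ⟨-(a⁻¹ ^ 2 * b), ?_⟩
    show mk (ww a (-a⁻¹)) * mk (tv (b • (E 0 : Fin 2 → F)) (E 1)) * (mk (ww a (-a⁻¹)))⁻¹ = _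
    rw [← mk_inv, ← mk_mul, ← mk_mul, ww_conj ha]
  · rintro ⟨b, rfl⟩
    refine ⟨_, ⟨-(a ^ 2 * b), rfl⟩, ?_⟩
    show mk (ww a (-a⁻¹)) * mk (tv ((-(a ^ 2 * b)) • (E 0 : Fin 2 → F)) (E 1)) * (mk (ww a (-a⁻¹)))⁻¹ = _
    rw [← mk_inv, ← mk_mul, ← mk_mul, ww_conj ha]
    congr 3
    field_simp

theorem mk_ww (a b : F) : mk (ww a b) = xx 0 1 a * xx 1 0 b * xx (F := F) 0 1 a := rfl

theorem fixing_two [Finite F] (β : MulAut PSL) (h : ∀ i j : Fin 2, i ≠ j →
    β • X (E i : Fin 2 → F) (E j) = X (E i : Fin 2 → F) (E j)) :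
    ∃ (g : GL (Fin 2) F) (σ : F ≃+* F), β = desc (cj g * fa σ) := by
  obtain ⟨s', hs'⟩ := exists_fun β h
  obtain ⟨hs, hsa, hsi⟩ := hs' 0 1 (by decide)
  obtain ⟨ht, hta, hti⟩ := hs' 1 0 (by decide)
  set s := s' 0 1 with hsdef
  set t := s' 1 0 with htdef
  have hs0 : s 0 = 0 := by
    have := hsa 0 0
    rw [add_zero] at this
    exact left_eq_add.mp this
  have ht0 : t 0 = 0 := by
    have := hta 0 0
    rw [add_zero] at this
    exact left_eq_add.mp this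
  have hsne : ∀ a, a ≠ 0 → s a ≠ 0 := fun a ha h0 => ha (hsi (h0.trans hs0.symm))
  have htn : ∀ a, t (-a) = - t a := by
    intro a
    have := hta a (-a)
    rw [add_neg_cancel, ht0] at this
    exact (neg_eq_of_add_eq_zero_right this.symm).symm
  have hβw : ∀ a b, β (mk (ww a b)) = mk (ww (s a) (t b)) := by
    intro a b
    rw [mk_ww, mk_ww, map_mul, map_mul, hs, ht]
  have h1 : ∀ a, a ≠ 0 → t (-a⁻¹) = -(s a)⁻¹ := by
    intro a ha
    have h2 : MulAut.conj (mk (ww (s a) (t (-a⁻¹)))) • X (E 0 : Fin 2 → F) (E 1)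
        = X (E 1 : Fin 2 → F) (E 0) := by
      rw [← hβw, ← h 0 1 (by decide), smul_smul, ← conj_mul_aut, ← smul_smul, conj_ww_X ha,
        h 1 0 (by decide)]
    have h3 := ww_unique h2
    have h0 := hsne a ha
    have h4 : t (-a⁻¹) = (s a)⁻¹ * (s a * t (-a⁻¹)) := by
      rw [← mul_assoc, inv_mul_cancel₀ h0, one_mul]
    have h5 : s a * t (-a⁻¹) = -1 := by linear_combination h3
    rw [h4, h5, mul_neg, mul_one]
  have h2 : ∀ a, a ≠ 0 → ∀ b, t (-(a⁻¹ ^ 2 * b)) = -((s a)⁻¹ ^ 2 * s b) := by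
    intro a ha b
    have e : mk (ww a (-a⁻¹)) * xx 0 1 b * (mk (ww a (-a⁻¹)))⁻¹ = xx 1 0 (-(a⁻¹ ^ 2 * b)) := by
      rw [xx, ← mk_inv, ← mk_mul, ← mk_mul, ww_conj ha]; rfl
    have e2 : mk (ww (s a) (-(s a)⁻¹)) * xx 0 1 (s b) * (mk (ww (s a) (-(s a)⁻¹)))⁻¹
        = xx 1 0 (-((s a)⁻¹ ^ 2 * s b)) := by
      rw [xx, ← mk_inv, ← mk_mul, ← mk_mul, ww_conj (hsne a ha)]; rfl
    have h3 := congrArg β e
    rw [map_mul, map_mul, map_inv, hβw, hs, ht, h1 a ha, e2] at h3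
    exact (xx_inj (by decide) h3).symm
  set c := s 1 with hc
  have hc0 : c ≠ 0 := hsne 1 one_ne_zero
  have h3 : ∀ b, t b = c⁻¹ ^ 2 * s b := by
    intro b
    have := h2 1 one_ne_zero b
    rw [inv_one, one_pow, one_mul, htn] at this
    exact neg_injective this
  have h4 : ∀ a, a ≠ 0 → c⁻¹ ^ 2 * s a⁻¹ = (s a)⁻¹ := by
    intro a ha
    have := h1 a ha
    rw [htn, h3] at this
    exact neg_injective this
  have h5 : ∀ a, a ≠ 0 → ∀ b, c⁻¹ ^ 2 * s (a⁻¹ ^ 2 * b) = (s a)⁻¹ ^ 2 * s b := by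
    intro a ha b
    have := h2 a ha b
    rw [htn, h3] at this
    exact neg_injective this
  -- normalised
  have h6 : ∀ a b, c⁻¹ * s (a ^ 2 * b) = (c⁻¹ * s a) ^ 2 * (c⁻¹ * s b) := by
    intro a b
    by_cases ha : a = 0
    · subst ha
      rw [hs0]
      simp [hs0]
    · have e1 := h5 a⁻¹ (inv_ne_zero ha) b
      rw [inv_inv] at e1
      have e2 := h4 a ha
      have e3 : (s a⁻¹)⁻¹ = c⁻¹ ^ 2 * s a := by
        have : s a⁻¹ = c ^ 2 * (s a)⁻¹ := by
          rw [← e2]; field_simp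
        rw [this]
        have := hsne a ha
        field_simp
      rw [e3] at e1
      have e4 : s (a ^ 2 * b) = c ^ 2 * ((c⁻¹ ^ 2 * s a) ^ 2 * s b) := by
        rw [← e1]; field_simp
      rw [e4]
      field_simp
  have h7 : ∀ a b, c⁻¹ * s (a * b) = (c⁻¹ * s a) * (c⁻¹ * s b) := by
    intro a b
    by_cases h2 : (2 : F) = 0
    · -- every element is a square
      haveI : CharP F 2 := CharTwo.of_one_ne_zero_of_two_eq_zero one_ne_zero h2
      haveI : Fintype F := Fintype.ofFinite F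
      obtain ⟨x, hx⟩ : ∃ x, x ^ 2 = a := by
        have : Function.Bijective (frobenius F 2) :=
          Finite.injective_iff_bijective.mp (frobenius_inj F 2)
        obtain ⟨x, hx⟩ := this.2 a
        exact ⟨x, hx⟩
      have e1 := h6 x 1
      rw [mul_one, ← hc, inv_mul_cancel₀ hc0, mul_one, hx] at e1
      rw [← hx, h6 x b, ← e1, hx]
    · have e1 := h6 (a + 1) b
      have e2 := h6 a b
      have e3 : (a + 1) ^ 2 * b = a ^ 2 * b + (a * b + a * b) + b := by ring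
      rw [e3, hsa, hsa, hsa, hsa, ← hc] at e1
      have e4 : (2 : F) * (c⁻¹ * s (a * b)) = 2 * ((c⁻¹ * s a) * (c⁻¹ * s b)) := by
        have e5 : c⁻¹ * c = 1 := inv_mul_cancel₀ hc0
        linear_combination e1 - e2 + (2 * (c⁻¹ * s a) * (c⁻¹ * s b) + (c⁻¹ * c + 1) * (c⁻¹ * s b)) * e5
      exact mul_left_cancel₀ h2 e4
  obtain ⟨σ, hσ⟩ := exists_ringEquiv (s := fun a => c⁻¹ * s a) (inv_mul_cancel₀ hc0)
    (fun a b => by
      show c⁻¹ * s (a + b) = c⁻¹ * s a + c⁻¹ * s b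
      rw [hsa, mul_add]) h7
  let d : Fin 2 → F := ![c, 1]
  have hd : ∀ i, d i ≠ 0 := by
    intro i
    fin_cases i
    · exact hc0
    · exact one_ne_zero
  refine ⟨dg d hd, σ, ?_⟩
  apply aut_ext le_rfl
  intro i j hij a
  rw [map_mul]
  show _ = (desc (cj (dg d hd)) : MulAut PSL) ((desc (fa σ) : MulAut PSL) (xx i j a))
  rw [desc_fa_xx σ hij, desc_dg_xx d hd hij, hσ]
  have hcases : (i = 0 ∧ j = 1) ∨ (i = 1 ∧ j = 0) := by
    fin_cases i <;> fin_cases j <;> simp_all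
  rcases hcases with ⟨rfl, rfl⟩ | ⟨rfl, rfl⟩
  · rw [hs]
    congr 1
    show s a = c * (1 : F)⁻¹ * (c⁻¹ * s a)
    field_simp
  · rw [ht, h3]
    congr 1
    show c⁻¹ ^ 2 * s a = 1 * c⁻¹ * (c⁻¹ * s a)
    ring

/-- a pair of independent vectors in the plane with annihilating functionals -/
theorem par_plane {v v' w w' : Fin 2 → F} (hv : v ≠ 0) (hw : w ≠ 0) (hw' : w' ≠ 0)
    (h : w ⬝ᵥ v = 0) (h' : w' ⬝ᵥ v = 0) : Par w w' := by
  apply par_of_minors hw hw'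
  have h1 : w 0 * v 0 + w 1 * v 1 = 0 := by
    rw [← h]; simp [dotProduct, Fin.sum_univ_two]
  have h2 : w' 0 * v 0 + w' 1 * v 1 = 0 := by
    rw [← h']; simp [dotProduct, Fin.sum_univ_two]
  have h3 : w 0 * w' 1 - w 1 * w' 0 = 0 := by
    by_cases h0 : v 0 = 0
    · have hv1 : v 1 ≠ 0 := by
        intro h1
        apply hv
        funext i
        fin_cases i
        · exact h0
        · exact h1
      rw [h0, mul_zero, zero_add] at h1 h2
      rw [(mul_eq_zero.mp h1).resolve_right hv1, (mul_eq_zero.mp h2).resolve_right hv1]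
      ring
    · apply (mul_eq_zero.mp (show (w 0 * w' 1 - w 1 * w' 0) * v 0 = 0 by
        linear_combination w' 1 * h1 - w 1 * h2)).resolve_right h0
  intro i j
  fin_cases i <;> fin_cases j
  · ring
  · show w 0 * w' 1 = w 1 * w' 0
    exact sub_eq_zero.mp h3
  · show w 1 * w' 0 = w 0 * w' 1
    exact (sub_eq_zero.mp h3).symm
  · ring

theorem exists_factor_two [Fintype F] (α : MulAut PSL) :
    ∃ (g : GL (Fin 2) F) (σ : F ≃+* F), α = desc (cj g * fa σ) := by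
  obtain ⟨v, w, hv, hw, hvw, hX⟩ := aut_X le_rfl α (E_ne_zero (0 : Fin 2)) (E_ne_zero 1) (E_inc (by decide))
  obtain ⟨v', w', hv', hw', hvw', hX'⟩ := aut_X le_rfl α (E_ne_zero (1 : Fin 2)) (E_ne_zero 0) (E_inc (by decide))
  have hne : X v w ≠ X v' w' := by
    rw [← hX, ← hX']
    intro h
    have h1 := smul_left_cancel _ h
    have h2 := (X_eq_iff (by norm_num) (E_ne_zero _) (E_ne_zero _) (E_inc (by decide))
      (E_ne_zero _) (E_ne_zero _) (E_inc (by decide))).mp h1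
    obtain ⟨c, hc, h3⟩ := h2.1
    have := congrFun h3 1
    simp at this
  have hpar : ¬ Par v v' := by
    intro hp
    apply hne
    rw [X_eq_iff (by norm_num) hv hw hvw hv' hw' hvw']
    refine ⟨hp, ?_⟩
    obtain ⟨c, hc, rfl⟩ := hp
    apply par_plane (v' := v) hv hw hw' hvw
    rw [dotProduct_smul, smul_eq_mul] at hvw'
    exact (mul_eq_zero.mp hvw').resolve_left hc
  have hd1 : w ⬝ᵥ v' ≠ 0 := by
    intro h0
    apply hpar
    rw [dotProduct_comm] at h0 hvw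
    exact par_plane (v' := v) hw hv hv' hvw h0
  have hd2 : w' ⬝ᵥ v ≠ 0 := by
    intro h0
    apply hpar
    rw [dotProduct_comm] at h0 hvw'
    exact par_plane (v' := v) hw' hv hv' h0 hvw'
  have hdet : (Matrix.of (fun (k i : Fin 2) => (![v, v'] i) k)).det ≠ 0 := by
    intro h0
    rw [Matrix.det_fin_two] at h0
    simp at h0
    apply hpar
    apply par_of_minors hv hv'
    intro i j
    fin_cases i <;> fin_cases j
    · ring
    · show v 0 * v' 1 = v 1 * v' 0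
      linear_combination h0
    · show v 1 * v' 0 = v 0 * v' 1
      linear_combination -h0
    · ring
  set g : GL (Fin 2) F := Matrix.GeneralLinearGroup.mkOfDetNeZero _ hdet with hg
  have hg0 : (g : Matrix (Fin 2) (Fin 2) F) *ᵥ (E 0) = v := by
    funext k
    show ((Matrix.of (fun (k i : Fin 2) => (![v, v'] i) k)) *ᵥ (E 0)) k = v k
    simp
  have hg1 : (g : Matrix (Fin 2) (Fin 2) F) *ᵥ (E 1) = v' := by
    funext k
    show ((Matrix.of (fun (k i : Fin 2) => (![v, v'] i) k)) *ᵥ (E 1)) k = v' k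
    simp
  have hgw : w ᵥ* (g : Matrix (Fin 2) (Fin 2) F) = (w ⬝ᵥ v') • (E 1 : Fin 2 → F) := by
    funext k
    have e : ∀ k, (w ᵥ* (g : Matrix (Fin 2) (Fin 2) F)) k = w ⬝ᵥ (![v, v'] k) := fun k => rfl
    rw [e]
    fin_cases k
    · simp [hvw]
    · simp
  have hgw' : w' ᵥ* (g : Matrix (Fin 2) (Fin 2) F) = (w' ⬝ᵥ v) • (E 0 : Fin 2 → F) := by
    funext k
    have e : ∀ k, (w' ᵥ* (g : Matrix (Fin 2) (Fin 2) F)) k = w' ⬝ᵥ (![v, v'] k) := fun k => rfl
    rw [e]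
    fin_cases k
    · simp
    · simp [hvw']
  have inv_of : ∀ (x : Fin 2 → F) (c : F) (i : Fin 2), c ≠ 0 →
      x ᵥ* (g : Matrix (Fin 2) (Fin 2) F) = c • (E i : Fin 2 → F) →
      (E i) ᵥ* ((g⁻¹ : GL (Fin 2) F) : Matrix (Fin 2) (Fin 2) F) = c⁻¹ • x := by
    intro x c i hc h1
    have h2 : (E i : Fin 2 → F) = c⁻¹ • (x ᵥ* (g : Matrix (Fin 2) (Fin 2) F)) := by
      rw [h1, smul_smul, inv_mul_cancel₀ hc, one_smul]
    conv_lhs => rw [h2]
    rw [Matrix.smul_vecMul, Matrix.vecMul_vecMul, ← Units.val_mul, mul_inv_cancel, Units.val_one,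
      Matrix.vecMul_one]
  have hX1 : α • X (E 0 : Fin 2 → F) (E 1) = (desc (cj g) : MulAut PSL) • X (E 0 : Fin 2 → F) (E 1) := by
    rw [hX, desc_cj_X g (E_inc (by decide)), hg0, inv_of w _ 1 hd1 hgw, X_smul_right _ _ (inv_ne_zero hd1)]
  have hX2 : α • X (E 1 : Fin 2 → F) (E 0) = (desc (cj g) : MulAut PSL) • X (E 1 : Fin 2 → F) (E 0) := by
    rw [hX', desc_cj_X g (E_inc (by decide)), hg1, inv_of w' _ 0 hd2 hgw', X_smul_right _ _ (inv_ne_zero hd2)]
  obtain ⟨g', σ, h'⟩ := fixing_two ((desc (cj g))⁻¹ * α) (fun i j hij => by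
    have hcases : (i = 0 ∧ j = 1) ∨ (i = 1 ∧ j = 0) := by
      fin_cases i <;> fin_cases j <;> simp_all
    rcases hcases with ⟨rfl, rfl⟩ | ⟨rfl, rfl⟩
    · rw [← smul_smul, hX1, inv_smul_smul]
    · rw [← smul_smul, hX2, inv_smul_smul])
  refine ⟨g * g', σ, ?_⟩
  rw [cj_mul, mul_assoc, map_mul, ← h', mul_inv_cancel_left]

end Two

section Gen

variable {n : ℕ} {F : Type*} [Field F] [Fintype F]

local notation "PSL" => Matrix.ProjectiveSpecialLinearGroup (Fin n) F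

/-- factorization of automorphisms of `PSL_n(q)` -/
theorem exists_factor (hn : 2 ≤ n) (α : MulAut PSL) :
    ∃ (g : GL (Fin n) F) (σ : F ≃+* F), α = desc (cj g * fa σ) ∨ α = desc (cj g * fa σ * it) := by
  rcases Nat.lt_or_ge n 3 with h | h
  · obtain rfl : n = 2 := by omega
    obtain ⟨g, σ, h⟩ := exists_factor_two α
    exact ⟨g, σ, Or.inl h⟩
  · exact exists_factor_three h α

theorem isInnerDiagonal_iff (β : MulAut PSL) : Cfsg.IsInnerDiagonalAutPSL β ↔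
    ∃ g : GL (Fin n) F, β = desc (cj g) := by
  constructor
  · rintro ⟨g, hg⟩
    refine ⟨g, ?_⟩
    rw [eq_desc_iff]
    intro s
    exact hg s (cj g s) rfl
  · rintro ⟨g, rfl⟩
    refine ⟨g, fun s s' h => ?_⟩
    rw [desc_mk]
    exact congrArg _ (Subtype.ext h.symm)

theorem isStdField_iff (σ : F ≃+* F) (β : MulAut PSL) : Cfsg.IsStdFieldAutPSL σ β ↔
    β = desc (fa σ) := by
  constructor
  · intro hg
    rw [eq_desc_iff]
    intro s
    exact hg s (fa σ s) rfl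
  · rintro rfl s s' h
    rw [desc_mk]
    exact congrArg _ (Subtype.ext h.symm)

theorem isInverseTranspose_iff (β : MulAut PSL) : Cfsg.IsInverseTransposeAutPSL β ↔
    β = desc it := by
  constructor
  · intro hg
    rw [eq_desc_iff]
    intro s
    exact hg s (it s) rfl
  · rintro rfl s s' h
    rw [desc_mk]
    exact congrArg _ (Subtype.ext h.symm)

theorem isInduced_iff (g : GL (Fin n) F) (σ : F ≃+* F) (β : MulAut PSL) :
    Cfsg.IsInducedBySemilinearPSL g σ β ↔ β = desc (cj g * fa σ) := by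
  constructor
  · intro hg
    rw [eq_desc_iff]
    intro s
    exact hg s ((cj g * fa σ : MulAut (Matrix.SpecialLinearGroup (Fin n) F)) s) rfl
  · rintro rfl s s' h
    rw [desc_mk]
    exact congrArg _ (Subtype.ext h.symm)

end Gen

end Cfsg.Agent.Lib.AutPSL
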