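import Mathlib
import Cfsg.Prelude.Def_LieTypeDatum
import Cfsg.Agent.Lib.AutPSL8

/-! Uniqueness of the factorization of automorphisms of `PSL_n(q)`; `Out(PSL_n(q))`. -/

set_option linter.all false

namespace Cfsg.Agent.Lib.AutPSL

open Matrix
open scoped Pointwise

section Abs

/-- an abstract semidirect decomposition gives a projection -/
theorem exists_proj {A Γ H : Type*} [Group A] [Group Γ] [Group H] (δ : Γ →* A) (ψ : H →* A)
    (h1 : ∀ a, ∃ g h, a = δ g * ψ h) (h2 : ∀ g h, δ g * ψ h = 1 → h = 1)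
    (h3 : ∀ g h, ∃ g', ψ h * δ g = δ g' * ψ h) :
    ∃ θ : A →* H, (∀ g h, θ (δ g * ψ h) = h) ∧ Function.Surjective θ ∧ θ.ker = δ.range := by
  have uniq : ∀ g h g' h', δ g * ψ h = δ g' * ψ h' → h = h' := by
    intro g h g' h' he
    have : δ (g'⁻¹ * g) * ψ (h * h'⁻¹) = 1 := by
      rw [map_mul, map_mul, map_inv, map_inv, mul_assoc, ← mul_assoc (δ g), he]
      group
    exact mul_inv_eq_one.mp (h2 _ _ this)
  choose fg fh hf using h1
  let θ : A →* H :=
    { toFun := fh
      map_one' := by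
        apply h2 (fg 1)
        rw [← hf]
      map_mul' := by
        intro a b
        obtain ⟨g', hg'⟩ := h3 (fg b) (fh a)
        apply uniq (fg (a * b)) _ (fg a * g')
        rw [← hf, map_mul, map_mul, mul_assoc, ← mul_assoc (δ g'), ← hg', ← mul_assoc, ← mul_assoc,
          ← hf, mul_assoc, ← hf] }
  have hθ : ∀ g h, θ (δ g * ψ h) = h := fun g h => uniq _ _ _ _ (hf _).symm
  refine ⟨θ, hθ, fun h => ⟨ψ h, ?_⟩, ?_⟩
  · have := hθ 1 h
    rwa [map_one, one_mul] at this
  · ext a
    rw [MonoidHom.mem_ker]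
    constructor
    · intro h
      have h4 : fh a = 1 := h
      refine ⟨fg a, ?_⟩
      have := hf a
      rw [h4, map_one, mul_one] at this
      exact this.symm
    · rintro ⟨g, rfl⟩
      have := hθ g 1
      rwa [map_one, mul_one] at this

/-- cyclic kernel modulo a subgroup -/
theorem exists_out_proj {A C H : Type*} [Group A] [Group C] [Group H] (N : Subgroup A) [N.Normal]
    (θ : A →* H) (hθ : Function.Surjective θ) (hN : N ≤ θ.ker) (κ : C →* A)
    (hκ : ∀ c, θ (κ c) = 1) (hgen : ∀ a, θ a = 1 → ∃ c, ∃ x ∈ N, a = κ c * x) :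
    ∃ φ : (A ⧸ N) →* H, Function.Surjective φ ∧ (∃ τ : C →* φ.ker, Function.Surjective τ ∧
      ∀ c, τ c = 1 ↔ κ c ∈ N) := by
  let φ : (A ⧸ N) →* H := QuotientGroup.lift N θ hN
  refine ⟨φ, ?_, ?_⟩
  · intro h
    obtain ⟨a, rfl⟩ := hθ h
    exact ⟨QuotientGroup.mk a, rfl⟩
  · let τ : C →* φ.ker := ((QuotientGroup.mk' N).comp κ).codRestrict φ.ker (fun c => by
      rw [MonoidHom.mem_ker]
      exact hκ c)
    refine ⟨τ, ?_, ?_⟩
    · rintro ⟨x, hx⟩
      obtain ⟨a, rfl⟩ := QuotientGroup.mk_surjective x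
      obtain ⟨c, y, hy, rfl⟩ := hgen a hx
      refine ⟨c, Subtype.ext ?_⟩
      show (QuotientGroup.mk (κ c) : A ⧸ N) = QuotientGroup.mk (κ c * y)
      rw [QuotientGroup.eq]
      simpa using hy
    · intro c
      rw [← QuotientGroup.eq_one_iff (N := N)]
      constructor
      · intro h
        exact congrArg Subtype.val h
      · intro h
        exact Subtype.ext h

end Abs

section Uniq

variable {n : ℕ} {F : Type*} [Field F]

local notation "SL" => Matrix.SpecialLinearGroup (Fin n) F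
local notation "PSL" => Matrix.ProjectiveSpecialLinearGroup (Fin n) F

/-- scalar matrices -/
noncomputable def sc (c : F) (hc : c ≠ 0) : GL (Fin n) F :=
  Matrix.GeneralLinearGroup.mkOfDetNeZero (c • 1) (by
    rw [Matrix.det_smul, Matrix.det_one, mul_one]
    exact pow_ne_zero _ hc)

theorem sc_coe (c : F) (hc : c ≠ 0) : ((sc c hc : GL (Fin n) F) : Matrix (Fin n) (Fin n) F) = c • 1 := rfl

theorem cj_eq_one_of_scalar {g : GL (Fin n) F} {c : F} (h : (g : Matrix (Fin n) (Fin n) F) = c • 1) :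
    (cj g : MulAut SL) = 1 := by
  ext1 s
  apply Subtype.ext
  rw [cj_coe]
  have h1 : (g : Matrix (Fin n) (Fin n) F) * (s : Matrix (Fin n) (Fin n) F)
      = (s : Matrix (Fin n) (Fin n) F) * (g : Matrix (Fin n) (Fin n) F) := by
    rw [h, Matrix.smul_mul, Matrix.mul_smul, Matrix.one_mul, Matrix.mul_one]
  rw [h1, Matrix.mul_assoc, ← Units.val_mul, mul_inv_cancel, Units.val_one, Matrix.mul_one]
  rfl

theorem diag_of_fix (hn : 2 ≤ n) {g : GL (Fin n) F} {σ : F ≃+* F}
    (h : (desc (cj g * fa σ) : MulAut PSL) = 1) :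
    (∀ a, σ a = a) ∧ ∃ c : F, (g : Matrix (Fin n) (Fin n) F) = c • 1 := by
  have key : ∀ i j : Fin n, i ≠ j → ∀ a : F,
      vecMulVec ((g : Matrix (Fin n) (Fin n) F) *ᵥ ((σ a) • (E i : Fin n → F))) (E j)
        = vecMulVec (a • (E i : Fin n → F)) ((E j) ᵥ* (g : Matrix (Fin n) (Fin n) F)) := by
    intro i j hij a
    have h1 : (desc (cj g * fa σ) : MulAut PSL) (xx i j a) = xx i j a := by rw [h]; rfl
    rw [map_mul] at h1
    have h2 : (desc (cj g) : MulAut PSL) ((desc (fa σ) : MulAut PSL) (xx i j a)) = xx i j a := h1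
    rw [desc_fa_xx σ hij] at h2
    have h3 : (desc (cj g) : MulAut PSL) (xx i j (σ a)) =
      mk (cj g (tv ((σ a) • (E i : Fin n → F)) (E j))) := rfl
    rw [h3, cj_tv g (smul_inc (E_inc hij) _)] at h2
    have hg : ((g⁻¹ : GL (Fin n) F) : Matrix (Fin n) (Fin n) F) * (g : Matrix (Fin n) (Fin n) F) = 1 := by
      rw [← Units.val_mul, inv_mul_cancel, Units.val_one]
    have hinc : ((E j) ᵥ* ((g⁻¹ : GL (Fin n) F) : Matrix (Fin n) (Fin n) F)) ⬝ᵥ
        ((g : Matrix (Fin n) (Fin n) F) *ᵥ ((σ a) • (E i : Fin n → F))) = 0 := by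
      rw [Matrix.dotProduct_mulVec, Matrix.vecMul_vecMul, hg, Matrix.vecMul_one]
      exact smul_inc (E_inc hij) _
    have h4 := mk_tv_eq (by omega) hinc (smul_inc (E_inc hij) a) h2
    have h5 := congrArg (fun M => M * (g : Matrix (Fin n) (Fin n) F)) h4
    simp only [Matrix.vecMulVec_mul, Matrix.vecMul_vecMul, hg, Matrix.vecMul_one] at h5
    exact h5
  have ent : ∀ i j : Fin n, i ≠ j → ∀ (a : F) (k l : Fin n),
      ((g : Matrix (Fin n) (Fin n) F) k i * σ a) * (E j : Fin n → F) l
        = (a * (E i : Fin n → F) k) * (g : Matrix (Fin n) (Fin n) F) j l := by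
    intro i j hij a k l
    have := congrFun (congrFun (key i j hij a) k) l
    rw [vecMulVec_apply, vecMulVec_apply, Matrix.mulVec_smul] at this
    simpa [mul_comm] using this
  have offdiag : ∀ i k : Fin n, k ≠ i → (g : Matrix (Fin n) (Fin n) F) k i = 0 := by
    intro i k hk
    have := ent i k (Ne.symm hk) 1 k k
    simpa [hk] using this
  have diag : ∀ i j : Fin n, i ≠ j → ∀ a, (g : Matrix (Fin n) (Fin n) F) i i * σ a
      = a * (g : Matrix (Fin n) (Fin n) F) j j := by
    intro i j hij a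
    have := ent i j hij a i j
    simpa using this
  set z : Fin n := ⟨0, by omega⟩ with hz
  set o : Fin n := ⟨1, by omega⟩ with ho
  have hzo : z ≠ o := by
    intro h
    have := congrArg Fin.val h
    simp [hz, ho] at this
  have hdz : ∀ i, (g : Matrix (Fin n) (Fin n) F) i i = (g : Matrix (Fin n) (Fin n) F) z z := by
    intro i
    by_cases hi : i = z
    · rw [hi]
    · have := diag i z hi 1
      rwa [map_one, mul_one, one_mul] at this
  have hmat : (g : Matrix (Fin n) (Fin n) F) = (g : Matrix (Fin n) (Fin n) F) z z • 1 := by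
    ext i j
    rw [Matrix.smul_apply, smul_eq_mul]
    by_cases hij : i = j
    · subst hij
      rw [Matrix.one_apply_eq, mul_one, hdz]
    · rw [Matrix.one_apply_ne hij, mul_zero, offdiag j i hij]
  have hne : (g : Matrix (Fin n) (Fin n) F) z z ≠ 0 := by
    intro h0
    rw [h0, zero_smul] at hmat
    have h1 : (g : Matrix (Fin n) (Fin n) F) * ((g⁻¹ : GL (Fin n) F) : Matrix (Fin n) (Fin n) F) = 1 := by
      rw [← Units.val_mul, mul_inv_cancel, Units.val_one]
    rw [hmat, Matrix.zero_mul] at h1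
    have := congrFun (congrFun h1 z) z
    simp at this
  refine ⟨fun a => ?_, _, hmat⟩
  have := diag z o hzo a
  rw [hdz o, mul_comm a] at this
  exact mul_left_cancel₀ hne this

theorem not_graph (hn : 3 ≤ n) {g : GL (Fin n) F} {σ : F ≃+* F}
    (h : (desc (cj g * fa σ * it) : MulAut PSL) = 1) : False := by
  have key : ∀ i j : Fin n, i ≠ j → Par ((g : Matrix (Fin n) (Fin n) F) *ᵥ (E j)) (E i) := by
    intro i j hij
    have h1 : (desc (cj g * fa σ * it) : MulAut PSL) • X (E i : Fin n → F) (E j)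
        = X (E i : Fin n → F) (E j) := by rw [h, one_smul]
    have hf : (desc (fa σ) : MulAut PSL) • X (E j : Fin n → F) (E i) = X (E j : Fin n → F) (E i) := by
      ext x
      rw [Subgroup.mem_smul_pointwise_iff_exists, mem_X]
      constructor
      · rintro ⟨y, ⟨a, rfl⟩, rfl⟩
        exact ⟨σ a, desc_fa_xx σ (Ne.symm hij) a⟩
      · rintro ⟨a, rfl⟩
        refine ⟨xx j i (σ.symm a), xx_mem _ _ _, ?_⟩
        have := desc_fa_xx σ (Ne.symm hij) (σ.symm a)
        rw [RingEquiv.apply_symm_apply] at this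
        exact this
    rw [map_mul, map_mul, ← smul_smul, ← smul_smul, desc_it_X (E_inc hij), hf,
      desc_cj_X g (E_inc (Ne.symm hij))] at h1
    have hg : ((g⁻¹ : GL (Fin n) F) : Matrix (Fin n) (Fin n) F) * (g : Matrix (Fin n) (Fin n) F) = 1 := by
      rw [← Units.val_mul, inv_mul_cancel, Units.val_one]
    have hinc : ((E i) ᵥ* ((g⁻¹ : GL (Fin n) F) : Matrix (Fin n) (Fin n) F)) ⬝ᵥ
        ((g : Matrix (Fin n) (Fin n) F) *ᵥ (E j : Fin n → F)) = 0 := by
      rw [Matrix.dotProduct_mulVec, Matrix.vecMul_vecMul, hg, Matrix.vecMul_one]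
      exact E_inc (Ne.symm hij)
    have hv : (g : Matrix (Fin n) (Fin n) F) *ᵥ (E j : Fin n → F) ≠ 0 := by
      intro h0
      apply E_ne_zero (F := F) j
      rw [← Matrix.one_mulVec (E j), ← hg, ← Matrix.mulVec_mulVec, h0, Matrix.mulVec_zero]
    have hw : (E i) ᵥ* ((g⁻¹ : GL (Fin n) F) : Matrix (Fin n) (Fin n) F) ≠ 0 := by
      intro h0
      apply E_ne_zero (F := F) i
      rw [← Matrix.vecMul_one (E i), ← hg, ← Matrix.vecMul_vecMul, h0, Matrix.zero_vecMul]
    exact ((X_eq_iff (by omega) hv hw hinc (E_ne_zero i) (E_ne_zero j) (E_inc hij)).mp h1).1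
  obtain ⟨i, hi, -⟩ := exists_third' hn (⟨0, by omega⟩ : Fin n) ⟨0, by omega⟩
  obtain ⟨k, hk, hki⟩ := exists_third' hn (⟨0, by omega⟩ : Fin n) i
  have h1 := (key i _ hi).symm.trans (key k _ hk)
  obtain ⟨c, hc, h2⟩ := h1
  have := congrFun h2 k
  simp [hki] at this

/-- graph automorphisms, indexed by `Z/2` -/
def itH : Multiplicative (ZMod 2) →* MulAut (Matrix.SpecialLinearGroup (Fin n) F) where
  toFun e := if e.toAdd = 0 then 1 else it
  map_one' := if_pos rfl
  map_mul' := by
    intro a b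
    have hz : ∀ x : ZMod 2, x = 0 ∨ x = 1 := by decide
    rcases hz a.toAdd with ha | ha <;> rcases hz b.toAdd with hb | hb
    · simp [ha, hb]
    · simp [ha, hb]
    · simp [ha, hb]
    · have h11 : (1 : ZMod 2) + 1 = 0 := by decide
      rw [toAdd_mul, ha, hb, h11, if_pos rfl]
      exact it_mul_it.symm

theorem itH_ofAdd_one : (itH (Multiplicative.ofAdd 1) : MulAut SL) = it := by
  show (if (1 : ZMod 2) = 0 then 1 else it) = (it : MulAut SL)
  rw [if_neg (by decide)]

theorem itH_cases (e : Multiplicative (ZMod 2)) : (e = 1 ∧ (itH e : MulAut SL) = 1) ∨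
    (e = Multiplicative.ofAdd 1 ∧ (itH e : MulAut SL) = it) := by
  have hz : ∀ x : ZMod 2, x = 0 ∨ x = 1 := by decide
  rcases hz e.toAdd with h | h
  · left
    have : e = 1 := h
    exact ⟨this, by rw [this, map_one]⟩
  · right
    have : e = Multiplicative.ofAdd 1 := h
    exact ⟨this, by rw [this, itH_ofAdd_one]⟩

theorem itH_fa (σ : F ≃+* F) (e : Multiplicative (ZMod 2)) :
    (itH e : MulAut SL) * fa σ = fa σ * itH e := by
  rcases itH_cases (n := n) (F := F) e with ⟨-, h⟩ | ⟨-, h⟩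
  · rw [h, one_mul, mul_one]
  · rw [h, it_fa]

/-- field and graph automorphisms together -/
def psi : (F ≃+* F) × Multiplicative (ZMod 2) →* MulAut (Matrix.ProjectiveSpecialLinearGroup (Fin n) F) where
  toFun x := desc (fa x.1 * itH x.2)
  map_one' := by
    show desc (fa 1 * itH 1) = 1
    rw [map_one itH, fa_one, mul_one, map_one]
  map_mul' := by
    intro x y
    show desc (fa (x.1 * y.1) * itH (x.2 * y.2)) = desc _ * desc _
    rw [← map_mul, fa_mul, map_mul itH, mul_assoc, mul_assoc, ← mul_assoc (fa y.1),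
      ← itH_fa, mul_assoc]

/-- inner-diagonal automorphisms as a homomorphism -/
def delta : GL (Fin n) F →* MulAut (Matrix.ProjectiveSpecialLinearGroup (Fin n) F) :=
  desc.comp cjHom

theorem delta_apply (g : GL (Fin n) F) : (delta g : MulAut PSL) = desc (cj g) := rfl

theorem psi_apply (σ : F ≃+* F) (e : Multiplicative (ZMod 2)) :
    (psi (σ, e) : MulAut PSL) = desc (fa σ * itH e) := rfl

theorem psi_delta (g : GL (Fin n) F) (x : (F ≃+* F) × Multiplicative (ZMod 2)) :
    ∃ g', (psi x : MulAut PSL) * delta g = delta g' * psi x := by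
  obtain ⟨σ, e⟩ := x
  rcases itH_cases (n := n) (F := F) e with ⟨-, h⟩ | ⟨-, h⟩
  · refine ⟨faGL σ g, ?_⟩
    rw [psi_apply, delta_apply, delta_apply, h, mul_one, ← map_mul, ← map_mul, fa_cj]
  · refine ⟨faGL σ (itGL g), ?_⟩
    rw [psi_apply, delta_apply, delta_apply, h, ← map_mul, ← map_mul, mul_assoc, it_cj,
      ← mul_assoc, fa_cj, mul_assoc]

theorem delta_psi_eq_one (hn : 3 ≤ n) (g : GL (Fin n) F) (x : (F ≃+* F) × Multiplicative (ZMod 2))
    (h : (delta g : MulAut PSL) * psi x = 1) : x = 1 := by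
  obtain ⟨σ, e⟩ := x
  rw [psi_apply, delta_apply, ← map_mul, ← mul_assoc] at h
  rcases itH_cases (n := n) (F := F) e with ⟨he, h'⟩ | ⟨-, h'⟩
  · rw [h', mul_one] at h
    have := (diag_of_fix (by omega) h).1
    have hσ : σ = 1 := RingEquiv.ext this
    rw [he, hσ]
    rfl
  · rw [h'] at h
    exact (not_graph hn h).elim

theorem exists_proj_PSL [Fintype F] (hn : 3 ≤ n) :
    ∃ θ : MulAut PSL →* (F ≃+* F) × Multiplicative (ZMod 2),
      (∀ g x, θ (delta g * psi x) = x) ∧ Function.Surjective θ ∧ θ.ker = (delta (n := n) (F := F)).range := by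
  apply exists_proj delta psi
  · intro a
    obtain ⟨g, σ, h | h⟩ := exists_factor (by omega) a
    · refine ⟨g, (σ, 1), ?_⟩
      rw [h, psi_apply, delta_apply, ← map_mul, map_one itH, mul_one]
    · refine ⟨g, (σ, Multiplicative.ofAdd 1), ?_⟩
      rw [h, psi_apply, delta_apply, ← map_mul, itH_ofAdd_one, mul_assoc]
  · exact fun g x h => delta_psi_eq_one hn g x h
  · exact fun g x => psi_delta g x

/-- field automorphisms of `PSL` -/
def psi2 : (F ≃+* F) →* MulAut (Matrix.ProjectiveSpecialLinearGroup (Fin n) F) := desc.comp faHom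

theorem psi2_apply (σ : F ≃+* F) : (psi2 σ : MulAut PSL) = desc (fa σ) := rfl

end Uniq

section Uniq2

variable {F : Type*} [Field F] [Fintype F]

local notation "SL" => Matrix.SpecialLinearGroup (Fin 2) F
local notation "PSL" => Matrix.ProjectiveSpecialLinearGroup (Fin 2) F

theorem exists_proj_PSL_two :
    ∃ θ : MulAut PSL →* (F ≃+* F),
      (∀ g x, θ (delta g * psi2 x) = x) ∧ Function.Surjective θ ∧ θ.ker = (delta (n := 2) (F := F)).range := by
  apply exists_proj delta psi2
  · intro a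
    obtain ⟨g, σ, h⟩ := exists_factor_two a
    exact ⟨g, σ, by rw [h, psi2_apply, delta_apply, ← map_mul]⟩
  · intro g σ h
    rw [psi2_apply, delta_apply, ← map_mul] at h
    exact RingEquiv.ext (diag_of_fix le_rfl h).1
  · intro g σ
    exact ⟨faGL σ g, by rw [psi2_apply, delta_apply, delta_apply, ← map_mul, ← map_mul, fa_cj]⟩

end Uniq2

end Cfsg.Agent.Lib.AutPSL
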