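import Mathlib

/-! Automorphisms of finite fields. -/

set_option linter.all false

namespace Cfsg.Agent.Lib.FinGal

section Gal

variable (F : Type*) [Field F] [Fintype F] (p : ℕ) [Fact p.Prime]

/-- ring automorphisms are algebra automorphisms over the prime field -/
def galEquiv [Algebra (ZMod p) F] : (F ≃+* F) ≃* (F ≃ₐ[ZMod p] F) where
  toFun σ := AlgEquiv.ofRingEquiv (f := σ) (fun r => by
    have : (σ : F →+* F).comp (algebraMap (ZMod p) F) = algebraMap (ZMod p) F := Subsingleton.elim _ _
    exact congrArg (fun g => g r) this)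
  invFun σ := σ.toRingEquiv
  left_inv σ := rfl
  right_inv σ := rfl
  map_mul' σ τ := rfl

theorem card_gal {f : ℕ} (hF : Fintype.card F = p ^ f) (hf : 1 ≤ f) : Nat.card (F ≃+* F) = f := by
  haveI : CharP F p := charP_of_card_eq_prime_pow hF
  letI : Algebra (ZMod p) F := ZMod.algebra F p
  rw [Nat.card_congr (galEquiv F p).toEquiv, Nat.card_eq_fintype_card, ← Nat.card_eq_fintype_card,
    IsGalois.card_aut_eq_finrank]
  have h := Module.card_eq_pow_finrank (K := ZMod p) (V := F)
  rw [hF, ZMod.card] at h
  exact (Nat.pow_right_injective (Fact.out : p.Prime).two_le h).symm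

theorem cyclic_gal : IsCyclic (F ≃+* F) := by
  obtain ⟨p, hp⟩ := CharP.exists F
  haveI : Fact p.Prime := ⟨CharP.char_is_prime F p⟩
  letI : Algebra (ZMod p) F := ZMod.algebra F p
  exact isCyclic_of_surjective (galEquiv F p).symm (galEquiv F p).symm.surjective

theorem exists_gal_equiv {f : ℕ} (hF : Fintype.card F = p ^ f) (hf : 1 ≤ f) :
    Nonempty ((F ≃+* F) ≃* Multiplicative (ZMod f)) := by
  haveI := cyclic_gal F
  have h := card_gal F p hF hf
  have e := zmodCyclicMulEquiv (G := F ≃+* F) inferInstance
  rw [h] at e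
  exact ⟨e.symm⟩

end Gal

section Fix

variable {F : Type*} [Field F]

/-- the fixed field of an automorphism -/
def fixF (σ : F ≃+* F) : Subfield F where
  carrier := {x | σ x = x}
  mul_mem' := fun {a b} ha hb => by
    show σ (a * b) = a * b
    rw [map_mul, show σ a = a from ha, show σ b = b from hb]
  one_mem' := map_one σ
  add_mem' := fun {a b} ha hb => by
    show σ (a + b) = a + b
    rw [map_add, show σ a = a from ha, show σ b = b from hb]
  zero_mem' := map_zero σ
  neg_mem' := fun {a} ha => by
    show σ (-a) = -a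
    rw [map_neg, show σ a = a from ha]
  inv_mem' := fun a ha => by
    show σ a⁻¹ = a⁻¹
    rw [map_inv₀, show σ a = a from ha]

theorem mem_fixF {σ : F ≃+* F} {x : F} : x ∈ fixF σ ↔ σ x = x := Iff.rfl

theorem card_fixF [Finite F] (σ : F ≃+* F) : Nat.card F = Nat.card (fixF σ) ^ orderOf σ := by
  haveI : Finite (F ≃+* F) := Finite.of_injective (fun σ : F ≃+* F => (σ : F → F)) DFunLike.coe_injective
  letI : MulSemiringAction (F ≃+* F) F := RingAut.applyMulSemiringAction
  haveI : Finite (Subgroup.zpowers σ) := inferInstance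
  letI : Fintype (Subgroup.zpowers σ) := Fintype.ofFinite _
  have h1 := FixedPoints.finrank_eq_card (Subgroup.zpowers σ) F
  have h2 : FixedPoints.subfield (Subgroup.zpowers σ) F = fixF σ := by
    ext x
    constructor
    · intro h
      exact h ⟨σ, Subgroup.mem_zpowers σ⟩
    · intro h
      rintro ⟨τ, k, rfl⟩
      show (σ ^ k) x = x
      have h0 : σ x = x := h
      have hs : ∀ m : ℕ, (σ ^ m) x = x := by
        intro m
        induction m with
        | zero => rfl
        | succ m ih =>
          rw [pow_succ]
          show (σ ^ m) (σ x) = x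
          rw [h0, ih]
      obtain ⟨m, hm | hm⟩ := Int.eq_nat_or_neg k
      · rw [hm, zpow_natCast]; exact hs m
      · rw [hm, zpow_neg, zpow_natCast]
        have : (σ ^ m)⁻¹ ((σ ^ m) x) = x := by
          show (σ ^ m).symm ((σ ^ m) x) = x
          exact RingEquiv.symm_apply_apply _ _
        rw [hs m] at this
        exact this
  have h3 := Module.natCard_eq_pow_finrank (K := FixedPoints.subfield (Subgroup.zpowers σ) F) (V := F)
  rw [h1, h2, ← Nat.card_eq_fintype_card, Nat.card_zpowers] at h3
  exact h3

end Fix

end Cfsg.Agent.Lib.FinGal
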