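import Mathlib
import Cfsg.Agent.Lib.FinGal

/-! Galois descent and norms for finite fields. -/

set_option linter.all false

namespace Cfsg.Agent.Lib.FinGal

section Descent

variable {F : Type*} [Field F] {V : Type*} [AddCommGroup V] [Module F V]

/-- Dedekind independence for the powers of an automorphism -/
theorem dedekind (σ : F ≃+* F) {r : ℕ} (hr : orderOf σ = r) (hr0 : 0 < r) (c : ℕ → F)
    (h : ∀ a : F, ∑ i ∈ Finset.range r, (σ ^ i) a * c i = 0) : ∀ i < r, c i = 0 := by
  have hli := linearIndependent_monoidHom F F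
  have hinj : Function.Injective (fun i : Fin r => ((σ ^ (i : ℕ) : F ≃+* F) : F →* F)) := by
    intro i j hij
    have h1 : σ ^ (i : ℕ) = σ ^ (j : ℕ) := by
      ext x
      exact DFunLike.congr_fun hij x
    apply Fin.ext
    have h2 := pow_inj_mod.mp h1
    rw [hr, Nat.mod_eq_of_lt i.2, Nat.mod_eq_of_lt j.2] at h2
    exact h2
  have h2 := hli.comp _ hinj
  rw [Fintype.linearIndependent_iff] at h2
  intro i hi
  refine h2 (fun j => c j) ?_ ⟨i, hi⟩
  funext a
  have := h a
  rw [Finset.sum_range] at this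
  rw [Finset.sum_apply]
  show ∑ j : Fin r, (c j • ((fun a => (σ ^ (j : ℕ)) a) : F → F)) a = 0
  rw [← this]
  refine Finset.sum_congr rfl fun j _ => ?_
  show c j * (σ ^ (j : ℕ)) a = _
  ring

/-- iterates of a semilinear map -/
theorem iterate_smul (σ : F ≃+* F) (T : V → V) (hs : ∀ (a : F) v, T (a • v) = σ a • T v) (k : ℕ)
    (a : F) (v : V) : T^[k] (a • v) = (σ ^ k) a • T^[k] v := by
  induction k with
  | zero => rfl
  | succ k ih =>
    rw [Function.iterate_succ_apply', Function.iterate_succ_apply', ih, hs, pow_succ']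
    rfl

theorem iterate_add' (T : V → V) (ha : ∀ v w, T (v + w) = T v + T w) (k : ℕ) (v w : V) :
    T^[k] (v + w) = T^[k] v + T^[k] w := by
  induction k with
  | zero => rfl
  | succ k ih => rw [Function.iterate_succ_apply', Function.iterate_succ_apply',
      Function.iterate_succ_apply', ih, ha]

/-- fixed vectors span -/
theorem span_fixed (σ : F ≃+* F) {r : ℕ} (hr : orderOf σ = r) (hr0 : 0 < r) (T : V → V)
    (ha : ∀ v w, T (v + w) = T v + T w) (hs : ∀ (a : F) v, T (a • v) = σ a • T v)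
    (hT : ∀ v, T^[r] v = v) : Submodule.span F {v | T v = v} = ⊤ := by
  by_contra hne
  obtain ⟨f, hf0, hf⟩ := Submodule.exists_le_ker_of_lt_top _ (lt_top_iff_ne_top.mpr hne)
  apply hf0
  ext v
  have hT0 : T 0 = 0 := by
    have := ha 0 0
    rw [add_zero] at this
    exact left_eq_add.mp this
  have hTsum : ∀ (s : Finset ℕ) (g : ℕ → V), T (∑ i ∈ s, g i) = ∑ i ∈ s, T (g i) := by
    intro s g
    induction s using Finset.induction_on with
    | empty => simpa using hT0
    | insert a s has ih => rw [Finset.sum_insert has, Finset.sum_insert has, ha, ih]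
  have hfix : ∀ a : F, T (∑ i ∈ Finset.range r, T^[i] (a • v)) = ∑ i ∈ Finset.range r, T^[i] (a • v) := by
    intro a
    rw [hTsum]
    have e1 := Finset.sum_range_succ (fun i => T^[i] (a • v)) r
    have e2 := Finset.sum_range_succ' (fun i => T^[i] (a • v)) r
    rw [e1] at e2
    simp only [hT, Function.iterate_zero, id_eq] at e2
    have e3 := add_right_cancel e2
    rw [e3]
    refine Finset.sum_congr rfl fun i _ => ?_
    rw [Function.iterate_succ_apply']
  have h0 : ∀ a : F, ∑ i ∈ Finset.range r, (σ ^ i) a * f (T^[i] v) = 0 := by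
    intro a
    have h1 : f (∑ i ∈ Finset.range r, T^[i] (a • v)) = 0 := hf (Submodule.subset_span (hfix a))
    rw [map_sum] at h1
    rw [← h1]
    refine Finset.sum_congr rfl fun i _ => ?_
    rw [iterate_smul σ T hs, map_smul, smul_eq_mul]
  exact dedekind σ hr hr0 (fun i => f (T^[i] v)) h0 0 hr0

/-- Galois descent: a basis of fixed vectors -/
theorem exists_fixed_basis [Module.Finite F V] (σ : F ≃+* F) {r : ℕ} (hr : orderOf σ = r)
    (hr0 : 0 < r) (T : V → V) (ha : ∀ v w, T (v + w) = T v + T w)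
    (hs : ∀ (a : F) v, T (a • v) = σ a • T v) (hT : ∀ v, T^[r] v = v) :
    ∃ b : Fin (Module.finrank F V) → V, LinearIndependent F b ∧ ∀ i, T (b i) = b i := by
  have h1 := span_fixed σ hr hr0 T ha hs hT
  obtain ⟨f, hf1, hf2, hf3⟩ := Submodule.exists_fun_fin_finrank_span_eq F {v : V | T v = v}
  have e : Module.finrank F (Submodule.span F {v : V | T v = v}) = Module.finrank F V := by
    rw [h1, finrank_top]
  exact ⟨f ∘ Fin.cast e.symm, hf3.comp _ (Fin.cast_injective _), fun i => hf1 _⟩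

end Descent

section Sub

variable {F : Type*} [Field F] [Fintype F]

/-- the fixed field of an automorphism of order `r`, realised by any field of the right order -/
theorem exists_subfield_hom (σ : F ≃+* F) {r : ℕ} (hr : orderOf σ = r) (hr0 : 0 < r) {p f : ℕ}
    (hp : p.Prime) (hF : Fintype.card F = p ^ f) (hrf : r ∣ f) (F₀ : Type*) [Field F₀] [Fintype F₀]
    (hF₀ : Fintype.card F₀ = p ^ (f / r)) :
    ∃ ι : F₀ →+* F, ∀ x, σ x = x ↔ ∃ y, ι y = x := by
  have h1 := card_fixF σ
  rw [Nat.card_eq_fintype_card, hF, hr] at h1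
  obtain ⟨k, rfl⟩ := hrf
  rw [Nat.mul_div_cancel_left _ hr0] at hF₀
  rw [mul_comm, pow_mul] at h1
  have h2 : p ^ k = Nat.card (fixF σ) := Nat.pow_left_injective hr0.ne' h1
  letI : Fintype (fixF σ) := Fintype.ofFinite _
  have h3 : Fintype.card F₀ = Fintype.card (fixF σ) := by
    rw [hF₀, h2, Nat.card_eq_fintype_card]
  let e : F₀ ≃+* fixF σ := FiniteField.ringEquivOfCardEq h3
  refine ⟨(fixF σ).subtype.comp (e : F₀ →+* fixF σ), fun x => ⟨fun h => ?_, ?_⟩⟩
  · refine ⟨e.symm ⟨x, h⟩, ?_⟩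
    show ((e (e.symm ⟨x, h⟩) : fixF σ) : F) = x
    rw [RingEquiv.apply_symm_apply]
  · rintro ⟨y, rfl⟩
    exact (e y).2

theorem orderOf_dvd (σ : F ≃+* F) {p f : ℕ} [Fact p.Prime] (hF : Fintype.card F = p ^ f)
    (hf : 1 ≤ f) : orderOf σ ∣ f := by
  rw [← card_gal F p hF hf]
  exact orderOf_dvd_natCard σ

end Sub

section Norm

variable {F : Type*} [Field F]

/-- partial norms `b σ(b) ⋯ σ^{k-1}(b)` -/
def nm (σ : F ≃+* F) (b : F) : ℕ → F
  | 0 => 1
  | k + 1 => b * σ (nm σ b k)

theorem nm_zero (σ : F ≃+* F) (b : F) : nm σ b 0 = 1 := rfl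
theorem nm_succ (σ : F ≃+* F) (b : F) (k : ℕ) : nm σ b (k + 1) = b * σ (nm σ b k) := rfl

theorem nm_mul (σ : F ≃+* F) (a b : F) (k : ℕ) : nm σ (a * b) k = nm σ a k * nm σ b k := by
  induction k with
  | zero => simp [nm]
  | succ k ih => rw [nm_succ, nm_succ, nm_succ, ih, map_mul]; ring

theorem nm_succ' (σ : F ≃+* F) (b : F) (k : ℕ) : nm σ b (k + 1) = nm σ b k * (σ ^ k) b := by
  induction k with
  | zero => simp [nm]
  | succ k ih =>
    calc nm σ b (k + 1 + 1) = b * σ (nm σ b k * (σ ^ k) b) := by rw [nm_succ, ih]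
      _ = (b * σ (nm σ b k)) * σ ((σ ^ k) b) := by rw [map_mul, mul_assoc]
      _ = nm σ b (k + 1) * (σ ^ (k + 1)) b := by rw [← nm_succ, pow_succ']; rfl

theorem nm_ne_zero (σ : F ≃+* F) {b : F} (hb : b ≠ 0) (k : ℕ) : nm σ b k ≠ 0 := by
  induction k with
  | zero => exact one_ne_zero
  | succ k ih => exact mul_ne_zero hb (by rwa [Ne, map_eq_zero_iff σ σ.injective])

theorem nm_one (σ : F ≃+* F) (k : ℕ) : nm σ 1 k = 1 := by
  induction k with
  | zero => rfl
  | succ k ih => rw [nm_succ, ih, map_one, mul_one]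

theorem nm_fixed (σ : F ≃+* F) {r : ℕ} (hr : orderOf σ = r) {b : F} (hb : b ≠ 0) :
    σ (nm σ b r) = nm σ b r := by
  have h1 : nm σ b (r + 1) = nm σ b r * b := by
    rw [nm_succ', ← hr, pow_orderOf_eq_one]; rfl
  rw [nm_succ, mul_comm] at h1
  exact mul_right_cancel₀ hb h1

/-- Hilbert 90 for fields -/
theorem hilbert90 (σ : F ≃+* F) {r : ℕ} (hr : orderOf σ = r) (hr0 : 0 < r) {c : F}
    (h : nm σ c r = 1) : ∃ x : F, x ≠ 0 ∧ c * σ x = x := by
  let T : F → F := fun x => c * σ x
  have hT : ∀ k v, T^[k] v = nm σ c k * (σ ^ k) v := by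
    intro k v
    induction k with
    | zero => simp [nm]
    | succ k ih =>
      rw [Function.iterate_succ_apply', ih, nm_succ, pow_succ']
      show c * σ (nm σ c k * (σ ^ k) v) = _
      rw [map_mul, mul_assoc]
      rfl
  obtain ⟨b, hb, hfix⟩ := exists_fixed_basis (V := F) σ hr hr0 T (fun v w => by
      show c * σ (v + w) = c * σ v + c * σ w
      rw [map_add, mul_add]) (fun a v => by
      show c * σ (a * v) = σ a * (c * σ v)
      rw [map_mul]; ring) (fun v => by
      rw [hT, h, one_mul, ← hr, pow_orderOf_eq_one]; rfl)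
  have h1 : Module.finrank F F = 1 := Module.finrank_self F
  let i : Fin (Module.finrank F F) := ⟨0, by rw [h1]; exact one_pos⟩
  exact ⟨b i, hb.ne_zero i, hfix i⟩

/-- the norm is onto the fixed field -/
theorem nm_surj [Finite F] (σ : F ≃+* F) {r : ℕ} (hr : orderOf σ = r) (hr0 : 0 < r) {c : F}
    (hc : c ≠ 0) (hσ : σ c = c) : ∃ b : F, b ≠ 0 ∧ nm σ b r = c := by
  let f1 : Fˣ →* Fˣ :=
    { toFun := fun b => Units.mk0 (nm σ b r) (nm_ne_zero σ b.ne_zero r)
      map_one' := Units.ext (nm_one σ r)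
      map_mul' := fun a b => Units.ext (nm_mul σ a b r) }
  let f2 : Fˣ →* Fˣ :=
    { toFun := fun b => b * (Units.map (σ : F →* F) b)⁻¹
      map_one' := by rw [map_one, inv_one, mul_one]
      map_mul' := fun a b => by rw [map_mul, mul_inv, mul_mul_mul_comm] }
  have hk : f1.ker = f2.range := by
    ext b
    rw [MonoidHom.mem_ker]
    constructor
    · intro h
      obtain ⟨x, hx, hxc⟩ := hilbert90 σ hr hr0 (c := (b : F)) (congrArg Units.val h)
      refine ⟨Units.mk0 x hx, ?_⟩
      show Units.mk0 x hx * (Units.map (σ : F →* F) (Units.mk0 x hx))⁻¹ = b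
      rw [mul_inv_eq_iff_eq_mul]
      exact Units.ext hxc.symm
    · rintro ⟨x, rfl⟩
      apply Units.ext
      show nm σ ((x : F) * ((Units.map (σ : F →* F) x)⁻¹ : Fˣ)) r = 1
      have h2 : ((((Units.map (σ : F →* F) x)⁻¹ : Fˣ)) : F) = (σ x)⁻¹ := by
        rw [Units.val_inv_eq_inv_val]; rfl
      have h4 : nm σ (σ (x : F)) r = nm σ (x : F) r := by
        have h5 : ∀ k, nm σ (σ (x : F)) k = σ (nm σ (x : F) k) := by
          intro k
          induction k with
          | zero => exact (map_one σ).symm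
          | succ k ih => rw [nm_succ, nm_succ, ih, map_mul]
        rw [h5, nm_fixed σ hr x.ne_zero]
      have h6 : nm σ ((x : F) * (σ x)⁻¹) r * nm σ (σ (x : F)) r = nm σ (x : F) r := by
        have : σ (x : F) ≠ 0 := by
          rw [Ne, map_eq_zero_iff σ σ.injective]; exact x.ne_zero
        rw [← nm_mul, mul_assoc, inv_mul_cancel₀ this, mul_one]
      rw [h2]
      rw [h4] at h6
      exact (mul_eq_right₀ (nm_ne_zero σ x.ne_zero r)).mp h6
  have hle : f1.range ≤ f2.ker := by
    rintro _ ⟨b, rfl⟩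
    rw [MonoidHom.mem_ker]
    show f1 b * (Units.map (σ : F →* F) (f1 b))⁻¹ = 1
    rw [mul_inv_eq_one]
    exact Units.ext (nm_fixed σ hr b.ne_zero).symm
  have hcard : Nat.card f1.range = Nat.card f2.ker := by
    have e1 := f1.ker.card_mul_index
    have e2 := f2.ker.card_mul_index
    rw [Subgroup.index_ker, hk] at e1
    rw [Subgroup.index_ker, ← e1, mul_comm] at e2
    exact (Nat.eq_of_mul_eq_mul_left Nat.card_pos e2).symm
  have heq : f1.range = f2.ker := Subgroup.eq_of_le_of_card_ge hle hcard.ge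
  have hmem : Units.mk0 c hc ∈ f1.range := by
    rw [heq, MonoidHom.mem_ker]
    show Units.mk0 c hc * (Units.map (σ : F →* F) (Units.mk0 c hc))⁻¹ = 1
    rw [mul_inv_eq_one]
    exact Units.ext hσ.symm
  obtain ⟨b, hb⟩ := hmem
  exact ⟨b, b.ne_zero, congrArg Units.val hb⟩

end Norm

end Cfsg.Agent.Lib.FinGal
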