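import Mathlib
import Cfsg.Prelude.Def_LieTypeDatum
import Cfsg.Prelude.Def_KGroupFacts
import Cfsg.Agent.Lib.AutPSL9
import Cfsg.Agent.Lib.FinGal2

/-! `Out(PSL_n(q))`. -/

set_option linter.all false

namespace Cfsg.Agent.Lib.AutPSL

open Matrix
open scoped Pointwise

section Det

variable {n : ℕ} {F : Type*} [Field F]

local notation "SL" => Matrix.SpecialLinearGroup (Fin n) F
local notation "PSL" => Matrix.ProjectiveSpecialLinearGroup (Fin n) F

theorem delta_coe_SL (s : SL) : (delta (s : GL (Fin n) F) : MulAut PSL) = MulAut.conj (mk s) := by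
  rw [delta_apply, eq_comm, eq_desc_iff]
  intro t
  show mk s * mk t * (mk s)⁻¹ = _
  rfl

theorem delta_eq_one_iff (hn : 2 ≤ n) (g : GL (Fin n) F) : (delta g : MulAut PSL) = 1 ↔
    ∃ c : F, (g : Matrix (Fin n) (Fin n) F) = c • 1 := by
  constructor
  · intro h
    have : (desc (cj g * fa (1 : F ≃+* F)) : MulAut PSL) = 1 := by
      rw [fa_one, mul_one]; exact h
    exact (diag_of_fix hn this).2
  · rintro ⟨c, hc⟩
    rw [delta_apply, cj_eq_one_of_scalar hc, map_one]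

theorem scalar_ne_zero (hn : 1 ≤ n) {g : GL (Fin n) F} {c : F}
    (h : (g : Matrix (Fin n) (Fin n) F) = c • 1) : c ≠ 0 := by
  rintro rfl
  rw [zero_smul] at h
  have h1 : (g : Matrix (Fin n) (Fin n) F) * ((g⁻¹ : GL (Fin n) F) : Matrix (Fin n) (Fin n) F) = 1 := by
    rw [← Units.val_mul, mul_inv_cancel, Units.val_one]
  rw [h, Matrix.zero_mul] at h1
  have := congrFun (congrFun h1 ⟨0, hn⟩) ⟨0, hn⟩
  simp at this

theorem exists_SL_of_det {g : GL (Fin n) F} (h : (g : Matrix (Fin n) (Fin n) F).det = 1) :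
    ∃ s : SL, (s : GL (Fin n) F) = g := ⟨⟨g, h⟩, Units.ext rfl⟩

theorem delta_mem_inn_iff (hn : 2 ≤ n) (g : GL (Fin n) F) :
    (delta g : MulAut PSL) ∈ Cfsg.Inn PSL ↔ ∃ c : F, c ≠ 0 ∧ (g : Matrix (Fin n) (Fin n) F).det = c ^ n := by
  constructor
  · rintro ⟨x, hx⟩
    obtain ⟨s, rfl⟩ := mk_surj x
    rw [← delta_coe_SL] at hx
    have h1 : (delta (g * (s : GL (Fin n) F)⁻¹) : MulAut PSL) = 1 := by
      rw [map_mul, map_inv, ← hx, mul_inv_cancel]
    obtain ⟨c, hc⟩ := (delta_eq_one_iff hn _).mp h1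
    refine ⟨c, scalar_ne_zero (by omega) hc, ?_⟩
    have h2 : g = (g * (s : GL (Fin n) F)⁻¹) * (s : GL (Fin n) F) := by group
    rw [h2, Units.val_mul, Matrix.det_mul, hc, Matrix.det_smul, Matrix.det_one, mul_one,
      Fintype.card_fin]
    have : ((s : GL (Fin n) F) : Matrix (Fin n) (Fin n) F).det = 1 := s.2
    rw [this, mul_one]
  · rintro ⟨c, hc, h⟩
    have h1 : ((g * (sc c hc)⁻¹ : GL (Fin n) F) : Matrix (Fin n) (Fin n) F).det = 1 := by
      have h2 : ((g * (sc c hc)⁻¹ : GL (Fin n) F) : Matrix (Fin n) (Fin n) F).det *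
          ((sc c hc : GL (Fin n) F) : Matrix (Fin n) (Fin n) F).det = c ^ n := by
        rw [← Matrix.det_mul, ← Units.val_mul, inv_mul_cancel_right, h]
      rw [sc_coe, Matrix.det_smul, Matrix.det_one, mul_one, Fintype.card_fin] at h2
      exact (mul_eq_right₀ (pow_ne_zero _ hc)).mp h2
    obtain ⟨s, hs⟩ := exists_SL_of_det h1
    refine ⟨mk s, ?_⟩
    rw [← delta_coe_SL, hs, map_mul, map_inv, (delta_eq_one_iff hn (sc c hc)).mpr ⟨c, rfl⟩, inv_one,
      mul_one]

/-- diagonal matrices `diag(u,1,…,1)` -/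
noncomputable def kap (hn : 1 ≤ n) : Fˣ →* GL (Fin n) F where
  toFun u := dg (fun i => if i = ⟨0, hn⟩ then (u : F) else 1) (fun i => by
    split_ifs
    · exact u.ne_zero
    · exact one_ne_zero)
  map_one' := by
    apply Units.ext
    show Matrix.diagonal _ = 1
    rw [← Matrix.diagonal_one]
    congr 1
    funext i
    split_ifs <;> rfl
  map_mul' := by
    intro a b
    apply Units.ext
    show Matrix.diagonal _ = Matrix.diagonal _ * Matrix.diagonal _
    rw [Matrix.diagonal_mul_diagonal]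
    congr 1
    funext i
    split_ifs
    · rfl
    · rw [mul_one]

theorem det_kap (hn : 1 ≤ n) (u : Fˣ) :
    ((kap hn u : GL (Fin n) F) : Matrix (Fin n) (Fin n) F).det = u := by
  show (Matrix.diagonal (fun i : Fin n => if i = ⟨0, hn⟩ then (u : F) else 1)).det = u
  rw [Matrix.det_diagonal, Finset.prod_ite_eq' Finset.univ (⟨0, hn⟩ : Fin n) (fun _ => (u : F))]
  simp

theorem exists_kap (hn : 1 ≤ n) (g : GL (Fin n) F) : ∃ (u : Fˣ) (s : SL),
    g = kap hn u * (s : GL (Fin n) F) ∧ (u : F) = (g : Matrix (Fin n) (Fin n) F).det := by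
  let u : Fˣ := Matrix.GeneralLinearGroup.det g
  have hu : (u : F) = (g : Matrix (Fin n) (Fin n) F).det := rfl
  have h1 : (((kap hn u)⁻¹ * g : GL (Fin n) F) : Matrix (Fin n) (Fin n) F).det = 1 := by
    have h2 : ((kap hn u : GL (Fin n) F) : Matrix (Fin n) (Fin n) F).det *
        (((kap hn u)⁻¹ * g : GL (Fin n) F) : Matrix (Fin n) (Fin n) F).det = u := by
      rw [← Matrix.det_mul, ← Units.val_mul, mul_inv_cancel_left, hu]
    rw [det_kap] at h2
    exact (mul_eq_left₀ u.ne_zero).mp h2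
  obtain ⟨s, hs⟩ := exists_SL_of_det h1
  exact ⟨u, s, by rw [hs, mul_inv_cancel_left], hu⟩

theorem out_structure (hn : 2 ≤ n) [Fintype F] {H : Type*} [Group H] (θ : MulAut PSL →* H)
    (hθ : Function.Surjective θ) (hk : θ.ker = (delta (n := n) (F := F)).range) :
    ∃ φ : Cfsg.Out PSL →* H, Function.Surjective φ ∧ IsCyclic φ.ker ∧
      Nat.card φ.ker = Nat.gcd n (Fintype.card F - 1) := by
  have h1 : Cfsg.Inn PSL ≤ θ.ker := by
    rintro _ ⟨x, rfl⟩
    obtain ⟨s, rfl⟩ := mk_surj x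
    rw [hk]
    exact ⟨(s : GL (Fin n) F), delta_coe_SL s⟩
  obtain ⟨φ, hφ, τ, hτ, hτk⟩ := exists_out_proj (Cfsg.Inn PSL) θ hθ h1
    (delta.comp (kap (by omega : 1 ≤ n))) (fun c => by
      have : delta (kap (by omega : 1 ≤ n) c) ∈ θ.ker := by rw [hk]; exact ⟨_, rfl⟩
      exact this) (fun a ha => by
      have h2 : a ∈ θ.ker := ha
      rw [hk] at h2
      obtain ⟨g, rfl⟩ := h2
      obtain ⟨u, s, hg, -⟩ := exists_kap (by omega : 1 ≤ n) g
      refine ⟨u, delta (s : GL (Fin n) F), ⟨mk s, (delta_coe_SL s).symm⟩, ?_⟩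
      rw [hg, map_mul]
      rfl)
  refine ⟨φ, hφ, isCyclic_of_surjective τ hτ, ?_⟩
  have h2 : τ.ker = (powMonoidHom n : Fˣ →* Fˣ).range := by
    ext u
    rw [MonoidHom.mem_ker, hτk]
    show delta (kap _ u) ∈ Cfsg.Inn PSL ↔ _
    rw [delta_mem_inn_iff hn, det_kap]
    constructor
    · rintro ⟨c, hc, h⟩
      exact ⟨Units.mk0 c hc, Units.ext h.symm⟩
    · rintro ⟨c, rfl⟩
      exact ⟨c, c.ne_zero, by simp⟩
  have h3 : Nat.card φ.ker = τ.ker.index := by
    rw [Subgroup.index_ker, MonoidHom.range_eq_top.mpr hτ, Subgroup.card_top]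
  rw [h3, h2, IsCyclic.index_powMonoidHom_range, Cfsg.Agent.Lib.GLSL.card_units_field, Nat.gcd_comm]

end Det

end Cfsg.Agent.Lib.AutPSL
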