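import Mathlib
import Cfsg.Prelude.Def_LieTypeDatum
import Cfsg.Agent.Lib.AutPSL10

/-! Conjugacy in cosets of inner-diagonal automorphisms (Lang / Hilbert 90). -/

set_option linter.all false

namespace Cfsg.Agent.Lib.AutPSL

open Matrix
open scoped Pointwise

section H90

variable {n : ℕ} {F : Type*} [Field F]

local notation "SL" => Matrix.SpecialLinearGroup (Fin n) F
local notation "PSL" => Matrix.ProjectiveSpecialLinearGroup (Fin n) F

/-- `g σ(g) ⋯ σ^{k-1}(g)` -/
def NN (σ : F ≃+* F) (g : GL (Fin n) F) : ℕ → GL (Fin n) F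
  | 0 => 1
  | k + 1 => g * faGL σ (NN σ g k)

theorem NN_succ (σ : F ≃+* F) (g : GL (Fin n) F) (k : ℕ) :
    NN σ g (k + 1) = g * faGL σ (NN σ g k) := rfl

theorem cj_fa_pow (σ : F ≃+* F) (g : GL (Fin n) F) (k : ℕ) :
    (cj g * fa σ : MulAut SL) ^ k = cj (NN σ g k) * fa (σ ^ k) := by
  induction k with
  | zero => rw [pow_zero, pow_zero, fa_one, mul_one]; exact cj_one.symm
  | succ k ih =>
    rw [pow_succ', ih, NN_succ, cj_mul, pow_succ', fa_mul]
    rw [mul_assoc, mul_assoc, ← mul_assoc (fa σ), fa_cj]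
    simp only [mul_assoc]

theorem NN_comm (σ : F ≃+* F) (g : GL (Fin n) F) (k : ℕ) :
    NN σ g (k + 1) = NN σ g k * faGL (σ ^ k) g := by
  induction k with
  | zero =>
    rw [NN_succ]
    show g * faGL σ 1 = 1 * _
    rw [map_one, mul_one, one_mul]
    apply Units.ext
    ext i j
    rfl
  | succ k ih =>
    rw [NN_succ, ih, map_mul, ← mul_assoc, ← NN_succ]
    congr 1
    rw [pow_succ']
    rfl

theorem NN_smul (σ : F ≃+* F) (b : F) (hb : b ≠ 0) (g : GL (Fin n) F) (k : ℕ) :
    ((NN σ (sc b hb * g) k : GL (Fin n) F) : Matrix (Fin n) (Fin n) F)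
      = FinGal.nm σ b k • ((NN σ g k : GL (Fin n) F) : Matrix (Fin n) (Fin n) F) := by
  induction k with
  | zero => show (1 : Matrix (Fin n) (Fin n) F) = (1 : F) • 1; rw [one_smul]
  | succ k ih =>
    rw [NN_succ, NN_succ, Units.val_mul, faGL_coe, ih, Units.val_mul, Units.val_mul, faGL_coe,
      sc_coe, FinGal.nm_succ]
    have : (FinGal.nm σ b k • ((NN σ g k : GL (Fin n) F) : Matrix (Fin n) (Fin n) F)).map σ
        = σ (FinGal.nm σ b k) • (((NN σ g k : GL (Fin n) F) : Matrix (Fin n) (Fin n) F)).map σ := by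
      ext i j
      simp
    rw [this, Matrix.smul_mul, Matrix.one_mul, Matrix.smul_mul, Matrix.mul_smul, smul_smul]

/-- Hilbert 90 for `GL_n` -/
theorem hilbert90_GL (σ : F ≃+* F) {r : ℕ} (hr : orderOf σ = r) (hr0 : 0 < r) (g : GL (Fin n) F)
    (h : NN σ g r = 1) : ∃ k : GL (Fin n) F, g * faGL σ k = k := by
  let T : (Fin n → F) → (Fin n → F) := fun v => (g : Matrix (Fin n) (Fin n) F) *ᵥ (fun i => σ (v i))
  have hT : ∀ k v, T^[k] v = ((NN σ g k : GL (Fin n) F) : Matrix (Fin n) (Fin n) F) *ᵥ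
      (fun i => (σ ^ k) (v i)) := by
    intro k
    induction k with
    | zero => intro v; show v = (1 : Matrix (Fin n) (Fin n) F) *ᵥ _; rw [Matrix.one_mulVec]; rfl
    | succ k ih =>
      intro v
      rw [Function.iterate_succ_apply', ih]
      show (g : Matrix (Fin n) (Fin n) F) *ᵥ (fun i => σ ((((NN σ g k : GL (Fin n) F) :
        Matrix (Fin n) (Fin n) F) *ᵥ (fun i => (σ ^ k) (v i))) i)) = _
      have e : (fun i => σ ((((NN σ g k : GL (Fin n) F) :
        Matrix (Fin n) (Fin n) F) *ᵥ (fun i => (σ ^ k) (v i))) i)) =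
        (((NN σ g k : GL (Fin n) F) : Matrix (Fin n) (Fin n) F).map σ) *ᵥ
          (fun i => (σ ^ (k + 1)) (v i)) := by
        funext i
        simp only [Matrix.mulVec, dotProduct, map_sum, map_mul, Matrix.map_apply, pow_succ' σ k]
        rfl
      rw [e, Matrix.mulVec_mulVec, NN_succ, Units.val_mul, faGL_coe]
  obtain ⟨b, hb, hfix⟩ := FinGal.exists_fixed_basis (V := Fin n → F) σ hr hr0 T (fun v w => by
      show (g : Matrix (Fin n) (Fin n) F) *ᵥ (fun i => σ (v i + w i)) = _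
      simp only [map_add]
      exact Matrix.mulVec_add _ _ _) (fun a v => by
      show (g : Matrix (Fin n) (Fin n) F) *ᵥ (fun i => σ (a * v i)) = _
      simp only [map_mul]
      exact Matrix.mulVec_smul _ (σ a) (fun i => σ (v i))) (fun v => by
      rw [hT, h, ← hr, pow_orderOf_eq_one]
      show (1 : Matrix (Fin n) (Fin n) F) *ᵥ v = v
      rw [Matrix.one_mulVec])
  have hfr : Module.finrank F (Fin n → F) = n := by simp
  let c : Fin n → (Fin n → F) := b ∘ Fin.cast hfr.symm
  have hc : LinearIndependent F c := hb.comp _ (Fin.cast_injective _)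
  have hcf : ∀ i, T (c i) = c i := fun i => hfix _
  let M : Matrix (Fin n) (Fin n) F := Matrix.of (fun k i => c i k)
  have hM : IsUnit M := by
    rw [← Matrix.isUnit_transpose]
    exact Matrix.linearIndependent_rows_iff_isUnit.mp hc
  obtain ⟨k, hk⟩ := hM
  refine ⟨k, Units.ext ?_⟩
  rw [Units.val_mul, faGL_coe]
  show (g : Matrix (Fin n) (Fin n) F) * (k : Matrix (Fin n) (Fin n) F).map σ = (k : Matrix (Fin n) (Fin n) F)
  rw [hk]
  ext i j
  exact congrFun (hcf j) i

theorem det_scalar_val (hn : 1 ≤ n) {g : GL (Fin n) F} {c d : F}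
    (h : (g : Matrix (Fin n) (Fin n) F) = c • 1) (h' : (g : Matrix (Fin n) (Fin n) F) = d • 1) : c = d := by
  have := congrFun (congrFun (h.symm.trans h') ⟨0, hn⟩) ⟨0, hn⟩
  simpa using this

/-- the coset of a field automorphism of prime order -/
theorem coset_field [Finite F] (hn : 2 ≤ n) (σ : F ≃+* F) {r : ℕ} (hr : orderOf σ = r) (hr0 : 0 < r)
    (g : GL (Fin n) F) (h : (delta g * psi2 σ : MulAut PSL) ^ r = 1) :
    ∃ k : GL (Fin n) F, (delta g * psi2 σ : MulAut PSL) = delta k * psi2 σ * (delta k)⁻¹ := by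
  have h1 : (delta (NN σ g r) : MulAut PSL) = 1 := by
    have h2 : (delta g * psi2 σ : MulAut PSL) = desc (cj g * fa σ) := by
      rw [map_mul]; rfl
    rw [h2, ← map_pow, cj_fa_pow, ← hr, pow_orderOf_eq_one, fa_one, mul_one] at h
    rw [← hr]
    exact h
  obtain ⟨c, hc⟩ := (delta_eq_one_iff hn _).mp h1
  have hc0 := scalar_ne_zero (by omega) hc
  have hcσ : σ c = c := by
    have h3 : NN σ g (r + 1) = NN σ g r * g := by
      rw [NN_comm, ← hr, pow_orderOf_eq_one]
      rfl
    rw [NN_succ] at h3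
    have h4 := congrArg (fun x : GL (Fin n) F => (x : Matrix (Fin n) (Fin n) F)) h3
    simp only [Units.val_mul, faGL_coe, hc] at h4
    have h5 : (c • (1 : Matrix (Fin n) (Fin n) F)).map σ = σ c • 1 := by
      ext i j
      by_cases hij : i = j
      · subst hij; simp
      · simp [hij]
    rw [h5, Matrix.mul_smul, Matrix.mul_one, Matrix.smul_mul, Matrix.one_mul] at h4
    have h6 := congrArg (fun M => M * ((g⁻¹ : GL (Fin n) F) : Matrix (Fin n) (Fin n) F)) h4
    simp only [Matrix.smul_mul, ← Units.val_mul, mul_inv_cancel, Units.val_one] at h6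
    have := congrFun (congrFun h6 ⟨0, by omega⟩) ⟨0, by omega⟩
    simpa using this
  obtain ⟨b, hb, hbn⟩ := FinGal.nm_surj σ hr hr0 (inv_ne_zero hc0) (by rw [map_inv₀, hcσ])
  have h7 : NN σ (sc b hb * g) r = 1 := by
    apply Units.ext
    rw [NN_smul, hbn, hc, smul_smul, inv_mul_cancel₀ hc0, one_smul]
    rfl
  obtain ⟨k, hk⟩ := hilbert90_GL σ hr hr0 _ h7
  refine ⟨k, ?_⟩
  have h8 : (delta (sc b hb * g) : MulAut PSL) = delta g := by
    rw [map_mul, (delta_eq_one_iff hn (sc b hb)).mpr ⟨b, rfl⟩, one_mul]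
  have h9 : sc b hb * g = k * (faGL σ k)⁻¹ := by
    rw [eq_mul_inv_iff_mul_eq]; exact hk
  have h10 : (psi2 σ : MulAut PSL) * (delta k)⁻¹ = (delta (faGL σ k))⁻¹ * psi2 σ := by
    rw [← map_inv, ← map_inv, psi2_apply, delta_apply, delta_apply, ← map_mul, ← map_mul, fa_cj,
      map_inv]
  rw [mul_assoc, h10, ← mul_assoc, ← map_inv, ← map_mul, ← h9, h8]

end H90

end Cfsg.Agent.Lib.AutPSL
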