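import Mathlib
import Cfsg.Agent.Lib.FinGal2

/-! Hermitian forms over finite fields. -/

set_option linter.all false

namespace Cfsg.Agent.Lib.Herm

open Matrix Cfsg.Agent.Lib.FinGal

/-- hermitian forms with respect to an automorphism -/
structure HF {F : Type*} [Field F] (σ : F ≃+* F) (V : Type*) [AddCommGroup V] [Module F V] where
  h : V → V → F
  add_left : ∀ x y z, h (x + y) z = h x z + h y z
  smul_left : ∀ (a : F) x y, h (a • x) y = a * h x y
  symm : ∀ x y, h y x = σ (h x y)

variable {F : Type*} [Field F] {σ : F ≃+* F} {V : Type*} [AddCommGroup V] [Module F V]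

theorem HF.add_right (B : HF σ V) (x y z : V) : B.h x (y + z) = B.h x y + B.h x z := by
  rw [B.symm, B.add_left, map_add, ← B.symm, ← B.symm]

theorem HF.smul_right (B : HF σ V) (a : F) (x y : V) : B.h x (a • y) = σ a * B.h x y := by
  rw [B.symm, B.smul_left, map_mul, ← B.symm]

theorem HF.zero_left (B : HF σ V) (x : V) : B.h 0 x = 0 := by
  have := B.smul_left 0 0 x
  rwa [zero_smul, zero_mul] at this

theorem HF.zero_right (B : HF σ V) (x : V) : B.h x 0 = 0 := by
  rw [B.symm, B.zero_left, map_zero]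

theorem HF.neg_left (B : HF σ V) (x y : V) : B.h (-x) y = - B.h x y := by
  rw [← neg_one_smul F x, B.smul_left, neg_one_mul]

theorem HF.neg_right (B : HF σ V) (x y : V) : B.h x (-y) = - B.h x y := by
  rw [B.symm, B.neg_left, map_neg, ← B.symm]

theorem HF.sub_left (B : HF σ V) (x y z : V) : B.h (x - y) z = B.h x z - B.h y z := by
  rw [sub_eq_add_neg, B.add_left, B.neg_left, sub_eq_add_neg]

theorem HF.sub_right (B : HF σ V) (x y z : V) : B.h x (y - z) = B.h x y - B.h x z := by
  rw [sub_eq_add_neg, B.add_right, B.neg_right, sub_eq_add_neg]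

theorem HF.sum_left (B : HF σ V) {ι : Type*} (s : Finset ι) (f : ι → V) (y : V) :
    B.h (∑ i ∈ s, f i) y = ∑ i ∈ s, B.h (f i) y := by
  classical
  induction s using Finset.induction_on with
  | empty => simp [B.zero_left]
  | insert a s has ih => rw [Finset.sum_insert has, Finset.sum_insert has, B.add_left, ih]

theorem HF.sum_right (B : HF σ V) {ι : Type*} (s : Finset ι) (f : ι → V) (y : V) :
    B.h y (∑ i ∈ s, f i) = ∑ i ∈ s, B.h y (f i) := by
  classical
  induction s using Finset.induction_on with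
  | empty => simp [B.zero_right]
  | insert a s has ih => rw [Finset.sum_insert has, Finset.sum_insert has, B.add_right, ih]

/-- pairing with a fixed second vector is linear in the first -/
def HF.lin (B : HF σ V) (y : V) : V →ₗ[F] F where
  toFun x := B.h x y
  map_add' x x' := B.add_left x x' y
  map_smul' a x := B.smul_left a x y

theorem HF.eq_zero_comm (B : HF σ V) {x y : V} : B.h x y = 0 ↔ B.h y x = 0 := by
  constructor
  · intro h; rw [B.symm, h, map_zero]
  · intro h; rw [B.symm, h, map_zero]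

/-- restriction to a submodule -/
def HF.res (B : HF σ V) (W : Submodule F V) : HF σ W where
  h x y := B.h x y
  add_left x y z := B.add_left x y z
  smul_left a x y := B.smul_left a x y
  symm x y := B.symm x y

/-- nondegenerate -/
def HF.ND (B : HF σ V) : Prop := ∀ x, (∀ y, B.h x y = 0) → x = 0

theorem sigma_facts [Finite F] (hσ : orderOf σ = 2) :
    (∀ a, σ (σ a) = a) ∧ (∃ a, σ a ≠ a) ∧ (∀ c : F, c ≠ 0 → σ c = c → ∃ b, b ≠ 0 ∧ b * σ b = c) := by
  refine ⟨?_, ?_, ?_⟩
  · intro a
    have h : σ ^ 2 = 1 := by rw [← hσ, pow_orderOf_eq_one]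
    have h2 : (σ ^ 2) a = a := by rw [h]; rfl
    rw [pow_two] at h2
    exact h2
  · by_contra h
    push Not at h
    have : σ = 1 := RingEquiv.ext h
    rw [this, orderOf_one] at hσ
    omega
  · intro c hc hc2
    obtain ⟨b, hb, hbn⟩ := nm_surj σ hσ (by norm_num) hc hc2
    refine ⟨b, hb, ?_⟩
    rw [← hbn]
    show b * σ b = b * σ (b * σ 1)
    rw [map_one, mul_one]

/-- a nonzero hermitian form has a nonsingular vector -/
theorem HF.exists_ne (B : HF σ V) (hσ : ∃ a, σ a ≠ a) {x y : V} (hxy : B.h x y ≠ 0) :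
    ∃ u, B.h u u ≠ 0 := by
  by_contra hcon
  push Not at hcon
  obtain ⟨a, ha⟩ := hσ
  have key : ∀ c : F, c + σ c = 0 := by
    intro c
    have h1 := hcon ((c * (B.h x y)⁻¹) • x + y)
    rw [B.add_left, B.add_right, B.add_right, hcon, hcon, zero_add, add_zero, B.smul_left,
      mul_assoc, inv_mul_cancel₀ hxy, mul_one, B.symm ((c * (B.h x y)⁻¹) • x) y, B.smul_left,
      mul_assoc, inv_mul_cancel₀ hxy, mul_one] at h1
    exact h1
  have h2 := key 1
  rw [map_one] at h2
  have h3 := key a
  exact ha (by linear_combination h3 - a * h2)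

/-- orthonormal families -/
def HF.ON (B : HF σ V) {ι : Type*} (e : ι → V) : Prop :=
  (∀ i, B.h (e i) (e i) = 1) ∧ ∀ i j, i ≠ j → B.h (e i) (e j) = 0

theorem HF.ON.h_sum {B : HF σ V} {ι : Type*} [Fintype ι] {e : ι → V} (he : B.ON e) (c : ι → F)
    (j : ι) : B.h (∑ i, c i • e i) (e j) = c j := by
  classical
  rw [B.sum_left, Finset.sum_eq_single j]
  · rw [B.smul_left, he.1, mul_one]
  · intro i _ hij
    rw [B.smul_left, he.2 i j hij, mul_zero]
  · intro h
    exact absurd (Finset.mem_univ j) h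

theorem HF.ON.li {B : HF σ V} {ι : Type*} [Fintype ι] {e : ι → V} (he : B.ON e) :
    LinearIndependent F e := by
  rw [Fintype.linearIndependent_iff]
  intro g hg i
  rw [← he.h_sum g i, hg, B.zero_left]

/-- orthogonal complement -/
def HF.perp (B : HF σ V) (W : Submodule F V) : Submodule F V where
  carrier := {x | ∀ w ∈ W, B.h x w = 0}
  add_mem' := fun {x y} hx hy w hw => by rw [B.add_left, hx w hw, hy w hw, add_zero]
  zero_mem' := fun w _ => B.zero_left w
  smul_mem' := fun a x hx w hw => by rw [B.smul_left, hx w hw, mul_zero]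

theorem HF.mem_perp {B : HF σ V} {W : Submodule F V} {x : V} :
    x ∈ B.perp W ↔ ∀ w ∈ W, B.h x w = 0 := Iff.rfl

theorem HF.mem_perp_span {B : HF σ V} {s : Set V} {x : V} :
    x ∈ B.perp (Submodule.span F s) ↔ ∀ w ∈ s, B.h x w = 0 := by
  constructor
  · intro h w hw
    exact h w (Submodule.subset_span hw)
  · intro h w hw
    induction hw using Submodule.span_induction with
    | mem y hy => exact h y hy
    | zero => exact B.zero_right x
    | add y z _ _ hy hz => rw [B.add_right, hy, hz, add_zero]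
    | smul a y _ hy => rw [B.smul_right, hy, mul_zero]

theorem HF.ON.perp_ne_bot [FiniteDimensional F V] {B : HF σ V} {k : ℕ} {e : Fin k → V} (he : B.ON e)
    (hk : k < Module.finrank F V) : ∃ u, u ≠ 0 ∧ ∀ i, B.h u (e i) = 0 := by
  let f : V →ₗ[F] (Fin k → F) := LinearMap.pi (fun i => B.lin (e i))
  have hker : LinearMap.ker f ≠ ⊥ := by
    apply LinearMap.ker_ne_bot_of_finrank_lt
    simpa using hk
  obtain ⟨u, hu, hu0⟩ := Submodule.exists_mem_ne_zero_of_ne_bot hker
  exact ⟨u, hu0, fun i => congrFun (LinearMap.mem_ker.mp hu) i⟩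

theorem HF.exists_ON_extend [Finite F] [FiniteDimensional F V] (B : HF σ V) (hσ : orderOf σ = 2)
    (hB : B.ND) {k : ℕ} {e : Fin k → V} (he : B.ON e) (hk : k < Module.finrank F V) :
    ∃ u, B.h u u = 1 ∧ ∀ i, B.h u (e i) = 0 := by
  obtain ⟨h1, h2, h3⟩ := sigma_facts hσ
  obtain ⟨u, hu0, hu⟩ := he.perp_ne_bot hk
  have : ∃ y, B.h u y ≠ 0 := by
    by_contra hcon
    push Not at hcon
    exact hu0 (hB u hcon)
  obtain ⟨y, hy⟩ := this
  set y' := y - ∑ i, B.h y (e i) • e i with hy'
  have hy'e : ∀ j, B.h y' (e j) = 0 := by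
    intro j
    rw [hy', B.sub_left, he.h_sum, sub_self]
  have huy' : B.h u y' ≠ 0 := by
    rw [hy', B.sub_right, B.sum_right]
    have : ∑ i, B.h u (B.h y (e i) • e i) = 0 := by
      apply Finset.sum_eq_zero
      intro i _
      rw [B.smul_right, hu i, mul_zero]
    rw [this, sub_zero]
    exact hy
  let W : Submodule F V := B.perp (Submodule.span F (Set.range e))
  have hW : ∀ x, x ∈ W ↔ ∀ i, B.h x (e i) = 0 := by
    intro x
    show x ∈ B.perp _ ↔ _
    rw [HF.mem_perp_span]
    constructor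
    · intro h i; exact h _ ⟨i, rfl⟩
    · rintro h _ ⟨i, rfl⟩; exact h i
  obtain ⟨w, hw⟩ := (B.res W).exists_ne h2 (x := ⟨u, (hW u).mpr hu⟩) (y := ⟨y', (hW y').mpr hy'e⟩) huy'
  have hw' : B.h (w : V) (w : V) ≠ 0 := hw
  obtain ⟨b, hb0, hb⟩ := h3 (B.h (w : V) (w : V))⁻¹ (inv_ne_zero hw') (by
    rw [map_inv₀, ← B.symm])
  refine ⟨b • (w : V), ?_, fun i => ?_⟩
  · rw [B.smul_left, B.smul_right, ← mul_assoc, hb, inv_mul_cancel₀ hw']
  · rw [B.smul_left, (hW w).mp w.2 i, mul_zero]

theorem HF.ON.snoc {B : HF σ V} {k : ℕ} {e : Fin k → V} (he : B.ON e) {u : V}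
    (hu : B.h u u = 1) (hue : ∀ i, B.h u (e i) = 0) : B.ON (Fin.snoc e u : Fin (k + 1) → V) := by
  constructor
  · intro i
    refine Fin.lastCases ?_ (fun i => ?_) i
    · rw [Fin.snoc_last, hu]
    · rw [Fin.snoc_castSucc, he.1]
  · intro i j
    refine Fin.lastCases ?_ (fun i => ?_) i
    · refine Fin.lastCases ?_ (fun j => ?_) j
      · intro h; exact absurd rfl h
      · intro _; rw [Fin.snoc_last, Fin.snoc_castSucc, hue]
    · refine Fin.lastCases ?_ (fun j => ?_) j
      · intro _; rw [Fin.snoc_last, Fin.snoc_castSucc, B.eq_zero_comm, hue]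
      · intro h
        rw [Fin.snoc_castSucc, Fin.snoc_castSucc]
        exact he.2 i j (fun h' => h (congrArg _ h'))

theorem HF.exists_ON [Finite F] [FiniteDimensional F V] (B : HF σ V) (hσ : orderOf σ = 2)
    (hB : B.ND) : ∃ e : Fin (Module.finrank F V) → V, B.ON e := by
  have key : ∀ k ≤ Module.finrank F V, ∃ e : Fin k → V, B.ON e := by
    intro k
    induction k with
    | zero => intro _; exact ⟨Fin.elim0, fun i => i.elim0, fun i => i.elim0⟩
    | succ k ih =>
      intro hk
      obtain ⟨e, he⟩ := ih (by omega)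
      obtain ⟨u, hu, hue⟩ := B.exists_ON_extend hσ hB he (by omega)
      exact ⟨_, he.snoc hu hue⟩
  exact key _ le_rfl

section Mat

variable {n : ℕ}

/-- the hermitian form of a matrix -/
def mat (σ : F ≃+* F) (hσ : ∀ a, σ (σ a) = a) (H : Matrix (Fin n) (Fin n) F)
    (hH : (H.map σ).transpose = H) : HF σ (Fin n → F) where
  h x y := x ⬝ᵥ (H *ᵥ (fun i => σ (y i)))
  add_left x y z := add_dotProduct _ _ _
  smul_left a x y := smul_dotProduct _ _ _
  symm x y := by
    have h1 : ∀ i j, σ (H i j) = H j i := fun i j => congrFun (congrFun hH j) i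
    simp only [dotProduct, Matrix.mulVec, Finset.mul_sum, map_sum, map_mul, hσ, h1]
    rw [Finset.sum_comm]
    refine Finset.sum_congr rfl fun i _ => Finset.sum_congr rfl fun j _ => ?_
    ring

/-- invertible hermitian matrices are `k σ(k)ᵀ` -/
theorem exists_factor_herm [Finite F] (hσ : orderOf σ = 2) (H : GL (Fin n) F)
    (hH : (((H : Matrix (Fin n) (Fin n) F)).map σ).transpose = H) :
    ∃ k : GL (Fin n) F, (k : Matrix (Fin n) (Fin n) F) * ((k : Matrix (Fin n) (Fin n) F).map σ).transpose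
      = H := by
  obtain ⟨h1, h2, h3⟩ := sigma_facts hσ
  let B := mat σ h1 (H : Matrix (Fin n) (Fin n) F) hH
  have hB : B.ND := by
    intro x hx
    have h4 : x ᵥ* (H : Matrix (Fin n) (Fin n) F) = 0 := by
      funext j
      have := hx (Pi.single j 1)
      have e : (fun i => σ ((Pi.single j (1 : F) : Fin n → F) i)) = Pi.single j 1 := by
        funext i
        by_cases hij : i = j
        · subst hij; simp
        · simp [hij]
      have e2 : B.h x (Pi.single j 1) = x ⬝ᵥ ((H : Matrix (Fin n) (Fin n) F) *ᵥ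
        (fun i => σ ((Pi.single j (1 : F) : Fin n → F) i))) := rfl
      rw [e2, e, Matrix.dotProduct_mulVec, dotProduct_single_one] at this
      exact this
    have h5 := congrArg (fun v => v ᵥ* ((H⁻¹ : GL (Fin n) F) : Matrix (Fin n) (Fin n) F)) h4
    simp only [Matrix.vecMul_vecMul, ← Units.val_mul, mul_inv_cancel, Units.val_one,
      Matrix.vecMul_one, Matrix.zero_vecMul] at h5
    exact h5
  obtain ⟨e', he'⟩ := B.exists_ON hσ hB
  have hfr : Module.finrank F (Fin n → F) = n := by simp
  let e : Fin n → (Fin n → F) := e' ∘ Fin.cast hfr.symm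
  have he : B.ON e := ⟨fun i => he'.1 _, fun i j hij => he'.2 _ _ (fun h => hij (Fin.cast_injective _ h))⟩
  let P : Matrix (Fin n) (Fin n) F := Matrix.of e
  have hP : P * (H : Matrix (Fin n) (Fin n) F) * (P.map σ).transpose = 1 := by
    ext i j
    have : (P * (H : Matrix (Fin n) (Fin n) F) * (P.map σ).transpose) i j = B.h (e i) (e j) := by
      rw [Matrix.mul_assoc, Matrix.mul_apply]
      rfl
    rw [this]
    by_cases hij : i = j
    · subst hij; rw [he.1, Matrix.one_apply_eq]
    · rw [he.2 i j hij, Matrix.one_apply_ne hij]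
  have hdet : IsUnit P := by
    rw [Matrix.isUnit_iff_isUnit_det]
    have := congrArg Matrix.det hP
    rw [Matrix.det_mul, Matrix.det_mul, Matrix.det_one] at this
    rw [isUnit_iff_ne_zero]
    intro h0
    rw [h0, zero_mul, zero_mul] at this
    exact zero_ne_one this
  obtain ⟨p, hp⟩ := hdet
  refine ⟨p⁻¹, ?_⟩
  have hq : ((p⁻¹ : GL (Fin n) F) : Matrix (Fin n) (Fin n) F) * P = 1 := by
    rw [← hp, ← Units.val_mul, inv_mul_cancel, Units.val_one]
  have hq2 : (P.map σ).transpose * (((p⁻¹ : GL (Fin n) F) : Matrix (Fin n) (Fin n) F).map σ).transpose = 1 := by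
    rw [← Matrix.transpose_mul]
    have h6 := map_mul (RingHom.mapMatrix (m := Fin n) (σ : F →+* F))
      ((p⁻¹ : GL (Fin n) F) : Matrix (Fin n) (Fin n) F) P
    rw [hq, map_one] at h6
    have h7 : (((p⁻¹ : GL (Fin n) F) : Matrix (Fin n) (Fin n) F).map σ) * (P.map σ) = 1 := h6.symm
    rw [h7, Matrix.transpose_one]
  calc _ = ((p⁻¹ : GL (Fin n) F) : Matrix (Fin n) (Fin n) F) *
        (P * (H : Matrix (Fin n) (Fin n) F) * (P.map σ).transpose) *
        (((p⁻¹ : GL (Fin n) F) : Matrix (Fin n) (Fin n) F).map σ).transpose := by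
        rw [hP, Matrix.mul_one]
    _ = (((p⁻¹ : GL (Fin n) F) : Matrix (Fin n) (Fin n) F) * P) * (H : Matrix (Fin n) (Fin n) F) *
        ((P.map σ).transpose * (((p⁻¹ : GL (Fin n) F) : Matrix (Fin n) (Fin n) F).map σ).transpose) := by
        simp only [Matrix.mul_assoc]
    _ = _ := by rw [hq, hq2, Matrix.one_mul, Matrix.mul_one]

end Mat

end Cfsg.Agent.Lib.Herm
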