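import Mathlib
import Cfsg.Prelude.Def_LieTypeDatum
import Cfsg.Agent.Lib.AutPSL11
import Cfsg.Agent.Lib.Herm1

/-! Class splitting and centralizers in the inner-diagonal group. -/

set_option linter.all false

namespace Cfsg.Agent.Lib.AutPSL

open Matrix
open scoped Pointwise

section Gen

variable {A : Type*} [Group A]

theorem isConjUnder_equiv (K : Subgroup A) : Equivalence (fun y z : A => Cfsg.IsConjUnder K y z) where
  refl y := ⟨1, K.one_mem, by simp⟩
  symm := by
    rintro y z ⟨k, hk, rfl⟩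
    exact ⟨k⁻¹, K.inv_mem hk, by group⟩
  trans := by
    rintro x y z ⟨k, hk, rfl⟩ ⟨l, hl, rfl⟩
    exact ⟨l * k, K.mul_mem hl hk, by group⟩

/-- number of `K`-classes in an `H`-class -/
theorem split_count (H K : Subgroup A) [hK : K.Normal] (hKH : K ≤ H) (x : A) :
    Cfsg.splitClassCount H K x = (K ⊔ (H ⊓ Subgroup.centralizer {x})).relIndex H := by
  set S : Subgroup A := K ⊔ (H ⊓ Subgroup.centralizer {x}) with hS
  let r : {y : A // Cfsg.IsConjUnder H x y} → {y : A // Cfsg.IsConjUnder H x y} → Prop :=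
    fun y z => Cfsg.IsConjUnder K y.1 z.1
  have hr : Equivalence r :=
    ⟨fun y => (isConjUnder_equiv K).refl y.1, fun h => (isConjUnder_equiv K).symm h,
      fun h h' => (isConjUnder_equiv K).trans h h'⟩
  let f : H → Quot r := fun h => Quot.mk r ⟨(h : A) * x * (h : A)⁻¹, h, h.2, rfl⟩
  have hf : Function.Surjective f := by
    intro q
    induction q using Quot.ind with
    | mk y =>
      obtain ⟨y, h, hh, rfl⟩ := y
      exact ⟨⟨h, hh⟩, rfl⟩
  have hfe : ∀ h h' : H, f h = f h' ↔ h⁻¹ * h' ∈ S.subgroupOf H := by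
    intro h h'
    rw [Quot.eq, hr.eqvGen_iff, Subgroup.mem_subgroupOf]
    constructor
    · rintro ⟨k, hk, he⟩
      have he : (h' : A) * x * (h' : A)⁻¹ = k * ((h : A) * x * (h : A)⁻¹) * k⁻¹ := he
      have h1 : (((h⁻¹ * h' : H)) : A) = ((h : A)⁻¹ * k * h) * (((k * h : A))⁻¹ * h') := by
        push_cast
        group
      rw [h1]
      apply Subgroup.mul_mem
      · apply Subgroup.mem_sup_left
        have := hK.conj_mem k hk (h : A)⁻¹
        rwa [inv_inv] at this
      · apply Subgroup.mem_sup_right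
        refine ⟨H.mul_mem (H.inv_mem (H.mul_mem (hKH hk) h.2)) h'.2, ?_⟩
        refine Subgroup.mem_centralizer_iff.mpr ?_
        intro y hy
        rw [Set.mem_singleton_iff.mp hy]
        have : (k * (h : A))⁻¹ * h' * x = (k * (h : A))⁻¹ * ((h' : A) * x * (h' : A)⁻¹) * h' := by group
        rw [this, he]
        group
    · intro hm
      have hm' : (((h⁻¹ * h' : H)) : A) ∈ ((K ⊔ (H ⊓ Subgroup.centralizer {x}) : Subgroup A) : Set A) := hm
      rw [Subgroup.normal_mul] at hm'
      obtain ⟨k, hk, c, ⟨hcH, hc⟩, hkc⟩ := hm'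
      have hkc : k * c = (h : A)⁻¹ * h' := hkc
      refine ⟨(h : A) * k * (h : A)⁻¹, hK.conj_mem k hk h, ?_⟩
      show (h' : A) * x * (h' : A)⁻¹ = ((h : A) * k * (h : A)⁻¹) * ((h : A) * x * (h : A)⁻¹) *
        ((h : A) * k * (h : A)⁻¹)⁻¹
      have h2 : (h' : A) = h * (k * c) := by rw [hkc]; group
      have h3 : c * x * c⁻¹ = x := by
        have := Subgroup.mem_centralizer_iff.mp hc x rfl
        rw [← this]; group
      rw [h2]
      calc (h : A) * (k * c) * x * ((h : A) * (k * c))⁻¹ = h * k * (c * x * c⁻¹) * k⁻¹ * (h : A)⁻¹ := by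
            group
        _ = _ := by rw [h3]; group
  show Nat.card (Quot r) = (S.subgroupOf H).index
  rw [Subgroup.index_eq_card]
  symm
  apply Nat.card_congr
  let F' : (H ⧸ S.subgroupOf H) → Quot r := Quotient.lift f (fun a b hab => by
    rw [hfe]
    exact QuotientGroup.leftRel_apply.mp hab)
  refine Equiv.ofBijective F' ⟨?_, ?_⟩
  · intro a b
    induction a using QuotientGroup.induction_on with
    | H a =>
      induction b using QuotientGroup.induction_on with
      | H b =>
        intro hab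
        rw [QuotientGroup.eq]
        exact (hfe a b).mp hab
  · intro q
    obtain ⟨h, rfl⟩ := hf q
    exact ⟨QuotientGroup.mk h, rfl⟩

theorem split_count_conj (H K : Subgroup A) [hH : H.Normal] [hK : K.Normal] (hKH : K ≤ H) (x a : A) :
    Cfsg.splitClassCount H K (a * x * a⁻¹) = Cfsg.splitClassCount H K x := by
  rw [split_count H K hKH, split_count H K hKH]
  have hc : Subgroup.centralizer {a * x * a⁻¹} = MulAut.conj a • Subgroup.centralizer {x} := by
    ext y
    rw [Subgroup.mem_pointwise_smul_iff_inv_smul_mem, Subgroup.mem_centralizer_singleton_iff,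
      Subgroup.mem_centralizer_singleton_iff]
    have e : (MulAut.conj a)⁻¹ • y = a⁻¹ * y * a := by
      rw [← map_inv]
      show a⁻¹ * y * a⁻¹⁻¹ = _
      rw [inv_inv]
    rw [e]
    constructor
    · intro h
      have := congrArg (fun z => a⁻¹ * z * a) h
      calc a⁻¹ * y * a * x = a⁻¹ * (y * (a * x * a⁻¹)) * a := by group
        _ = a⁻¹ * (a * x * a⁻¹ * y) * a := by rw [h]
        _ = x * (a⁻¹ * y * a) := by group
    · intro h
      calc y * (a * x * a⁻¹) = a * (a⁻¹ * y * a * x) * a⁻¹ := by group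
        _ = a * (x * (a⁻¹ * y * a)) * a⁻¹ := by rw [h]
        _ = _ := by group
  have h1 : K ⊔ (H ⊓ Subgroup.centralizer {a * x * a⁻¹})
      = MulAut.conj a • (K ⊔ (H ⊓ Subgroup.centralizer {x})) := by
    rw [Subgroup.smul_sup, Subgroup.smul_inf, Subgroup.Normal.conj_smul_eq_self,
      Subgroup.Normal.conj_smul_eq_self, hc]
  rw [h1]
  have h2 : MulAut.conj a • H = H := Subgroup.Normal.conj_smul_eq_self a H
  calc (MulAut.conj a • (K ⊔ (H ⊓ Subgroup.centralizer {x}))).relIndex H
      = (MulAut.conj a • (K ⊔ (H ⊓ Subgroup.centralizer {x}))).relIndex (MulAut.conj a • H) := by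
        rw [h2]
    _ = _ := Subgroup.relIndex_pointwise_smul (MulAut.conj a) _ _

/-- index of a join in a finite cyclic group -/
theorem cyclic_index_sup {C : Type*} [CommGroup C] [IsCyclic C] [Finite C] (H K : Subgroup C) :
    (H ⊔ K).index = Nat.gcd H.index K.index := by
  have key : ∀ L : Subgroup C, L = (powMonoidHom L.index : C →* C).range := by
    intro L
    symm
    have hle : (powMonoidHom L.index : C →* C).range ≤ L := by
      rintro _ ⟨x, rfl⟩
      exact Subgroup.pow_index_mem L x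
    refine Subgroup.eq_of_le_of_card_ge hle ?_
    have h1 := (powMonoidHom L.index : C →* C).range.card_mul_index
    rw [IsCyclic.index_powMonoidHom_range, Nat.gcd_eq_right L.index_dvd_card] at h1
    have h2 := L.card_mul_index
    have h3 : 0 < L.index := Nat.pos_of_ne_zero Subgroup.index_ne_zero_of_finite
    exact (Nat.eq_of_mul_eq_mul_right h3 (h2.trans h1.symm)).le
  apply Nat.dvd_antisymm
  · exact Nat.dvd_gcd (Subgroup.index_dvd_of_le le_sup_left) (Subgroup.index_dvd_of_le le_sup_right)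
  · have hle : H ⊔ K ≤ (powMonoidHom (Nat.gcd H.index K.index) : C →* C).range := by
      apply sup_le
      · conv_lhs => rw [key H]
        rintro _ ⟨x, rfl⟩
        obtain ⟨m, hm⟩ := Nat.gcd_dvd_left H.index K.index
        refine ⟨x ^ m, ?_⟩
        show (x ^ m) ^ (Nat.gcd H.index K.index) = x ^ H.index
        rw [← pow_mul]
        conv_rhs => rw [hm]
        rw [mul_comm]
      · conv_lhs => rw [key K]
        rintro _ ⟨x, rfl⟩
        obtain ⟨m, hm⟩ := Nat.gcd_dvd_right H.index K.index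
        refine ⟨x ^ m, ?_⟩
        show (x ^ m) ^ (Nat.gcd H.index K.index) = x ^ K.index
        rw [← pow_mul]
        conv_rhs => rw [hm]
        rw [mul_comm]
    have h1 := Subgroup.index_dvd_of_le hle
    rw [IsCyclic.index_powMonoidHom_range, Nat.gcd_eq_right] at h1
    · exact h1
    · exact (Nat.gcd_dvd_left _ _).trans H.index_dvd_card

/-- conjugation of centralizers in a normal subgroup -/
theorem centralizer_conj_equiv (H : Subgroup A) [hH : H.Normal] (x a : A) :
    Nonempty (↥(H ⊓ Subgroup.centralizer {x}) ≃* ↥(H ⊓ Subgroup.centralizer {a * x * a⁻¹})) := by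
  have hc : H ⊓ Subgroup.centralizer {a * x * a⁻¹} =
      (H ⊓ Subgroup.centralizer {x}).map (MulAut.conj a).toMonoidHom := by
    ext y
    rw [Subgroup.mem_map]
    constructor
    · rintro ⟨hy, hyc⟩
      refine ⟨a⁻¹ * y * a, ⟨?_, ?_⟩, ?_⟩
      · have := hH.conj_mem y hy a⁻¹
        rwa [inv_inv] at this
      · refine Subgroup.mem_centralizer_iff.mpr ?_
        intro z hz
        rw [Set.mem_singleton_iff.mp hz]
        have h := Subgroup.mem_centralizer_iff.mp hyc _ rfl
        calc x * (a⁻¹ * y * a) = a⁻¹ * (a * x * a⁻¹ * y) * a := by group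
          _ = a⁻¹ * (y * (a * x * a⁻¹)) * a := by rw [h]
          _ = _ := by group
      · show a * (a⁻¹ * y * a) * a⁻¹ = y
        group
    · rintro ⟨z, ⟨hz, hzc⟩, rfl⟩
      refine ⟨hH.conj_mem z hz a, ?_⟩
      refine Subgroup.mem_centralizer_iff.mpr ?_
      intro w hw
      rw [Set.mem_singleton_iff.mp hw]
      have h := Subgroup.mem_centralizer_iff.mp hzc _ rfl
      show a * x * a⁻¹ * (a * z * a⁻¹) = a * z * a⁻¹ * (a * x * a⁻¹)
      calc a * x * a⁻¹ * (a * z * a⁻¹) = a * (x * z) * a⁻¹ := by group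
        _ = a * (z * x) * a⁻¹ := by rw [h]
        _ = _ := by group
  rw [hc]
  exact ⟨(H ⊓ Subgroup.centralizer {x}).equivMapOfInjective _ (MulAut.conj a).injective⟩

end Gen

section PSLpart

variable {n : ℕ} {F : Type*} [Field F] [Fintype F]

local notation "SL" => Matrix.SpecialLinearGroup (Fin n) F
local notation "PSL" => Matrix.ProjectiveSpecialLinearGroup (Fin n) F

theorem inndiag_eq : Cfsg.inndiagPSL n F = (delta (n := n) (F := F)).range := by
  show Subgroup.closure {β : MulAut PSL | Cfsg.IsInnerDiagonalAutPSL β} = _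
  have : {β : MulAut PSL | Cfsg.IsInnerDiagonalAutPSL β} = ((delta (n := n) (F := F)).range : Set _) := by
    ext β
    rw [Set.mem_setOf_eq, isInnerDiagonal_iff]
    constructor
    · rintro ⟨g, rfl⟩; exact ⟨g, rfl⟩
    · rintro ⟨g, rfl⟩; exact ⟨g, rfl⟩
  rw [this, Subgroup.closure_eq]

theorem inndiag_normal (hn : 2 ≤ n) : ((delta (n := n) (F := F)).range).Normal := by
  constructor
  rintro _ ⟨g, rfl⟩ α
  obtain ⟨g', σ, h⟩ := exists_factor hn α
  have key : ∃ x, α = delta g' * psi (σ, x) := by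
    rcases h with h | h
    · refine ⟨1, ?_⟩
      rw [h, psi_apply, delta_apply, ← map_mul, map_one itH, mul_one]
    · refine ⟨Multiplicative.ofAdd 1, ?_⟩
      rw [h, psi_apply, delta_apply, ← map_mul, itH_ofAdd_one, mul_assoc]
  obtain ⟨x, hx⟩ := key
  obtain ⟨g'', hg⟩ := psi_delta g (σ, x)
  refine ⟨g' * g'' * g'⁻¹, ?_⟩
  rw [hx, map_mul, map_mul, map_inv]
  calc _ = delta g' * (delta g'' * psi (σ, x)) * (psi (σ, x))⁻¹ * (delta g')⁻¹ := by group
    _ = delta g' * (psi (σ, x) * delta g) * (psi (σ, x))⁻¹ * (delta g')⁻¹ := by rw [hg]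
    _ = _ := by group

theorem inn_le : Cfsg.Inn PSL ≤ (delta (n := n) (F := F)).range := by
  rintro _ ⟨x, rfl⟩
  obtain ⟨s, rfl⟩ := mk_surj x
  exact ⟨(s : GL (Fin n) F), delta_coe_SL s⟩

/-- determinants of the matrices inducing automorphisms commuting with `x` -/
def detC (x : MulAut (Matrix.ProjectiveSpecialLinearGroup (Fin n) F)) : Subgroup Fˣ :=
  ((Subgroup.centralizer {x}).comap delta).map Matrix.GeneralLinearGroup.det

theorem split_PSL (hn : 2 ≤ n) (x : MulAut PSL) :
    Cfsg.splitClassCount (Cfsg.inndiagPSL n F) (Cfsg.Inn PSL) x = Nat.gcd n (detC x).index := by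
  rw [inndiag_eq, split_count _ _ inn_le, ← Subgroup.index_comap]
  set L := (Cfsg.Inn PSL ⊔ (delta.range ⊓ Subgroup.centralizer {x})).comap delta with hL
  have hdet : Function.Surjective (Matrix.GeneralLinearGroup.det : GL (Fin n) F →* Fˣ) := by
    haveI : Nonempty (Fin n) := ⟨⟨0, by omega⟩⟩
    exact Matrix.GeneralLinearGroup.det_surjective
  have hker : (Matrix.GeneralLinearGroup.det : GL (Fin n) F →* Fˣ).ker ≤ L := by
    intro g hg
    rw [MonoidHom.mem_ker] at hg
    rw [hL, Subgroup.mem_comap]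
    apply Subgroup.mem_sup_left
    rw [delta_mem_inn_iff hn]
    exact ⟨1, one_ne_zero, by rw [one_pow]; exact congrArg Units.val hg⟩
  rw [← Subgroup.index_map_eq L hdet hker]
  have hmap : L.map Matrix.GeneralLinearGroup.det = (powMonoidHom n : Fˣ →* Fˣ).range ⊔ detC x := by
    apply le_antisymm
    · rintro _ ⟨g, hg, rfl⟩
      have hg' : delta g ∈ ((Cfsg.Inn PSL ⊔ (delta.range ⊓ Subgroup.centralizer {x}) :
        Subgroup (MulAut PSL)) : Set (MulAut PSL)) := hg
      rw [Subgroup.normal_mul] at hg'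
      obtain ⟨k, hk, c, ⟨⟨g', rfl⟩, hc⟩, hkc⟩ := hg'
      have hk2 : delta (g * g'⁻¹) ∈ Cfsg.Inn PSL := by
        have : delta (g * g'⁻¹) = k := by
          rw [map_mul, map_inv, ← hkc]
          exact mul_inv_cancel_right _ _
        rw [this]; exact hk
      rw [delta_mem_inn_iff hn] at hk2
      obtain ⟨c, hc0, hcd⟩ := hk2
      have : Matrix.GeneralLinearGroup.det g = (Units.mk0 c hc0) ^ n * Matrix.GeneralLinearGroup.det g' := by
        have h1 : Matrix.GeneralLinearGroup.det (g * g'⁻¹) = (Units.mk0 c hc0) ^ n := Units.ext hcd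
        rw [← h1, ← map_mul, inv_mul_cancel_right]
      rw [this]
      exact Subgroup.mul_mem _ (Subgroup.mem_sup_left ⟨_, rfl⟩) (Subgroup.mem_sup_right ⟨g', hc, rfl⟩)
    · apply sup_le
      · rintro _ ⟨u, rfl⟩
        obtain ⟨g, hg⟩ := hdet (u ^ n)
        refine ⟨g, ?_, hg⟩
        apply Subgroup.mem_sup_left
        rw [delta_mem_inn_iff hn]
        exact ⟨u, u.ne_zero, by
          have := congrArg Units.val hg
          rw [Units.val_pow_eq_pow_val] at this
          exact this⟩
      · rintro _ ⟨g, hg, rfl⟩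
        exact ⟨g, Subgroup.mem_sup_right ⟨⟨g, rfl⟩, hg⟩, rfl⟩
  rw [hmap, cyclic_index_sup, IsCyclic.index_powMonoidHom_range]
  have h1 : (detC x).index ∣ Nat.card Fˣ := Subgroup.index_dvd_card _
  rw [Nat.gcd_comm (Nat.card Fˣ), Nat.gcd_assoc, Nat.gcd_eq_right h1]

/-- recognising the projective linear group -/
theorem pgl_equiv {F₀ : Type*} [Field F₀] {H : Type*} [Group H] (f : GL (Fin n) F₀ →* H)
    (hf : Function.Surjective f) (hk : ∀ g, f g = 1 ↔ ∃ u : F₀ˣ, g = Matrix.GeneralLinearGroup.scalar (Fin n) u) :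
    Nonempty (H ≃* Matrix.ProjGenLinGroup (Fin n) F₀) := by
  have hker : f.ker = Subgroup.center (GL (Fin n) F₀) := by
    ext g
    rw [MonoidHom.mem_ker, hk, Matrix.GeneralLinearGroup.center_eq_range_scalar]
    constructor
    · rintro ⟨u, rfl⟩; exact ⟨u, rfl⟩
    · rintro ⟨u, rfl⟩; exact ⟨u, rfl⟩
  have e1 : (GL (Fin n) F₀ ⧸ f.ker) ≃* H := QuotientGroup.quotientKerEquivOfSurjective f hf
  have e2 : (GL (Fin n) F₀ ⧸ f.ker) ≃* (GL (Fin n) F₀ ⧸ Subgroup.center (GL (Fin n) F₀)) :=
    QuotientGroup.quotientMulEquivOfEq hker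
  exact ⟨e1.symm.trans e2⟩

end PSLpart

end Cfsg.Agent.Lib.AutPSL
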