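import Mathlib
import Cfsg.Prelude.Def_LieTypeDatum
import Cfsg.Agent.Lib.AutPSL12

/-! Field and graph-field automorphisms of prime order of `PSL_n(q)`. -/

set_option linter.all false

namespace Cfsg.Agent.Lib.AutPSL

open Matrix
open scoped Pointwise

section GF

variable {n : ℕ} {F : Type*} [Field F] [Fintype F]

local notation "SL" => Matrix.SpecialLinearGroup (Fin n) F
local notation "PSL" => Matrix.ProjectiveSpecialLinearGroup (Fin n) F

theorem psi2_injective (hn : 2 ≤ n) : Function.Injective (psi2 (n := n) (F := F)) := by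
  rw [injective_iff_map_eq_one]
  intro σ h
  have : (desc (cj 1 * fa σ) : MulAut PSL) = 1 := by
    rw [cj_one, one_mul]; exact h
  exact RingEquiv.ext (diag_of_fix hn this).1

theorem orderOf_psi2 (hn : 2 ≤ n) (σ : F ≃+* F) : orderOf (psi2 σ : MulAut PSL) = orderOf σ :=
  orderOf_injective _ (psi2_injective hn) σ

/-- the generator of graph type -/
def g1' : Multiplicative (ZMod 2) := Multiplicative.ofAdd 1

theorem psi_g1 (σ : F ≃+* F) : (psi (σ, g1') : MulAut PSL) = desc (fa σ * it) := by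
  rw [psi_apply]
  show desc (fa σ * itH (Multiplicative.ofAdd 1)) = _
  rw [itH_ofAdd_one]

theorem psi_injective (hn : 3 ≤ n) : Function.Injective (psi (n := n) (F := F)) := by
  rw [injective_iff_map_eq_one]
  intro x h
  exact delta_psi_eq_one hn 1 x (by rw [map_one, one_mul, h])

theorem graph_field_order (hn : 3 ≤ n) {σ : F ≃+* F} (hσ : σ ≠ 1) {r : ℕ} (hr : r.Prime)
    (h : orderOf (psi (σ, g1') : MulAut PSL) = r) : r = 2 ∧ orderOf σ = 2 := by
  have h1 := pow_orderOf_eq_one (psi (σ, g1') : MulAut PSL)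
  rw [h, ← map_pow] at h1
  have h2 := psi_injective hn (h1.trans (map_one psi).symm)
  have h3 : σ ^ r = 1 := congrArg Prod.fst h2
  have h4 : g1' ^ r = 1 := congrArg Prod.snd h2
  have h5 : ((r : ℕ) : ZMod 2) = 0 := by
    have h6 : Multiplicative.toAdd (g1' ^ r) = 0 := by rw [h4]; rfl
    rw [toAdd_pow] at h6
    simpa [g1'] using h6
  have h6 : 2 ∣ r := (ZMod.natCast_eq_zero_iff r 2).mp h5
  have h7 : r = 2 := ((Nat.prime_dvd_prime_iff_eq Nat.prime_two hr).mp h6).symm
  refine ⟨h7, ?_⟩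
  rw [h7] at h3
  exact orderOf_eq_prime h3 hσ

theorem herm_norm (hn : 1 ≤ n) {σ : F ≃+* F} (hσ : orderOf σ = 2) {g : GL (Fin n) F} {c : F}
    (hg : (g : Matrix (Fin n) (Fin n) F) = c • ((g : Matrix (Fin n) (Fin n) F).map σ).transpose) :
    ∃ (b : F) (hb : b ≠ 0), (((sc b hb * g : GL (Fin n) F) : Matrix (Fin n) (Fin n) F).map σ).transpose
      = ((sc b hb * g : GL (Fin n) F) : Matrix (Fin n) (Fin n) F) := by
  obtain ⟨h1, h2, h3⟩ := Herm.sigma_facts hσ
  have hc0 : c ≠ 0 := by
    rintro rfl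
    rw [zero_smul] at hg
    exact scalar_ne_zero hn (g := g) (c := 0) (by rw [hg, zero_smul]) rfl
  have hgt : ((g : Matrix (Fin n) (Fin n) F).map σ).transpose = c⁻¹ • (g : Matrix (Fin n) (Fin n) F) := by
    conv_rhs => rw [hg]
    rw [smul_smul, inv_mul_cancel₀ hc0, one_smul]
  have hent : ∀ i j, σ ((g : Matrix (Fin n) (Fin n) F) j i) = c⁻¹ * (g : Matrix (Fin n) (Fin n) F) i j :=
    fun i j => congrFun (congrFun hgt i) j
  have hcc : c * σ c = 1 := by
    obtain ⟨i, j, hij⟩ : ∃ i j, (g : Matrix (Fin n) (Fin n) F) i j ≠ 0 := by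
      by_contra hcon
      push Not at hcon
      have : (g : Matrix (Fin n) (Fin n) F) = (0 : F) • 1 := by
        ext i j; rw [hcon]; simp
      exact scalar_ne_zero hn this rfl
    have e2 := hent i j
    have e3 := congrArg σ e2
    rw [h1, map_mul, map_inv₀, hent j i] at e3
    have e4 : (g : Matrix (Fin n) (Fin n) F) j i ≠ 0 := by
      intro h0
      rw [h0, map_zero] at e2
      rcases mul_eq_zero.mp e2.symm with h | h
      · exact inv_ne_zero hc0 h
      · exact hij h
    have hσc : σ c ≠ 0 := by rw [Ne, map_eq_zero_iff σ σ.injective]; exact hc0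
    field_simp at e3
    linear_combination e3
  obtain ⟨x, hx, hxc⟩ := FinGal.hilbert90 σ hσ (by norm_num) (c := c) (by
    show c * σ (c * σ 1) = 1
    rw [map_one, mul_one]; exact hcc)
  refine ⟨x⁻¹, inv_ne_zero hx, ?_⟩
  have e : ((sc x⁻¹ (inv_ne_zero hx) * g : GL (Fin n) F) : Matrix (Fin n) (Fin n) F)
      = x⁻¹ • (g : Matrix (Fin n) (Fin n) F) := by
    rw [Units.val_mul, sc_coe, Matrix.smul_mul, Matrix.one_mul]
  rw [e]
  ext i j
  show σ (x⁻¹ * (g : Matrix (Fin n) (Fin n) F) j i) = x⁻¹ * (g : Matrix (Fin n) (Fin n) F) i j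
  have hσx : σ x ≠ 0 := by rw [Ne, map_eq_zero_iff σ σ.injective]; exact hx
  rw [map_mul, hent i j, map_inv₀]
  field_simp
  linear_combination -((g : Matrix (Fin n) (Fin n) F) i j) * hxc

theorem coset_graph_field (hn : 3 ≤ n) {σ : F ≃+* F} (hσ : orderOf σ = 2) (g : GL (Fin n) F)
    (h : (delta g * psi (σ, g1') : MulAut PSL) ^ 2 = 1) :
    ∃ k : GL (Fin n) F, (delta g * psi (σ, g1') : MulAut PSL) = delta k * psi (σ, g1') * (delta k)⁻¹ := by
  have hconj : ∀ k : GL (Fin n) F, (psi (σ, g1') : MulAut PSL) * delta k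
      = delta (faGL σ (itGL k)) * psi (σ, g1') := by
    intro k
    rw [psi_g1, delta_apply, delta_apply, ← map_mul, ← map_mul, mul_assoc, it_cj, ← mul_assoc, fa_cj,
      mul_assoc]
  have hsq : (psi (σ, g1') : MulAut PSL) * psi (σ, g1') = 1 := by
    rw [← map_mul]
    have : ((σ, g1') : (F ≃+* F) × Multiplicative (ZMod 2)) * (σ, g1') = 1 := by
      have e1 : σ * σ = 1 := by rw [← pow_two, ← hσ, pow_orderOf_eq_one]
      have e2 : g1' * g1' = 1 := by decide
      exact Prod.ext e1 e2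
    rw [this, map_one]
  have h1 : (delta (g * faGL σ (itGL g)) : MulAut PSL) = 1 := by
    rw [pow_two] at h
    calc (delta (g * faGL σ (itGL g)) : MulAut PSL)
        = delta g * (delta (faGL σ (itGL g)) * psi (σ, g1')) * (psi (σ, g1'))⁻¹ := by
          rw [map_mul]; group
      _ = (delta g * psi (σ, g1')) * (delta g * psi (σ, g1')) * (psi (σ, g1') * psi (σ, g1'))⁻¹ := by
          rw [← hconj]; group
      _ = 1 := by rw [h, hsq, inv_one, mul_one]
  obtain ⟨c, hc⟩ := (delta_eq_one_iff (by omega) _).mp h1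
  have hc0 := scalar_ne_zero (by omega) hc
  have hg : (g : Matrix (Fin n) (Fin n) F) = c • ((g : Matrix (Fin n) (Fin n) F).map σ).transpose := by
    have e1 : ((faGL σ (itGL g) : GL (Fin n) F) : Matrix (Fin n) (Fin n) F) *
        ((g : Matrix (Fin n) (Fin n) F).map σ).transpose = 1 := by
      rw [faGL_coe]
      show (Matrix.transpose ((g⁻¹ : GL (Fin n) F) : Matrix (Fin n) (Fin n) F)).map σ * _ = 1
      rw [Matrix.transpose_map, ← Matrix.transpose_mul]
      have h6 := map_mul (RingHom.mapMatrix (m := Fin n) (σ : F →+* F))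
        (g : Matrix (Fin n) (Fin n) F) ((g⁻¹ : GL (Fin n) F) : Matrix (Fin n) (Fin n) F)
      rw [← Units.val_mul, mul_inv_cancel, Units.val_one, map_one] at h6
      have h7 : ((g : Matrix (Fin n) (Fin n) F).map σ) *
        (((g⁻¹ : GL (Fin n) F) : Matrix (Fin n) (Fin n) F).map σ) = 1 := h6.symm
      rw [h7, Matrix.transpose_one]
    calc (g : Matrix (Fin n) (Fin n) F) = (g : Matrix (Fin n) (Fin n) F) *
          (((faGL σ (itGL g) : GL (Fin n) F) : Matrix (Fin n) (Fin n) F) *
          ((g : Matrix (Fin n) (Fin n) F).map σ).transpose) := by rw [e1, Matrix.mul_one]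
      _ = ((g * faGL σ (itGL g) : GL (Fin n) F) : Matrix (Fin n) (Fin n) F) *
          ((g : Matrix (Fin n) (Fin n) F).map σ).transpose := by
          rw [Units.val_mul, Matrix.mul_assoc]
      _ = _ := by rw [hc, Matrix.smul_mul, Matrix.one_mul]
  obtain ⟨b, hb, hbH⟩ := herm_norm (by omega) hσ hg
  obtain ⟨k, hk⟩ := Herm.exists_factor_herm hσ (sc b hb * g) hbH
  refine ⟨k, ?_⟩
  have h8 : (delta (sc b hb * g) : MulAut PSL) = delta g := by
    rw [map_mul, (delta_eq_one_iff (by omega) (sc b hb)).mpr ⟨b, rfl⟩, one_mul]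
  have h9 : sc b hb * g = k * faGL σ (itGL k⁻¹) := by
    apply Units.ext
    rw [← hk, Units.val_mul, faGL_coe]
    show _ = (k : Matrix (Fin n) (Fin n) F) *
      (Matrix.transpose (((k⁻¹)⁻¹ : GL (Fin n) F) : Matrix (Fin n) (Fin n) F)).map σ
    rw [inv_inv, Matrix.transpose_map]
  rw [← h8, h9, map_mul, mul_assoc, ← hconj, ← mul_assoc, map_inv]

theorem mem_inndiag {x : MulAut PSL} : x ∈ Cfsg.inndiagPSL n F ↔ ∃ g : GL (Fin n) F, delta g = x := by
  rw [inndiag_eq]; exact Iff.rfl

theorem orderOf_conj {A : Type*} [Group A] (x a : A) : orderOf (a * x * a⁻¹) = orderOf x := by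
  have := orderOf_injective (MulAut.conj a).toMonoidHom (MulAut.conj a).injective x
  exact this

theorem coset_general (hn : 2 ≤ n) {r : ℕ} {x δ α x0 : MulAut PSL} (hx : α * x * α⁻¹ = x0)
    (hδ : δ ∈ Cfsg.inndiagPSL n F) (hxr : orderOf x = r)
    (h : ∀ g : GL (Fin n) F, (delta g * x0) ^ r = 1 → ∃ k : GL (Fin n) F,
      delta g * x0 = delta k * x0 * (delta k)⁻¹) :
    orderOf (δ * x) = r ↔ Cfsg.IsConjUnder (Cfsg.inndiagPSL n F) x (δ * x) := by
  haveI := inndiag_normal (F := F) hn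
  constructor
  · intro ho
    have h1 : α * δ * α⁻¹ ∈ (delta (n := n) (F := F)).range := by
      rw [inndiag_eq] at hδ
      exact this.conj_mem δ hδ α
    obtain ⟨g, hg⟩ := h1
    have h2 : delta g * x0 = α * (δ * x) * α⁻¹ := by
      rw [hg, ← hx]; group
    obtain ⟨k, hk⟩ := h g (by
      rw [h2]
      have := orderOf_conj (δ * x) α
      rw [ho] at this
      rw [← this]
      exact pow_orderOf_eq_one _)
    refine ⟨α⁻¹ * delta k * α, ?_, ?_⟩
    · rw [inndiag_eq]
      have := this.conj_mem (delta k) ⟨k, rfl⟩ α⁻¹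
      rwa [inv_inv] at this
    · have h3 : δ * x = α⁻¹ * (delta g * x0) * α := by rw [h2]; group
      rw [h3, hk, ← hx]
      group
  · rintro ⟨h, -, he⟩
    rw [he, orderOf_conj, hxr]

end GF

end Cfsg.Agent.Lib.AutPSL
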