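import Mathlib
import Cfsg.Prelude.Def_LieTypeDatum
import Cfsg.Agent.Lib.AutPSL13

/-! Centralizers of field automorphisms of `PSL_n(q)`. -/

set_option linter.all false

namespace Cfsg.Agent.Lib.AutPSL

open Matrix
open scoped Pointwise

section FC

variable {n : ℕ} {F : Type*} [Field F] [Fintype F]

local notation "SL" => Matrix.SpecialLinearGroup (Fin n) F
local notation "PSL" => Matrix.ProjectiveSpecialLinearGroup (Fin n) F

theorem delta_eq_iff (hn : 2 ≤ n) (g h : GL (Fin n) F) : (delta g : MulAut PSL) = delta h ↔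
    ∃ c : F, (h : Matrix (Fin n) (Fin n) F) = c • (g : Matrix (Fin n) (Fin n) F) := by
  rw [eq_comm, ← mul_inv_eq_one, ← map_inv, ← map_mul, delta_eq_one_iff hn]
  constructor
  · rintro ⟨c, hc⟩
    refine ⟨c, ?_⟩
    have : h = (h * g⁻¹) * g := by group
    rw [this, Units.val_mul, hc, Matrix.smul_mul, Matrix.one_mul]
  · rintro ⟨c, hc⟩
    refine ⟨c, ?_⟩
    rw [Units.val_mul, hc, Matrix.smul_mul, ← Units.val_mul, mul_inv_cancel, Units.val_one]

theorem psi2_delta (σ : F ≃+* F) (g : GL (Fin n) F) :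
    (psi2 σ : MulAut PSL) * delta g = delta (faGL σ g) * psi2 σ := by
  rw [psi2_apply, delta_apply, delta_apply, ← map_mul, ← map_mul, fa_cj]

theorem delta_mem_centralizer_iff (hn : 2 ≤ n) (σ : F ≃+* F) (g : GL (Fin n) F) :
    (delta g : MulAut PSL) ∈ Subgroup.centralizer {(psi2 σ : MulAut PSL)} ↔
      ∃ c : F, (g : Matrix (Fin n) (Fin n) F).map σ = c • (g : Matrix (Fin n) (Fin n) F) := by
  rw [Subgroup.mem_centralizer_singleton_iff, psi2_delta, mul_left_inj, delta_eq_iff hn]
  rfl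

theorem exists_fixed_scaling (hn : 1 ≤ n) {σ : F ≃+* F} {r : ℕ} (hr : orderOf σ = r) (hr0 : 0 < r)
    {g : GL (Fin n) F} {c : F}
    (hg : (g : Matrix (Fin n) (Fin n) F).map σ = c • (g : Matrix (Fin n) (Fin n) F)) :
    ∃ (b : F), b ≠ 0 ∧ (b • (g : Matrix (Fin n) (Fin n) F)).map σ = b • (g : Matrix (Fin n) (Fin n) F) := by
  have hent : ∀ i j, σ ((g : Matrix (Fin n) (Fin n) F) i j) = c * (g : Matrix (Fin n) (Fin n) F) i j :=
    fun i j => congrFun (congrFun hg i) j
  have hk : ∀ k i j, (σ ^ k) ((g : Matrix (Fin n) (Fin n) F) i j) =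
      FinGal.nm σ c k * (g : Matrix (Fin n) (Fin n) F) i j := by
    intro k
    induction k with
    | zero => intro i j; simp [FinGal.nm]
    | succ k ih =>
      intro i j
      rw [pow_succ']
      show σ ((σ ^ k) _) = _
      rw [ih, map_mul, hent, FinGal.nm_succ]
      ring
  obtain ⟨i, j, hij⟩ : ∃ i j, (g : Matrix (Fin n) (Fin n) F) i j ≠ 0 := by
    by_contra hcon
    push Not at hcon
    have : (g : Matrix (Fin n) (Fin n) F) = (0 : F) • 1 := by
      ext i j; rw [hcon]; simp
    exact scalar_ne_zero hn this rfl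
  have h1 : FinGal.nm σ c r = 1 := by
    have := hk r i j
    rw [← hr, pow_orderOf_eq_one] at this
    have h2 : (g : Matrix (Fin n) (Fin n) F) i j = FinGal.nm σ c (orderOf σ) * (g : Matrix (Fin n) (Fin n) F) i j := this
    rw [hr] at h2
    exact (mul_eq_right₀ hij).mp h2.symm
  obtain ⟨x, hx, hxc⟩ := FinGal.hilbert90 σ hr hr0 h1
  refine ⟨x, hx, ?_⟩
  ext i j
  show σ (x * (g : Matrix (Fin n) (Fin n) F) i j) = x * (g : Matrix (Fin n) (Fin n) F) i j
  rw [map_mul, hent]
  linear_combination (g : Matrix (Fin n) (Fin n) F) i j * hxc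

variable {F₀ : Type*} [Field F₀]

theorem exists_descend (hn : 1 ≤ n) {σ : F ≃+* F} (ι : F₀ →+* F) (hι : ∀ x, σ x = x → ∃ y, ι y = x)
    {r : ℕ} (hr : orderOf σ = r) (hr0 : 0 < r) {g : GL (Fin n) F} {c : F}
    (hg : (g : Matrix (Fin n) (Fin n) F).map σ = c • (g : Matrix (Fin n) (Fin n) F)) :
    ∃ (b : F) (g0 : GL (Fin n) F₀), b ≠ 0 ∧ (g : Matrix (Fin n) (Fin n) F) =
      b • ((Matrix.GeneralLinearGroup.map ι g0 : GL (Fin n) F) : Matrix (Fin n) (Fin n) F) := by
  obtain ⟨b, hb, hfix⟩ := exists_fixed_scaling hn hr hr0 hg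
  have h1 : ∀ i j, ∃ y, ι y = b * (g : Matrix (Fin n) (Fin n) F) i j := fun i j =>
    hι _ (congrFun (congrFun hfix i) j)
  choose M hM using h1
  have hMmap : (Matrix.of M).map ι = b • (g : Matrix (Fin n) (Fin n) F) := by
    ext i j; exact hM i j
  have hdet : (Matrix.of M).det ≠ 0 := by
    intro h0
    have h2 := congrArg Matrix.det hMmap
    rw [← RingHom.mapMatrix_apply, ← RingHom.map_det, h0, map_zero, Matrix.det_smul] at h2
    have h3 : (g : Matrix (Fin n) (Fin n) F).det ≠ 0 := by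
      have := g.isUnit.map Matrix.detMonoidHom
      exact this.ne_zero
    exact (mul_ne_zero (pow_ne_zero _ hb) h3) h2.symm
  refine ⟨b⁻¹, Matrix.GeneralLinearGroup.mkOfDetNeZero (Matrix.of M) hdet, inv_ne_zero hb, ?_⟩
  show _ = b⁻¹ • ((Matrix.of M).map ι)
  rw [hMmap, smul_smul, inv_mul_cancel₀ hb, one_smul]

theorem field_centralizer_equiv (hn : 2 ≤ n) {σ : F ≃+* F} (ι : F₀ →+* F)
    (hι : ∀ x, σ x = x ↔ ∃ y, ι y = x) {r : ℕ} (hr : orderOf σ = r) (hr0 : 0 < r) :
    Nonempty (↥((delta (n := n) (F := F)).range ⊓ Subgroup.centralizer {psi2 σ})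
      ≃* Matrix.ProjGenLinGroup (Fin n) F₀) := by
  have hmem : ∀ g0 : GL (Fin n) F₀, (delta (Matrix.GeneralLinearGroup.map ι g0) : MulAut PSL) ∈
      ((delta (n := n) (F := F)).range ⊓ Subgroup.centralizer {psi2 σ}) := by
    intro g0
    refine ⟨⟨_, rfl⟩, ?_⟩
    refine (delta_mem_centralizer_iff hn σ _).mpr ⟨1, ?_⟩
    rw [one_smul]
    ext i j
    exact (hι _).mpr ⟨_, rfl⟩
  let f : GL (Fin n) F₀ →* ↥((delta (n := n) (F := F)).range ⊓ Subgroup.centralizer {psi2 σ}) :=
    (delta.comp (Matrix.GeneralLinearGroup.map ι)).codRestrict _ hmem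
  apply pgl_equiv f
  · rintro ⟨_, ⟨g, rfl⟩, hg⟩
    obtain ⟨c, hc⟩ := (delta_mem_centralizer_iff hn σ g).mp hg
    obtain ⟨b, g0, hb, h1⟩ := exists_descend (by omega) ι (fun x hx => (hι x).mp hx) hr hr0 hc
    refine ⟨g0, Subtype.ext ?_⟩
    show delta (Matrix.GeneralLinearGroup.map ι g0) = delta g
    exact (delta_eq_iff hn _ _).mpr ⟨b, h1⟩
  · intro g
    have e : f g = 1 ↔ delta (Matrix.GeneralLinearGroup.map ι g) = 1 := by
      constructor
      · intro h; exact congrArg Subtype.val h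
      · intro h; exact Subtype.ext h
    rw [e, delta_eq_one_iff hn]
    constructor
    · rintro ⟨c, hc⟩
      have hc0 := scalar_ne_zero (by omega) hc
      have hent : ∀ i j, ι ((g : Matrix (Fin n) (Fin n) F₀) i j) = c * (1 : Matrix (Fin n) (Fin n) F) i j :=
        fun i j => congrFun (congrFun hc i) j
      set z : Fin n := ⟨0, by omega⟩
      have hcz : ι ((g : Matrix (Fin n) (Fin n) F₀) z z) = c := by
        rw [hent, Matrix.one_apply_eq, mul_one]
      have hne : (g : Matrix (Fin n) (Fin n) F₀) z z ≠ 0 := by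
        intro h0
        rw [h0, map_zero] at hcz
        exact hc0 hcz.symm
      refine ⟨Units.mk0 _ hne, Units.ext ?_⟩
      rw [Matrix.GeneralLinearGroup.coe_scalar]
      ext i j
      apply ι.injective
      rw [hent, ← hcz]
      by_cases hij : i = j
      · subst hij; simp
      · simp [hij]
    · rintro ⟨u, rfl⟩
      refine ⟨ι u, ?_⟩
      ext i j
      show ι (((Matrix.GeneralLinearGroup.scalar (Fin n) u : GL (Fin n) F₀) : Matrix (Fin n) (Fin n) F₀) i j) = _
      rw [Matrix.GeneralLinearGroup.coe_scalar]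
      by_cases hij : i = j
      · subst hij; simp
      · simp [hij]

theorem detC_field (hn : 2 ≤ n) [Fintype F₀] {σ : F ≃+* F} (ι : F₀ →+* F)
    (hι : ∀ x, σ x = x ↔ ∃ y, ι y = x) {r : ℕ} (hr : orderOf σ = r) (hr0 : 0 < r) :
    Nat.gcd n (detC (n := n) (psi2 σ)).index =
      Nat.gcd n ((Fintype.card F - 1) / (Fintype.card F₀ - 1)) := by
  have hmap : detC (n := n) (psi2 σ) = (powMonoidHom n : Fˣ →* Fˣ).range ⊔ (Units.map (ι : F₀ →* F)).range := by
    apply le_antisymm
    · rintro _ ⟨g, hg, rfl⟩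
      obtain ⟨c, hc⟩ := (delta_mem_centralizer_iff hn σ g).mp hg
      obtain ⟨b, g0, hb, h1⟩ := exists_descend (by omega) ι (fun x hx => (hι x).mp hx) hr hr0 hc
      have : Matrix.GeneralLinearGroup.det g = (Units.mk0 b hb) ^ n *
          Units.map (ι : F₀ →* F) (Matrix.GeneralLinearGroup.det g0) := by
        apply Units.ext
        show (g : Matrix (Fin n) (Fin n) F).det = b ^ n * ι ((g0 : Matrix (Fin n) (Fin n) F₀).det)
        rw [h1, Matrix.det_smul, Fintype.card_fin, RingHom.map_det]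
        rfl
      rw [this]
      exact Subgroup.mul_mem _ (Subgroup.mem_sup_left ⟨_, rfl⟩) (Subgroup.mem_sup_right ⟨_, rfl⟩)
    · apply sup_le
      · rintro _ ⟨u, rfl⟩
        refine ⟨sc (u : F) u.ne_zero, ?_, ?_⟩
        · have : (delta (sc (u : F) u.ne_zero) : MulAut PSL) = 1 := (delta_eq_one_iff hn _).mpr ⟨u, rfl⟩
          show delta (sc (u : F) u.ne_zero) ∈ Subgroup.centralizer {psi2 σ}
          rw [this]
          exact Subgroup.one_mem _
        · apply Units.ext
          show ((u : F) • (1 : Matrix (Fin n) (Fin n) F)).det = _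
          rw [Matrix.det_smul, Matrix.det_one, mul_one, Fintype.card_fin]
          simp
      · rintro _ ⟨u, rfl⟩
        obtain ⟨g0, hg0⟩ : ∃ g0 : GL (Fin n) F₀, Matrix.GeneralLinearGroup.det g0 = u := by
          haveI : Nonempty (Fin n) := ⟨⟨0, by omega⟩⟩
          exact Matrix.GeneralLinearGroup.det_surjective u
        refine ⟨Matrix.GeneralLinearGroup.map ι g0, ?_, ?_⟩
        · refine (delta_mem_centralizer_iff hn σ _).mpr ⟨1, ?_⟩
          rw [one_smul]
          ext i j
          exact (hι _).mpr ⟨_, rfl⟩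
        · rw [← hg0]
          apply Units.ext
          show (((Matrix.GeneralLinearGroup.map ι g0 : GL (Fin n) F) : Matrix (Fin n) (Fin n) F)).det
            = ι ((g0 : Matrix (Fin n) (Fin n) F₀).det)
          rw [RingHom.map_det]
          rfl
  have hidx : (Units.map (ι : F₀ →* F)).range.index = (Fintype.card F - 1) / (Fintype.card F₀ - 1) := by
    have h1 := (Units.map (ι : F₀ →* F)).range.card_mul_index
    have h2 : Nat.card (Units.map (ι : F₀ →* F)).range = Fintype.card F₀ - 1 := by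
      have hinj : Function.Injective (Units.map (ι : F₀ →* F)) := Units.map_injective ι.injective
      rw [← Nat.card_congr (MonoidHom.ofInjective hinj).toEquiv, GLSL.card_units_field]
    rw [h2, GLSL.card_units_field] at h1
    have h3 : 0 < Fintype.card F₀ - 1 := by
      have := Fintype.one_lt_card (α := F₀)
      omega
    rw [← h1, Nat.mul_div_cancel_left _ h3]
  rw [hmap, cyclic_index_sup, IsCyclic.index_powMonoidHom_range, hidx, GLSL.card_units_field]
  have h4 : (Fintype.card F - 1) / (Fintype.card F₀ - 1) ∣ Fintype.card F - 1 := by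
    rw [← hidx, ← GLSL.card_units_field]
    exact Subgroup.index_dvd_card _
  rw [Nat.gcd_comm (Fintype.card F - 1) n, Nat.gcd_assoc, Nat.gcd_eq_right h4, ← Nat.gcd_assoc,
    Nat.gcd_self]

end FC

end Cfsg.Agent.Lib.AutPSL
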