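import Mathlib
import Cfsg.Prelude.Def_LieTypeDatum
import Cfsg.Prelude.Def_LieClassical
import Cfsg.Agent.Lib.AutPSL14

/-! Graph-field involutions of `PSL_n(q)`. -/

set_option linter.all false

namespace Cfsg.Agent.Lib.AutPSL

open Matrix
open scoped Pointwise

section Sig

variable {F : Type*} [Field F] [Fintype F]

theorem mem_sub_of_pow {K : Subfield F} {x : F} (h : x ^ Nat.card K = x) : x ∈ K := by
  by_cases hx : x = 0
  · rw [hx]; exact K.zero_mem
  haveI : Finite K := inferInstance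
  letI : Fintype K := Fintype.ofFinite _
  have hk1 : 1 ≤ Nat.card K := Nat.card_pos
  set m := Nat.card K - 1 with hm
  have hx1 : x ^ m = 1 := by
    have : x ^ m * x = x := by
      rw [← pow_succ, Nat.sub_add_cancel hk1, h]
    exact (mul_eq_right₀ hx).mp this
  let L : Subgroup Fˣ := (Units.map (K.subtype : K →* F)).range
  have hL : Nat.card L = m := by
    have hinj : Function.Injective (Units.map (K.subtype : K →* F)) :=
      Units.map_injective K.subtype.injective
    rw [← Nat.card_congr (MonoidHom.ofInjective hinj).toEquiv, GLSL.card_units_field,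
      ← Nat.card_eq_fintype_card]
  have hker : Nat.card (powMonoidHom m : Fˣ →* Fˣ).ker = m := by
    have h1 := (powMonoidHom m : Fˣ →* Fˣ).ker.card_mul_index
    have h2 := (powMonoidHom m : Fˣ →* Fˣ).range.card_mul_index
    rw [Subgroup.index_ker, ← h2, mul_comm] at h1
    have h3 := Nat.eq_of_mul_eq_mul_left Nat.card_pos h1
    rw [h3, IsCyclic.index_powMonoidHom_range, Nat.gcd_eq_right]
    rw [← hL]
    exact Subgroup.card_subgroup_dvd_card L
  have hle : L ≤ (powMonoidHom m : Fˣ →* Fˣ).ker := by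
    rintro _ ⟨u, rfl⟩
    rw [MonoidHom.mem_ker]
    have h4 : u ^ m = 1 := by
      have h5 : Nat.card Kˣ = m := by rw [GLSL.card_units_field, ← Nat.card_eq_fintype_card]
      rw [← h5]
      exact pow_card_eq_one'
    show (Units.map (K.subtype : K →* F) u) ^ m = 1
    rw [← map_pow, h4, map_one]
  have heq : L = (powMonoidHom m : Fˣ →* Fˣ).ker :=
    Subgroup.eq_of_le_of_card_ge hle (by rw [hL, hker])
  have hmem : Units.mk0 x hx ∈ L := by
    rw [heq, MonoidHom.mem_ker]
    exact Units.ext (by simpa using hx1)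
  obtain ⟨u, hu⟩ := hmem
  have := congrArg Units.val hu
  have h6 : ((u : K) : F) = x := this
  rw [← h6]
  exact (u : K).2

/-- an automorphism of order two is the `q₀`-power map -/
theorem sigma_eq_pow {σ : F ≃+* F} (hσ : orderOf σ = 2) (a : F) :
    σ a = a ^ Nat.card (FinGal.fixF σ) := by
  obtain ⟨h1, -, -⟩ := Herm.sigma_facts hσ
  set K := FinGal.fixF σ with hK
  haveI : Finite K := inferInstance
  letI : Fintype K := Fintype.ofFinite _
  set q := Nat.card K with hq
  obtain ⟨p, hp⟩ := CharP.exists F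
  haveI : Fact p.Prime := ⟨CharP.char_is_prime F p⟩
  haveI : CharP K p := (RingHom.charP_iff K.subtype K.subtype.injective p).mpr hp
  obtain ⟨k, hk⟩ : ∃ k : ℕ, q = p ^ k := by
    obtain ⟨k, -, hk⟩ := FiniteField.card K p
    exact ⟨k, by rw [hq, Nat.card_eq_fintype_card, hk]⟩
  have hfix : ∀ x : F, σ x = x → x ^ q = x := by
    intro x hx
    have h2 : (⟨x, hx⟩ : K) ^ Fintype.card K = ⟨x, hx⟩ := FiniteField.pow_card _
    rw [← Nat.card_eq_fintype_card] at h2
    exact congrArg Subtype.val h2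
  have hs := hfix (a + σ a) (by rw [map_add, h1, add_comm])
  have hm := hfix (a * σ a) (by rw [map_mul, h1, mul_comm])
  have hadd : ∀ x y : F, (x + y) ^ q = x ^ q + y ^ q := by
    intro x y
    rw [hk]
    exact add_pow_char_pow x y p k
  have h0 : (a - a) = 0 := sub_self a
  have key : (a ^ q - a) * (a ^ q - σ a) = 0 := by
    rw [hadd] at hs
    rw [mul_pow] at hm
    linear_combination a ^ q * hs - hm
  rcases mul_eq_zero.mp key with h | h
  · have h2 : a ^ q = a := sub_eq_zero.mp h
    have h3 : a ∈ K := mem_sub_of_pow h2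
    rw [h2]
    exact h3
  · exact (sub_eq_zero.mp h).symm

end Sig

section GFC

variable {n : ℕ} {F : Type*} [Field F] [Fintype F]

local notation "SL" => Matrix.SpecialLinearGroup (Fin n) F
local notation "PSL" => Matrix.ProjectiveSpecialLinearGroup (Fin n) F

theorem hermForm_eq {σ : F ≃+* F} {q : ℕ} (hq : ∀ a, σ a = a ^ q) (u v : Fin n → F) :
    Cfsg.hermForm n F q u v = u ⬝ᵥ (fun i => σ (v i)) := by
  simp only [Cfsg.hermForm, dotProduct, hq]

theorem mem_GU_iff {σ : F ≃+* F} {q : ℕ} (hq : ∀ a, σ a = a ^ q) (g : GL (Fin n) F) :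
    g ∈ Cfsg.GU n F q ↔
      (g : Matrix (Fin n) (Fin n) F) * ((g : Matrix (Fin n) (Fin n) F).map σ).transpose = 1 := by
  have hmv : ∀ v : Fin n → F, (fun i => σ (((g : Matrix (Fin n) (Fin n) F) *ᵥ v) i)) =
      ((g : Matrix (Fin n) (Fin n) F).map σ) *ᵥ (fun i => σ (v i)) := by
    intro v
    funext i
    simp only [Matrix.mulVec, dotProduct, map_sum, map_mul, Matrix.map_apply]
  have h1 : g ∈ Cfsg.GU n F q ↔ ∀ u v : Fin n → F,
      u ⬝ᵥ (((g : Matrix (Fin n) (Fin n) F).transpose * (g : Matrix (Fin n) (Fin n) F).map σ) *ᵥ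
        (fun i => σ (v i))) = u ⬝ᵥ (fun i => σ (v i)) := by
    show (∀ u v, Cfsg.hermForm n F q ((g : Matrix (Fin n) (Fin n) F) *ᵥ u)
      ((g : Matrix (Fin n) (Fin n) F) *ᵥ v) = Cfsg.hermForm n F q u v) ↔ _
    refine forall_congr' fun u => forall_congr' fun v => ?_
    rw [hermForm_eq hq, hermForm_eq hq, hmv, ← Matrix.mulVec_mulVec, Matrix.dotProduct_mulVec u,
      Matrix.vecMul_transpose]
  rw [h1]
  have h2 : (∀ u v : Fin n → F,
      u ⬝ᵥ (((g : Matrix (Fin n) (Fin n) F).transpose * (g : Matrix (Fin n) (Fin n) F).map σ) *ᵥ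
        (fun i => σ (v i))) = u ⬝ᵥ (fun i => σ (v i))) ↔
      (g : Matrix (Fin n) (Fin n) F).transpose * (g : Matrix (Fin n) (Fin n) F).map σ = 1 := by
    constructor
    · intro h
      ext i j
      have := h (Pi.single i 1) (Pi.single j 1)
      have e : (fun k => σ ((Pi.single j (1 : F) : Fin n → F) k)) = Pi.single j 1 := by
        funext k
        by_cases hk : k = j
        · subst hk; simp
        · simp [hk]
      rw [e] at this
      simp only [single_one_dotProduct, Matrix.mulVec_single_one, Matrix.col_apply] at this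
      rw [this]
      by_cases hij : i = j
      · subst hij; simp
      · rw [Matrix.one_apply_ne hij]; simp [hij]
    · intro h u v
      rw [h, Matrix.one_mulVec]
  rw [h2]
  have h3 : (g : Matrix (Fin n) (Fin n) F).transpose * (g : Matrix (Fin n) (Fin n) F).map σ = 1 ↔
      ((g : Matrix (Fin n) (Fin n) F).map σ).transpose * (g : Matrix (Fin n) (Fin n) F) = 1 := by
    constructor
    · intro h
      have := congrArg Matrix.transpose h
      rwa [Matrix.transpose_mul, Matrix.transpose_transpose, Matrix.transpose_one] at this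
    · intro h
      have := congrArg Matrix.transpose h
      rwa [Matrix.transpose_mul, Matrix.transpose_transpose, Matrix.transpose_one] at this
  rw [h3]
  exact mul_eq_one_comm

theorem itGL_mul (g : GL (Fin n) F) :
    ((itGL g : GL (Fin n) F) : Matrix (Fin n) (Fin n) F) * (g : Matrix (Fin n) (Fin n) F).transpose = 1 := by
  show Matrix.transpose ((g⁻¹ : GL (Fin n) F) : Matrix (Fin n) (Fin n) F) * _ = 1
  rw [← Matrix.transpose_mul, ← Units.val_mul, mul_inv_cancel, Units.val_one, Matrix.transpose_one]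

theorem map_mul_mat (σ : F ≃+* F) (M N : Matrix (Fin n) (Fin n) F) :
    (M * N).map σ = M.map σ * N.map σ :=
  map_mul (RingHom.mapMatrix (m := Fin n) (σ : F →+* F)) M N

theorem psi_delta_gf (σ : F ≃+* F) (g : GL (Fin n) F) :
    (psi (σ, g1') : MulAut PSL) * delta g = delta (faGL σ (itGL g)) * psi (σ, g1') := by
  rw [psi_g1, delta_apply, delta_apply, ← map_mul, ← map_mul, mul_assoc, it_cj, ← mul_assoc, fa_cj,
    mul_assoc]

theorem gf_mem_centralizer_iff (hn : 2 ≤ n) (σ : F ≃+* F) (g : GL (Fin n) F) :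
    (delta g : MulAut PSL) ∈ Subgroup.centralizer {(psi (σ, g1') : MulAut PSL)} ↔
      ∃ d : F, (g : Matrix (Fin n) (Fin n) F) * ((g : Matrix (Fin n) (Fin n) F).map σ).transpose
        = d • 1 := by
  rw [Subgroup.mem_centralizer_singleton_iff, psi_delta_gf, mul_left_inj, delta_eq_iff hn]
  have e1 : ((faGL σ (itGL g) : GL (Fin n) F) : Matrix (Fin n) (Fin n) F) *
      ((g : Matrix (Fin n) (Fin n) F).map σ).transpose = 1 := by
    rw [faGL_coe]
    have := congrArg (fun M => Matrix.map M σ) (itGL_mul g)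
    simp only [map_mul_mat] at this
    rw [Matrix.transpose_map] at this
    rw [this]
    ext i j
    by_cases hij : i = j
    · subst hij; simp
    · simp [hij]
  constructor
  · rintro ⟨c, hc⟩
    have hc0 : c ≠ 0 := by
      rintro rfl
      rw [zero_smul] at hc
      rw [hc, Matrix.zero_mul] at e1
      have := congrFun (congrFun e1 ⟨0, by omega⟩) ⟨0, by omega⟩
      simp at this
    refine ⟨c⁻¹, ?_⟩
    rw [hc, Matrix.smul_mul] at e1
    rw [← e1, smul_smul, inv_mul_cancel₀ hc0, one_smul]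
  · rintro ⟨d, hd⟩
    have hd0 : d ≠ 0 := by
      rintro rfl
      rw [zero_smul] at hd
      have h1 : ((g⁻¹ : GL (Fin n) F) : Matrix (Fin n) (Fin n) F) * (g : Matrix (Fin n) (Fin n) F) = 1 := by
        rw [← Units.val_mul, inv_mul_cancel, Units.val_one]
      have h2 : ((g : Matrix (Fin n) (Fin n) F).map σ).transpose = 0 := by
        rw [← Matrix.one_mul (((g : Matrix (Fin n) (Fin n) F).map σ).transpose), ← h1,
          Matrix.mul_assoc, hd, Matrix.mul_zero]
      rw [h2, Matrix.mul_zero] at e1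
      have := congrFun (congrFun e1 ⟨0, by omega⟩) ⟨0, by omega⟩
      simp at this
    refine ⟨d⁻¹, ?_⟩
    have e2 : (d⁻¹ • (g : Matrix (Fin n) (Fin n) F)) * ((g : Matrix (Fin n) (Fin n) F).map σ).transpose = 1 := by
      rw [Matrix.smul_mul, hd, smul_smul, inv_mul_cancel₀ hd0, one_smul]
    have e3 : ((g : Matrix (Fin n) (Fin n) F).map σ).transpose * (d⁻¹ • (g : Matrix (Fin n) (Fin n) F)) = 1 :=
      mul_eq_one_comm.mp e2
    calc ((faGL σ (itGL g) : GL (Fin n) F) : Matrix (Fin n) (Fin n) F)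
        = ((faGL σ (itGL g) : GL (Fin n) F) : Matrix (Fin n) (Fin n) F) *
          (((g : Matrix (Fin n) (Fin n) F).map σ).transpose * (d⁻¹ • (g : Matrix (Fin n) (Fin n) F))) := by
          rw [e3, Matrix.mul_one]
      _ = _ := by rw [← Matrix.mul_assoc, e1, Matrix.one_mul]

theorem gf_decomp (hn : 1 ≤ n) {σ : F ≃+* F} (hσ : orderOf σ = 2) {q : ℕ} (hq : ∀ a, σ a = a ^ q)
    {g : GL (Fin n) F} {d : F}
    (hg : (g : Matrix (Fin n) (Fin n) F) * ((g : Matrix (Fin n) (Fin n) F).map σ).transpose = d • 1) :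
    ∃ (b : F) (hb : b ≠ 0), sc b⁻¹ (inv_ne_zero hb) * g ∈ Cfsg.GU n F q := by
  obtain ⟨h1, h2, h3⟩ := Herm.sigma_facts hσ
  set z : Fin n := ⟨0, hn⟩ with hz
  have hd0 : d ≠ 0 := by
    rintro rfl
    rw [zero_smul] at hg
    have hh : ((g⁻¹ : GL (Fin n) F) : Matrix (Fin n) (Fin n) F) * (g : Matrix (Fin n) (Fin n) F) = 1 := by
      rw [← Units.val_mul, inv_mul_cancel, Units.val_one]
    have h2 : ((g : Matrix (Fin n) (Fin n) F).map σ).transpose = 0 := by
      rw [← Matrix.one_mul (((g : Matrix (Fin n) (Fin n) F).map σ).transpose), ← hh,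
        Matrix.mul_assoc, hg, Matrix.mul_zero]
    have h4 : (g : Matrix (Fin n) (Fin n) F) = (0 : F) • 1 := by
      ext i j
      have := congrFun (congrFun h2 j) i
      have h5 : σ ((g : Matrix (Fin n) (Fin n) F) i j) = 0 := this
      rw [map_eq_zero_iff σ σ.injective] at h5
      rw [h5]; simp
    exact scalar_ne_zero hn h4 rfl
  have hσd : σ d = d := by
    have e1 := congrArg (fun M => (Matrix.map M σ).transpose) hg
    simp only [map_mul_mat, Matrix.transpose_mul] at e1
    have e2 : ((((g : Matrix (Fin n) (Fin n) F).map σ).transpose).map σ).transpose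
        = (g : Matrix (Fin n) (Fin n) F) := by
      ext i j
      show σ (σ _) = _
      rw [h1]
    rw [e2, hg] at e1
    have := congrFun (congrFun e1 z) z
    simpa using this.symm
  obtain ⟨b, hb, hbd⟩ := h3 d hd0 hσd
  refine ⟨b, hb, ?_⟩
  rw [mem_GU_iff hq, Units.val_mul, sc_coe, Matrix.smul_mul, Matrix.one_mul]
  have e4 : (b⁻¹ • (g : Matrix (Fin n) (Fin n) F)).map σ = (σ b)⁻¹ • (g : Matrix (Fin n) (Fin n) F).map σ := by
    ext i j
    simp
  have hσb : σ b ≠ 0 := by rw [Ne, map_eq_zero_iff σ σ.injective]; exact hb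
  rw [e4, Matrix.transpose_smul, Matrix.smul_mul, Matrix.mul_smul, hg, smul_smul, smul_smul, ← hbd]
  have : b⁻¹ * ((σ b)⁻¹ * (b * σ b)) = 1 := by field_simp
  rw [mul_assoc, this, one_smul]

/-- recognising a projective quotient -/
theorem projQuot_equiv {ι : Type} [Fintype ι] [DecidableEq ι] {K : Type*} [Field K]
    (U : Subgroup (GL ι K)) {H : Type*} [Group H] (f : U →* H)
    (hf : Function.Surjective f) (hk : ∀ g : U, f g = 1 ↔ (g : GL ι K) ∈ Cfsg.Geo.scalars ι K) :
    Nonempty (H ≃* Cfsg.projQuot U) := by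
  have hker : f.ker = (Cfsg.Geo.scalars ι K).subgroupOf U := by
    ext g
    rw [MonoidHom.mem_ker, hk, Subgroup.mem_subgroupOf]
  have e1 : (U ⧸ f.ker) ≃* H := QuotientGroup.quotientKerEquivOfSurjective f hf
  have e2 : (U ⧸ f.ker) ≃* (U ⧸ (Cfsg.Geo.scalars ι K).subgroupOf U) :=
    QuotientGroup.quotientMulEquivOfEq hker
  exact ⟨e1.symm.trans e2⟩

theorem gf_centralizer_equiv (hn : 2 ≤ n) {σ : F ≃+* F} (hσ : orderOf σ = 2) {q : ℕ}
    (hq : ∀ a, σ a = a ^ q) :
    Nonempty (↥((delta (n := n) (F := F)).range ⊓ Subgroup.centralizer {psi (σ, g1')})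
      ≃* Cfsg.PGU n F q) := by
  have hmem : ∀ u : Cfsg.GU n F q, (delta (u : GL (Fin n) F) : MulAut PSL) ∈
      ((delta (n := n) (F := F)).range ⊓ Subgroup.centralizer {psi (σ, g1')}) := by
    intro u
    refine ⟨⟨_, rfl⟩, ?_⟩
    refine (gf_mem_centralizer_iff hn σ _).mpr ⟨1, ?_⟩
    rw [one_smul]
    exact (mem_GU_iff hq _).mp u.2
  let f : Cfsg.GU n F q →* ↥((delta (n := n) (F := F)).range ⊓ Subgroup.centralizer {psi (σ, g1')}) :=
    (delta.comp (Cfsg.GU n F q).subtype).codRestrict _ hmem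
  apply projQuot_equiv (Cfsg.GU n F q) f
  · rintro ⟨_, ⟨g, rfl⟩, hg⟩
    obtain ⟨d, hd⟩ := (gf_mem_centralizer_iff hn σ g).mp hg
    obtain ⟨b, hb, h1⟩ := gf_decomp (by omega) hσ hq hd
    have e9 : (delta (sc b⁻¹ (inv_ne_zero hb) * g) : MulAut PSL) = delta g := by
      rw [map_mul, (delta_eq_one_iff hn (sc b⁻¹ (inv_ne_zero hb))).mpr ⟨b⁻¹, rfl⟩, one_mul]
    exact ⟨⟨_, h1⟩, Subtype.ext e9⟩
  · intro g
    have e : f g = 1 ↔ delta (g : GL (Fin n) F) = 1 := by
      constructor
      · intro h; exact congrArg Subtype.val h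
      · intro h; exact Subtype.ext h
    rw [e, delta_eq_one_iff hn, Cfsg.Geo.mem_scalars_iff]
    constructor
    · rintro ⟨c, hc⟩
      exact ⟨Units.mk0 c (scalar_ne_zero (by omega) hc), hc⟩
    · rintro ⟨c, hc⟩
      exact ⟨c, hc⟩

/-- the norm homomorphism -/
def NH (σ : F ≃+* F) : Fˣ →* Fˣ where
  toFun := fun u => u * Units.map (σ : F →* F) u
  map_one' := by rw [map_one, mul_one]
  map_mul' := fun a b => by rw [map_mul, mul_mul_mul_comm]

theorem NH_val (σ : F ≃+* F) (u : Fˣ) : ((NH σ u : Fˣ) : F) = u * σ u := rfl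

theorem det_GU {σ : F ≃+* F} {q : ℕ} (hq : ∀ a, σ a = a ^ q) {g : GL (Fin n) F}
    (hg : g ∈ Cfsg.GU n F q) :
    (g : Matrix (Fin n) (Fin n) F).det * σ ((g : Matrix (Fin n) (Fin n) F).det) = 1 := by
  have := congrArg Matrix.det ((mem_GU_iff hq g).mp hg)
  rw [Matrix.det_mul, Matrix.det_transpose, Matrix.det_one] at this
  have e : ((g : Matrix (Fin n) (Fin n) F).map σ).det = σ ((g : Matrix (Fin n) (Fin n) F).det) :=
    (RingHom.map_det (σ : F →+* F) (g : Matrix (Fin n) (Fin n) F)).symm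
  rw [e] at this
  exact this

theorem index_NH_ker {σ : F ≃+* F} (hσ : orderOf σ = 2) :
    (NH σ).ker.index = Nat.card (FinGal.fixF σ) - 1 := by
  obtain ⟨h1, h2, h3⟩ := Herm.sigma_facts hσ
  rw [Subgroup.index_ker]
  letI : Fintype (FinGal.fixF σ) := Fintype.ofFinite _
  have hR : (NH σ).range = (Units.map ((FinGal.fixF σ).subtype : FinGal.fixF σ →* F)).range := by
    ext c
    constructor
    · rintro ⟨u, rfl⟩
      have hfix : σ ((u : F) * σ u) = (u : F) * σ u := by rw [map_mul, h1, mul_comm]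
      have hne : (u : F) * σ u ≠ 0 := by rw [← NH_val]; exact (NH σ u).ne_zero
      refine ⟨Units.mk0 (⟨(u : F) * σ u, hfix⟩ : FinGal.fixF σ) (fun h => hne (congrArg Subtype.val h)), ?_⟩
      exact Units.ext rfl
    · rintro ⟨c, rfl⟩
      have hc : (((c : FinGal.fixF σ)) : F) ≠ 0 := fun h => c.ne_zero (Subtype.ext h)
      obtain ⟨b, hb, hbc⟩ := h3 (((c : FinGal.fixF σ)) : F) hc (c : FinGal.fixF σ).2
      exact ⟨Units.mk0 b hb, Units.ext hbc⟩
  rw [hR]
  have hinj : Function.Injective (Units.map ((FinGal.fixF σ).subtype : FinGal.fixF σ →* F)) :=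
    Units.map_injective (FinGal.fixF σ).subtype.injective
  rw [← Nat.card_congr (MonoidHom.ofInjective hinj).toEquiv, GLSL.card_units_field,
    ← Nat.card_eq_fintype_card]

theorem detC_gf (hn : 2 ≤ n) {σ : F ≃+* F} (hσ : orderOf σ = 2) :
    Nat.gcd n (detC (n := n) (psi (σ, g1'))).index =
      Nat.gcd n (Nat.card (FinGal.fixF σ) - 1) := by
  obtain ⟨h1, h2, h3⟩ := Herm.sigma_facts hσ
  set q := Nat.card (FinGal.fixF σ) with hqdef
  have hq : ∀ a, σ a = a ^ q := sigma_eq_pow hσ
  have hdetGU : ∀ g : GL (Fin n) F, g ∈ Cfsg.GU n F q →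
      Matrix.GeneralLinearGroup.det g ∈ (NH σ).ker := by
    intro g hg
    rw [MonoidHom.mem_ker]
    exact Units.ext (det_GU hq hg)
  have hmap : detC (n := n) (psi (σ, g1')) = (powMonoidHom n : Fˣ →* Fˣ).range ⊔ (NH σ).ker := by
    apply le_antisymm
    · rintro _ ⟨g, hg, rfl⟩
      obtain ⟨d, hd⟩ := (gf_mem_centralizer_iff hn σ g).mp hg
      obtain ⟨b, hb, hbu⟩ := gf_decomp (by omega) hσ hq hd
      have : Matrix.GeneralLinearGroup.det g = (Units.mk0 b hb) ^ n *
          Matrix.GeneralLinearGroup.det (sc b⁻¹ (inv_ne_zero hb) * g) := by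
        apply Units.ext
        show (g : Matrix (Fin n) (Fin n) F).det = b ^ n * ((b⁻¹ • 1) * (g : Matrix (Fin n) (Fin n) F)).det
        rw [Matrix.smul_mul, Matrix.one_mul, Matrix.det_smul, Fintype.card_fin, ← mul_assoc,
          ← mul_pow, mul_inv_cancel₀ hb, one_pow, one_mul]
      rw [this]
      exact Subgroup.mul_mem _ (Subgroup.mem_sup_left ⟨_, rfl⟩) (Subgroup.mem_sup_right (hdetGU _ hbu))
    · apply sup_le
      · rintro _ ⟨u, rfl⟩
        refine ⟨sc (u : F) u.ne_zero, ?_, ?_⟩
        · have : (delta (sc (u : F) u.ne_zero) : MulAut PSL) = 1 := (delta_eq_one_iff hn _).mpr ⟨u, rfl⟩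
          show delta (sc (u : F) u.ne_zero) ∈ Subgroup.centralizer {psi (σ, g1')}
          rw [this]
          exact Subgroup.one_mem _
        · apply Units.ext
          show ((u : F) • (1 : Matrix (Fin n) (Fin n) F)).det = _
          rw [Matrix.det_smul, Matrix.det_one, mul_one, Fintype.card_fin]
          simp
      · intro u hu
        rw [MonoidHom.mem_ker] at hu
        have hu' : (u : F) * σ u = 1 := congrArg Units.val hu
        refine ⟨kap (by omega) u, ?_, ?_⟩
        · refine (gf_mem_centralizer_iff hn σ _).mpr ⟨1, ?_⟩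
          rw [one_smul]
          show (Matrix.diagonal (fun i : Fin n => if i = ⟨0, by omega⟩ then (u : F) else 1)) *
            ((Matrix.diagonal (fun i : Fin n => if i = ⟨0, by omega⟩ then (u : F) else 1)).map σ).transpose = 1
          rw [Matrix.diagonal_map (map_zero σ), Matrix.diagonal_transpose, Matrix.diagonal_mul_diagonal,
            ← Matrix.diagonal_one]
          congr 1
          funext i
          show (if i = _ then (u : F) else 1) * σ (if i = _ then (u : F) else 1) = 1
          split_ifs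
          · exact hu'
          · rw [map_one, mul_one]
        · exact Units.ext (det_kap _ u)
  have hidx : (NH σ).ker.index = q - 1 := index_NH_ker hσ
  rw [hmap, cyclic_index_sup, IsCyclic.index_powMonoidHom_range, hidx, GLSL.card_units_field]
  have h4 : q - 1 ∣ Fintype.card F - 1 := by
    rw [← hidx, ← GLSL.card_units_field]
    exact Subgroup.index_dvd_card _
  rw [Nat.gcd_comm (Fintype.card F - 1) n, Nat.gcd_assoc, Nat.gcd_eq_right h4, ← Nat.gcd_assoc,
    Nat.gcd_self]

end GFC

end Cfsg.Agent.Lib.AutPSL
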