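import Mathlib

/-! Hilbert 90 and surjectivity of the norm for finite commutative rings with involution. -/

set_option linter.all false
set_option maxHeartbeats 400000

namespace Cfsg.Agent.Lib.HilbN

variable {E : Type*} [CommRing E] [Finite E]

/-- simultaneous choice -/
theorem exists_unit_comb (s : E →+* E) (hs : ∀ a, s (s a) = a) {c : E} (hc : IsUnit (c - s c)) {x : E}
    (hx : x * s x = 1) : ∃ a, IsUnit (a + x * s a) := by
  classical
  haveI : Finite (Ideal E) := inferInstance
  haveI : Finite (MaximalSpectrum E) :=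
    Finite.of_injective (fun m : MaximalSpectrum E => m.asIdeal) (fun a b h => MaximalSpectrum.ext h)
  haveI : Fintype (MaximalSpectrum E) := Fintype.ofFinite _
  let S : E ≃+* E := { toFun := s, invFun := s, left_inv := hs, right_inv := hs,
                       map_mul' := map_mul s, map_add' := map_add s }
  -- the conjugate maximal ideal
  let bar : MaximalSpectrum E → MaximalSpectrum E := fun m =>
    ⟨m.asIdeal.comap s, by
      have := m.isMaximal
      exact Ideal.comap_isMaximal_of_equiv S⟩
  have hbar : ∀ m a, a ∈ (bar m).asIdeal ↔ s a ∈ m.asIdeal := fun m a => Iff.rfl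
  have hbb : ∀ m, bar (bar m) = m := by
    intro m
    apply MaximalSpectrum.ext
    ext a
    rw [hbar, hbar, hs]
  let e := Fintype.equivFin (MaximalSpectrum E)
  have hself : ∀ m, bar m = m → ∃ a, a + x * s a ∉ m.asIdeal := by
    intro m hm
    by_contra hcon
    push Not at hcon
    have h1 := hcon 1
    rw [map_one, mul_one] at h1
    have h2 := hcon c
    have h3 : c - s c ∈ m.asIdeal := by
      have : c - s c = (c + x * s c) - (1 + x) * s c := by ring
      rw [this]
      exact Ideal.sub_mem _ h2 (Ideal.mul_mem_right _ _ h1)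
    exact m.isMaximal.ne_top (Ideal.eq_top_of_isUnit_mem _ h3 hc)
  choose! am ham using hself
  let g : MaximalSpectrum E → E := fun m => if bar m = m then am m else if e m < e (bar m) then 1 else 0
  have hcop : Pairwise (Function.onFun IsCoprime (fun m : MaximalSpectrum E => m.asIdeal)) := by
    intro i j hij
    show IsCoprime i.asIdeal j.asIdeal
    rw [Ideal.isCoprime_iff_sup_eq]
    apply i.isMaximal.coprime_of_ne j.isMaximal
    exact fun h => hij (MaximalSpectrum.ext h)
  obtain ⟨a, ha⟩ := Ideal.exists_forall_sub_mem_ideal hcop g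
  refine ⟨a, ?_⟩
  by_contra hnu
  obtain ⟨M, hM, hMem⟩ := exists_max_ideal_of_mem_nonunits hnu
  let m : MaximalSpectrum E := ⟨M, hM⟩
  have h1 : a - g m ∈ M := ha m
  have h2 : a - g (bar m) ∈ (bar m).asIdeal := ha (bar m)
  rw [hbar, map_sub] at h2
  have h3 : g m + x * s (g (bar m)) ∈ M := by
    have : g m + x * s (g (bar m)) = (a + x * s a) - (a - g m) - x * (s a - s (g (bar m))) := by ring
    rw [this]
    exact Ideal.sub_mem _ (Ideal.sub_mem _ hMem h1) (Ideal.mul_mem_left _ _ h2)
  by_cases hm : bar m = m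
  · have hg : g m = am m := if_pos hm
    rw [hm, hg] at h3
    exact ham m hm h3
  · have hm' : ¬ bar (bar m) = bar m := by
      rw [hbb]; exact fun h => hm h.symm
    have hg1 : g m = if e m < e (bar m) then 1 else 0 := if_neg hm
    have hg2 : g (bar m) = if e (bar m) < e (bar (bar m)) then 1 else 0 := if_neg hm'
    rw [hbb] at hg2
    rcases lt_trichotomy (e m) (e (bar m)) with h | h | h
    · rw [hg1, hg2, if_pos h, if_neg (not_lt.mpr h.le), map_zero, mul_zero, add_zero] at h3
      exact hM.ne_top ((Ideal.eq_top_iff_one _).mpr h3)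
    · exact hm (e.injective h.symm)
    · rw [hg1, hg2, if_pos h, if_neg (not_lt.mpr h.le), map_one, mul_one, zero_add] at h3
      exact hM.ne_top (Ideal.eq_top_of_isUnit_mem _ h3 (IsUnit.of_mul_eq_one _ hx))

/-- Hilbert 90 -/
theorem hilbert90 (s : E →+* E) (hs : ∀ a, s (s a) = a) {c : E} (hc : IsUnit (c - s c)) {x : E}
    (hx : x * s x = 1) : ∃ y, IsUnit y ∧ x * s y = y := by
  obtain ⟨a, ha⟩ := exists_unit_comb s hs hc hx
  refine ⟨_, ha, ?_⟩
  rw [map_add, map_mul, hs]
  linear_combination a * hx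

/-- surjectivity of the norm -/
theorem norm_surj (s : E →+* E) (hs : ∀ a, s (s a) = a) {c : E} (hc : IsUnit (c - s c)) {h : E}
    (hu : IsUnit h) (hh : s h = h) : ∃ x, IsUnit x ∧ x * s x = h := by
  classical
  let s' : Eˣ →* Eˣ := Units.map (s : E →* E)
  have hs' : ∀ u, s' (s' u) = u := fun u => Units.ext (hs u)
  let φ : Eˣ →* Eˣ :=
    { toFun := fun x => x * s' x
      map_one' := by simp
      map_mul' := fun x y => by rw [map_mul]; exact mul_mul_mul_comm _ _ _ _ }
  let ψ : Eˣ →* Eˣ :=
    { toFun := fun x => x * (s' x)⁻¹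
      map_one' := by simp
      map_mul' := fun x y => by rw [map_mul, mul_inv]; exact mul_mul_mul_comm _ _ _ _ }
  have h1 : φ.ker = ψ.range := by
    ext x
    rw [MonoidHom.mem_ker]
    constructor
    · intro hx
      have hx' : (x : E) * s (x : E) = 1 := congrArg Units.val hx
      obtain ⟨y, hy, hxy⟩ := hilbert90 s hs hc hx'
      obtain ⟨v, rfl⟩ := hy
      refine ⟨v, ?_⟩
      show v * (s' v)⁻¹ = x
      rw [mul_inv_eq_iff_eq_mul]
      exact Units.ext hxy.symm
    · rintro ⟨y, rfl⟩
      show (y * (s' y)⁻¹) * s' (y * (s' y)⁻¹) = 1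
      rw [map_mul, map_inv, hs']
      group
  have h2 : φ.range ≤ ψ.ker := by
    rintro _ ⟨y, rfl⟩
    rw [MonoidHom.mem_ker]
    show (y * s' y) * (s' (y * s' y))⁻¹ = 1
    rw [map_mul, hs', mul_comm (s' y) y, mul_inv_cancel]
  have c1 := Subgroup.card_mul_index φ.ker
  have c2 := Subgroup.card_mul_index ψ.ker
  rw [Subgroup.index_ker] at c1 c2
  rw [h1] at c1
  have hpos : 0 < Nat.card ψ.range := Nat.card_pos
  have c3 : Nat.card φ.range = Nat.card ψ.ker := by
    apply Nat.eq_of_mul_eq_mul_left hpos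
    rw [c1, ← c2, mul_comm]
  have h3 : φ.range = ψ.ker := by
    apply Subgroup.eq_of_le_of_card_ge h2
    rw [c3]
  obtain ⟨u, rfl⟩ := hu
  have h4 : u ∈ ψ.ker := by
    rw [MonoidHom.mem_ker]
    show u * (s' u)⁻¹ = 1
    rw [mul_inv_eq_one]
    exact Units.ext hh.symm
  rw [← h3] at h4
  obtain ⟨x, hx⟩ := h4
  exact ⟨x, x.isUnit, congrArg Units.val hx⟩

end Cfsg.Agent.Lib.HilbN
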