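import Mathlib
import Cfsg.Agent.Lib.HilbN

/-! Norm surjectivity in commutative subalgebras of algebras with involution. -/

set_option linter.all false
set_option maxHeartbeats 400000

namespace Cfsg.Agent.Lib.HilbN

section Alg

variable {F M : Type*} [Field F] [Ring M] [Algebra F M] [Finite M]

theorem inv_mem_of_unit (S : Subalgebra F M) {h : M} (hS : h ∈ S) (hu : IsUnit h) :
    ∃ k ∈ S, h * k = 1 ∧ k * h = 1 := by
  obtain ⟨u, rfl⟩ := hu
  have hpos : 0 < orderOf u := orderOf_pos u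
  have h1 : u ^ (orderOf u - 1) * u = 1 := by
    rw [← pow_succ, Nat.sub_add_cancel hpos, pow_orderOf_eq_one]
  have h2 : u * u ^ (orderOf u - 1) = 1 := by
    rw [← pow_succ', Nat.sub_add_cancel hpos, pow_orderOf_eq_one]
  refine ⟨((u ^ (orderOf u - 1) : Mˣ) : M), ?_, ?_, ?_⟩
  · rw [Units.val_pow_eq_pow_val]
    exact S.pow_mem hS _
  · rw [← Units.val_mul, h2, Units.val_one]
  · rw [← Units.val_mul, h1, Units.val_one]

theorem closed_adjoin {σ : F ≃+* F} (t : M → M) (ha : ∀ x y, t (x + y) = t x + t y)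
    (hm : ∀ x y, t (x * y) = t y * t x) (hs : ∀ a : F, t (algebraMap F M a) = algebraMap F M (σ a))
    {Q : M} (hQ : t Q ∈ Algebra.adjoin F {Q}) : ∀ x ∈ Algebra.adjoin F {Q}, t x ∈ Algebra.adjoin F {Q} := by
  intro x hx
  induction hx using Algebra.adjoin_induction with
  | mem x hx => rw [Set.mem_singleton_iff.mp hx]; exact hQ
  | algebraMap r => rw [hs]; exact Subalgebra.algebraMap_mem _ _
  | add x y _ _ hx hy => rw [ha]; exact add_mem hx hy
  | mul x y _ _ hx hy => rw [hm]; exact mul_mem hy hx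

theorem invol_adjoin {σ : F ≃+* F} (hσ2 : ∀ a, σ (σ a) = a) (t : M → M)
    (ha : ∀ x y, t (x + y) = t x + t y) (hm : ∀ x y, t (x * y) = t y * t x)
    (hs : ∀ a : F, t (algebraMap F M a) = algebraMap F M (σ a)) {Q : M} (hQ2 : t (t Q) = Q) :
    ∀ x ∈ Algebra.adjoin F {Q}, t (t x) = x := by
  intro x hx
  induction hx using Algebra.adjoin_induction with
  | mem x hx => rw [Set.mem_singleton_iff.mp hx]; exact hQ2
  | algebraMap r => rw [hs, hs, hσ2]
  | add x y _ _ hx hy => rw [ha, ha, hx, hy]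
  | mul x y _ _ hx hy => rw [hm, hm, hx, hy]

theorem comm_adjoin {Q : M} : ∀ x ∈ Algebra.adjoin F {Q}, ∀ y ∈ Algebra.adjoin F {Q}, x * y = y * x := by
  intro x hx y hy
  letI := Algebra.adjoinCommRingOfComm F (s := ({Q} : Set M)) (by
    intro a ha b hb
    rw [Set.mem_singleton_iff.mp ha, Set.mem_singleton_iff.mp hb])
  exact congrArg Subtype.val (mul_comm (⟨x, hx⟩ : Algebra.adjoin F ({Q} : Set M)) ⟨y, hy⟩)

theorem alg_main {σ : F ≃+* F} (hσ2 : ∀ a, σ (σ a) = a) (hσ : ∃ a, σ a ≠ a) (t : M → M)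
    (ha : ∀ x y, t (x + y) = t x + t y) (hm : ∀ x y, t (x * y) = t y * t x)
    (hs : ∀ a : F, t (algebraMap F M a) = algebraMap F M (σ a))
    {Q : M} (hQ : t Q ∈ Algebra.adjoin F {Q}) (hQ2 : t (t Q) = Q) :
    (∀ h ∈ Algebra.adjoin F {Q}, IsUnit h → t h = h →
      ∃ x ∈ Algebra.adjoin F {Q}, IsUnit x ∧ x * t x = h ∧ t x * x = h) ∧
    (∀ x ∈ Algebra.adjoin F {Q}, x * t x = 1 →
      ∃ y ∈ Algebra.adjoin F {Q}, IsUnit y ∧ x * t y = y) := by
  obtain ⟨a, haσ⟩ := hσ
  letI : CommRing (Algebra.adjoin F ({Q} : Set M)) := Algebra.adjoinCommRingOfComm F (by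
    intro a ha b hb
    rw [Set.mem_singleton_iff.mp ha, Set.mem_singleton_iff.mp hb])
  have hcl := closed_adjoin t ha hm hs hQ
  have hinv := invol_adjoin hσ2 t ha hm hs hQ2
  have hcomm := comm_adjoin (F := F) (Q := Q)
  have ht0 : t 0 = 0 := by
    have := ha 0 0
    rw [add_zero] at this
    exact (left_eq_add.mp this)
  have ht1 : t 1 = 1 := by
    have := hs 1
    rwa [map_one, map_one, map_one] at this
  let s : Algebra.adjoin F ({Q} : Set M) →+* Algebra.adjoin F ({Q} : Set M) :=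
    { toFun := fun x => ⟨t x, hcl x x.2⟩
      map_one' := Subtype.ext ht1
      map_zero' := Subtype.ext ht0
      map_add' := fun x y => Subtype.ext (ha x y)
      map_mul' := fun x y => Subtype.ext (by
        show t ((x : M) * (y : M)) = t x * t y
        rw [hm, hcomm _ (hcl y y.2) _ (hcl x x.2)]) }
  have hss : ∀ x, s (s x) = x := fun x => Subtype.ext (hinv x x.2)
  let c : Algebra.adjoin F ({Q} : Set M) := algebraMap F _ a
  have hc : IsUnit (c - s c) := by
    have e : c - s c = algebraMap F (Algebra.adjoin F ({Q} : Set M)) (a - σ a) := by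
      apply Subtype.ext
      show algebraMap F M a - t (algebraMap F M a) = algebraMap F M (a - σ a)
      rw [hs, map_sub]
    rw [e]
    apply IsUnit.map
    rw [isUnit_iff_ne_zero, sub_ne_zero]
    exact fun h => haσ h.symm
  have hunit : ∀ x : Algebra.adjoin F ({Q} : Set M), IsUnit x → IsUnit (x : M) := fun x hx =>
    hx.map (Algebra.adjoin F ({Q} : Set M)).val
  have hunit' : ∀ x : Algebra.adjoin F ({Q} : Set M), IsUnit (x : M) → IsUnit x := by
    intro x hx
    obtain ⟨k, hk, h1, h2⟩ := inv_mem_of_unit _ x.2 hx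
    exact IsUnit.of_mul_eq_one ⟨k, hk⟩ (Subtype.ext h1)
  constructor
  · intro h hh hu hth
    obtain ⟨x, hx, hxh⟩ := norm_surj s hss hc (h := ⟨h, hh⟩) (hunit' ⟨h, hh⟩ hu) (Subtype.ext hth)
    have h1 : (x : M) * t x = h := congrArg Subtype.val hxh
    refine ⟨x, x.2, hunit x hx, h1, ?_⟩
    rw [hcomm _ (hcl x x.2) _ x.2]
    exact h1
  · intro x hx hxt
    obtain ⟨y, hy, hxy⟩ := hilbert90 s hss hc (x := ⟨x, hx⟩) (Subtype.ext hxt)
    exact ⟨y, y.2, hunit y hy, congrArg Subtype.val hxy⟩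

end Alg

end Cfsg.Agent.Lib.HilbN
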