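import Mathlib

/-! Counting compositions and their rotation orbits. -/

set_option linter.all false
set_option maxHeartbeats 400000

namespace Cfsg.Agent.Lib.CombT

theorem card_sum_eq (α : Type*) [Fintype α] (n : ℕ) :
    Nat.card {f : α → ℕ // ∑ i, f i = n} = (Fintype.card α + n - 1).choose n := by
  classical
  rw [Nat.card_congr (Sym.equivNatSumOfFintype α n).symm, Nat.card_eq_fintype_card,
    Sym.card_sym_eq_choose]

instance finite_sum (α : Type*) [Fintype α] (n : ℕ) : Finite {f : α → ℕ // ∑ i, f i = n} := by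
  classical
  exact Finite.of_equiv _ (Sym.equivNatSumOfFintype α n)

theorem card_sum_le (α : Type*) [Fintype α] (N : ℕ) :
    Nat.card {f : α → ℕ // ∑ i, f i ≤ N} = (N + Fintype.card α).choose (Fintype.card α) := by
  have e : {f : α → ℕ // ∑ i, f i ≤ N} ≃ {f : Option α → ℕ // ∑ i, f i = N} :=
    { toFun := fun f => ⟨fun o => o.elim (N - ∑ i, f.1 i) f.1, by
        rw [Fintype.sum_option]
        show (N - ∑ i, f.1 i) + ∑ i, f.1 i = N
        have := f.2
        omega⟩
      invFun := fun g => ⟨fun i => g.1 (some i), by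
        have := g.2
        rw [Fintype.sum_option] at this
        show ∑ i, g.1 (some i) ≤ N
        omega⟩
      left_inv := fun f => rfl
      right_inv := fun g => by
        apply Subtype.ext
        funext o
        have := g.2
        rw [Fintype.sum_option] at this
        cases o with
        | none =>
          show N - ∑ i, g.1 (some i) = g.1 none
          omega
        | some i => rfl }
  rw [Nat.card_congr e, card_sum_eq, Fintype.card_option]
  have h1 : Fintype.card α + 1 + N - 1 = N + Fintype.card α := by omega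
  rw [h1, Nat.choose_symm_add]

section Orb

variable {M : Type*} [CommGroup M] [Fintype M] {n : ℕ}

/-- multiplicity functions which are not concentrated at a point -/
abbrev SS (M : Type*) [Fintype M] (n : ℕ) := {a : M → ℕ // ∑ l, a l = n ∧ ∀ l, a l < n}

instance finite_SS : Finite (SS M n) :=
  Finite.of_injective (fun a : SS M n => (⟨a.1, a.2.1⟩ : {f : M → ℕ // ∑ i, f i = n})) (by
    intro a b h
    have h' := congrArg (fun z : {f : M → ℕ // ∑ i, f i = n} => z.1) h
    exact Subtype.ext h')

theorem card_SS (hn : 1 ≤ n) : Nat.card (SS M n) + Fintype.card M = (Fintype.card M + n - 1).choose n := by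
  classical
  rw [← card_sum_eq M n]
  haveI := Fintype.ofFinite {f : M → ℕ // ∑ i, f i = n}
  have h1 : Nat.card (SS M n) = Nat.card {f : {f : M → ℕ // ∑ i, f i = n} // ∀ l, f.1 l < n} :=
    Nat.card_congr
      { toFun := fun a => ⟨⟨a.1, a.2.1⟩, a.2.2⟩
        invFun := fun b => ⟨b.1.1, b.1.2, b.2⟩
        left_inv := fun a => rfl
        right_inv := fun b => rfl }
  have h2 : Fintype.card M = Nat.card {f : {f : M → ℕ // ∑ i, f i = n} // ¬ ∀ l, f.1 l < n} := by
    rw [← Nat.card_eq_fintype_card]
    apply Nat.card_congr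
    apply Equiv.ofBijective (fun l : M => (⟨⟨Pi.single l n, by simp⟩, by
      push Not
      exact ⟨l, by
        show n ≤ (Pi.single l n : M → ℕ) l
        rw [Pi.single_eq_same]⟩⟩ : {f : {f : M → ℕ // ∑ i, f i = n} // ¬ ∀ l, f.1 l < n}))
    constructor
    · intro l l' h
      by_contra hne
      have h3 := congrArg (fun z : {f : {f : M → ℕ // ∑ i, f i = n} // ¬ ∀ l, f.1 l < n} => z.1.1 l) h
      simp only [Pi.single_eq_same, Pi.single_eq_of_ne hne] at h3
      omega
    · rintro ⟨⟨f, hf⟩, hf2⟩
      push Not at hf2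
      obtain ⟨l, hl⟩ := hf2
      refine ⟨l, ?_⟩
      apply Subtype.ext
      apply Subtype.ext
      funext l'
      have h4 := Finset.add_sum_erase Finset.univ f (Finset.mem_univ l)
      rw [hf] at h4
      have hl' : n ≤ f l := hl
      have h5 : ∑ x ∈ Finset.univ.erase l, f x = 0 := by omega
      by_cases hll : l' = l
      · subst hll
        show (Pi.single l' n : M → ℕ) l' = f l'
        rw [Pi.single_eq_same]; omega
      · show (Pi.single l n : M → ℕ) l' = f l'
        rw [Pi.single_eq_of_ne hll]
        exact ((Finset.sum_eq_zero_iff.mp h5) l' (Finset.mem_erase.mpr ⟨hll, Finset.mem_univ _⟩)).symm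
  rw [h1, h2, ← Nat.card_sum]
  exact Nat.card_congr (Equiv.sumCompl _)

/-- rotation -/
@[reducible] def rot (M : Type*) [CommGroup M] [Fintype M] (n : ℕ) : MulAction M (SS M n) where
  smul k a := ⟨fun l => a.1 (k * l), by
    exact (Equiv.sum_comp (Equiv.mulLeft k) a.1).trans a.2.1, fun l => a.2.2 _⟩
  one_smul a := Subtype.ext (by
    funext l
    show a.1 (1 * l) = a.1 l
    rw [one_mul])
  mul_smul k k' a := Subtype.ext (by
    funext l
    show a.1 (k * k' * l) = a.1 (k' * (k * l))
    congr 1
    rw [mul_comm k k', mul_assoc])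

theorem rot_apply (k : M) (a : SS M n) (l : M) : ((rot M n).smul k a).1 l = a.1 (k * l) := rfl

theorem card_fixed (hn : 1 ≤ n) (hr : (Fintype.card M).Prime) {k : M} (hk : k ≠ 1) :
    Nat.card {a : SS M n // (rot M n).smul k a = a} = if Fintype.card M ∣ n then 1 else 0 := by
  classical
  haveI : Fact (Fintype.card M).Prime := ⟨hr⟩
  have hconst : ∀ a : SS M n, (rot M n).smul k a = a → ∀ l, a.1 l = a.1 1 := by
    intro a ha l
    have h1 : l ∈ Subgroup.zpowers k :=
      mem_zpowers_of_prime_card (p := Fintype.card M) (by rw [Nat.card_eq_fintype_card]) hk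
    obtain ⟨z, rfl⟩ := Subgroup.mem_zpowers_iff.mp h1
    have h2 : ∀ l, a.1 (k * l) = a.1 l := fun l => congrFun (congrArg Subtype.val ha) l
    have h3 : ∀ m : ℕ, ∀ l, a.1 (k ^ m * l) = a.1 l := by
      intro m
      induction m with
      | zero => intro l; rw [pow_zero, one_mul]
      | succ m ih => intro l; rw [pow_succ', mul_assoc, h2, ih]
    obtain ⟨m, hm⟩ : ∃ m : ℕ, k ^ z = k ^ m := by
      have := (mem_powers_iff_mem_zpowers (x := k) (y := k ^ z)).mpr ⟨z, rfl⟩
      obtain ⟨m, hm⟩ := this
      exact ⟨m, hm.symm⟩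
    show a.1 (k ^ z) = a.1 1
    rw [hm, ← mul_one (k ^ m), h3]
  have hval : ∀ a : SS M n, (rot M n).smul k a = a → Fintype.card M * a.1 1 = n := by
    intro a ha
    have h1 := a.2.1
    rw [Finset.sum_congr rfl (fun l _ => hconst a ha l), Finset.sum_const, Finset.card_univ, smul_eq_mul] at h1
    exact h1
  by_cases hd : Fintype.card M ∣ n
  · rw [if_pos hd, Nat.card_eq_one_iff_unique]
    obtain ⟨c, hc⟩ := hd
    have h2 := hr.two_le
    constructor
    · constructor
      rintro ⟨a, ha⟩ ⟨b, hb⟩
      apply Subtype.ext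
      apply Subtype.ext
      funext l
      show a.1 l = b.1 l
      have e1 := hval a ha
      have e2 := hval b hb
      rw [hconst a ha, hconst b hb]
      exact Nat.eq_of_mul_eq_mul_left hr.pos (e1.trans e2.symm)
    · have hc1 : 1 ≤ c := by
        rcases Nat.eq_zero_or_pos c with h | h
        · rw [h, mul_zero] at hc; omega
        · exact h
      exact ⟨⟨⟨fun _ => c, by rw [Finset.sum_const, Finset.card_univ, smul_eq_mul, ← hc],
        fun l => by show c < n; nlinarith⟩, rfl⟩⟩
  · rw [if_neg hd]
    haveI : IsEmpty {a : SS M n // (rot M n).smul k a = a} := ⟨fun a => hd (Dvd.intro _ (hval a.1 a.2))⟩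
    exact Nat.card_of_isEmpty

theorem card_orbits (hn : 1 ≤ n) (hr : (Fintype.card M).Prime) :
    Nat.card (@MulAction.orbitRel.Quotient M (SS M n) _ (rot M n)) =
      (Nat.choose (n + Fintype.card M - 1) (Fintype.card M - 1) - Fintype.card M -
        (if Fintype.card M ∣ n then 1 else 0)) / Fintype.card M + (if Fintype.card M ∣ n then 1 else 0) := by
  classical
  letI := rot M n
  haveI := Fintype.ofFinite (SS M n)
  haveI := Fintype.ofFinite (MulAction.orbitRel.Quotient M (SS M n))
  haveI : ∀ k : M, Fintype (MulAction.fixedBy (SS M n) k) := fun k => Fintype.ofFinite _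
  have h1 := MulAction.sum_card_fixedBy_eq_card_orbits_mul_card_group M (SS M n)
  rw [← Finset.add_sum_erase Finset.univ _ (Finset.mem_univ (1 : M))] at h1
  have h2 : Fintype.card (MulAction.fixedBy (SS M n) (1 : M)) = Nat.card (SS M n) := by
    rw [← Nat.card_eq_fintype_card]
    apply Nat.card_congr
    apply Equiv.subtypeUnivEquiv
    intro a
    exact one_smul M a
  have h3 : ∑ k ∈ Finset.univ.erase (1 : M), Fintype.card (MulAction.fixedBy (SS M n) k) =
      (Fintype.card M - 1) * (if Fintype.card M ∣ n then 1 else 0) := by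
    rw [Finset.sum_congr rfl (g := fun _ => if Fintype.card M ∣ n then 1 else 0), Finset.sum_const,
      Finset.card_erase_of_mem (Finset.mem_univ _), Finset.card_univ, smul_eq_mul]
    intro k hk
    rw [← Nat.card_eq_fintype_card]
    exact card_fixed hn hr (Finset.ne_of_mem_erase hk)
  have h4 := card_SS (M := M) hn
  have h5 : (Fintype.card M + n - 1).choose n = Nat.choose (n + Fintype.card M - 1) (Fintype.card M - 1) := by
    have hp := hr.pos
    have e1 : Fintype.card M + n - 1 = n + (Fintype.card M - 1) := by omega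
    have e2 : n + Fintype.card M - 1 = n + (Fintype.card M - 1) := by omega
    rw [e1, e2, Nat.choose_symm_add]
  rw [h2, h3] at h1
  rw [← h5, ← h4, Nat.add_sub_cancel, Nat.card_eq_fintype_card (α := MulAction.orbitRel.Quotient M (SS M n))]
  set o := Fintype.card (MulAction.orbitRel.Quotient M (SS M n))
  set r := Fintype.card M
  set s := Nat.card (SS M n)
  have hr2 := hr.two_le
  by_cases hd : r ∣ n
  · rw [if_pos hd] at h1 ⊢
    -- s + (r - 1) = o * r
    have ho : 1 ≤ o := by
      rcases Nat.eq_zero_or_pos o with h | h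
      · rw [h, zero_mul] at h1; omega
      · exact h
    have h6 : s - 1 = (o - 1) * r := by
      obtain ⟨o', ho'⟩ : ∃ o', o = o' + 1 := ⟨o - 1, by omega⟩
      rw [ho'] at h1 ⊢
      rw [Nat.add_sub_cancel, add_mul, one_mul, mul_one] at *
      omega
    rw [h6, Nat.mul_div_cancel _ (by omega)]
    omega
  · rw [if_neg hd] at h1 ⊢
    rw [mul_zero, add_zero] at h1
    rw [Nat.sub_zero, add_zero, h1, Nat.mul_div_cancel _ (by omega)]

end Orb

end Cfsg.Agent.Lib.CombT
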