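import Mathlib

/-! Finite modules over a principal ideal domain are determined by the numbers of elements killed by
the elements of the ring (an argument of Lovász); similarity of matrices over finite fields. -/

set_option linter.all false
set_option maxHeartbeats 400000

namespace Cfsg.Agent.Lib.RCF

open Polynomial

section Lovasz

variable {R M N : Type*} [CommRing R] [AddCommGroup M] [Module R M] [AddCommGroup N] [Module R N]

theorem finite_lin [Finite M] [Finite N] : Finite (M →ₗ[R] N) :=
  Finite.of_injective (fun f => (f : M → N)) DFunLike.coe_injective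

theorem finite_sub [Finite M] : Finite (Submodule R M) :=
  Finite.of_injective (fun K => (K : Set M)) SetLike.coe_injective

theorem card_le_ker [Finite M] [Finite N] [Fintype (Submodule R M)] [DecidableLE (Submodule R M)]
    (K : Submodule R M) :
    Nat.card {f : M →ₗ[R] N // K ≤ LinearMap.ker f} =
      ∑ K' : Submodule R M, if K ≤ K' then Nat.card {f : M →ₗ[R] N // LinearMap.ker f = K'} else 0 := by
  classical
  haveI := finite_lin (R := R) (M := M) (N := N)
  haveI := Fintype.ofFinite (M →ₗ[R] N)
  rw [Nat.card_eq_fintype_card, Fintype.card_subtype]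
  rw [Finset.card_eq_sum_card_fiberwise (f := fun f => LinearMap.ker f) (t := Finset.univ) (by simp)]
  apply Finset.sum_congr rfl
  intro K' _
  by_cases hK : K ≤ K'
  · rw [if_pos hK, Nat.card_eq_fintype_card, Fintype.card_subtype]
    congr 1
    ext f
    simp only [Finset.mem_filter, Finset.mem_univ, true_and]
    constructor
    · rintro ⟨_, h⟩; exact h
    · rintro rfl; exact ⟨hK, rfl⟩
  · rw [if_neg hK, Finset.card_eq_zero, Finset.filter_eq_empty_iff]
    rintro f hf rfl
    exact hK (Finset.mem_filter.mp hf).2

theorem lovasz [Finite M] [Finite N] (hc : Nat.card M = Nat.card N)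
    (h : ∀ K : Submodule R M, Nat.card {f : M →ₗ[R] M // K ≤ LinearMap.ker f} =
      Nat.card {f : M →ₗ[R] N // K ≤ LinearMap.ker f}) : Nonempty (M ≃ₗ[R] N) := by
  classical
  haveI := finite_sub (R := R) (M := M)
  haveI := Fintype.ofFinite (Submodule R M)
  have key : ∀ K : Submodule R M, Nat.card {f : M →ₗ[R] M // LinearMap.ker f = K} =
      Nat.card {f : M →ₗ[R] N // LinearMap.ker f = K} := by
    intro K
    induction K using (wellFounded_gt (α := Submodule R M)).induction with
    | h K ih =>
      have h1 := h K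
      rw [card_le_ker, card_le_ker] at h1
      have split : ∀ a : Submodule R M → ℕ, (∑ K' : Submodule R M, if K ≤ K' then a K' else 0) =
          a K + ∑ K' ∈ Finset.univ.erase K, if K ≤ K' then a K' else 0 := by
        intro a
        rw [← Finset.add_sum_erase Finset.univ _ (Finset.mem_univ K), if_pos le_rfl]
      rw [split, split] at h1
      have h2 : (∑ K' ∈ Finset.univ.erase K, if K ≤ K' then Nat.card {f : M →ₗ[R] M // LinearMap.ker f = K'} else 0) =
          (∑ K' ∈ Finset.univ.erase K, if K ≤ K' then Nat.card {f : M →ₗ[R] N // LinearMap.ker f = K'} else 0) := by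
        apply Finset.sum_congr rfl
        intro K' hK'
        by_cases hle : K ≤ K'
        · rw [if_pos hle, if_pos hle]
          exact ih K' (lt_of_le_of_ne hle (Finset.ne_of_mem_erase hK').symm)
        · rw [if_neg hle, if_neg hle]
      omega
  have h0 := key ⊥
  haveI := finite_lin (R := R) (M := M) (N := M)
  haveI := finite_lin (R := R) (M := M) (N := N)
  have h1 : 0 < Nat.card {f : M →ₗ[R] N // LinearMap.ker f = ⊥} := by
    rw [← h0]
    haveI : Nonempty {f : M →ₗ[R] M // LinearMap.ker f = ⊥} := ⟨⟨LinearMap.id, LinearMap.ker_id⟩⟩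
    exact Nat.card_pos
  obtain ⟨⟨f, hf⟩⟩ := (Nat.card_pos_iff.mp h1).1
  have hinj := LinearMap.ker_eq_bot.mp hf
  have hbij : Function.Bijective f := by
    haveI := Fintype.ofFinite M
    haveI := Fintype.ofFinite N
    rw [Fintype.bijective_iff_injective_and_card]
    refine ⟨hinj, ?_⟩
    rw [← Nat.card_eq_fintype_card, ← Nat.card_eq_fintype_card, hc]
  exact ⟨LinearEquiv.ofBijective f hbij⟩

theorem card_hom_quot (K : Submodule R M) :
    Nat.card {f : M →ₗ[R] N // K ≤ LinearMap.ker f} = Nat.card ((M ⧸ K) →ₗ[R] N) := by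
  apply Nat.card_congr
  refine
    { toFun := fun f => K.liftQ f.1 f.2
      invFun := fun g => ⟨g.comp K.mkQ, ?_⟩
      left_inv := ?_
      right_inv := ?_ }
  · intro x hx
    rw [LinearMap.mem_ker, LinearMap.comp_apply, Submodule.mkQ_apply,
      (Submodule.Quotient.mk_eq_zero K).mpr hx, map_zero]
  · intro f
    apply Subtype.ext
    exact K.liftQ_mkQ f.1 f.2
  · intro g
    apply LinearMap.ext
    intro x
    obtain ⟨x, rfl⟩ := K.mkQ_surjective x
    exact K.liftQ_apply _ x

theorem card_hom_cyclic (a : R) :
    Nat.card ((R ⧸ Submodule.span R {a}) →ₗ[R] N) = Nat.card {x : N // a • x = 0} := by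
  rw [← card_hom_quot]
  apply Nat.card_congr
  refine
    { toFun := fun f => ⟨f.1 1, ?_⟩
      invFun := fun x => ⟨LinearMap.toSpanSingleton R N x.1, ?_⟩
      left_inv := ?_
      right_inv := ?_ }
  · have := f.2 (Submodule.mem_span_singleton_self a)
    rw [LinearMap.mem_ker] at this
    rw [← map_smul, smul_eq_mul, mul_one, this]
  · rw [Submodule.span_singleton_le_iff_mem, LinearMap.mem_ker, LinearMap.toSpanSingleton_apply]
    exact x.2
  · intro f
    apply Subtype.ext
    apply LinearMap.ext
    intro r
    show LinearMap.toSpanSingleton R N (f.1 1) r = f.1 r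
    rw [LinearMap.toSpanSingleton_apply, ← map_smul, smul_eq_mul, mul_one]
  · intro x
    apply Subtype.ext
    show LinearMap.toSpanSingleton R N x.1 1 = x.1
    rw [LinearMap.toSpanSingleton_apply, one_smul]

theorem card_hom_directSum {ι : Type*} [Fintype ι] [DecidableEq ι] (P : ι → Type*)
    [∀ i, AddCommGroup (P i)] [∀ i, Module R (P i)] :
    Nat.card ((DirectSum ι P) →ₗ[R] N) = ∏ i, Nat.card (P i →ₗ[R] N) := by
  rw [← Nat.card_pi]
  exact Nat.card_congr (DFinsupp.lsum ℕ (R := R) (M := P) (N := N)).symm.toEquiv

/-- finite modules over a principal ideal domain with the same numbers of elements killed by each ring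
element are isomorphic -/
theorem equiv_of_card [IsDomain R] [IsPrincipalIdealRing R] [Finite M] [Finite N]
    (hM : Module.IsTorsion R M)
    (h : ∀ a : R, Nat.card {x : M // a • x = 0} = Nat.card {x : N // a • x = 0}) :
    Nonempty (M ≃ₗ[R] N) := by
  classical
  have hc : Nat.card M = Nat.card N := by
    have := h 0
    rw [Nat.card_congr (Equiv.subtypeUnivEquiv (fun x => zero_smul R x)),
      Nat.card_congr (Equiv.subtypeUnivEquiv (fun x => zero_smul R x))] at this
    exact this
  apply lovasz hc
  intro K
  rw [card_hom_quot, card_hom_quot]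
  have hQ : Module.IsTorsion R (M ⧸ K) := by
    intro x
    obtain ⟨x, rfl⟩ := K.mkQ_surjective x
    obtain ⟨a, ha⟩ := hM (x := x)
    refine ⟨a, ?_⟩
    have h5 : (a : R) • x = 0 := ha
    show (a : R) • K.mkQ x = 0
    rw [← map_smul, h5, map_zero]
  obtain ⟨ι, _, p, hp, e, ⟨l⟩⟩ := Module.equiv_directSum_of_isTorsion hQ
  have e1 : Nat.card ((M ⧸ K) →ₗ[R] M) = Nat.card ((DirectSum ι fun i => R ⧸ Submodule.span R {p i ^ e i}) →ₗ[R] M) :=
    Nat.card_congr (LinearEquiv.congrLeft M R l).toEquiv
  have e2 : Nat.card ((M ⧸ K) →ₗ[R] N) = Nat.card ((DirectSum ι fun i => R ⧸ Submodule.span R {p i ^ e i}) →ₗ[R] N) :=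
    Nat.card_congr (LinearEquiv.congrLeft N R l).toEquiv
  rw [e1, e2, card_hom_directSum, card_hom_directSum]
  apply Finset.prod_congr rfl
  intro i _
  rw [card_hom_cyclic, card_hom_cyclic, h]

end Lovasz

section Similar

variable {F V W : Type*} [Field F] [AddCommGroup V] [Module F V] [AddCommGroup W] [Module F W]

theorem aeval_torsion [FiniteDimensional F V] (A : V →ₗ[F] V) :
    Module.IsTorsion F[X] (Module.AEval' A) := by
  intro x
  have h1 : minpoly F A ≠ 0 := minpoly.ne_zero (Algebra.IsIntegral.isIntegral A)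
  refine ⟨⟨minpoly F A, mem_nonZeroDivisors_of_ne_zero h1⟩, ?_⟩
  show minpoly F A • x = 0
  have h2 : minpoly F A • x = (Module.AEval.of F V A) ((aeval A (minpoly F A)) • ((Module.AEval.of F V A).symm x)) := rfl
  rw [h2, minpoly.aeval, zero_smul, map_zero]

theorem similar_of_card [Finite F] [FiniteDimensional F V] [FiniteDimensional F W] (A : V →ₗ[F] V)
    (B : W →ₗ[F] W)
    (h : ∀ f : F[X], Module.finrank F (LinearMap.ker (aeval A f)) =
      Module.finrank F (LinearMap.ker (aeval B f))) :
    ∃ g : V ≃ₗ[F] W, ∀ v, g (A v) = B (g v) := by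
  haveI : Finite V := Module.finite_of_finite F
  haveI : Finite W := Module.finite_of_finite F
  haveI : Finite (Module.AEval' A) := inferInstanceAs (Finite V)
  haveI : Finite (Module.AEval' B) := inferInstanceAs (Finite W)
  obtain ⟨g⟩ := equiv_of_card (R := F[X]) (M := Module.AEval' A) (N := Module.AEval' B)
    (aeval_torsion A) (by
      intro f
      have e1 : Nat.card {x : Module.AEval' A // f • x = 0} = Nat.card (LinearMap.ker (aeval A f)) :=
        Nat.card_congr (Equiv.subtypeEquivRight fun x => Iff.rfl)
      have e2 : Nat.card {x : Module.AEval' B // f • x = 0} = Nat.card (LinearMap.ker (aeval B f)) :=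
        Nat.card_congr (Equiv.subtypeEquivRight fun x => Iff.rfl)
      rw [e1, e2, Module.natCard_eq_pow_finrank (K := F), h f, ← Module.natCard_eq_pow_finrank (K := F)])
  refine ⟨(Module.AEval.of F V A).trans ((g.restrictScalars F).trans (Module.AEval.of F W B).symm), ?_⟩
  intro v
  show (Module.AEval.of F W B).symm (g (Module.AEval.of F V A (A v))) =
    B ((Module.AEval.of F W B).symm (g (Module.AEval.of F V A v)))
  have h1 : Module.AEval.of F V A (A v) = (X : F[X]) • Module.AEval.of F V A v :=
    (Module.AEval.X_smul_of A v).symm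
  rw [h1, map_smul, Module.AEval.of_symm_X_smul]
  rfl

end Similar

section Mat

variable {F : Type*} [Field F] {ι : Type*} [Fintype ι] [DecidableEq ι]

/-- matrices over a finite field are similar when all polynomials in them have the same rank -/
theorem isConj_of_rank [Finite F] (A B : Matrix ι ι F)
    (h : ∀ f : F[X], (aeval A f).rank = (aeval B f).rank) : ∃ P : (Matrix ι ι F)ˣ, (P : Matrix ι ι F) * A = B * P := by
  have key : ∀ (A : Matrix ι ι F) (f : F[X]), Module.finrank F (LinearMap.ker (aeval (Matrix.toLin' A) f)) +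
      (aeval A f).rank = Fintype.card ι := by
    intro A f
    have h1 : aeval (Matrix.toLin' A) f = Matrix.toLin' (aeval A f) := by
      exact (Polynomial.aeval_algHom_apply (Matrix.toLinAlgEquiv' (R := F) (n := ι)).toAlgHom A f)
    rw [h1]
    have h2 := LinearMap.finrank_range_add_finrank_ker (Matrix.toLin' (aeval A f))
    rw [Module.finrank_fintype_fun_eq_card] at h2
    have h3 : (aeval A f).rank = Module.finrank F (LinearMap.range (Matrix.toLin' (aeval A f))) := rfl
    omega
  obtain ⟨g, hg⟩ := similar_of_card (Matrix.toLin' A) (Matrix.toLin' B) (by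
    intro f
    have h1 := key A f
    have h2 := key B f
    rw [h f] at h1
    omega)
  let P := LinearMap.toMatrix' (g : (ι → F) →ₗ[F] (ι → F))
  let Q := LinearMap.toMatrix' (g.symm : (ι → F) →ₗ[F] (ι → F))
  have hPQ : P * Q = 1 := by
    rw [← LinearMap.toMatrix'_comp]
    have : (g : (ι → F) →ₗ[F] (ι → F)).comp (g.symm : (ι → F) →ₗ[F] (ι → F)) = LinearMap.id := by
      ext; simp
    rw [this, LinearMap.toMatrix'_id]
  have hQP : Q * P = 1 := mul_eq_one_comm.mp hPQ
  refine ⟨⟨P, Q, hPQ, hQP⟩, ?_⟩
  show P * A = B * P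
  apply Matrix.toLin'.injective
  rw [Matrix.toLin'_mul, Matrix.toLin'_mul]
  apply LinearMap.ext
  intro v
  show Matrix.toLin' P (Matrix.toLin' A v) = Matrix.toLin' B (Matrix.toLin' P v)
  rw [Matrix.toLin'_toMatrix']
  exact hg v

end Mat

end Cfsg.Agent.Lib.RCF

namespace Cfsg.Agent.Lib.RCF

open Polynomial

section Transpose

variable {F : Type*} [Field F] {ι : Type*} [Fintype ι] [DecidableEq ι]

theorem aeval_transpose (A : Matrix ι ι F) (f : F[X]) : aeval A.transpose f = (aeval A f).transpose := by
  induction f using Polynomial.induction_on' with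
  | add p q hp hq => rw [map_add, map_add, hp, hq, Matrix.transpose_add]
  | monomial n a =>
    rw [aeval_monomial, aeval_monomial, Matrix.transpose_mul, Matrix.transpose_pow,
      Matrix.algebraMap_eq_diagonal, Matrix.diagonal_transpose]
    rw [← Matrix.algebraMap_eq_diagonal]
    exact Algebra.commutes a _

theorem conj_transpose [Finite F] (A : Matrix ι ι F) :
    ∃ P : (Matrix ι ι F)ˣ, (P : Matrix ι ι F) * A = A.transpose * P := by
  apply isConj_of_rank
  intro f
  rw [aeval_transpose, Matrix.rank_transpose]

end Transpose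

end Cfsg.Agent.Lib.RCF
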