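import Mathlib
import Cfsg.Agent.Lib.RCF1

/-! Semisimple endomorphisms over finite fields with the same characteristic polynomial are similar. -/

set_option linter.all false
set_option maxHeartbeats 400000

namespace Cfsg.Agent.Lib.RCF

open Polynomial

section Cop

variable {F : Type*} [Field F]

/-- if `g(A)` is invertible then `g` is prime to the characteristic polynomial -/
theorem coprime_of_isUnit {ι : Type*} [Fintype ι] [DecidableEq ι] {A : Matrix ι ι F} {g : F[X]}
    (h : IsUnit (aeval A g)) : IsCoprime A.charpoly g := by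
  by_contra hc
  have hne : A.charpoly ≠ 0 := (Matrix.charpoly_monic A).ne_zero
  obtain ⟨π, hπ, h1, h2⟩ : ∃ π : F[X], Irreducible π ∧ π ∣ A.charpoly ∧ π ∣ g := by
    by_contra hn
    push Not at hn
    apply hc
    exact isCoprime_of_irreducible_dvd (fun h => hne h.1) (fun π hπ h1 h2 => hn π hπ h1 h2)
  haveI : Fact (Irreducible π) := ⟨hπ⟩
  set L := AdjoinRoot π
  set φ : F →+* L := AdjoinRoot.of π
  set r : L := AdjoinRoot.root π
  have hr : π.eval₂ φ r = 0 := AdjoinRoot.eval₂_root π
  have hr1 : (A.charpoly).eval₂ φ r = 0 := by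
    obtain ⟨c, hc⟩ := h1
    rw [hc, eval₂_mul, hr, zero_mul]
  have hr2 : g.eval₂ φ r = 0 := by
    obtain ⟨c, hc⟩ := h2
    rw [hc, eval₂_mul, hr, zero_mul]
  -- eigenvector over `L`
  have hdet : (Matrix.scalar ι r - A.map φ).det = 0 := by
    have h3 := Matrix.eval_charpoly (A.map φ) r
    rw [← h3, Matrix.charpoly_map, eval_map, hr1]
  obtain ⟨v, hv, hv2⟩ := Matrix.exists_mulVec_eq_zero_iff.mpr hdet
  have hAv : (A.map φ).mulVec v = r • v := by
    rw [Matrix.sub_mulVec, sub_eq_zero] at hv2
    rw [← hv2]
    ext i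
    rw [Matrix.scalar_apply, Matrix.mulVec_diagonal]
    rfl
  have hpow : ∀ n : ℕ, ((A.map φ) ^ n).mulVec v = (r ^ n) • v := by
    intro n
    induction n with
    | zero => rw [pow_zero, pow_zero, Matrix.one_mulVec, one_smul]
    | succ n ih => rw [pow_succ', ← Matrix.mulVec_mulVec, ih, Matrix.mulVec_smul, hAv, smul_smul, pow_succ]
  have hmap : ∀ f : F[X], ((aeval A f).map φ).mulVec v = (f.eval₂ φ r) • v := by
    intro f
    induction f using Polynomial.induction_on' with
    | add p q hp hq =>
      rw [map_add, Matrix.map_add _ (map_add φ), Matrix.add_mulVec, hp, hq, eval₂_add, add_smul]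
    | monomial n a =>
      rw [aeval_monomial, eval₂_monomial]
      have h4 : ((algebraMap F (Matrix ι ι F) a) * A ^ n).map φ = (φ a) • ((A.map φ) ^ n) := by
        rw [← Algebra.smul_def]
        have h5 : (A.map φ) ^ n = (A ^ n).map φ := (map_pow (RingHom.mapMatrix φ) A n).symm
        rw [h5]
        ext i j
        simp [Matrix.map_apply]
      rw [h4, Matrix.smul_mulVec, hpow, smul_smul]
  have h0 := hmap g
  rw [hr2, zero_smul] at h0
  obtain ⟨U, hU⟩ := h
  have hUi : (((U⁻¹ : (Matrix ι ι F)ˣ) : Matrix ι ι F).map φ) * ((aeval A g).map φ) = 1 := by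
    rw [← hU]
    have := congrArg (fun M : Matrix ι ι F => M.map φ) (Units.inv_mul U)
    rw [Matrix.map_mul, Matrix.map_one _ (map_zero φ) (map_one φ)] at this
    exact this
  apply hv
  calc v = ((((U⁻¹ : (Matrix ι ι F)ˣ) : Matrix ι ι F).map φ) * ((aeval A g).map φ)).mulVec v := by
        rw [hUi, Matrix.one_mulVec]
    _ = 0 := by rw [← Matrix.mulVec_mulVec, h0, Matrix.mulVec_zero]

variable {V W : Type*} [AddCommGroup V] [Module F V] [FiniteDimensional F V]

theorem coprime_charpoly {T : V →ₗ[F] V} {f g : F[X]} (hf : aeval T f = 0) (h : IsCoprime f g) :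
    IsCoprime T.charpoly g := by
  classical
  let b := Module.finBasis F V
  have h1 : T.charpoly = (LinearMap.toMatrix b b T).charpoly := (LinearMap.charpoly_toMatrix T b).symm
  rw [h1]
  apply coprime_of_isUnit
  have h2 : ∀ p : F[X], aeval (LinearMap.toMatrix b b T) p = LinearMap.toMatrix b b (aeval T p) := by
    intro p
    exact Polynomial.aeval_algHom_apply (LinearMap.toMatrixAlgEquiv b).toAlgHom T p
  obtain ⟨u, v, huv⟩ := h
  have h3 : aeval (LinearMap.toMatrix b b T) v * aeval (LinearMap.toMatrix b b T) g = 1 := by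
    rw [← map_mul]
    have := congrArg (aeval (LinearMap.toMatrix b b T)) huv
    rw [map_add, map_mul, h2 f, hf, map_zero, mul_zero, zero_add, map_one] at this
    exact this
  exact IsUnit.of_mul_eq_one _ (mul_eq_one_comm.mp h3)

end Cop

section Split

variable {F : Type*} [Field F] {V W : Type*} [AddCommGroup V] [Module F V] [FiniteDimensional F V]
  [AddCommGroup W] [Module F W] [FiniteDimensional F W]

/-- the restriction to the kernel of a polynomial -/
noncomputable def rst (T : V →ₗ[F] V) (f : F[X]) : LinearMap.ker (aeval T f) →ₗ[F] LinearMap.ker (aeval T f) :=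
  T.restrict (fun x hx => by
    rw [LinearMap.mem_ker] at hx ⊢
    have h1 : (aeval T f) * (aeval T (X : F[X])) = (aeval T (X : F[X])) * (aeval T f) := by
      rw [← map_mul, ← map_mul, mul_comm]
    rw [aeval_X] at h1
    have h2 := congrArg (fun S : V →ₗ[F] V => S x) h1
    simp only [Module.End.mul_apply] at h2
    rw [h2, hx, map_zero])

theorem rst_apply (T : V →ₗ[F] V) (f : F[X]) (x : LinearMap.ker (aeval T f)) :
    ((rst T f x : LinearMap.ker (aeval T f)) : V) = T x := rfl

theorem aeval_rst_apply (T : V →ₗ[F] V) (f g : F[X]) (x : LinearMap.ker (aeval T f)) :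
    ((aeval (rst T f) g x : LinearMap.ker (aeval T f)) : V) = aeval T g x := by
  induction g using Polynomial.induction_on' with
  | add p q hp hq =>
    rw [map_add, map_add, LinearMap.add_apply, LinearMap.add_apply, Submodule.coe_add, hp, hq]
  | monomial n a =>
    rw [aeval_monomial, aeval_monomial, ← Algebra.smul_def, ← Algebra.smul_def, LinearMap.smul_apply,
      LinearMap.smul_apply, Submodule.coe_smul]
    congr 1
    induction n with
    | zero => rfl
    | succ n ih =>
      rw [pow_succ', pow_succ', Module.End.mul_apply, Module.End.mul_apply, rst_apply, ih]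

theorem aeval_rst_self (T : V →ₗ[F] V) (f : F[X]) : aeval (rst T f) f = 0 := by
  apply LinearMap.ext
  intro x
  apply Subtype.ext
  rw [aeval_rst_apply]
  exact x.2

theorem charpoly_split (T : V →ₗ[F] V) {f g : F[X]} (hfg : IsCoprime f g) (h0 : aeval T (f * g) = 0) :
    T.charpoly = (rst T f).charpoly * (rst T g).charpoly := by
  have hdis := Polynomial.disjoint_ker_aeval_of_isCoprime T hfg
  have hsup := Polynomial.sup_ker_aeval_eq_ker_aeval_mul_of_coprime T hfg
  rw [h0, LinearMap.ker_zero] at hsup
  have hcompl : IsCompl (LinearMap.ker (aeval T f)) (LinearMap.ker (aeval T g)) :=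
    ⟨hdis, codisjoint_iff.mpr hsup⟩
  let e := Submodule.prodEquivOfIsCompl _ _ hcompl
  have h1 : e.conj ((rst T f).prodMap (rst T g)) = T := by
    apply LinearMap.ext
    intro x
    obtain ⟨y, rfl⟩ := e.surjective x
    rw [LinearEquiv.conj_apply, LinearMap.comp_apply, LinearMap.comp_apply]
    show e ((rst T f).prodMap (rst T g) (e.symm (e y))) = T (e y)
    rw [e.symm_apply_apply]
    show ((rst T f y.1 : LinearMap.ker (aeval T f)) : V) + ((rst T g y.2 : LinearMap.ker (aeval T g)) : V) =
      T ((y.1 : V) + (y.2 : V))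
    rw [rst_apply, rst_apply, map_add]
  have h2 : T.charpoly = ((rst T f).prodMap (rst T g)).charpoly :=
    (congrArg LinearMap.charpoly h1).symm.trans (LinearEquiv.charpoly_conj e _)
  rw [h2, LinearMap.charpoly_prodMap]

theorem finrank_eq_of_charpoly {T : V →ₗ[F] V} {S : W →ₗ[F] W} (hc : T.charpoly = S.charpoly) {f g : F[X]}
    (hfg : IsCoprime f g) (hT : aeval T (f * g) = 0) (hS : aeval S (f * g) = 0) :
    Module.finrank F (LinearMap.ker (aeval T f)) = Module.finrank F (LinearMap.ker (aeval S f)) := by
  have h1 := charpoly_split T hfg hT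
  have h2 := charpoly_split S hfg hS
  rw [hc, h2] at h1
  have c1 : IsCoprime (rst T f).charpoly (rst S g).charpoly :=
    coprime_charpoly (aeval_rst_self T f) (coprime_charpoly (aeval_rst_self S g) hfg.symm).symm
  have c2 : IsCoprime (rst S f).charpoly (rst T g).charpoly :=
    coprime_charpoly (aeval_rst_self S f) (coprime_charpoly (aeval_rst_self T g) hfg.symm).symm
  have d1 : (rst T f).charpoly ∣ (rst S f).charpoly := by
    apply c1.dvd_of_dvd_mul_right
    rw [h1]
    exact dvd_mul_right _ _
  have d2 : (rst S f).charpoly ∣ (rst T f).charpoly := by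
    apply c2.dvd_of_dvd_mul_right
    rw [← h1]
    exact dvd_mul_right _ _
  have h3 : (rst T f).charpoly = (rst S f).charpoly :=
    eq_of_monic_of_associated (LinearMap.charpoly_monic _) (LinearMap.charpoly_monic _)
      (associated_of_dvd_dvd d1 d2)
  rw [← LinearMap.charpoly_natDegree (rst T f), h3, LinearMap.charpoly_natDegree]

/-- two semisimple endomorphisms with the same characteristic polynomial are similar -/
theorem similar_of_charpoly [Finite F] {T : V →ₗ[F] V} {S : W →ₗ[F] W} (hc : T.charpoly = S.charpoly)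
    {m : F[X]} (hm : Squarefree m) (hT : aeval T m = 0) (hS : aeval S m = 0) :
    ∃ g : V ≃ₗ[F] W, ∀ v, g (T v) = S (g v) := by
  classical
  apply similar_of_card
  intro f0
  have hm0 : m ≠ 0 := hm.ne_zero
  set f := EuclideanDomain.gcd f0 m with hf
  have hfd : f ∣ m := EuclideanDomain.gcd_dvd_right _ _
  obtain ⟨g, hg⟩ := hfd
  have hfg : IsCoprime f g := by
    have := hm
    rw [hg] at this
    exact ((squarefree_mul_iff).mp this).1.isCoprime
  have hker : ∀ {U : Type _} [AddCommGroup U] [Module F U] (T : U →ₗ[F] U), aeval T m = 0 →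
      LinearMap.ker (aeval T f0) = LinearMap.ker (aeval T f) := by
    intro U _ _ T hT
    apply le_antisymm
    · intro x hx
      rw [LinearMap.mem_ker] at hx ⊢
      rw [hf, EuclideanDomain.gcd_eq_gcd_ab f0 m, mul_comm f0, map_add, map_mul, map_mul, hT, zero_mul,
        add_zero, Module.End.mul_apply, hx, map_zero]
    · intro x hx
      rw [LinearMap.mem_ker] at hx ⊢
      obtain ⟨c, hc⟩ := EuclideanDomain.gcd_dvd_left f0 m
      rw [← hf] at hc
      rw [hc, mul_comm, map_mul, Module.End.mul_apply, hx, map_zero]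
  rw [hker T hT]
  have hker2 : LinearMap.ker (aeval S f0) = LinearMap.ker (aeval S f) := by
    apply le_antisymm
    · intro x hx
      rw [LinearMap.mem_ker] at hx ⊢
      rw [hf, EuclideanDomain.gcd_eq_gcd_ab f0 m, mul_comm f0, map_add, map_mul, map_mul, hS, zero_mul,
        add_zero, Module.End.mul_apply, hx, map_zero]
    · intro x hx
      rw [LinearMap.mem_ker] at hx ⊢
      obtain ⟨c, hc⟩ := EuclideanDomain.gcd_dvd_left f0 m
      rw [← hf] at hc
      rw [hc, mul_comm, map_mul, Module.End.mul_apply, hx, map_zero]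
  rw [hker2]
  exact finrank_eq_of_charpoly hc hfg (by rw [← hg]; exact hT) (by rw [← hg]; exact hS)

end Split

end Cfsg.Agent.Lib.RCF
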