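import Mathlib
import Cfsg.Agent.Lib.Herm1

/-! Hermitian forms over finite fields: Witt's theorem, isometry groups. -/

set_option linter.all false

namespace Cfsg.Agent.Lib.Herm

open Matrix Cfsg.Agent.Lib.FinGal

section Sigma

/-- the automorphism `a ↦ a ^ q` -/
theorem exists_sigma {F : Type*} [Field F] [Fintype F] {q : ℕ} (hF : Fintype.card F = q ^ 2) :
    ∃ σ : F ≃+* F, orderOf σ = 2 ∧ ∀ a, σ a = a ^ q := by
  obtain ⟨p, hp⟩ := CharP.exists F
  obtain ⟨f, hpp, hf⟩ := FiniteField.card F p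
  haveI : Fact p.Prime := ⟨hpp⟩
  have hq1 : 1 < q := by
    by_contra h
    have h2 : q ^ 2 ≤ 1 := by
      have : q ≤ 1 := by omega
      exact Nat.pow_le_one_iff (by norm_num) |>.mpr this
    have := Fintype.one_lt_card (α := F)
    omega
  have hd : q ∣ p ^ (f : ℕ) := by
    rw [← hf, hF]; exact Dvd.intro_left (q ^ 1) (by ring)
  obtain ⟨k, _, hk⟩ := (Nat.dvd_prime_pow hpp).mp hd
  let σ : F ≃+* F := iterateFrobeniusEquiv F p k
  have hs : ∀ a, σ a = a ^ q := by
    intro a
    rw [hk]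
    rfl
  refine ⟨σ, ?_, hs⟩
  haveI : Fact (Nat.Prime 2) := ⟨Nat.prime_two⟩
  apply orderOf_eq_prime
  · ext a
    show σ (σ a) = a
    rw [hs, hs, ← pow_mul, ← pow_two, ← hF, FiniteField.pow_card]
  · intro h1
    have h2 : ∀ a : F, a ^ q = a := by
      intro a
      rw [← hs, h1]; rfl
    have h3 : Fintype.card F ≤ q := by
      classical
      have h4 : (Finset.univ : Finset F) ⊆ (Polynomial.X ^ q - Polynomial.X : Polynomial F).roots.toFinset := by
        intro a _
        rw [Multiset.mem_toFinset, Polynomial.mem_roots (FiniteField.X_pow_card_sub_X_ne_zero F hq1)]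
        simp [h2]
      calc Fintype.card F = (Finset.univ : Finset F).card := rfl
        _ ≤ _ := Finset.card_le_card h4
        _ ≤ _ := Multiset.toFinset_card_le _
        _ ≤ _ := Polynomial.card_roots' _
        _ = q := FiniteField.X_pow_card_sub_X_natDegree_eq F hq1
    rw [hF] at h3
    nlinarith

variable {F : Type*} [Field F] {σ : F ≃+* F}

theorem sigma_ne_zero {a : F} : σ a ≠ 0 ↔ a ≠ 0 := by
  rw [Ne, Ne, map_eq_zero_iff σ σ.injective]

theorem exists_tr_ne (hσ : ∃ a, σ a ≠ a) : ∃ b, b + σ b ≠ 0 := by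
  by_contra h
  push Not at h
  obtain ⟨a, ha⟩ := hσ
  have h1 := h 1
  rw [map_one] at h1
  exact ha (by linear_combination h a - a * h1)

theorem exists_trace (hσ2 : ∀ a, σ (σ a) = a) (hσ : ∃ a, σ a ≠ a) {c : F} (hc : σ c = c) :
    ∃ a, a + σ a = c := by
  obtain ⟨b, hb⟩ := exists_tr_ne hσ
  refine ⟨c * b * (b + σ b)⁻¹, ?_⟩
  rw [map_mul, map_mul, map_inv₀, map_add, hσ2, hc, add_comm (σ b) b]
  field_simp

theorem exists_skew (hσ2 : ∀ a, σ (σ a) = a) (hσ : ∃ a, σ a ≠ a) : ∃ e, e ≠ 0 ∧ σ e = - e := by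
  obtain ⟨a, ha⟩ := hσ
  refine ⟨a - σ a, ?_, ?_⟩
  · intro h
    exact ha (sub_eq_zero.mp h).symm
  · rw [map_sub, hσ2, neg_sub]

theorem hilbert90_two (hσ : orderOf σ = 2) {c : F} (hc : c * σ c = 1) :
    ∃ x : F, x ≠ 0 ∧ c * σ x = x := by
  apply hilbert90 σ hσ (by norm_num)
  rw [nm_succ, nm_succ, nm_zero, map_one, mul_one, hc]

end Sigma

section Iso

variable {F : Type*} [Field F] {σ : F ≃+* F} {V : Type*} [AddCommGroup V] [Module F V]

/-- the isometry group -/
def HF.iso (B : HF σ V) : Subgroup (V ≃ₗ[F] V) where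
  carrier := {g | ∀ x y, B.h (g x) (g y) = B.h x y}
  mul_mem' := fun {a b} ha hb x y => by
    show B.h (a (b x)) (a (b y)) = _
    rw [ha, hb]
  one_mem' := fun x y => rfl
  inv_mem' := fun {a} ha x y => by
    have := ha (a⁻¹ x) (a⁻¹ y)
    rw [← this]
    show B.h (a (a.symm x)) (a (a.symm y)) = _
    rw [LinearEquiv.apply_symm_apply, LinearEquiv.apply_symm_apply]

theorem HF.mem_iso {B : HF σ V} {g : V ≃ₗ[F] V} :
    g ∈ B.iso ↔ ∀ x y, B.h (g x) (g y) = B.h x y := Iff.rfl

/-- the special isometry group -/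
noncomputable def HF.siso (B : HF σ V) : Subgroup (V ≃ₗ[F] V) := B.iso ⊓ (LinearEquiv.det (R := F) (M := V)).ker

theorem HF.mem_siso {B : HF σ V} {g : V ≃ₗ[F] V} :
    g ∈ B.siso ↔ g ∈ B.iso ∧ LinearEquiv.det g = 1 := Iff.rfl

theorem HF.siso_le (B : HF σ V) : B.siso ≤ B.iso := inf_le_left

theorem HF.ND.right {B : HF σ V} (hB : B.ND) {y : V} (h : ∀ x, B.h x y = 0) : y = 0 :=
  hB y (fun x => by rw [B.eq_zero_comm]; exact h x)

theorem HF.ND.exists_ne {B : HF σ V} (hB : B.ND) {x : V} (hx : x ≠ 0) : ∃ y, B.h x y ≠ 0 := by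
  by_contra h
  push Not at h
  exact hx (hB x h)

/-- prescribing the products with an independent family -/
theorem HF.ND.exists_of_li [FiniteDimensional F V] {B : HF σ V} (hB : B.ND)
    (hσ2 : ∀ a, σ (σ a) = a) {ι : Type*} [Fintype ι] {v : ι → V}
    (hv : LinearIndependent F v) (c : ι → F) : ∃ x, ∀ i, B.h x (v i) = c i := by
  classical
  let f : V →ₗ[F] (ι → F) := LinearMap.pi (fun i => B.lin (v i))
  have hsurj : LinearMap.range f = ⊤ := by
    by_contra hne
    have hlt : LinearMap.range f < ⊤ := lt_top_iff_ne_top.mpr hne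
    obtain ⟨l, hl0, hl⟩ := Submodule.exists_le_ker_of_lt_top _ hlt
    apply hl0
    set a : ι → F := fun i => l (Pi.single i 1) with ha
    have hla : ∀ z : ι → F, l z = ∑ i, z i * a i := by
      intro z
      conv_lhs => rw [← Finset.univ_sum_single z]
      rw [map_sum]
      refine Finset.sum_congr rfl fun i _ => ?_
      have : (Pi.single i (z i) : ι → F) = z i • Pi.single i (1 : F) := by
        rw [← Pi.single_smul, smul_eq_mul, mul_one]
      rw [this, map_smul, smul_eq_mul]
    have h1 : ∑ i, σ (a i) • v i = 0 := by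
      apply hB.right
      intro x
      rw [B.sum_right]
      have h2 : l (f x) = 0 := LinearMap.mem_ker.mp (hl ⟨x, rfl⟩)
      rw [hla] at h2
      rw [← h2]
      refine Finset.sum_congr rfl fun i _ => ?_
      rw [B.smul_right, hσ2, mul_comm]
      rfl
    have h3 := (Fintype.linearIndependent_iff.mp hv) _ h1
    ext i
    have h4 : a i = 0 := by
      have := h3 i
      rwa [map_eq_zero_iff σ σ.injective] at this
    simpa [ha] using h4
  have : c ∈ LinearMap.range f := by rw [hsurj]; trivial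
  obtain ⟨x, hx⟩ := this
  exact ⟨x, fun i => congrFun hx i⟩

theorem HF.exists_perp [FiniteDimensional F V] (B : HF σ V) {k : ℕ} (e : Fin k → V)
    (hk : k < Module.finrank F V) : ∃ u, u ≠ 0 ∧ ∀ i, B.h u (e i) = 0 := by
  let f : V →ₗ[F] (Fin k → F) := LinearMap.pi (fun i => B.lin (e i))
  have hker : LinearMap.ker f ≠ ⊥ := by
    apply LinearMap.ker_ne_bot_of_finrank_lt
    simpa using hk
  obtain ⟨u, hu, hu0⟩ := Submodule.exists_mem_ne_zero_of_ne_bot hker
  exact ⟨u, hu0, fun i => congrFun (LinearMap.mem_ker.mp hu) i⟩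

/-- normalise a nonsingular vector -/
theorem HF.exists_norm_one (B : HF σ V) [Finite F] (hσ : orderOf σ = 2) {u : V}
    (hu : B.h u u ≠ 0) : ∃ b : F, b ≠ 0 ∧ B.h (b • u) (b • u) = 1 := by
  obtain ⟨h1, h2, h3⟩ := sigma_facts hσ
  obtain ⟨b, hb0, hb⟩ := h3 (B.h u u)⁻¹ (inv_ne_zero hu) (by rw [map_inv₀, ← B.symm])
  refine ⟨b, hb0, ?_⟩
  rw [B.smul_left, B.smul_right, ← mul_assoc, hb, inv_mul_cancel₀ hu]

theorem li_snoc {k : ℕ} {v : Fin k → V} (hv : LinearIndependent F v) {x : V}
    (hx : x ∉ Submodule.span F (Set.range v)) :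
    LinearIndependent F (Fin.snoc v x : Fin (k + 1) → V) :=
  linearIndependent_finSnoc.mpr ⟨hv, hx⟩

/-- one side of the extension step when the Gram matrix is degenerate -/
theorem HF.ND.step_deg [FiniteDimensional F V] {B : HF σ V} (hB : B.ND)
    (hσ2 : ∀ a, σ (σ a) = a) (hσ : ∃ a, σ a ≠ a) {k : ℕ} {v : Fin k → V}
    (hv : LinearIndependent F v) (a : Fin k → F) (i0 : Fin k) (ha : a i0 ≠ 0)
    (hr : ∀ j, B.h (∑ i, a i • v i) (v j) = 0) :
    ∃ x, LinearIndependent F (Fin.snoc v x : Fin (k + 1) → V) ∧ B.h x x = 0 ∧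
      ∀ i, B.h x (v i) = (Pi.single i0 (σ (a i0))⁻¹ : Fin k → F) i := by
  classical
  set r := ∑ i, a i • v i with hrdef
  obtain ⟨x, hx⟩ := hB.exists_of_li hσ2 hv (Pi.single i0 (σ (a i0))⁻¹ : Fin k → F)
  have hrr : B.h r r = 0 := by
    conv_lhs => rw [hrdef, B.sum_right]
    apply Finset.sum_eq_zero
    intro i _
    rw [B.smul_right, hr, mul_zero]
  have hxr : B.h x r = 1 := by
    rw [hrdef, B.sum_right, Finset.sum_eq_single i0]
    · rw [B.smul_right, hx, Pi.single_eq_same, mul_inv_cancel₀ (sigma_ne_zero.mpr ha)]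
    · intro i _ hi
      rw [B.smul_right, hx, Pi.single_eq_of_ne hi, mul_zero]
    · intro h; exact absurd (Finset.mem_univ _) h
  obtain ⟨t, ht⟩ := exists_trace hσ2 hσ (c := - B.h x x) (by rw [map_neg, ← B.symm])
  refine ⟨x + t • r, li_snoc hv ?_, ?_, ?_⟩
  · intro hmem
    have h1 : ∀ y ∈ Submodule.span F (Set.range v), B.h y r = 0 := by
      intro y hy
      induction hy using Submodule.span_induction with
      | mem y hy => obtain ⟨i, rfl⟩ := hy; rw [B.eq_zero_comm]; exact hr i
      | zero => exact B.zero_left _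
      | add y z _ _ hy hz => rw [B.add_left, hy, hz, add_zero]
      | smul a y _ hy => rw [B.smul_left, hy, mul_zero]
    have h2 := h1 _ hmem
    rw [B.add_left, B.smul_left, hrr, hxr, mul_zero, add_zero] at h2
    exact one_ne_zero h2
  · rw [B.add_left, B.add_right, B.add_right, B.smul_left, B.smul_right, B.smul_left, B.smul_right,
      hxr, hrr, B.symm x r, hxr, map_one]
    linear_combination ht
  · intro i
    rw [B.add_left, B.smul_left, hr, mul_zero, add_zero, hx]

/-- one side of the extension step when the Gram matrix is nondegenerate -/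
theorem HF.ND.step_nd [Finite F] [FiniteDimensional F V] {B : HF σ V} (hB : B.ND)
    (hσ : orderOf σ = 2) {k : ℕ} {v : Fin k → V}
    (hnd : ∀ a : Fin k → F, (∀ j, B.h (∑ i, a i • v i) (v j) = 0) → a = 0)
    (hk : k < Module.finrank F V) :
    ∃ x, B.h x x = 1 ∧ ∀ i, B.h x (v i) = 0 := by
  classical
  obtain ⟨h1, h2, h3⟩ := sigma_facts hσ
  obtain ⟨u, hu0, hu⟩ := B.exists_perp v hk
  obtain ⟨y, hy⟩ := hB.exists_ne hu0
  let T : (Fin k → F) →ₗ[F] (Fin k → F) :=
    { toFun := fun a j => B.h (∑ i, a i • v i) (v j)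
      map_add' := fun a b => by
        funext j
        simp only [Pi.add_apply, add_smul, Finset.sum_add_distrib, B.add_left]
      map_smul' := fun c a => by
        funext j
        simp only [Pi.smul_apply, smul_eq_mul, mul_smul, ← Finset.smul_sum, B.smul_left,
          RingHom.id_apply] }
  have hinj : Function.Injective T := by
    rw [injective_iff_map_eq_zero]
    intro a ha
    exact hnd a (fun j => congrFun ha j)
  obtain ⟨b, hb⟩ := (LinearMap.injective_iff_surjective.mp hinj) (fun j => B.h y (v j))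
  set y' := y - ∑ i, b i • v i with hy'
  have hy'e : ∀ j, B.h y' (v j) = 0 := by
    intro j
    rw [hy', B.sub_left]
    have := congrFun hb j
    have h4 : B.h (∑ i, b i • v i) (v j) = B.h y (v j) := this
    rw [h4, sub_self]
  have huy' : B.h u y' ≠ 0 := by
    rw [hy', B.sub_right, B.sum_right]
    have : ∑ i, B.h u (b i • v i) = 0 := by
      apply Finset.sum_eq_zero
      intro i _
      rw [B.smul_right, hu i, mul_zero]
    rw [this, sub_zero]
    exact hy
  let W : Submodule F V := B.perp (Submodule.span F (Set.range v))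
  have hW : ∀ x, x ∈ W ↔ ∀ i, B.h x (v i) = 0 := by
    intro x
    show x ∈ B.perp _ ↔ _
    rw [HF.mem_perp_span]
    constructor
    · intro h i; exact h _ ⟨i, rfl⟩
    · rintro h _ ⟨i, rfl⟩; exact h i
  obtain ⟨w, hw⟩ := (B.res W).exists_ne h2 (x := ⟨u, (hW u).mpr hu⟩) (y := ⟨y', (hW y').mpr hy'e⟩) huy'
  have hw' : B.h (w : V) (w : V) ≠ 0 := hw
  obtain ⟨b, hb0, hb⟩ := B.exists_norm_one hσ hw'
  refine ⟨b • (w : V), hb, fun i => ?_⟩
  rw [B.smul_left, (hW w).mp w.2 i, mul_zero]

theorem HF.ND.witt_step [Finite F] [FiniteDimensional F V] {B : HF σ V} (hB : B.ND)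
    (hσ : orderOf σ = 2) {k : ℕ} {v w : Fin k → V} (hv : LinearIndependent F v)
    (hw : LinearIndependent F w) (hg : ∀ i j, B.h (v i) (v j) = B.h (w i) (w j))
    (hk : k < Module.finrank F V) :
    ∃ x y, LinearIndependent F (Fin.snoc v x : Fin (k + 1) → V) ∧
      LinearIndependent F (Fin.snoc w y : Fin (k + 1) → V) ∧ B.h x x = B.h y y ∧
      ∀ i, B.h x (v i) = B.h y (w i) := by
  classical
  obtain ⟨h1, h2, h3⟩ := sigma_facts hσ
  have hgr : ∀ (a : Fin k → F) j, B.h (∑ i, a i • v i) (v j) = B.h (∑ i, a i • w i) (w j) := by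
    intro a j
    rw [B.sum_left, B.sum_left]
    refine Finset.sum_congr rfl fun i _ => ?_
    rw [B.smul_left, B.smul_left, hg]
  by_cases hdeg : ∀ a : Fin k → F, (∀ j, B.h (∑ i, a i • v i) (v j) = 0) → a = 0
  · have hdeg' : ∀ a : Fin k → F, (∀ j, B.h (∑ i, a i • w i) (w j) = 0) → a = 0 := by
      intro a ha
      apply hdeg a
      intro j
      rw [hgr]; exact ha j
    have notin : ∀ {v : Fin k → V}, (∀ a : Fin k → F, (∀ j, B.h (∑ i, a i • v i) (v j) = 0) → a = 0) →
        ∀ x, B.h x x = 1 → (∀ i, B.h x (v i) = 0) → x ∉ Submodule.span F (Set.range v) := by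
      intro v hnd x hx hxv hmem
      obtain ⟨a, ha⟩ := (Submodule.mem_span_range_iff_exists_fun F).mp hmem
      have h0 : a = 0 := by
        apply hnd
        intro j
        rw [ha]; exact hxv j
      rw [h0] at ha
      simp only [Pi.zero_apply, zero_smul, Finset.sum_const_zero] at ha
      rw [← ha, B.zero_left] at hx
      exact zero_ne_one hx
    obtain ⟨x, hx, hxv⟩ := hB.step_nd hσ hdeg hk
    obtain ⟨y, hy, hyw⟩ := hB.step_nd hσ hdeg' hk
    exact ⟨x, y, li_snoc hv (notin hdeg x hx hxv), li_snoc hw (notin hdeg' y hy hyw),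
      by rw [hx, hy], fun i => by rw [hxv, hyw]⟩
  · push Not at hdeg
    obtain ⟨a, ha, ha0⟩ := hdeg
    obtain ⟨i0, hi0⟩ : ∃ i, a i ≠ 0 := by
      by_contra hcon
      push Not at hcon
      exact ha0 (funext hcon)
    obtain ⟨x, hx1, hx2, hx3⟩ := hB.step_deg h1 h2 hv a i0 hi0 ha
    obtain ⟨y, hy1, hy2, hy3⟩ := hB.step_deg h1 h2 hw a i0 hi0 (fun j => by rw [← hgr]; exact ha j)
    exact ⟨x, y, hx1, hy1, by rw [hx2, hy2], fun i => by rw [hx3, hy3]⟩

/-- Witt's theorem for independent families -/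
theorem HF.ND.witt_family [Finite F] [FiniteDimensional F V] {B : HF σ V} (hB : B.ND)
    (hσ : orderOf σ = 2) : ∀ (d k : ℕ), k + d = Module.finrank F V → ∀ {v w : Fin k → V},
    LinearIndependent F v → LinearIndependent F w → (∀ i j, B.h (v i) (v j) = B.h (w i) (w j)) →
    ∃ g ∈ B.iso, ∀ i, g (v i) = w i := by
  classical
  intro d
  induction d with
  | zero =>
    intro k hk v w hv hw hg
    have hc : Fintype.card (Fin k) = Module.finrank F V := by rw [Fintype.card_fin]; omega
    let bv := basisOfLinearIndependentOfCardEqFinrank' v hv hc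
    let bw := basisOfLinearIndependentOfCardEqFinrank' w hw hc
    have ebv : ∀ i, bv i = v i := fun i => by simp [bv]
    have ebw : ∀ i, bw i = w i := fun i => by simp [bw]
    let g : V ≃ₗ[F] V := bv.equiv bw (Equiv.refl _)
    have hgv : ∀ i, g (v i) = w i := by
      intro i
      rw [← ebv, ← ebw]
      exact Module.Basis.equiv_apply _ _ _ _
    refine ⟨g, ?_, hgv⟩
    intro x y
    have hx : x = ∑ i, bv.repr x i • v i := by
      conv_lhs => rw [← bv.sum_repr x]
      exact Finset.sum_congr rfl fun i _ => by rw [ebv]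
    have hy : y = ∑ i, bv.repr y i • v i := by
      conv_lhs => rw [← bv.sum_repr y]
      exact Finset.sum_congr rfl fun i _ => by rw [ebv]
    rw [hx, hy, map_sum, map_sum, B.sum_left, B.sum_left]
    refine Finset.sum_congr rfl fun i _ => ?_
    rw [B.sum_right, B.sum_right]
    refine Finset.sum_congr rfl fun j _ => ?_
    rw [map_smul, map_smul, hgv, hgv, B.smul_left, B.smul_left, B.smul_right, B.smul_right, hg]
  | succ d ih =>
    intro k hk v w hv hw hg
    obtain ⟨x, y, hx, hy, hxy, h⟩ := hB.witt_step hσ hv hw hg (by omega)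
    obtain ⟨g, hgi, hg2⟩ := ih (k + 1) (by omega) hx hy (by
      intro i j
      refine Fin.lastCases ?_ (fun i => ?_) i
      · refine Fin.lastCases ?_ (fun j => ?_) j
        · rw [Fin.snoc_last, Fin.snoc_last, hxy]
        · rw [Fin.snoc_last, Fin.snoc_castSucc, Fin.snoc_last, Fin.snoc_castSucc, h]
      · refine Fin.lastCases ?_ (fun j => ?_) j
        · rw [Fin.snoc_last, Fin.snoc_castSucc, Fin.snoc_last, Fin.snoc_castSucc,
            B.symm x, B.symm y, h]
        · rw [Fin.snoc_castSucc, Fin.snoc_castSucc, Fin.snoc_castSucc, Fin.snoc_castSucc, hg])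
    refine ⟨g, hgi, fun i => ?_⟩
    have := hg2 (Fin.castSucc i)
    rwa [Fin.snoc_castSucc, Fin.snoc_castSucc] at this

/-- Witt's theorem -/
theorem HF.ND.witt [Finite F] [FiniteDimensional F V] {B : HF σ V} (hB : B.ND)
    (hσ : orderOf σ = 2) {k : ℕ} {v w : Fin k → V}
    (hv : LinearIndependent F v) (hw : LinearIndependent F w)
    (hg : ∀ i j, B.h (v i) (v j) = B.h (w i) (w j)) :
    ∃ g ∈ B.iso, ∀ i, g (v i) = w i := by
  have hk : k ≤ Module.finrank F V := by
    have := hv.fintype_card_le_finrank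
    rwa [Fintype.card_fin] at this
  exact hB.witt_family hσ (Module.finrank F V - k) k (by omega) hv hw hg

end Iso

end Cfsg.Agent.Lib.Herm
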