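import Mathlib
import Cfsg.Agent.Lib.Herm2

/-! Hermitian forms over finite fields: counting. -/

set_option linter.all false

namespace Cfsg.Agent.Lib.Herm

open Matrix Cfsg.Agent.Lib.FinGal

section Count

variable {F : Type*} [Field F] [Fintype F] {σ : F ≃+* F} {q : ℕ}

theorem one_lt_q (hF : Fintype.card F = q ^ 2) : 1 < q := by
  have := Fintype.one_lt_card (α := F)
  rw [hF] at this
  by_contra h
  have h1 : q = 0 ∨ q = 1 := by omega
  rcases h1 with h1 | h1 <;> subst h1 <;> norm_num at this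

/-- number of solutions of `x σ(x) = c` -/
theorem card_norm_sol (hF : Fintype.card F = q ^ 2) (hσ : orderOf σ = 2) (hq : ∀ a, σ a = a ^ q)
    {c : F} (hc : c ≠ 0) (hc2 : σ c = c) : Nat.card {x : F // x * σ x = c} = q + 1 := by
  classical
  have hq1 := one_lt_q hF
  obtain ⟨h1, h2, h3⟩ := sigma_facts hσ
  obtain ⟨b, hb0, hb⟩ := h3 c hc hc2
  let f : Fˣ →* Fˣ := powMonoidHom (q + 1)
  have hidx : f.range.index = q + 1 := by
    have := IsCyclic.index_powMonoidHom_range (G := Fˣ) (q + 1)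
    rw [this, Nat.card_units, Nat.card_eq_fintype_card, hF]
    have e : q ^ 2 - 1 = (q + 1) * (q - 1) := by
      have := Nat.sq_sub_sq q 1
      rw [one_pow] at this
      exact this
    rw [e]
    exact Nat.gcd_mul_right_left (q - 1) (q + 1)
  have hker : Nat.card f.ker = q + 1 := by
    have e1 := Subgroup.card_mul_index f.ker
    have e2 := Subgroup.card_mul_index f.range
    rw [Subgroup.index_ker] at e1
    rw [hidx] at e2
    have hpos : 0 < Nat.card f.range := Nat.card_pos
    have e3 : Nat.card f.ker * Nat.card f.range = (q + 1) * Nat.card f.range := by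
      rw [e1, ← e2, mul_comm]
    exact Nat.eq_of_mul_eq_mul_right hpos e3
  rw [← hker]
  refine Nat.card_congr ⟨fun x => ⟨Units.mk0 (x.1 * b⁻¹) ?_, ?_⟩, fun u => ⟨(u.1 : F) * b, ?_⟩, ?_, ?_⟩
  · apply mul_ne_zero _ (inv_ne_zero hb0)
    intro h0
    have := x.2
    rw [h0, zero_mul] at this
    exact hc this.symm
  · rw [MonoidHom.mem_ker]
    ext
    show (x.1 * b⁻¹) ^ (q + 1) = 1
    have hx := x.2
    rw [hq] at hx hb
    rw [mul_pow, inv_pow, pow_succ' x.1, hx, pow_succ' b, hb, mul_inv_cancel₀ hc]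
  · have hu : (u.1 : F) ^ (q + 1) = 1 := by
      have h5 := MonoidHom.mem_ker.mp u.2
      have h6 := congrArg Units.val h5
      simpa [f] using h6
    rw [map_mul, hq (u.1 : F)]
    calc _ = ((u.1 : F) * (u.1 : F) ^ q) * (b * σ b) := by ring
      _ = _ := by rw [← pow_succ', hu, hb, one_mul]
  · intro x
    apply Subtype.ext
    show (x.1 * b⁻¹) * b = x.1
    rw [mul_assoc, inv_mul_cancel₀ hb0, mul_one]
  · intro u
    apply Subtype.ext
    ext
    show ((u.1 : F) * b) * b⁻¹ = u.1
    rw [mul_assoc, mul_inv_cancel₀ hb0, mul_one]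

/-- the standard hermitian form -/
def std (σ : F ≃+* F) (hσ : ∀ a, σ (σ a) = a) (n : ℕ) : HF σ (Fin n → F) where
  h x y := ∑ i, x i * σ (y i)
  add_left x y z := by
    simp only [Pi.add_apply, add_mul, Finset.sum_add_distrib]
  smul_left a x y := by
    simp only [Pi.smul_apply, smul_eq_mul, mul_assoc, Finset.mul_sum]
  symm x y := by
    rw [map_sum]
    refine Finset.sum_congr rfl fun i _ => ?_
    rw [map_mul, hσ, mul_comm]

/-- `q * Z_n` and `q * N_n(c)` -/
theorem card_std (hF : Fintype.card F = q ^ 2) (hσ : orderOf σ = 2) (hq : ∀ a, σ a = a ^ q)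
    (n : ℕ) : ((q : ℤ) * Nat.card {v : Fin n → F // (∑ i, v i * σ (v i)) = 0} =
      ((q : ℤ) ^ n) ^ 2 + (-1) ^ n * (q - 1) * (q : ℤ) ^ n) ∧
    ∀ c : F, c ≠ 0 → σ c = c → (q : ℤ) * Nat.card {v : Fin n → F // (∑ i, v i * σ (v i)) = c} =
      ((q : ℤ) ^ n) ^ 2 - (-1) ^ n * (q : ℤ) ^ n := by
  classical
  have hq1 := one_lt_q hF
  obtain ⟨h1, h2, h3⟩ := sigma_facts hσ
  induction n with
  | zero =>
    constructor
    · have : Nat.card {v : Fin 0 → F // (∑ i, v i * σ (v i)) = 0} = 1 := by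
        rw [Nat.card_eq_one_iff_unique]
        refine ⟨⟨fun a b => Subtype.ext (Subsingleton.elim _ _)⟩, ⟨⟨0, by simp⟩⟩⟩
      rw [this]; push_cast; ring
    · intro c hc _
      have : Nat.card {v : Fin 0 → F // (∑ i, v i * σ (v i)) = c} = 0 := by
        rw [Nat.card_eq_zero]
        left
        refine ⟨fun v => ?_⟩
        have := v.2
        simp at this
        exact hc this.symm
      rw [this]; push_cast; ring
  | succ n ih =>
    obtain ⟨ih0, ihc⟩ := ih
    have split : ∀ c : F, Nat.card {v : Fin (n + 1) → F // (∑ i, v i * σ (v i)) = c} =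
        ∑ x : F, Nat.card {v : Fin n → F // (∑ i, v i * σ (v i)) = c - x * σ x} := by
      intro c
      rw [← Nat.card_sigma]
      refine Nat.card_congr ⟨fun v => ⟨v.1 0, ⟨Fin.tail v.1, ?_⟩⟩,
        fun p => ⟨Fin.cons p.1 p.2.1, ?_⟩, ?_, ?_⟩
      · have := v.2
        rw [Fin.sum_univ_succ] at this
        exact eq_sub_of_add_eq (by rw [add_comm]; exact this)
      · rw [Fin.sum_univ_succ]
        simp only [Fin.cons_zero, Fin.cons_succ]
        rw [p.2.2, add_sub_cancel]
      · intro v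
        apply Subtype.ext
        exact Fin.cons_self_tail _
      · rintro ⟨x, ⟨v, hv⟩⟩
        rfl
    have hfx : ∀ x : F, σ (x * σ x) = x * σ x := by
      intro x; rw [map_mul, h1, mul_comm]
    constructor
    · rw [split, ← Finset.add_sum_erase _ _ (Finset.mem_univ (0 : F))]
      have e1 : ∀ x ∈ Finset.univ.erase (0 : F), (q : ℤ) *
          (Nat.card {v : Fin n → F // (∑ i, v i * σ (v i)) = 0 - x * σ x} : ℤ) =
          ((q : ℤ) ^ n) ^ 2 - (-1) ^ n * (q : ℤ) ^ n := by
        intro x hx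
        have hx0 : x ≠ 0 := (Finset.mem_erase.mp hx).1
        apply ihc
        · rw [zero_sub, neg_ne_zero]
          exact mul_ne_zero hx0 (sigma_ne_zero.mpr hx0)
        · rw [zero_sub, map_neg, hfx]
      push_cast
      rw [mul_add, Finset.mul_sum, Finset.sum_congr rfl e1, Finset.sum_const,
        Finset.card_erase_of_mem (Finset.mem_univ _), Finset.card_univ, hF, zero_mul, sub_zero, ih0]
      have e2 : ((q ^ 2 - 1 : ℕ) : ℤ) = (q : ℤ) ^ 2 - 1 := by
        rw [Nat.cast_sub (Nat.one_le_pow _ _ (by omega))]; push_cast; ring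
      rw [nsmul_eq_mul, e2]
      ring
    · intro c hc hcσ
      rw [split]
      push_cast
      rw [← Finset.sum_filter_add_sum_filter_not (s := Finset.univ) (p := fun x : F => x * σ x = c)]
      have hcard1 : (Finset.univ.filter (fun x : F => x * σ x = c)).card = q + 1 := by
        rw [← card_norm_sol hF hσ hq hc hcσ, Nat.card_eq_fintype_card, Fintype.card_subtype]
      have hcard2 : ((Finset.univ.filter (fun x : F => ¬ x * σ x = c)).card : ℤ) = (q : ℤ) ^ 2 - (q + 1) := by
        have := Finset.card_filter_add_card_filter_not (s := (Finset.univ : Finset F))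
          (fun x : F => x * σ x = c)
        rw [hcard1, Finset.card_univ, hF] at this
        have h7 : ((q + 1 + (Finset.univ.filter (fun x : F => ¬ x * σ x = c)).card : ℕ) : ℤ) = ((q ^ 2 : ℕ) : ℤ) := by
          rw [this]
        push_cast at h7
        linarith
      have e1 : ∀ x ∈ Finset.univ.filter (fun x : F => x * σ x = c), (q : ℤ) *
          (Nat.card {v : Fin n → F // (∑ i, v i * σ (v i)) = c - x * σ x} : ℤ) =
          ((q : ℤ) ^ n) ^ 2 + (-1) ^ n * (q - 1) * (q : ℤ) ^ n := by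
        intro x hx
        rw [(Finset.mem_filter.mp hx).2, sub_self, ih0]
      have e2 : ∀ x ∈ Finset.univ.filter (fun x : F => ¬ x * σ x = c), (q : ℤ) *
          (Nat.card {v : Fin n → F // (∑ i, v i * σ (v i)) = c - x * σ x} : ℤ) =
          ((q : ℤ) ^ n) ^ 2 - (-1) ^ n * (q : ℤ) ^ n := by
        intro x hx
        apply ihc
        · rw [sub_ne_zero]
          exact fun h => (Finset.mem_filter.mp hx).2 h.symm
        · rw [map_sub, hfx, hcσ]
      rw [mul_add, Finset.mul_sum, Finset.mul_sum, Finset.sum_congr rfl e1, Finset.sum_congr rfl e2,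
        Finset.sum_const, Finset.sum_const, hcard1, nsmul_eq_mul, nsmul_eq_mul, hcard2]
      push_cast
      ring

theorem card_std_zero (hF : Fintype.card F = q ^ 2) (hσ : orderOf σ = 2) (hq : ∀ a, σ a = a ^ q)
    (n : ℕ) : Nat.card {v : Fin n → F // (∑ i, v i * σ (v i)) = 0} =
      (if Even n then (q ^ n - 1) * (q ^ (n - 1) + 1) else (q ^ n + 1) * (q ^ (n - 1) - 1)) + 1 := by
  have hq1 := one_lt_q hF
  have h := (card_std hF hσ hq n).1
  rcases n with _ | m
  · have hq0 : (q : ℤ) ≠ 0 := by exact_mod_cast (by omega : q ≠ 0)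
    simp only [pow_zero] at h
    have h2 : (q : ℤ) * (Nat.card {v : Fin 0 → F // (∑ i, v i * σ (v i)) = 0} : ℤ) = q * 1 := by
      rw [h]; ring
    have h3 := mul_left_cancel₀ hq0 h2
    simpa using (by exact_mod_cast h3 : Nat.card {v : Fin 0 → F // (∑ i, v i * σ (v i)) = 0} = 1)
  · have hq0 : (q : ℤ) ≠ 0 := by exact_mod_cast (by omega : q ≠ 0)
    have hp1 : 1 ≤ q ^ (m + 1) := Nat.one_le_pow _ _ (by omega)
    have hp2 : 1 ≤ q ^ m := Nat.one_le_pow _ _ (by omega)
    have h4 : (Nat.card {v : Fin (m + 1) → F // (∑ i, v i * σ (v i)) = 0} : ℤ) =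
        (((if Even (m + 1) then (q ^ (m + 1) - 1) * (q ^ (m + 1 - 1) + 1)
          else (q ^ (m + 1) + 1) * (q ^ (m + 1 - 1) - 1)) + 1 : ℕ) : ℤ) := by
      apply mul_left_cancel₀ hq0
      rw [h, Nat.add_sub_cancel]
      split_ifs with hev
      · rw [Even.neg_one_pow hev]
        push_cast [Nat.cast_sub hp1]
        ring
      · rw [Odd.neg_one_pow (Nat.not_even_iff_odd.mp hev)]
        push_cast [Nat.cast_sub hp2]
        ring
    exact_mod_cast h4

theorem card_std_one (hF : Fintype.card F = q ^ 2) (hσ : orderOf σ = 2) (hq : ∀ a, σ a = a ^ q)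
    (n : ℕ) : Nat.card {v : Fin n → F // (∑ i, v i * σ (v i)) = 1} =
      (if Even n then q ^ (n - 1) * (q ^ n - 1) else q ^ (n - 1) * (q ^ n + 1)) := by
  have hq1 := one_lt_q hF
  have h := (card_std hF hσ hq n).2 1 one_ne_zero (map_one σ)
  rcases n with _ | m
  · have hq0 : (q : ℤ) ≠ 0 := by exact_mod_cast (by omega : q ≠ 0)
    simp only [pow_zero] at h
    have h2 : (q : ℤ) * (Nat.card {v : Fin 0 → F // (∑ i, v i * σ (v i)) = 1} : ℤ) = q * 0 := by
      rw [h]; ring
    have h3 := mul_left_cancel₀ hq0 h2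
    have h4 : Nat.card {v : Fin 0 → F // (∑ i, v i * σ (v i)) = 1} = 0 := by exact_mod_cast h3
    rw [h4]; simp
  · have hq0 : (q : ℤ) ≠ 0 := by exact_mod_cast (by omega : q ≠ 0)
    have hp1 : 1 ≤ q ^ (m + 1) := Nat.one_le_pow _ _ (by omega)
    have h4 : (Nat.card {v : Fin (m + 1) → F // (∑ i, v i * σ (v i)) = 1} : ℤ) =
        (((if Even (m + 1) then q ^ (m + 1 - 1) * (q ^ (m + 1) - 1)
          else q ^ (m + 1 - 1) * (q ^ (m + 1) + 1)) : ℕ) : ℤ) := by
      apply mul_left_cancel₀ hq0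
      rw [h, Nat.add_sub_cancel]
      split_ifs with hev
      · rw [Even.neg_one_pow hev]
        push_cast [Nat.cast_sub hp1]
        ring
      · rw [Odd.neg_one_pow (Nat.not_even_iff_odd.mp hev)]
        push_cast
        ring
    exact_mod_cast h4

end Count

section Abs

variable {F : Type*} [Field F] [Fintype F] {σ : F ≃+* F} {q : ℕ} {V : Type*} [AddCommGroup V]
  [Module F V] [FiniteDimensional F V]

/-- coordinates with respect to an orthonormal basis -/
theorem HF.ND.exists_coord {B : HF σ V} (hB : B.ND) (hσ : orderOf σ = 2) {n : ℕ}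
    (hn : Module.finrank F V = n) :
    ∃ φ : V ≃ₗ[F] (Fin n → F), ∀ x y, B.h x y = ∑ i, φ x i * σ (φ y i) := by
  classical
  obtain ⟨e', he'⟩ := B.exists_ON hσ hB
  subst hn
  have hc : Fintype.card (Fin (Module.finrank F V)) = Module.finrank F V := by simp
  let b := basisOfLinearIndependentOfCardEqFinrank' e' he'.li hc
  have eb : ∀ i, b i = e' i := fun i => by simp [b]
  refine ⟨b.equivFun, fun x y => ?_⟩
  have hx : x = ∑ i, b.equivFun x i • e' i := by
    conv_lhs => rw [← b.sum_equivFun x]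
    exact Finset.sum_congr rfl fun i _ => by rw [eb]
  have hy : y = ∑ i, b.equivFun y i • e' i := by
    conv_lhs => rw [← b.sum_equivFun y]
    exact Finset.sum_congr rfl fun i _ => by rw [eb]
  conv_lhs => rw [hy]
  rw [B.sum_right]
  refine Finset.sum_congr rfl fun i _ => ?_
  rw [B.smul_right]
  have : B.h x (e' i) = b.equivFun x i := by
    conv_lhs => rw [hx]
    rw [he'.h_sum]
  rw [this, mul_comm]

theorem HF.ND.card_zero {B : HF σ V} (hB : B.ND) (hF : Fintype.card F = q ^ 2)
    (hσ : orderOf σ = 2) (hq : ∀ a, σ a = a ^ q) {n : ℕ} (hn : Module.finrank F V = n) :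
    Nat.card {v : V // B.h v v = 0} =
      (if Even n then (q ^ n - 1) * (q ^ (n - 1) + 1) else (q ^ n + 1) * (q ^ (n - 1) - 1)) + 1 := by
  obtain ⟨φ, hφ⟩ := hB.exists_coord hσ hn
  rw [← card_std_zero hF hσ hq]
  exact Nat.card_congr (φ.toEquiv.subtypeEquiv fun v => by rw [hφ]; rfl)

theorem HF.ND.card_one {B : HF σ V} (hB : B.ND) (hF : Fintype.card F = q ^ 2)
    (hσ : orderOf σ = 2) (hq : ∀ a, σ a = a ^ q) {n : ℕ} (hn : Module.finrank F V = n) :
    Nat.card {v : V // B.h v v = 1} =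
      (if Even n then q ^ (n - 1) * (q ^ n - 1) else q ^ (n - 1) * (q ^ n + 1)) := by
  obtain ⟨φ, hφ⟩ := hB.exists_coord hσ hn
  rw [← card_std_one hF hσ hq]
  exact Nat.card_congr (φ.toEquiv.subtypeEquiv fun v => by rw [hφ]; rfl)

/-- the orthogonal complement of a family -/
def HF.perpF (B : HF σ V) {ι : Type*} (v : ι → V) : Submodule F V :=
  B.perp (Submodule.span F (Set.range v))

omit [Fintype F] [FiniteDimensional F V] in
theorem HF.mem_perpF {B : HF σ V} {ι : Type*} {v : ι → V} {x : V} :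
    x ∈ B.perpF v ↔ ∀ i, B.h x (v i) = 0 := by
  show x ∈ B.perp _ ↔ _
  rw [HF.mem_perp_span]
  constructor
  · intro h i; exact h _ ⟨i, rfl⟩
  · rintro h _ ⟨i, rfl⟩; exact h i

omit [Fintype F] in
theorem HF.ND.finrank_perpF {B : HF σ V} (hB : B.ND) (hσ2 : ∀ a, σ (σ a) = a) {ι : Type*}
    [Fintype ι] {v : ι → V} (hv : LinearIndependent F v) :
    Module.finrank F (B.perpF v) + Fintype.card ι = Module.finrank F V := by
  let f : V →ₗ[F] (ι → F) := LinearMap.pi (fun i => B.lin (v i))
  have h1 : LinearMap.ker f = B.perpF v := by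
    ext x
    rw [LinearMap.mem_ker, HF.mem_perpF]
    constructor
    · intro h i; exact congrFun h i
    · intro h; funext i; exact h i
  have h2 : LinearMap.range f = ⊤ := by
    rw [LinearMap.range_eq_top]
    intro c
    obtain ⟨x, hx⟩ := hB.exists_of_li hσ2 hv c
    exact ⟨x, funext hx⟩
  have h3 := f.finrank_range_add_finrank_ker
  rw [h1, h2, finrank_top, Module.finrank_pi] at h3
  omega

omit [Fintype F] in
/-- complement of a nondegenerate family is nondegenerate, and decomposition -/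
theorem HF.nd_decomp {B : HF σ V} {ι : Type*} [Fintype ι] {v : ι → V}
    (hnd : ∀ a : ι → F, (∀ j, B.h (∑ i, a i • v i) (v j) = 0) → a = 0) (y : V) :
    ∃ (b : ι → F) (z : V), z ∈ B.perpF v ∧ y = (∑ i, b i • v i) + z := by
  classical
  let T : (ι → F) →ₗ[F] (ι → F) :=
    { toFun := fun a j => B.h (∑ i, a i • v i) (v j)
      map_add' := fun a b => by
        funext j
        simp only [Pi.add_apply, add_smul, Finset.sum_add_distrib, B.add_left]
      map_smul' := fun c a => by
        funext j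
        simp only [Pi.smul_apply, smul_eq_mul, mul_smul, ← Finset.smul_sum, B.smul_left,
          RingHom.id_apply] }
  have hinj : Function.Injective T := by
    rw [injective_iff_map_eq_zero]
    intro a ha
    exact hnd a (fun j => congrFun ha j)
  obtain ⟨b, hb⟩ := (LinearMap.injective_iff_surjective.mp hinj) (fun j => B.h y (v j))
  refine ⟨b, y - ∑ i, b i • v i, ?_, by rw [add_sub_cancel]⟩
  rw [HF.mem_perpF]
  intro j
  rw [B.sub_left]
  have h4 : B.h (∑ i, b i • v i) (v j) = B.h y (v j) := congrFun hb j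
  rw [h4, sub_self]

omit [Fintype F] in
theorem HF.ND.perpF_nd {B : HF σ V} (hB : B.ND) {ι : Type*} [Fintype ι] {v : ι → V}
    (hnd : ∀ a : ι → F, (∀ j, B.h (∑ i, a i • v i) (v j) = 0) → a = 0) :
    (B.res (B.perpF v)).ND := by
  rintro ⟨x, hx⟩ h
  apply Subtype.ext
  apply hB
  intro y
  obtain ⟨b, z, hz, rfl⟩ := HF.nd_decomp hnd y
  have h1 : B.h x z = 0 := h ⟨z, hz⟩
  rw [B.add_right, h1, add_zero, B.sum_right]
  apply Finset.sum_eq_zero
  intro i _
  rw [B.smul_right, HF.mem_perpF.mp hx, mul_zero]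

omit [Fintype F] [FiniteDimensional F V] in
theorem HF.ON.nd {B : HF σ V} {ι : Type*} [Fintype ι] {e : ι → V} (he : B.ON e) :
    ∀ a : ι → F, (∀ j, B.h (∑ i, a i • e i) (e j) = 0) → a = 0 := by
  intro a ha
  funext j
  rw [← he.h_sum a j, ha]; rfl

/-- number of norm one vectors -/
def Nn (q n : ℕ) : ℕ := if Even n then q ^ (n - 1) * (q ^ n - 1) else q ^ (n - 1) * (q ^ n + 1)

/-- number of orthonormal families -/
theorem HF.ND.card_ON {B : HF σ V} (hB : B.ND) (hF : Fintype.card F = q ^ 2)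
    (hσ : orderOf σ = 2) (hq : ∀ a, σ a = a ^ q) {n : ℕ} (hn : Module.finrank F V = n) :
    ∀ k ≤ n, Nat.card {e : Fin k → V // B.ON e} = ∏ i ∈ Finset.range k, Nn q (n - i) := by
  classical
  obtain ⟨h1, h2, h3⟩ := sigma_facts hσ
  haveI : Finite V := Module.finite_of_finite F
  intro k
  induction k with
  | zero =>
    intro _
    rw [Finset.prod_range_zero, Nat.card_eq_one_iff_unique]
    refine ⟨⟨fun a b => Subtype.ext (Subsingleton.elim _ _)⟩,
      ⟨⟨Fin.elim0, fun i => i.elim0, fun i => i.elim0⟩⟩⟩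
  | succ k ih =>
    intro hk
    rw [Finset.prod_range_succ, ← ih (by omega)]
    have e1 : Nat.card {e : Fin (k + 1) → V // B.ON e} =
        Nat.card (Σ e : {e : Fin k → V // B.ON e}, {u : B.perpF e.1 // (B.res (B.perpF e.1)).h u u = 1}) := by
      refine Nat.card_congr ⟨fun e => ⟨⟨Fin.init e.1, ?_⟩, ⟨⟨e.1 (Fin.last k), ?_⟩, ?_⟩⟩,
        fun p => ⟨Fin.snoc p.1.1 (p.2.1 : V), ?_⟩, ?_, ?_⟩
      · exact ⟨fun i => e.2.1 _, fun i j hij => e.2.2 _ _ (fun h => hij (Fin.castSucc_injective _ h))⟩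
      · rw [HF.mem_perpF]
        intro i
        exact e.2.2 _ _ (Fin.castSucc_lt_last i).ne'
      · exact e.2.1 _
      · exact p.1.2.snoc p.2.2 (HF.mem_perpF.mp p.2.1.2)
      · intro e
        apply Subtype.ext
        exact Fin.snoc_init_self _
      · rintro ⟨⟨e, he⟩, ⟨⟨u, hu⟩, hu1⟩⟩
        simp only [Fin.snoc_last]
        have hin : Fin.init (Fin.snoc e u : Fin (k + 1) → V) = e := Fin.init_snoc _ _
        congr 1
        · exact Subtype.ext hin
        · congr!
    haveI : Fintype {e : Fin k → V // B.ON e} := Fintype.ofFinite _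
    rw [e1, Nat.card_sigma]
    have e2 : ∀ e : {e : Fin k → V // B.ON e},
        Nat.card {u : B.perpF e.1 // (B.res (B.perpF e.1)).h u u = 1} = Nn q (n - k) := by
      intro e
      have hfr := hB.finrank_perpF h1 e.2.li
      rw [Fintype.card_fin] at hfr
      exact (hB.perpF_nd e.2.nd).card_one hF hσ hq (by omega)
    rw [Finset.sum_congr rfl fun e _ => e2 e, Finset.sum_const, Finset.card_univ, smul_eq_mul,
      ← Nat.card_eq_fintype_card]

theorem HF.ND.card_iso {B : HF σ V} (hB : B.ND) (hF : Fintype.card F = q ^ 2)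
    (hσ : orderOf σ = 2) (hq : ∀ a, σ a = a ^ q) {n : ℕ} (hn : Module.finrank F V = n) :
    Nat.card B.iso = ∏ i ∈ Finset.range n, Nn q (n - i) := by
  classical
  rw [← hB.card_ON hF hσ hq hn n le_rfl]
  obtain ⟨e', he'⟩ := B.exists_ON hσ hB
  subst hn
  have hc : Fintype.card (Fin (Module.finrank F V)) = Module.finrank F V := by simp
  let b := basisOfLinearIndependentOfCardEqFinrank' e' he'.li hc
  have eb : ∀ i, b i = e' i := fun i => by simp [b]
  apply Nat.card_congr
  refine Equiv.ofBijective (fun g => ⟨fun i => (g : V ≃ₗ[F] V) (e' i), ?_⟩) ⟨?_, ?_⟩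
  · exact ⟨fun i => by rw [g.2, he'.1], fun i j hij => by rw [g.2, he'.2 i j hij]⟩
  · intro g g' h
    apply Subtype.ext
    have h5 : ∀ i, (g : V ≃ₗ[F] V) (e' i) = (g' : V ≃ₗ[F] V) (e' i) := fun i =>
      congrFun (congrArg Subtype.val h) i
    apply LinearEquiv.toLinearMap_injective
    apply b.ext
    intro i
    rw [eb]
    exact h5 i
  · rintro ⟨f, hf⟩
    obtain ⟨g, hg, hg2⟩ := hB.witt hσ he'.li hf.li (fun i j => by
      by_cases hij : i = j
      · subst hij; rw [he'.1, hf.1]
      · rw [he'.2 i j hij, hf.2 i j hij])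
    exact ⟨⟨g, hg⟩, Subtype.ext (funext hg2)⟩

end Abs

theorem prod_Nn (q n : ℕ) : ∏ i ∈ Finset.range n, Nn q (n - i) = q ^ (n * (n - 1) / 2) *
    ∏ i ∈ Finset.range n, (if Even i then q ^ (i + 1) + 1 else q ^ (i + 1) - 1) := by
  rw [← Finset.prod_range_reflect]
  have e1 : ∀ j ∈ Finset.range n, Nn q (n - (n - 1 - j)) =
      q ^ j * (if Even j then q ^ (j + 1) + 1 else q ^ (j + 1) - 1) := by
    intro j hj
    have hj' := Finset.mem_range.mp hj
    have e : n - (n - 1 - j) = j + 1 := by omega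
    rw [e, Nn, Nat.add_sub_cancel]
    by_cases h : Even j
    · have h2 : ¬ Even (j + 1) := by rw [Nat.even_iff] at *; omega
      rw [if_pos h, if_neg h2]
    · have h2 : Even (j + 1) := by rw [Nat.even_iff] at *; omega
      rw [if_neg h, if_pos h2]
  rw [Finset.prod_congr rfl e1, Finset.prod_mul_distrib, Finset.prod_pow_eq_pow_sum,
    Finset.sum_range_id]

end Cfsg.Agent.Lib.Herm
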