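import Mathlib
import Cfsg.Agent.Lib.Herm3
import Cfsg.Prelude.Def_Classical
import Cfsg.Prelude.Def_LieClassical
import Cfsg.Prelude.Def_ClassicalGeometry

/-! Unitary groups: determinants, matrices, orders. -/

set_option linter.all false
set_option maxHeartbeats 400000

namespace Cfsg.Agent.Lib.Herm

open Matrix Cfsg.Agent.Lib.FinGal

section Abs

variable {F : Type*} [Field F] {σ : F ≃+* F} {q : ℕ} {V : Type*} [AddCommGroup V]
  [Module F V]

theorem HF.ND.det_norm [Finite F] [FiniteDimensional F V] {B : HF σ V} (hB : B.ND)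
    (hσ : orderOf σ = 2) {g : V ≃ₗ[F] V} (hg : g ∈ B.iso) :
    ((LinearEquiv.det g : Fˣ) : F) * σ ((LinearEquiv.det g : Fˣ) : F) = 1 := by
  classical
  obtain ⟨e', he'⟩ := B.exists_ON hσ hB
  have hc : Fintype.card (Fin (Module.finrank F V)) = Module.finrank F V := by simp
  let b := basisOfLinearIndependentOfCardEqFinrank' e' he'.li hc
  have eb : ∀ i, b i = e' i := fun i => by simp [b]
  let M : Matrix (Fin (Module.finrank F V)) (Fin (Module.finrank F V)) F :=
    LinearMap.toMatrix b b (g : V →ₗ[F] V)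
  have hM : M.det = ((LinearEquiv.det g : Fˣ) : F) := by
    rw [LinearEquiv.coe_det]
    exact LinearMap.det_toMatrix b _
  have hgb : ∀ j, g (e' j) = ∑ i, M i j • e' i := by
    intro j
    have h1 : g (b j) = ∑ i, (b.repr (g (b j))) i • b i := (b.sum_repr _).symm
    rw [eb] at h1
    rw [h1]
    refine Finset.sum_congr rfl fun i _ => ?_
    have h6 : (LinearMap.toMatrix b b (g : V →ₗ[F] V)) i j = b.repr (g (e' j)) i := by
      rw [LinearMap.toMatrix_apply, eb]
      rfl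
    rw [eb]
    show _ = (LinearMap.toMatrix b b (g : V →ₗ[F] V)) i j • e' i
    rw [h6]
  have h2 : M.transpose * M.map σ = 1 := by
    ext i j
    rw [Matrix.mul_apply]
    have h3 : B.h (g (e' i)) (g (e' j)) = ∑ k, M.transpose i k * (M.map σ) k j := by
      rw [hgb j, B.sum_right]
      refine Finset.sum_congr rfl fun k _ => ?_
      rw [B.smul_right, hgb i, he'.h_sum, Matrix.transpose_apply, Matrix.map_apply, mul_comm]
    rw [← h3, hg]
    by_cases hij : i = j
    · subst hij; rw [he'.1, Matrix.one_apply_eq]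
    · rw [he'.2 i j hij, Matrix.one_apply_ne hij]
  have h4 := congrArg Matrix.det h2
  rw [Matrix.det_mul, Matrix.det_transpose, Matrix.det_one] at h4
  have h5 : (M.map σ).det = σ M.det := by
    have := RingHom.map_det (σ : F →+* F) M
    exact this.symm
  rw [h5, hM] at h4
  exact h4

/-- unitary quasi-reflections -/
theorem HF.exists_qrefl [FiniteDimensional F V] (B : HF σ V) {u : V} (hu : B.h u u = 1) {l : F}
    (hl : l * σ l = 1) : ∃ g ∈ B.iso, ((LinearEquiv.det g : Fˣ) : F) = l ∧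
      ∀ x, g x = x + ((l - 1) * B.h x u) • u := by
  have hl0 : l ≠ 0 := by
    rintro rfl
    rw [zero_mul] at hl
    exact zero_ne_one hl
  have h1 : 1 + ((l - 1) • B.lin u : V →ₗ[F] F) u = l := by
    show 1 + (l - 1) * B.h u u = l
    rw [hu]; ring
  have hunit : IsUnit (1 + ((l - 1) • B.lin u : V →ₗ[F] F) u) := by
    rw [h1]; exact isUnit_iff_ne_zero.mpr hl0
  let g : V ≃ₗ[F] V := LinearEquiv.dilatransvection hunit
  have hg : ∀ x, g x = x + ((l - 1) * B.h x u) • u := fun x => rfl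
  refine ⟨g, ?_, ?_, hg⟩
  · intro x y
    have e : B.h u y = σ (B.h y u) := B.symm y u
    rw [hg, hg, B.add_left, B.add_right, B.add_right, B.smul_left, B.smul_right, B.smul_left,
      B.smul_right, hu, map_mul, map_sub, map_one, e]
    linear_combination (B.h x u * σ (B.h y u)) * hl
  · rw [LinearEquiv.coe_det]
    have : ((g : V ≃ₗ[F] V) : V →ₗ[F] V) = LinearMap.transvection ((l - 1) • B.lin u) u := rfl
    rw [this, LinearMap.transvection.det, h1]

theorem HF.ND.exists_norm_vec [Finite F] [FiniteDimensional F V] {B : HF σ V} (hB : B.ND)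
    (hσ : orderOf σ = 2) (hn : 1 ≤ Module.finrank F V) : ∃ u, B.h u u = 1 := by
  obtain ⟨e', he'⟩ := B.exists_ON hσ hB
  exact ⟨e' ⟨0, hn⟩, he'.1 _⟩

theorem HF.ND.card_iso_siso [Fintype F] [FiniteDimensional F V] {B : HF σ V} (hB : B.ND)
    (hF : Fintype.card F = q ^ 2) (hσ : orderOf σ = 2) (hq : ∀ a, σ a = a ^ q)
    (hn : 1 ≤ Module.finrank F V) :
    Nat.card B.iso = (q + 1) * Nat.card B.siso := by
  classical
  haveI : Finite V := Module.finite_of_finite F
  let f : B.iso →* Fˣ := (LinearEquiv.det (R := F) (M := V)).comp B.iso.subtype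
  have h1 := Subgroup.card_mul_index f.ker
  rw [Subgroup.index_ker] at h1
  have h2 : Nat.card f.range = q + 1 := by
    rw [← card_norm_sol hF hσ hq one_ne_zero (map_one σ)]
    obtain ⟨u, hu⟩ := hB.exists_norm_vec hσ hn
    refine Nat.card_congr ⟨fun x => ⟨(x.1 : F), ?_⟩, fun l => ⟨Units.mk0 l.1 ?_, ?_⟩, ?_, ?_⟩
    · obtain ⟨_, ⟨g, rfl⟩⟩ := x
      exact hB.det_norm hσ g.2
    · rintro h0
      have := l.2
      rw [h0, zero_mul] at this
      exact zero_ne_one this
    · obtain ⟨g, hg, hd, _⟩ := B.exists_qrefl hu l.2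
      exact ⟨⟨g, hg⟩, Units.ext hd⟩
    · intro x; apply Subtype.ext; apply Units.ext; rfl
    · intro l; rfl
  have h3 : Nat.card f.ker = Nat.card B.siso := by
    refine Nat.card_congr ⟨fun x => ⟨(x.1 : V ≃ₗ[F] V), x.1.2, x.2⟩,
      fun y => ⟨⟨y.1, y.2.1⟩, y.2.2⟩, fun x => rfl, fun y => rfl⟩
  rw [← h1, h2, h3, mul_comm]

end Abs

section Mats

variable {F : Type*} [Field F] {σ : F ≃+* F} {q : ℕ} {n : ℕ}

/-- matrices and linear equivalences -/
noncomputable def gl (n : ℕ) (F : Type*) [Field F] : GL (Fin n) F ≃* ((Fin n → F) ≃ₗ[F] (Fin n → F)) :=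
  Matrix.GeneralLinearGroup.toLin.trans (LinearMap.GeneralLinearGroup.generalLinearEquiv F (Fin n → F))

theorem gl_apply (g : GL (Fin n) F) (x : Fin n → F) :
    gl n F g x = (g : Matrix (Fin n) (Fin n) F) *ᵥ x := rfl

theorem gl_det (g : GL (Fin n) F) : LinearEquiv.det (gl n F g) = Matrix.GeneralLinearGroup.det g := by
  apply Units.ext
  rw [LinearEquiv.coe_det]
  have : ((gl n F g : (Fin n → F) ≃ₗ[F] (Fin n → F)) : (Fin n → F) →ₗ[F] (Fin n → F)) =
    Matrix.toLin' (g : Matrix (Fin n) (Fin n) F) := rfl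
  rw [this, LinearMap.det_toLin']
  rfl

theorem hermForm_eq (hσ2 : ∀ a, σ (σ a) = a) (hq : ∀ a, σ a = a ^ q) (x y : Fin n → F) :
    Cfsg.hermForm n F q x y = (std σ hσ2 n).h x y := by
  show ∑ i, x i * (y i) ^ q = ∑ i, x i * σ (y i)
  exact Finset.sum_congr rfl fun i _ => by rw [hq]

theorem mem_GU (hσ2 : ∀ a, σ (σ a) = a) (hq : ∀ a, σ a = a ^ q) (g : GL (Fin n) F) :
    g ∈ Cfsg.GU n F q ↔ gl n F g ∈ (std σ hσ2 n).iso := by
  constructor
  · intro h x y
    rw [← hermForm_eq hσ2 hq, ← hermForm_eq hσ2 hq]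
    exact h x y
  · intro h x y
    have := h x y
    rw [← hermForm_eq hσ2 hq, ← hermForm_eq hσ2 hq] at this
    exact this

theorem mem_SU (hσ2 : ∀ a, σ (σ a) = a) (hq : ∀ a, σ a = a ^ q) (g : SpecialLinearGroup (Fin n) F) :
    g ∈ Cfsg.SU n F q ↔ gl n F (g : GL (Fin n) F) ∈ (std σ hσ2 n).iso := by
  constructor
  · intro h x y
    rw [← hermForm_eq hσ2 hq, ← hermForm_eq hσ2 hq]
    exact h x y
  · intro h x y
    have := h x y
    rw [← hermForm_eq hσ2 hq, ← hermForm_eq hσ2 hq] at this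
    exact this

/-- `GU_n` as an abstract isometry group -/
noncomputable def guEquiv (hσ2 : ∀ a, σ (σ a) = a) (hq : ∀ a, σ a = a ^ q) (n : ℕ) :
    Cfsg.GU n F q ≃* (std σ hσ2 n).iso where
  toFun g := ⟨gl n F g.1, (mem_GU hσ2 hq _).mp g.2⟩
  invFun g := ⟨(gl n F).symm g.1, (mem_GU hσ2 hq _).mpr (by rw [MulEquiv.apply_symm_apply]; exact g.2)⟩
  left_inv g := by apply Subtype.ext; simp
  right_inv g := by apply Subtype.ext; simp
  map_mul' a b := by apply Subtype.ext; simp

theorem su_mem (hσ2 : ∀ a, σ (σ a) = a) (hq : ∀ a, σ a = a ^ q) (g : Cfsg.SU n F q) :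
    ((gl n F).toMonoidHom.comp (Matrix.SpecialLinearGroup.toGL.comp (Cfsg.SU n F q).subtype)) g ∈
      (std σ hσ2 n).siso := by
  refine ⟨(mem_SU hσ2 hq _).mp g.2, ?_⟩
  have h1 : LinearEquiv.det (gl n F (g.1 : GL (Fin n) F)) = 1 := by
    rw [gl_det]
    apply Units.ext
    exact g.1.2
  exact h1

/-- the homomorphism from `SU_n` -/
noncomputable def suHom (hσ2 : ∀ a, σ (σ a) = a) (hq : ∀ a, σ a = a ^ q) (n : ℕ) :
    Cfsg.SU n F q →* (std σ hσ2 n).siso :=
  ((gl n F).toMonoidHom.comp (Matrix.SpecialLinearGroup.toGL.comp (Cfsg.SU n F q).subtype)).codRestrict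
    (std σ hσ2 n).siso (su_mem hσ2 hq)

theorem suHom_coe (hσ2 : ∀ a, σ (σ a) = a) (hq : ∀ a, σ a = a ^ q) (g : Cfsg.SU n F q) :
    ((suHom hσ2 hq n g : (std σ hσ2 n).siso) : (Fin n → F) ≃ₗ[F] (Fin n → F)) =
      gl n F (g.1 : GL (Fin n) F) := rfl

theorem suHom_bij (hσ2 : ∀ a, σ (σ a) = a) (hq : ∀ a, σ a = a ^ q) (n : ℕ) :
    Function.Bijective (suHom (F := F) hσ2 hq n) := by
  constructor
  · intro a b h
    have h1 := congrArg Subtype.val h
    rw [suHom_coe, suHom_coe] at h1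
    have h3 := (gl n F).injective h1
    apply Subtype.ext
    apply Subtype.ext
    exact congrArg Units.val h3
  · rintro ⟨g, hg, hd⟩
    have h1 : Matrix.GeneralLinearGroup.det ((gl n F).symm g) = 1 := by
      rw [← gl_det, MulEquiv.apply_symm_apply]
      exact hd
    let A : SpecialLinearGroup (Fin n) F := ⟨(((gl n F).symm g : GL (Fin n) F) : Matrix (Fin n) (Fin n) F),
      congrArg Units.val h1⟩
    have hA : (A : GL (Fin n) F) = (gl n F).symm g := Units.ext rfl
    refine ⟨⟨A, (mem_SU hσ2 hq _).mpr (by rw [hA, MulEquiv.apply_symm_apply]; exact hg)⟩, ?_⟩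
    apply Subtype.ext
    rw [suHom_coe]
    show gl n F (A : GL (Fin n) F) = g
    rw [hA, MulEquiv.apply_symm_apply]

/-- `SU_n` as an abstract special isometry group -/
noncomputable def suEquiv (hσ2 : ∀ a, σ (σ a) = a) (hq : ∀ a, σ a = a ^ q) (n : ℕ) :
    Cfsg.SU n F q ≃* (std σ hσ2 n).siso :=
  MulEquiv.ofBijective (suHom hσ2 hq n) (suHom_bij hσ2 hq n)

theorem suEquiv_apply (hσ2 : ∀ a, σ (σ a) = a) (hq : ∀ a, σ a = a ^ q) (g : Cfsg.SU n F q)
    (x : Fin n → F) : ((suEquiv hσ2 hq n g : (std σ hσ2 n).siso) : (Fin n → F) ≃ₗ[F] (Fin n → F)) x =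
      ((g : SpecialLinearGroup (Fin n) F) : Matrix (Fin n) (Fin n) F) *ᵥ x := rfl

theorem std_nd (hσ2 : ∀ a, σ (σ a) = a) (n : ℕ) : (std σ hσ2 n).ND := by
  intro x hx
  funext j
  have := hx (Pi.single j 1)
  have e : (std σ hσ2 n).h x (Pi.single j 1) = x j := by
    show ∑ i, x i * σ ((Pi.single j (1 : F) : Fin n → F) i) = x j
    rw [Finset.sum_eq_single j]
    · rw [Pi.single_eq_same, map_one, mul_one]
    · intro i _ hij
      rw [Pi.single_eq_of_ne hij, map_zero, mul_zero]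
    · intro h; exact absurd (Finset.mem_univ _) h
  rw [e] at this
  exact this

theorem card_GU [Fintype F] (hF : Fintype.card F = q ^ 2) (n : ℕ) :
    Nat.card (Cfsg.GU n F q) = q ^ (n * (n - 1) / 2) *
      ∏ i ∈ Finset.range n, (if Even i then q ^ (i + 1) + 1 else q ^ (i + 1) - 1) := by
  obtain ⟨σ, hσ, hq⟩ := exists_sigma hF
  obtain ⟨h1, h2, h3⟩ := sigma_facts hσ
  rw [Nat.card_congr (guEquiv h1 hq n).toEquiv, (std_nd h1 n).card_iso hF hσ hq (n := n) (by simp),
    prod_Nn]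

theorem card_SU [Fintype F] (hF : Fintype.card F = q ^ 2) (n : ℕ) (hn : 1 ≤ n) :
    (q + 1) * Nat.card (Cfsg.SU n F q) = q ^ (n * (n - 1) / 2) *
      ∏ i ∈ Finset.range n, (if Even i then q ^ (i + 1) + 1 else q ^ (i + 1) - 1) := by
  obtain ⟨σ, hσ, hq⟩ := exists_sigma hF
  obtain ⟨h1, h2, h3⟩ := sigma_facts hσ
  rw [Nat.card_congr (suEquiv h1 hq n).toEquiv, ← (std_nd h1 n).card_iso_siso hF hσ hq (by simpa using hn),
    (std_nd h1 n).card_iso hF hσ hq (n := n) (by simp), prod_Nn]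

end Mats

section LM

variable {F V : Type*} [Field F] [AddCommGroup V] [Module F V]

/-- from Mathlib-style sesquilinear forms -/
noncomputable def ofLM (σ : F ≃+* F) (B : V →ₛₗ[(σ : F →+* F)] V →ₗ[F] F)
    (hS : ∀ x y, σ (B x y) = B y x) : HF σ V where
  h x y := B y x
  add_left x y z := by rw [map_add]
  smul_left a x y := by rw [map_smul, smul_eq_mul]
  symm x y := (hS y x).symm

/-- a ring endomorphism as an automorphism -/
noncomputable def mkEquiv (σ : F →+* F) (hσ2 : ∀ a, σ (σ a) = a) : F ≃+* F where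
  toFun := σ
  invFun := σ
  left_inv := hσ2
  right_inv := hσ2
  map_mul' := map_mul σ
  map_add' := map_add σ

theorem mkEquiv_coe (σ : F →+* F) (hσ2 : ∀ a, σ (σ a) = a) : ((mkEquiv σ hσ2 : F ≃+* F) : F →+* F) = σ :=
  RingHom.ext fun _ => rfl

theorem orderOf_mkEquiv {σ : F →+* F} (hσ : σ ≠ RingHom.id F) (hσ2 : ∀ a, σ (σ a) = a) :
    orderOf (mkEquiv σ hσ2) = 2 := by
  haveI : Fact (Nat.Prime 2) := ⟨Nat.prime_two⟩
  apply orderOf_eq_prime
  · ext a
    exact hσ2 a
  · intro h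
    apply hσ
    ext a
    have := congrArg (fun (s : F ≃+* F) => s a) h
    exact this

/-- general version with a ring endomorphism -/
noncomputable def ofLM' (σ : F →+* F) (hσ2 : ∀ a, σ (σ a) = a) (B : V →ₛₗ[σ] V →ₗ[F] F)
    (hS : B.IsSymm) : HF (mkEquiv σ hσ2) V where
  h x y := B y x
  add_left x y z := by rw [map_add]
  smul_left a x y := by rw [map_smul, smul_eq_mul]
  symm x y := (hS.eq y x).symm

end LM

end Cfsg.Agent.Lib.Herm
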