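import Mathlib
import Cfsg.Agent.Lib.Herm4

/-! Siegel transformations and unitary transvections. -/

set_option linter.all false
set_option maxHeartbeats 400000

namespace Cfsg.Agent.Lib.Herm

open Matrix Cfsg.Agent.Lib.FinGal

section Sie

variable {F : Type*} [Field F] {σ : F ≃+* F} {V : Type*} [AddCommGroup V] [Module F V]

/-- Siegel transformations -/
def HF.IsSie (B : HF σ V) (e w : V) (a : F) (g : V ≃ₗ[F] V) : Prop :=
  B.h e e = 0 ∧ B.h w e = 0 ∧ a + σ a = - B.h w w ∧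
    ∀ x, g x = x + B.h x e • w - B.h x w • e + (a * B.h x e) • e

theorem HF.exists_sie' (B : HF σ V) {e w : V} {a : F} (he : B.h e e = 0) (hw : B.h w e = 0)
    (ha : a + σ a = - B.h w w) : ∃ g, B.IsSie e w a g ∧ LinearEquiv.det g = 1 := by
  have h1 : B.lin e (w + a • e) = 0 := by
    show B.h (w + a • e) e = 0
    rw [B.add_left, B.smul_left, hw, he, mul_zero, add_zero]
  have h2 : (-(B.lin w)) e = 0 := by
    show -(B.h e w) = 0
    rw [neg_eq_zero, B.eq_zero_comm, hw]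
  let g1 : V ≃ₗ[F] V := LinearEquiv.transvection h1
  let g2 : V ≃ₗ[F] V := LinearEquiv.transvection h2
  have e1 : ∀ x, g1 x = x + B.h x e • (w + a • e) := fun x => rfl
  have e2 : ∀ x, g2 x = x + (-(B.h x w)) • e := fun x => rfl
  refine ⟨g1 * g2, ⟨he, hw, ha, ?_⟩, ?_⟩
  · intro x
    show g1 (g2 x) = _
    rw [e1, e2, B.add_left, B.smul_left, he, mul_zero, add_zero, smul_add, smul_smul,
      mul_comm (B.h x e) a, neg_smul]
    abel
  · rw [map_mul]
    rw [show LinearEquiv.det g1 = 1 from LinearEquiv.transvection.det_eq_one h1,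
      show LinearEquiv.det g2 = 1 from LinearEquiv.transvection.det_eq_one h2, one_mul]

theorem HF.IsSie.unique {B : HF σ V} {e w : V} {a : F} {g g' : V ≃ₗ[F] V} (h : B.IsSie e w a g)
    (h' : B.IsSie e w a g') : g = g' := by
  apply LinearEquiv.ext
  intro x
  rw [h.2.2.2, h'.2.2.2]

theorem HF.exists_sie (B : HF σ V) {e w : V} {a : F} (he : B.h e e = 0) (hw : B.h w e = 0)
    (ha : a + σ a = - B.h w w) : ∃ g, B.IsSie e w a g := by
  obtain ⟨g, hg, _⟩ := B.exists_sie' he hw ha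
  exact ⟨g, hg⟩

theorem HF.IsSie.det {B : HF σ V} {e w : V} {a : F} {g : V ≃ₗ[F] V} (h : B.IsSie e w a g) :
    LinearEquiv.det g = 1 := by
  obtain ⟨g', hg', hd⟩ := B.exists_sie' h.1 h.2.1 h.2.2.1
  rw [h.unique hg', hd]

theorem HF.IsSie.mem_iso {B : HF σ V} {e w : V} {a : F} {g : V ≃ₗ[F] V} (h : B.IsSie e w a g) :
    g ∈ B.iso := by
  obtain ⟨he, hw, ha, hg⟩ := h
  have hw' : B.h e w = 0 := B.eq_zero_comm.mp hw
  intro x y
  rw [hg, hg]
  simp only [B.add_left, B.sub_left, B.smul_left, B.add_right, B.sub_right, B.smul_right, he, hw, hw',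
    map_mul]
  have h1 : B.h w y = σ (B.h y w) := B.symm y w
  have h2 : B.h e y = σ (B.h y e) := B.symm y e
  rw [h1, h2]
  linear_combination (B.h x e * σ (B.h y e)) * ha

theorem HF.IsSie.mem {B : HF σ V} {e w : V} {a : F} {g : V ≃ₗ[F] V} (h : B.IsSie e w a g) :
    g ∈ B.siso := ⟨h.mem_iso, h.det⟩

theorem HF.IsSie.mul {B : HF σ V} {e w w' : V} {a a' : F} {g g' : V ≃ₗ[F] V}
    (h : B.IsSie e w a g) (h' : B.IsSie e w' a' g') :
    B.IsSie e (w + w') (a + a' - B.h w' w) (g * g') := by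
  obtain ⟨he, hw, ha, hg⟩ := h
  obtain ⟨_, hw', ha', hg'⟩ := h'
  have hw0 : B.h e w = 0 := B.eq_zero_comm.mp hw
  refine ⟨he, by rw [B.add_left, hw, hw', add_zero], ?_, ?_⟩
  · rw [map_sub, map_add, B.add_left, B.add_right, B.add_right]
    have h1 : B.h w w' = σ (B.h w' w) := B.symm w' w
    rw [h1]
    linear_combination ha + ha'
  · intro x
    show g (g' x) = _
    have e1 : B.h (g' x) e = B.h x e := by
      rw [hg', B.add_left, B.sub_left, B.add_left, B.smul_left, B.smul_left, B.smul_left, he, hw']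
      ring
    have e2 : B.h (g' x) w = B.h x w + B.h x e * B.h w' w := by
      rw [hg', B.add_left, B.sub_left, B.add_left, B.smul_left, B.smul_left, B.smul_left, hw0]
      ring
    rw [hg, e1, e2, hg', B.add_right]
    module

theorem HF.IsSie.inv {B : HF σ V} (hσ2 : ∀ a, σ (σ a) = a) {e w : V} {a : F} {g : V ≃ₗ[F] V}
    (h : B.IsSie e w a g) : B.IsSie e (-w) (σ a) g⁻¹ := by
  obtain ⟨he, hw, ha, hg⟩ := h
  have ha' : σ a + σ (σ a) = - B.h (-w) (-w) := by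
    rw [hσ2, B.neg_left, B.neg_right, neg_neg, add_comm]; exact ha
  obtain ⟨k, hk⟩ := B.exists_sie he (by rw [B.neg_left, hw, neg_zero] : B.h (-w) e = 0) ha'
  have h1 := HF.IsSie.mul ⟨he, hw, ha, hg⟩ hk
  have h2 : g * k = 1 := by
    apply LinearEquiv.ext
    intro x
    rw [h1.2.2.2, add_neg_cancel, smul_zero, B.zero_right, zero_smul, B.neg_left]
    have : a + σ a - -B.h w w = 0 := by rw [ha]; ring
    rw [this, zero_mul, zero_smul]
    show x + 0 - 0 + 0 = x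
    abel
  rw [← eq_inv_of_mul_eq_one_right h2]
  exact hk

theorem HF.IsSie.conj {B : HF σ V} {e w : V} {a : F} {g k : V ≃ₗ[F] V}
    (h : B.IsSie e w a g) (hk : k ∈ B.iso) : B.IsSie (k e) (k w) a (k * g * k⁻¹) := by
  obtain ⟨he, hw, ha, hg⟩ := h
  refine ⟨by rw [hk, he], by rw [hk, hw], by rw [hk, ha], ?_⟩
  intro x
  show k (g (k⁻¹ x)) = _
  have e1 : ∀ y, B.h (k⁻¹ x) y = B.h x (k y) := by
    intro y
    rw [← hk]
    show B.h (k (k.symm x)) (k y) = _
    rw [LinearEquiv.apply_symm_apply]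
  have e2 : k (k⁻¹ x) = x := LinearEquiv.apply_symm_apply _ _
  rw [hg, e1, e1]
  simp only [map_add, map_sub, map_smul, e2]

/-- the group generated by Siegel transformations -/
def HF.Om (B : HF σ V) : Subgroup (V ≃ₗ[F] V) := Subgroup.closure {g | ∃ e w a, B.IsSie e w a g}

/-- the group generated by transvections -/
def HF.Tv (B : HF σ V) : Subgroup (V ≃ₗ[F] V) :=
  Subgroup.closure {g | ∃ e c, B.IsSie e 0 c g}

theorem HF.IsSie.mem_Om {B : HF σ V} {e w : V} {a : F} {g : V ≃ₗ[F] V} (h : B.IsSie e w a g) :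
    g ∈ B.Om := Subgroup.subset_closure ⟨e, w, a, h⟩

theorem HF.IsSie.mem_Tv {B : HF σ V} {e : V} {a : F} {g : V ≃ₗ[F] V} (h : B.IsSie e 0 a g) :
    g ∈ B.Tv := Subgroup.subset_closure ⟨e, a, h⟩

theorem HF.Tv_le_Om (B : HF σ V) : B.Tv ≤ B.Om := by
  rw [HF.Tv, Subgroup.closure_le]
  rintro _ ⟨e, c, h⟩
  exact h.mem_Om

theorem HF.Om_le (B : HF σ V) : B.Om ≤ B.siso := by
  rw [HF.Om, Subgroup.closure_le]
  rintro _ ⟨e, w, c, h⟩
  exact h.mem

theorem conj_closure {G : Type*} [Group G] (k : G) {S : Set G} (h : ∀ g ∈ S, k * g * k⁻¹ ∈ S)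
    {g : G} (hg : g ∈ Subgroup.closure S) : k * g * k⁻¹ ∈ Subgroup.closure S := by
  induction hg using Subgroup.closure_induction with
  | mem x hx => exact Subgroup.subset_closure (h x hx)
  | one => simp
  | mul x y _ _ hx hy =>
    have : k * (x * y) * k⁻¹ = (k * x * k⁻¹) * (k * y * k⁻¹) := by group
    rw [this]; exact mul_mem hx hy
  | inv x _ hx =>
    have : k * x⁻¹ * k⁻¹ = (k * x * k⁻¹)⁻¹ := by group
    rw [this]; exact inv_mem hx

theorem HF.conj_Om {B : HF σ V} {k : V ≃ₗ[F] V} (hk : k ∈ B.iso) {g : V ≃ₗ[F] V} (hg : g ∈ B.Om) :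
    k * g * k⁻¹ ∈ B.Om := by
  apply conj_closure k _ hg
  rintro _ ⟨e, w, c, h⟩
  exact ⟨_, _, _, h.conj hk⟩

theorem HF.conj_Tv {B : HF σ V} {k : V ≃ₗ[F] V} (hk : k ∈ B.iso) {g : V ≃ₗ[F] V} (hg : g ∈ B.Tv) :
    k * g * k⁻¹ ∈ B.Tv := by
  apply conj_closure k _ hg
  rintro _ ⟨e, c, h⟩
  refine ⟨k e, c, ?_⟩
  have := h.conj hk
  rwa [map_zero] at this

/-- Lemma A: the Siegel group is transitive -/
theorem HF.sie_trans {B : HF σ V} {e x y : V} (he : B.h e e = 0) (hx : B.h x x = 0)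
    (hy : B.h y y = 0) (hxe : B.h x e ≠ 0) (hxy : B.h y e = B.h x e) :
    ∃ w a g, B.IsSie e w a g ∧ g x = y := by
  set β := B.h x e with hβ
  have hσβ : σ β ≠ 0 := sigma_ne_zero.mpr hxe
  have hex : B.h e x = σ β := B.symm x e
  have h1 : B.h (β⁻¹ • (y - x)) e = 0 := by
    rw [B.smul_left, B.sub_left, hxy, sub_self, mul_zero]
  have h2 : B.h y x = σ (B.h x y) := B.symm x y
  obtain ⟨g, hg⟩ := B.exists_sie (e := e) (w := β⁻¹ • (y - x)) (a := (β * σ β)⁻¹ * B.h x y) he h1 (by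
    have h2' : σ (B.h y x) = B.h x y := (B.symm y x).symm
    have h3 : σ (σ β) = β := by rw [← hex]; exact (B.symm e x).symm
    simp only [B.smul_left, B.smul_right, B.sub_left, B.sub_right, hx, hy, map_mul, map_inv₀]
    rw [← h2, h3]
    field_simp
    ring)
  refine ⟨_, _, g, hg, ?_⟩
  rw [hg.2.2.2, ← hβ, smul_smul, mul_inv_cancel₀ hxe, one_smul, B.smul_right, B.sub_right, hx, sub_zero,
    map_inv₀]
  have : (β * σ β)⁻¹ * B.h x y * β = (σ β)⁻¹ * B.h x y := by field_simp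
  rw [this]
  abel

end Sie

section Om

variable {F : Type*} [Field F] {σ : F ≃+* F} {V : Type*} [AddCommGroup V] [Module F V]

/-- Lemma B: from `e` to `β f` -/
theorem HF.om_swap {B : HF σ V} {e f w : V} {β : F} (he : B.h e e = 0) (hf : B.h f f = 0)
    (hef : B.h e f = 1) (hwe : B.h w e = 0) (hwf : B.h w f = 0) (hβ : β ≠ 0)
    (hw : B.h w w = -(β + σ β)) : ∃ t ∈ B.Om, t e = β • f := by
  have hfe : B.h f e = 1 := by rw [B.symm e f, hef, map_one]
  have hew : B.h e w = 0 := B.eq_zero_comm.mp hwe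
  have hfw : B.h f w = 0 := B.eq_zero_comm.mp hwf
  have h0 : B.h (e + w + β • f) (e + w + β • f) = 0 := by
    simp only [B.add_left, B.add_right, B.smul_left, B.smul_right, he, hf, hef, hfe, hwe, hwf, hew, hfw, hw]
    ring
  obtain ⟨_, _, g1, hg1, h1⟩ := B.sie_trans (e := f) (x := e) (y := e + w + β • f) hf he h0
    (by rw [hef]; exact one_ne_zero)
    (by simp only [B.add_left, B.smul_left, hf, hwf]; ring)
  obtain ⟨_, _, g2, hg2, h2⟩ := B.sie_trans (e := e) (x := e + w + β • f) (y := β • f) he h0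
    (by rw [B.smul_left, B.smul_right, hf, mul_zero, mul_zero])
    (by simp only [B.add_left, B.smul_left, he, hwe, hfe]; simpa using hβ)
    (by simp only [B.add_left, B.smul_left, he, hwe, hfe]; ring)
  refine ⟨g2 * g1, mul_mem hg2.mem_Om hg1.mem_Om, ?_⟩
  show g2 (g1 e) = _
  rw [h1, h2]

/-- a partner nonorthogonal to two isotropic orthogonal vectors -/
theorem HF.ND.exists_joint {B : HF σ V} (hB : B.ND) (hσ2 : ∀ a, σ (σ a) = a) (hσ : ∃ a, σ a ≠ a)
    {u v : V} (hu : u ≠ 0) (hv : v ≠ 0) (huu : B.h u u = 0) (huv : B.h u v = 0) :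
    ∃ y, B.h y y = 0 ∧ B.h y u ≠ 0 ∧ B.h y v ≠ 0 := by
  obtain ⟨y1, h1⟩ := hB.exists_ne hu
  obtain ⟨y2, h2⟩ := hB.exists_ne hv
  have h1' : B.h y1 u ≠ 0 := fun h => h1 (B.eq_zero_comm.mp h)
  have h2' : B.h y2 v ≠ 0 := fun h => h2 (B.eq_zero_comm.mp h)
  have hex : ∃ y, B.h y u ≠ 0 ∧ B.h y v ≠ 0 := by
    by_cases h3 : B.h y1 v = 0
    · by_cases h4 : B.h y2 u = 0
      · exact ⟨y1 + y2, by rw [B.add_left, h4, add_zero]; exact h1',
          by rw [B.add_left, h3, zero_add]; exact h2'⟩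
      · exact ⟨y2, h4, h2'⟩
    · exact ⟨y1, h1', h3⟩
  obtain ⟨y, hyu, hyv⟩ := hex
  have hvu : B.h v u = 0 := B.eq_zero_comm.mp huv
  obtain ⟨t, ht⟩ := exists_trace hσ2 hσ (c := - B.h y y) (by rw [map_neg, ← B.symm])
  refine ⟨y + (t * (B.h u y)⁻¹) • u, ?_, ?_, ?_⟩
  · have huy : B.h u y ≠ 0 := fun h => hyu (B.eq_zero_comm.mp h)
    have e1 : B.h y u = σ (B.h u y) := B.symm u y
    rw [B.add_left, B.add_right, B.add_right, B.smul_left, B.smul_right, B.smul_left, B.smul_right, huu,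
      map_mul, map_inv₀, e1]
    have h5 : σ (B.h u y) ≠ 0 := sigma_ne_zero.mpr huy
    field_simp
    linear_combination (σ (B.h u y) * B.h u y) * ht
  · rw [B.add_left, B.smul_left, huu, mul_zero, add_zero]; exact hyu
  · rw [B.add_left, B.smul_left, huv, mul_zero, add_zero]; exact hyv

/-- hyperbolic partners -/
theorem HF.ND.exists_partner {B : HF σ V} (hB : B.ND) (hσ2 : ∀ a, σ (σ a) = a) (hσ : ∃ a, σ a ≠ a)
    {u : V} (hu : u ≠ 0) (huu : B.h u u = 0) : ∃ f, B.h f f = 0 ∧ B.h u f = 1 := by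
  obtain ⟨y, hy, hyu, _⟩ := hB.exists_joint hσ2 hσ hu hu huu huu
  have huy : B.h u y ≠ 0 := fun h => hyu (B.eq_zero_comm.mp h)
  refine ⟨(σ (B.h u y))⁻¹ • y, ?_, ?_⟩
  · rw [B.smul_left, B.smul_right, hy, mul_zero, mul_zero]
  · rw [B.smul_right, map_inv₀, hσ2, inv_mul_cancel₀ huy]

/-- the hyperbolic pair as a family -/
def pr {V : Type*} (e f : V) : Fin 2 → V := ![e, f]

theorem HF.pr_nd {B : HF σ V} {e f : V} (he : B.h e e = 0) (hf : B.h f f = 0) (hef : B.h e f = 1) :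
    ∀ a : Fin 2 → F, (∀ j, B.h (∑ i, a i • pr e f i) (pr e f j) = 0) → a = 0 := by
  have hfe : B.h f e = 1 := by rw [B.symm e f, hef, map_one]
  intro a ha
  have h0 := ha 0
  have h1 := ha 1
  simp only [Fin.sum_univ_two, pr, Matrix.cons_val_zero, Matrix.cons_val_one, B.add_left, B.smul_left,
    he, hf, hef, hfe] at h0 h1
  ring_nf at h0 h1
  funext i
  fin_cases i
  · exact h1
  · exact h0

theorem HF.pr_li {B : HF σ V} {e f : V} (he : B.h e e = 0) (hf : B.h f f = 0) (hef : B.h e f = 1) :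
    LinearIndependent F (pr e f) := by
  rw [Fintype.linearIndependent_iff]
  intro g hg i
  have := HF.pr_nd he hf hef g (fun j => by rw [hg, B.zero_left])
  rw [this]; rfl

theorem HF.mem_perp_pr {B : HF σ V} {e f x : V} :
    x ∈ B.perpF (pr e f) ↔ B.h x e = 0 ∧ B.h x f = 0 := by
  rw [HF.mem_perpF]
  constructor
  · intro h; exact ⟨h 0, h 1⟩
  · rintro ⟨h1, h2⟩ i
    fin_cases i
    · exact h1
    · exact h2

/-- all norms are attained in dimension at least one -/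
theorem HF.ND.exists_norm [Finite F] [FiniteDimensional F V] {B : HF σ V} (hB : B.ND)
    (hσ : orderOf σ = 2) (hn : 1 ≤ Module.finrank F V) {c : F} (hc : σ c = c) :
    ∃ x, B.h x x = c := by
  obtain ⟨h1, h2, h3⟩ := sigma_facts hσ
  obtain ⟨u, hu⟩ := hB.exists_norm_vec hσ hn
  by_cases hc0 : c = 0
  · exact ⟨0, by rw [B.zero_left, hc0]⟩
  · obtain ⟨b, _, hb⟩ := h3 c hc0 hc
    exact ⟨b • u, by rw [B.smul_left, B.smul_right, hu, mul_one, hb]⟩

theorem HF.ND.exists_norm_perp_pr [Finite F] [FiniteDimensional F V] {B : HF σ V} (hB : B.ND)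
    (hσ : orderOf σ = 2) (hn : 3 ≤ Module.finrank F V) {e f : V} (he : B.h e e = 0)
    (hf : B.h f f = 0) (hef : B.h e f = 1) {c : F} (hc : σ c = c) :
    ∃ w, B.h w e = 0 ∧ B.h w f = 0 ∧ B.h w w = c := by
  obtain ⟨h1, h2, h3⟩ := sigma_facts hσ
  have hnd := hB.perpF_nd (HF.pr_nd he hf hef)
  have hfr := hB.finrank_perpF h1 (HF.pr_li he hf hef)
  rw [Fintype.card_fin] at hfr
  obtain ⟨⟨w, hw⟩, hw2⟩ := hnd.exists_norm hσ (by omega) hc
  rw [HF.mem_perp_pr] at hw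
  exact ⟨w, hw.1, hw.2, hw2⟩

/-- isotropic vectors exist in dimension at least 2 -/
theorem HF.ND.exists_isotropic [Finite F] [FiniteDimensional F V] {B : HF σ V} (hB : B.ND)
    (hσ : orderOf σ = 2) (hn : 2 ≤ Module.finrank F V) : ∃ x, x ≠ 0 ∧ B.h x x = 0 := by
  obtain ⟨h1, h2, h3⟩ := sigma_facts hσ
  obtain ⟨e, he⟩ := B.exists_ON hσ hB
  obtain ⟨b, hb0, hb⟩ := h3 (-1) (by simp) (by simp)
  have h01 : (⟨0, by omega⟩ : Fin (Module.finrank F V)) ≠ ⟨1, by omega⟩ := by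
    intro h; simp at h
  refine ⟨e ⟨0, by omega⟩ + b • e ⟨1, by omega⟩, ?_, ?_⟩
  · intro h0
    have := congrArg (fun x => B.h x (e ⟨0, by omega⟩)) h0
    simp only [B.add_left, B.smul_left, he.1, he.2 _ _ h01.symm, B.zero_left] at this
    simp at this
  · rw [B.add_left, B.add_right, B.add_right, B.smul_left, B.smul_right, B.smul_left, B.smul_right,
      he.1, he.1, he.2 _ _ h01, he.2 _ _ h01.symm]
    linear_combination hb

/-- Lemma C: transitivity on isotropic vectors -/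
theorem HF.ND.om_trans [Finite F] [FiniteDimensional F V] {B : HF σ V} (hB : B.ND)
    (hσ : orderOf σ = 2) (hn : 3 ≤ Module.finrank F V) {x y : V} (hx : x ≠ 0) (hy : y ≠ 0)
    (hxx : B.h x x = 0) (hyy : B.h y y = 0) : ∃ t ∈ B.Om, t x = y := by
  obtain ⟨h1, h2, h3⟩ := sigma_facts hσ
  have key : ∀ x y : V, B.h x x = 0 → B.h y y = 0 → B.h x y ≠ 0 → ∃ t ∈ B.Om, t x = y := by
    intro x y hxx hyy hxy
    have hσ0 : σ (B.h x y) ≠ 0 := sigma_ne_zero.mpr hxy
    set f := (σ (B.h x y))⁻¹ • y with hf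
    have hff : B.h f f = 0 := by rw [hf, B.smul_left, B.smul_right, hyy, mul_zero, mul_zero]
    have hxf : B.h x f = 1 := by rw [hf, B.smul_right, map_inv₀, h1, inv_mul_cancel₀ hxy]
    obtain ⟨w, hw1, hw2, hw3⟩ := hB.exists_norm_perp_pr hσ hn hxx hff hxf
      (c := -(σ (B.h x y) + σ (σ (B.h x y)))) (by rw [map_neg, map_add, h1, add_comm])
    obtain ⟨t, ht, ht2⟩ := HF.om_swap hxx hff hxf hw1 hw2 hσ0 hw3
    refine ⟨t, ht, ?_⟩
    rw [ht2, hf, smul_smul, mul_inv_cancel₀ hσ0, one_smul]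
  by_cases hxy : B.h x y = 0
  · obtain ⟨z, hz, hzx, hzy⟩ := hB.exists_joint h1 h2 hx hy hxx hxy
    obtain ⟨t, ht, ht2⟩ := key x z hxx hz (fun h => hzx (B.eq_zero_comm.mp h))
    obtain ⟨s, hs, hs2⟩ := key z y hz hyy hzy
    exact ⟨s * t, mul_mem hs ht, by show s (t x) = y; rw [ht2, hs2]⟩
  · exact key x y hxx hyy hxy

end Om

end Cfsg.Agent.Lib.Herm
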