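import Mathlib
import Cfsg.Agent.Lib.Herm5

/-! Generation of special unitary groups. -/

set_option linter.all false
set_option maxHeartbeats 400000

namespace Cfsg.Agent.Lib.Herm

open Matrix Cfsg.Agent.Lib.FinGal

section Gen

variable {F : Type*} [Field F] {σ : F ≃+* F} {V : Type*} [AddCommGroup V] [Module F V]

/-- lifting from a hyperbolic complement -/
theorem HF.lift_Om {B : HF σ V} {e f : V} {t : B.perpF (pr e f) ≃ₗ[F] B.perpF (pr e f)}
    (ht : t ∈ (B.res (B.perpF (pr e f))).Om) :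
    ∃ T ∈ B.Om, T e = e ∧ T f = f ∧ ∀ x : B.perpF (pr e f), T (x : V) = (t x : V) := by
  induction ht using Subgroup.closure_induction with
  | mem t ht =>
    obtain ⟨e', w', a, he, hw, ha, hg⟩ := ht
    obtain ⟨T, hT⟩ := B.exists_sie (e := (e' : V)) (w := (w' : V)) (a := a) he hw ha
    have he' := HF.mem_perp_pr.mp e'.2
    have hw' := HF.mem_perp_pr.mp w'.2
    refine ⟨T, hT.mem_Om, ?_, ?_, ?_⟩
    · rw [hT.2.2.2, B.eq_zero_comm.mp he'.1, B.eq_zero_comm.mp hw'.1]; simp
    · rw [hT.2.2.2, B.eq_zero_comm.mp he'.2, B.eq_zero_comm.mp hw'.2]; simp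
    · intro x
      rw [hT.2.2.2, hg]
      rfl
  | one => exact ⟨1, one_mem _, rfl, rfl, fun x => rfl⟩
  | mul x y _ _ hx hy =>
    obtain ⟨X, hX, h1, h2, h3⟩ := hx
    obtain ⟨Y, hY, h4, h5, h6⟩ := hy
    refine ⟨X * Y, mul_mem hX hY, ?_, ?_, ?_⟩
    · show X (Y e) = e
      rw [h4, h1]
    · show X (Y f) = f
      rw [h5, h2]
    · intro z
      show X (Y z) = ((x (y z) : B.perpF (pr e f)) : V)
      rw [h6, h3]
  | inv x _ hx =>
    obtain ⟨X, hX, h1, h2, h3⟩ := hx
    refine ⟨X⁻¹, inv_mem hX, ?_, ?_, ?_⟩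
    · show X.symm e = e
      rw [LinearEquiv.symm_apply_eq, h1]
    · show X.symm f = f
      rw [LinearEquiv.symm_apply_eq, h2]
    · intro z
      show X.symm z = ((x.symm z : B.perpF (pr e f)) : V)
      rw [LinearEquiv.symm_apply_eq, h3, LinearEquiv.apply_symm_apply]

theorem HF.restrict_pr [FiniteDimensional F V] {B : HF σ V} {e f : V} {g : V ≃ₗ[F] V} (hg : g ∈ B.iso) (hge : g e = e)
    (hgf : g f = f) : ∃ t ∈ (B.res (B.perpF (pr e f))).iso,
      ∀ x : B.perpF (pr e f), (t x : V) = g x := by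
  have hmem : ∀ x ∈ B.perpF (pr e f), (g : V →ₗ[F] V) x ∈ B.perpF (pr e f) := by
    intro x hx
    rw [HF.mem_perp_pr] at hx ⊢
    refine ⟨?_, ?_⟩
    · have := hg x e
      rw [hge] at this
      exact this.trans hx.1
    · have := hg x f
      rw [hgf] at this
      exact this.trans hx.2
  let T := (g : V →ₗ[F] V).restrict hmem
  have hinj : Function.Injective T := by
    intro x y hxy
    apply Subtype.ext
    apply g.injective
    exact congrArg Subtype.val hxy
  refine ⟨LinearEquiv.ofInjectiveEndo T hinj, ?_, fun x => rfl⟩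
  intro x y
  exact hg x y

theorem HF.decomp_pr [FiniteDimensional F V] {B : HF σ V} {e f : V} (he : B.h e e = 0) (hf : B.h f f = 0)
    (hef : B.h e f = 1) (y : V) :
    ∃ (a b : F) (z : V), z ∈ B.perpF (pr e f) ∧ y = a • e + b • f + z := by
  obtain ⟨b, z, hz, h⟩ := HF.nd_decomp (HF.pr_nd he hf hef) y
  refine ⟨b 0, b 1, z, hz, ?_⟩
  rw [h, Fin.sum_univ_two]
  rfl

/-- torus elements -/
theorem HF.exists_torus [FiniteDimensional F V] {B : HF σ V} {e f : V} (he : B.h e e = 0) (hf : B.h f f = 0)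
    (hef : B.h e f = 1) {m : F} (hm : m ≠ 0) :
    ∃ D ∈ B.iso, ((LinearEquiv.det D : Fˣ) : F) = m * (σ m)⁻¹ ∧ D e = m • e ∧
      D f = (σ m)⁻¹ • f ∧ ∀ x, B.h x e = 0 → B.h x f = 0 → D x = x := by
  have hfe : B.h f e = 1 := by rw [B.symm e f, hef, map_one]
  have hσm : σ m ≠ 0 := sigma_ne_zero.mpr hm
  have h1 : 1 + ((m - 1) • B.lin f : V →ₗ[F] F) e = m := by
    show 1 + (m - 1) * B.h e f = m
    rw [hef]; ring
  have h2 : 1 + (((σ m)⁻¹ - 1) • B.lin e : V →ₗ[F] F) f = (σ m)⁻¹ := by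
    show 1 + ((σ m)⁻¹ - 1) * B.h f e = (σ m)⁻¹
    rw [hfe]; ring
  let g1 : V ≃ₗ[F] V := LinearEquiv.dilatransvection (f := (m - 1) • B.lin f) (v := e)
    (by rw [h1]; exact isUnit_iff_ne_zero.mpr hm)
  let g2 : V ≃ₗ[F] V := LinearEquiv.dilatransvection (f := ((σ m)⁻¹ - 1) • B.lin e) (v := f)
    (by rw [h2]; exact isUnit_iff_ne_zero.mpr (inv_ne_zero hσm))
  have e1 : ∀ x, g1 x = x + ((m - 1) * B.h x f) • e := fun x => rfl
  have e2 : ∀ x, g2 x = x + (((σ m)⁻¹ - 1) * B.h x e) • f := fun x => rfl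
  have e3 : ∀ x, (g1 * g2) x = x + (((σ m)⁻¹ - 1) * B.h x e) • f + ((m - 1) * B.h x f) • e := by
    intro x
    show g1 (g2 x) = _
    rw [e1, e2, B.add_left, B.smul_left, hf, mul_zero, add_zero]
  have hDe : (g1 * g2) e = m • e := by
    rw [e3, he, hef]; module
  have hDf : (g1 * g2) f = (σ m)⁻¹ • f := by
    rw [e3, hfe, hf]; module
  have hDx : ∀ x, B.h x e = 0 → B.h x f = 0 → (g1 * g2) x = x := by
    intro x hx1 hx2
    rw [e3, hx1, hx2]; module
  refine ⟨g1 * g2, ?_, ?_, hDe, hDf, hDx⟩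
  · intro x y
    obtain ⟨a, b, z, hz, rfl⟩ := HF.decomp_pr he hf hef x
    obtain ⟨a', b', z', hz', rfl⟩ := HF.decomp_pr he hf hef y
    rw [HF.mem_perp_pr] at hz hz'
    simp only [map_add, map_smul]
    rw [hDe, hDf, hDx z hz.1 hz.2, hDx z' hz'.1 hz'.2]
    simp only [B.add_left, B.add_right, B.smul_left, B.smul_right, he, hf, hef, hfe, hz.1, hz.2,
      B.eq_zero_comm.mp hz'.1, B.eq_zero_comm.mp hz'.2, map_inv₀]
    have h3 : σ (σ m) ≠ 0 := sigma_ne_zero.mpr hσm
    have h4 : σ (σ m) = m := by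
      have := B.symm (m • e) f
      rw [B.smul_left, B.smul_right, hef, hfe, mul_one, mul_one] at this
      have h5 := B.symm f (m • e)
      rw [B.smul_left, B.smul_right, hef, hfe, mul_one, mul_one] at h5
      exact h5.symm
    rw [h4]
    field_simp
    ring
  · rw [map_mul, Units.val_mul, LinearEquiv.coe_det, LinearEquiv.coe_det]
    have h3 : ((g1 : V ≃ₗ[F] V) : V →ₗ[F] V) = LinearMap.transvection ((m - 1) • B.lin f) e := rfl
    have h4 : ((g2 : V ≃ₗ[F] V) : V →ₗ[F] V) = LinearMap.transvection (((σ m)⁻¹ - 1) • B.lin e) f := rfl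
    rw [h3, h4, LinearMap.transvection.det, LinearMap.transvection.det, h1, h2]

/-- a linear equivalence agreeing on a hyperbolic pair, dimension two -/
theorem HF.ext_pr [FiniteDimensional F V] {B : HF σ V} {e f : V} (he : B.h e e = 0)
    (hf : B.h f f = 0) (hef : B.h e f = 1) (hn : Module.finrank F V = 2) {g g' : V ≃ₗ[F] V}
    (h1 : g e = g' e) (h2 : g f = g' f) : g = g' := by
  have hc : Fintype.card (Fin 2) = Module.finrank F V := by rw [hn]; rfl
  let b := basisOfLinearIndependentOfCardEqFinrank' (pr e f) (HF.pr_li he hf hef) hc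
  have eb : ∀ i, b i = pr e f i := fun i => by simp [b]
  apply LinearEquiv.toLinearMap_injective
  apply b.ext
  intro i
  rw [eb]
  fin_cases i
  · exact h1
  · exact h2

theorem HF.sie_fix {B : HF σ V} {e w : V} {a : F} {g : V ≃ₗ[F] V} (h : B.IsSie e w a g) : g e = e := by
  rw [h.2.2.2, h.1, B.eq_zero_comm.mp h.2.1]; simp

/-- fixing `e` and moving `f` back -/
theorem HF.fix_second {B : HF σ V} {e f : V} (he : B.h e e = 0) (hf : B.h f f = 0)
    (hef : B.h e f = 1) {g : V ≃ₗ[F] V} (hg : g ∈ B.iso) (hge : g e = e) :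
    ∃ t ∈ B.Om, t e = e ∧ t (g f) = f := by
  have hfe : B.h f e = 1 := by rw [B.symm e f, hef, map_one]
  have h1 : B.h (g f) e = 1 := by
    have := hg f e
    rw [hge, hfe] at this
    exact this
  obtain ⟨w, a, t, ht, ht2⟩ := B.sie_trans (e := e) (x := g f) (y := f) he (by rw [hg, hf]) hf
    (by rw [h1]; exact one_ne_zero) (by rw [h1, hfe])
  exact ⟨t, ht.mem_Om, HF.sie_fix ht, ht2⟩

/-- Lemma E -/
theorem HF.two_red [FiniteDimensional F V] {B : HF σ V} {e f : V} (he : B.h e e = 0)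
    (hf : B.h f f = 0) (hef : B.h e f = 1) (hn : Module.finrank F V = 2) {ε : F} (hε : ε ≠ 0)
    (hεσ : σ ε = - ε) (hB : B.ND) (hσ2 : ∀ a, σ (σ a) = a) {x : V} (hx : x ≠ 0)
    (hxx : B.h x x = 0) : ∃ t ∈ B.Om, ∃ m : F, m ≠ 0 ∧ t x = m • e := by
  have hfe : B.h f e = 1 := by rw [B.symm e f, hef, map_one]
  by_cases hxe : B.h x e = 0
  · obtain ⟨a, b, z, hz, hxe2⟩ := HF.decomp_pr he hf hef x
    have hfr := hB.finrank_perpF hσ2 (HF.pr_li he hf hef)
    rw [Fintype.card_fin, hn] at hfr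
    have hbot : B.perpF (pr e f) = ⊥ := by
      rw [← Submodule.finrank_eq_zero (R := F)]; omega
    have hz0 : z = 0 := by rw [hbot] at hz; exact (Submodule.mem_bot F).mp hz
    have hb : b = 0 := by
      rw [hxe2, hz0] at hxe
      simp only [B.add_left, B.smul_left, he, hfe, B.zero_left] at hxe
      simpa using hxe
    have hx2 : x = a • e := by rw [hxe2, hz0, hb]; simp
    refine ⟨1, one_mem _, a, ?_, hx2⟩
    rintro rfl
    rw [zero_smul] at hx2
    exact hx hx2
  · obtain ⟨w, a, g1, hg1, h1⟩ := B.sie_trans (e := e) (x := x) (y := B.h x e • f) he hxx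
      (by rw [B.smul_left, B.smul_right, hf, mul_zero, mul_zero]) hxe
      (by rw [B.smul_left, hfe, mul_one])
    obtain ⟨t, ht, ht2⟩ := HF.om_swap (w := 0) he hf hef (B.zero_left _) (B.zero_left _) hε
      (by rw [B.zero_left, hεσ]; ring)
    refine ⟨t⁻¹ * g1, mul_mem (inv_mem ht) hg1.mem_Om, B.h x e * ε⁻¹,
      mul_ne_zero hxe (inv_ne_zero hε), ?_⟩
    show t.symm (g1 x) = _
    rw [h1, LinearEquiv.symm_apply_eq, map_smul, ht2, smul_smul, mul_assoc, inv_mul_cancel₀ hε, mul_one]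

/-- Lemma F -/
theorem HF.two_scale {B : HF σ V} {e f : V} (he : B.h e e = 0)
    (hf : B.h f f = 0) (hef : B.h e f = 1) {ε : F} (hε : ε ≠ 0)
    (hεσ : σ ε = - ε) {n : F} (hn : n ≠ 0) (hnσ : σ n = n) : ∃ t ∈ B.Om, t e = n • e := by
  obtain ⟨t, ht, ht2⟩ := HF.om_swap (w := 0) he hf hef (B.zero_left _) (B.zero_left _) hε
    (by rw [B.zero_left, hεσ]; ring)
  obtain ⟨s, hs, hs2⟩ := HF.om_swap (w := 0) he hf hef (B.zero_left _) (B.zero_left _)
    (mul_ne_zero hn hε) (by rw [B.zero_left, map_mul, hεσ, hnσ]; ring)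
  refine ⟨t⁻¹ * s, mul_mem (inv_mem ht) hs, ?_⟩
  show t.symm (s e) = _
  rw [hs2, LinearEquiv.symm_apply_eq, map_smul, ht2, smul_smul]

/-- determinant in terms of the image of `e`, dimension two -/
theorem HF.two_det [FiniteDimensional F V] {B : HF σ V} {e f : V} (he : B.h e e = 0)
    (hf : B.h f f = 0) (hef : B.h e f = 1) (hn : Module.finrank F V = 2) (hσ2 : ∀ a, σ (σ a) = a)
    {g t : V ≃ₗ[F] V} (hg : g ∈ B.iso) (ht : t ∈ B.Om) {m : F} (hm : m ≠ 0) (h : t (g e) = m • e) :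
    ((LinearEquiv.det g : Fˣ) : F) = m * (σ m)⁻¹ := by
  have hfe : B.h f e = 1 := by rw [B.symm e f, hef, map_one]
  have hσm : σ m ≠ 0 := sigma_ne_zero.mpr hm
  have htg : t * g ∈ B.iso := mul_mem (B.siso_le (B.Om_le ht)) hg
  have h1 : B.h ((t * g) f) e = (σ m)⁻¹ := by
    have h2 := htg f e
    rw [show (t * g) e = m • e from h, B.smul_right, hfe] at h2
    exact eq_inv_of_mul_eq_one_right h2
  obtain ⟨w, a, s, hs, hs2⟩ := B.sie_trans (e := e) (x := (t * g) f) (y := (σ m)⁻¹ • f) he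
    (by rw [htg, hf]) (by rw [B.smul_left, B.smul_right, hf, mul_zero, mul_zero])
    (by rw [h1]; exact inv_ne_zero hσm) (by rw [h1, B.smul_left, hfe, mul_one])
  obtain ⟨D, hD, hdet, hDe, hDf, _⟩ := HF.exists_torus he hf hef hm
  have h3 : s * (t * g) = D := by
    apply HF.ext_pr he hf hef hn
    · show s (t (g e)) = D e
      rw [h, map_smul, HF.sie_fix hs, hDe]
    · show s ((t * g) f) = D f
      rw [hs2, hDf]
  rw [← hdet, ← h3, map_mul, map_mul, hs.det, (B.Om_le ht).2, one_mul, one_mul]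

theorem HF.ON.expand [FiniteDimensional F V] {B : HF σ V} {e : Fin (Module.finrank F V) → V}
    (he : B.ON e) (x : V) : x = ∑ i, B.h x (e i) • e i := by
  have hc : Fintype.card (Fin (Module.finrank F V)) = Module.finrank F V := by simp
  let b := basisOfLinearIndependentOfCardEqFinrank' e he.li hc
  have eb : ∀ i, b i = e i := fun i => by simp [b]
  have hx : x = ∑ i, b.repr x i • e i := by
    conv_lhs => rw [← b.sum_repr x]
    exact Finset.sum_congr rfl fun i _ => by rw [eb]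
  have h2 : ∀ j, B.h x (e j) = b.repr x j := by
    intro j
    conv_lhs => rw [hx]
    rw [he.h_sum]
  conv_lhs => rw [hx]
  exact Finset.sum_congr rfl fun i _ => by rw [h2]

end Gen

section Main

universe u v

variable {F : Type u} [Field F] [Finite F] {σ : F ≃+* F}

/-- every isometry is a quasi-reflection modulo the Siegel group -/
theorem gen_main (hσ : orderOf σ = 2) (n : ℕ) : ∀ (V : Type v) [AddCommGroup V] [Module F V]
    [FiniteDimensional F V] (B : HF σ V), B.ND → Module.finrank F V = n → ∀ g ∈ B.iso,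
    ∃ t ∈ B.Om, t * g = 1 ∨ ∃ u l, B.h u u = 1 ∧ l * σ l = 1 ∧
      ∀ x, t (g x) = x + ((l - 1) * B.h x u) • u := by
  obtain ⟨h1, h2, h3⟩ := sigma_facts hσ
  induction n using Nat.strong_induction_on with
  | _ n ih =>
  intro V _ _ _ B hB hn g hg
  have hcase : n = 0 ∨ n = 1 ∨ n = 2 ∨ 3 ≤ n := by omega
  rcases hcase with h0 | h0 | h0 | h0
  · subst h0
    have hsub : Subsingleton V := Module.finrank_zero_iff.mp hn
    exact ⟨1, one_mem _, Or.inl (LinearEquiv.ext fun x => Subsingleton.elim _ _)⟩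
  · subst h0
    obtain ⟨e, he⟩ := B.exists_ON hσ hB
    have hx0 : ∀ x, x = B.h x (e ⟨0, by omega⟩) • e ⟨0, by omega⟩ := by
      intro x
      conv_lhs => rw [he.expand x]
      rw [Finset.sum_eq_single ⟨0, by omega⟩]
      · intro b _ hb
        exfalso; apply hb
        apply Fin.ext
        have := b.2
        show (b : ℕ) = 0
        omega
      · intro h; exact absurd (Finset.mem_univ _) h
    set u := e ⟨0, by omega⟩ with hu
    have huu : B.h u u = 1 := he.1 _
    refine ⟨1, one_mem _, Or.inr ⟨u, B.h (g u) u, huu, ?_, ?_⟩⟩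
    · have h4 := hg u u
      rw [hx0 (g u), B.smul_left, B.smul_right, huu, mul_one] at h4
      exact h4
    · intro x
      show g x = _
      have h5 : g x = B.h x u • g u := by
        conv_lhs => rw [hx0 x]
        rw [map_smul]
      rw [h5, hx0 (g u), B.smul_left, huu, mul_one, smul_smul]
      conv_rhs => rw [hx0 x]
      rw [B.smul_left, huu, mul_one]
      module
  · subst h0
    obtain ⟨e, he0, he⟩ := hB.exists_isotropic hσ (by omega)
    obtain ⟨f, hf, hef⟩ := hB.exists_partner h1 h2 he0 he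
    obtain ⟨ε, hε, hεσ⟩ := exists_skew h1 h2
    obtain ⟨u, huu⟩ := hB.exists_norm_vec hσ (by omega)
    have hl := hB.det_norm hσ hg
    set l := ((LinearEquiv.det g : Fˣ) : F) with hldef
    obtain ⟨r, hr, hrd, hrx⟩ := B.exists_qrefl huu hl
    have nz : ∀ k : V ≃ₗ[F] V, k e ≠ 0 := fun k h => he0 (by
      rwa [LinearEquiv.map_eq_zero_iff] at h)
    obtain ⟨tg, htg, mg, hmg, htg2⟩ := HF.two_red he hf hef hn hε hεσ hB h1 (x := g e) (nz g)
      (by rw [hg, he])
    obtain ⟨tr, htr, mr, hmr, htr2⟩ := HF.two_red he hf hef hn hε hεσ hB h1 (x := r e) (nz r)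
      (by rw [hr, he])
    have d1 := HF.two_det he hf hef hn h1 hg htg hmg htg2
    have d2 := HF.two_det he hf hef hn h1 hr htr hmr htr2
    rw [hrd] at d2
    have hσg : σ mg ≠ 0 := sigma_ne_zero.mpr hmg
    have hσr : σ mr ≠ 0 := sigma_ne_zero.mpr hmr
    obtain ⟨s, hs, hs2⟩ := HF.two_scale he hf hef hε hεσ (n := mr * mg⁻¹)
      (mul_ne_zero hmr (inv_ne_zero hmg)) (by
        rw [map_mul, map_inv₀]
        have h5 : mg * (σ mg)⁻¹ = mr * (σ mr)⁻¹ := d1.symm.trans d2
        field_simp at h5 ⊢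
        first | linear_combination h5 | linear_combination -h5)
    have hT : tr⁻¹ * s * tg ∈ B.Om := mul_mem (mul_mem (inv_mem htr) hs) htg
    set T := tr⁻¹ * s * tg with hTdef
    have hTe : T (g e) = r e := by
      show tr.symm (s (tg (g e))) = r e
      rw [htg2, map_smul, hs2, LinearEquiv.symm_apply_eq, htr2, smul_smul]
      congr 1
      field_simp
    have hk : r⁻¹ * T * g ∈ B.iso := mul_mem (mul_mem (inv_mem hr) (B.siso_le (B.Om_le hT))) hg
    have hke : (r⁻¹ * T * g) e = e := by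
      show r.symm (T (g e)) = e
      rw [hTe, LinearEquiv.symm_apply_apply]
    obtain ⟨t, ht, hte, htf⟩ := HF.fix_second he hf hef hk hke
    have h6 : t * (r⁻¹ * T * g) = 1 := by
      apply HF.ext_pr he hf hef hn
      · show t ((r⁻¹ * T * g) e) = e
        rw [hke, hte]
      · exact htf
    refine ⟨(r * t * r⁻¹) * T, mul_mem (HF.conj_Om hr ht) hT, Or.inr ⟨u, l, huu, hl, ?_⟩⟩
    have h7 : (r * t * r⁻¹) * T * g = r := by
      calc (r * t * r⁻¹) * T * g = r * (t * (r⁻¹ * T * g)) := by group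
        _ = r := by rw [h6, mul_one]
    intro x
    have h8 : (r * t * r⁻¹ * T) (g x) = ((r * t * r⁻¹) * T * g) x := rfl
    rw [h8, h7, hrx]
  · obtain ⟨e, he0, he⟩ := hB.exists_isotropic hσ (by omega)
    obtain ⟨f, hf, hef⟩ := hB.exists_partner h1 h2 he0 he
    obtain ⟨t1, ht1, ht1e⟩ := hB.om_trans hσ (by omega) (x := g e) (y := e) (fun h => he0 (by
      rwa [LinearEquiv.map_eq_zero_iff] at h)) he0 (by rw [hg, he]) he
    have hg1 : t1 * g ∈ B.iso := mul_mem (B.siso_le (B.Om_le ht1)) hg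
    obtain ⟨t2, ht2, ht2e, ht2f⟩ := HF.fix_second he hf hef hg1 ht1e
    have hg2 : t2 * (t1 * g) ∈ B.iso := mul_mem (B.siso_le (B.Om_le ht2)) hg1
    have hg2e : (t2 * (t1 * g)) e = e := by
      show t2 (t1 (g e)) = e
      rw [ht1e, ht2e]
    obtain ⟨t, ht, htx⟩ := HF.restrict_pr (e := e) (f := f) hg2 hg2e ht2f
    have hfr := hB.finrank_perpF h1 (HF.pr_li he hf hef)
    rw [Fintype.card_fin] at hfr
    obtain ⟨s, hs, hs2⟩ := ih (n - 2) (by omega) (B.perpF (pr e f)) (B.res _)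
      (hB.perpF_nd (HF.pr_nd he hf hef)) (by omega) t ht
    obtain ⟨S, hS, hSe, hSf, hSx⟩ := HF.lift_Om hs
    refine ⟨S * t2 * t1, mul_mem (mul_mem hS ht2) ht1, ?_⟩
    have hval : ∀ (a b : F) (z : B.perpF (pr e f)), (S * t2 * t1) (g (a • e + b • f + (z : V))) =
        a • e + b • f + ((s (t z) : B.perpF (pr e f)) : V) := by
      intro a b z
      show S ((t2 * (t1 * g)) (a • e + b • f + (z : V))) = _
      have hff : (t2 * (t1 * g)) f = f := ht2f
      have h10 : (t2 * (t1 * g)) (a • e + b • f + (z : V)) = a • e + b • f + (t z : V) := by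
        rw [(t2 * (t1 * g)).map_add, (t2 * (t1 * g)).map_add, (t2 * (t1 * g)).map_smul,
          (t2 * (t1 * g)).map_smul, hg2e, hff, ← htx z]
      rw [h10, S.map_add, S.map_add, S.map_smul, S.map_smul, hSe, hSf, hSx]
    rcases hs2 with hs2 | ⟨u, l, huu, hl, hul⟩
    · left
      apply LinearEquiv.ext
      intro x
      obtain ⟨a, b, z, hz, rfl⟩ := HF.decomp_pr he hf hef x
      show (S * t2 * t1) (g (a • e + b • f + z)) = a • e + b • f + z
      rw [hval a b ⟨z, hz⟩]
      have : s (t ⟨z, hz⟩) = ⟨z, hz⟩ := by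
        have h9 := congrArg (fun k => k ⟨z, hz⟩) hs2
        exact h9
      rw [this]
    · right
      refine ⟨(u : V), l, huu, hl, ?_⟩
      intro x
      obtain ⟨a, b, z, hz, rfl⟩ := HF.decomp_pr he hf hef x
      rw [hval a b ⟨z, hz⟩, hul]
      have hu2 := HF.mem_perp_pr.mp u.2
      rw [B.add_left, B.add_left, B.smul_left, B.smul_left, B.eq_zero_comm.mp hu2.1,
        B.eq_zero_comm.mp hu2.2, mul_zero, mul_zero, zero_add, zero_add]
      show a • e + b • f + (z + ((l - 1) * B.h z u) • (u : V)) = _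
      abel

theorem HF.ND.siso_eq_Om {V : Type v} [AddCommGroup V] [Module F V] [FiniteDimensional F V]
    {B : HF σ V} (hB : B.ND) (hσ : orderOf σ = 2) : B.siso = B.Om := by
  apply le_antisymm _ B.Om_le
  intro g hg
  obtain ⟨t, ht, h | ⟨u, l, huu, hl, hx⟩⟩ := gen_main hσ _ V B hB rfl g hg.1
  · rw [eq_inv_of_mul_eq_one_right h]
    exact inv_mem ht
  · obtain ⟨r, hr, hrd, hrx⟩ := B.exists_qrefl huu hl
    have h1 : t * g = r := by
      apply LinearEquiv.ext
      intro x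
      rw [hrx]
      exact hx x
    have h2 : l = 1 := by
      rw [← hrd, ← h1, map_mul, (B.Om_le ht).2, show LinearEquiv.det g = 1 from hg.2]
      simp
    have h3 : t * g = 1 := by
      apply LinearEquiv.ext
      intro x
      show t (g x) = x
      rw [hx, h2, sub_self, zero_mul, zero_smul, add_zero]
    rw [eq_inv_of_mul_eq_one_right h3]
    exact inv_mem ht

end Main

end Cfsg.Agent.Lib.Herm
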