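import Mathlib
import Cfsg.Agent.Lib.Herm6

/-! Transvections generate; commutators; normal subgroups. -/

set_option linter.all false
set_option maxHeartbeats 400000

namespace Cfsg.Agent.Lib.Herm

open Matrix Cfsg.Agent.Lib.FinGal

section Tv

variable {F : Type*} [Field F] {σ : F ≃+* F} {V : Type*} [AddCommGroup V] [Module F V]

/-- all Siegel elements at `e` with vector `w` are products of transvections -/
def HF.InT (B : HF σ V) (e w : V) : Prop := ∀ a g, B.IsSie e w a g → g ∈ B.Tv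

theorem HF.InT.of_one {B : HF σ V} {e w : V} {a : F} {g : V ≃ₗ[F] V} (hg : B.IsSie e w a g)
    (h : g ∈ B.Tv) : B.InT e w := by
  intro a' g' hg'
  obtain ⟨k, hk⟩ := B.exists_sie (e := e) (w := 0) (a := a' - a) hg.1 (B.zero_left _) (by
    rw [B.zero_left, neg_zero, map_sub]
    linear_combination hg'.2.2.1 - hg.2.2.1)
  have h1 := hk.mul hg
  have h2 : B.IsSie e w a' (k * g) := by
    have e1 : (0 : V) + w = w := zero_add w
    have e2 : a' - a + a - B.h w 0 = a' := by rw [B.zero_right]; ring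
    rw [e1, e2] at h1
    exact h1
  rw [hg'.unique h2]
  exact mul_mem hk.mem_Tv h

theorem HF.InT.add {B : HF σ V} {e w w' : V} (h : B.InT e w) (h' : B.InT e w')
    (hσ2 : ∀ a, σ (σ a) = a) (hσ : ∃ a, σ a ≠ a) (he : B.h e e = 0)
    (hw : B.h w e = 0) (hw' : B.h w' e = 0) : B.InT e (w + w') := by
  obtain ⟨t, ht⟩ := exists_trace hσ2 hσ (c := - B.h w w) (by rw [map_neg, ← B.symm])
  obtain ⟨t', ht'⟩ := exists_trace hσ2 hσ (c := - B.h w' w') (by rw [map_neg, ← B.symm])
  obtain ⟨g, hg⟩ := B.exists_sie he hw ht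
  obtain ⟨g', hg'⟩ := B.exists_sie he hw' ht'
  exact HF.InT.of_one (hg.mul hg') (mul_mem (h _ _ hg) (h' _ _ hg'))

theorem HF.InT.self {B : HF σ V} {e : V} (hσ2 : ∀ a, σ (σ a) = a) (s : F) : B.InT e (s • e) := by
  intro a g hg
  have he := hg.1
  have h1 : B.IsSie e 0 (a + s - σ s) g := by
    refine ⟨he, B.zero_left _, ?_, ?_⟩
    · have h2 := hg.2.2.1
      rw [B.smul_left, B.smul_right, he, mul_zero, mul_zero, neg_zero] at h2
      rw [B.zero_left, neg_zero, map_sub, map_add, hσ2]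
      linear_combination h2
    · intro x
      rw [hg.2.2.2, B.smul_right, B.zero_right, zero_smul, smul_zero]
      module
  exact h1.mem_Tv

theorem HF.InT.iso {B : HF σ V} {e w : V} (hσ2 : ∀ a, σ (σ a) = a) (hσ : ∃ a, σ a ≠ a)
    (he : B.h e e = 0) (hw : B.h w w = 0) (hwe : B.h w e = 0) : B.InT e w := by
  obtain ⟨c, hc, hcσ⟩ := exists_skew hσ2 hσ
  have hew : B.h e w = 0 := B.eq_zero_comm.mp hwe
  set w' := c⁻¹ • w with hw'
  have hww' : B.h w' w' = 0 := by rw [hw', B.smul_left, B.smul_right, hw, mul_zero, mul_zero]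
  have hw'e : B.h w' e = 0 := by rw [hw', B.smul_left, hwe, mul_zero]
  have hew' : B.h e w' = 0 := B.eq_zero_comm.mp hw'e
  have hcw : c • w' = w := by rw [hw', smul_smul, mul_inv_cancel₀ hc, one_smul]
  obtain ⟨g1, hg1⟩ := B.exists_sie (e := e + w') (w := 0) (a := c)
    (by simp only [B.add_left, B.add_right, he, hww', hw'e, hew']; ring) (B.zero_left _)
    (by rw [B.zero_left, hcσ]; ring)
  obtain ⟨g2, hg2⟩ := B.exists_sie (e := e) (w := 0) (a := -c) he (B.zero_left _)
    (by rw [B.zero_left, map_neg, hcσ]; ring)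
  obtain ⟨g3, hg3⟩ := B.exists_sie (e := w') (w := 0) (a := -c) hww' (B.zero_left _)
    (by rw [B.zero_left, map_neg, hcσ]; ring)
  apply HF.InT.of_one (a := 0) (g := g1 * g2 * g3) _
    (mul_mem (mul_mem hg1.mem_Tv hg2.mem_Tv) hg3.mem_Tv)
  refine ⟨he, hwe, by rw [hw, map_zero]; ring, ?_⟩
  intro x
  show g1 (g2 (g3 x)) = _
  have e3 : g3 x = x + (-c * B.h x w') • w' := by
    rw [hg3.2.2.2, B.zero_right, zero_smul, smul_zero]; abel
  have e2 : ∀ y, g2 y = y + (-c * B.h y e) • e := by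
    intro y; rw [hg2.2.2.2, B.zero_right, zero_smul, smul_zero]; abel
  have e1 : ∀ y, g1 y = y + (c * B.h y (e + w')) • (e + w') := by
    intro y; rw [hg1.2.2.2, B.zero_right, zero_smul, smul_zero]; abel
  rw [e1, e2, e3]
  have hxw : B.h x w = -c * B.h x w' := by
    rw [← hcw, B.smul_right, hcσ]
  simp only [B.add_left, B.add_right, B.smul_left, he, hww', hw'e, hew', hxw, mul_zero, add_zero]
  rw [← hcw]
  module

/-- sums of isotropic vectors -/
theorem HF.ND.sum_isotropic [Finite F] [FiniteDimensional F V] {B : HF σ V} (hB : B.ND)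
    (hσ : orderOf σ = 2) (hn : 2 ≤ Module.finrank F V) (w : V) :
    ∃ x y, w = x + y ∧ B.h x x = 0 ∧ B.h y y = 0 := by
  obtain ⟨h1, h2, h3⟩ := sigma_facts hσ
  by_cases hw : B.h w w = 0
  · exact ⟨w, 0, by rw [add_zero], hw, B.zero_left _⟩
  · obtain ⟨a, ha⟩ := exists_trace h1 h2 (c := 1) (map_one σ)
    have hww : σ (B.h w w) = B.h w w := (B.symm w w).symm
    have hli : LinearIndependent F (fun _ : Fin 1 => w) := by
      rw [linearIndependent_unique_iff]
      intro h0
      rw [h0, B.zero_left] at hw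
      exact hw rfl
    have hnd : ∀ a : Fin 1 → F, (∀ j, B.h (∑ i, a i • (fun _ : Fin 1 => w) i) ((fun _ : Fin 1 => w) j) = 0) →
        a = 0 := by
      intro a ha
      have := ha 0
      simp only [Fin.sum_univ_one, B.smul_left] at this
      funext i
      fin_cases i
      exact (mul_eq_zero.mp this).resolve_right hw
    have hfr := hB.finrank_perpF h1 hli
    rw [Fintype.card_fin] at hfr
    obtain ⟨⟨u, hu⟩, huu⟩ := (hB.perpF_nd hnd).exists_norm hσ (by omega)
      (c := -(a * σ a * B.h w w)) (by rw [map_neg, map_mul, map_mul, h1, hww]; ring)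
    have huw : B.h u w = 0 := HF.mem_perpF.mp hu 0
    have hwu : B.h w u = 0 := B.eq_zero_comm.mp huw
    have huu' : B.h u u = -(a * σ a * B.h w w) := huu
    refine ⟨a • w + u, w - (a • w + u), by abel, ?_, ?_⟩
    · simp only [B.add_left, B.add_right, B.smul_left, B.smul_right, huw, hwu, huu']
      ring
    · simp only [B.add_left, B.add_right, B.sub_left, B.sub_right, B.smul_left, B.smul_right, huw, hwu, huu']
      linear_combination (-B.h w w) * ha

/-- a nontrivial torus element in the transvection group -/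
theorem HF.torus_mem_Tv {B : HF σ V} (hσ2 : ∀ a, σ (σ a) = a) (hσ : ∃ a, σ a ≠ a) {e f : V}
    (he : B.h e e = 0) (hf : B.h f f = 0)
    (hef : B.h e f = 1) {l : F} (hl : l ≠ 0) (hlσ : σ l = l) :
    ∃ D ∈ B.Tv, D e = l • e ∧ D f = l⁻¹ • f ∧ ∀ x, B.h x e = 0 → B.h x f = 0 → D x = x := by
  have hfe : B.h f e = 1 := by rw [B.symm e f, hef, map_one]
  obtain ⟨ε, hε, hεσ⟩ := exists_skew hσ2 hσ
  -- Weyl elements
  have key : ∀ c : F, c ≠ 0 → σ c = -c → ∃ n ∈ B.Tv, n e = c • f ∧ n f = (-c⁻¹) • e ∧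
      ∀ x, B.h x e = 0 → B.h x f = 0 → n x = x := by
    intro c hc hcσ
    obtain ⟨g1, hg1⟩ := B.exists_sie (e := f) (w := 0) (a := c) hf (B.zero_left _)
      (by rw [B.zero_left, hcσ]; ring)
    obtain ⟨g2, hg2⟩ := B.exists_sie (e := e) (w := 0) (a := -c⁻¹) he (B.zero_left _)
      (by rw [B.zero_left, map_neg, map_inv₀, hcσ, inv_neg]; ring)
    have e1 : ∀ y, g1 y = y + (c * B.h y f) • f := by
      intro y; rw [hg1.2.2.2, B.zero_right, zero_smul, smul_zero]; abel
    have e2 : ∀ y, g2 y = y + (-c⁻¹ * B.h y e) • e := by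
      intro y; rw [hg2.2.2.2, B.zero_right, zero_smul, smul_zero]; abel
    refine ⟨g1 * g2 * g1, mul_mem (mul_mem hg1.mem_Tv hg2.mem_Tv) hg1.mem_Tv, ?_, ?_, ?_⟩
    · show g1 (g2 (g1 e)) = _
      rw [e1 e, e2]
      simp only [B.add_left, B.smul_left, he, hfe, hef]
      rw [e1]
      simp only [B.add_left, B.smul_left, he, hfe, hef, hf]
      have h5 : c * c⁻¹ = 1 := mul_inv_cancel₀ hc
      have h6 : -c⁻¹ * (0 + c * 1 * 1) = -1 := by
        rw [zero_add, mul_one, mul_one]; linear_combination -h5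
      rw [h6]
      module
    · show g1 (g2 (g1 f)) = _
      rw [e1 f, hf, mul_zero, zero_smul, add_zero, e2, hfe, e1]
      simp only [B.add_left, B.smul_left, he, hfe, hef, hf]
      have h6 : c * (0 + -c⁻¹ * 1 * 1) = -1 := by
        rw [zero_add, mul_one, mul_one, mul_neg, mul_inv_cancel₀ hc]
      rw [h6]
      module
    · intro x hxe hxf
      show g1 (g2 (g1 x)) = _
      rw [e1 x, hxf, mul_zero, zero_smul, add_zero, e2, hxe, mul_zero, zero_smul, add_zero, e1, hxf,
        mul_zero, zero_smul, add_zero]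
  obtain ⟨n1, hn1, h1e, h1f, h1x⟩ := key ε hε hεσ
  obtain ⟨n2, hn2, h2e, h2f, h2x⟩ := key (l * ε) (mul_ne_zero hl hε) (by rw [map_mul, hεσ, hlσ]; ring)
  refine ⟨n1⁻¹ * n2, mul_mem (inv_mem hn1) hn2, ?_, ?_, ?_⟩
  · show n1.symm (n2 e) = _
    rw [h2e, LinearEquiv.symm_apply_eq, map_smul, h1e, smul_smul]
  · show n1.symm (n2 f) = _
    rw [h2f, LinearEquiv.symm_apply_eq, map_smul, h1f, smul_smul, mul_inv]
    congr 1
    ring
  · intro x hxe hxf
    show n1.symm (n2 x) = _
    rw [h2x x hxe hxf, LinearEquiv.symm_apply_eq, h1x x hxe hxf]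

/-- the two cases in which transvections generate -/
theorem HF.ND.Om_le_Tv [Finite F] [FiniteDimensional F V] {B : HF σ V} (hB : B.ND)
    (hσ : orderOf σ = 2) (hn : Module.finrank F V = 2 ∨ 4 ≤ Module.finrank F V ∨
      (∃ l : F, l ≠ 0 ∧ l ≠ 1 ∧ σ l = l)) : B.Om ≤ B.Tv := by
  obtain ⟨h1, h2, h3⟩ := sigma_facts hσ
  rw [HF.Om, Subgroup.closure_le]
  rintro g ⟨e, w, a, hg⟩
  have he := hg.1
  have hwe := hg.2.1
  by_cases he0 : e = 0
  · subst he0
    have : g = 1 := by
      apply LinearEquiv.ext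
      intro x
      rw [hg.2.2.2, B.zero_right]; simp
    rw [this]; exact one_mem _
  obtain ⟨f, hf, hef⟩ := hB.exists_partner h1 h2 he0 he
  have hfe : B.h f e = 1 := by rw [B.symm e f, hef, map_one]
  suffices h : B.InT e w from h _ _ hg
  obtain ⟨s, b, z, hz, hw⟩ := HF.decomp_pr he hf hef w
  rw [HF.mem_perp_pr] at hz
  have hb : b = 0 := by
    rw [hw] at hwe
    simp only [B.add_left, B.smul_left, he, hfe, hz.1] at hwe
    simpa using hwe
  have hw2 : w = s • e + z := by rw [hw, hb, zero_smul, add_zero]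
  have hse : B.h (s • e) e = 0 := by rw [B.smul_left, he, mul_zero]
  rw [hw2]
  apply HF.InT.add (HF.InT.self h1 s) _ h1 h2 he hse hz.1
  have hfr := hB.finrank_perpF h1 (HF.pr_li he hf hef)
  rw [Fintype.card_fin] at hfr
  have hnd := hB.perpF_nd (HF.pr_nd he hf hef)
  rcases hn with hn | hn | ⟨l, hl0, hl1, hlσ⟩
  · have hbot : B.perpF (pr e f) = ⊥ := by
      rw [← Submodule.finrank_eq_zero (R := F)]; omega
    have hz0 : z = 0 := by
      have : z ∈ B.perpF (pr e f) := HF.mem_perp_pr.mpr hz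
      rw [hbot] at this
      exact (Submodule.mem_bot F).mp this
    rw [hz0]
    have := HF.InT.self (B := B) (e := e) h1 0
    rwa [zero_smul] at this
  · obtain ⟨x, y, hxy, hx, hy⟩ := hnd.sum_isotropic hσ (by omega) ⟨z, HF.mem_perp_pr.mpr hz⟩
    have hzxy : z = (x : V) + (y : V) := congrArg Subtype.val hxy
    have hx2 := HF.mem_perp_pr.mp x.2
    have hy2 := HF.mem_perp_pr.mp y.2
    rw [hzxy]
    exact HF.InT.add (HF.InT.iso h1 h2 he hx hx2.1) (HF.InT.iso h1 h2 he hy hy2.1) h1 h2 he hx2.1 hy2.1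
  · obtain ⟨D, hD, hDe, hDf, hDx⟩ := HF.torus_mem_Tv h1 h2 he hf hef hl0 hlσ
    have hD2 : D ∈ B.iso := B.siso_le (B.Om_le (B.Tv_le_Om hD))
    -- use `z' = (l - 1)⁻¹ z`
    have hl1' : l - 1 ≠ 0 := sub_ne_zero.mpr hl1
    set z' := (l - 1)⁻¹ • z with hz'
    have hz'e : B.h z' e = 0 := by rw [hz', B.smul_left, hz.1, mul_zero]
    have hz'f : B.h z' f = 0 := by rw [hz', B.smul_left, hz.2, mul_zero]
    obtain ⟨t, ht⟩ := exists_trace h1 h2 (c := - B.h z' z') (by rw [map_neg, ← B.symm])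
    obtain ⟨k, hk⟩ := B.exists_sie he hz'e ht
    have hk2 := hk.conj hD2
    rw [hDe, hDx z' hz'e hz'f] at hk2
    have hk3 : B.IsSie e (l • z') (l ^ 2 * t) (D * k * D⁻¹) := by
      refine ⟨he, by rw [B.smul_left, hz'e, mul_zero], ?_, ?_⟩
      · rw [B.smul_left, B.smul_right, map_mul, map_pow, hlσ]
        linear_combination l ^ 2 * ht
      · intro x
        rw [hk2.2.2.2, B.smul_right l x e, B.smul_right l x z', hlσ]
        module
    have hk4 := hk3.mul (hk.inv h1)
    have e5 : l • z' + -z' = z := by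
      rw [hz']
      have : l • (l - 1)⁻¹ • z + -((l - 1)⁻¹ • z) = ((l - 1) * (l - 1)⁻¹) • z := by module
      rw [this, mul_inv_cancel₀ hl1', one_smul]
    rw [e5] at hk4
    apply HF.InT.of_one hk4
    have : D * k * D⁻¹ * k⁻¹ = D * (k * D⁻¹ * k⁻¹) := by group
    rw [this]
    exact mul_mem hD (HF.conj_Tv hk.mem_iso (inv_mem hD))

/-- transvections are commutators -/
theorem HF.ND.tv_comm [Finite F] [FiniteDimensional F V] {B : HF σ V} (hB : B.ND)
    (hσ : orderOf σ = 2) (hn : 3 ≤ Module.finrank F V) {e : V} {c : F} {g : V ≃ₗ[F] V}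
    (hg : B.IsSie e 0 c g) : ∃ x ∈ B.siso, ∃ y ∈ B.siso, g = x * y * x⁻¹ * y⁻¹ := by
  obtain ⟨h1, h2, h3⟩ := sigma_facts hσ
  have he := hg.1
  by_cases he0 : e = 0
  · subst he0
    have : g = 1 := by
      apply LinearEquiv.ext
      intro x
      rw [hg.2.2.2, B.zero_right]; simp
    exact ⟨1, one_mem _, 1, one_mem _, by rw [this]; group⟩
  obtain ⟨f, hf, hef⟩ := hB.exists_partner h1 h2 he0 he
  obtain ⟨w, hwe, hwf, hww⟩ := hB.exists_norm_perp_pr hσ hn he hf hef (c := 1) (map_one σ)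
  obtain ⟨b, hb⟩ := exists_trace h1 h2 (c := 1) (map_one σ)
  have hc : c + σ c = 0 := by
    have := hg.2.2.1
    rwa [B.zero_left, neg_zero] at this
  set l := -(c * b) with hl
  have hlw : B.h (l • w) e = 0 := by rw [B.smul_left, hwe, mul_zero]
  obtain ⟨s, hs⟩ := exists_trace h1 h2 (c := - B.h w w) (by rw [map_neg, ← B.symm])
  obtain ⟨s', hs'⟩ := exists_trace h1 h2 (c := - B.h (l • w) (l • w)) (by rw [map_neg, ← B.symm])
  obtain ⟨x, hx⟩ := B.exists_sie he hwe hs
  obtain ⟨y, hy⟩ := B.exists_sie he hlw hs'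
  refine ⟨x, hx.mem, y, hy.mem, ?_⟩
  have hxy := hx.mul hy
  have hyx := hy.mul hx
  have h4 := hg.mul hyx
  have h5 : g * (y * x) = x * y := by
    have e1 : (0 : V) + (l • w + w) = w + l • w := by abel
    have e2 : c + (s' + s - B.h w (l • w)) - B.h (l • w + w) 0 = s + s' - B.h (l • w) w := by
      rw [B.zero_right, B.smul_left, B.smul_right, hww, hl, map_neg, map_mul]
      linear_combination -c * hb + σ b * hc
    rw [e1, e2] at h4
    exact h4.unique hxy
  calc g = (g * (y * x)) * x⁻¹ * y⁻¹ := by group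
    _ = _ := by rw [h5]

end Tv

end Cfsg.Agent.Lib.Herm
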