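import Mathlib
import Cfsg.Agent.Lib.Herm7

/-! Normal subgroups and centre of special unitary groups. -/

set_option linter.all false
set_option maxHeartbeats 400000

namespace Cfsg.Agent.Lib.Herm

open Matrix Cfsg.Agent.Lib.FinGal

section Nor

variable {F : Type*} [Field F] {σ : F ≃+* F} {V : Type*} [AddCommGroup V] [Module F V]

/-- an isometry fixing all isotropic lines is a scalar -/
theorem HF.ND.scalar_of_lines [Finite F] [FiniteDimensional F V] {B : HF σ V} (hB : B.ND)
    (hσ : orderOf σ = 2) (hn : 2 ≤ Module.finrank F V) {g : V ≃ₗ[F] V} (hg : g ∈ B.iso)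
    (h : ∀ x, B.h x x = 0 → ∃ l : F, g x = l • x) : ∃ l : F, ∀ x, g x = l • x := by
  obtain ⟨h1, h2, h3⟩ := sigma_facts hσ
  obtain ⟨e, he0, he⟩ := hB.exists_isotropic hσ hn
  obtain ⟨f, hf, hef⟩ := hB.exists_partner h1 h2 he0 he
  have hfe : B.h f e = 1 := by rw [B.symm e f, hef, map_one]
  obtain ⟨α, hα⟩ := h e he
  obtain ⟨β, hβ⟩ := h f hf
  have hα0 : α ≠ 0 := by
    rintro rfl
    rw [zero_smul] at hα
    exact he0 ((LinearEquiv.map_eq_zero_iff g).mp hα)
  have hf0 : f ≠ 0 := by
    rintro rfl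
    rw [B.zero_right] at hef
    exact zero_ne_one hef
  have hβ0 : β ≠ 0 := by
    rintro rfl
    rw [zero_smul] at hβ
    exact hf0 ((LinearEquiv.map_eq_zero_iff g).mp hβ)
  have key : ∀ z ∈ B.perpF (pr e f), g z = α • z ∧ (∀ c, c ≠ 0 → c + σ c = - B.h z z → β = α) := by
    intro z hz
    rw [HF.mem_perp_pr] at hz
    have hgz1 : B.h (g z) e = 0 := by
      have := hg z e
      rw [hα, B.smul_right, hz.1] at this
      exact (mul_eq_zero.mp this).resolve_left (sigma_ne_zero.mpr hα0)
    have hgz2 : B.h (g z) f = 0 := by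
      have := hg z f
      rw [hβ, B.smul_right, hz.2] at this
      exact (mul_eq_zero.mp this).resolve_left (sigma_ne_zero.mpr hβ0)
    have aux : ∀ c, c + σ c = - B.h z z → g z = α • z ∧ c * β = c * α := by
      intro c hc
      obtain ⟨γ, hγ⟩ := h (e + z + c • f) (by
        simp only [B.add_left, B.add_right, B.smul_left, B.smul_right, he, hf, hef, hfe, hz.1, hz.2,
          B.eq_zero_comm.mp hz.1, B.eq_zero_comm.mp hz.2]
        linear_combination hc)
      rw [map_add, map_add, map_smul, hα, hβ] at hγ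
      have h5 := congrArg (fun x => B.h x f) hγ
      simp only [B.add_left, B.smul_left, hef, hf, hgz2, hz.2] at h5
      have h6 : α = γ := by linear_combination h5
      have h7 := congrArg (fun x => B.h x e) hγ
      simp only [B.add_left, B.smul_left, hfe, he, hgz1, hz.1] at h7
      have h8 : c * β = c * γ := by linear_combination h7
      refine ⟨?_, by rw [h8, h6]⟩
      have h9 : g z = γ • (e + z + c • f) - α • e - c • β • f := by rw [← hγ]; abel
      rw [h9, h6, smul_smul, h8]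
      module
    obtain ⟨c, hc⟩ := exists_trace h1 h2 (c := - B.h z z) (by rw [map_neg, ← B.symm])
    refine ⟨(aux c hc).1, fun c hc0 hc => ?_⟩
    exact mul_left_cancel₀ hc0 (aux c hc).2
  obtain ⟨ε, hε, hεσ⟩ := exists_skew h1 h2
  have hβα : β = α := (key 0 (Submodule.zero_mem _)).2 ε hε (by rw [B.zero_left, hεσ]; ring)
  refine ⟨α, fun x => ?_⟩
  obtain ⟨a, b, z, hz, rfl⟩ := HF.decomp_pr he hf hef x
  rw [map_add, map_add, map_smul, map_smul, hα, hβ, (key z hz).1, hβα]
  module

/-- central elements are scalars -/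
theorem HF.ND.central_scalar [Finite F] [FiniteDimensional F V] {B : HF σ V} (hB : B.ND)
    (hσ : orderOf σ = 2) (hn : 2 ≤ Module.finrank F V) {g : V ≃ₗ[F] V} (hg : g ∈ B.iso)
    (h : ∀ k ∈ B.siso, g * k = k * g) : ∃ l : F, ∀ x, g x = l • x := by
  obtain ⟨h1, h2, h3⟩ := sigma_facts hσ
  apply hB.scalar_of_lines hσ hn hg
  intro x hx
  by_cases hx0 : x = 0
  · exact ⟨1, by rw [hx0, map_zero, smul_zero]⟩
  obtain ⟨ε, hε, hεσ⟩ := exists_skew h1 h2
  obtain ⟨k, hk⟩ := B.exists_sie (e := x) (w := 0) (a := ε) hx (B.zero_left _)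
    (by rw [B.zero_left, hεσ]; ring)
  obtain ⟨y, hy, hxy⟩ := hB.exists_partner h1 h2 hx0 hx
  have hyx : B.h y x = 1 := by rw [B.symm x y, hxy, map_one]
  have h4 := congrArg (fun t => t y) (h k hk.mem)
  have h5 : g (k y) = k (g y) := h4
  rw [hk.2.2.2, hk.2.2.2, B.zero_right, B.zero_right, hyx] at h5
  have h6 : ε • g x = (ε * B.h (g y) x) • x := by
    rw [map_add, map_sub, map_add, map_smul, map_smul, map_smul, map_zero] at h5
    simp only [smul_zero, zero_smul, sub_zero, add_zero, mul_one] at h5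
    exact add_left_cancel h5
  refine ⟨B.h (g y) x, ?_⟩
  have h7 := congrArg (fun t => ε⁻¹ • t) h6
  simp only [smul_smul] at h7
  rw [inv_mul_cancel₀ hε, one_smul, ← mul_assoc, inv_mul_cancel₀ hε, one_mul] at h7
  exact h7

/-- normal subgroups of the special unitary group -/
theorem HF.ND.normal_or [Finite F] [FiniteDimensional F V] {B : HF σ V} (hB : B.ND)
    (hσ : orderOf σ = 2) (hn : 3 ≤ Module.finrank F V) (hgen : B.siso ≤ B.Tv)
    (N : Subgroup (V ≃ₗ[F] V)) (hN : N ≤ B.siso)
    (hnorm : ∀ g ∈ B.siso, ∀ n ∈ N, g * n * g⁻¹ ∈ N) :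
    (∀ g ∈ N, ∃ l : F, ∀ x, g x = l • x) ∨ B.siso ≤ N := by
  obtain ⟨h1, h2, h3⟩ := sigma_facts hσ
  by_cases hA : ∀ g ∈ N, ∀ x, B.h x x = 0 → ∃ l : F, g x = l • x
  · left
    intro g hg
    exact hB.scalar_of_lines hσ (by omega) (B.siso_le (hN hg)) (hA g hg)
  right
  push Not at hA
  obtain ⟨g0, hg0, u, huu, hu⟩ := hA
  let rel : V → V → Prop := fun x y => ∃ g ∈ N, ∃ l : F, l ≠ 0 ∧ g x = l • y
  have rsymm : ∀ {x y}, rel x y → rel y x := by
    rintro x y ⟨g, hg, l, hl, h⟩
    refine ⟨g⁻¹, inv_mem hg, l⁻¹, inv_ne_zero hl, ?_⟩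
    show g.symm y = _
    rw [LinearEquiv.symm_apply_eq, map_smul, h, smul_smul, inv_mul_cancel₀ hl, one_smul]
  have rtrans : ∀ {x y z}, rel x y → rel y z → rel x z := by
    rintro x y z ⟨g, hg, l, hl, h⟩ ⟨g', hg', l', hl', h'⟩
    refine ⟨g' * g, mul_mem hg' hg, l * l', mul_ne_zero hl hl', ?_⟩
    show g' (g x) = _
    rw [h, map_smul, h', smul_smul]
  have rscale : ∀ (x : V) {l : F}, l ≠ 0 → rel (l • x) x := fun x l hl => ⟨1, one_mem _, l, hl, rfl⟩
  have rinv : ∀ {x y}, rel x y → ∀ k ∈ B.siso, rel (k x) (k y) := by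
    rintro x y ⟨g, hg, l, hl, h⟩ k hk
    refine ⟨k * g * k⁻¹, hnorm k hk g hg, l, hl, ?_⟩
    show k (g (k.symm (k x))) = _
    rw [LinearEquiv.symm_apply_apply, h, map_smul]
  -- non-orthogonal step
  have NO : ∀ u v w : V, B.h u u = 0 → B.h v v = 0 → B.h w w = 0 → B.h u v ≠ 0 → B.h u w ≠ 0 →
      rel u v → rel u w := by
    intro u v w hu hv hw huv huw hr
    have hvu : B.h v u ≠ 0 := fun h => huv (B.eq_zero_comm.mp h)
    have hwu : B.h w u ≠ 0 := fun h => huw (B.eq_zero_comm.mp h)
    have hm : B.h v u * (B.h w u)⁻¹ ≠ 0 := mul_ne_zero hvu (inv_ne_zero hwu)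
    obtain ⟨_, _, k, hk, hk2⟩ := B.sie_trans (e := u) (x := v) (y := (B.h v u * (B.h w u)⁻¹) • w) hu hv
      (by rw [B.smul_left, B.smul_right, hw, mul_zero, mul_zero]) hvu
      (by rw [B.smul_left, mul_assoc, inv_mul_cancel₀ hwu, mul_one])
    have h4 := rinv hr k hk.mem
    rw [HF.sie_fix hk, hk2] at h4
    exact rtrans h4 (rscale w hm)
  -- orthogonal step
  have OR : ∀ u v w : V, u ≠ 0 → B.h u u = 0 → B.h v v = 0 → B.h w w = 0 → B.h u v = 0 →
      B.h u w = 0 → (∀ l : F, v ≠ l • u) → (∀ l : F, w ≠ l • u) → rel u v → rel u w := by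
    intro u v w hu0 hu hv hw huv huw hvl hwl hr
    have li : ∀ v : V, (∀ l : F, v ≠ l • u) → LinearIndependent F ![u, v] := by
      intro v hv
      rw [LinearIndependent.pair_iff]
      intro s t hst
      have ht : t = 0 := by
        by_contra ht
        apply hv (-(t⁻¹ * s))
        have h5 := congrArg (fun x => t⁻¹ • x) hst
        simp only [smul_add, smul_smul, smul_zero] at h5
        rw [inv_mul_cancel₀ ht, one_smul] at h5
        rw [neg_smul]
        exact eq_neg_of_add_eq_zero_right h5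
      rw [ht, zero_smul, add_zero] at hst
      exact ⟨(smul_eq_zero.mp hst).resolve_right hu0, ht⟩
    have hvu : B.h v u = 0 := B.eq_zero_comm.mp huv
    have hwu : B.h w u = 0 := B.eq_zero_comm.mp huw
    obtain ⟨k0, hk0, hk1⟩ := hB.witt hσ (li v hvl) (li w hwl) (by
      intro i j
      fin_cases i <;> fin_cases j <;> simp [hu, hv, hw, huv, huw, hvu, hwu])
    have hku : k0 u = u := hk1 0
    have hkv : k0 v = w := hk1 1
    obtain ⟨y, hy⟩ := hB.exists_of_li h1 (li w hwl) ![1, 0]
    have hyu : B.h y u = 1 := hy 0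
    have hyw : B.h y w = 0 := hy 1
    have huy : B.h u y = 1 := by rw [B.symm y u, hyu, map_one]
    obtain ⟨t, ht⟩ := exists_trace h1 h2 (c := - B.h y y) (by rw [map_neg, ← B.symm])
    set f := y + t • u with hf
    have hff : B.h f f = 0 := by
      rw [hf]
      simp only [B.add_left, B.add_right, B.smul_left, B.smul_right, hu, hyu, huy]
      linear_combination ht
    have hfu : B.h u f = 1 := by rw [hf, B.add_right, B.smul_right, hu, huy]; ring
    have hfw : B.h w f = 0 := by
      rw [hf, B.add_right, B.smul_right, hwu, B.eq_zero_comm.mp hyw]; ring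
    have hd := hB.det_norm hσ hk0
    set d := ((LinearEquiv.det k0 : Fˣ) : F) with hddef
    have hd0 : d ≠ 0 := by rw [hddef]; exact Units.ne_zero _
    obtain ⟨m, hm, hm2⟩ := hilbert90_two (c := d⁻¹) hσ (by
      rw [map_inv₀, ← mul_inv, hd, inv_one])
    have hσm : σ m ≠ 0 := sigma_ne_zero.mpr hm
    obtain ⟨D, hD, hdet, hDe, _, hDx⟩ := HF.exists_torus hu hff hfu hm
    have hk : D * k0 ∈ B.siso := by
      refine ⟨mul_mem hD hk0, ?_⟩
      show LinearEquiv.det (D * k0) = 1
      apply Units.ext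
      rw [map_mul, Units.val_mul, hdet, ← hddef, Units.val_one]
      have : m * (σ m)⁻¹ = d⁻¹ := by
        rw [← hm2]
        have h6 : σ m * (σ m)⁻¹ = 1 := mul_inv_cancel₀ hσm
        rw [hm2]
        calc m * (σ m)⁻¹ = (d⁻¹ * σ m) * (σ m)⁻¹ := by rw [hm2]
          _ = d⁻¹ := by rw [mul_assoc, h6, mul_one]
      rw [this, inv_mul_cancel₀ hd0]
    have h4 := rinv hr _ hk
    have e1 : (D * k0) u = m • u := by show D (k0 u) = _; rw [hku, hDe]
    have e2 : (D * k0) v = w := by
      show D (k0 v) = _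
      rw [hkv]
      exact hDx w hwu hfw
    rw [e1, e2] at h4
    exact rtrans (rsymm (rscale u hm)) h4
  have hu0 : u ≠ 0 := by
    rintro rfl
    exact hu 1 (by rw [map_zero, smul_zero])
  have hv : rel u (g0 u) := ⟨g0, hg0, 1, one_ne_zero, by rw [one_smul]⟩
  set v := g0 u with hvdef
  have hvv : B.h v v = 0 := by rw [hvdef, B.siso_le (hN hg0), huu]
  have all : ∀ w, w ≠ 0 → B.h w w = 0 → rel u w := by
    intro w hw0 hw
    by_cases huv : B.h u v = 0
    · by_cases huw : B.h u w = 0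
      · by_cases hwl : ∃ l : F, w = l • u
        · obtain ⟨l, rfl⟩ := hwl
          have hl : l ≠ 0 := by rintro rfl; exact hw0 (zero_smul F u)
          exact rsymm (rscale u hl)
        · push Not at hwl
          exact OR u v w hu0 huu hvv hw huv huw hu hwl hv
      · have hvu : B.h v u = 0 := B.eq_zero_comm.mp huv
        set s := v - (B.h v w * (B.h u w)⁻¹) • u with hs
        have hsw : B.h s w = 0 := by
          rw [hs, B.sub_left, B.smul_left, mul_assoc, inv_mul_cancel₀ huw, mul_one, sub_self]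
        have hsu : B.h s u = 0 := by rw [hs, B.sub_left, B.smul_left, huu, hvu]; ring
        have hss : B.h s s = 0 := by
          rw [hs]
          simp only [B.sub_left, B.sub_right, B.smul_left, B.smul_right, huu, hvu, huv, hvv]
          ring
        have hsl : ∀ l : F, s ≠ l • u := by
          intro l hl
          apply hu (l + B.h v w * (B.h u w)⁻¹)
          rw [add_smul, ← hl, hs]
          abel
        have hs0 : s ≠ 0 := by
          intro h0
          exact hsl 0 (by rw [h0, zero_smul])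
        have r1 : rel u s := OR u v s hu0 huu hvv hss huv (B.eq_zero_comm.mp hsu) hu hsl hv
        have r2 : rel s w := by
          apply OR s u w hs0 hss huu hw hsu hsw _ _ (rsymm r1)
          · intro l hl
            by_cases hl0 : l = 0
            · subst hl0; rw [zero_smul] at hl; exact hu0 hl
            · apply hsl l⁻¹
              rw [hl, smul_smul, inv_mul_cancel₀ hl0, one_smul]
          · intro l hl
            apply huw
            rw [hl, B.smul_right, B.eq_zero_comm.mp hsu, mul_zero]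
        exact rtrans r1 r2
    · by_cases huw : B.h u w = 0
      · obtain ⟨s, hs, hsu, hsw⟩ := hB.exists_joint h1 h2 hu0 hw0 huu huw
        have r1 : rel u s := NO u v s huu hvv hs huv (fun h => hsu (B.eq_zero_comm.mp h)) hv
        have r2 : rel s w := NO s u w hs huu hw hsu hsw (rsymm r1)
        exact rtrans r1 r2
      · exact NO u v w huu hvv hw huv huw hv
  -- every element is `n * k` with `k` a transvection at `u`
  have hP : ∀ g ∈ B.Tv, ∃ n ∈ N, ∃ c k, B.IsSie u 0 c k ∧ g = n * k := by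
    intro g hg
    induction hg using Subgroup.closure_induction with
    | mem g hg =>
      obtain ⟨e, c, hg⟩ := hg
      by_cases he0 : e = 0
      · subst he0
        refine ⟨1, one_mem _, 0, 1, ⟨huu, B.zero_left _, by rw [B.zero_left, map_zero]; ring, ?_⟩, ?_⟩
        · intro x
          rw [B.zero_right]; simp
        · apply LinearEquiv.ext
          intro x
          rw [hg.2.2.2, B.zero_right]; simp
      · obtain ⟨n, hn, l, hl, hnl⟩ := all e he0 hg.1
        have hσl : σ l ≠ 0 := sigma_ne_zero.mpr hl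
        have hc : c + σ c = 0 := by
          have := hg.2.2.1
          rwa [B.zero_left, neg_zero] at this
        obtain ⟨k, hk⟩ := B.exists_sie (e := u) (w := 0) (a := c * (l * σ l)⁻¹) huu (B.zero_left _) (by
          rw [B.zero_left, map_mul, map_inv₀, map_mul, h1, mul_comm (σ l) l, ← add_mul, hc]; ring)
        have hk2 := hk.conj (B.siso_le (hN hn))
        have hg2 : g = n * k * n⁻¹ := by
          apply LinearEquiv.ext
          intro x
          rw [hk2.2.2.2, hg.2.2.2, hnl, map_zero, B.zero_right, B.smul_right]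
          simp only [smul_zero, zero_smul, add_zero, sub_zero, smul_smul, zero_mul]
          congr 2
          field_simp
        refine ⟨n * (k * n⁻¹ * k⁻¹), mul_mem hn (hnorm k hk.mem _ (inv_mem hn)), _, k, hk, ?_⟩
        rw [hg2]; group
    | one =>
      refine ⟨1, one_mem _, 0, 1, ⟨huu, B.zero_left _, by rw [B.zero_left, map_zero]; ring, ?_⟩, ?_⟩
      · intro x
        rw [B.zero_right]; simp
      · group
    | mul x y _ _ hx hy =>
      obtain ⟨n, hn, c, k, hk, rfl⟩ := hx
      obtain ⟨n', hn', c', k', hk', rfl⟩ := hy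
      refine ⟨n * (k * n' * k⁻¹), mul_mem hn (hnorm k hk.mem _ hn'), c + c', k * k', ?_, by group⟩
      have := hk.mul hk'
      have e1 : (0 : V) + 0 = 0 := add_zero 0
      have e2 : c + c' - B.h 0 0 = c + c' := by rw [B.zero_left, sub_zero]
      rwa [e1, e2] at this
    | inv x _ hx =>
      obtain ⟨n, hn, c, k, hk, rfl⟩ := hx
      refine ⟨k⁻¹ * n⁻¹ * k, ?_, σ c, k⁻¹, ?_, by group⟩
      · have := hnorm k⁻¹ (inv_mem hk.mem) _ (inv_mem hn)
        rwa [inv_inv] at this
      · have := hk.inv h1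
        rwa [neg_zero] at this
  have hcomm : ∀ x ∈ B.siso, ∀ y ∈ B.siso, x * y * x⁻¹ * y⁻¹ ∈ N := by
    intro x hx y hy
    obtain ⟨n, hn, c, k, hk, rfl⟩ := hP x (hgen hx)
    obtain ⟨n', hn', c', k', hk', rfl⟩ := hP y (hgen hy)
    have hkk : k * k' = k' * k := by
      have a1 := hk.mul hk'
      have a2 := hk'.mul hk
      have e2 : c + c' - B.h 0 0 = c' + c - B.h 0 0 := by ring
      rw [e2] at a1
      exact a1.unique a2
    have e3 : (n * k) * (n' * k') * (n * k)⁻¹ * (n' * k')⁻¹ =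
        n * (k * n' * k⁻¹) * (k' * n⁻¹ * k'⁻¹) * n'⁻¹ := by
      have h7 : k * k' * k⁻¹ = k' := by rw [hkk]; group
      calc (n * k) * (n' * k') * (n * k)⁻¹ * (n' * k')⁻¹
          = n * (k * n' * k⁻¹) * ((k * k' * k⁻¹) * n⁻¹) * k'⁻¹ * n'⁻¹ := by group
        _ = _ := by rw [h7]; group
    rw [e3]
    exact mul_mem (mul_mem (mul_mem hn (hnorm k hk.mem _ hn')) (hnorm k' hk'.mem _ (inv_mem hn)))
      (inv_mem hn')
  refine hgen.trans ?_
  rw [HF.Tv, Subgroup.closure_le]
  rintro g ⟨e, c, hg⟩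
  obtain ⟨x, hx, y, hy, rfl⟩ := hB.tv_comm hσ hn hg
  exact hcomm x hx y hy

/-- simplicity -/
theorem HF.ND.simple [Finite F] [FiniteDimensional F V] {B : HF σ V} (hB : B.ND)
    (hσ : orderOf σ = 2) (hn : 3 ≤ Module.finrank F V) (hgen : B.siso ≤ B.Tv) :
    IsSimpleGroup (B.siso ⧸ Subgroup.center B.siso) := by
  obtain ⟨h1, h2, h3⟩ := sigma_facts hσ
  have hnt : Nontrivial (B.siso ⧸ Subgroup.center B.siso) := by
    obtain ⟨e, he0, he⟩ := hB.exists_isotropic hσ (by omega)
    obtain ⟨ε, hε, hεσ⟩ := exists_skew h1 h2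
    obtain ⟨k, hk⟩ := B.exists_sie (e := e) (w := 0) (a := ε) he (B.zero_left _)
      (by rw [B.zero_left, hεσ]; ring)
    obtain ⟨x, hx, y, hy, hxy⟩ := hB.tv_comm hσ hn hk
    refine ⟨⟨QuotientGroup.mk ⟨x, hx⟩, 1, ?_⟩⟩
    intro h
    rw [QuotientGroup.eq_one_iff, Subgroup.mem_center_iff] at h
    have h4 := congrArg Subtype.val (h ⟨y, hy⟩)
    have h5 : y * x = x * y := h4
    have h6 : k = 1 := by rw [hxy, ← h5]; group
    obtain ⟨f, hf, hef⟩ := hB.exists_partner h1 h2 he0 he
    have hfe : B.h f e = 1 := by rw [B.symm e f, hef, map_one]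
    have h7 := hk.2.2.2 f
    rw [h6, B.zero_right, hfe] at h7
    have h8 : f = f + ε • e := by
      have h9 : (1 : V ≃ₗ[F] V) f = f := rfl
      rw [h9] at h7
      conv_lhs => rw [h7]
      simp
    have h9 : ε • e = 0 := by
      have h10 : f + 0 = f + ε • e := by rw [add_zero]; exact h8
      exact (add_left_cancel h10).symm
    exact (smul_ne_zero hε he0) h9
  refine ⟨fun N hN => ?_⟩
  let M : Subgroup B.siso := N.comap (QuotientGroup.mk' (Subgroup.center B.siso))
  have hM : M.Normal := inferInstance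
  rcases hB.normal_or hσ hn hgen (M.map B.siso.subtype) (by
    rintro _ ⟨x, _, rfl⟩; exact x.2) (by
    rintro g hg _ ⟨x, hx, rfl⟩
    exact ⟨⟨g, hg⟩ * x * ⟨g, hg⟩⁻¹, hM.conj_mem x hx ⟨g, hg⟩, rfl⟩) with h | h
  · left
    rw [eq_bot_iff]
    intro x hx
    obtain ⟨g, rfl⟩ := QuotientGroup.mk_surjective x
    have hg : g ∈ M := hx
    obtain ⟨l, hl⟩ := h (g : V ≃ₗ[F] V) ⟨g, hg, rfl⟩
    rw [Subgroup.mem_bot, QuotientGroup.eq_one_iff, Subgroup.mem_center_iff]
    intro k
    apply Subtype.ext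
    apply LinearEquiv.ext
    intro y
    show (k : V ≃ₗ[F] V) ((g : V ≃ₗ[F] V) y) = (g : V ≃ₗ[F] V) ((k : V ≃ₗ[F] V) y)
    rw [hl, hl, map_smul]
  · right
    rw [eq_top_iff]
    intro x _
    obtain ⟨g, rfl⟩ := QuotientGroup.mk_surjective x
    obtain ⟨g', hg', hgg⟩ := h g.2
    have : g' = g := Subtype.ext hgg
    rw [this] at hg'
    exact hg'

end Nor

end Cfsg.Agent.Lib.Herm
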