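import Mathlib
import Cfsg.Agent.Lib.Herm8

/-! Matrix versions: centre, transvections. -/

set_option linter.all false
set_option maxHeartbeats 400000

namespace Cfsg.Agent.Lib.Herm

open Matrix Cfsg.Agent.Lib.FinGal

theorem map_center_equiv {G H : Type*} [Group G] [Group H] (e : G ≃* H) :
    (Subgroup.center G).map (e : G →* H) = Subgroup.center H := by
  ext x
  constructor
  · rintro ⟨y, hy, rfl⟩
    rw [Subgroup.mem_center_iff]
    intro z
    obtain ⟨w, rfl⟩ := e.surjective z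
    show e w * e y = e y * e w
    rw [← map_mul, ← map_mul, Subgroup.mem_center_iff.mp hy w]
  · intro hx
    refine ⟨e.symm x, ?_, e.apply_symm_apply x⟩
    show e.symm x ∈ Subgroup.center G
    rw [Subgroup.mem_center_iff]
    intro z
    apply e.injective
    rw [map_mul, map_mul, e.apply_symm_apply]
    exact Subgroup.mem_center_iff.mp hx (e z)

noncomputable def centerQuot {G H : Type*} [Group G] [Group H] (e : G ≃* H) :
    G ⧸ Subgroup.center G ≃* H ⧸ Subgroup.center H :=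
  QuotientGroup.congr _ _ e (map_center_equiv e)

theorem card_pow_eq_one {G : Type*} [CommGroup G] [IsCyclic G] [Finite G] {d : ℕ}
    (hd : d ∣ Nat.card G) : Nat.card {x : G // x ^ d = 1} = d := by
  let f : G →* G := powMonoidHom d
  have hidx : f.range.index = d := by
    have := IsCyclic.index_powMonoidHom_range (G := G) d
    rw [this]
    exact Nat.gcd_eq_right hd
  have e1 := Subgroup.card_mul_index f.ker
  have e2 := Subgroup.card_mul_index f.range
  rw [Subgroup.index_ker] at e1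
  rw [hidx] at e2
  have hpos : 0 < Nat.card f.range := Nat.card_pos
  have e3 : Nat.card f.ker * Nat.card f.range = d * Nat.card f.range := by
    rw [e1, ← e2, mul_comm]
  refine (Nat.card_congr (Equiv.subtypeEquivRight fun x => ?_)).trans
    (Nat.eq_of_mul_eq_mul_right hpos e3)
  rw [MonoidHom.mem_ker]; rfl

theorem exists_lam {F : Type*} [Field F] [Fintype F] {σ : F ≃+* F} {q : ℕ}
    (hF : Fintype.card F = q ^ 2) (hσ : orderOf σ = 2) (hq : 2 < q) :
    ∃ l : F, l ≠ 0 ∧ l ≠ 1 ∧ σ l = l := by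
  classical
  have h1 := card_fixF σ
  rw [hσ, Nat.card_eq_fintype_card, hF] at h1
  have h2 : Nat.card (fixF σ) = q := by
    have := Nat.pow_left_injective (n := 2) (by norm_num) h1
    exact this.symm
  have h3 : 2 < Nat.card (fixF σ) := by rw [h2]; exact hq
  by_contra hcon
  push Not at hcon
  have h4 : ∀ x : fixF σ, x = 0 ∨ x = 1 := by
    intro x
    by_contra h
    push Not at h
    exact hcon x (fun h0 => h.1 (Subtype.ext h0)) (fun h0 => h.2 (Subtype.ext h0)) x.2
  have h5 : Nat.card (fixF σ) ≤ 2 := by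
    have : Function.Surjective (fun b : Bool => if b then (1 : fixF σ) else 0) := by
      intro x
      rcases h4 x with h | h
      · exact ⟨false, by simp [h]⟩
      · exact ⟨true, by simp [h]⟩
    have := Nat.card_le_card_of_surjective _ this
    simpa using this
  omega

section SUn

variable {F : Type*} [Field F] [Fintype F] {σ : F ≃+* F} {q n : ℕ}

theorem siso_le_Tv (hF : Fintype.card F = q ^ 2) (hσ : orderOf σ = 2) {V : Type*} [AddCommGroup V]
    [Module F V] [FiniteDimensional F V] {B : HF σ V} (hB : B.ND)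
    (hn : Module.finrank F V = 2 ∨ 4 ≤ Module.finrank F V ∨ 2 < q) : B.siso ≤ B.Tv := by
  rw [hB.siso_eq_Om hσ]
  apply hB.Om_le_Tv hσ
  rcases hn with h | h | h
  · exact Or.inl h
  · exact Or.inr (Or.inl h)
  · exact Or.inr (Or.inr (exists_lam hF hσ h))

theorem simple_PSU (hF : Fintype.card F = q ^ 2) (hn : 3 ≤ n) (h : ¬ (n = 3 ∧ q = 2)) :
    IsSimpleGroup (Cfsg.PSU n F q) := by
  obtain ⟨σ, hσ, hq⟩ := exists_sigma hF
  obtain ⟨h1, h2, h3⟩ := sigma_facts hσ
  have hq1 := one_lt_q hF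
  have hfr : Module.finrank F (Fin n → F) = n := by simp
  have := (std_nd h1 n).simple hσ (by rw [hfr]; exact hn) (siso_le_Tv hF hσ (std_nd h1 n) (by
    rw [hfr]
    by_cases h4 : 4 ≤ n
    · exact Or.inr (Or.inl h4)
    · right; right
      have : n = 3 := by omega
      by_contra hcon
      exact h ⟨this, by omega⟩))
  exact (centerQuot (suEquiv h1 hq n)).isSimpleGroup_congr.mpr this

/-- the homomorphism from `SU` to linear equivalences -/
noncomputable def suPhi (F : Type*) [Field F] (n q : ℕ) :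
    Cfsg.SU n F q →* ((Fin n → F) ≃ₗ[F] (Fin n → F)) :=
  (gl n F).toMonoidHom.comp (Matrix.SpecialLinearGroup.toGL.comp (Cfsg.SU n F q).subtype)

theorem suPhi_apply (g : Cfsg.SU n F q) (x : Fin n → F) :
    suPhi F n q g x = ((g : SpecialLinearGroup (Fin n) F) : Matrix (Fin n) (Fin n) F) *ᵥ x := rfl

theorem suPhi_inj : Function.Injective (suPhi F n q) := by
  intro a b h
  have h3 := (gl n F).injective h
  apply Subtype.ext
  apply Subtype.ext
  exact congrArg Units.val h3

theorem suPhi_mem (hσ2 : ∀ a, σ (σ a) = a) (hq : ∀ a, σ a = a ^ q) (g : Cfsg.SU n F q) :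
    suPhi F n q g ∈ (std σ hσ2 n).siso := su_mem hσ2 hq g

theorem suPhi_surj (hσ2 : ∀ a, σ (σ a) = a) (hq : ∀ a, σ a = a ^ q)
    {k : (Fin n → F) ≃ₗ[F] (Fin n → F)} (hk : k ∈ (std σ hσ2 n).siso) :
    ∃ g : Cfsg.SU n F q, suPhi F n q g = k := by
  obtain ⟨g, hg⟩ := (suHom_bij (F := F) hσ2 hq n).2 ⟨k, hk⟩
  exact ⟨g, congrArg Subtype.val hg⟩

theorem ut_mulVec (v : Fin n → F) (c : F) (hq : ∀ a, σ a = a ^ q) (hσ2 : ∀ a, σ (σ a) = a)
    (x : Fin n → F) : Cfsg.unitaryTransvection n q v c *ᵥ x = x + (c * (std σ hσ2 n).h x v) • v := by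
  unfold Cfsg.unitaryTransvection
  rw [Matrix.add_mulVec, Matrix.one_mulVec, Matrix.smul_mulVec]
  congr 1
  funext i
  simp only [Pi.smul_apply, smul_eq_mul, Matrix.mulVec, dotProduct, Matrix.vecMulVec_apply]
  show _ = c * (∑ j, x j * σ (v j)) * v i
  rw [Finset.mul_sum, Finset.mul_sum, Finset.sum_mul]
  refine Finset.sum_congr rfl fun j _ => ?_
  rw [hq]
  ring

theorem isSie_iff (hq : ∀ a, σ a = a ^ q) (hσ2 : ∀ a, σ (σ a) = a) {v : Fin n → F} {c : F}
    (hv : (std σ hσ2 n).h v v = 0) (hc : c + σ c = 0) (A : Cfsg.SU n F q) :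
    (std σ hσ2 n).IsSie v 0 c (suPhi F n q A) ↔
      ((A : Matrix.SpecialLinearGroup (Fin n) F) : Matrix (Fin n) (Fin n) F) =
        Cfsg.unitaryTransvection n q v c := by
  constructor
  · intro h
    apply Matrix.toLin'.injective
    apply LinearMap.ext
    intro x
    rw [Matrix.toLin'_apply, Matrix.toLin'_apply, ut_mulVec v c hq hσ2, ← suPhi_apply, h.2.2.2,
      (std σ hσ2 n).zero_right]
    simp
  · intro h
    refine ⟨hv, (std σ hσ2 n).zero_left _, by rw [(std σ hσ2 n).zero_left, neg_zero, hc], ?_⟩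
    intro x
    rw [suPhi_apply, h, ut_mulVec v c hq hσ2, (std σ hσ2 n).zero_right]
    simp

theorem closure_ut (hF : Fintype.card F = q ^ 2) (hn : 3 ≤ n) (h : ¬ (n = 3 ∧ q = 2)) :
    Subgroup.closure {A : ↥(Cfsg.SU n F q) | ∃ (v : Fin n → F) (c : F),
      Cfsg.hermForm n F q v v = 0 ∧ ((A : Matrix.SpecialLinearGroup (Fin n) F) : Matrix (Fin n) (Fin n) F)
        = Cfsg.unitaryTransvection n q v c} = ⊤ := by
  obtain ⟨σ, hσ, hq⟩ := exists_sigma hF
  obtain ⟨h1, h2, h3⟩ := sigma_facts hσ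
  have hq1 := one_lt_q hF
  have hfr : Module.finrank F (Fin n → F) = n := by simp
  have hle : (std σ h1 n).siso ≤ (std σ h1 n).Tv := siso_le_Tv hF hσ (std_nd h1 n) (by
    rw [hfr]
    by_cases h4 : 4 ≤ n
    · exact Or.inr (Or.inl h4)
    · right; right
      have : n = 3 := by omega
      by_contra hcon
      exact h ⟨this, by omega⟩)
  rw [eq_top_iff]
  intro A _
  set S := {A : ↥(Cfsg.SU n F q) | ∃ (v : Fin n → F) (c : F),
      Cfsg.hermForm n F q v v = 0 ∧ ((A : Matrix.SpecialLinearGroup (Fin n) F) : Matrix (Fin n) (Fin n) F)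
        = Cfsg.unitaryTransvection n q v c} with hS
  have h5 : (std σ h1 n).Tv ≤ (Subgroup.closure S).map (suPhi F n q) := by
    rw [MonoidHom.map_closure, HF.Tv, Subgroup.closure_le]
    rintro g ⟨e, c, hg⟩
    apply Subgroup.subset_closure
    obtain ⟨A, rfl⟩ := suPhi_surj h1 hq hg.mem
    have hc : c + σ c = 0 := by
      have := hg.2.2.1
      rwa [(std σ h1 n).zero_left, neg_zero] at this
    exact ⟨A, ⟨e, c, by rw [hermForm_eq h1 hq]; exact hg.1, (isSie_iff hq h1 hg.1 hc A).mp hg⟩, rfl⟩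
  obtain ⟨A', hA', hAA⟩ := h5 (hle (suPhi_mem h1 hq A))
  rw [← suPhi_inj hAA]
  exact hA'

theorem trace_of_ut (hF : Fintype.card F = q ^ 2) (hσ : orderOf σ = 2) (hq : ∀ a, σ a = a ^ q)
    (hσ2 : ∀ a, σ (σ a) = a) {v : Fin n → F} (hv0 : v ≠ 0) (hv : (std σ hσ2 n).h v v = 0) {c : F}
    (h : ∀ x y, (std σ hσ2 n).h (Cfsg.unitaryTransvection n q v c *ᵥ x)
      (Cfsg.unitaryTransvection n q v c *ᵥ y) = (std σ hσ2 n).h x y) : c + σ c = 0 := by
  obtain ⟨h1, h2, h3⟩ := sigma_facts hσ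
  set B := std σ hσ2 n with hB
  obtain ⟨f, hf, hvf⟩ := (std_nd hσ2 n).exists_partner h1 h2 hv0 hv
  have hfv : B.h f v = 1 := by rw [B.symm v f, hvf, map_one]
  have h4 := h f f
  rw [ut_mulVec v c hq hσ2, hfv, hf, mul_one, B.add_left, B.add_right, B.add_right, B.smul_left,
    B.smul_right, B.smul_left, hf, hfv, hvf, B.smul_right, hv] at h4
  linear_combination h4

theorem ut_comm (hF : Fintype.card F = q ^ 2) (hn : 3 ≤ n) (A : ↥(Cfsg.SU n F q)) (v : Fin n → F)
    (c : F) (hv0 : Cfsg.hermForm n F q v v = 0)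
    (hA : ((A : Matrix.SpecialLinearGroup (Fin n) F) : Matrix (Fin n) (Fin n) F) =
      Cfsg.unitaryTransvection n q v c) : A ∈ commutatorSet ↥(Cfsg.SU n F q) := by
  obtain ⟨σ, hσ, hq⟩ := exists_sigma hF
  obtain ⟨h1, h2, h3⟩ := sigma_facts hσ
  have hfr : Module.finrank F (Fin n → F) = n := by simp
  rw [hermForm_eq h1 hq] at hv0
  by_cases hv : v = 0
  · have : A = 1 := by
      apply suPhi_inj
      apply LinearEquiv.ext
      intro x
      rw [suPhi_apply, hA, ut_mulVec v c hq h1, hv, smul_zero, add_zero, map_one]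
      rfl
    rw [this]
    exact ⟨1, 1, by group⟩
  have hc : c + σ c = 0 := by
    apply trace_of_ut hF hσ hq h1 hv hv0
    intro x y
    rw [← hA]
    exact (suPhi_mem h1 hq A).1 x y
  have hs := (isSie_iff hq h1 hv0 hc A).mpr hA
  obtain ⟨x, hx, y, hy, hxy⟩ := (std_nd h1 n).tv_comm hσ (by rw [hfr]; exact hn) hs
  obtain ⟨X, rfl⟩ := suPhi_surj h1 hq hx
  obtain ⟨Y, rfl⟩ := suPhi_surj h1 hq hy
  refine ⟨X, Y, ?_⟩
  apply suPhi_inj
  rw [hxy, commutatorElement_def]
  simp only [map_mul, map_inv]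

/-- centre of `SU` -/
theorem mem_center_SU (hσ : orderOf σ = 2) (hσ2 : ∀ a, σ (σ a) = a) (hq : ∀ a, σ a = a ^ q)
    (hn : 2 ≤ n) (A : Cfsg.SU n F q) : A ∈ Subgroup.center (Cfsg.SU n F q) ↔
      ∃ l : F, ∀ x, ((A : SpecialLinearGroup (Fin n) F) : Matrix (Fin n) (Fin n) F) *ᵥ x = l • x := by
  have hfr : Module.finrank F (Fin n → F) = n := by simp
  constructor
  · intro h
    obtain ⟨l, hl⟩ := (std_nd hσ2 n).central_scalar hσ (by rw [hfr]; exact hn)
      (g := suPhi F n q A) (suPhi_mem hσ2 hq A).1 (by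
        intro k hk
        obtain ⟨K, rfl⟩ := suPhi_surj hσ2 hq hk
        rw [← map_mul, ← map_mul, Subgroup.mem_center_iff.mp h K])
    exact ⟨l, hl⟩
  · rintro ⟨l, hl⟩
    rw [Subgroup.mem_center_iff]
    intro K
    apply suPhi_inj
    apply LinearEquiv.ext
    intro x
    rw [map_mul, map_mul]
    show suPhi F n q K (suPhi F n q A x) = suPhi F n q A (suPhi F n q K x)
    rw [suPhi_apply A, hl, map_smul, suPhi_apply A, hl]

theorem mulVec_scalar {M : Matrix (Fin n) (Fin n) F} {l : F} (h : ∀ x, M *ᵥ x = l • x) :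
    M = Matrix.scalar (Fin n) l := by
  apply Matrix.toLin'.injective
  apply LinearMap.ext
  intro x
  rw [Matrix.toLin'_apply, Matrix.toLin'_apply, h, Matrix.scalar_apply, ← Matrix.smul_one_eq_diagonal,
    Matrix.smul_mulVec, Matrix.one_mulVec]

theorem card_center_SU (hF : Fintype.card F = q ^ 2) (hn : 2 ≤ n) :
    Nat.card (Subgroup.center (Cfsg.SU n F q)) = Nat.gcd n (q + 1) := by
  obtain ⟨σ, hσ, hq⟩ := exists_sigma hF
  obtain ⟨h1, h2, h3⟩ := sigma_facts hσ
  have hq1 := one_lt_q hF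
  have hd : Nat.gcd n (q + 1) ∣ Nat.card Fˣ := by
    rw [Nat.card_units, Nat.card_eq_fintype_card, hF]
    have e : q ^ 2 - 1 = (q + 1) * (q - 1) := by
      have := Nat.sq_sub_sq q 1
      rw [one_pow] at this
      exact this
    rw [e]
    exact (Nat.gcd_dvd_right _ _).mul_right _
  rw [← card_pow_eq_one hd]
  have hn0 : (⟨0, by omega⟩ : Fin n) = ⟨0, by omega⟩ := rfl
  -- the scalar matrices
  have mk : ∀ u : Fˣ, u ^ Nat.gcd n (q + 1) = 1 → ∃ A : Cfsg.SU n F q,
      ((A : SpecialLinearGroup (Fin n) F) : Matrix (Fin n) (Fin n) F) = Matrix.scalar (Fin n) (u : F) := by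
    intro u hu
    have hun : u ^ n = 1 := by
      obtain ⟨k, hk⟩ := Nat.gcd_dvd_left n (q + 1)
      rw [hk, pow_mul, hu, one_pow]
    have huq : u ^ (q + 1) = 1 := by
      obtain ⟨k, hk⟩ := Nat.gcd_dvd_right n (q + 1)
      rw [hk, pow_mul, hu, one_pow]
    let A : SpecialLinearGroup (Fin n) F := ⟨Matrix.scalar (Fin n) (u : F), by
      rw [Matrix.scalar_apply, Matrix.det_diagonal, Finset.prod_const, Finset.card_univ,
        Fintype.card_fin, ← Units.val_pow_eq_pow_val, hun, Units.val_one]⟩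
    refine ⟨⟨A, ?_⟩, rfl⟩
    rw [mem_SU h1 hq]
    have hA : ∀ x, gl n F (A : GL (Fin n) F) x = (u : F) • x := by
      intro x
      show (Matrix.scalar (Fin n) (u : F)) *ᵥ x = _
      rw [Matrix.scalar_apply, ← Matrix.smul_one_eq_diagonal, Matrix.smul_mulVec, Matrix.one_mulVec]
    intro x y
    rw [hA, hA, HF.smul_left, HF.smul_right, ← mul_assoc, hq (u : F), ← pow_succ',
      ← Units.val_pow_eq_pow_val, huq, Units.val_one, one_mul]
  refine Nat.card_congr (Equiv.ofBijective (fun A => (⟨Units.mk0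
    ((((A : Cfsg.SU n F q) : SpecialLinearGroup (Fin n) F) : Matrix (Fin n) (Fin n) F) ⟨0, by omega⟩ ⟨0, by omega⟩)
      ?_, ?_⟩ : {x : Fˣ // x ^ Nat.gcd n (q + 1) = 1})) ⟨?_, ?_⟩)
  · obtain ⟨l, hl⟩ := (mem_center_SU hσ h1 hq hn _).mp A.2
    rw [mulVec_scalar hl, Matrix.scalar_apply, Matrix.diagonal_apply_eq]
    rintro rfl
    have h4 := ((A : Cfsg.SU n F q) : SpecialLinearGroup (Fin n) F).2
    rw [mulVec_scalar hl, Matrix.scalar_apply, Matrix.det_diagonal, Finset.prod_const, Finset.card_univ,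
        Fintype.card_fin, zero_pow (by omega)] at h4
    exact zero_ne_one h4
  · obtain ⟨l, hl⟩ := (mem_center_SU hσ h1 hq hn _).mp A.2
    have hl0 : l ^ n = 1 := by
      have h4 := ((A : Cfsg.SU n F q) : SpecialLinearGroup (Fin n) F).2
      rw [mulVec_scalar hl, Matrix.scalar_apply, Matrix.det_diagonal, Finset.prod_const, Finset.card_univ,
        Fintype.card_fin] at h4
      exact h4
    have hlq : l ^ (q + 1) = 1 := by
      obtain ⟨u, hu⟩ := (std_nd h1 n).exists_norm_vec hσ (by simp; omega)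
      have h5 := (suPhi_mem h1 hq (A : Cfsg.SU n F q)).1 u u
      rw [suPhi_apply, hl, HF.smul_left, HF.smul_right, hu, mul_one, hq, ← pow_succ'] at h5
      exact h5
    apply Units.ext
    rw [Units.val_pow_eq_pow_val, Units.val_mk0, mulVec_scalar hl, Matrix.scalar_apply,
      Matrix.diagonal_apply_eq, Units.val_one]
    have h6 : orderOf l ∣ Nat.gcd n (q + 1) :=
      Nat.dvd_gcd (orderOf_dvd_of_pow_eq_one hl0) (orderOf_dvd_of_pow_eq_one hlq)
    exact orderOf_dvd_iff_pow_eq_one.mp h6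
  · intro A A' h
    obtain ⟨l, hl⟩ := (mem_center_SU hσ h1 hq hn _).mp A.2
    obtain ⟨l', hl'⟩ := (mem_center_SU hσ h1 hq hn _).mp A'.2
    have h4 := congrArg (fun x : {x : Fˣ // x ^ Nat.gcd n (q + 1) = 1} => ((x : Fˣ) : F)) h
    simp only [Units.val_mk0] at h4
    rw [mulVec_scalar hl, mulVec_scalar hl', Matrix.scalar_apply, Matrix.scalar_apply,
      Matrix.diagonal_apply_eq, Matrix.diagonal_apply_eq] at h4
    apply Subtype.ext
    apply Subtype.ext
    apply Subtype.ext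
    rw [mulVec_scalar hl, mulVec_scalar hl', h4]
  · rintro ⟨u, hu⟩
    obtain ⟨A, hA⟩ := mk u hu
    refine ⟨⟨A, ?_⟩, ?_⟩
    · rw [mem_center_SU hσ h1 hq hn]
      refine ⟨u, fun x => ?_⟩
      rw [hA, Matrix.scalar_apply, ← Matrix.smul_one_eq_diagonal, Matrix.smul_mulVec, Matrix.one_mulVec]
    · apply Subtype.ext
      apply Units.ext
      show (((A : SpecialLinearGroup (Fin n) F) : Matrix (Fin n) (Fin n) F) ⟨0, by omega⟩ ⟨0, by omega⟩) = u
      rw [hA, Matrix.scalar_apply, Matrix.diagonal_apply_eq]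

end SUn

end Cfsg.Agent.Lib.Herm
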