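import Mathlib
import Cfsg.Agent.Lib.Herm9

/-! Totally isotropic families, counting. -/

set_option linter.all false
set_option maxHeartbeats 400000

namespace Cfsg.Agent.Lib.Herm

open Matrix Cfsg.Agent.Lib.FinGal

section TI

variable {F : Type*} [Field F] {σ : F ≃+* F} {q : ℕ} {V : Type*} [AddCommGroup V] [Module F V]

/-- totally isotropic independent families -/
def HF.TI (B : HF σ V) {k : ℕ} (v : Fin k → V) : Prop :=
  LinearIndependent F v ∧ ∀ i j, B.h (v i) (v j) = 0

theorem HF.ND.mem_span_of_perp [FiniteDimensional F V] {B : HF σ V} (hB : B.ND)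
    (hσ2 : ∀ a, σ (σ a) = a) {k : ℕ} {v : Fin k → V} (hv : LinearIndependent F v) {x : V}
    (h : ∀ y ∈ B.perpF v, B.h x y = 0) : x ∈ Submodule.span F (Set.range v) := by
  by_contra hx
  obtain ⟨y, hy⟩ := hB.exists_of_li hσ2 (li_snoc hv hx) (Fin.snoc (fun _ => (0 : F)) 1)
  have h1 : y ∈ B.perpF v := by
    rw [HF.mem_perpF]
    intro i
    have := hy (Fin.castSucc i)
    rwa [Fin.snoc_castSucc, Fin.snoc_castSucc] at this
  have h2 : B.h y x = 1 := by
    have := hy (Fin.last k)
    rwa [Fin.snoc_last, Fin.snoc_last] at this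
  have h3 := h y h1
  rw [B.eq_zero_comm, h2] at h3
  exact one_ne_zero h3

/-- number of isotropic vectors -/
def Zn (q n : ℕ) : ℕ :=
  (if Even n then (q ^ n - 1) * (q ^ (n - 1) + 1) else (q ^ n + 1) * (q ^ (n - 1) - 1)) + 1

theorem HF.span_le_perpF {B : HF σ V} {k : ℕ} {v : Fin k → V} (hv : B.TI v) :
    Submodule.span F (Set.range v) ≤ B.perpF v := by
  rw [Submodule.span_le]
  rintro _ ⟨i, rfl⟩
  show v i ∈ B.perpF v
  rw [HF.mem_perpF]
  exact fun j => hv.2 i j

theorem HF.ND.card_perp_iso [Fintype F] [FiniteDimensional F V] {B : HF σ V} (hB : B.ND)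
    (hF : Fintype.card F = q ^ 2) (hσ : orderOf σ = 2) (hq : ∀ a, σ a = a ^ q) {n k : ℕ}
    (hn : Module.finrank F V = n) {v : Fin k → V} (hv : B.TI v) :
    2 * k ≤ n ∧ Nat.card {x : V // B.h x x = 0 ∧ x ∈ B.perpF v} = q ^ (2 * k) * Zn q (n - 2 * k) := by
  classical
  obtain ⟨h1, h2, h3⟩ := sigma_facts hσ
  haveI : Finite V := Module.finite_of_finite F
  set P := B.perpF v with hP
  set S := Submodule.span F (Set.range v) with hS
  have hSP : S ≤ P := HF.span_le_perpF hv
  let S' : Submodule F P := S.comap P.subtype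
  have hfP := hB.finrank_perpF h1 hv.1
  rw [Fintype.card_fin, hn] at hfP
  have hfS : Module.finrank F S = k := by
    rw [hS, finrank_span_eq_card hv.1, Fintype.card_fin]
  have hfS' : Module.finrank F S' = k := by
    rw [← hfS]
    exact (Submodule.comapSubtypeEquivOfLe hSP).finrank_eq
  obtain ⟨C, hC⟩ := Submodule.exists_isCompl S'
  have hfC := Submodule.finrank_add_eq_of_isCompl hC
  rw [hfS'] at hfC
  have hfP' : Module.finrank F P + k = n := hfP
  refine ⟨by omega, ?_⟩
  have hperp : ∀ (s : S') (y : P), B.h (s : P) y = 0 := by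
    intro s y
    have hs : ((s : P) : V) ∈ S := s.2
    rw [B.eq_zero_comm]
    exact (HF.mem_perp_span (B := B)).mpr (by
      rintro _ ⟨i, rfl⟩
      exact HF.mem_perpF.mp y.2 i) _ hs
  have hperp' : ∀ (s : S') (y : P), B.h y (s : P) = 0 := fun s y => B.eq_zero_comm.mp (hperp s y)
  have hnd : ((B.res P).res C).ND := by
    intro c hc
    have hcS : ((c : P) : V) ∈ S := by
      apply hB.mem_span_of_perp h1 hv.1
      intro y hy
      obtain ⟨⟨s, c'⟩, hsc⟩ := (Submodule.prodEquivOfIsCompl S' C hC).surjective ⟨y, hy⟩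
      have hsum : ((s : P) : V) + ((c' : P) : V) = y := by
        have := congrArg Subtype.val hsc
        simpa using this
      rw [← hsum, B.add_right, hperp' s (c : P), zero_add]
      exact hc c'
    have hmem : (c : P) ∈ S' ⊓ C := ⟨hcS, c.2⟩
    rw [hC.inf_eq_bot] at hmem
    exact Subtype.ext ((Submodule.mem_bot F).mp hmem)
  have hcount := hnd.card_zero hF hσ hq (n := n - 2 * k) (by omega)
  have e1 : Nat.card {x : V // B.h x x = 0 ∧ x ∈ P} =
      Nat.card (S' × {c : C // ((B.res P).res C).h c c = 0}) := by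
    let E := Submodule.prodEquivOfIsCompl S' C hC
    have hE : ∀ (s : S') (c : C), ((E (s, c) : P) : V) = ((s : P) : V) + ((c : P) : V) := by
      intro s c
      simp [E]
    have hEh : ∀ (s : S') (c : C), B.h (E (s, c) : P) (E (s, c) : P) = B.h (c : P) (c : P) := by
      intro s c
      rw [hE, B.add_left, B.add_right, B.add_right, hperp s s, hperp s c, hperp' s c]
      ring
    refine Nat.card_congr (Equiv.symm ⟨fun p => ⟨(E (p.1, p.2.1) : P), ?_, (E (p.1, p.2.1)).2⟩,
      fun x => ((E.symm ⟨x.1, x.2.2⟩).1, ⟨(E.symm ⟨x.1, x.2.2⟩).2, ?_⟩), ?_, ?_⟩)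
    · rw [hEh]; exact p.2.2
    · have h5 := hEh (E.symm ⟨x.1, x.2.2⟩).1 (E.symm ⟨x.1, x.2.2⟩).2
      have h6 : E ((E.symm ⟨x.1, x.2.2⟩).1, (E.symm ⟨x.1, x.2.2⟩).2) = ⟨x.1, x.2.2⟩ :=
        E.apply_symm_apply _
      rw [h6] at h5
      exact h5.symm.trans x.2.1
    · rintro ⟨s, c, hc⟩
      have : E.symm ⟨((E (s, c) : P) : V), (E (s, c)).2⟩ = (s, c) := E.symm_apply_apply (s, c)
      simp only [this]
    · rintro ⟨x, hx, hxP⟩
      apply Subtype.ext
      have h6 : E (E.symm ⟨x, hxP⟩) = ⟨x, hxP⟩ := E.apply_symm_apply _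
      show ((E ((E.symm ⟨x, hxP⟩).1, (E.symm ⟨x, hxP⟩).2) : P) : V) = x
      have h7 := congrArg Subtype.val h6
      exact h7
  rw [e1, Nat.card_prod, hcount]
  congr 1
  rw [Module.natCard_eq_pow_finrank (K := F), hfS', Nat.card_eq_fintype_card, hF, ← pow_mul]

theorem HF.ND.card_step [Fintype F] [FiniteDimensional F V] {B : HF σ V} (hB : B.ND)
    (hF : Fintype.card F = q ^ 2) (hσ : orderOf σ = 2) (hq : ∀ a, σ a = a ^ q) {n k : ℕ}
    (hn : Module.finrank F V = n) {v : Fin k → V} (hv : B.TI v) :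
    Nat.card {x : V // B.h x x = 0 ∧ x ∈ B.perpF v ∧ x ∉ Submodule.span F (Set.range v)} =
      q ^ (2 * k) * (Zn q (n - 2 * k) - 1) := by
  classical
  haveI : Finite V := Module.finite_of_finite F
  obtain ⟨hk, hc⟩ := hB.card_perp_iso hF hσ hq hn hv
  have hS : Nat.card (Submodule.span F (Set.range v)) = q ^ (2 * k) := by
    rw [Module.natCard_eq_pow_finrank (K := F), finrank_span_eq_card hv.1, Fintype.card_fin,
      Nat.card_eq_fintype_card, hF, ← pow_mul]
  have hsplit : Nat.card {x : V // B.h x x = 0 ∧ x ∈ B.perpF v} =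
      Nat.card {x : V // B.h x x = 0 ∧ x ∈ B.perpF v ∧ x ∉ Submodule.span F (Set.range v)} +
      Nat.card (Submodule.span F (Set.range v)) := by
    rw [← Nat.card_sum]
    have hspan : ∀ x ∈ Submodule.span F (Set.range v), B.h x x = 0 ∧ x ∈ B.perpF v := by
      intro x hx
      have hxP := HF.span_le_perpF hv hx
      refine ⟨?_, hxP⟩
      exact (HF.mem_perp_span (B := B)).mpr (by
        rintro _ ⟨i, rfl⟩
        exact HF.mem_perpF.mp hxP i) _ hx
    refine Nat.card_congr ⟨fun x => if hx : x.1 ∈ Submodule.span F (Set.range v) then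
      Sum.inr ⟨x.1, hx⟩ else Sum.inl ⟨x.1, x.2.1, x.2.2, hx⟩,
      fun y => Sum.elim (fun a => ⟨a.1, a.2.1, a.2.2.1⟩) (fun b => ⟨b.1, hspan b.1 b.2⟩) y, ?_, ?_⟩
    · intro x
      by_cases hx : x.1 ∈ Submodule.span F (Set.range v)
      · simp [hx]
      · simp [hx]
    · rintro (a | b)
      · simp [a.2.2.2]
      · simp [b.2]
  rw [hc, hS] at hsplit
  have hZ : 1 ≤ Zn q (n - 2 * k) := by unfold Zn; omega
  rw [Nat.mul_sub, mul_one]
  omega

/-- number of totally isotropic families -/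
theorem HF.ND.card_TI [Fintype F] [FiniteDimensional F V] {B : HF σ V} (hB : B.ND)
    (hF : Fintype.card F = q ^ 2) (hσ : orderOf σ = 2) (hq : ∀ a, σ a = a ^ q) {n : ℕ}
    (hn : Module.finrank F V = n) (k : ℕ) : Nat.card {v : Fin k → V // B.TI v} =
      ∏ i ∈ Finset.range k, (q ^ (2 * i) * (Zn q (n - 2 * i) - 1)) := by
  classical
  haveI : Finite V := Module.finite_of_finite F
  induction k with
  | zero =>
    rw [Finset.prod_range_zero, Nat.card_eq_one_iff_unique]
    refine ⟨⟨fun a b => Subtype.ext (Subsingleton.elim _ _)⟩,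
      ⟨⟨Fin.elim0, linearIndependent_empty_type, fun i => i.elim0⟩⟩⟩
  | succ k ih =>
    rw [Finset.prod_range_succ, ← ih]
    have e1 : Nat.card {v : Fin (k + 1) → V // B.TI v} =
        Nat.card (Σ v : {v : Fin k → V // B.TI v},
          {x : V // B.h x x = 0 ∧ x ∈ B.perpF v.1 ∧ x ∉ Submodule.span F (Set.range v.1)}) := by
      refine Nat.card_congr ⟨fun e => ⟨⟨Fin.init e.1, ?_, fun i j => e.2.2 _ _⟩,
          ⟨e.1 (Fin.last k), e.2.2 _ _, ?_, ?_⟩⟩,
        fun p => ⟨Fin.snoc p.1.1 p.2.1, li_snoc p.1.2.1 p.2.2.2.2, ?_⟩, ?_, ?_⟩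
      · have h5 : LinearIndependent F (Fin.snoc (Fin.init e.1) (e.1 (Fin.last k)) : Fin (k + 1) → V) := by
          rw [Fin.snoc_init_self]; exact e.2.1
        exact (linearIndependent_finSnoc.mp h5).1
      · rw [HF.mem_perpF]
        intro i
        exact e.2.2 _ _
      · have h5 : LinearIndependent F (Fin.snoc (Fin.init e.1) (e.1 (Fin.last k)) : Fin (k + 1) → V) := by
          rw [Fin.snoc_init_self]; exact e.2.1
        exact (linearIndependent_finSnoc.mp h5).2
      · intro i j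
        have hpe := HF.mem_perpF.mp p.2.2.2.1
        refine Fin.lastCases ?_ (fun i => ?_) i
        · refine Fin.lastCases ?_ (fun j => ?_) j
          · rw [Fin.snoc_last]; exact p.2.2.1
          · rw [Fin.snoc_last, Fin.snoc_castSucc]; exact hpe j
        · refine Fin.lastCases ?_ (fun j => ?_) j
          · rw [Fin.snoc_last, Fin.snoc_castSucc, B.eq_zero_comm]; exact hpe i
          · rw [Fin.snoc_castSucc, Fin.snoc_castSucc]; exact p.1.2.2 i j
      · intro e
        apply Subtype.ext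
        exact Fin.snoc_init_self _
      · rintro ⟨⟨e, he⟩, ⟨u, hu⟩⟩
        simp only [Fin.snoc_last]
        have hin : Fin.init (Fin.snoc e u : Fin (k + 1) → V) = e := Fin.init_snoc _ _
        congr 1
        · exact Subtype.ext hin
        · congr!
    haveI : Fintype {v : Fin k → V // B.TI v} := Fintype.ofFinite _
    rw [e1, Nat.card_sigma, Finset.sum_congr rfl fun v _ => hB.card_step hF hσ hq hn v.2,
      Finset.sum_const, Finset.card_univ, smul_eq_mul, ← Nat.card_eq_fintype_card]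

/-- number of totally isotropic subspaces, multiplied out -/
theorem HF.ND.card_TI_sub [Fintype F] [FiniteDimensional F V] {B : HF σ V} (hB : B.ND)
    (hF : Fintype.card F = q ^ 2) (hσ : orderOf σ = 2) (hq : ∀ a, σ a = a ^ q) {n : ℕ}
    (hn : Module.finrank F V = n) (k : ℕ) :
    Nat.card {W : Submodule F V // Module.finrank F W = k ∧ ∀ u ∈ W, ∀ v ∈ W, B.h u v = 0} *
      (∏ i : Fin k, ((q ^ 2) ^ k - (q ^ 2) ^ (i : ℕ))) =
      ∏ i ∈ Finset.range k, (q ^ (2 * i) * (Zn q (n - 2 * i) - 1)) := by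
  classical
  haveI : Finite V := Module.finite_of_finite F
  haveI : Finite (Submodule F V) := inferInstance
  rw [← hB.card_TI hF hσ hq hn k]
  have hspan : ∀ v : {v : Fin k → V // B.TI v}, ∀ x ∈ Submodule.span F (Set.range v.1),
      ∀ y ∈ Submodule.span F (Set.range v.1), B.h x y = 0 := by
    intro v x hx y hy
    have hxP := HF.span_le_perpF v.2 hx
    exact (HF.mem_perp_span (B := B)).mpr (by
      rintro _ ⟨i, rfl⟩
      exact HF.mem_perpF.mp hxP i) _ hy
  let f : {v : Fin k → V // B.TI v} →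
      {W : Submodule F V // Module.finrank F W = k ∧ ∀ u ∈ W, ∀ v ∈ W, B.h u v = 0} :=
    fun v => ⟨Submodule.span F (Set.range v.1), by
      rw [finrank_span_eq_card v.2.1, Fintype.card_fin], hspan v⟩
  haveI : Finite {W : Submodule F V // Module.finrank F W = k ∧ ∀ u ∈ W, ∀ v ∈ W, B.h u v = 0} :=
    Subtype.finite
  haveI : Fintype {W : Submodule F V // Module.finrank F W = k ∧ ∀ u ∈ W, ∀ v ∈ W, B.h u v = 0} :=
    Fintype.ofFinite _
  have e2 : ∀ W : {W : Submodule F V // Module.finrank F W = k ∧ ∀ u ∈ W, ∀ v ∈ W, B.h u v = 0},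
      Nat.card {v : {v : Fin k → V // B.TI v} // f v = W} =
        ∏ i : Fin k, ((q ^ 2) ^ k - (q ^ 2) ^ (i : ℕ)) := by
    intro W
    have := card_linearIndependent (K := F) (V := W.1) (k := k) (by rw [W.2.1])
    rw [hF, W.2.1] at this
    rw [← this]
    refine Nat.card_congr ⟨fun v => ⟨fun i => ⟨v.1.1 i, ?_⟩, ?_⟩,
      fun w => ⟨⟨fun i => (w.1 i : V), ?_, ?_⟩, ?_⟩, ?_, ?_⟩
    · have h5 : Submodule.span F (Set.range v.1.1) = W.1 := congrArg Subtype.val v.2
      rw [← h5]
      exact Submodule.subset_span ⟨i, rfl⟩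
    · apply LinearIndependent.of_comp (Submodule.subtype _)
      exact v.1.2.1
    · exact w.2.map' W.1.subtype (Submodule.ker_subtype _)
    · intro i j
      exact W.2.2 _ (w.1 i).2 _ (w.1 j).2
    · apply Subtype.ext
      show Submodule.span F (Set.range (fun i => (w.1 i : V))) = W.1
      apply Submodule.eq_of_le_of_finrank_eq
      · rw [Submodule.span_le]
        rintro _ ⟨i, rfl⟩
        exact (w.1 i).2
      · have hw : LinearIndependent F (fun i => (w.1 i : V)) :=
          w.2.map' W.1.subtype (Submodule.ker_subtype _)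
        rw [finrank_span_eq_card hw, Fintype.card_fin, W.2.1]
    · intro v
      rfl
    · intro w
      rfl
  rw [← Nat.card_congr (Equiv.sigmaFiberEquiv f), Nat.card_sigma, Finset.sum_congr rfl fun W _ => e2 W,
    Finset.sum_const, Finset.card_univ, smul_eq_mul, ← Nat.card_eq_fintype_card]

end TI

end Cfsg.Agent.Lib.Herm
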