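import Mathlib
import Cfsg.Agent.Lib.Herm10
import Cfsg.Agent.Lib.Fiber

/-! Stabilisers of subspaces in unitary groups. -/

set_option linter.all false
set_option maxHeartbeats 400000

namespace Cfsg.Agent.Lib.Herm

open Matrix Cfsg.Agent.Lib.FinGal

section Form

theorem Nn_mul (q m : ℕ) (hq : 1 < q) : Nn q (m + 2) * Nn q (m + 1) = q ^ (2 * m + 1) * (Zn q (m + 2) - 1) := by
  unfold Nn Zn
  have e1 : m + 2 - 1 = m + 1 := by omega
  have e2 : m + 1 - 1 = m := by omega
  rw [e1, e2, Nat.add_sub_cancel]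
  have hp1 : 1 ≤ q ^ (m + 1) := Nat.one_le_pow _ _ (by omega)
  by_cases h : Even m
  · have h1 : Even (m + 2) := by rw [Nat.even_iff] at *; omega
    have h2 : ¬ Even (m + 1) := by rw [Nat.even_iff] at *; omega
    rw [if_pos h1, if_neg h2, if_pos h1]
    ring
  · have h1 : ¬ Even (m + 2) := by rw [Nat.even_iff] at *; omega
    have h2 : Even (m + 1) := by rw [Nat.even_iff] at *; omega
    rw [if_neg h1, if_pos h2, if_neg h1]
    ring

/-- order of `GU` as a product -/
def Gn (q n : ℕ) : ℕ := ∏ i ∈ Finset.range n, Nn q (i + 1)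

theorem Gn_eq (q n : ℕ) : Gn q n = ∏ i ∈ Finset.range n, Nn q (n - i) := by
  unfold Gn
  rw [← Finset.prod_range_reflect]
  refine Finset.prod_congr rfl fun i hi => ?_
  have := Finset.mem_range.mp hi
  congr 1
  omega

theorem Gn_step (q : ℕ) (hq : 1 < q) (m k : ℕ) : Gn q (m + 2 * k) =
    (∏ i ∈ Finset.range k, (q ^ (2 * i) * (Zn q (m + 2 * k - 2 * i) - 1))) * q ^ (k * (k + 2 * m)) * Gn q m := by
  induction k with
  | zero => simp
  | succ k ih =>
    have e1 : Gn q (m + 2 * (k + 1)) = q ^ (2 * (m + 2 * k) + 1) * (Zn q (m + 2 * k + 2) - 1) * Gn q (m + 2 * k) := by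
      unfold Gn
      have : m + 2 * (k + 1) = (m + 2 * k) + 1 + 1 := by ring
      rw [this, Finset.prod_range_succ, Finset.prod_range_succ, ← Nn_mul q (m + 2 * k) hq]
      ring
    rw [e1, ih, Finset.prod_range_succ' (fun i => q ^ (2 * i) * (Zn q (m + 2 * (k + 1) - 2 * i) - 1))]
    have e2 : ∀ i ∈ Finset.range k, q ^ (2 * (i + 1)) * (Zn q (m + 2 * (k + 1) - 2 * (i + 1)) - 1) =
        q ^ 2 * (q ^ (2 * i) * (Zn q (m + 2 * k - 2 * i) - 1)) := by
      intro i _
      have : m + 2 * (k + 1) - 2 * (i + 1) = m + 2 * k - 2 * i := by omega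
      rw [this]
      ring
    have e4 : ∏ i ∈ Finset.range k, (q ^ 2 * (q ^ (2 * i) * (Zn q (m + 2 * k - 2 * i) - 1))) =
        (q ^ 2) ^ k * ∏ i ∈ Finset.range k, (q ^ (2 * i) * (Zn q (m + 2 * k - 2 * i) - 1)) := by
      conv_lhs => rw [Finset.prod_mul_distrib, Finset.prod_const, Finset.card_range]
    rw [Finset.prod_congr rfl e2, e4]
    have e3 : m + 2 * (k + 1) - 2 * 0 = m + 2 * k + 2 := by omega
    rw [e3]
    ring

end Form

section Stab

variable {F : Type*} [Field F] {σ : F ≃+* F} {q : ℕ} {V : Type*} [AddCommGroup V] [Module F V]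

/-- stabiliser of a subspace in the isometry group -/
def HF.stabI (B : HF σ V) (W : Submodule F V) : Subgroup (V ≃ₗ[F] V) where
  carrier := {g | g ∈ B.iso ∧ ∀ v, v ∈ W ↔ g v ∈ W}
  mul_mem' := fun {a b} ha hb => ⟨mul_mem ha.1 hb.1, fun v => (hb.2 v).trans (ha.2 _)⟩
  one_mem' := ⟨one_mem _, fun v => Iff.rfl⟩
  inv_mem' := fun {a} ha => ⟨inv_mem ha.1, fun v => by
    have := ha.2 (a⁻¹ v)
    have e : a (a⁻¹ v) = v := LinearEquiv.apply_symm_apply _ _
    rw [e] at this
    exact this.symm⟩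

theorem mem_iff_of_map_le [FiniteDimensional F V] {W : Submodule F V} {g : V ≃ₗ[F] V} (h : ∀ v ∈ W, g v ∈ W)
    (v : V) : v ∈ W ↔ g v ∈ W := by
  refine ⟨h v, fun hv => ?_⟩
  have hle : W.map (g : V →ₗ[F] V) ≤ W := by
    rintro _ ⟨x, hx, rfl⟩
    exact h x hx
  have heq : W.map (g : V →ₗ[F] V) = W := by
    apply Submodule.eq_of_le_of_finrank_eq hle
    exact LinearEquiv.finrank_map_eq g W
  rw [← heq] at hv
  obtain ⟨x, hx, hxv⟩ := hv
  have : x = v := g.injective hxv
  rwa [this] at hx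

theorem card_det [Fintype F] [FiniteDimensional F V] {B : HF σ V} (hB : B.ND)
    (hF : Fintype.card F = q ^ 2) (hσ : orderOf σ = 2) (hq : ∀ a, σ a = a ^ q)
    (H : Subgroup (V ≃ₗ[F] V)) (hH : H ≤ B.iso)
    (hs : ∀ l : F, l * σ l = 1 → ∃ g ∈ H, ((LinearEquiv.det g : Fˣ) : F) = l) :
    Nat.card H = (q + 1) * Nat.card (H ⊓ (LinearEquiv.det (R := F) (M := V)).ker : Subgroup (V ≃ₗ[F] V)) := by
  classical
  haveI : Finite V := Module.finite_of_finite F
  let f : H →* Fˣ := (LinearEquiv.det (R := F) (M := V)).comp H.subtype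
  have h1 := Subgroup.card_mul_index f.ker
  rw [Subgroup.index_ker] at h1
  have h2 : Nat.card f.range = q + 1 := by
    rw [← card_norm_sol hF hσ hq one_ne_zero (map_one σ)]
    refine Nat.card_congr ⟨fun x => ⟨(x.1 : F), ?_⟩, fun l => ⟨Units.mk0 l.1 ?_, ?_⟩, ?_, ?_⟩
    · obtain ⟨_, ⟨g, rfl⟩⟩ := x
      exact hB.det_norm hσ (hH g.2)
    · rintro h0
      have := l.2
      rw [h0, zero_mul] at this
      exact zero_ne_one this
    · obtain ⟨g, hg, hd⟩ := hs l.1 l.2
      exact ⟨⟨g, hg⟩, Units.ext hd⟩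
    · intro x; apply Subtype.ext; apply Units.ext; rfl
    · intro l; rfl
  have h3 : Nat.card f.ker = Nat.card (H ⊓ (LinearEquiv.det (R := F) (M := V)).ker : Subgroup (V ≃ₗ[F] V)) := by
    refine Nat.card_congr ⟨fun x => ⟨(x.1 : V ≃ₗ[F] V), x.1.2, x.2⟩,
      fun y => ⟨⟨y.1, y.2.1⟩, y.2.2⟩, fun x => rfl, fun y => rfl⟩
  rw [← h1, h2, h3, mul_comm]

theorem HF.ND.exists_partner_family [FiniteDimensional F V] {B : HF σ V} (hB : B.ND)
    (hσ2 : ∀ a, σ (σ a) = a) (hσ : ∃ a, σ a ≠ a) {k : ℕ} {w : Fin k → V} (hw : B.TI w) (i : Fin k) :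
    ∃ f, B.h f f = 0 ∧ B.h (w i) f = 1 ∧ ∀ j, j ≠ i → B.h (w j) f = 0 := by
  classical
  obtain ⟨y, hy⟩ := hB.exists_of_li hσ2 hw.1 (Pi.single i 1)
  obtain ⟨t, ht⟩ := exists_trace hσ2 hσ (c := - B.h y y) (by rw [map_neg, ← B.symm])
  have h1 : B.h y (w i) = 1 := by rw [hy, Pi.single_eq_same]
  have h2 : B.h (w i) y = 1 := by rw [B.symm y, h1, map_one]
  have h3 : ∀ j, j ≠ i → B.h (w j) y = 0 := by
    intro j hj
    rw [B.eq_zero_comm, hy, Pi.single_eq_of_ne hj]
  refine ⟨y + t • w i, ?_, ?_, ?_⟩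
  · simp only [B.add_left, B.add_right, B.smul_left, B.smul_right, hw.2, h1, h2]
    linear_combination ht
  · rw [B.add_right, B.smul_right, hw.2, h2]; ring
  · intro j hj
    rw [B.add_right, B.smul_right, hw.2, h3 j hj]; ring

theorem HF.ND.det_surj_stab [Finite F] [FiniteDimensional F V] {B : HF σ V} (hB : B.ND)
    (hσ : orderOf σ = 2) (hn : 1 ≤ Module.finrank F V) {W : Submodule F V}
    (hW : ∀ u ∈ W, ∀ v ∈ W, B.h u v = 0) {l : F} (hl : l * σ l = 1) :
    ∃ g ∈ B.stabI W, ((LinearEquiv.det g : Fˣ) : F) = l := by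
  obtain ⟨h1, h2, h3⟩ := sigma_facts hσ
  let b := Module.finBasis F W
  set w : Fin (Module.finrank F W) → V := fun i => (b i : V) with hw
  have hTI : B.TI w := ⟨b.linearIndependent.map' W.subtype (Submodule.ker_subtype W),
    fun i j => hW _ (b i).2 _ (b j).2⟩
  have hspan : ∀ (g : V ≃ₗ[F] V), (∀ i, g (w i) ∈ W) → ∀ v ∈ W, g v ∈ W := by
    intro g hg v hv
    have : (⟨v, hv⟩ : W) = ∑ i, b.repr ⟨v, hv⟩ i • b i := (b.sum_repr _).symm
    have h5 : v = ∑ i, b.repr ⟨v, hv⟩ i • w i := by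
      have h6 := congrArg Subtype.val this
      rw [Submodule.coe_sum] at h6
      exact h6
    rw [h5, map_sum]
    apply Submodule.sum_mem
    intro i _
    rw [map_smul]
    exact Submodule.smul_mem _ _ (hg i)
  by_cases hk : Module.finrank F W = 0
  · obtain ⟨u, hu⟩ := hB.exists_norm_vec hσ hn
    obtain ⟨g, hg, hd, _⟩ := B.exists_qrefl hu hl
    refine ⟨g, ⟨hg, mem_iff_of_map_le (hspan g (fun i => ?_))⟩, hd⟩
    have := i.2
    omega
  · set i0 : Fin (Module.finrank F W) := ⟨0, by omega⟩ with hi0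
    obtain ⟨f, hf, hwf, hwj⟩ := hB.exists_partner_family h1 h2 hTI i0
    obtain ⟨m, hm, hm2⟩ := hilbert90_two hσ hl
    obtain ⟨D, hD, hdet, hDe, hDf, hDx⟩ := HF.exists_torus (hTI.2 i0 i0) hf hwf hm
    refine ⟨D, ⟨hD, mem_iff_of_map_le (hspan D (fun i => ?_))⟩, ?_⟩
    · by_cases hi : i = i0
      · rw [hi, hDe]
        exact Submodule.smul_mem _ _ (b i0).2
      · rw [hDx (w i) (hTI.2 _ _) (hwj i hi)]
        exact (b i).2
    · rw [hdet]
      have hσm : σ m ≠ 0 := sigma_ne_zero.mpr hm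
      calc m * (σ m)⁻¹ = (l * σ m) * (σ m)⁻¹ := by rw [hm2]
        _ = l := by rw [mul_assoc, mul_inv_cancel₀ hσm, mul_one]

/-- order of the stabiliser of a totally isotropic subspace -/
theorem HF.ND.card_stabI [Fintype F] [FiniteDimensional F V] {B : HF σ V} (hB : B.ND)
    (hF : Fintype.card F = q ^ 2) (hσ : orderOf σ = 2) (hq : ∀ a, σ a = a ^ q) {m k : ℕ}
    (hn : Module.finrank F V = m + 2 * k) {W : Submodule F V} (hWk : Module.finrank F W = k)
    (hW : ∀ u ∈ W, ∀ v ∈ W, B.h u v = 0) :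
    Nat.card (B.stabI W) = (∏ i : Fin k, ((q ^ 2) ^ k - (q ^ 2) ^ (i : ℕ))) * q ^ (k * (k + 2 * m)) *
      Gn q m := by
  classical
  obtain ⟨h1, h2, h3⟩ := sigma_facts hσ
  have hq1 := one_lt_q hF
  haveI : Finite V := Module.finite_of_finite F
  let b := Module.finBasisOfFinrankEq F W hWk
  set w : Fin k → V := fun i => (b i : V) with hw
  have hTI : B.TI w := ⟨b.linearIndependent.map' W.subtype (Submodule.ker_subtype W),
    fun i j => hW _ (b i).2 _ (b j).2⟩
  have hspan : ∀ (g : V ≃ₗ[F] V), (∀ i, g (w i) ∈ W) → ∀ v ∈ W, g v ∈ W := by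
    intro g hg v hv
    have : (⟨v, hv⟩ : W) = ∑ i, b.repr ⟨v, hv⟩ i • b i := (b.sum_repr _).symm
    have h5 : v = ∑ i, b.repr ⟨v, hv⟩ i • w i := by
      have h6 := congrArg Subtype.val this
      rw [Submodule.coe_sum] at h6
      exact h6
    rw [h5, map_sum]
    apply Submodule.sum_mem
    intro i _
    rw [map_smul]
    exact Submodule.smul_mem _ _ (hg i)
  let P : Subgroup (V ≃ₗ[F] V) :=
    { carrier := {g | g ∈ B.iso ∧ ∀ i, g (w i) = w i}
      mul_mem' := fun {a b} ha hb => ⟨mul_mem ha.1 hb.1, fun i => by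
        show a (b (w i)) = _
        rw [hb.2, ha.2]⟩
      one_mem' := ⟨one_mem _, fun i => rfl⟩
      inv_mem' := fun {a} ha => ⟨inv_mem ha.1, fun i => by
        show a.symm (w i) = _
        rw [LinearEquiv.symm_apply_eq, ha.2]⟩ }
  have hPmem : ∀ a ∈ B.iso, ∀ c ∈ B.iso, (fun i => a (w i)) = (fun i => c (w i)) ↔ a⁻¹ * c ∈ P := by
    intro a ha c hc
    constructor
    · intro h
      refine ⟨mul_mem (inv_mem ha) hc, fun i => ?_⟩
      show a.symm (c (w i)) = _
      rw [LinearEquiv.symm_apply_eq]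
      exact (congrFun h i).symm
    · rintro ⟨_, h⟩
      funext i
      have := h i
      have h5 : a.symm (c (w i)) = w i := this
      rw [LinearEquiv.symm_apply_eq] at h5
      exact h5.symm
  have c1 : Nat.card B.iso = Nat.card {v : Fin k → V | B.TI v} * Nat.card P := by
    apply Cfsg.Agent.Lib.Fiber.card_eq B.iso P (fun g hg => hg.1) (fun g => fun i => g (w i)) hPmem
    · intro a ha
      refine ⟨hTI.1.map' (a : V →ₗ[F] V) a.ker, fun i j => ?_⟩
      rw [ha, hTI.2]
    · intro v hv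
      obtain ⟨g, hg, hg2⟩ := hB.witt hσ hTI.1 hv.1 (fun i j => by rw [hTI.2, hv.2])
      exact ⟨g, hg, funext hg2⟩
  have c2 : Nat.card (B.stabI W) =
      Nat.card {v : Fin k → V | B.TI v ∧ ∀ i, v i ∈ W} * Nat.card P := by
    apply Cfsg.Agent.Lib.Fiber.card_eq (B.stabI W) P ?_ (fun g => fun i => g (w i))
      (fun a ha c hc => hPmem a ha.1 c hc.1)
    · intro a ha
      refine ⟨⟨hTI.1.map' (a : V →ₗ[F] V) a.ker, fun i j => ?_⟩, fun i => ?_⟩
      · rw [ha.1, hTI.2]
      · exact (ha.2 _).mp (b i).2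
    · rintro v ⟨hv, hvW⟩
      obtain ⟨g, hg, hg2⟩ := hB.witt hσ hTI.1 hv.1 (fun i j => by rw [hTI.2, hv.2])
      refine ⟨g, ⟨hg, mem_iff_of_map_le (hspan g (fun i => ?_))⟩, funext hg2⟩
      rw [hg2]; exact hvW i
    · intro g hg
      refine ⟨hg.1, mem_iff_of_map_le (hspan g (fun i => ?_))⟩
      rw [hg.2]; exact (b i).2
  have c3 : Nat.card {v : Fin k → V | B.TI v ∧ ∀ i, v i ∈ W} = ∏ i : Fin k, ((q ^ 2) ^ k - (q ^ 2) ^ (i : ℕ)) := by
    have := card_linearIndependent (K := F) (V := W) (k := k) (by rw [hWk])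
    rw [hF, hWk] at this
    rw [← this]
    refine Nat.card_congr ⟨fun v => ⟨fun i => ⟨v.1 i, v.2.2 i⟩, ?_⟩,
      fun w => ⟨fun i => (w.1 i : V), ⟨?_, ?_⟩, fun i => (w.1 i).2⟩, ?_, ?_⟩
    · apply LinearIndependent.of_comp (Submodule.subtype _)
      exact v.2.1.1
    · exact w.2.map' W.subtype (Submodule.ker_subtype _)
    · intro i j
      exact hW _ (w.1 i).2 _ (w.1 j).2
    · intro v; rfl
    · intro w; rfl
  have c4 : Nat.card {v : Fin k → V | B.TI v} = ∏ i ∈ Finset.range k, (q ^ (2 * i) * (Zn q (m + 2 * k - 2 * i) - 1)) :=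
    hB.card_TI hF hσ hq hn k
  have c5 : Nat.card B.iso = Gn q (m + 2 * k) := by
    rw [hB.card_iso hF hσ hq hn, Gn_eq]
  rw [Gn_step q hq1] at c5
  rw [c5, c4] at c1
  have hpos : 0 < ∏ i ∈ Finset.range k, (q ^ (2 * i) * (Zn q (m + 2 * k - 2 * i) - 1)) := by
    rw [← c4]
    haveI : Nonempty {v : Fin k → V | B.TI v} := ⟨⟨w, hTI⟩⟩
    exact Nat.card_pos
  have c6 : Nat.card P = q ^ (k * (k + 2 * m)) * Gn q m := by
    apply Nat.eq_of_mul_eq_mul_left hpos
    rw [← c1]; ring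
  rw [c2, c3, c6]
  ring

end Stab

section Coord

variable {F : Type*} [Field F] {σ : F ≃+* F} {q : ℕ} {V V' : Type*} [AddCommGroup V] [Module F V]
  [AddCommGroup V'] [Module F V']

/-- isometric spaces have isomorphic isometry groups -/
def HF.isoCongr {B : HF σ V} {B' : HF σ V'} (φ : V ≃ₗ[F] V') (h : ∀ x y, B'.h (φ x) (φ y) = B.h x y) :
    B.iso ≃* B'.iso where
  toFun g := ⟨(φ.symm.trans g.1).trans φ, fun x y => by
    show B'.h (φ (g.1 (φ.symm x))) (φ (g.1 (φ.symm y))) = _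
    rw [h, g.2, ← h, LinearEquiv.apply_symm_apply, LinearEquiv.apply_symm_apply]⟩
  invFun g := ⟨(φ.trans g.1).trans φ.symm, fun x y => by
    show B.h (φ.symm (g.1 (φ x))) (φ.symm (g.1 (φ y))) = _
    rw [← h, LinearEquiv.apply_symm_apply, LinearEquiv.apply_symm_apply, g.2, h]⟩
  left_inv g := by
    apply Subtype.ext; apply LinearEquiv.ext; intro x
    show φ.symm (φ (g.1 (φ.symm (φ x)))) = g.1 x
    simp
  right_inv g := by
    apply Subtype.ext; apply LinearEquiv.ext; intro x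
    show φ (φ.symm (g.1 (φ (φ.symm x)))) = g.1 x
    simp
  map_mul' a b := by
    apply Subtype.ext; apply LinearEquiv.ext; intro x
    show φ (a.1 (b.1 (φ.symm x))) = φ (a.1 (φ.symm (φ (b.1 (φ.symm x)))))
    simp

theorem HF.ND.iso_equiv_GU [Fintype F] [FiniteDimensional F V] {B : HF σ V} (hB : B.ND)
    (hσ : orderOf σ = 2) (hq : ∀ a, σ a = a ^ q) {n : ℕ} (hn : Module.finrank F V = n) :
    Nonempty (B.iso ≃* Cfsg.GU n F q) := by
  obtain ⟨h1, h2, h3⟩ := sigma_facts hσ
  obtain ⟨φ, hφ⟩ := hB.exists_coord hσ hn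
  exact ⟨(HF.isoCongr (B' := std σ h1 n) φ (fun x y => (hφ x y).symm)).trans (guEquiv h1 hq n).symm⟩

/-- restriction of an isometry to an invariant subspace -/
theorem HF.restrictW [FiniteDimensional F V] {B : HF σ V} {W : Submodule F V} {g : V ≃ₗ[F] V}
    (hg : g ∈ B.stabI W) : ∃ t : (B.res W).iso, ∀ x : W, ((t : W ≃ₗ[F] W) x : V) = g x := by
  let T := (g : V →ₗ[F] V).restrict (p := W) (q := W) (fun x hx => (hg.2 x).mp hx)
  have hinj : Function.Injective T := by
    intro x y hxy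
    apply Subtype.ext
    apply g.injective
    exact congrArg Subtype.val hxy
  exact ⟨⟨LinearEquiv.ofInjectiveEndo T hinj, fun x y => hg.1 x y⟩, fun x => rfl⟩

theorem HF.stab_perp [FiniteDimensional F V] {B : HF σ V} {W : Submodule F V} {g : V ≃ₗ[F] V}
    (hg : g ∈ B.stabI W) : g ∈ B.stabI (B.perp W) := by
  refine ⟨hg.1, mem_iff_of_map_le ?_⟩
  intro v hv w hw
  have h1 : g.symm w ∈ W := by
    have := (inv_mem hg).2 w
    exact this.mp hw
  have h2 := hv _ h1
  rw [← hg.1, LinearEquiv.apply_symm_apply] at h2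
  exact h2

/-- the stabiliser of a nondegenerate subspace -/
theorem HF.ND.stab_prod [Fintype F] [FiniteDimensional F V] {B : HF σ V} (hB : B.ND)
    (hσ : orderOf σ = 2) {W : Submodule F V} (hW : (B.res W).ND) :
    Nonempty (B.stabI W ≃* (B.res W).iso × (B.res (B.perp W)).iso) ∧ (B.res (B.perp W)).ND ∧
      Module.finrank F W + Module.finrank F (B.perp W) = Module.finrank F V := by
  classical
  obtain ⟨h1, h2, h3⟩ := sigma_facts hσ
  let b := Module.finBasis F W
  set w : Fin (Module.finrank F W) → V := fun i => (b i : V) with hw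
  have hwli : LinearIndependent F w := b.linearIndependent.map' W.subtype (Submodule.ker_subtype W)
  have hws : Submodule.span F (Set.range w) = W := by
    apply Submodule.eq_of_le_of_finrank_eq
    · rw [Submodule.span_le]
      rintro _ ⟨i, rfl⟩
      exact (b i).2
    · rw [finrank_span_eq_card hwli, Fintype.card_fin]
  have hnd : ∀ a : Fin (Module.finrank F W) → F, (∀ j, B.h (∑ i, a i • w i) (w j) = 0) → a = 0 := by
    intro a ha
    have h5 : (∑ i, a i • b i : W) = 0 := by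
      apply hW
      intro y
      have h6 : ((∑ i, a i • b i : W) : V) = ∑ i, a i • w i := by
        simp [w]
      have h7 : B.h ((∑ i, a i • b i : W) : V) (y : V) = 0 := by
        rw [h6]
        have h8 : (∑ i, a i • w i) ∈ B.perpF w := HF.mem_perpF.mpr ha
        have h9 : (y : V) ∈ Submodule.span F (Set.range w) := by rw [hws]; exact y.2
        exact h8 _ h9
      exact h7
    funext i
    have := (Fintype.linearIndependent_iff.mp b.linearIndependent) a h5 i
    exact this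
  have hperp : B.perpF w = B.perp W := by
    show B.perp _ = _
    rw [hws]
  have hfr := hB.finrank_perpF h1 hwli
  rw [hperp, Fintype.card_fin] at hfr
  have hnd2 : (B.res (B.perp W)).ND := by
    have := hB.perpF_nd hnd
    rw [hperp] at this
    exact this
  refine ⟨?_, hnd2, by omega⟩
  have hcompl : IsCompl W (B.perp W) := by
    constructor
    · rw [disjoint_iff, eq_bot_iff]
      rintro x ⟨hx1, hx2⟩
      have : (⟨x, hx1⟩ : W) = 0 := by
        apply hW
        intro y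
        exact hx2 _ y.2
      exact (Submodule.mem_bot F).mpr (congrArg Subtype.val this)
    · rw [codisjoint_iff, eq_top_iff]
      intro y _
      obtain ⟨c, z, hz, rfl⟩ := HF.nd_decomp hnd y
      rw [hperp] at hz
      apply Submodule.add_mem_sup _ hz
      have h10 : ∑ i, c i • w i ∈ Submodule.span F (Set.range w) :=
        Submodule.sum_mem _ (fun i _ => Submodule.smul_mem _ _ (Submodule.subset_span ⟨i, rfl⟩))
      exact hws.le h10
  choose f hf using fun (g : B.stabI W) => HF.restrictW g.2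
  choose f' hf' using fun (g : B.stabI W) => HF.restrictW (HF.stab_perp g.2)
  refine ⟨MulEquiv.ofBijective (MonoidHom.mk' (fun g => (f g, f' g)) ?_) ⟨?_, ?_⟩⟩
  · intro a c
    apply Prod.ext
    · apply Subtype.ext; apply LinearEquiv.ext; intro x
      apply Subtype.ext
      show ((f (a * c) : W ≃ₗ[F] W) x : V) = ((f a : W ≃ₗ[F] W) ((f c : W ≃ₗ[F] W) x) : V)
      rw [hf, hf, hf]
      rfl
    · apply Subtype.ext; apply LinearEquiv.ext; intro x
      apply Subtype.ext
      show ((f' (a * c) : B.perp W ≃ₗ[F] B.perp W) x : V) =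
        ((f' a : B.perp W ≃ₗ[F] B.perp W) ((f' c : B.perp W ≃ₗ[F] B.perp W) x) : V)
      rw [hf', hf', hf']
      rfl
  · intro a c hac
    have e1 : f a = f c := congrArg Prod.fst hac
    have e2 : f' a = f' c := congrArg Prod.snd hac
    apply Subtype.ext; apply LinearEquiv.ext; intro x
    obtain ⟨⟨y, z⟩, rfl⟩ := (Submodule.prodEquivOfIsCompl W (B.perp W) hcompl).surjective x
    rw [Submodule.coe_prodEquivOfIsCompl', map_add, map_add, ← hf, ← hf, ← hf', ← hf', e1, e2]
  · rintro ⟨g1, g2⟩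
    let E := Submodule.prodEquivOfIsCompl W (B.perp W) hcompl
    let g : V ≃ₗ[F] V := (E.symm.trans ((g1 : W ≃ₗ[F] W).prodCongr (g2 : B.perp W ≃ₗ[F] B.perp W))).trans E
    have hE : ∀ (s : W) (c : B.perp W), E (s, c) = (s : V) + (c : V) := fun s c => rfl
    have hg : ∀ (s : W) (c : B.perp W), g ((s : V) + (c : V)) = ((g1 : W ≃ₗ[F] W) s : V) +
        ((g2 : B.perp W ≃ₗ[F] B.perp W) c : V) := by
      intro s c
      rw [← hE, ← hE]
      show E (((g1 : W ≃ₗ[F] W).prodCongr (g2 : B.perp W ≃ₗ[F] B.perp W)) (E.symm (E (s, c)))) = _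
      rw [LinearEquiv.symm_apply_apply]
      rfl
    have hg1 : ∀ s : W, g (s : V) = ((g1 : W ≃ₗ[F] W) s : V) := by
      intro s
      have := hg s 0
      simpa using this
    have hg2 : ∀ c : B.perp W, g (c : V) = ((g2 : B.perp W ≃ₗ[F] B.perp W) c : V) := by
      intro c
      have := hg 0 c
      simpa using this
    have hgmem : g ∈ B.stabI W := by
      refine ⟨?_, mem_iff_of_map_le ?_⟩
      · intro x y
        obtain ⟨⟨s, c⟩, rfl⟩ := E.surjective x
        obtain ⟨⟨s', c'⟩, rfl⟩ := E.surjective y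
        rw [hE, hE, hg, hg]
        have o1 : ∀ (s : W) (c : B.perp W), B.h (c : V) (s : V) = 0 := fun s c => c.2 _ s.2
        have o2 : ∀ (s : W) (c : B.perp W), B.h (s : V) (c : V) = 0 := fun s c => B.eq_zero_comm.mp (o1 s c)
        simp only [B.add_left, B.add_right, o1, o2]
        have i1 : B.h ((g1 : W ≃ₗ[F] W) s : V) ((g1 : W ≃ₗ[F] W) s' : V) = B.h (s : V) (s' : V) := g1.2 s s'
        have i2 : B.h ((g2 : B.perp W ≃ₗ[F] B.perp W) c : V) ((g2 : B.perp W ≃ₗ[F] B.perp W) c' : V) =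
          B.h (c : V) (c' : V) := g2.2 c c'
        rw [i1, i2]
      · intro v hv
        have := hg1 ⟨v, hv⟩
        have h5 : g v = ((g1 : W ≃ₗ[F] W) ⟨v, hv⟩ : V) := this
        rw [h5]
        exact Subtype.prop _
    refine ⟨⟨g, hgmem⟩, ?_⟩
    apply Prod.ext
    · apply Subtype.ext; apply LinearEquiv.ext; intro x
      apply Subtype.ext
      show ((f ⟨g, hgmem⟩ : W ≃ₗ[F] W) x : V) = ((g1 : W ≃ₗ[F] W) x : V)
      rw [hf]
      exact hg1 x
    · apply Subtype.ext; apply LinearEquiv.ext; intro x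
      apply Subtype.ext
      show ((f' ⟨g, hgmem⟩ : B.perp W ≃ₗ[F] B.perp W) x : V) = ((g2 : B.perp W ≃ₗ[F] B.perp W) x : V)
      rw [hf']
      exact hg2 x

end Coord

end Cfsg.Agent.Lib.Herm
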