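import Mathlib
import Cfsg.Agent.Lib.Herm11
import Cfsg.Agent.Lib.GLSL

/-! `SU_2(q) = SL_2(q)`. -/

set_option linter.all false
set_option maxHeartbeats 400000

namespace Cfsg.Agent.Lib.Herm

open Matrix Cfsg.Agent.Lib.FinGal

/-- the subfield of order `q` -/
theorem exists_embed {F K : Type*} [Field F] [Fintype F] [Field K] [Fintype K] {q : ℕ}
    (hF : Fintype.card F = q ^ 2) (hK : Fintype.card K = q) {σ : F ≃+* F} (hσ : orderOf σ = 2) :
    ∃ ι : K →+* F, ∀ x, σ x = x ↔ ∃ y, ι y = x := by
  obtain ⟨p, hp⟩ := CharP.exists K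
  obtain ⟨f, hpp, hf⟩ := FiniteField.card K p
  have h1 : q = p ^ (f : ℕ) := by rw [← hK, hf]
  refine exists_subfield_hom σ hσ (by norm_num) hpp (f := (f : ℕ) * 2) (by rw [hF, h1, ← pow_mul])
    (Dvd.intro_left _ rfl) K (by rw [Nat.mul_div_cancel _ (by norm_num), hf])

theorem gu_iff {F : Type*} [Field F] {σ : F ≃+* F} {q n : ℕ} (hσ2 : ∀ a, σ (σ a) = a)
    (hq : ∀ a, σ a = a ^ q) (g : GL (Fin n) F) : g ∈ Cfsg.GU n F q ↔
      (g : Matrix (Fin n) (Fin n) F).transpose * ((g : Matrix (Fin n) (Fin n) F).map σ) = 1 := by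
  rw [mem_GU hσ2 hq]
  have hcol : ∀ i, gl n F g (Pi.single i 1) = fun k => (g : Matrix (Fin n) (Fin n) F) k i := by
    intro i
    rw [gl_apply, Matrix.mulVec_single_one]
    rfl
  have hent : ∀ i j, ((g : Matrix (Fin n) (Fin n) F).transpose * ((g : Matrix (Fin n) (Fin n) F).map σ)) i j =
      (std σ hσ2 n).h (gl n F g (Pi.single i 1)) (gl n F g (Pi.single j 1)) := by
    intro i j
    rw [hcol, hcol]
    rfl
  have hst : ∀ i j, (std σ hσ2 n).h (Pi.single i 1) (Pi.single j 1) = (1 : Matrix (Fin n) (Fin n) F) i j := by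
    intro i j
    show ∑ k, (Pi.single i (1 : F) : Fin n → F) k * σ ((Pi.single j (1 : F) : Fin n → F) k) = _
    rw [Finset.sum_eq_single i]
    · rw [Pi.single_eq_same, one_mul]
      by_cases hij : i = j
      · subst hij; rw [Pi.single_eq_same, map_one, Matrix.one_apply_eq]
      · rw [Pi.single_eq_of_ne hij, map_zero, Matrix.one_apply_ne hij]
    · intro k _ hk
      rw [Pi.single_eq_of_ne hk, zero_mul]
    · intro h; exact absurd (Finset.mem_univ _) h
  constructor
  · intro h
    ext i j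
    rw [hent, h, hst]
  · intro h x y
    have hx : x = ∑ i, x i • (Pi.single i (1 : F) : Fin n → F) := by
      conv_lhs => rw [← Finset.univ_sum_single x]
      refine Finset.sum_congr rfl fun i _ => ?_
      rw [← Pi.single_smul, smul_eq_mul, mul_one]
    have hy : y = ∑ i, y i • (Pi.single i (1 : F) : Fin n → F) := by
      conv_lhs => rw [← Finset.univ_sum_single y]
      refine Finset.sum_congr rfl fun i _ => ?_
      rw [← Pi.single_smul, smul_eq_mul, mul_one]
    rw [hx, hy, map_sum, map_sum, HF.sum_left, HF.sum_left]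
    refine Finset.sum_congr rfl fun i _ => ?_
    rw [HF.sum_right, HF.sum_right]
    refine Finset.sum_congr rfl fun j _ => ?_
    rw [map_smul, map_smul, HF.smul_left, HF.smul_left, HF.smul_right, HF.smul_right, ← hent, h, hst]

theorem su_iff {F : Type*} [Field F] {σ : F ≃+* F} {q n : ℕ} (hσ2 : ∀ a, σ (σ a) = a)
    (hq : ∀ a, σ a = a ^ q) (g : SpecialLinearGroup (Fin n) F) : g ∈ Cfsg.SU n F q ↔
      (g : Matrix (Fin n) (Fin n) F).transpose * ((g : Matrix (Fin n) (Fin n) F).map σ) = 1 := by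
  have := gu_iff hσ2 hq (g : GL (Fin n) F)
  rw [mem_GU hσ2 hq] at this
  rw [mem_SU hσ2 hq]
  exact this

theorem su_two_equiv {F K : Type*} [Field F] [Fintype F] [Field K] [Fintype K] {q : ℕ}
    (hF : Fintype.card F = q ^ 2) (hK : Fintype.card K = q) :
    Nonempty (Cfsg.SU 2 F q ≃* Matrix.SpecialLinearGroup (Fin 2) K) := by
  classical
  obtain ⟨σ, hσ, hq⟩ := exists_sigma hF
  obtain ⟨h1, h2, h3⟩ := sigma_facts hσ
  have hq1 := one_lt_q hF
  obtain ⟨ε, hε, hεσ⟩ := exists_skew h1 h2
  obtain ⟨ι, hι⟩ := exists_embed (K := K) hF hK hσ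
  let H0 : Matrix (Fin 2) (Fin 2) F := !![0, ε; -ε, 0]
  have hdet : H0.det ≠ 0 := by
    rw [Matrix.det_fin_two_of]
    intro h
    have : ε * ε = 0 := by linear_combination h
    exact hε (mul_self_eq_zero.mp this)
  let H : GL (Fin 2) F := Matrix.GeneralLinearGroup.mkOfDetNeZero H0 hdet
  have hH : (H : Matrix (Fin 2) (Fin 2) F) = H0 := rfl
  obtain ⟨k, hk⟩ := exists_factor_herm hσ H (by
    rw [hH]
    ext i j
    fin_cases i <;> fin_cases j <;> simp [H0, hεσ])
  rw [hH] at hk
  -- symplectic identity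
  have symp : ∀ a : Matrix (Fin 2) (Fin 2) F, a * H0 * a.transpose = a.det • H0 := by
    intro a
    ext i j
    fin_cases i <;> fin_cases j <;>
      simp [H0, Matrix.mul_apply, Fin.sum_univ_two, Matrix.det_fin_two] <;> ring
  let T : SpecialLinearGroup (Fin 2) K →* SpecialLinearGroup (Fin 2) F := SpecialLinearGroup.map ι
  have hTσ : ∀ a, ((T a : SpecialLinearGroup (Fin 2) F) : Matrix (Fin 2) (Fin 2) F).map σ = (T a : Matrix (Fin 2) (Fin 2) F) := by
    intro a
    ext i j
    show σ (ι (a i j)) = ι (a i j)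
    rw [hι]; exact ⟨_, rfl⟩
  -- conjugation by `k`: use `g = kᵀ a k⁻ᵀ`
  let k' : GL (Fin 2) F := k⁻¹
  let conj : SpecialLinearGroup (Fin 2) F →* SpecialLinearGroup (Fin 2) F :=
    { toFun := fun a => ⟨(k : Matrix (Fin 2) (Fin 2) F).transpose * (a : Matrix (Fin 2) (Fin 2) F) *
        (k' : Matrix (Fin 2) (Fin 2) F).transpose, by
        rw [Matrix.det_mul, Matrix.det_mul, Matrix.det_transpose, Matrix.det_transpose, a.2, mul_one,
          ← Matrix.det_mul, ← Units.val_mul]
        simp [k']⟩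
      map_one' := by
        apply Subtype.ext
        show (k : Matrix (Fin 2) (Fin 2) F).transpose * 1 * (k' : Matrix (Fin 2) (Fin 2) F).transpose = 1
        rw [mul_one, ← Matrix.transpose_mul, ← Units.val_mul]
        simp [k']
      map_mul' := fun a b => by
        apply Subtype.ext
        show (k : Matrix (Fin 2) (Fin 2) F).transpose * ((a : Matrix (Fin 2) (Fin 2) F) * (b : Matrix (Fin 2) (Fin 2) F)) *
          (k' : Matrix (Fin 2) (Fin 2) F).transpose =
          ((k : Matrix (Fin 2) (Fin 2) F).transpose * (a : Matrix (Fin 2) (Fin 2) F) *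
            (k' : Matrix (Fin 2) (Fin 2) F).transpose) *
          ((k : Matrix (Fin 2) (Fin 2) F).transpose * (b : Matrix (Fin 2) (Fin 2) F) *
            (k' : Matrix (Fin 2) (Fin 2) F).transpose)
        have e : (k' : Matrix (Fin 2) (Fin 2) F).transpose * (k : Matrix (Fin 2) (Fin 2) F).transpose = 1 := by
          rw [← Matrix.transpose_mul, ← Units.val_mul]
          simp [k']
        calc _ = (k : Matrix (Fin 2) (Fin 2) F).transpose * (a : Matrix (Fin 2) (Fin 2) F) * 1 *
              ((b : Matrix (Fin 2) (Fin 2) F) * (k' : Matrix (Fin 2) (Fin 2) F).transpose) := by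
              simp only [Matrix.mul_assoc, Matrix.one_mul]
          _ = _ := by rw [← e]; simp only [Matrix.mul_assoc] }
  have hconj : ∀ a, ((conj a : SpecialLinearGroup (Fin 2) F) : Matrix (Fin 2) (Fin 2) F) =
      (k : Matrix (Fin 2) (Fin 2) F).transpose * (a : Matrix (Fin 2) (Fin 2) F) *
        (k' : Matrix (Fin 2) (Fin 2) F).transpose := fun a => rfl
  have hkk : (k' : Matrix (Fin 2) (Fin 2) F) * (k : Matrix (Fin 2) (Fin 2) F) = 1 := by
    rw [← Units.val_mul]; simp [k']
  have hkk2 : ((k : Matrix (Fin 2) (Fin 2) F).map σ).transpose *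
      ((k' : Matrix (Fin 2) (Fin 2) F).map σ).transpose = 1 := by
    rw [← Matrix.transpose_mul]
    have h6 := map_mul (RingHom.mapMatrix (m := Fin 2) (σ : F →+* F))
      (k' : Matrix (Fin 2) (Fin 2) F) (k : Matrix (Fin 2) (Fin 2) F)
    rw [hkk, map_one] at h6
    have h7 : (((k' : GL (Fin 2) F) : Matrix (Fin 2) (Fin 2) F).map σ) * ((k : Matrix (Fin 2) (Fin 2) F).map σ) = 1 := h6.symm
    rw [h7, Matrix.transpose_one]
  have hmem : ∀ a : SpecialLinearGroup (Fin 2) K, conj (T a) ∈ Cfsg.SU 2 F q := by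
    intro a
    rw [su_iff h1 hq, hconj]
    set b := ((T a : SpecialLinearGroup (Fin 2) F) : Matrix (Fin 2) (Fin 2) F) with hb
    have e1 : ((k : Matrix (Fin 2) (Fin 2) F).transpose * b * (k' : Matrix (Fin 2) (Fin 2) F).transpose).map σ =
        ((k : Matrix (Fin 2) (Fin 2) F).map σ).transpose * b *
          ((k' : Matrix (Fin 2) (Fin 2) F).map σ).transpose := by
      have e2 : (RingHom.mapMatrix (m := Fin 2) (σ : F →+* F))
        ((k : Matrix (Fin 2) (Fin 2) F).transpose * b * (k' : Matrix (Fin 2) (Fin 2) F).transpose) =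
          (RingHom.mapMatrix (m := Fin 2) (σ : F →+* F)) (k : Matrix (Fin 2) (Fin 2) F).transpose *
          (RingHom.mapMatrix (m := Fin 2) (σ : F →+* F)) b *
          (RingHom.mapMatrix (m := Fin 2) (σ : F →+* F)) (k' : Matrix (Fin 2) (Fin 2) F).transpose := by
        rw [map_mul, map_mul]
      have e3 : (RingHom.mapMatrix (m := Fin 2) (σ : F →+* F)) b = b := hTσ a
      rw [e3] at e2
      exact e2
    have e4 : ((k : Matrix (Fin 2) (Fin 2) F).transpose * b * (k' : Matrix (Fin 2) (Fin 2) F).transpose).transpose =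
        (k' : Matrix (Fin 2) (Fin 2) F) * (b.transpose * (k : Matrix (Fin 2) (Fin 2) F)) := by
      rw [Matrix.transpose_mul, Matrix.transpose_mul, Matrix.transpose_transpose, Matrix.transpose_transpose]
    have e5 : b.transpose * H0 * b = H0 := by
      have := symp b.transpose
      rw [Matrix.transpose_transpose, Matrix.det_transpose, hb, (T a).2, one_smul] at this
      exact this
    rw [e1, e4]
    calc _ = (k' : Matrix (Fin 2) (Fin 2) F) * (b.transpose * ((k : Matrix (Fin 2) (Fin 2) F) *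
          ((k : Matrix (Fin 2) (Fin 2) F).map σ).transpose) * b) *
            ((k' : Matrix (Fin 2) (Fin 2) F).map σ).transpose := by simp only [Matrix.mul_assoc]
      _ = (k' : Matrix (Fin 2) (Fin 2) F) * (k : Matrix (Fin 2) (Fin 2) F) *
          (((k : Matrix (Fin 2) (Fin 2) F).map σ).transpose *
            ((k' : Matrix (Fin 2) (Fin 2) F).map σ).transpose) := by
            rw [hk, e5, ← hk]; simp only [Matrix.mul_assoc]
      _ = 1 := by rw [hkk, hkk2, one_mul]
  let Φ : SpecialLinearGroup (Fin 2) K →* Cfsg.SU 2 F q := MonoidHom.codRestrict (conj.comp T) _ hmem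
  have hinj : Function.Injective Φ := by
    intro a b hab
    have h5 : conj (T a) = conj (T b) := congrArg Subtype.val hab
    have h6 := congrArg (fun x : SpecialLinearGroup (Fin 2) F => (x : Matrix (Fin 2) (Fin 2) F)) h5
    simp only [hconj] at h6
    have h7 := congrArg (fun x => (k' : Matrix (Fin 2) (Fin 2) F).transpose * x * (k : Matrix (Fin 2) (Fin 2) F).transpose) h6
    have e : (k' : Matrix (Fin 2) (Fin 2) F).transpose * (k : Matrix (Fin 2) (Fin 2) F).transpose = 1 := by
      rw [← Matrix.transpose_mul, ← Units.val_mul]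
      simp [k']
    have e8 : ∀ x : Matrix (Fin 2) (Fin 2) F, (k' : Matrix (Fin 2) (Fin 2) F).transpose *
        ((k : Matrix (Fin 2) (Fin 2) F).transpose * x * (k' : Matrix (Fin 2) (Fin 2) F).transpose) *
        (k : Matrix (Fin 2) (Fin 2) F).transpose = x := by
      intro x
      calc _ = ((k' : Matrix (Fin 2) (Fin 2) F).transpose * (k : Matrix (Fin 2) (Fin 2) F).transpose) * x *
            ((k' : Matrix (Fin 2) (Fin 2) F).transpose * (k : Matrix (Fin 2) (Fin 2) F).transpose) := by
            simp only [Matrix.mul_assoc]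
        _ = x := by rw [e, one_mul, mul_one]
    simp only [e8] at h7
    apply Subtype.ext
    ext i j
    have h9 := congrFun (congrFun h7 i) j
    exact ι.injective h9
  have hc1 := card_SU hF 2 (by norm_num)
  have hc2 := Cfsg.Agent.Lib.GLSL.card_SL (F := K) 2 (by norm_num)
  rw [hK, Fin.prod_univ_two] at hc2
  norm_num [Finset.prod_range_succ, -Nat.card_eq_fintype_card] at hc1 hc2
  have hcard : Nat.card (Cfsg.SU 2 F q) ≤ Nat.card (SpecialLinearGroup (Fin 2) K) := by
    have e1 : Nat.card (Cfsg.SU 2 F q) = q * (q ^ 2 - 1) := by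
      apply Nat.eq_of_mul_eq_mul_left (show 0 < q + 1 by omega)
      rw [hc1]; ring
    have e2 : Nat.card (SpecialLinearGroup (Fin 2) K) = q * (q ^ 2 - 1) := by
      apply Nat.eq_of_mul_eq_mul_left (show 0 < q - 1 by omega)
      rw [hc2]
      have : q ^ 2 - q = (q - 1) * q := by
        rw [Nat.sub_mul, one_mul, pow_two]
      rw [this]; ring
    rw [e1, e2]
  haveI : Finite (Cfsg.SU 2 F q) := inferInstance
  exact ⟨(MulEquiv.ofBijective Φ (hinj.bijective_of_nat_card_le hcard)).symm⟩

end Cfsg.Agent.Lib.Herm
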