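import Mathlib
import Cfsg.Agent.Lib.Herm12
import Cfsg.Agent.Lib.HilbM

/-! Conjugacy in `GU_n(q)` is conjugacy in `GL_n(q²)`. -/

set_option linter.all false
set_option maxHeartbeats 400000

namespace Cfsg.Agent.Lib.Herm

open Matrix Cfsg.Agent.Lib.FinGal Cfsg.Agent.Lib.HilbN

section Star

variable {F : Type*} [Field F] {σ : F ≃+* F} {q n : ℕ}

/-- conjugate transpose -/
def st (σ : F ≃+* F) (X : Matrix (Fin n) (Fin n) F) : Matrix (Fin n) (Fin n) F := (X.map σ).transpose

theorem st_add (X Y : Matrix (Fin n) (Fin n) F) : st σ (X + Y) = st σ X + st σ Y := by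
  ext i j; simp [st]

theorem st_mul (X Y : Matrix (Fin n) (Fin n) F) : st σ (X * Y) = st σ Y * st σ X := by
  unfold st
  rw [← Matrix.transpose_mul]
  congr 1
  exact map_mul (RingHom.mapMatrix (m := Fin n) (σ : F →+* F)) X Y

theorem st_one : st σ (1 : Matrix (Fin n) (Fin n) F) = 1 := by
  unfold st
  have : (1 : Matrix (Fin n) (Fin n) F).map σ = 1 := map_one (RingHom.mapMatrix (m := Fin n) (σ : F →+* F))
  rw [this, Matrix.transpose_one]

theorem st_st (hσ2 : ∀ a, σ (σ a) = a) (X : Matrix (Fin n) (Fin n) F) : st σ (st σ X) = X := by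
  ext i j
  show σ (σ (X i j)) = X i j
  rw [hσ2]

theorem st_algebraMap (a : F) : st σ (algebraMap F (Matrix (Fin n) (Fin n) F) a) = algebraMap F _ (σ a) := by
  rw [Matrix.algebraMap_eq_diagonal, Matrix.algebraMap_eq_diagonal]
  ext i j
  show σ (Matrix.diagonal _ j i) = _
  by_cases h : j = i
  · subst h; simp
  · rw [Matrix.diagonal_apply_ne _ h, Matrix.diagonal_apply_ne' _ h, map_zero]

theorem gu_iff_st (hσ2 : ∀ a, σ (σ a) = a) (hq : ∀ a, σ a = a ^ q) (g : GL (Fin n) F) :
    g ∈ Cfsg.GU n F q ↔ st σ (g : Matrix (Fin n) (Fin n) F) * (g : Matrix (Fin n) (Fin n) F) = 1 := by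
  rw [gu_iff hσ2 hq]
  constructor
  · intro h
    have := congrArg Matrix.transpose h
    rw [Matrix.transpose_mul, Matrix.transpose_transpose, Matrix.transpose_one] at this
    exact this
  · intro h
    have := congrArg Matrix.transpose h
    rw [Matrix.transpose_mul, Matrix.transpose_one] at this
    unfold st at this
    rw [Matrix.transpose_transpose] at this
    exact this

theorem commute_adjoin {A H : Matrix (Fin n) (Fin n) F} (h : A * H = H * A) :
    ∀ x ∈ Algebra.adjoin F {H}, A * x = x * A := by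
  intro x hx
  induction hx using Algebra.adjoin_induction with
  | mem x hx => rw [Set.mem_singleton_iff.mp hx]; exact h
  | algebraMap r => exact (Algebra.commutes r A).symm
  | add x y _ _ hx hy => rw [mul_add, add_mul, hx, hy]
  | mul x y _ _ hx hy => rw [← mul_assoc, hx, mul_assoc, hy, mul_assoc]

/-- hermitian units commuting with things are `D* D` with `D` a polynomial in `H` -/
theorem herm_factor [Finite F] (hσ2 : ∀ a, σ (σ a) = a) (hσ : ∃ a, σ a ≠ a) {H : Matrix (Fin n) (Fin n) F}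
    (hH : st σ H = H) (hu : IsUnit H) :
    ∃ D : GL (Fin n) F, st σ (D : Matrix (Fin n) (Fin n) F) * (D : Matrix (Fin n) (Fin n) F) = H ∧
      (D : Matrix (Fin n) (Fin n) F) ∈ Algebra.adjoin F {H} := by
  obtain ⟨x, hx, hxu, _, h2⟩ := (alg_main hσ2 hσ (st σ) st_add st_mul st_algebraMap (Q := H)
    (by rw [hH]; exact Algebra.subset_adjoin rfl) (st_st hσ2 H)).1 H (Algebra.subset_adjoin rfl) hu hH
  obtain ⟨D, rfl⟩ := hxu
  exact ⟨D, h2, hx⟩

theorem gu_conj_of_gl_conj [Finite F] (hσ2 : ∀ a, σ (σ a) = a) (hσ : ∃ a, σ a ≠ a) (hq : ∀ a, σ a = a ^ q)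
    {A B : GL (Fin n) F} (hA : A ∈ Cfsg.GU n F q) (hB : B ∈ Cfsg.GU n F q) {P : GL (Fin n) F}
    (hP : P * A * P⁻¹ = B) : ∃ g ∈ Cfsg.GU n F q, g * A * g⁻¹ = B := by
  rw [gu_iff_st hσ2 hq] at hA hB
  have hPA : (P : Matrix (Fin n) (Fin n) F) * (A : Matrix (Fin n) (Fin n) F) =
      (B : Matrix (Fin n) (Fin n) F) * (P : Matrix (Fin n) (Fin n) F) := by
    rw [← Units.val_mul, ← Units.val_mul, ← hP]; congr 1; group
  have hA' : (A : Matrix (Fin n) (Fin n) F) * st σ (A : Matrix (Fin n) (Fin n) F) = 1 := mul_eq_one_comm.mp hA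
  have hPB : (A : Matrix (Fin n) (Fin n) F) * st σ (P : Matrix (Fin n) (Fin n) F) =
      st σ (P : Matrix (Fin n) (Fin n) F) * (B : Matrix (Fin n) (Fin n) F) := by
    have h1 : st σ (A : Matrix (Fin n) (Fin n) F) * st σ (P : Matrix (Fin n) (Fin n) F) =
        st σ (P : Matrix (Fin n) (Fin n) F) * st σ (B : Matrix (Fin n) (Fin n) F) := by
      rw [← st_mul, hPA, st_mul]
    calc (A : Matrix (Fin n) (Fin n) F) * st σ (P : Matrix (Fin n) (Fin n) F)
        = (A : Matrix (Fin n) (Fin n) F) * (st σ (P : Matrix (Fin n) (Fin n) F) *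
            st σ (B : Matrix (Fin n) (Fin n) F)) * (B : Matrix (Fin n) (Fin n) F) := by
          rw [mul_assoc, mul_assoc, hB, mul_one]
      _ = ((A : Matrix (Fin n) (Fin n) F) * st σ (A : Matrix (Fin n) (Fin n) F)) *
            (st σ (P : Matrix (Fin n) (Fin n) F) * (B : Matrix (Fin n) (Fin n) F)) := by
          rw [← h1]; simp only [mul_assoc]
      _ = _ := by rw [hA', one_mul]
  set H := st σ (P : Matrix (Fin n) (Fin n) F) * (P : Matrix (Fin n) (Fin n) F) with hHdef
  have hAH : (A : Matrix (Fin n) (Fin n) F) * H = H * (A : Matrix (Fin n) (Fin n) F) := by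
    rw [hHdef, ← mul_assoc, hPB, mul_assoc, ← hPA, mul_assoc]
  have hstH : st σ H = H := by rw [hHdef, st_mul, st_st hσ2]
  have hstP : IsUnit (st σ (P : Matrix (Fin n) (Fin n) F)) := by
    have h3 : st σ ((P⁻¹ : GL (Fin n) F) : Matrix (Fin n) (Fin n) F) * st σ (P : Matrix (Fin n) (Fin n) F) = 1 := by
      rw [← st_mul, ← Units.val_mul, mul_inv_cancel, Units.val_one, st_one]
    exact IsUnit.of_mul_eq_one _ (mul_eq_one_comm.mp h3)
  have hHu : IsUnit H := hstP.mul P.isUnit
  obtain ⟨D, hD, hDm⟩ := herm_factor hσ2 hσ hstH hHu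
  have hAD := commute_adjoin hAH _ hDm
  have hAD' : A * D = D * A := Units.ext hAD
  refine ⟨P * D⁻¹, ?_, ?_⟩
  · rw [gu_iff_st hσ2 hq, Units.val_mul, st_mul]
    have h4 : st σ ((D⁻¹ : GL (Fin n) F) : Matrix (Fin n) (Fin n) F) * st σ (D : Matrix (Fin n) (Fin n) F) = 1 := by
      rw [← st_mul, ← Units.val_mul, mul_inv_cancel, Units.val_one, st_one]
    calc st σ ((D⁻¹ : GL (Fin n) F) : Matrix (Fin n) (Fin n) F) * st σ (P : Matrix (Fin n) (Fin n) F) *
          ((P : Matrix (Fin n) (Fin n) F) * ((D⁻¹ : GL (Fin n) F) : Matrix (Fin n) (Fin n) F))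
        = st σ ((D⁻¹ : GL (Fin n) F) : Matrix (Fin n) (Fin n) F) * H *
            ((D⁻¹ : GL (Fin n) F) : Matrix (Fin n) (Fin n) F) := by
          rw [hHdef]; simp only [mul_assoc]
      _ = (st σ ((D⁻¹ : GL (Fin n) F) : Matrix (Fin n) (Fin n) F) * st σ (D : Matrix (Fin n) (Fin n) F)) *
            ((D : Matrix (Fin n) (Fin n) F) * ((D⁻¹ : GL (Fin n) F) : Matrix (Fin n) (Fin n) F)) := by
          rw [← hD]; simp only [mul_assoc]
      _ = 1 := by rw [h4, ← Units.val_mul, mul_inv_cancel, Units.val_one, one_mul]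
  · rw [← hP]
    calc P * D⁻¹ * A * (P * D⁻¹)⁻¹ = P * (D⁻¹ * (A * D)) * P⁻¹ := by group
      _ = P * A * P⁻¹ := by rw [hAD']; group

/-- matrices similar to `A^{-*}` are similar to unitary matrices -/
theorem similar_unitary [Finite F] (hσ' : orderOf σ = 2) (hσ2 : ∀ a, σ (σ a) = a) (hσ : ∃ a, σ a ≠ a)
    (hq : ∀ a, σ a = a ^ q) {A P : GL (Fin n) F}
    (h : st σ (A : Matrix (Fin n) (Fin n) F) * (P : Matrix (Fin n) (Fin n) F) * (A : Matrix (Fin n) (Fin n) F) =
      (P : Matrix (Fin n) (Fin n) F)) : ∃ D : GL (Fin n) F, D * A * D⁻¹ ∈ Cfsg.GU n F q := by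
  set a := (A : Matrix (Fin n) (Fin n) F) with ha
  set p := (P : Matrix (Fin n) (Fin n) F) with hp
  set p' := ((P⁻¹ : GL (Fin n) F) : Matrix (Fin n) (Fin n) F) with hp'
  set a' := ((A⁻¹ : GL (Fin n) F) : Matrix (Fin n) (Fin n) F) with ha'
  have e1 : p * p' = 1 := by rw [hp, hp', ← Units.val_mul, mul_inv_cancel, Units.val_one]
  have e2 : p' * p = 1 := by rw [hp, hp', ← Units.val_mul, inv_mul_cancel, Units.val_one]
  have e3 : a * a' = 1 := by rw [ha, ha', ← Units.val_mul, mul_inv_cancel, Units.val_one]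
  have e4 : a' * a = 1 := by rw [ha, ha', ← Units.val_mul, inv_mul_cancel, Units.val_one]
  have e5 : st σ p' * st σ p = 1 := by rw [← st_mul, e1, st_one]
  have e6 : st σ p * st σ p' = 1 := by rw [← st_mul, e2, st_one]
  -- `pa = (a*)⁻¹ p`
  have k1 : st σ a' * st σ a = 1 := by rw [← st_mul, e3, st_one]
  have f1 : p * a = st σ a' * p := by
    calc p * a = (st σ a' * st σ a) * (p * a) := by rw [k1, one_mul]
      _ = st σ a' * (st σ a * p * a) := by simp only [mul_assoc]
      _ = _ := by rw [h]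
  have h' : st σ a * st σ p * a = st σ p := by
    have := congrArg (st σ) h
    rw [st_mul, st_mul, st_st hσ2] at this
    rw [mul_assoc]; exact this
  have f2 : st σ p * a = st σ a' * st σ p := by
    calc st σ p * a = (st σ a' * st σ a) * (st σ p * a) := by rw [k1, one_mul]
      _ = st σ a' * (st σ a * st σ p * a) := by simp only [mul_assoc]
      _ = _ := by rw [h']
  have f3 : a * p' = p' * st σ a' := by
    calc a * p' = p' * (p * a) * p' := by rw [← mul_assoc, e2, one_mul]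
      _ = p' * st σ a' * (p * p') := by rw [f1]; simp only [mul_assoc]
      _ = _ := by rw [e1, mul_one]
  set Q := p' * st σ p with hQ
  have hQa : a * Q = Q * a := by
    rw [hQ, ← mul_assoc, f3, mul_assoc, ← f2, mul_assoc]
  let t : Matrix (Fin n) (Fin n) F → Matrix (Fin n) (Fin n) F := fun X => p' * st σ X * p
  have htQ : t Q = st σ p' * p := by
    show p' * st σ (p' * st σ p) * p = _
    rw [st_mul, st_st hσ2, ← mul_assoc, e2, one_mul]
  have hQt : Q * t Q = 1 := by
    rw [htQ, hQ]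
    calc p' * st σ p * (st σ p' * p) = p' * (st σ p * st σ p') * p := by simp only [mul_assoc]
      _ = 1 := by rw [e6, mul_one, e2]
  have hQu : IsUnit Q := IsUnit.of_mul_eq_one _ hQt
  have tadd : ∀ x y, t (x + y) = t x + t y := by
    intro x y
    show p' * st σ (x + y) * p = p' * st σ x * p + p' * st σ y * p
    rw [st_add, mul_add, add_mul]
  have tmul : ∀ x y, t (x * y) = t y * t x := by
    intro x y
    show p' * st σ (x * y) * p = (p' * st σ y * p) * (p' * st σ x * p)
    rw [st_mul]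
    calc p' * (st σ y * st σ x) * p = p' * st σ y * (1 * (st σ x * p)) := by
          rw [one_mul]; simp only [mul_assoc]
      _ = _ := by rw [← e1]; simp only [mul_assoc]
  have talg : ∀ c : F, t (algebraMap F _ c) = algebraMap F _ (σ c) := by
    intro c
    show p' * st σ (algebraMap F _ c) * p = _
    rw [st_algebraMap, ← Algebra.commutes, mul_assoc, e2, mul_one]
  obtain ⟨k, hk, hQk, hkQ⟩ := inv_mem_of_unit (Algebra.adjoin F {Q}) (Algebra.subset_adjoin rfl) hQu
  have htQk : t Q = k := by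
    calc t Q = (k * Q) * t Q := by rw [hkQ, one_mul]
      _ = k := by rw [mul_assoc, hQt, mul_one]
  have t1 : t 1 = 1 := by
    show p' * st σ 1 * p = 1
    rw [st_one, mul_one, e2]
  have htt : t (t Q) = Q := by
    have h1 : t (t Q) * t Q = 1 := by rw [← tmul, hQt, t1]
    calc t (t Q) = t (t Q) * (Q * k) := by rw [hQk, mul_one]
      _ = t (t Q) * (t Q * Q) := by rw [htQk, hQk, hkQ]
      _ = Q := by rw [← mul_assoc, h1, one_mul]
  obtain ⟨y, hy, hyu, hQy⟩ := (alg_main hσ2 hσ t tadd tmul talg (Q := Q) (by rw [htQk]; exact hk) htt).2 Q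
    (Algebra.subset_adjoin rfl) hQt
  have hay := commute_adjoin hQa y hy
  have hcomm : t y * Q = y := by
    rw [comm_adjoin (F := F) (Q := Q) (t y) (closed_adjoin t tadd tmul talg (by rw [htQk]; exact hk) y hy) Q
      (Algebra.subset_adjoin rfl)]
    exact hQy
  obtain ⟨Y, hY⟩ := hyu
  have hherm : st σ (p * y) = p * y := by
    rw [st_mul]
    have : st σ y * st σ p = p * (t y * Q) := by
      show _ = p * (p' * st σ y * p * (p' * st σ p))
      calc st σ y * st σ p = 1 * st σ y * 1 * st σ p := by rw [one_mul, mul_one]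
        _ = p * p' * st σ y * (p * p') * st σ p := by rw [e1]
        _ = _ := by simp only [mul_assoc]
    rw [this, hcomm]
  obtain ⟨kk, hkk⟩ := exists_factor_herm hσ' (P * Y) (by
    rw [Units.val_mul, hY]; exact hherm)
  have hkk' : (kk : Matrix (Fin n) (Fin n) F) * st σ (kk : Matrix (Fin n) (Fin n) F) = p * y := by
    rw [Units.val_mul, hY] at hkk
    exact hkk
  let D : GL (Fin n) F := ⟨st σ (kk : Matrix (Fin n) (Fin n) F), st σ ((kk⁻¹ : GL (Fin n) F) : Matrix (Fin n) (Fin n) F),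
    by rw [← st_mul, ← Units.val_mul, inv_mul_cancel, Units.val_one, st_one],
    by rw [← st_mul, ← Units.val_mul, mul_inv_cancel, Units.val_one, st_one]⟩
  have hDD : st σ (D : Matrix (Fin n) (Fin n) F) * (D : Matrix (Fin n) (Fin n) F) = p * y := by
    show st σ (st σ (kk : Matrix (Fin n) (Fin n) F)) * st σ (kk : Matrix (Fin n) (Fin n) F) = _
    rw [st_st hσ2, hkk']
  refine ⟨D, ?_⟩
  rw [gu_iff_st hσ2 hq, Units.val_mul, Units.val_mul, st_mul, st_mul]
  have h4 : st σ ((D⁻¹ : GL (Fin n) F) : Matrix (Fin n) (Fin n) F) * st σ (D : Matrix (Fin n) (Fin n) F) = 1 := by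
    rw [← st_mul, ← Units.val_mul, mul_inv_cancel, Units.val_one, st_one]
  calc st σ ((D⁻¹ : GL (Fin n) F) : Matrix (Fin n) (Fin n) F) * (st σ a * st σ (D : Matrix (Fin n) (Fin n) F)) *
        ((D : Matrix (Fin n) (Fin n) F) * a * ((D⁻¹ : GL (Fin n) F) : Matrix (Fin n) (Fin n) F))
      = st σ ((D⁻¹ : GL (Fin n) F) : Matrix (Fin n) (Fin n) F) * (st σ a *
          (st σ (D : Matrix (Fin n) (Fin n) F) * (D : Matrix (Fin n) (Fin n) F)) * a) *
          ((D⁻¹ : GL (Fin n) F) : Matrix (Fin n) (Fin n) F) := by simp only [mul_assoc]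
    _ = st σ ((D⁻¹ : GL (Fin n) F) : Matrix (Fin n) (Fin n) F) * (st σ a * p * a * y) *
          ((D⁻¹ : GL (Fin n) F) : Matrix (Fin n) (Fin n) F) := by
          rw [hDD]; congr 2; rw [mul_assoc (st σ a), mul_assoc p, ← hay]; simp only [mul_assoc]
    _ = (st σ ((D⁻¹ : GL (Fin n) F) : Matrix (Fin n) (Fin n) F) * st σ (D : Matrix (Fin n) (Fin n) F)) *
          ((D : Matrix (Fin n) (Fin n) F) * ((D⁻¹ : GL (Fin n) F) : Matrix (Fin n) (Fin n) F)) := by
          rw [h, ← hDD]; simp only [mul_assoc]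
    _ = 1 := by rw [h4, ← Units.val_mul, mul_inv_cancel, Units.val_one, one_mul]

end Star

end Cfsg.Agent.Lib.Herm
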