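import Mathlib

/-! Square-zero endomorphisms. -/

set_option linter.all false
set_option maxHeartbeats 400000

namespace Cfsg.Agent.Lib.SqZero

variable {F V : Type*} [Field F] [AddCommGroup V] [Module F V] [FiniteDimensional F V]

/-- Jordan basis of a square-zero map -/
theorem exists_basis (N : V →ₗ[F] V) (hN : ∀ x, N (N x) = 0) {l m : ℕ}
    (hl : Module.finrank F (LinearMap.range N) = l) (hm : Module.finrank F V = 2 * l + m) :
    ∃ b : Module.Basis (Fin l ⊕ (Fin l ⊕ Fin m)) F V,
      (∀ i, N (b (Sum.inl i)) = b (Sum.inr (Sum.inl i))) ∧ ∀ i, N (b (Sum.inr i)) = 0 := by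
  classical
  set R := LinearMap.range N with hR
  set K := LinearMap.ker N with hK
  have hRK : R ≤ K := by
    rintro _ ⟨x, rfl⟩
    exact hN x
  have hfr := N.finrank_range_add_finrank_ker
  have hfr' : l + Module.finrank F K = 2 * l + m := by rw [← hm, ← hfr, ← hl]
  let e := Module.finBasisOfFinrankEq F R hl
  have hf : ∀ i, ∃ f, N f = (e i : V) := fun i => (e i).2
  choose f hf using hf
  let R' : Submodule F K := R.comap K.subtype
  have hfR' : Module.finrank F R' = l := by
    rw [← hl]; exact (Submodule.comapSubtypeEquivOfLe hRK).finrank_eq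
  obtain ⟨G, hG⟩ := Submodule.exists_isCompl R'
  have hfG : Module.finrank F G = m := by
    have := Submodule.finrank_add_eq_of_isCompl hG
    omega
  let g := Module.finBasisOfFinrankEq F G hfG
  let fam : Fin l ⊕ (Fin l ⊕ Fin m) → V :=
    Sum.elim f (Sum.elim (fun i => (e i : V)) (fun j => ((g j : K) : V)))
  have hli : LinearIndependent F fam := by
    rw [Fintype.linearIndependent_iff]
    intro c hc
    rw [Fintype.sum_sum_type, Fintype.sum_sum_type] at hc
    have hc' : (∑ i, c (Sum.inl i) • f i) + ((∑ i, c (Sum.inr (Sum.inl i)) • (e i : V)) +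
      ∑ j, c (Sum.inr (Sum.inr j)) • ((g j : K) : V)) = 0 := hc
    have hNc := congrArg N hc'
    have n1 : N (∑ i, c (Sum.inl i) • f i) = ∑ i, c (Sum.inl i) • (e i : V) := by
      rw [map_sum]
      exact Finset.sum_congr rfl fun i _ => by rw [map_smul, hf]
    have n2 : N (∑ i, c (Sum.inr (Sum.inl i)) • (e i : V)) = 0 := by
      rw [map_sum]
      apply Finset.sum_eq_zero
      intro i _
      have : N (e i : V) = 0 := hRK (e i).2
      rw [map_smul, this, smul_zero]
    have n3 : N (∑ j, c (Sum.inr (Sum.inr j)) • ((g j : K) : V)) = 0 := by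
      rw [map_sum]
      apply Finset.sum_eq_zero
      intro j _
      have : N ((g j : K) : V) = 0 := (g j : K).2
      rw [map_smul, this, smul_zero]
    rw [map_add, map_add, n1, n2, n3, map_zero, add_zero, add_zero] at hNc
    have h0 : ∀ i, c (Sum.inl i) = 0 := by
      have : ∑ i, c (Sum.inl i) • e i = 0 := by
        apply Subtype.ext
        rw [Submodule.coe_sum]
        exact hNc
      exact Fintype.linearIndependent_iff.mp e.linearIndependent _ this
    have hz : (∑ i, c (Sum.inl i) • f i) = 0 := Finset.sum_eq_zero fun i _ => by rw [h0, zero_smul]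
    rw [hz, zero_add] at hc'
    -- in `K`
    let r : R' := ∑ i, c (Sum.inr (Sum.inl i)) • (⟨⟨(e i : V), hRK (e i).2⟩, (e i).2⟩ : R')
    let gg : G := ∑ j, c (Sum.inr (Sum.inr j)) • g j
    have hr : ((r : K) : V) = ∑ i, c (Sum.inr (Sum.inl i)) • (e i : V) := by
      simp [r]
    have hgg : ((gg : K) : V) = ∑ j, c (Sum.inr (Sum.inr j)) • ((g j : K) : V) := by
      simp [gg]
    have hsum : (r : K) + (gg : K) = 0 := by
      apply Subtype.ext
      show ((r : K) : V) + ((gg : K) : V) = 0
      rw [hr, hgg]; exact hc'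
    have hgR : (gg : K) ∈ R' ⊓ G := by
      refine ⟨?_, gg.2⟩
      have : (gg : K) = -(r : K) := (neg_eq_of_add_eq_zero_right hsum).symm
      rw [this]
      exact R'.neg_mem r.2
    rw [hG.inf_eq_bot] at hgR
    have hg0 : gg = 0 := Subtype.ext ((Submodule.mem_bot F).mp hgR)
    have hr0 : (r : K) = 0 := by rw [hg0] at hsum; simpa using hsum
    have h2 : ∀ j, c (Sum.inr (Sum.inr j)) = 0 :=
      Fintype.linearIndependent_iff.mp g.linearIndependent _ hg0
    have h1 : ∀ i, c (Sum.inr (Sum.inl i)) = 0 := by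
      have : ∑ i, c (Sum.inr (Sum.inl i)) • e i = 0 := by
        apply Subtype.ext
        rw [Submodule.coe_sum]
        have h5 : ((r : K) : V) = 0 := by rw [hr0]; rfl
        rw [hr] at h5
        exact h5
      exact Fintype.linearIndependent_iff.mp e.linearIndependent _ this
    rintro (i | i | j)
    · exact h0 i
    · exact h1 i
    · exact h2 j
  have hcard : Fintype.card (Fin l ⊕ (Fin l ⊕ Fin m)) = Module.finrank F V := by
    simp only [Fintype.card_sum, Fintype.card_fin]; omega
  let b := basisOfLinearIndependentOfCardEqFinrank' fam hli hcard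
  have eb : ∀ i, b i = fam i := fun i => by simp [b]
  refine ⟨b, fun i => ?_, ?_⟩
  · rw [eb, eb]; exact hf i
  · rintro (i | j)
    · rw [eb]; exact hRK (e i).2
    · rw [eb]; exact (g j : K).2

theorem two_mul_le (N : V →ₗ[F] V) (hN : ∀ x, N (N x) = 0) :
    2 * Module.finrank F (LinearMap.range N) ≤ Module.finrank F V := by
  have hRK : LinearMap.range N ≤ LinearMap.ker N := by
    rintro _ ⟨x, rfl⟩
    exact hN x
  have h1 := Submodule.finrank_mono hRK
  have h2 := N.finrank_range_add_finrank_ker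
  omega

/-- square-zero maps of the same rank are conjugate -/
theorem conj {N N' : V →ₗ[F] V} (hN : ∀ x, N (N x) = 0) (hN' : ∀ x, N' (N' x) = 0)
    (h : Module.finrank F (LinearMap.range N) = Module.finrank F (LinearMap.range N')) :
    ∃ g : V ≃ₗ[F] V, ∀ x, g (N x) = N' (g x) := by
  have h1 := two_mul_le N hN
  obtain ⟨m, hm⟩ : ∃ m, Module.finrank F V = 2 * Module.finrank F (LinearMap.range N) + m :=
    ⟨_, (Nat.add_sub_cancel' h1).symm⟩
  obtain ⟨b, hb1, hb2⟩ := exists_basis N hN rfl hm
  obtain ⟨b', hb1', hb2'⟩ := exists_basis N' hN' h.symm hm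
  let g : V ≃ₗ[F] V := b.equiv b' (Equiv.refl _)
  have hg : ∀ i, g (b i) = b' i := fun i => by simp [g]
  refine ⟨g, fun x => ?_⟩
  have : (g : V →ₗ[F] V).comp N = N'.comp (g : V →ₗ[F] V) := by
    apply b.ext
    rintro (i | i)
    · show g (N (b (Sum.inl i))) = N' (g (b (Sum.inl i)))
      rw [hb1, hg, hg, hb1']
    · show g (N (b (Sum.inr i))) = N' (g (b (Sum.inr i)))
      rw [hb2, hg, hb2', map_zero]
  exact congrArg (fun f => f x) this

/-- diagonal maps -/
theorem exists_diag {ι : Type*} [Fintype ι] [DecidableEq ι] (b : Module.Basis ι F V) (w : ι → Fˣ) :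
    ∃ z : V ≃ₗ[F] V, (∀ i, z (b i) = (w i : F) • b i) ∧ LinearEquiv.det z = ∏ i, w i := by
  let z : V ≃ₗ[F] V := b.equiv (b.unitsSMul w) (Equiv.refl _)
  have hz : ∀ i, z (b i) = (w i : F) • b i := by
    intro i
    simp [z, Module.Basis.unitsSMul_apply, Units.smul_def]
  refine ⟨z, hz, ?_⟩
  apply Units.ext
  rw [LinearEquiv.coe_det, ← LinearMap.det_toMatrix b]
  have : LinearMap.toMatrix b b (z : V →ₗ[F] V) = Matrix.diagonal (fun i => (w i : F)) := by
    ext i j
    rw [LinearMap.toMatrix_apply]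
    show b.repr (z (b j)) i = _
    rw [hz, map_smul, Module.Basis.repr_self, Finsupp.smul_apply, smul_eq_mul, Finsupp.single_apply]
    by_cases hij : i = j
    · subst hij; simp
    · rw [Matrix.diagonal_apply_ne _ hij, if_neg (fun h => hij h.symm), mul_zero]
  rw [this, Matrix.det_diagonal]
  simp

/-- centraliser elements with prescribed determinant -/
theorem exists_cent {N : V →ₗ[F] V} (hN : ∀ x, N (N x) = 0) (d : Fˣ) :
    (2 * Module.finrank F (LinearMap.range N) < Module.finrank F V →
      ∃ z : V ≃ₗ[F] V, (∀ x, z (N x) = N (z x)) ∧ LinearEquiv.det z = d) ∧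
    (1 ≤ Module.finrank F (LinearMap.range N) →
      ∃ z : V ≃ₗ[F] V, (∀ x, z (N x) = N (z x)) ∧ LinearEquiv.det z = d ^ 2) := by
  classical
  have h1 := two_mul_le N hN
  obtain ⟨m, hm⟩ : ∃ m, Module.finrank F V = 2 * Module.finrank F (LinearMap.range N) + m :=
    ⟨_, (Nat.add_sub_cancel' h1).symm⟩
  obtain ⟨b, hb1, hb2⟩ := exists_basis N hN rfl hm
  have key : ∀ w : (Fin (Module.finrank F (LinearMap.range N)) ⊕
      (Fin (Module.finrank F (LinearMap.range N)) ⊕ Fin m)) → Fˣ,
      (∀ i, w (Sum.inl i) = w (Sum.inr (Sum.inl i))) →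
      ∃ z : V ≃ₗ[F] V, (∀ x, z (N x) = N (z x)) ∧ LinearEquiv.det z = ∏ i, w i := by
    intro w hw
    obtain ⟨z, hz, hd⟩ := exists_diag b w
    refine ⟨z, fun x => ?_, hd⟩
    have : (z : V →ₗ[F] V).comp N = N.comp (z : V →ₗ[F] V) := by
      apply b.ext
      rintro (i | i)
      · show z (N (b (Sum.inl i))) = N (z (b (Sum.inl i)))
        rw [hb1, hz, hz, map_smul, hb1, hw]
      · show z (N (b (Sum.inr i))) = N (z (b (Sum.inr i)))
        rw [hb2, hz, map_smul, hb2, map_zero, smul_zero]
    exact congrArg (fun f => f x) this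
  constructor
  · intro h
    let j0 : Fin m := ⟨0, by omega⟩
    obtain ⟨z, hz, hd⟩ := key (fun i => if i = Sum.inr (Sum.inr j0) then d else 1) (fun i => by simp)
    refine ⟨z, hz, ?_⟩
    rw [hd, Finset.prod_ite_eq' Finset.univ (Sum.inr (Sum.inr j0)) (fun _ => d),
      if_pos (Finset.mem_univ _)]
  · intro h
    let i0 : Fin (Module.finrank F (LinearMap.range N)) := ⟨0, by omega⟩
    obtain ⟨z, hz, hd⟩ := key (Sum.elim (fun i => if i = i0 then d else 1)
      (Sum.elim (fun i => if i = i0 then d else 1) (fun _ => 1))) (fun i => rfl)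
    refine ⟨z, hz, ?_⟩
    rw [hd, Fintype.prod_sum_type, Fintype.prod_sum_type]
    simp only [Sum.elim_inl, Sum.elim_inr]
    rw [Finset.prod_ite_eq' Finset.univ i0 (fun _ => d), if_pos (Finset.mem_univ _), Finset.prod_const_one,
      mul_one, pow_two]

end Cfsg.Agent.Lib.SqZero
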