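import Mathlib
import Cfsg.Agent.Lib.SqZero
import Cfsg.Agent.Lib.Herm13

/-! Involutions in characteristic two and transvections: matrices. -/

set_option linter.all false
set_option maxHeartbeats 400000

namespace Cfsg.Agent.Lib.SqZero

open Matrix Cfsg.Agent.Lib.Herm

section SL

variable {F : Type*} [Field F] {n : ℕ}

theorem rank_eq (A : Matrix (Fin n) (Fin n) F) :
    Module.finrank F (LinearMap.range (Matrix.toLin' A)) = A.rank := rfl

theorem eq_zero_of_rank {A : Matrix (Fin n) (Fin n) F} (h : A.rank = 0) : A = 0 := by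
  rw [← rank_eq, Submodule.finrank_eq_zero, LinearMap.range_eq_bot] at h
  exact Matrix.toLin'.injective (h.trans (map_zero _).symm)

/-- conjugating by a determinant one linear equivalence -/
theorem isConj_SL {A B : SpecialLinearGroup (Fin n) F} {k : (Fin n → F) ≃ₗ[F] (Fin n → F)}
    (hk : LinearEquiv.det k = 1)
    (h : ∀ x, k ((A : Matrix (Fin n) (Fin n) F) *ᵥ x) = (B : Matrix (Fin n) (Fin n) F) *ᵥ (k x)) :
    IsConj A B := by
  obtain ⟨G, rfl⟩ := (gl n F).surjective k
  rw [gl_det] at hk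
  let g : SpecialLinearGroup (Fin n) F := ⟨(G : Matrix (Fin n) (Fin n) F), congrArg Units.val hk⟩
  rw [isConj_iff]
  refine ⟨g, ?_⟩
  rw [mul_inv_eq_iff_eq_mul]
  apply Subtype.ext
  apply Matrix.toLin'.injective
  apply LinearMap.ext
  intro x
  rw [Matrix.toLin'_apply, Matrix.toLin'_apply]
  show ((G : Matrix (Fin n) (Fin n) F) * (A : Matrix (Fin n) (Fin n) F)) *ᵥ x =
    ((B : Matrix (Fin n) (Fin n) F) * (G : Matrix (Fin n) (Fin n) F)) *ᵥ x
  rw [← Matrix.mulVec_mulVec, ← Matrix.mulVec_mulVec]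
  exact h x

theorem isConj_GL {A B : GL (Fin n) F} {k : (Fin n → F) ≃ₗ[F] (Fin n → F)}
    (h : ∀ x, k ((A : Matrix (Fin n) (Fin n) F) *ᵥ x) = (B : Matrix (Fin n) (Fin n) F) *ᵥ (k x)) :
    IsConj A B := by
  obtain ⟨G, rfl⟩ := (gl n F).surjective k
  rw [isConj_iff]
  refine ⟨G, ?_⟩
  rw [mul_inv_eq_iff_eq_mul]
  apply Units.ext
  apply Matrix.toLin'.injective
  apply LinearMap.ext
  intro x
  rw [Matrix.toLin'_apply, Matrix.toLin'_apply]
  show ((G : Matrix (Fin n) (Fin n) F) * (A : Matrix (Fin n) (Fin n) F)) *ᵥ x =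
    ((B : Matrix (Fin n) (Fin n) F) * (G : Matrix (Fin n) (Fin n) F)) *ᵥ x
  rw [← Matrix.mulVec_mulVec, ← Matrix.mulVec_mulVec]
  exact h x

theorem rank_conj_SL {A B : SpecialLinearGroup (Fin n) F} (h : IsConj A B) :
    ((A : Matrix (Fin n) (Fin n) F) - 1).rank = ((B : Matrix (Fin n) (Fin n) F) - 1).rank := by
  rw [isConj_iff] at h
  obtain ⟨g, rfl⟩ := h
  have h1 : ((g * A * g⁻¹ : SpecialLinearGroup (Fin n) F) : Matrix (Fin n) (Fin n) F) - 1 =
      (g : Matrix (Fin n) (Fin n) F) * ((A : Matrix (Fin n) (Fin n) F) - 1) *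
        ((g⁻¹ : SpecialLinearGroup (Fin n) F) : Matrix (Fin n) (Fin n) F) := by
    have h2 : (g : Matrix (Fin n) (Fin n) F) * ((g⁻¹ : SpecialLinearGroup (Fin n) F) : Matrix (Fin n) (Fin n) F) = 1 := by
      have : ((g * g⁻¹ : SpecialLinearGroup (Fin n) F) : Matrix (Fin n) (Fin n) F) = 1 := by
        rw [mul_inv_cancel]; rfl
      exact this
    rw [mul_sub, mul_one, sub_mul, h2]
    rfl
  rw [h1]
  have hu : IsUnit (g : Matrix (Fin n) (Fin n) F).det := by rw [g.2]; exact isUnit_one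
  have hu' : IsUnit ((g⁻¹ : SpecialLinearGroup (Fin n) F) : Matrix (Fin n) (Fin n) F).det := by
    rw [(g⁻¹).2]; exact isUnit_one
  rw [Matrix.rank_mul_eq_left_of_isUnit_det _ _ hu', Matrix.rank_mul_eq_right_of_isUnit_det _ _ hu]

/-- square zero parts with equal rank, `SL` version -/
theorem conj_SL {A B : SpecialLinearGroup (Fin n) F}
    (hA : ((A : Matrix (Fin n) (Fin n) F) - 1) * ((A : Matrix (Fin n) (Fin n) F) - 1) = 0)
    (hB : ((B : Matrix (Fin n) (Fin n) F) - 1) * ((B : Matrix (Fin n) (Fin n) F) - 1) = 0)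
    (hr : ((A : Matrix (Fin n) (Fin n) F) - 1).rank = ((B : Matrix (Fin n) (Fin n) F) - 1).rank)
    (hd : 2 * ((B : Matrix (Fin n) (Fin n) F) - 1).rank < n ∨
      (1 ≤ ((B : Matrix (Fin n) (Fin n) F) - 1).rank ∧ ∀ d : Fˣ, ∃ c, c ^ 2 = d)) : IsConj A B := by
  have sq : ∀ C : SpecialLinearGroup (Fin n) F, ((C : Matrix (Fin n) (Fin n) F) - 1) * ((C : Matrix (Fin n) (Fin n) F) - 1) = 0 →
      ∀ x, Matrix.toLin' ((C : Matrix (Fin n) (Fin n) F) - 1) (Matrix.toLin' ((C : Matrix (Fin n) (Fin n) F) - 1) x) = 0 := by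
    intro C hC x
    rw [← LinearMap.comp_apply, ← Matrix.toLin'_mul, hC, map_zero]; rfl
  obtain ⟨g, hg⟩ := conj (sq A hA) (sq B hB) hr
  have hz : ∃ z : (Fin n → F) ≃ₗ[F] (Fin n → F),
      (∀ x, z (Matrix.toLin' ((B : Matrix (Fin n) (Fin n) F) - 1) x) =
        Matrix.toLin' ((B : Matrix (Fin n) (Fin n) F) - 1) (z x)) ∧ LinearEquiv.det z = (LinearEquiv.det g)⁻¹ := by
    rcases hd with hd | ⟨h1, hsq⟩
    · exact (exists_cent (sq B hB) (LinearEquiv.det g)⁻¹).1 (by rw [rank_eq]; simpa using hd)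
    · obtain ⟨c, hc⟩ := hsq (LinearEquiv.det g)⁻¹
      obtain ⟨z, hz, hzd⟩ := (exists_cent (sq B hB) c).2 (by rw [rank_eq]; exact h1)
      exact ⟨z, hz, by rw [hzd, hc]⟩
  obtain ⟨z, hz, hzd⟩ := hz
  apply isConj_SL (k := z * g) (by rw [map_mul, hzd, inv_mul_cancel])
  intro x
  have e1 : ∀ (C : SpecialLinearGroup (Fin n) F) (y : Fin n → F), (C : Matrix (Fin n) (Fin n) F) *ᵥ y =
      y + Matrix.toLin' ((C : Matrix (Fin n) (Fin n) F) - 1) y := by
    intro C y
    rw [Matrix.toLin'_apply, Matrix.sub_mulVec, Matrix.one_mulVec]; abel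
  rw [e1 A, e1 B, map_add]
  show z (g x) + z (g _) = z (g x) + _
  rw [hg, hz]
  rfl

theorem sq_of_involution [CharP F 2] {A : SpecialLinearGroup (Fin n) F} (hA : A * A = 1) :
    ((A : Matrix (Fin n) (Fin n) F) - 1) * ((A : Matrix (Fin n) (Fin n) F) - 1) = 0 := by
  have h1 : (A : Matrix (Fin n) (Fin n) F) * (A : Matrix (Fin n) (Fin n) F) = 1 := congrArg Subtype.val hA
  have h2 : (A : Matrix (Fin n) (Fin n) F) + (A : Matrix (Fin n) (Fin n) F) = 0 := by
    ext i j
    exact CharTwo.add_self_eq_zero _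
  have h3 : (1 : Matrix (Fin n) (Fin n) F) + 1 = 0 := by
    ext i j
    exact CharTwo.add_self_eq_zero _
  calc _ = (A : Matrix (Fin n) (Fin n) F) * (A : Matrix (Fin n) (Fin n) F) -
        ((A : Matrix (Fin n) (Fin n) F) + (A : Matrix (Fin n) (Fin n) F)) + 1 := by noncomm_ring
    _ = 0 := by rw [h1, h2, sub_zero, h3]

theorem exists_sqrt [Finite F] [CharP F 2] (d : Fˣ) : ∃ c, c ^ 2 = d := by
  obtain ⟨c, hc⟩ := (FiniteField.isSquare_of_char_two (F := F) (CharP.ringChar_of_prime_eq_zero Nat.prime_two (by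
    have := CharP.cast_eq_zero F 2; exact_mod_cast this)) (d : F))
  have hc0 : c ≠ 0 := by
    rintro rfl
    rw [mul_zero] at hc
    exact d.ne_zero hc
  exact ⟨Units.mk0 c hc0, Units.ext (by rw [pow_two]; exact hc.symm)⟩

end SL

section Ex

variable {F : Type*} [Field F] {n l : ℕ}

/-- inclusion of the first coordinates -/
def A1 (F : Type*) [Field F] (n l : ℕ) : Matrix (Fin n) (Fin l) F := Matrix.of fun i k => if i.val = k.val then 1 else 0

/-- inclusion of the last coordinates -/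
def A2 (F : Type*) [Field F] (n l : ℕ) : Matrix (Fin n) (Fin l) F :=
  Matrix.of fun i k => if i.val = k.val + (n - l) then 1 else 0

theorem A11 (h : l ≤ n) : (A1 F n l).transpose * A1 F n l = 1 := by
  ext k k'
  rw [Matrix.mul_apply, Finset.sum_eq_single (⟨k.val, by omega⟩ : Fin n)]
  · simp only [Matrix.transpose_apply, A1, Matrix.of_apply, if_true, one_mul, Matrix.one_apply]
    congr 1
    rw [Fin.ext_iff]
  · intro i _ hi
    have : ¬ i.val = k.val := fun h => hi (Fin.ext h)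
    simp only [Matrix.transpose_apply, A1, Matrix.of_apply, if_neg this, zero_mul]
  · intro h; exact absurd (Finset.mem_univ _) h

theorem A22 (h : l ≤ n) : (A2 F n l).transpose * A2 F n l = 1 := by
  ext k k'
  rw [Matrix.mul_apply, Finset.sum_eq_single (⟨k.val + (n - l), by omega⟩ : Fin n)]
  · simp only [Matrix.transpose_apply, A2, Matrix.of_apply, if_true, one_mul, Matrix.one_apply]
    congr 1
    rw [Fin.ext_iff]
    exact propext ⟨fun h => by omega, fun h => by omega⟩
  · intro i _ hi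
    have : ¬ i.val = k.val + (n - l) := fun h => hi (Fin.ext h)
    simp only [Matrix.transpose_apply, A2, Matrix.of_apply, if_neg this, zero_mul]
  · intro h; exact absurd (Finset.mem_univ _) h

theorem A12 (h : 2 * l ≤ n) : (A1 F n l).transpose * A2 F n l = 0 := by
  ext k k'
  rw [Matrix.mul_apply, Matrix.zero_apply]
  apply Finset.sum_eq_zero
  intro i _
  simp only [Matrix.transpose_apply, A1, A2, Matrix.of_apply]
  by_cases h1 : i.val = k.val
  · rw [if_neg (by omega : ¬ i.val = k'.val + (n - l)), mul_zero]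
  · rw [if_neg h1, zero_mul]

theorem A21 (h : 2 * l ≤ n) : (A2 F n l).transpose * A1 F n l = 0 := by
  have := congrArg Matrix.transpose (A12 (F := F) h)
  rw [Matrix.transpose_mul, Matrix.transpose_transpose, Matrix.transpose_zero] at this
  exact this

theorem rank_mul_eq {U : Matrix (Fin n) (Fin l) F} {W : Matrix (Fin l) (Fin n) F}
    {L : Matrix (Fin l) (Fin n) F} {R : Matrix (Fin n) (Fin l) F} (h1 : L * U = 1) (h2 : W * R = 1) :
    (U * W).rank = l := by
  apply le_antisymm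
  · exact (Matrix.rank_mul_le_left U W).trans ((Matrix.rank_le_width U))
  · have h3 : L * (U * W) * R = 1 := by
      rw [← Matrix.mul_assoc, h1, Matrix.one_mul, h2]
    have h4 : (1 : Matrix (Fin l) (Fin l) F).rank = l := by rw [Matrix.rank_one, Fintype.card_fin]
    refine h4.symm.le.trans ?_
    rw [← h3]
    exact (Matrix.rank_mul_le_left _ _).trans (Matrix.rank_mul_le_right _ _)

end Ex

end Cfsg.Agent.Lib.SqZero
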