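import Mathlib
import Cfsg.Agent.Lib.RCF2
import Cfsg.Agent.Lib.SqZero2

/-! Determinants of elements centralizing a semisimple endomorphism over a finite field. -/

set_option linter.all false
set_option maxHeartbeats 400000

namespace Cfsg.Agent.Lib.RCF

open Polynomial

section Field

variable {F : Type*} [Field F] [Finite F] {W : Type*} [AddCommGroup W] [Module F W] [FiniteDimensional F W]

theorem exists_cent_irred {S : W →ₗ[F] W} {π : F[X]} (hπ : Irreducible π) (h : aeval S π = 0) (d : Fˣ)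
    (hW : Nontrivial W) : ∃ z : W ≃ₗ[F] W, (∀ x, z (S x) = S (z x)) ∧ LinearEquiv.det z = d := by
  classical
  haveI : Fact (Irreducible π) := ⟨hπ⟩
  haveI : Module.Finite F (AdjoinRoot π) := (AdjoinRoot.powerBasis hπ.ne_zero).finite
  haveI : Finite (AdjoinRoot π) := Module.finite_of_finite F
  haveI : Finite W := Module.finite_of_finite F
  let φ : AdjoinRoot π →+* Module.End F W :=
    Ideal.Quotient.lift (Ideal.span {π}) (aeval S : F[X] →ₐ[F] Module.End F W).toRingHom (by
      intro a ha
      obtain ⟨c, rfl⟩ := Ideal.mem_span_singleton'.mp ha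
      show aeval S (c * π) = 0
      rw [map_mul, h, mul_zero])
  have hφ : ∀ f : F[X], φ (AdjoinRoot.mk π f) = aeval S f := fun f => rfl
  letI : Module (AdjoinRoot π) W := Module.compHom W φ
  have hsm : ∀ (f : F[X]) (x : W), (AdjoinRoot.mk π f) • x = aeval S f x := fun f x => rfl
  haveI : IsScalarTower F (AdjoinRoot π) W := by
    constructor
    intro a k x
    obtain ⟨f, rfl⟩ := AdjoinRoot.mk_surjective k
    have h1 : a • AdjoinRoot.mk π f = AdjoinRoot.mk π (C a * f) := by
      rw [map_mul, AdjoinRoot.mk_C, Algebra.smul_def]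
      rfl
    rw [h1, hsm, hsm, map_mul, aeval_C, Module.End.mul_apply]
    rfl
  haveI : FiniteDimensional (AdjoinRoot π) W := Module.Finite.of_restrictScalars_finite F _ _
  obtain ⟨y, hy⟩ := FiniteField.unitsMap_norm_surjective F (AdjoinRoot π) d
  let b := Module.finBasis (AdjoinRoot π) W
  have hpos : 0 < Module.finrank (AdjoinRoot π) W := Module.finrank_pos
  let i0 : Fin (Module.finrank (AdjoinRoot π) W) := ⟨0, hpos⟩
  obtain ⟨z, -, hz⟩ := SqZero.exists_diag b (Function.update 1 i0 y)
  have hprod : (∏ i, (Function.update (1 : Fin (Module.finrank (AdjoinRoot π) W) → (AdjoinRoot π)ˣ) i0 y) i) = y := by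
    rw [Finset.prod_update_of_mem (Finset.mem_univ i0)]
    simp
  rw [hprod] at hz
  refine ⟨z.restrictScalars F, ?_, ?_⟩
  · intro x
    have h1 : ∀ x, S x = (AdjoinRoot.mk π X) • x := by
      intro x
      rw [hsm, aeval_X]
    show z (S x) = S (z x)
    rw [h1, h1, map_smul]
  · apply Units.ext
    rw [LinearEquiv.coe_det]
    have h2 : ((z.restrictScalars F : W ≃ₗ[F] W) : W →ₗ[F] W) =
        (LinearMap.restrictScalars F (z : W →ₗ[AdjoinRoot π] W)) := rfl
    rw [h2, LinearMap.det_restrictScalars, ← LinearEquiv.coe_det, hz]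
    exact congrArg Units.val hy

end Field

section Comb

variable {F : Type*} [Field F] {V : Type*} [AddCommGroup V] [Module F V] [FiniteDimensional F V]

/-- gluing a centralizing automorphism of a primary part with the identity -/
theorem extend_cent {T : V →ₗ[F] V} {f g : F[X]} (hfg : IsCoprime f g) (h0 : aeval T (f * g) = 0)
    (z : LinearMap.ker (aeval T f) ≃ₗ[F] LinearMap.ker (aeval T f))
    (hz : ∀ x, z (rst T f x) = rst T f (z x)) :
    ∃ c : V ≃ₗ[F] V, (∀ x, c (T x) = T (c x)) ∧ LinearEquiv.det c = LinearEquiv.det z := by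
  have hdis := Polynomial.disjoint_ker_aeval_of_isCoprime T hfg
  have hsup := Polynomial.sup_ker_aeval_eq_ker_aeval_mul_of_coprime T hfg
  rw [h0, LinearMap.ker_zero] at hsup
  have hcompl : IsCompl (LinearMap.ker (aeval T f)) (LinearMap.ker (aeval T g)) :=
    ⟨hdis, codisjoint_iff.mpr hsup⟩
  let e := Submodule.prodEquivOfIsCompl _ _ hcompl
  have he : ∀ y : LinearMap.ker (aeval T f) × LinearMap.ker (aeval T g), e y = (y.1 : V) + (y.2 : V) := fun y => rfl
  let zz : (LinearMap.ker (aeval T f) × LinearMap.ker (aeval T g)) ≃ₗ[F]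
      (LinearMap.ker (aeval T f) × LinearMap.ker (aeval T g)) := z.prodCongr (LinearEquiv.refl F _)
  let c : V ≃ₗ[F] V := e.symm.trans (zz.trans e)
  have hc : ∀ y, c (e y) = e (zz y) := by
    intro y
    show e (zz (e.symm (e y))) = _
    rw [e.symm_apply_apply]
  have hT : ∀ y : LinearMap.ker (aeval T f) × LinearMap.ker (aeval T g), T (e y) = e (rst T f y.1, rst T g y.2) := by
    intro y
    rw [he, he, map_add]
    rfl
  refine ⟨c, ?_, ?_⟩
  · intro x
    obtain ⟨y, rfl⟩ := e.surjective x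
    rw [hT, hc, hc, hT]
    show e (z (rst T f y.1), rst T g y.2) = e (rst T f (z y.1), rst T g y.2)
    rw [hz]
  · have h1 : LinearEquiv.det c = LinearEquiv.det zz := LinearEquiv.det_conj zz e
    rw [h1]
    apply Units.ext
    rw [LinearEquiv.coe_det, LinearEquiv.coe_det]
    have h2 : (zz : (LinearMap.ker (aeval T f) × LinearMap.ker (aeval T g)) →ₗ[F] _) =
        LinearMap.prodMap (z : LinearMap.ker (aeval T f) →ₗ[F] LinearMap.ker (aeval T f)) LinearMap.id := by
      apply LinearMap.ext; intro y; rfl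
    rw [h2, LinearMap.det_prodMap, LinearMap.det_id, mul_one]

/-- the determinant of elements centralizing a semisimple endomorphism is arbitrary -/
theorem exists_cent_semisimple [Finite F] [Nontrivial V] {T : V →ₗ[F] V} {m : F[X]} (hm : Squarefree m)
    (hT : aeval T m = 0) (d : Fˣ) :
    ∃ c : V ≃ₗ[F] V, (∀ x, c (T x) = T (c x)) ∧ LinearEquiv.det c = d := by
  classical
  set μ := minpoly F T with hμ
  have hμd : μ ∣ m := minpoly.dvd F T hT
  have hμu : ¬ IsUnit μ := minpoly.not_isUnit F T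
  have hμ0 : μ ≠ 0 := minpoly.ne_zero (Algebra.IsIntegral.isIntegral T)
  obtain ⟨π, hπ, g, hg⟩ := WfDvdMonoid.exists_irreducible_factor hμu hμ0
  have hsq : Squarefree μ := hm.squarefree_of_dvd hμd
  have hcop : IsCoprime π g := by
    rw [hg] at hsq
    exact ((squarefree_mul_iff).mp hsq).1.isCoprime
  have hT' : aeval T (π * g) = 0 := by rw [← hg]; exact minpoly.aeval F T
  have hnt : Nontrivial (LinearMap.ker (aeval T π)) := by
    rw [Submodule.nontrivial_iff_ne_bot]
    intro hbot
    have h1 : aeval T g = 0 := by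
      apply LinearMap.ext
      intro x
      have h2 : aeval T π (aeval T g x) = 0 := by
        rw [← Module.End.mul_apply, ← map_mul, hT']; rfl
      have h3 : aeval T g x ∈ LinearMap.ker (aeval T π) := h2
      rw [hbot, Submodule.mem_bot] at h3
      rw [h3]; rfl
    have h4 := minpoly.dvd F T h1
    rw [← hμ, hg] at h4
    have hg0 : g ≠ 0 := by
      rintro rfl
      rw [mul_zero] at hg
      exact hμ0 hg
    apply hπ.not_isUnit
    obtain ⟨c, hc⟩ := h4
    have h5 : π * c = 1 := by
      apply mul_left_cancel₀ hg0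
      rw [mul_one]
      conv_rhs => rw [hc]
      ring
    exact IsUnit.of_mul_eq_one _ h5
  obtain ⟨z, hz1, hz2⟩ := exists_cent_irred hπ (aeval_rst_self T π) d hnt
  obtain ⟨c, hc1, hc2⟩ := extend_cent hcop hT' z hz1
  exact ⟨c, hc1, hc2.trans hz2⟩

end Comb

section Mats

variable {F : Type*} [Field F] [Finite F] {p : ℕ} [Fact p.Prime] [CharP F p] {n : ℕ}

theorem squarefree_X_pow {N : ℕ} (hN : N.Coprime p) : Squarefree ((X : F[X]) ^ N - 1) := by
  apply Polynomial.Separable.squarefree
  rw [Polynomial.X_pow_sub_one_separable_iff]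
  intro h
  rw [CharP.cast_eq_zero_iff F p] at h
  have h2 := (Fact.out : p.Prime)
  have := Nat.Coprime.eq_one_of_dvd hN.symm h
  exact h2.one_lt.ne' this

theorem charpoly_toLin' {ι : Type*} [Fintype ι] [DecidableEq ι] (A : Matrix ι ι F) :
    (Matrix.toLin' A).charpoly = A.charpoly := by
  rw [← LinearMap.charpoly_toMatrix (Matrix.toLin' A) (Pi.basisFun F ι), LinearMap.toMatrix_eq_toMatrix',
    LinearMap.toMatrix'_toLin']

theorem aeval_X_pow_toLin' {ι : Type*} [Fintype ι] [DecidableEq ι] {N : ℕ} (A : Matrix ι ι F) (hA : A ^ N = 1) :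
    aeval (Matrix.toLin' A) ((X : F[X]) ^ N - 1) = 0 := by
  rw [map_sub, map_pow, aeval_X, map_one, ← Matrix.toLin'_pow, hA, Matrix.toLin'_one, sub_eq_zero]
  rfl

theorem exists_equiv_of_charpoly {ι : Type*} [Fintype ι] [DecidableEq ι] {A B : Matrix ι ι F} {N : ℕ} (hN : N.Coprime p) (hA : A ^ N = 1) (hB : B ^ N = 1)
    (hc : A.charpoly = B.charpoly) :
    ∃ k : (ι → F) ≃ₗ[F] (ι → F), ∀ x, k (Matrix.mulVec A x) = Matrix.mulVec B (k x) := by
  obtain ⟨g, hg⟩ := similar_of_charpoly (T := Matrix.toLin' A)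
    (S := Matrix.toLin' B) (by rw [charpoly_toLin', charpoly_toLin', hc]) (squarefree_X_pow (p := p) hN)
      (aeval_X_pow_toLin' _ hA) (aeval_X_pow_toLin' _ hB)
  exact ⟨g, hg⟩

theorem exists_equiv_cent {ι : Type*} [Fintype ι] [DecidableEq ι] [Nonempty ι] {A : Matrix ι ι F} {N : ℕ} (hN : N.Coprime p) (hA : A ^ N = 1) (d : Fˣ) :
    ∃ k : (ι → F) ≃ₗ[F] (ι → F), (∀ x, k (Matrix.mulVec A x) = Matrix.mulVec A (k x)) ∧ LinearEquiv.det k = d := by
  obtain ⟨c, hc, hd⟩ := exists_cent_semisimple (T := Matrix.toLin' A) (squarefree_X_pow (p := p) hN)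
    (aeval_X_pow_toLin' _ hA) d
  exact ⟨c, hc, hd⟩

/-- matrices of order prime to `p` with the same characteristic polynomial are conjugate -/
theorem conj_GL_of_charpoly {A B : GL (Fin n) F} (hA : (orderOf A).Coprime p) (hB : (orderOf B).Coprime p)
    (hc : (A : Matrix (Fin n) (Fin n) F).charpoly = (B : Matrix (Fin n) (Fin n) F).charpoly) : IsConj A B := by
  set N := orderOf A * orderOf B with hN
  have hNp : N.Coprime p := Nat.Coprime.mul_left hA hB
  have hA1 : (A : Matrix (Fin n) (Fin n) F) ^ N = 1 := by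
    have : A ^ N = 1 := by rw [hN, pow_mul, pow_orderOf_eq_one, one_pow]
    exact congrArg Units.val this
  have hB1 : (B : Matrix (Fin n) (Fin n) F) ^ N = 1 := by
    have : B ^ N = 1 := by rw [hN, mul_comm, pow_mul, pow_orderOf_eq_one, one_pow]
    exact congrArg Units.val this
  obtain ⟨k, hk⟩ := exists_equiv_of_charpoly hNp hA1 hB1 hc
  exact SqZero.isConj_GL hk

theorem conj_SL_of_charpoly {A B : Matrix.SpecialLinearGroup (Fin n) F} (hA : (orderOf A).Coprime p) (hB : (orderOf B).Coprime p)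
    (hc : (A : Matrix (Fin n) (Fin n) F).charpoly = (B : Matrix (Fin n) (Fin n) F).charpoly) : IsConj A B := by
  set N := orderOf A * orderOf B with hN
  have hNp : N.Coprime p := Nat.Coprime.mul_left hA hB
  have hA1 : (A : Matrix (Fin n) (Fin n) F) ^ N = 1 := by
    have : A ^ N = 1 := by rw [hN, pow_mul, pow_orderOf_eq_one, one_pow]
    have h := congrArg (Subtype.val) this
    rw [Matrix.SpecialLinearGroup.coe_pow] at h
    exact h
  have hB1 : (B : Matrix (Fin n) (Fin n) F) ^ N = 1 := by
    have : B ^ N = 1 := by rw [hN, mul_comm, pow_mul, pow_orderOf_eq_one, one_pow]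
    have h := congrArg (Subtype.val) this
    rw [Matrix.SpecialLinearGroup.coe_pow] at h
    exact h
  obtain ⟨k, hk⟩ := exists_equiv_of_charpoly hNp hA1 hB1 hc
  rcases Nat.eq_zero_or_pos n with hn | hn
  · subst hn
    have : A = B := Subtype.ext (Subsingleton.elim _ _)
    rw [this]
  haveI : Nonempty (Fin n) := ⟨⟨0, hn⟩⟩
  obtain ⟨c, hc1, hc2⟩ := exists_equiv_cent hNp hA1 (LinearEquiv.det k)⁻¹
  refine SqZero.isConj_SL (k := k * c) ?_ ?_
  · rw [map_mul, hc2, mul_inv_cancel]
  · intro x
    show k (c (Matrix.mulVec _ x)) = Matrix.mulVec _ (k (c x))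
    rw [hc1, hk]

end Mats

end Cfsg.Agent.Lib.RCF
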