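import Mathlib
import Cfsg.Agent.Lib.RCF3

/-! Counting semisimple classes of `GL_n(q)` and `SL_n(q)`. -/

set_option linter.all false
set_option maxHeartbeats 400000

namespace Cfsg.Agent.Lib.RCF

open Polynomial

theorem card_classes {G T : Type*} [Group G] (P : G → Prop) (Φ : G → T)
    (hinj : ∀ g h, P g → P h → Φ g = Φ h → IsConj g h) (hinv : ∀ g h, IsConj g h → Φ g = Φ h)
    (hsurj : ∀ t, ∃ g, P g ∧ Φ g = t) :
    Nat.card {c : ConjClasses G // ∃ g, ConjClasses.mk g = c ∧ P g} = Nat.card T := by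
  apply Nat.card_congr
  apply Equiv.ofBijective (fun c => Φ c.2.choose)
  constructor
  · intro c c' h
    apply Subtype.ext
    have h1 := c.2.choose_spec
    have h2 := c'.2.choose_spec
    rw [← h1.1, ← h2.1, ConjClasses.mk_eq_mk_iff_isConj]
    exact hinj _ _ h1.2 h2.2 h
  · intro t
    obtain ⟨g, hg, rfl⟩ := hsurj t
    refine ⟨⟨ConjClasses.mk g, g, rfl, hg⟩, ?_⟩
    apply hinv
    rw [← ConjClasses.mk_eq_mk_iff_isConj]
    exact (⟨ConjClasses.mk g, g, rfl, hg⟩ : {c : ConjClasses G // ∃ g, ConjClasses.mk g = c ∧ P g}).2.choose_spec.1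

section Poly

variable {F : Type*} [Field F]

theorem exists_charpoly {n : ℕ} {f : F[X]} (hf : f.Monic) (hn : f.natDegree = n) :
    ∃ M : Matrix (Fin n) (Fin n) F, M.charpoly = f := by
  let h := AdjoinRoot.powerBasis' hf
  have hd : h.dim = n := hn
  have h1 := charpoly_leftMulMatrix h
  have h2 : minpoly F h.gen = f := by
    show minpoly F (AdjoinRoot.root f) = f
    rw [AdjoinRoot.minpoly_root hf.ne_zero, hf.leadingCoeff, inv_one, C_1, mul_one]
  rw [h2] at h1
  subst hd
  exact ⟨_, h1⟩

/-- monic polynomials of degree `k + 1` -/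
theorem card_monic [Fintype F] (k : ℕ) (P : F → Prop) :
    Nat.card {f : F[X] // f.Monic ∧ f.natDegree = k + 1 ∧ P (f.coeff 0)} =
      Nat.card {x : F // P x} * Fintype.card F ^ k := by
  have e : {f : F[X] // f.Monic ∧ f.natDegree = k + 1 ∧ P (f.coeff 0)} ≃ {x : F // P x} × (Fin k → F) := by
    refine
      { toFun := fun f => (⟨f.1.coeff 0, f.2.2.2⟩, fun i => f.1.coeff (i + 1))
        invFun := fun a => ⟨X ^ (k + 1) + (C a.1.1 + ∑ i : Fin k, C (a.2 i) * X ^ ((i : ℕ) + 1)), ?_, ?_, ?_⟩
        left_inv := ?_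
        right_inv := ?_ }
    · apply monic_X_pow_add
      apply lt_of_le_of_lt (degree_add_le _ _)
      rw [max_lt_iff]
      constructor
      · apply lt_of_le_of_lt degree_C_le
        exact_mod_cast Nat.succ_pos k
      · apply lt_of_le_of_lt (degree_sum_le _ _)
        rw [Finset.sup_lt_iff (by exact_mod_cast WithBot.bot_lt_coe (k+1))]
        intro i _
        apply lt_of_le_of_lt (degree_C_mul_X_pow_le _ _)
        exact_mod_cast Nat.succ_lt_succ i.2
    · have hlt : (C a.1.1 + ∑ i : Fin k, C (a.2 i) * X ^ ((i : ℕ) + 1)).degree < ((k + 1 : ℕ) : WithBot ℕ) := by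
        apply lt_of_le_of_lt (degree_add_le _ _)
        rw [max_lt_iff]
        constructor
        · apply lt_of_le_of_lt degree_C_le
          exact_mod_cast Nat.succ_pos k
        · apply lt_of_le_of_lt (degree_sum_le _ _)
          rw [Finset.sup_lt_iff (by exact_mod_cast WithBot.bot_lt_coe (k+1))]
          intro i _
          apply lt_of_le_of_lt (degree_C_mul_X_pow_le _ _)
          exact_mod_cast Nat.succ_lt_succ i.2
      rw [natDegree_eq_of_degree_eq_some]
      rw [degree_add_eq_left_of_degree_lt, degree_X_pow]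
      rw [degree_X_pow]
      exact hlt
    · have : (X ^ (k + 1) + (C a.1.1 + ∑ i : Fin k, C (a.2 i) * X ^ ((i : ℕ) + 1)) : F[X]).coeff 0 = a.1.1 := by
        rw [coeff_add, coeff_add, coeff_X_pow, if_neg (by omega), coeff_C_zero, finset_sum_coeff,
          Finset.sum_eq_zero, zero_add, add_zero]
        intro i _
        rw [coeff_C_mul_X_pow, if_neg (by omega)]
      rw [this]
      exact a.1.2
    · intro f
      apply Subtype.ext
      obtain ⟨f, hf1, hf2, hf3⟩ := f
      show X ^ (k + 1) + (C (f.coeff 0) + ∑ i : Fin k, C (f.coeff (i + 1)) * X ^ ((i : ℕ) + 1)) = f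
      ext j
      rw [coeff_add, coeff_add, coeff_X_pow, finset_sum_coeff]
      by_cases h0 : j = 0
      · subst h0
        rw [if_neg (by omega), coeff_C_zero, Finset.sum_eq_zero, zero_add, add_zero]
        intro i _
        rw [coeff_C_mul_X_pow, if_neg (by omega)]
      · rw [coeff_C_ne_zero h0, zero_add]
        by_cases h1 : j = k + 1
        · subst h1
          rw [if_pos rfl, Finset.sum_eq_zero, add_zero]
          · rw [← hf2]; exact hf1.symm
          · intro i _
            have := i.2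
            rw [coeff_C_mul_X_pow, if_neg (by omega)]
        · rw [if_neg h1, zero_add]
          by_cases h2 : j < k + 1
          · rw [Finset.sum_eq_single (⟨j - 1, by omega⟩ : Fin k)]
            · rw [coeff_C_mul_X_pow, if_pos (by show j = j - 1 + 1; omega)]
              congr 1
              show j - 1 + 1 = j
              omega
            · intro i _ hi
              rw [coeff_C_mul_X_pow, if_neg]
              intro h
              apply hi
              apply Fin.ext
              show (i : ℕ) = j - 1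
              omega
            · intro h; exact absurd (Finset.mem_univ _) h
          · rw [coeff_eq_zero_of_natDegree_lt (by omega : f.natDegree < j), Finset.sum_eq_zero]
            intro i _
            have := i.2
            rw [coeff_C_mul_X_pow, if_neg (by omega)]
    · intro a
      obtain ⟨⟨x, hx⟩, a⟩ := a
      apply Prod.ext
      · apply Subtype.ext
        show (X ^ (k + 1) + (C x + ∑ i : Fin k, C (a i) * X ^ ((i : ℕ) + 1)) : F[X]).coeff 0 = x
        rw [coeff_add, coeff_add, coeff_X_pow, if_neg (by omega), coeff_C_zero, finset_sum_coeff,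
          Finset.sum_eq_zero, zero_add, add_zero]
        intro i _
        rw [coeff_C_mul_X_pow, if_neg (by omega)]
      · funext j
        show (X ^ (k + 1) + (C x + ∑ i : Fin k, C (a i) * X ^ ((i : ℕ) + 1)) : F[X]).coeff (j + 1) = a j
        have hj := j.2
        rw [coeff_add, coeff_add, coeff_X_pow, if_neg (by omega), coeff_C_ne_zero (by omega), finset_sum_coeff,
          zero_add, zero_add, Finset.sum_eq_single j]
        · rw [coeff_C_mul_X_pow, if_pos rfl]
        · intro i _ hi
          rw [coeff_C_mul_X_pow, if_neg]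
          intro h
          apply hi
          apply Fin.ext
          omega
        · intro h; exact absurd (Finset.mem_univ _) h
  rw [Nat.card_congr e, Nat.card_prod, Nat.card_fun, Nat.card_eq_fintype_card (α := F),
    Nat.card_eq_fintype_card (α := Fin k), Fintype.card_fin]

theorem charpoly_pow [Fintype F] {ι : Type*} [Fintype ι] [DecidableEq ι] (M : Matrix ι ι F) (k : ℕ) :
    (M ^ (Fintype.card F ^ k)).charpoly = M.charpoly := by
  induction k with
  | zero => rw [pow_zero, pow_one]
  | succ k ih => rw [pow_succ, pow_mul, FiniteField.Matrix.charpoly_pow_card, ih]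

/-- the `p'`-part by a power of `q` -/
theorem coprime_pow [Fintype F] {p : ℕ} [Fact p.Prime] [CharP F p] {G : Type*} [Group G] (g : G)
    (hg : orderOf g ≠ 0) : ∃ k, (orderOf (g ^ (Fintype.card F ^ k))).Coprime p := by
  have hp : p.Prime := Fact.out
  obtain ⟨e, he1, he⟩ := FiniteField.card F p
  refine ⟨(orderOf g).factorization p, ?_⟩
  rw [orderOf_pow' _ (pow_ne_zero _ (Fintype.card_ne_zero))]
  rw [Nat.coprime_comm, Nat.Prime.coprime_iff_not_dvd hp]
  intro hdvd
  set a := (orderOf g).factorization p with ha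
  have h1 : p ^ a ∣ Nat.gcd (orderOf g) (Fintype.card F ^ a) := by
    apply Nat.dvd_gcd (Nat.ordProj_dvd _ _)
    rw [he, ← pow_mul]
    apply pow_dvd_pow
    exact Nat.le_mul_of_pos_left _ e.pos
  have h2 : Nat.gcd (orderOf g) (Fintype.card F ^ a) ∣ orderOf g := Nat.gcd_dvd_left _ _
  have h3 : p ^ (a + 1) ∣ orderOf g := by
    obtain ⟨c, hc⟩ := h1
    obtain ⟨d, hd⟩ := hdvd
    have hpos : 0 < Nat.gcd (orderOf g) (Fintype.card F ^ a) := Nat.gcd_pos_of_pos_left _ (Nat.pos_of_ne_zero hg)
    have h4 := Nat.div_mul_cancel h2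
    rw [hd] at h4
    rw [← h4, hc, pow_succ]
    exact ⟨c * d, by ring⟩
  exact Nat.pow_succ_factorization_not_dvd hg hp h3

end Poly

section Count

variable {F : Type*} [Field F] [Fintype F] {p : ℕ} [Fact p.Prime] [CharP F p]

theorem det_charpoly {n : ℕ} (M : Matrix (Fin n) (Fin n) F) : M.charpoly.coeff 0 = (-1) ^ n * M.det := by
  rw [Matrix.det_eq_sign_charpoly_coeff, Fintype.card_fin, ← mul_assoc, ← mul_pow]
  simp

theorem exists_GL_charpoly {n : ℕ} {f : F[X]} (hf1 : f.Monic) (hf2 : f.natDegree = n) (hf3 : f.coeff 0 ≠ 0) :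
    ∃ g : GL (Fin n) F, (orderOf g).Coprime p ∧ (g : Matrix (Fin n) (Fin n) F).charpoly = f := by
  obtain ⟨M, hM⟩ := exists_charpoly hf1 hf2
  have hdet : M.det ≠ 0 := by
    intro h
    apply hf3
    rw [← hM, det_charpoly, h, mul_zero]
  obtain ⟨g, hg⟩ : ∃ g : GL (Fin n) F, (g : Matrix (Fin n) (Fin n) F) = M :=
    ⟨Matrix.GeneralLinearGroup.mkOfDetNeZero M hdet, rfl⟩
  obtain ⟨j, hj⟩ := coprime_pow (F := F) (p := p) g (orderOf_pos g).ne'
  refine ⟨_, hj, ?_⟩
  rw [Units.val_pow_eq_pow_val, charpoly_pow, hg, hM]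

theorem exists_SL_charpoly {n : ℕ} {f : F[X]} (hf1 : f.Monic) (hf2 : f.natDegree = n) (hf3 : f.coeff 0 = (-1) ^ n) :
    ∃ g : Matrix.SpecialLinearGroup (Fin n) F, (orderOf g).Coprime p ∧ (g : Matrix (Fin n) (Fin n) F).charpoly = f := by
  obtain ⟨M, hM⟩ := exists_charpoly hf1 hf2
  have hdet : M.det = 1 := by
    have h5 := det_charpoly M
    rw [hM, hf3] at h5
    have h6 : ((-1 : F) ^ n) ≠ 0 := pow_ne_zero _ (neg_ne_zero.mpr one_ne_zero)
    have h7 : (-1 : F) ^ n * 1 = (-1) ^ n * M.det := by rw [mul_one]; exact h5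
    exact (mul_left_cancel₀ h6 h7).symm
  obtain ⟨g, hg⟩ : ∃ g : Matrix.SpecialLinearGroup (Fin n) F, (g : Matrix (Fin n) (Fin n) F) = M :=
    ⟨⟨M, hdet⟩, rfl⟩
  obtain ⟨j, hj⟩ := coprime_pow (F := F) (p := p) g (orderOf_pos g).ne'
  refine ⟨_, hj, ?_⟩
  rw [Matrix.SpecialLinearGroup.coe_pow, charpoly_pow, hg, hM]

theorem charpoly_GL_conj {n : ℕ} {g h : GL (Fin n) F} (hgh : IsConj g h) :
    (g : Matrix (Fin n) (Fin n) F).charpoly = (h : Matrix (Fin n) (Fin n) F).charpoly := by
  obtain ⟨c, rfl⟩ := isConj_iff.mp hgh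
  rw [Units.val_mul, Matrix.charpoly_mul_comm, ← Units.val_mul]
  congr 2
  group

theorem charpoly_SL_conj {n : ℕ} {g h : Matrix.SpecialLinearGroup (Fin n) F} (hgh : IsConj g h) :
    (g : Matrix (Fin n) (Fin n) F).charpoly = (h : Matrix (Fin n) (Fin n) F).charpoly := by
  obtain ⟨c, rfl⟩ := isConj_iff.mp hgh
  have h1 : c⁻¹ * (c * g) = g := by rw [← mul_assoc, inv_mul_cancel, one_mul]
  rw [Matrix.SpecialLinearGroup.coe_mul, Matrix.charpoly_mul_comm, ← Matrix.SpecialLinearGroup.coe_mul, h1]

theorem card_GL_semisimple (k : ℕ) :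
    Nat.card {c : ConjClasses (GL (Fin (k + 1)) F) // ∃ g : GL (Fin (k + 1)) F, ConjClasses.mk g = c ∧
      (orderOf g).Coprime p} = (Fintype.card F - 1) * Fintype.card F ^ k := by
  have h1 := card_classes (G := GL (Fin (k + 1)) F)
    (T := {f : F[X] // f.Monic ∧ f.natDegree = k + 1 ∧ f.coeff 0 ≠ 0})
    (fun g => (orderOf g).Coprime p) (fun g => ⟨(g : Matrix (Fin (k + 1)) (Fin (k + 1)) F).charpoly,
      Matrix.charpoly_monic _, by rw [Matrix.charpoly_natDegree_eq_dim, Fintype.card_fin], by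
        rw [det_charpoly]
        exact mul_ne_zero (pow_ne_zero _ (neg_ne_zero.mpr one_ne_zero))
          (Matrix.GeneralLinearGroup.det g).ne_zero⟩)
    (by
      intro g h hg hh hc
      exact conj_GL_of_charpoly hg hh (congrArg Subtype.val hc))
    (fun g h hgh => Subtype.ext (charpoly_GL_conj hgh))
    (fun t => by
      obtain ⟨g, hg1, hg2⟩ := exists_GL_charpoly (p := p) t.2.1 t.2.2.1 t.2.2.2
      exact ⟨g, hg1, Subtype.ext hg2⟩)
  rw [h1, card_monic k (fun x => x ≠ 0)]
  congr 1
  classical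
  rw [Nat.card_eq_fintype_card, Fintype.card_subtype_compl, Fintype.card_subtype_eq]

theorem card_SL_semisimple (k : ℕ) :
    Nat.card {c : ConjClasses (Matrix.SpecialLinearGroup (Fin (k + 1)) F) //
      ∃ g : Matrix.SpecialLinearGroup (Fin (k + 1)) F, ConjClasses.mk g = c ∧
      (orderOf g).Coprime p} = Fintype.card F ^ k := by
  have h1 := card_classes (G := Matrix.SpecialLinearGroup (Fin (k + 1)) F)
    (T := {f : F[X] // f.Monic ∧ f.natDegree = k + 1 ∧ f.coeff 0 = (-1) ^ (k + 1)})
    (fun g => (orderOf g).Coprime p) (fun g => ⟨(g : Matrix (Fin (k + 1)) (Fin (k + 1)) F).charpoly,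
      Matrix.charpoly_monic _, by rw [Matrix.charpoly_natDegree_eq_dim, Fintype.card_fin], by
        rw [det_charpoly, g.2, mul_one]⟩)
    (by
      intro g h hg hh hc
      exact conj_SL_of_charpoly hg hh (congrArg Subtype.val hc))
    (fun g h hgh => Subtype.ext (charpoly_SL_conj hgh))
    (fun t => by
      obtain ⟨g, hg1, hg2⟩ := exists_SL_charpoly (p := p) t.2.1 t.2.2.1 t.2.2.2
      exact ⟨g, hg1, Subtype.ext hg2⟩)
  rw [h1, card_monic k (fun x => x = (-1) ^ (k + 1))]
  have : Nat.card {x : F // x = (-1) ^ (k + 1)} = 1 := by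
    rw [Nat.card_eq_one_iff_unique]
    exact ⟨⟨fun a b => Subtype.ext (a.2.trans b.2.symm)⟩, ⟨⟨_, rfl⟩⟩⟩
  rw [this, one_mul]

end Count

end Cfsg.Agent.Lib.RCF
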