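import Mathlib
import Cfsg.Agent.Lib.RCF4

/-! Nilpotent endomorphisms over finite fields: types and similarity. -/

set_option linter.all false
set_option maxHeartbeats 400000

namespace Cfsg.Agent.Lib.RCF

open Polynomial

theorem card_of_type {G T : Type*} [Group G] (P : G → Prop) (R : G → T → Prop)
    (h1 : ∀ g, P g → ∃ t, R g t) (h2 : ∀ g t t', R g t → R g t' → t = t')
    (h3 : ∀ g g' t, P g → P g' → R g t → R g' t → IsConj g g')
    (h4 : ∀ g g' t, IsConj g g' → R g t → R g' t) (h5 : ∀ t, ∃ g, P g ∧ R g t) :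
    Nat.card {c : ConjClasses G // ∃ g, ConjClasses.mk g = c ∧ P g} = Nat.card T := by
  apply Nat.card_congr
  have hex : ∀ c : {c : ConjClasses G // ∃ g, ConjClasses.mk g = c ∧ P g}, ∃ t, R c.2.choose t :=
    fun c => h1 _ c.2.choose_spec.2
  choose Φ hΦ using hex
  apply Equiv.ofBijective Φ
  constructor
  · intro c c' h
    apply Subtype.ext
    have e1 := c.2.choose_spec
    have e2 := c'.2.choose_spec
    rw [← e1.1, ← e2.1, ConjClasses.mk_eq_mk_iff_isConj]
    have e3 := hΦ c
    rw [h] at e3
    exact h3 _ _ _ e1.2 e2.2 e3 (hΦ c')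
  · intro t
    obtain ⟨g, hg, ht⟩ := h5 t
    refine ⟨⟨ConjClasses.mk g, g, rfl, hg⟩, ?_⟩
    set c : {c : ConjClasses G // ∃ g, ConjClasses.mk g = c ∧ P g} := ⟨ConjClasses.mk g, g, rfl, hg⟩ with hc
    have e1 := c.2.choose_spec
    have e2 : IsConj c.2.choose g := by
      rw [← ConjClasses.mk_eq_mk_iff_isConj]
      exact e1.1
    exact h2 g _ _ (h4 _ _ _ e2 (hΦ c)) ht

section Multi

theorem sum_min_succ (s : Multiset ℕ) (j : ℕ) :
    (s.map (fun k => min k (j + 1))).sum = (s.map (fun k => min k j)).sum + s.countP (fun k => j < k) := by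
  induction s using Multiset.induction_on with
  | empty => simp
  | cons a s ih =>
    rw [Multiset.map_cons, Multiset.map_cons, Multiset.sum_cons, Multiset.sum_cons, ih,
      Multiset.countP_cons]
    by_cases h : j < a
    · rw [if_pos h]
      have h1 : min a (j + 1) = j + 1 := by omega
      have h2 : min a j = j := by omega
      rw [h1, h2]; ring
    · rw [if_neg h]
      have h1 : min a (j + 1) = a := by omega
      have h2 : min a j = a := by omega
      rw [h1, h2]; ring

theorem countP_lt_succ (s : Multiset ℕ) (j : ℕ) :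
    s.countP (fun k => j < k) = s.countP (fun k => j + 1 < k) + s.count (j + 1) := by
  induction s using Multiset.induction_on with
  | empty => simp
  | cons a s ih =>
    rw [Multiset.countP_cons, Multiset.countP_cons, Multiset.count_cons, ih]
    by_cases h : a = j + 1
    · subst h
      simp; omega
    · by_cases h2 : j + 1 < a
      · rw [if_pos (by omega), if_pos h2, if_neg (Ne.symm h)]; omega
      · rw [if_neg (by omega), if_neg h2, if_neg (Ne.symm h)]; omega

/-- positive multisets are determined by the sums of minima -/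
theorem multiset_ext {s s' : Multiset ℕ} (hs : ∀ k ∈ s, 0 < k) (hs' : ∀ k ∈ s', 0 < k)
    (h : ∀ j, (s.map (fun k => min k j)).sum = (s'.map (fun k => min k j)).sum) : s = s' := by
  have h1 : ∀ j, s.countP (fun k => j < k) = s'.countP (fun k => j < k) := by
    intro j
    have e1 := sum_min_succ s j
    have e2 := sum_min_succ s' j
    rw [h, h] at e1
    omega
  ext j
  rcases Nat.eq_zero_or_pos j with hj | hj
  · subst hj
    rw [Multiset.count_eq_zero_of_notMem (fun h => (hs 0 h).ne rfl),
      Multiset.count_eq_zero_of_notMem (fun h => (hs' 0 h).ne rfl)]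
  · obtain ⟨i, rfl⟩ : ∃ i, j = i + 1 := ⟨j - 1, by omega⟩
    have e1 := countP_lt_succ s i
    have e2 := countP_lt_succ s' i
    rw [h1, h1] at e1
    omega

end Multi

section Nil

variable {F V W : Type*} [Field F] [AddCommGroup V] [Module F V] [FiniteDimensional F V]
  [AddCommGroup W] [Module F W] [FiniteDimensional F W]

/-- for a nilpotent `T` the kernel of `f(T)` is the kernel of a power of `T` -/
theorem ker_aeval_nilp {T : V →ₗ[F] V} (hT : IsNilpotent T) {f : F[X]} (hf : f ≠ 0) :
    LinearMap.ker (aeval T f) = LinearMap.ker (T ^ (f.rootMultiplicity 0)) := by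
  obtain ⟨g, hg, hg2⟩ := Polynomial.exists_eq_pow_rootMultiplicity_mul_and_not_dvd f hf 0
  have h1 : IsUnit (aeval T g) := by
    have h2 : g.coeff 0 ≠ 0 := by
      intro h
      apply hg2
      rw [map_zero, sub_zero]
      exact Polynomial.X_dvd_iff.mpr h
    have h3 : aeval T g = algebraMap F _ (g.coeff 0) + T * aeval T (g.divX) := by
      conv_lhs => rw [← Polynomial.X_mul_divX_add g]
      rw [map_add, map_mul, aeval_X, aeval_C, add_comm]
    rw [h3]
    apply IsNilpotent.isUnit_add_left_of_commute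
    · apply Commute.isNilpotent_mul_right _ hT
      show T * aeval T g.divX = aeval T g.divX * T
      have h4 : aeval T (X : F[X]) * aeval T g.divX = aeval T g.divX * aeval T (X : F[X]) := by
        rw [← map_mul, ← map_mul, mul_comm]
      rw [aeval_X] at h4
      exact h4
    · exact (IsUnit.mk0 _ h2).map (algebraMap F (Module.End F V))
    · exact (Algebra.commutes (g.coeff 0) (T * aeval T g.divX)).symm
  have h5 : aeval T f = aeval T g * T ^ (f.rootMultiplicity 0) := by
    conv_lhs => rw [hg]
    rw [map_zero, sub_zero, mul_comm, map_mul, map_pow, aeval_X]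
  rw [h5]
  obtain ⟨U, hU⟩ := h1
  apply le_antisymm
  · intro x hx
    rw [LinearMap.mem_ker, Module.End.mul_apply] at hx
    rw [LinearMap.mem_ker]
    have h6 : ((U⁻¹ : (Module.End F V)ˣ) : Module.End F V) (aeval T g ((T ^ (f.rootMultiplicity 0)) x)) =
        (T ^ (f.rootMultiplicity 0)) x := by
      rw [← hU, ← Module.End.mul_apply, Units.inv_mul]; rfl
    rw [← h6, hx, map_zero]
  · intro x hx
    rw [LinearMap.mem_ker] at hx
    rw [LinearMap.mem_ker, Module.End.mul_apply, hx, map_zero]

theorem finrank_eq_of_nilp {T : V →ₗ[F] V} {S : W →ₗ[F] W} (hT : IsNilpotent T) (hS : IsNilpotent S)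
    (h : ∀ j, Module.finrank F (LinearMap.ker (T ^ j)) = Module.finrank F (LinearMap.ker (S ^ j))) :
    Module.finrank F V = Module.finrank F W := by
  obtain ⟨a, ha⟩ := hT
  obtain ⟨b, hb⟩ := hS
  have h1 := h (a + b)
  rw [pow_add, pow_add, ha, hb, zero_mul, mul_zero, LinearMap.ker_zero, LinearMap.ker_zero,
    finrank_top, finrank_top] at h1
  exact h1

/-- nilpotent endomorphisms with the same kernel dimensions are similar -/
theorem nilp_similar [Finite F] {T : V →ₗ[F] V} {S : W →ₗ[F] W} (hT : IsNilpotent T) (hS : IsNilpotent S)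
    (h : ∀ j, Module.finrank F (LinearMap.ker (T ^ j)) = Module.finrank F (LinearMap.ker (S ^ j))) :
    ∃ g : V ≃ₗ[F] W, ∀ v, g (T v) = S (g v) := by
  apply similar_of_card
  intro f
  by_cases hf : f = 0
  · subst hf
    rw [map_zero, map_zero, LinearMap.ker_zero, LinearMap.ker_zero, finrank_top, finrank_top]
    exact finrank_eq_of_nilp hT hS h
  · rw [ker_aeval_nilp hT hf, ker_aeval_nilp hS hf, h]

end Nil

section Struct

variable {F : Type*} [Field F]

theorem card_quot (k : ℕ) : Nat.card (F[X] ⧸ Submodule.span F[X] {(X : F[X]) ^ k}) = Nat.card F ^ k := by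
  have h1 : Nat.card (AdjoinRoot ((X : F[X]) ^ k)) = Nat.card F ^ k := by
    haveI : Module.Finite F (AdjoinRoot ((X : F[X]) ^ k)) := (AdjoinRoot.powerBasis' (monic_X_pow k)).finite
    rw [Module.natCard_eq_pow_finrank (K := F), (AdjoinRoot.powerBasis' (monic_X_pow k)).finrank,
      AdjoinRoot.powerBasis'_dim, natDegree_X_pow]
  exact h1

theorem mk_eq_zero_iff (k : ℕ) (f : F[X]) :
    (Submodule.Quotient.mk f : F[X] ⧸ Submodule.span F[X] {(X : F[X]) ^ k}) = 0 ↔ X ^ k ∣ f := by
  rw [Submodule.Quotient.mk_eq_zero, Submodule.mem_span_singleton]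
  constructor
  · rintro ⟨a, rfl⟩; exact ⟨a, mul_comm _ _⟩
  · rintro ⟨a, rfl⟩; exact ⟨a, mul_comm _ _⟩

theorem card_killed (k j : ℕ) :
    Nat.card {x : F[X] ⧸ Submodule.span F[X] {(X : F[X]) ^ k} // (X : F[X]) ^ j • x = 0} =
      Nat.card F ^ (min k j) := by
  by_cases h : k ≤ j
  · rw [min_eq_left h, ← card_quot k]
    apply Nat.card_congr
    apply Equiv.subtypeUnivEquiv
    intro x
    obtain ⟨f, rfl⟩ := Submodule.Quotient.mk_surjective _ x
    rw [← Submodule.Quotient.mk_smul, mk_eq_zero_iff, smul_eq_mul]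
    exact (pow_dvd_pow X h).mul_right f
  · push Not at h
    rw [min_eq_right h.le, ← card_quot j]
    symm
    let φ : (F[X] ⧸ Submodule.span F[X] {(X : F[X]) ^ j}) →ₗ[F[X]] (F[X] ⧸ Submodule.span F[X] {(X : F[X]) ^ k}) :=
      Submodule.mapQ _ _ (LinearMap.lsmul F[X] F[X] ((X : F[X]) ^ (k - j))) (by
        rw [Submodule.span_singleton_le_iff_mem, Submodule.mem_comap, Submodule.mem_span_singleton]
        refine ⟨1, ?_⟩
        rw [one_smul, LinearMap.lsmul_apply, smul_eq_mul, ← pow_add]
        congr 1; omega)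
    have hφ : ∀ f : F[X], φ (Submodule.Quotient.mk f) = Submodule.Quotient.mk (X ^ (k - j) * f) := fun f => rfl
    apply Nat.card_congr
    apply Equiv.ofBijective (fun y => ⟨φ y, by
      obtain ⟨f, rfl⟩ := Submodule.Quotient.mk_surjective _ y
      rw [hφ, ← Submodule.Quotient.mk_smul, mk_eq_zero_iff, smul_eq_mul, ← mul_assoc, ← pow_add]
      exact Dvd.intro f (by congr 2; omega)⟩)
    constructor
    · intro y y' hyy
      have h1 : φ (y - y') = 0 := by rw [map_sub, sub_eq_zero]; exact congrArg Subtype.val hyy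
      rw [← sub_eq_zero]
      obtain ⟨f, hf⟩ := Submodule.Quotient.mk_surjective _ (y - y')
      rw [← hf] at h1 ⊢
      rw [hφ, mk_eq_zero_iff] at h1
      rw [mk_eq_zero_iff]
      have h2 : (X : F[X]) ^ k = X ^ (k - j) * X ^ j := by rw [← pow_add]; congr 1; omega
      rw [h2] at h1
      exact (mul_dvd_mul_iff_left (pow_ne_zero _ X_ne_zero)).mp h1
    · rintro ⟨x, hx⟩
      obtain ⟨f, rfl⟩ := Submodule.Quotient.mk_surjective _ x
      rw [← Submodule.Quotient.mk_smul, mk_eq_zero_iff, smul_eq_mul] at hx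
      have h2 : (X : F[X]) ^ k = X ^ j * X ^ (k - j) := by rw [← pow_add]; congr 1; omega
      rw [h2] at hx
      obtain ⟨g, hg⟩ := (mul_dvd_mul_iff_left (pow_ne_zero _ X_ne_zero)).mp hx
      refine ⟨Submodule.Quotient.mk g, ?_⟩
      apply Subtype.ext
      show φ (Submodule.Quotient.mk g) = Submodule.Quotient.mk f
      rw [hφ, hg]

variable {V : Type*} [AddCommGroup V] [Module F V] [FiniteDimensional F V]

/-- kernel dimensions of the powers of a nilpotent endomorphism -/
theorem exists_type [Finite F] {T : V →ₗ[F] V} (hT : IsNilpotent T) :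
    ∃ s : Multiset ℕ, ∀ j, Module.finrank F (LinearMap.ker (T ^ j)) = (s.map (fun k => min k j)).sum := by
  haveI : Finite V := Module.finite_of_finite F
  haveI : Finite (Module.AEval' T) := inferInstanceAs (Finite V)
  obtain ⟨N, hN⟩ := hT
  have htor : Module.IsTorsion' (Module.AEval' T) (Submonoid.powers (X : F[X])) := by
    intro x
    refine ⟨⟨X ^ N, N, rfl⟩, ?_⟩
    show (X : F[X]) ^ N • x = 0
    have h2 : (X : F[X]) ^ N • x = (Module.AEval.of F V T) ((aeval T ((X : F[X]) ^ N)) • ((Module.AEval.of F V T).symm x)) := rfl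
    rw [h2, map_pow, aeval_X, hN, zero_smul, map_zero]
  haveI : Module.Finite F[X] (Module.AEval' T) := inferInstance
  obtain ⟨m, k, ⟨l⟩⟩ := Module.torsion_by_prime_power_decomposition (p := (X : F[X])) irreducible_X htor
  refine ⟨Finset.univ.val.map k, fun j => ?_⟩
  rw [Multiset.map_map]
  show _ = ∑ i, min (k i) j
  have h1 : Nat.card (LinearMap.ker (T ^ j)) = Nat.card {x : Module.AEval' T // (X : F[X]) ^ j • x = 0} := by
    apply Nat.card_congr
    apply Equiv.subtypeEquivRight
    intro x
    rw [LinearMap.mem_ker]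
    have h2 : (X : F[X]) ^ j • (show Module.AEval' T from x) = (aeval T ((X : F[X]) ^ j)) x := rfl
    rw [h2, map_pow, aeval_X]
    exact Iff.rfl
  have h3 : Nat.card {x : Module.AEval' T // (X : F[X]) ^ j • x = 0} =
      ∏ i, Nat.card F ^ (min (k i) j) := by
    have e1 : Nat.card {x : Module.AEval' T // (X : F[X]) ^ j • x = 0} =
        Nat.card {x : (DirectSum (Fin m) fun i => F[X] ⧸ Submodule.span F[X] {(X : F[X]) ^ (k i : ℕ)}) // (X : F[X]) ^ j • x = 0} := by
      apply Nat.card_congr
      apply Equiv.subtypeEquiv l.toEquiv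
      intro x
      show _ ↔ (X : F[X]) ^ j • (l x) = 0
      rw [← map_smul, LinearEquiv.map_eq_zero_iff]
    have e2 : Nat.card {x : (DirectSum (Fin m) fun i => F[X] ⧸ Submodule.span F[X] {(X : F[X]) ^ (k i : ℕ)}) // (X : F[X]) ^ j • x = 0} =
        Nat.card ((i : Fin m) → {x : F[X] ⧸ Submodule.span F[X] {(X : F[X]) ^ (k i : ℕ)} // (X : F[X]) ^ j • x = 0}) := by
      apply Nat.card_congr
      refine (Equiv.subtypeEquiv (DirectSum.linearEquivFunOnFintype F[X] (Fin m) _).toEquiv (q := fun y => ∀ i, (X : F[X]) ^ j • (y i) = 0) ?_).trans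
        (Equiv.subtypePiEquivPi (p := fun (i : Fin m) (y : F[X] ⧸ Submodule.span F[X] {(X : F[X]) ^ (k i : ℕ)}) => (X : F[X]) ^ j • y = 0))
      intro x
      rw [← LinearEquiv.map_eq_zero_iff (DirectSum.linearEquivFunOnFintype F[X] (Fin m) _), map_smul, funext_iff]
      rfl
    rw [e1, e2, Nat.card_pi]
    exact Finset.prod_congr rfl fun i _ => card_killed _ _
  rw [h3, Module.natCard_eq_pow_finrank (K := F), Finset.prod_pow_eq_pow_sum] at h1
  exact Nat.pow_right_injective (Finite.one_lt_card (α := F)) h1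

end Struct

end Cfsg.Agent.Lib.RCF
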