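import Mathlib
import Cfsg.Prelude.Def_JordanBlocks
import Cfsg.Agent.Lib.RCF5

/-! Jordan types of unipotent matrices over finite fields. -/

set_option linter.all false
set_option maxHeartbeats 400000

namespace Cfsg.Agent.Lib.RCF

open Polynomial

section Jordan

variable {F : Type*} [Field F] {t : ℕ} (d : Fin t → ℕ)

theorem jordan_mulVec (v : ((k : Fin t) × Fin (d k)) → F) (k : Fin t) (i : Fin (d k)) :
    Matrix.mulVec (Cfsg.jordanTypeMatrix d F - 1) v ⟨k, i⟩ =
      if h : 1 ≤ i.val then v ⟨k, ⟨i.val - 1, by omega⟩⟩ else 0 := by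
  rw [Matrix.mulVec, dotProduct, Fintype.sum_sigma, Finset.sum_eq_single k]
  · have h1 : ∀ i' : Fin (d k), (Cfsg.jordanTypeMatrix d F - 1) ⟨k, i⟩ ⟨k, i'⟩ =
        if (i : ℕ) = (i' : ℕ) + 1 then 1 else 0 := by
      intro i'
      rw [Matrix.sub_apply, Cfsg.jordanTypeMatrix, Matrix.blockDiagonal'_apply_eq, Cfsg.jordanBlock,
        Matrix.of_apply, Matrix.one_apply]
      by_cases h : i = i'
      · subst h
        rw [if_pos rfl, if_pos rfl, sub_self, if_neg (by omega)]
      · have h2 : ¬ (i : ℕ) = i' := fun h' => h (Fin.ext h')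
        have h3 : ¬ ((⟨k, i⟩ : (k : Fin t) × Fin (d k)) = ⟨k, i'⟩) :=
          fun h' => h (eq_of_heq (Sigma.mk.inj h').2)
        rw [if_neg h2, if_neg h3, sub_zero]
    by_cases h : 1 ≤ i.val
    · rw [dif_pos h, Finset.sum_eq_single (⟨i.val - 1, by omega⟩ : Fin (d k))]
      · rw [h1, if_pos (by show (i : ℕ) = (i : ℕ) - 1 + 1; omega), one_mul]
      · intro i' _ hi'
        rw [h1, if_neg, zero_mul]
        intro h2
        apply hi'
        apply Fin.ext
        show (i' : ℕ) = i.val - 1
        omega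
      · intro h2; exact absurd (Finset.mem_univ _) h2
    · rw [dif_neg h]
      apply Finset.sum_eq_zero
      intro i' _
      rw [h1, if_neg (by omega), zero_mul]
  · intro k' _ hk'
    apply Finset.sum_eq_zero
    intro i' _
    rw [Matrix.sub_apply, Cfsg.jordanTypeMatrix, Matrix.blockDiagonal'_apply_ne _ _ _ hk'.symm,
      Matrix.one_apply_ne (by intro h; exact hk' (Sigma.mk.inj h).1.symm), sub_zero, zero_mul]
  · intro h; exact absurd (Finset.mem_univ _) h

theorem jordan_pow_mulVec (j : ℕ) (v : ((k : Fin t) × Fin (d k)) → F) (k : Fin t) (i : Fin (d k)) :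
    ((Matrix.toLin' (Cfsg.jordanTypeMatrix d F - 1)) ^ j) v ⟨k, i⟩ =
      if h : j ≤ i.val then v ⟨k, ⟨i.val - j, by omega⟩⟩ else 0 := by
  induction j generalizing i with
  | zero =>
    rw [pow_zero, dif_pos (Nat.zero_le _)]
    rfl
  | succ j ih =>
    rw [pow_succ', Module.End.mul_apply, Matrix.toLin'_apply, jordan_mulVec]
    by_cases h : 1 ≤ i.val
    · rw [dif_pos h, ih]
      by_cases h2 : j + 1 ≤ i.val
      · rw [dif_pos h2, dif_pos (by show j ≤ i.val - 1; omega)]
        congr 3
        show i.val - 1 - j = i.val - (j + 1)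
        omega
      · rw [dif_neg h2, dif_neg (by show ¬ j ≤ i.val - 1; omega)]
    · rw [dif_neg h, dif_neg (by omega)]

theorem card_fin_ge (m j : ℕ) : Fintype.card {i : Fin m // m ≤ i.val + j} = min m j := by
  rw [← Fintype.card_fin (min m j)]
  apply Fintype.card_congr
  refine
    { toFun := fun i => ⟨m - 1 - i.1.1, by have := i.1.2; have := i.2; omega⟩
      invFun := fun l => ⟨⟨m - 1 - l.1, by have := l.2; omega⟩, by
        have := l.2
        show m ≤ m - 1 - l.1 + j
        omega⟩
      left_inv := ?_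
      right_inv := ?_ }
  · intro i
    apply Subtype.ext
    apply Fin.ext
    have := i.1.2
    show m - 1 - (m - 1 - i.1.1) = i.1.1
    omega
  · intro l
    apply Fin.ext
    have := l.2
    show m - 1 - (m - 1 - l.1) = l.1
    omega

theorem finrank_ker_jordan (j : ℕ) :
    Module.finrank F (LinearMap.ker ((Matrix.toLin' (Cfsg.jordanTypeMatrix d F - 1)) ^ j)) = ∑ k, min (d k) j := by
  let S := {x : (k : Fin t) × Fin (d k) // d x.1 ≤ x.2.val + j}
  let φ : LinearMap.ker ((Matrix.toLin' (Cfsg.jordanTypeMatrix d F - 1)) ^ j) →ₗ[F] (S → F) :=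
    { toFun := fun v x => (v : ((k : Fin t) × Fin (d k)) → F) x.1
      map_add' := fun v w => rfl
      map_smul' := fun a v => rfl }
  have hφ : Function.Bijective φ := by
    constructor
    · rw [← LinearMap.ker_eq_bot, LinearMap.ker_eq_bot']
      intro v hv
      apply Subtype.ext
      funext x
      obtain ⟨k, i⟩ := x
      by_cases h : d k ≤ i.val + j
      · exact congrFun hv ⟨⟨k, i⟩, h⟩
      · have h1 := congrFun v.2 ⟨k, ⟨i.val + j, by omega⟩⟩
        rw [jordan_pow_mulVec, dif_pos (by show j ≤ i.val + j; omega)] at h1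
        have h2 : (⟨i.val + j - j, by omega⟩ : Fin (d k)) = i := Fin.ext (by show i.val + j - j = i.val; omega)
        rw [h2] at h1
        exact h1
    · intro w
      classical
      refine ⟨⟨fun x => if h : d x.1 ≤ x.2.val + j then w ⟨x, h⟩ else 0, ?_⟩, ?_⟩
      · rw [LinearMap.mem_ker]
        funext x
        obtain ⟨k, i⟩ := x
        rw [jordan_pow_mulVec]
        by_cases h : j ≤ i.val
        · rw [dif_pos h]
          have : ¬ d k ≤ i.val - j + j := by have := i.2; omega
          exact dif_neg this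
        · rw [dif_neg h]; rfl
      · funext x
        exact dif_pos x.2
  rw [(LinearEquiv.ofBijective φ hφ).finrank_eq, Module.finrank_fintype_fun_eq_card]
  have e : S ≃ (k : Fin t) × {i : Fin (d k) // d k ≤ i.val + j} :=
    { toFun := fun x => ⟨x.1.1, ⟨x.1.2, x.2⟩⟩
      invFun := fun x => ⟨⟨x.1, x.2.1⟩, x.2.2⟩
      left_inv := fun x => rfl
      right_inv := fun x => rfl }
  rw [Fintype.card_congr e, Fintype.card_sigma]
  exact Finset.sum_congr rfl fun k _ => card_fin_ge _ _

theorem jordan_nilp : IsNilpotent (Matrix.toLin' (Cfsg.jordanTypeMatrix d F - 1)) := by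
  refine ⟨∑ k, d k, ?_⟩
  apply LinearMap.ext
  intro v
  funext x
  obtain ⟨k, i⟩ := x
  rw [jordan_pow_mulVec, dif_neg]
  · rfl
  · have h1 := i.2
    have h2 : d k ≤ ∑ k, d k := Finset.single_le_sum (f := d) (fun _ _ => Nat.zero_le _) (Finset.mem_univ k)
    omega

end Jordan

section Types

variable {F : Type*} [Field F] {ι : Type*} [Fintype ι] [DecidableEq ι]

/-- the type of a unipotent matrix -/
def IsType (M : Matrix ι ι F) (s : Multiset ℕ) : Prop :=
  ∀ j, Module.finrank F (LinearMap.ker ((Matrix.toLin' (M - 1)) ^ j)) = (s.map (fun k => min k j)).sum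

theorem isType_jordan {t : ℕ} (d : Fin t → ℕ) : IsType (Cfsg.jordanTypeMatrix d F) (Finset.univ.val.map d) := by
  intro j
  rw [finrank_ker_jordan, Multiset.map_map]
  rfl

theorem nilp_toLin' {M : Matrix ι ι F} (h : IsNilpotent M) : IsNilpotent (Matrix.toLin' M) := by
  obtain ⟨k, hk⟩ := h
  exact ⟨k, by rw [← Matrix.toLin'_pow, hk, map_zero]⟩

theorem nilp_of_toLin' {M : Matrix ι ι F} (h : IsNilpotent (Matrix.toLin' M)) : IsNilpotent M := by
  obtain ⟨k, hk⟩ := h
  refine ⟨k, ?_⟩
  rw [← Matrix.toLin'_pow] at hk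
  exact Matrix.toLin'.injective (hk.trans (map_zero _).symm)

theorem IsType.sum_eq {M : Matrix ι ι F} {s : Multiset ℕ} (h : IsType M s) (hn : IsNilpotent (M - 1)) :
    s.sum = Fintype.card ι := by
  obtain ⟨k, hk⟩ := nilp_toLin' hn
  have h1 := h (k + s.sum)
  rw [pow_add, hk, zero_mul, LinearMap.ker_zero, finrank_top, Module.finrank_fintype_fun_eq_card] at h1
  rw [h1]
  congr 1
  conv_lhs => rw [← Multiset.map_id s]
  apply Multiset.map_congr rfl
  intro a ha
  have : a ≤ s.sum := Multiset.single_le_sum (fun _ _ => Nat.zero_le _) a ha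
  show a = min a (k + s.sum)
  omega

theorem exists_isType [Finite F] {n : ℕ} {M : Matrix ι ι F} (hn : IsNilpotent (M - 1)) (hc : Fintype.card ι = n) :
    ∃ μ : Nat.Partition n, IsType M μ.parts := by
  obtain ⟨s, hs⟩ := exists_type (nilp_toLin' hn)
  have hsum : s.sum = n := by rw [← hc]; exact IsType.sum_eq (M := M) hs hn
  refine ⟨Nat.Partition.ofSums n s hsum, ?_⟩
  intro j
  rw [hs j]
  show _ = ((s.filter (· ≠ 0)).map (fun k => min k j)).sum
  conv_lhs => rw [← Multiset.filter_add_not (· ≠ 0) s]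
  rw [Multiset.map_add, Multiset.sum_add]
  have : ((s.filter (fun a => ¬ a ≠ 0)).map (fun k => min k j)).sum = 0 := by
    apply Multiset.sum_eq_zero
    intro x hx
    obtain ⟨a, ha, rfl⟩ := Multiset.mem_map.mp hx
    have := (Multiset.mem_filter.mp ha).2
    push Not at this
    rw [this, Nat.zero_min]
  rw [this, add_zero]

theorem IsType.unique {M : Matrix ι ι F} {n n' : ℕ} {μ μ' : Multiset ℕ} (hμ : ∀ k ∈ μ, 0 < k)
    (hμ' : ∀ k ∈ μ', 0 < k) (h : IsType M μ) (h' : IsType M μ') : μ = μ' :=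
  multiset_ext hμ hμ' (fun j => by rw [← h j, h' j])

theorem IsType.unique_partition {M : Matrix ι ι F} {n : ℕ} {μ μ' : Nat.Partition n}
    (h : IsType M μ.parts) (h' : IsType M μ'.parts) : μ = μ' :=
  Nat.Partition.ext (IsType.unique (n := n) (n' := n) (fun _ hk => μ.parts_pos hk) (fun _ hk => μ'.parts_pos hk) h h')

theorem IsType.similar [Finite F] {ι' : Type*} [Fintype ι'] [DecidableEq ι'] {M : Matrix ι ι F}
    {M' : Matrix ι' ι' F} {s : Multiset ℕ} (hn : IsNilpotent (M - 1)) (hn' : IsNilpotent (M' - 1))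
    (h : IsType M s) (h' : IsType M' s) :
    ∃ g : (ι → F) ≃ₗ[F] (ι' → F), ∀ v, g (Matrix.mulVec M v) = Matrix.mulVec M' (g v) := by
  obtain ⟨g, hg⟩ := nilp_similar (nilp_toLin' hn) (nilp_toLin' hn') (fun j => (h j).trans (h' j).symm)
  refine ⟨g, fun v => ?_⟩
  have h1 := hg v
  rw [Matrix.toLin'_apply, Matrix.toLin'_apply, Matrix.sub_mulVec, Matrix.sub_mulVec, Matrix.one_mulVec,
    Matrix.one_mulVec, map_sub] at h1
  exact sub_left_inj.mp h1

theorem isType_of_similar {ι' : Type*} [Fintype ι'] [DecidableEq ι'] {M : Matrix ι ι F}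
    {M' : Matrix ι' ι' F} {s : Multiset ℕ} (h : IsType M s) (g : (ι → F) ≃ₗ[F] (ι' → F))
    (hg : ∀ v, g (Matrix.mulVec M v) = Matrix.mulVec M' (g v)) : IsType M' s := by
  intro j
  rw [← h j]
  have h1 : ∀ v, g (Matrix.toLin' (M - 1) v) = Matrix.toLin' (M' - 1) (g v) := by
    intro v
    rw [Matrix.toLin'_apply, Matrix.toLin'_apply, Matrix.sub_mulVec, Matrix.sub_mulVec, Matrix.one_mulVec,
      Matrix.one_mulVec, map_sub, hg]
  have h2 : ∀ (j : ℕ) v, g ((Matrix.toLin' (M - 1) ^ j) v) = (Matrix.toLin' (M' - 1) ^ j) (g v) := by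
    intro j
    induction j with
    | zero => intro v; rfl
    | succ j ih =>
      intro v
      rw [pow_succ, pow_succ, Module.End.mul_apply, Module.End.mul_apply, ih, h1]
  symm
  apply LinearEquiv.finrank_eq
  refine g.submoduleMap _ |>.trans (LinearEquiv.ofEq _ _ ?_)
  ext v
  rw [Submodule.mem_map, LinearMap.mem_ker]
  constructor
  · rintro ⟨w, hw, rfl⟩
    rw [LinearMap.mem_ker] at hw
    have := h2 j w
    rw [hw, map_zero] at this
    exact this.symm
  · intro hv
    refine ⟨g.symm v, ?_, g.apply_symm_apply v⟩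
    rw [LinearMap.mem_ker]
    apply g.injective
    rw [h2, g.apply_symm_apply, hv, map_zero]

/-- realization of the types -/
theorem exists_of_type [Finite F] {n : ℕ} (μ : Nat.Partition n) :
    ∃ M : Matrix (Fin n) (Fin n) F, IsNilpotent (M - 1) ∧ IsType M μ.parts := by
  classical
  set l := μ.parts.toList with hl
  let d : Fin l.length → ℕ := l.get
  have hd : Finset.univ.val.map d = μ.parts := by
    rw [← Multiset.coe_toList μ.parts]
    show Multiset.map l.get Finset.univ.val = (l : Multiset ℕ)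
    rw [Fin.univ_val_map, List.ofFn_get]
  have hsum : ∑ k, d k = n := by
    rw [← μ.parts_sum, ← hd]; rfl
  have hcard : Fintype.card ((k : Fin l.length) × Fin (d k)) = n := by
    rw [Fintype.card_sigma]
    simpa using hsum
  let e : ((k : Fin l.length) × Fin (d k)) ≃ Fin n := Fintype.equivFinOfCardEq hcard
  set J := Cfsg.jordanTypeMatrix d F with hJ
  let M : Matrix (Fin n) (Fin n) F := Matrix.reindex e e J
  have hg : ∀ v, (LinearEquiv.funCongrLeft F F e.symm) (Matrix.mulVec J v) =
      Matrix.mulVec M ((LinearEquiv.funCongrLeft F F e.symm) v) := by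
    intro v
    funext i
    show Matrix.mulVec J v (e.symm i) = ∑ j, J (e.symm i) (e.symm j) * v (e.symm j)
    rw [Matrix.mulVec, dotProduct, ← Equiv.sum_comp e.symm]
  refine ⟨M, ?_, ?_⟩
  · have h1 : IsNilpotent (J - 1) := nilp_of_toLin' (jordan_nilp d)
    obtain ⟨k, hk⟩ := h1
    refine ⟨k, ?_⟩
    have h2 : M - 1 = Matrix.reindexAlgEquiv F F e (J - 1) := by
      rw [map_sub, map_one]; rfl
    rw [h2, ← map_pow, hk, map_zero]
  · have := isType_of_similar (isType_jordan (F := F) d) _ hg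
    rw [hd] at this
    exact this

end Types

end Cfsg.Agent.Lib.RCF
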