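import Mathlib
import Cfsg.Agent.Lib.RCF6

/-! Counting unipotent classes. -/

set_option linter.all false
set_option maxHeartbeats 400000

namespace Cfsg.Agent.Lib.RCF

open Polynomial

section Uni

variable {F : Type*} [Field F] {ι : Type*} [Fintype ι] [DecidableEq ι]

theorem sub_one_pow {p : ℕ} [Fact p.Prime] [CharP F p] (M : Matrix ι ι F) (k : ℕ) :
    (M - 1) ^ (p ^ k) = M ^ (p ^ k) - 1 := by
  have h1 : ((X : F[X]) - 1) ^ (p ^ k) = X ^ (p ^ k) - 1 := by
    rw [sub_pow_char_pow, one_pow]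
  have h2 := congrArg (aeval M) h1
  rw [map_pow, map_sub, map_sub, map_pow, aeval_X, map_one] at h2
  exact h2

theorem nilp_iff_pow {p : ℕ} [Fact p.Prime] [CharP F p] (M : Matrix ι ι F) :
    IsNilpotent (M - 1) ↔ ∃ k, M ^ (p ^ k) = 1 := by
  constructor
  · rintro ⟨N, hN⟩
    have hp := (Fact.out : p.Prime)
    refine ⟨N, ?_⟩
    have h1 : N ≤ p ^ N := (Nat.lt_pow_self hp.one_lt).le
    have h2 : (M - 1) ^ (p ^ N) = 0 := pow_eq_zero_of_le h1 hN
    rw [sub_one_pow, sub_eq_zero] at h2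
    exact h2
  · rintro ⟨k, hk⟩
    exact ⟨p ^ k, by rw [sub_one_pow, hk, sub_self]⟩

theorem isType_iff_rank (M : Matrix ι ι F) (s : Multiset ℕ) :
    IsType M s ↔ ∀ j, ((M - 1) ^ j).rank + (s.map (fun k => min k j)).sum = Fintype.card ι := by
  have key : ∀ j, Module.finrank F (LinearMap.ker ((Matrix.toLin' (M - 1)) ^ j)) + ((M - 1) ^ j).rank = Fintype.card ι := by
    intro j
    rw [← Matrix.toLin'_pow]
    have h2 := LinearMap.finrank_range_add_finrank_ker (Matrix.toLin' ((M - 1) ^ j))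
    rw [Module.finrank_fintype_fun_eq_card] at h2
    have h3 : ((M - 1) ^ j).rank = Module.finrank F (LinearMap.range (Matrix.toLin' ((M - 1) ^ j))) := rfl
    omega
  constructor
  · intro h j
    have := key j
    rw [h j] at this
    omega
  · intro h j
    have := key j
    have := h j
    omega

theorem rank_eq_zero' {A : Matrix ι ι F} : A.rank = 0 ↔ A = 0 := by
  constructor
  · intro h
    have h1 : Module.finrank F (LinearMap.range (Matrix.toLin' A)) = 0 := h
    rw [Submodule.finrank_eq_zero, LinearMap.range_eq_bot] at h1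
    exact Matrix.toLin'.injective (h1.trans (map_zero _).symm)
  · rintro rfl; exact Matrix.rank_zero

theorem IsType.pow_eq_zero_iff {M : Matrix ι ι F} {s : Multiset ℕ} (h : IsType M s) (hn : IsNilpotent (M - 1))
    (j : ℕ) : (M - 1) ^ j = 0 ↔ ∀ a ∈ s, a ≤ j := by
  have h1 := h.sum_eq hn
  have h2 := (isType_iff_rank M s).mp h j
  rw [← rank_eq_zero']
  have h3 : (s.map (fun k => min k j)).sum + (s.map (fun k => k - j)).sum = s.sum := by
    rw [← Multiset.sum_map_add]
    conv_rhs => rw [← Multiset.map_id s]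
    congr 1
    apply Multiset.map_congr rfl
    intro a _
    show min a j + (a - j) = a
    omega
  have h4 : ((M - 1) ^ j).rank = 0 ↔ (s.map (fun k => k - j)).sum = 0 := by omega
  rw [h4, Multiset.sum_eq_zero_iff]
  constructor
  · intro h5 a ha
    have := h5 (a - j) (Multiset.mem_map.mpr ⟨a, ha, rfl⟩)
    omega
  · intro h5 x hx
    obtain ⟨a, ha, rfl⟩ := Multiset.mem_map.mp hx
    have := h5 a ha
    omega

theorem isType_GL_conj {n : ℕ} {g h : GL (Fin n) F} {s : Multiset ℕ} (hgh : IsConj g h)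
    (hg : IsType (g : Matrix (Fin n) (Fin n) F) s) : IsType (h : Matrix (Fin n) (Fin n) F) s := by
  obtain ⟨c, rfl⟩ := isConj_iff.mp hgh
  apply isType_of_similar hg (Herm.gl n F c)
  intro v
  rw [Herm.gl_apply, Herm.gl_apply, Matrix.mulVec_mulVec, Matrix.mulVec_mulVec, ← Units.val_mul, ← Units.val_mul]
  congr 2
  group

theorem IsType.isConj_GL [Finite F] {n : ℕ} {g h : GL (Fin n) F} {s : Multiset ℕ}
    (hg : IsType (g : Matrix (Fin n) (Fin n) F) s) (hh : IsType (h : Matrix (Fin n) (Fin n) F) s)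
    (hgn : IsNilpotent ((g : Matrix (Fin n) (Fin n) F) - 1)) (hhn : IsNilpotent ((h : Matrix (Fin n) (Fin n) F) - 1)) :
    IsConj g h := by
  obtain ⟨k, hk⟩ := IsType.similar hgn hhn hg hh
  exact SqZero.isConj_GL hk

theorem exists_GL_type [Finite F] {n : ℕ} (μ : Nat.Partition n) :
    ∃ g : GL (Fin n) F, IsNilpotent ((g : Matrix (Fin n) (Fin n) F) - 1) ∧ IsType (g : Matrix (Fin n) (Fin n) F) μ.parts := by
  obtain ⟨M, hM, ht⟩ := exists_of_type (F := F) μ
  have hu : IsUnit M := by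
    have h1 : M = 1 + (M - 1) := by abel
    rw [h1]
    exact IsNilpotent.isUnit_one_add hM
  obtain ⟨g, rfl⟩ := hu
  exact ⟨g, hM, ht⟩

end Uni

section Parts

theorem card_all_ones (n : ℕ) :
    (Finset.univ.filter (fun μ : Nat.Partition n => ∀ a ∈ μ.parts, a ≤ 1)).card = 1 := by
  rw [Finset.card_eq_one]
  refine ⟨Nat.Partition.ofSums n (Multiset.replicate n 1) (by simp), ?_⟩
  have key : ∀ μ : Nat.Partition n, (∀ a ∈ μ.parts, a ≤ 1) → μ.parts = Multiset.replicate n 1 := by
    intro μ h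
    have h1 : ∀ a ∈ μ.parts, a = 1 := fun a ha => le_antisymm (h a ha) (μ.parts_pos ha)
    have h2 := Multiset.eq_replicate_card.mpr h1
    have h3 := μ.parts_sum
    rw [h2, Multiset.sum_replicate, smul_eq_mul, mul_one] at h3
    rw [h3] at h2
    exact h2
  have h0 : ∀ a ∈ (Nat.Partition.ofSums n (Multiset.replicate n 1) (by simp)).parts, a ≤ 1 := by
    intro a ha
    have ha' : a ∈ (Multiset.replicate n 1).filter (· ≠ 0) := ha
    have := (Multiset.mem_filter.mp ha').1
    rw [Multiset.eq_of_mem_replicate this]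
  ext μ
  rw [Finset.mem_filter, Finset.mem_singleton]
  constructor
  · rintro ⟨-, h⟩
    apply Nat.Partition.ext
    rw [key μ h, key _ h0]
  · rintro rfl
    exact ⟨Finset.mem_univ _, h0⟩

theorem card_parts (n p : ℕ) (hp : 1 ≤ p) :
    Nat.card {μ : Nat.Partition n // (∀ a ∈ μ.parts, a ≤ p) ∧ ¬ (∀ a ∈ μ.parts, a ≤ 1)} =
      (Finset.univ.filter (fun μ : Nat.Partition n => ∀ a ∈ μ.parts, a ≤ p)).card - 1 := by
  rw [Nat.card_eq_fintype_card, Fintype.card_subtype]
  conv_rhs => rw [← card_all_ones n]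
  rw [← Finset.card_sdiff_of_subset]
  · congr 1
    ext μ
    rw [Finset.mem_filter, Finset.mem_sdiff, Finset.mem_filter, Finset.mem_filter]
    tauto
  · intro μ hμ
    rw [Finset.mem_filter] at hμ ⊢
    exact ⟨hμ.1, fun a ha => (hμ.2 a ha).trans hp⟩

end Parts

section Order

variable {F : Type*} [Field F] {p : ℕ} [Fact p.Prime] [CharP F p] {ι : Type*} [Fintype ι] [DecidableEq ι]

theorem orderOf_eq_p_iff {G : Type*} [Group G] (φ : G →* Matrix ι ι F) (hφ : Function.Injective φ) (g : G)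
    {s : Multiset ℕ} (hn : IsNilpotent (φ g - 1)) (h : IsType (φ g) s) :
    orderOf g = p ↔ (∀ a ∈ s, a ≤ p) ∧ ¬ (∀ a ∈ s, a ≤ 1) := by
  rw [← h.pow_eq_zero_iff hn p, ← h.pow_eq_zero_iff hn 1]
  have h1 : (φ g - 1) ^ p = 0 ↔ g ^ p = 1 := by
    have h2 := sub_one_pow (p := p) (φ g) 1
    rw [pow_one] at h2
    rw [h2, sub_eq_zero, ← map_pow]
    constructor
    · intro h3; exact hφ (h3.trans (map_one φ).symm)
    · intro h3; rw [h3, map_one]
  have h2 : (φ g - 1) ^ 1 = 0 ↔ g = 1 := by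
    rw [pow_one, sub_eq_zero]
    constructor
    · intro h3; exact hφ (h3.trans (map_one φ).symm)
    · intro h3; rw [h3, map_one]
  rw [h1, h2, orderOf_eq_prime_iff]

theorem nilp_of_order {G : Type*} [Group G] (φ : G →* Matrix ι ι F) (g : G) {k : ℕ} (h : g ^ (p ^ k) = 1) :
    IsNilpotent (φ g - 1) := by
  rw [nilp_iff_pow (p := p)]
  exact ⟨k, by rw [← map_pow, h, map_one]⟩

end Order

end Cfsg.Agent.Lib.RCF
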