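import Mathlib
import Cfsg.Agent.Lib.RCF7

/-! Regular unipotent matrices. -/

set_option linter.all false
set_option maxHeartbeats 400000

namespace Cfsg.Agent.Lib.RCF

open Polynomial

section Reg

variable {F : Type*} [Field F] {V : Type*} [AddCommGroup V] [Module F V] [FiniteDimensional F V]

/-- kernel dimension of a power is at most the exponent times the kernel dimension -/
theorem finrank_ker_pow_le (T : V →ₗ[F] V) (j : ℕ) :
    Module.finrank F (LinearMap.ker (T ^ j)) ≤ j * Module.finrank F (LinearMap.ker T) := by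
  induction j with
  | zero =>
    rw [pow_zero, zero_mul]
    have : LinearMap.ker (1 : V →ₗ[F] V) = ⊥ := LinearMap.ker_id
    rw [this, finrank_bot]
  | succ j ih =>
    -- `T ^ j : ker T^(j+1) → ker T` with kernel `ker T^j`
    let φ : LinearMap.ker (T ^ (j + 1)) →ₗ[F] LinearMap.ker T :=
      LinearMap.restrict (T ^ j) (fun x hx => by
        rw [LinearMap.mem_ker] at hx ⊢
        rw [← Module.End.mul_apply, ← pow_succ', hx])
    have h1 := LinearMap.finrank_range_add_finrank_ker φ
    have h2 : Module.finrank F (LinearMap.range φ) ≤ Module.finrank F (LinearMap.ker T) :=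
      Submodule.finrank_le _
    have h3 : Module.finrank F (LinearMap.ker φ) ≤ Module.finrank F (LinearMap.ker (T ^ j)) := by
      let ψ : LinearMap.ker φ →ₗ[F] LinearMap.ker (T ^ j) :=
        LinearMap.codRestrict _ ((Submodule.subtype _).comp (Submodule.subtype _)) (by
          intro x
          have := congrArg Subtype.val (LinearMap.mem_ker.mp x.2)
          exact this)
      apply LinearMap.finrank_le_finrank_of_injective (f := ψ)
      intro x y hxy
      have := congrArg Subtype.val hxy
      exact Subtype.ext (Subtype.ext this)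
    rw [add_mul, one_mul]
    omega

/-- an invariant subspace of a nilpotent endomorphism with one-dimensional kernel -/
theorem inv_eq_ker {T : V →ₗ[F] V} (hT : IsNilpotent T) (hk : Module.finrank F (LinearMap.ker T) ≤ 1)
    {W : Submodule F V} (hW : ∀ v ∈ W, T v ∈ W) : W = LinearMap.ker (T ^ (Module.finrank F W)) := by
  have h1 : ∀ v ∈ W, (T ^ (Module.finrank F W)) v = 0 := by
    let S : W →ₗ[F] W := T.restrict hW
    have hSj : ∀ j (v : W), (((S ^ j) v : W) : V) = (T ^ j) v := by
      intro j
      induction j with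
      | zero => intro v; rfl
      | succ j ih =>
        intro v
        rw [pow_succ', pow_succ', Module.End.mul_apply, Module.End.mul_apply, ← ih]
        rfl
    have hS : IsNilpotent S := by
      obtain ⟨N, hN⟩ := hT
      refine ⟨N, ?_⟩
      apply LinearMap.ext
      intro v
      apply Subtype.ext
      rw [hSj, hN]
      rfl
    have h2 : S ^ (Module.finrank F W) = 0 := by
      have h5 := S.aeval_self_charpoly
      rw [IsNilpotent.charpoly_eq_X_pow_finrank hS, map_pow, aeval_X] at h5
      exact h5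
    intro v hv
    have h3 := hSj (Module.finrank F W) ⟨v, hv⟩
    rw [h2] at h3
    exact h3.symm
  apply Submodule.eq_of_le_of_finrank_le
  · intro v hv
    exact h1 v hv
  · refine (finrank_ker_pow_le T _).trans ?_
    calc Module.finrank F W * Module.finrank F (LinearMap.ker T) ≤ Module.finrank F W * 1 :=
          Nat.mul_le_mul_left _ hk
      _ = _ := mul_one _

end Reg

section Cyc

variable {F : Type*} [Field F] {V : Type*} [AddCommGroup V] [Module F V]

/-- the cyclic family -/
def cyc (T : V →ₗ[F] V) (n : ℕ) (v : V) : Fin n → V := fun i => (T ^ (i : ℕ)) v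

theorem cyc_li {T : V →ₗ[F] V} {n : ℕ} (hT : T ^ n = 0) {v : V} (hv : (T ^ (n - 1)) v ≠ 0) :
    LinearIndependent F (cyc T n v) := by
  rw [Fintype.linearIndependent_iff]
  intro c hc
  have key : ∀ k : ℕ, ∀ hk : k < n, c ⟨k, hk⟩ = 0 := by
    intro k
    induction k using Nat.strong_induction_on with
    | _ k ih =>
      intro hk
      have h1 := congrArg (T ^ (n - 1 - k)) hc
      rw [map_sum, map_zero, Finset.sum_eq_single (⟨k, hk⟩ : Fin n)] at h1
      · rw [map_smul] at h1
        have h2 : (T ^ (n - 1 - k)) (cyc T n v ⟨k, hk⟩) = (T ^ (n - 1)) v := by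
          show (T ^ (n - 1 - k)) ((T ^ k) v) = _
          rw [← Module.End.mul_apply, ← pow_add]
          congr 2; omega
        rw [h2] at h1
        exact (smul_eq_zero.mp h1).resolve_right hv
      · intro j _ hj
        rw [map_smul]
        rcases lt_or_gt_of_ne (fun h : j.val = k => hj (Fin.ext h)) with h | h
        · rw [ih j.val h j.2, zero_smul]
        · have h2 : (T ^ (n - 1 - k)) (cyc T n v j) = 0 := by
            show (T ^ (n - 1 - k)) ((T ^ (j : ℕ)) v) = _
            rw [← Module.End.mul_apply, ← pow_add]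
            have h3 : n - 1 - k + (j : ℕ) = n + ((n - 1 - k + (j : ℕ)) - n) := by omega
            rw [h3, pow_add, hT, zero_mul]
            rfl
          rw [h2, smul_zero]
      · intro h; exact absurd (Finset.mem_univ _) h
  intro i
  exact key i.1 i.2

variable [FiniteDimensional F V]

omit [FiniteDimensional F V] in
theorem ne_fin {T : V →ₗ[F] V} {n : ℕ} (hT : T ^ n = 0) {v : V}
    (hv : (T ^ (n - 1)) v ≠ 0) : Nonempty (Fin n) := by
  rcases Nat.eq_zero_or_pos n with h | h
  · subst h
    rw [pow_zero] at hT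
    have := congrArg (fun S : V →ₗ[F] V => S ((T ^ (0 - 1)) v)) hT
    exact absurd this hv
  · exact ⟨⟨0, h⟩⟩

/-- the cyclic basis -/
noncomputable def cycB {T : V →ₗ[F] V} {n : ℕ} (hn : Module.finrank F V = n) (hT : T ^ n = 0) {v : V}
    (hv : (T ^ (n - 1)) v ≠ 0) : Module.Basis (Fin n) F V :=
  haveI := ne_fin hT hv
  basisOfLinearIndependentOfCardEqFinrank (cyc_li hT hv) (by rw [Fintype.card_fin, hn])

theorem cycB_apply {T : V →ₗ[F] V} {n : ℕ} (hn : Module.finrank F V = n) (hT : T ^ n = 0) {v : V}
    (hv : (T ^ (n - 1)) v ≠ 0) (i : Fin n) : cycB hn hT hv i = (T ^ (i : ℕ)) v := by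
  haveI := ne_fin hT hv
  rw [cycB, coe_basisOfLinearIndependentOfCardEqFinrank]
  rfl

/-- maps commuting with `T` and agreeing at the cyclic vector are equal -/
theorem cyc_ext {T : V →ₗ[F] V} {n : ℕ} (hn : Module.finrank F V = n) (hT : T ^ n = 0) {v : V}
    (hv : (T ^ (n - 1)) v ≠ 0) {A B : V →ₗ[F] V} (hA : ∀ x, A (T x) = T (A x)) (hB : ∀ x, B (T x) = T (B x))
    (h : A v = B v) : A = B := by
  have hp : ∀ {A : V →ₗ[F] V}, (∀ x, A (T x) = T (A x)) → ∀ (i : ℕ) x, A ((T ^ i) x) = (T ^ i) (A x) := by
    intro A hA i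
    induction i with
    | zero => intro x; rfl
    | succ i ih => intro x; rw [pow_succ, Module.End.mul_apply, ih, hA, Module.End.mul_apply]
  apply (cycB hn hT hv).ext
  intro i
  rw [cycB_apply, hp hA, hp hB, h]

/-- the automorphism carrying one cyclic vector to another -/
theorem exists_cyc_equiv {T : V →ₗ[F] V} {n : ℕ} (hn : Module.finrank F V = n) (hT : T ^ n = 0) {v w : V}
    (hv : (T ^ (n - 1)) v ≠ 0) (hw : (T ^ (n - 1)) w ≠ 0) :
    ∃ g : V ≃ₗ[F] V, (∀ x, g (T x) = T (g x)) ∧ g v = w := by
  have hpos : 0 < n := by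
    rcases Nat.eq_zero_or_pos n with h | h
    · subst h
      rw [pow_zero] at hT
      have := congrArg (fun S : V →ₗ[F] V => S ((T ^ (0 - 1)) v)) hT
      exact absurd this hv
    · exact h
  let g : V ≃ₗ[F] V := (cycB hn hT hv).equiv (cycB hn hT hw) (Equiv.refl _)
  have hg : ∀ i : Fin n, g ((T ^ (i : ℕ)) v) = (T ^ (i : ℕ)) w := by
    intro i
    rw [← cycB_apply hn hT hv i, ← cycB_apply hn hT hw i]
    simp [g]
  have hg2 : ∀ i : ℕ, g ((T ^ i) v) = (T ^ i) w := by
    intro i
    by_cases h : i < n
    · exact hg ⟨i, h⟩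
    · have h3 : i = n + (i - n) := by omega
      rw [h3, pow_add, hT, zero_mul]
      exact map_zero g
  refine ⟨g, ?_, ?_⟩
  · intro x
    have h1 : (g : V →ₗ[F] V).comp T = T.comp (g : V →ₗ[F] V) := by
      apply (cycB hn hT hv).ext
      intro i
      rw [cycB_apply]
      show g (T ((T ^ (i : ℕ)) v)) = T (g ((T ^ (i : ℕ)) v))
      rw [hg2, ← Module.End.mul_apply, ← Module.End.mul_apply, ← pow_succ', hg2]
    exact congrArg (fun S : V →ₗ[F] V => S x) h1
  · exact hg2 0

/-- everything commuting with a regular nilpotent is a polynomial in it -/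
theorem exists_poly {T : V →ₗ[F] V} {n : ℕ} (hn : Module.finrank F V = n) (hT : T ^ n = 0) {v : V}
    (hv : (T ^ (n - 1)) v ≠ 0) {A : V →ₗ[F] V} (hA : ∀ x, A (T x) = T (A x)) :
    ∃ f : F[X], A = aeval T f := by
  let c := (cycB hn hT hv).repr (A v)
  refine ⟨∑ i : Fin n, C (c i) * X ^ (i : ℕ), ?_⟩
  apply cyc_ext hn hT hv hA
  · intro x
    have h4 : ∀ f : F[X], aeval T f * aeval T (X : F[X]) = aeval T (X : F[X]) * aeval T f := by
      intro f
      rw [← map_mul, ← map_mul, mul_comm]
    have h5 := h4 (∑ i : Fin n, C (c i) * X ^ (i : ℕ))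
    rw [aeval_X] at h5
    exact congrArg (fun S : V →ₗ[F] V => S x) h5
  · rw [map_sum, LinearMap.sum_apply]
    conv_lhs => rw [← (cycB hn hT hv).sum_repr (A v)]
    apply Finset.sum_congr rfl
    intro i _
    rw [cycB_apply, map_mul, aeval_C, map_pow, aeval_X, ← Algebra.smul_def, LinearMap.smul_apply]

theorem exists_cyc {T : V →ₗ[F] V} {n : ℕ} (hn : Module.finrank F V = n) (hpos : 1 ≤ n)
    (hk : Module.finrank F (LinearMap.ker T) ≤ 1) : ∃ v, (T ^ (n - 1)) v ≠ 0 := by
  by_contra hc
  push Not at hc
  have h1 : LinearMap.ker (T ^ (n - 1)) = ⊤ := by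
    rw [eq_top_iff]
    intro v _
    exact hc v
  have h2 := finrank_ker_pow_le T (n - 1)
  rw [h1, finrank_top, hn] at h2
  have h3 : (n - 1) * Module.finrank F (LinearMap.ker T) ≤ (n - 1) * 1 := Nat.mul_le_mul_left _ hk
  omega

theorem finrank_ker_pow_pred {T : V →ₗ[F] V} {n : ℕ} (hn : Module.finrank F V = n) (hT : T ^ n = 0) {v : V}
    (hpos : 1 ≤ n) (hk : Module.finrank F (LinearMap.ker T) ≤ 1) :
    Module.finrank F (LinearMap.ker (T ^ (n - 1))) = n - 1 := by
  apply le_antisymm
  · refine (finrank_ker_pow_le T _).trans ?_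
    calc (n - 1) * Module.finrank F (LinearMap.ker T) ≤ (n - 1) * 1 := Nat.mul_le_mul_left _ hk
      _ = _ := mul_one _
  · -- the range is inside the kernel of `T`
    have h1 := LinearMap.finrank_range_add_finrank_ker (T ^ (n - 1))
    have h2 : Module.finrank F (LinearMap.range (T ^ (n - 1))) ≤ Module.finrank F (LinearMap.ker T) := by
      apply Submodule.finrank_mono
      rintro _ ⟨x, rfl⟩
      rw [LinearMap.mem_ker, ← Module.End.mul_apply, ← pow_succ', Nat.sub_add_cancel hpos, hT]
      rfl
    rw [hn] at h1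
    omega

end Cyc

section RegMat

variable {F : Type*} [Field F] {ι : Type*} [Fintype ι] [DecidableEq ι]

theorem finrank_ker_add_rank (M : Matrix ι ι F) :
    Module.finrank F (LinearMap.ker (Matrix.toLin' M)) + M.rank = Fintype.card ι := by
  have h2 := LinearMap.finrank_range_add_finrank_ker (Matrix.toLin' M)
  rw [Module.finrank_fintype_fun_eq_card] at h2
  have h3 : M.rank = Module.finrank F (LinearMap.range (Matrix.toLin' M)) := rfl
  omega

/-- the determinant of a polynomial in a nilpotent matrix -/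
theorem det_aeval_nilp {M : Matrix ι ι F} (hM : IsNilpotent M) (f : F[X]) :
    (aeval M f).det = (f.coeff 0) ^ (Fintype.card ι) := by
  set N : Matrix ι ι F := -(M * aeval M f.divX) with hN
  have hcomm : M * aeval M f.divX = aeval M f.divX * M := by
    have h4 : aeval M (X : F[X]) * aeval M f.divX = aeval M f.divX * aeval M (X : F[X]) := by
      rw [← map_mul, ← map_mul, mul_comm]
    rw [aeval_X] at h4
    exact h4
  have hNn : IsNilpotent N := by
    apply IsNilpotent.neg
    exact Commute.isNilpotent_mul_right hcomm hM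
  have h1 : aeval M f = Matrix.scalar ι (f.coeff 0) - N := by
    conv_lhs => rw [← Polynomial.X_mul_divX_add f]
    rw [map_add, map_mul, aeval_X, aeval_C, hN, sub_neg_eq_add, add_comm]
    rfl
  rw [h1, ← Matrix.eval_charpoly]
  have h2 : N.charpoly = X ^ (Fintype.card ι) := by
    have h3 := Matrix.isNilpotent_charpoly_sub_pow_of_isNilpotent hNn
    exact sub_eq_zero.mp h3.eq_zero
  rw [h2, eval_pow, eval_X]

end RegMat

end Cfsg.Agent.Lib.RCF
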