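import Mathlib
import Cfsg.Agent.Lib.RCF8

/-! Regular unipotent classes. -/

set_option linter.all false
set_option maxHeartbeats 400000

namespace Cfsg.Agent.Lib.RCF

open Polynomial

theorem card_split {G A S : Type*} [Group G] [CommGroup A] [Group S] (δ : G →* A)
    (hδ : Function.Surjective δ) (ι : S →* G) (hι : Function.Injective ι)
    (hr : ∀ g, δ g = 1 → ∃ s, ι s = g) (hr' : ∀ s, δ (ι s) = 1)
    (s0 : S) (P : S → Prop) (hP : ∀ s, P s ↔ IsConj (ι s0) (ι s)) (B : Subgroup A)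
    (hB : ∀ a, a ∈ B ↔ ∃ c, c * ι s0 = ι s0 * c ∧ δ c = a) :
    Nat.card {C : ConjClasses S // ∃ u, ConjClasses.mk u = C ∧ P u} = B.index := by
  have key := card_of_type (G := S) (T := A ⧸ B) P
    (fun s t => ∃ g, g * ι s0 * g⁻¹ = ι s ∧ (QuotientGroup.mk (δ g) : A ⧸ B) = t) ?_ ?_ ?_ ?_ ?_
  · rw [key]; rfl
  · intro s hs
    obtain ⟨g, hg⟩ := isConj_iff.mp ((hP s).mp hs)
    exact ⟨_, g, hg, rfl⟩
  · rintro s t t' ⟨g, hg, rfl⟩ ⟨g', hg', rfl⟩
    rw [QuotientGroup.eq, hB]
    refine ⟨g⁻¹ * g', ?_, ?_⟩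
    · have h1 : g * ι s0 * g⁻¹ = g' * ι s0 * g'⁻¹ := hg.trans hg'.symm
      calc g⁻¹ * g' * ι s0 = g⁻¹ * (g' * ι s0 * g'⁻¹) * g' := by group
        _ = ι s0 * (g⁻¹ * g') := by rw [← h1]; group
    · rw [map_mul, map_inv]
  · rintro s s' t hs hs' ⟨g, hg, rfl⟩ ⟨g', hg', h⟩
    rw [eq_comm, QuotientGroup.eq, hB] at h
    obtain ⟨c, hc1, hc2⟩ := h
    obtain ⟨k, hk⟩ := hr (g' * c⁻¹ * g⁻¹) (by
      rw [map_mul, map_mul, map_inv, map_inv, hc2, mul_inv, inv_inv, mul_comm (δ g), ← mul_assoc,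
        mul_inv_cancel, one_mul, mul_inv_cancel])
    rw [isConj_iff]
    refine ⟨k, ?_⟩
    apply hι
    rw [map_mul, map_mul, map_inv, hk, ← hg, ← hg']
    calc g' * c⁻¹ * g⁻¹ * (g * ι s0 * g⁻¹) * (g' * c⁻¹ * g⁻¹)⁻¹ = g' * c⁻¹ * (ι s0 * c) * g'⁻¹ := by group
      _ = g' * ι s0 * g'⁻¹ := by rw [← hc1]; group
  · rintro s s' t h ⟨g, hg, rfl⟩
    obtain ⟨k, rfl⟩ := isConj_iff.mp h
    refine ⟨ι k * g, ?_, ?_⟩
    · rw [map_mul, map_mul, map_inv, ← hg]; group
    · rw [map_mul, hr', one_mul]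
  · intro t
    obtain ⟨a, rfl⟩ := QuotientGroup.mk_surjective t
    obtain ⟨g, rfl⟩ := hδ a
    obtain ⟨s, hs⟩ := hr (g * ι s0 * g⁻¹) (by
      rw [map_mul, map_mul, map_inv, hr', mul_one, mul_inv_cancel])
    exact ⟨s, (hP s).mpr (isConj_iff.mpr ⟨g, hs.symm⟩), g, hs.symm, rfl⟩

section Reg

variable {F : Type*} [Field F] {V : Type*} [AddCommGroup V] [Module F V] [FiniteDimensional F V]

theorem finrank_ker_mul_le (A B : V →ₗ[F] V) :
    Module.finrank F (LinearMap.ker (A * B)) ≤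
      Module.finrank F (LinearMap.ker A) + Module.finrank F (LinearMap.ker B) := by
  let φ : LinearMap.ker (A * B) →ₗ[F] LinearMap.ker A :=
    LinearMap.restrict B (fun x hx => hx)
  have h1 := LinearMap.finrank_range_add_finrank_ker φ
  have h2 : Module.finrank F (LinearMap.range φ) ≤ Module.finrank F (LinearMap.ker A) :=
    Submodule.finrank_le _
  have h3 : Module.finrank F (LinearMap.ker φ) ≤ Module.finrank F (LinearMap.ker B) := by
    let ψ : LinearMap.ker φ →ₗ[F] LinearMap.ker B :=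
      LinearMap.codRestrict _ ((Submodule.subtype _).comp (Submodule.subtype _)) (by
        intro x
        have := congrArg Subtype.val (LinearMap.mem_ker.mp x.2)
        exact this)
    apply LinearMap.finrank_le_finrank_of_injective (f := ψ)
    intro x y hxy
    have := congrArg Subtype.val hxy
    exact Subtype.ext (Subtype.ext this)
  omega

theorem reg_ker {T : V →ₗ[F] V} {n : ℕ} (hn : Module.finrank F V = n) (hT : T ^ n = 0)
    (hk : Module.finrank F (LinearMap.ker T) ≤ 1) (j : ℕ) :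
    Module.finrank F (LinearMap.ker (T ^ j)) = min n j := by
  have hle : ∀ i, Module.finrank F (LinearMap.ker (T ^ i)) ≤ i := fun i =>
    (finrank_ker_pow_le T i).trans (by
      calc i * Module.finrank F (LinearMap.ker T) ≤ i * 1 := Nat.mul_le_mul_left _ hk
        _ = _ := mul_one _)
  by_cases h : n ≤ j
  · rw [min_eq_left h, ← hn]
    have h1 : T ^ j = 0 := pow_eq_zero_of_le h hT
    rw [h1, LinearMap.ker_zero, finrank_top]
  · push Not at h
    rw [min_eq_right h.le]
    apply le_antisymm (hle j)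
    have h1 := finrank_ker_mul_le (T ^ j) (T ^ (n - j))
    rw [← pow_add, Nat.add_sub_cancel' h.le, hT, LinearMap.ker_zero, finrank_top, hn] at h1
    have h2 := hle (n - j)
    omega

end Reg

section Mats

variable {F : Type*} [Field F] {ι : Type*} [Fintype ι] [DecidableEq ι]

theorem reg_facts {M : Matrix ι ι F} {n : ℕ} (hn : Fintype.card ι = n) (hnil : (M - 1) ^ n = 0)
    (hreg : (M - 1).rank = n - 1) : (Matrix.toLin' (M - 1)) ^ n = 0 ∧
      Module.finrank F (LinearMap.ker (Matrix.toLin' (M - 1))) ≤ 1 := by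
  constructor
  · rw [← Matrix.toLin'_pow, hnil, map_zero]
  · have := finrank_ker_add_rank (M - 1)
    omega

theorem reg_isType {M : Matrix ι ι F} {n : ℕ} (hn : Fintype.card ι = n) (hnil : (M - 1) ^ n = 0)
    (hreg : (M - 1).rank = n - 1) : IsType M {n} := by
  obtain ⟨h1, h2⟩ := reg_facts hn hnil hreg
  intro j
  rw [reg_ker (by rw [Module.finrank_fintype_fun_eq_card, hn]) h1 h2]
  simp

theorem reg_of_isType {M : Matrix ι ι F} {n : ℕ} (hn : Fintype.card ι = n) (hnn : IsNilpotent (M - 1))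
    (ht : IsType M {n}) : (M - 1) ^ n = 0 ∧ (M - 1).rank = n - 1 := by
  constructor
  · rw [ht.pow_eq_zero_iff hnn]
    intro a ha
    rw [Multiset.mem_singleton.mp ha]
  · have := (isType_iff_rank M {n}).mp ht 1
    rw [pow_one, Multiset.map_singleton, Multiset.sum_singleton, hn] at this
    omega

theorem exists_reg [Finite F] (n : ℕ) : ∃ g : GL (Fin n) F, ((g : Matrix (Fin n) (Fin n) F) - 1) ^ n = 0 ∧
    ((g : Matrix (Fin n) (Fin n) F) - 1).rank = n - 1 := by
  obtain ⟨g, hg, ht⟩ := exists_GL_type (F := F) (Nat.Partition.ofSums n {n} (by simp))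
  refine ⟨g, reg_of_isType (Fintype.card_fin n) hg ?_⟩
  rw [isType_iff_rank] at ht ⊢
  intro j
  rw [← ht j]
  congr 1
  show _ = ((({n} : Multiset ℕ).filter (· ≠ 0)).map (fun k => min k j)).sum
  by_cases h : n = 0
  · subst h; simp [Multiset.filter_singleton]
  · rw [Multiset.filter_singleton, if_pos h]

theorem det_unipotent {M : Matrix ι ι F} (hM : IsNilpotent (M - 1)) : M.det = 1 := by
  have h1 := det_aeval_nilp hM ((X : F[X]) + 1)
  rw [map_add, aeval_X, map_one, sub_add_cancel, coeff_add, coeff_X_zero, coeff_one_zero, zero_add,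
    one_pow] at h1
  exact h1

/-- determinants of the matrices commuting with a regular unipotent matrix -/
theorem det_cent_reg {M C : Matrix ι ι F} {n : ℕ} (hpos : 1 ≤ n) (hn : Fintype.card ι = n) (hnil : (M - 1) ^ n = 0)
    (hreg : (M - 1).rank = n - 1) (hC : C * M = M * C) :
    ∃ f : F[X], C = aeval (M - 1) f ∧ C.det = (f.coeff 0) ^ n := by
  obtain ⟨h1, h2⟩ := reg_facts hn hnil hreg
  have hf : Module.finrank F (ι → F) = n := by rw [Module.finrank_fintype_fun_eq_card, hn]
  obtain ⟨v, hv⟩ := exists_cyc hf hpos h2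
  have hC' : ∀ x, Matrix.toLin' C (Matrix.toLin' (M - 1) x) = Matrix.toLin' (M - 1) (Matrix.toLin' C x) := by
    intro x
    rw [← Matrix.toLin'_mul_apply, ← Matrix.toLin'_mul_apply, mul_sub, sub_mul, hC, mul_one, one_mul]
  obtain ⟨f, hf⟩ := exists_poly hf h1 hv hC'
  have h3 : C = aeval (M - 1) f := by
    apply Matrix.toLin'.injective
    rw [hf]
    exact Polynomial.aeval_algHom_apply (Matrix.toLinAlgEquiv' (R := F) (n := ι)).toAlgHom (M - 1) f
  refine ⟨f, h3, ?_⟩
  rw [h3, det_aeval_nilp ⟨n, hnil⟩, hn]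

/-- the centralizer order of a regular unipotent element -/
theorem card_cent_reg [Finite F] {n : ℕ} (hn : 1 ≤ n) (u : GL (Fin n) F)
    (hnil : ((u : Matrix (Fin n) (Fin n) F) - 1) ^ n = 0)
    (hreg : ((u : Matrix (Fin n) (Fin n) F) - 1).rank = n - 1) :
    Nat.card ↥(Subgroup.centralizer ({u} : Set (GL (Fin n) F))) = Nat.card F ^ n - Nat.card F ^ (n - 1) := by
  obtain ⟨h1, h2⟩ := reg_facts (Fintype.card_fin n) hnil hreg
  have hf : Module.finrank F (Fin n → F) = n := by rw [Module.finrank_fintype_fun_eq_card, Fintype.card_fin]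
  set T := Matrix.toLin' ((u : Matrix (Fin n) (Fin n) F) - 1) with hT
  obtain ⟨v, hv⟩ := exists_cyc hf hn h2
  have hcomm : ∀ g : GL (Fin n) F, g ∈ Subgroup.centralizer ({u} : Set (GL (Fin n) F)) ↔
      ∀ x, Herm.gl n F g (T x) = T (Herm.gl n F g x) := by
    intro g
    rw [Subgroup.mem_centralizer_singleton_iff]
    have e : ∀ x, Herm.gl n F g (T x) = ((g * u : GL (Fin n) F) : Matrix (Fin n) (Fin n) F).mulVec x - (g : Matrix (Fin n) (Fin n) F).mulVec x := by
      intro x
      rw [Herm.gl_apply, hT, Matrix.toLin'_apply, Matrix.sub_mulVec, Matrix.one_mulVec, Matrix.mulVec_sub,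
        Matrix.mulVec_mulVec, Units.val_mul]
    have e' : ∀ x, T (Herm.gl n F g x) = ((u * g : GL (Fin n) F) : Matrix (Fin n) (Fin n) F).mulVec x - (g : Matrix (Fin n) (Fin n) F).mulVec x := by
      intro x
      rw [Herm.gl_apply, hT, Matrix.toLin'_apply, Matrix.sub_mulVec, Matrix.one_mulVec,
        Matrix.mulVec_mulVec, Units.val_mul]
    constructor
    · intro h x
      rw [e, e', h]
    · intro h
      apply (Herm.gl n F).injective
      apply LinearEquiv.ext
      intro x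
      have := h x
      rw [e, e'] at this
      exact sub_left_inj.mp this
  have h3 : Nat.card ↥(Subgroup.centralizer ({u} : Set (GL (Fin n) F))) =
      Nat.card {w : Fin n → F // (T ^ (n - 1)) w ≠ 0} := by
    have hp : ∀ (g : (Fin n → F) ≃ₗ[F] (Fin n → F)), (∀ x, g (T x) = T (g x)) → ∀ (i : ℕ) x, g ((T ^ i) x) = (T ^ i) (g x) := by
      intro g hg i
      induction i with
      | zero => intro x; rfl
      | succ i ih => intro x; rw [pow_succ, Module.End.mul_apply, ih, hg, Module.End.mul_apply]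
    apply Nat.card_congr
    apply Equiv.ofBijective (fun g => ⟨Herm.gl n F g.1 v, by
      rw [← hp _ ((hcomm _).mp g.2)]
      intro h
      exact hv ((Herm.gl n F g.1).map_eq_zero_iff.mp h)⟩)
    constructor
    · intro g g' h
      apply Subtype.ext
      apply (Herm.gl n F).injective
      have h4 : (Herm.gl n F g.1 : (Fin n → F) →ₗ[F] (Fin n → F)) = (Herm.gl n F g'.1 : (Fin n → F) →ₗ[F] (Fin n → F)) :=
        cyc_ext hf h1 hv ((hcomm _).mp g.2) ((hcomm _).mp g'.2) (congrArg Subtype.val h)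
      exact LinearEquiv.toLinearMap_injective h4
    · rintro ⟨w, hw⟩
      obtain ⟨g, hg1, hg2⟩ := exists_cyc_equiv hf h1 hv hw
      obtain ⟨g0, rfl⟩ := (Herm.gl n F).surjective g
      exact ⟨⟨g0, (hcomm _).mpr hg1⟩, Subtype.ext hg2⟩
  rw [h3]
  haveI : Finite (Fin n → F) := inferInstance
  have h4 : Nat.card {w : Fin n → F // (T ^ (n - 1)) w ≠ 0} =
      Nat.card (Fin n → F) - Nat.card {w : Fin n → F // (T ^ (n - 1)) w = 0} := by
    classical
    haveI := Fintype.ofFinite F
    rw [Nat.card_eq_fintype_card, Nat.card_eq_fintype_card, Nat.card_eq_fintype_card]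
    exact Fintype.card_subtype_compl (fun w : Fin n → F => (T ^ (n - 1)) w = 0)
  have h5 : Nat.card {w : Fin n → F // (T ^ (n - 1)) w = 0} = Nat.card F ^ (n - 1) := by
    have e1 : Nat.card (LinearMap.ker (T ^ (n - 1))) = Nat.card F ^ (n - 1) := by
      rw [Module.natCard_eq_pow_finrank (K := F), reg_ker hf h1 h2]
      congr 1; omega
    exact e1
  rw [h4, h5]
  congr 1
  rw [Nat.card_fun, Nat.card_eq_fintype_card (α := Fin n), Fintype.card_fin]

end Mats

end Cfsg.Agent.Lib.RCF
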