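import Mathlib
import Cfsg.Agent.Lib.RCF9

/-! Elements of prime order `r` prime to the characteristic. -/

set_option linter.all false
set_option maxHeartbeats 400000

namespace Cfsg.Agent.Lib.RCF

open Polynomial

section Cyc

variable {F : Type*} [Field F]

/-- `1 + X + ⋯ + X^(r-1)` -/
noncomputable def Phi (F : Type*) [Field F] (r : ℕ) : F[X] := ∑ i ∈ Finset.range r, X ^ i

theorem Phi_mul (r : ℕ) : Phi F r * (X - 1) = X ^ r - 1 := geom_sum_mul X r

theorem Phi_eval_one (r : ℕ) : (Phi F r).eval 1 = r := by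
  rw [Phi, eval_finset_sum]
  simp

theorem Phi_coprime {r p : ℕ} [Fact p.Prime] [CharP F p] (hr : r.Prime) (hrp : r ≠ p) :
    IsCoprime (Phi F r) (X - 1) := by
  have hne : (r : F) ≠ 0 := by
    rw [Ne, CharP.cast_eq_zero_iff F p]
    intro h
    exact hrp ((Nat.prime_dvd_prime_iff_eq Fact.out hr).mp h).symm
  rw [isCoprime_comm]
  have h1 : (X - 1 : F[X]) = X - C 1 := by rw [C_1]
  rw [h1]
  rw [Irreducible.coprime_iff_not_dvd (irreducible_X_sub_C 1), dvd_iff_isRoot, IsRoot, Phi_eval_one]
  exact hne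

/-- degrees of irreducible factors of `Phi` -/
theorem degree_of_dvd_Phi [Finite F] {r p : ℕ} [Fact p.Prime] [CharP F p] (hr : r.Prime) (hrp : r ≠ p)
    {π : F[X]} (hπ : Irreducible π) (hd : π ∣ Phi F r) :
    ∀ d, ((Nat.card F : ZMod r) ^ d = 1 ↔ π.natDegree ∣ d) := by
  haveI : Fact (Irreducible π) := ⟨hπ⟩
  haveI : Fact r.Prime := ⟨hr⟩
  haveI : Module.Finite F (AdjoinRoot π) := (AdjoinRoot.powerBasis hπ.ne_zero).finite
  haveI : Finite (AdjoinRoot π) := Module.finite_of_finite F
  haveI := Fintype.ofFinite F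
  haveI := Fintype.ofFinite (AdjoinRoot π)
  have hcard : Fintype.card (AdjoinRoot π) = Fintype.card F ^ π.natDegree := by
    rw [← Nat.card_eq_fintype_card, Module.natCard_eq_pow_finrank (K := F), (AdjoinRoot.powerBasis hπ.ne_zero).finrank,
      AdjoinRoot.powerBasis_dim, Nat.card_eq_fintype_card]
  set α := AdjoinRoot.root π with hα
  have hroot : ∀ f : F[X], π ∣ f → f.eval₂ (AdjoinRoot.of π) α = 0 := by
    rintro f ⟨c, rfl⟩
    rw [eval₂_mul, AdjoinRoot.eval₂_root, zero_mul]
  have hαr : α ^ r = 1 := by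
    have h1 := hroot (X ^ r - 1) (hd.trans (by rw [← Phi_mul]; exact dvd_mul_right _ _))
    rw [eval₂_sub, eval₂_pow, eval₂_X, eval₂_one, sub_eq_zero] at h1
    exact h1
  have hα1 : α ≠ 1 := by
    intro h
    have h1 := hroot _ hd
    rw [h, Phi, eval₂_finset_sum] at h1
    simp only [eval₂_pow, eval₂_X, one_pow, Finset.sum_const, Finset.card_range, nsmul_eq_mul, mul_one] at h1
    haveI : CharP (AdjoinRoot π) p := charP_of_injective_algebraMap (algebraMap F (AdjoinRoot π)).injective p
    rw [CharP.cast_eq_zero_iff (AdjoinRoot π) p] at h1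
    exact hrp ((Nat.prime_dvd_prime_iff_eq Fact.out hr).mp h1).symm
  have hord : orderOf α = r := orderOf_eq_prime hαr hα1
  have hα0 : α ≠ 0 := by
    intro h
    rw [h, zero_pow hr.ne_zero] at hαr
    exact zero_ne_one hαr
  intro d
  have key : ∀ d, ((Fintype.card F : ZMod r) ^ d = 1 ↔ α ^ (Fintype.card F ^ d) = α) := by
    intro d
    have hpos : 1 ≤ Fintype.card F ^ d := Nat.one_le_pow _ _ Fintype.card_pos
    have h1 : α ^ (Fintype.card F ^ d) = α ↔ α ^ (Fintype.card F ^ d - 1) = 1 := by
      constructor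
      · intro h
        have h2 : α ^ (Fintype.card F ^ d - 1) * α = 1 * α := by
          rw [← pow_succ, Nat.sub_add_cancel hpos, one_mul, h]
        exact mul_right_cancel₀ hα0 h2
      · intro h
        calc α ^ (Fintype.card F ^ d) = α ^ (Fintype.card F ^ d - 1) * α := by
              rw [← pow_succ, Nat.sub_add_cancel hpos]
          _ = α := by rw [h, one_mul]
    have h2 : α ^ (Fintype.card F ^ d - 1) = 1 ↔ r ∣ Fintype.card F ^ d - 1 := by
      rw [← hord, orderOf_dvd_iff_pow_eq_one]
    rw [h1, h2]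
    rw [← Nat.cast_pow, ← ZMod.natCast_eq_zero_iff, Nat.cast_sub hpos, Nat.cast_one, sub_eq_zero]
  rw [Nat.card_eq_fintype_card, key]
  -- the Frobenius fixes `α` iff it is trivial on `K`
  have hgen : ∀ d, α ^ (Fintype.card F ^ d) = α → ∀ x : AdjoinRoot π, x ^ (Fintype.card F ^ d) = x := by
    intro d hd' x
    obtain ⟨f, rfl⟩ := AdjoinRoot.mk_surjective x
    induction f using Polynomial.induction_on' with
    | add a b ha hb =>
      haveI : CharP (AdjoinRoot π) p := charP_of_injective_algebraMap (algebraMap F (AdjoinRoot π)).injective p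
      obtain ⟨e, he1, he⟩ := FiniteField.card F p
      rw [map_add, he, ← pow_mul, add_pow_char_pow, pow_mul, ← he, ha, hb]
    | monomial n a =>
      have h3 : AdjoinRoot.mk π (monomial n a) = AdjoinRoot.of π a * α ^ n := by
        rw [← C_mul_X_pow_eq_monomial, map_mul, map_pow, AdjoinRoot.mk_C, AdjoinRoot.mk_X]
      rw [h3, mul_pow, ← map_pow, FiniteField.pow_card_pow, ← pow_mul, mul_comm n, pow_mul, hd']
  constructor
  · intro h
    -- |K| - 1 divides q^d - 1
    have h1 := hgen d h
    have h2 : (Fintype.card F ^ π.natDegree - 1) ∣ (Fintype.card F ^ d - 1) := by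
      obtain ⟨g, hg⟩ := IsCyclic.exists_generator (α := (AdjoinRoot π)ˣ)
      have h3 : orderOf g = Fintype.card F ^ π.natDegree - 1 := by
        rw [orderOf_eq_card_of_forall_mem_zpowers hg, Nat.card_units, Nat.card_eq_fintype_card, hcard]
      rw [← h3]
      apply orderOf_dvd_of_pow_eq_one
      have h4 := h1 (g : AdjoinRoot π)
      have hpos : 1 ≤ Fintype.card F ^ d := Nat.one_le_pow _ _ Fintype.card_pos
      apply mul_right_cancel (b := g)
      rw [← pow_succ, Nat.sub_add_cancel hpos, one_mul]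
      apply Units.ext
      rw [Units.val_pow_eq_pow_val]
      exact h4
    have h5 := Nat.pow_sub_one_gcd_pow_sub_one (Fintype.card F) π.natDegree d
    rw [Nat.gcd_eq_left h2] at h5
    have hq1 : 1 < Fintype.card F := Fintype.one_lt_card
    have h6 : 1 ≤ Fintype.card F ^ π.natDegree := Nat.one_le_pow _ _ (by omega)
    have h7 : 1 ≤ Fintype.card F ^ (π.natDegree.gcd d) := Nat.one_le_pow _ _ (by omega)
    have h8 : Fintype.card F ^ π.natDegree = Fintype.card F ^ (π.natDegree.gcd d) := by omega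
    have h9 := Nat.pow_right_injective hq1 h8
    rw [h9]
    exact Nat.gcd_dvd_right _ _
  · rintro ⟨c, rfl⟩
    rw [pow_mul, ← hcard]
    exact FiniteField.pow_card_pow c α

end Cyc

end Cfsg.Agent.Lib.RCF
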