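import Mathlib
import Cfsg.Agent.Lib.RCF10

/-! Centralizers of irreducible elements. -/

set_option linter.all false
set_option maxHeartbeats 400000

namespace Cfsg.Agent.Lib.RCF

open Polynomial

section Irr

variable {F : Type*} [Field F]

theorem card_adjoin [Finite F] {π : F[X]} (hπ : Irreducible π) :
    Nat.card (AdjoinRoot π) = Nat.card F ^ π.natDegree := by
  haveI : Module.Finite F (AdjoinRoot π) := (AdjoinRoot.powerBasis hπ.ne_zero).finite
  haveI : Finite (AdjoinRoot π) := Module.finite_of_finite F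
  rw [Module.natCard_eq_pow_finrank (K := F), (AdjoinRoot.powerBasis hπ.ne_zero).finrank,
      AdjoinRoot.powerBasis_dim]

/-- the centralizer of an element acting irreducibly -/
theorem cent_equiv [Finite F] {n : ℕ} (hn : 1 ≤ n) {π : F[X]} (hπ : Irreducible π) (hd : π.natDegree = n)
    (x : GL (Fin n) F) (hx : aeval (x : Matrix (Fin n) (Fin n) F) π = 0) :
    Nonempty ((AdjoinRoot π)ˣ ≃* ↥(Subgroup.centralizer ({x} : Set (GL (Fin n) F)))) := by
  classical
  haveI : Fact (Irreducible π) := ⟨hπ⟩
  haveI : Module.Finite F (AdjoinRoot π) := (AdjoinRoot.powerBasis hπ.ne_zero).finite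
  let ψ : AdjoinRoot π →+* Matrix (Fin n) (Fin n) F :=
    Ideal.Quotient.lift (Ideal.span {π}) (aeval (x : Matrix (Fin n) (Fin n) F) : F[X] →ₐ[F] Matrix (Fin n) (Fin n) F).toRingHom (by
      intro a ha
      obtain ⟨c, rfl⟩ := Ideal.mem_span_singleton'.mp ha
      show aeval (x : Matrix (Fin n) (Fin n) F) (c * π) = 0
      rw [map_mul, hx, mul_zero])
  have hψ : ∀ f : F[X], ψ (AdjoinRoot.mk π f) = aeval (x : Matrix (Fin n) (Fin n) F) f := fun f => rfl
  haveI : Nonempty (Fin n) := ⟨⟨0, hn⟩⟩
  have hinj : Function.Injective ψ := ψ.injective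
  -- a nonzero vector
  let v : Fin n → F := Pi.single ⟨0, hn⟩ 1
  have hv : v ≠ 0 := by
    intro h
    have := congrFun h ⟨0, hn⟩
    simp [v] at this
  let ev : AdjoinRoot π →ₗ[F] (Fin n → F) :=
    { toFun := fun k => Matrix.mulVec (ψ k) v
      map_add' := fun a b => by rw [map_add, Matrix.add_mulVec]
      map_smul' := fun c a => by
        obtain ⟨f, rfl⟩ := AdjoinRoot.mk_surjective a
        have h1 : c • AdjoinRoot.mk π f = AdjoinRoot.mk π (C c * f) := by
          rw [map_mul, AdjoinRoot.mk_C, Algebra.smul_def]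
          rfl
        rw [h1, hψ, hψ, map_mul, aeval_C, RingHom.id_apply, Algebra.algebraMap_eq_smul_one, smul_mul_assoc, one_mul,
          Matrix.smul_mulVec] }
  have hev : Function.Injective ev := by
    rw [injective_iff_map_eq_zero]
    intro k hk
    by_contra hk0
    apply hv
    have h1 : Matrix.mulVec (ψ k⁻¹) (Matrix.mulVec (ψ k) v) = v := by
      rw [Matrix.mulVec_mulVec, ← map_mul, inv_mul_cancel₀ hk0, map_one, Matrix.one_mulVec]
    rw [← h1, show Matrix.mulVec (ψ k) v = 0 from hk, Matrix.mulVec_zero]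
  have hfr : Module.finrank F (AdjoinRoot π) = Module.finrank F (Fin n → F) := by
    rw [(AdjoinRoot.powerBasis hπ.ne_zero).finrank, AdjoinRoot.powerBasis_dim, hd, Module.finrank_fintype_fun_eq_card,
      Fintype.card_fin]
  have hevs : Function.Surjective ev := (LinearMap.injective_iff_surjective_of_finrank_eq_finrank hfr).mp hev
  let Ψ : (AdjoinRoot π)ˣ →* GL (Fin n) F := Units.map (ψ : AdjoinRoot π →* Matrix (Fin n) (Fin n) F)
  have hΨv : ∀ k, ((Ψ k : GL (Fin n) F) : Matrix (Fin n) (Fin n) F) = ψ (k : AdjoinRoot π) := fun k => rfl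
  have hroot : ψ (AdjoinRoot.root π) = (x : Matrix (Fin n) (Fin n) F) := by
    rw [← AdjoinRoot.mk_X, hψ, aeval_X]
  have hmem : ∀ k, Ψ k ∈ Subgroup.centralizer ({x} : Set (GL (Fin n) F)) := by
    intro k
    rw [Subgroup.mem_centralizer_singleton_iff]
    apply Units.ext
    rw [Units.val_mul, Units.val_mul, hΨv, ← hroot, ← map_mul, ← map_mul, mul_comm]
  refine ⟨MulEquiv.ofBijective (Ψ.codRestrict _ hmem) ⟨?_, ?_⟩⟩
  · intro k k' h
    have h1 : Ψ k = Ψ k' := congrArg Subtype.val h
    apply Units.ext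
    apply hinj
    rw [← hΨv, ← hΨv, h1]
  · rintro ⟨g, hg⟩
    rw [Subgroup.mem_centralizer_singleton_iff] at hg
    obtain ⟨k, hk⟩ := hevs (Matrix.mulVec (g : Matrix (Fin n) (Fin n) F) v)
    have hcomm : ∀ k, (g : Matrix (Fin n) (Fin n) F) * ψ k = ψ k * (g : Matrix (Fin n) (Fin n) F) := by
      intro k
      obtain ⟨f, rfl⟩ := AdjoinRoot.mk_surjective k
      rw [hψ]
      have h0 : Commute (g : Matrix (Fin n) (Fin n) F) (x : Matrix (Fin n) (Fin n) F) := congrArg Units.val hg
      have h1 : (g : Matrix (Fin n) (Fin n) F) ∈ Subalgebra.centralizer F {(x : Matrix (Fin n) (Fin n) F)} := by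
        rw [Subalgebra.mem_centralizer_iff]
        intro y hy
        rw [Set.mem_singleton_iff.mp hy]
        exact h0.symm.eq
      induction f using Polynomial.induction_on' with
      | add a b ha hb => rw [map_add, mul_add, add_mul, ha, hb]
      | monomial m a =>
        rw [aeval_monomial, ← mul_assoc, ← Algebra.commutes, mul_assoc, mul_assoc, (h0.pow_right m).eq]
    have hgk : (g : Matrix (Fin n) (Fin n) F) = ψ k := by
      apply Matrix.toLin'.injective
      apply LinearMap.ext
      intro w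
      obtain ⟨k', rfl⟩ := hevs w
      rw [Matrix.toLin'_apply, Matrix.toLin'_apply]
      show Matrix.mulVec _ (Matrix.mulVec (ψ k') v) = Matrix.mulVec _ (Matrix.mulVec (ψ k') v)
      rw [Matrix.mulVec_mulVec, hcomm, ← Matrix.mulVec_mulVec, ← hk]
      show Matrix.mulVec (ψ k') (Matrix.mulVec (ψ k) v) = _
      rw [Matrix.mulVec_mulVec, Matrix.mulVec_mulVec, ← map_mul, ← map_mul, mul_comm]
    have hk0 : k ≠ 0 := by
      rintro rfl
      rw [map_zero] at hgk
      have h1 := Units.mul_inv g
      rw [hgk, zero_mul] at h1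
      exact zero_ne_one h1
    refine ⟨Units.mk0 k hk0, ?_⟩
    apply Subtype.ext
    apply Units.ext
    exact hgk.symm

/-- an element of prime order `r` with `n` the order of `q` modulo `r` acts irreducibly -/
theorem exists_irred_of_order [Finite F] {p n r : ℕ} [Fact p.Prime] [CharP F p] (hr : r.Prime) (hrp : r ≠ p)
    (hi : orderOf (Nat.card F : ZMod r) = n) (hn : 1 ≤ n) (x : GL (Fin n) F) (hx : orderOf x = r) :
    ∃ π : F[X], Irreducible π ∧ π.natDegree = n ∧ aeval (x : Matrix (Fin n) (Fin n) F) π = 0 := by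
  set T := Matrix.toLin' (x : Matrix (Fin n) (Fin n) F) with hT
  have hcop := Phi_coprime (F := F) (r := r) (p := p) hr hrp
  have hx1 : (x : Matrix (Fin n) (Fin n) F) ^ r = 1 := by
    have : x ^ r = 1 := by rw [← hx]; exact pow_orderOf_eq_one x
    exact congrArg Units.val this
  have h0 : aeval T (Phi F r * (X - 1)) = 0 := by
    rw [Phi_mul]
    exact aeval_X_pow_toLin' _ hx1
  have hnt : Nontrivial (LinearMap.ker (aeval T (Phi F r))) := by
    rw [Submodule.nontrivial_iff_ne_bot]
    intro hbot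
    have h1 : aeval T (X - 1 : F[X]) = 0 := by
      apply LinearMap.ext
      intro y
      have h2 : aeval T (Phi F r) (aeval T (X - 1 : F[X]) y) = 0 := by
        rw [← Module.End.mul_apply, ← map_mul, h0]; rfl
      have h3 : aeval T (X - 1 : F[X]) y ∈ LinearMap.ker (aeval T (Phi F r)) := h2
      rw [hbot, Submodule.mem_bot] at h3
      rw [h3]; rfl
    rw [map_sub, aeval_X, map_one, sub_eq_zero] at h1
    have h4 : (x : Matrix (Fin n) (Fin n) F) = 1 := by
      apply Matrix.toLin'.injective
      rw [Matrix.toLin'_one]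
      exact h1
    have h5 : x = 1 := Units.ext h4
    rw [h5, orderOf_one] at hx
    exact hr.one_lt.ne hx
  set S := rst T (Phi F r) with hS
  obtain ⟨π, hπ, hπd⟩ := WfDvdMonoid.exists_irreducible_factor (minpoly.not_isUnit F S)
    (minpoly.ne_zero (Algebra.IsIntegral.isIntegral S))
  have hπΦ : π ∣ Phi F r := hπd.trans (minpoly.dvd F S (aeval_rst_self T _))
  have hdeg := degree_of_dvd_Phi (p := p) hr hrp hπ hπΦ
  have hdn : π.natDegree = n := by
    rw [← hi]
    apply Nat.dvd_antisymm
    · exact (hdeg _).mp (pow_orderOf_eq_one _)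
    · exact orderOf_dvd_of_pow_eq_one ((hdeg _).mpr dvd_rfl)
  have hmd : (minpoly F S) ∣ S.charpoly := LinearMap.minpoly_dvd_charpoly S
  have hWn : Module.finrank F (LinearMap.ker (aeval T (Phi F r))) ≤ n := by
    have := Submodule.finrank_le (LinearMap.ker (aeval T (Phi F r)))
    rw [Module.finrank_fintype_fun_eq_card, Fintype.card_fin] at this
    exact this
  have hcp : S.charpoly.natDegree = Module.finrank F (LinearMap.ker (aeval T (Phi F r))) :=
    LinearMap.charpoly_natDegree S
  have hc0 : S.charpoly ≠ 0 := (LinearMap.charpoly_monic S).ne_zero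
  have hle := natDegree_le_of_dvd (hπd.trans hmd) hc0
  have hWeq : Module.finrank F (LinearMap.ker (aeval T (Phi F r))) = n := by omega
  have hWtop : LinearMap.ker (aeval T (Phi F r)) = ⊤ := by
    apply Submodule.eq_top_of_finrank_eq
    rw [hWeq, Module.finrank_fintype_fun_eq_card, Fintype.card_fin]
  -- `π(S) = 0`
  have hπc : Associated π S.charpoly := by
    obtain ⟨c, hc⟩ := hπd.trans hmd
    have h1 := congrArg natDegree hc
    have hc1 : c ≠ 0 := by
      rintro rfl
      rw [mul_zero] at hc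
      exact hc0 hc
    rw [natDegree_mul hπ.ne_zero hc1, hcp, hWeq, hdn] at h1
    have h2 : c.natDegree = 0 := by omega
    have h3 : IsUnit c := by
      rw [eq_C_of_natDegree_eq_zero h2]
      apply isUnit_C.mpr
      apply isUnit_iff_ne_zero.mpr
      intro h4
      apply hc1
      rw [eq_C_of_natDegree_eq_zero h2, h4, C_0]
    rw [hc]
    exact (associated_mul_unit_right π c h3)
  have hSπ : aeval S π = 0 := by
    obtain ⟨u, hu⟩ := hπc.symm
    rw [← hu, map_mul, LinearMap.aeval_self_charpoly, zero_mul]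
  refine ⟨π, hπ, hdn, ?_⟩
  have hTπ : aeval T π = 0 := by
    apply LinearMap.ext
    intro y
    have hy : y ∈ LinearMap.ker (aeval T (Phi F r)) := by rw [hWtop]; trivial
    have h1 := aeval_rst_apply T (Phi F r) π ⟨y, hy⟩
    rw [← hS, hSπ] at h1
    exact h1.symm
  apply Matrix.toLin'.injective
  rw [map_zero, ← hTπ]
  exact (Polynomial.aeval_algHom_apply (Matrix.toLinAlgEquiv' (R := F) (n := Fin n)).toAlgHom (x : Matrix (Fin n) (Fin n) F) π).symm

end Irr

end Cfsg.Agent.Lib.RCF
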