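import Mathlib
import Cfsg.Agent.Lib.RCF11

/-! Similarity of semisimple endomorphisms by dimensions of primary components. -/

set_option linter.all false
set_option maxHeartbeats 400000

namespace Cfsg.Agent.Lib.RCF

open Polynomial

section Dim

variable {F V W : Type*} [Field F] [AddCommGroup V] [Module F V] [FiniteDimensional F V]
  [AddCommGroup W] [Module F W] [FiniteDimensional F W]

theorem finrank_ker_mul_coprime (T : V →ₗ[F] V) {f g : F[X]} (h : IsCoprime f g) :
    Module.finrank F (LinearMap.ker (aeval T (f * g))) =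
      Module.finrank F (LinearMap.ker (aeval T f)) + Module.finrank F (LinearMap.ker (aeval T g)) := by
  have hdis := Polynomial.disjoint_ker_aeval_of_isCoprime T h
  have hsup := Polynomial.sup_ker_aeval_eq_ker_aeval_mul_of_coprime T h
  rw [← hsup]
  have h1 := Submodule.finrank_sup_add_finrank_inf_eq (LinearMap.ker (aeval T f)) (LinearMap.ker (aeval T g))
  rw [hdis.eq_bot, finrank_bot, add_zero] at h1
  exact h1

theorem finrank_ker_prod (T : V →ₗ[F] V) (P : Finset F[X]) (hP : ∀ a ∈ P, ∀ b ∈ P, a ≠ b → IsCoprime a b) :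
    Module.finrank F (LinearMap.ker (aeval T (∏ π ∈ P, π))) =
      ∑ π ∈ P, Module.finrank F (LinearMap.ker (aeval T π)) := by
  classical
  induction P using Finset.induction_on with
  | empty =>
    rw [Finset.prod_empty, Finset.sum_empty, map_one]
    have : LinearMap.ker (1 : V →ₗ[F] V) = ⊥ := LinearMap.ker_id
    rw [this, finrank_bot]
  | insert a s ha ih =>
    rw [Finset.prod_insert ha, Finset.sum_insert ha, finrank_ker_mul_coprime, ih]
    · intro x hx y hy hxy
      exact hP x (Finset.mem_insert_of_mem hx) y (Finset.mem_insert_of_mem hy) hxy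
    · apply IsCoprime.prod_right
      intro b hb
      exact hP a (Finset.mem_insert_self a s) b (Finset.mem_insert_of_mem hb) (by rintro rfl; exact ha hb)

theorem ker_eq_of_factors {T : V →ₗ[F] V} {P1 P2 f : F[X]} (h1 : P1 ∣ f) (h2 : IsCoprime f P2)
    (hT : aeval T (P1 * P2) = 0) : LinearMap.ker (aeval T f) = LinearMap.ker (aeval T P1) := by
  apply le_antisymm
  · intro x hx
    rw [LinearMap.mem_ker] at hx ⊢
    obtain ⟨u, v, huv⟩ := h2
    have h3 : P1 = (P1 * u) * f + v * (P1 * P2) := by
      calc P1 = P1 * (u * f + v * P2) := by rw [huv, mul_one]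
        _ = _ := by ring
    have e : aeval T P1 = aeval T (P1 * u) * aeval T f + aeval T v * aeval T (P1 * P2) := by
      rw [← map_mul, ← map_mul, ← map_add]
      exact congrArg (aeval T) h3
    rw [e, hT, mul_zero, add_zero, Module.End.mul_apply, hx, map_zero]
  · intro x hx
    rw [LinearMap.mem_ker] at hx ⊢
    obtain ⟨c, rfl⟩ := h1
    rw [mul_comm, map_mul, Module.End.mul_apply, hx, map_zero]

/-- two endomorphisms killed by a product of distinct irreducibles are similar if the primary components
have the same dimensions -/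
theorem similar_of_factors [Finite F] (P : Finset F[X]) (hP : ∀ a ∈ P, ∀ b ∈ P, a ≠ b → IsCoprime a b)
    (hirr : ∀ a ∈ P, Irreducible a) {T : V →ₗ[F] V} {S : W →ₗ[F] W} (hT : aeval T (∏ π ∈ P, π) = 0)
    (hS : aeval S (∏ π ∈ P, π) = 0)
    (h : ∀ π ∈ P, Module.finrank F (LinearMap.ker (aeval T π)) = Module.finrank F (LinearMap.ker (aeval S π))) :
    ∃ g : V ≃ₗ[F] W, ∀ v, g (T v) = S (g v) := by
  classical
  apply similar_of_card
  intro f
  set P1 := P.filter (fun π => π ∣ f) with hP1
  set P2 := P.filter (fun π => ¬ π ∣ f) with hP2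
  have hprod : (∏ π ∈ P1, π) * (∏ π ∈ P2, π) = ∏ π ∈ P, π := Finset.prod_filter_mul_prod_filter_not P _ _
  have hd : (∏ π ∈ P1, π) ∣ f := by
    apply Finset.prod_dvd_of_coprime
    · intro a ha b hb hab
      exact hP a (Finset.mem_filter.mp ha).1 b (Finset.mem_filter.mp hb).1 hab
    · intro a ha
      exact (Finset.mem_filter.mp ha).2
  have hc : IsCoprime f (∏ π ∈ P2, π) := by
    apply IsCoprime.prod_right
    intro b hb
    rw [isCoprime_comm]
    exact ((hirr b (Finset.mem_filter.mp hb).1).coprime_iff_not_dvd).mpr (Finset.mem_filter.mp hb).2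
  have hP1c : ∀ a ∈ P1, ∀ b ∈ P1, a ≠ b → IsCoprime a b := fun a ha b hb hab =>
    hP a (Finset.mem_filter.mp ha).1 b (Finset.mem_filter.mp hb).1 hab
  rw [ker_eq_of_factors hd hc (by rw [hprod]; exact hT), ker_eq_of_factors hd hc (by rw [hprod]; exact hS),
    finrank_ker_prod T P1 hP1c, finrank_ker_prod S P1 hP1c]
  exact Finset.sum_congr rfl fun π hπ => h π (Finset.mem_filter.mp hπ).1

/-- only one irreducible: everything is similar in equal dimension -/
theorem similar_of_irred [Finite F] {π : F[X]} (hπ : Irreducible π) {T : V →ₗ[F] V} {S : W →ₗ[F] W}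
    (hT : aeval T π = 0) (hS : aeval S π = 0) (h : Module.finrank F V = Module.finrank F W) :
    ∃ g : V ≃ₗ[F] W, ∀ v, g (T v) = S (g v) := by
  classical
  apply similar_of_factors {π}
  · intro a ha b hb hab
    rw [Finset.mem_singleton] at ha hb
    exact absurd (ha.trans hb.symm) hab
  · intro a ha
    rw [Finset.mem_singleton] at ha
    rw [ha]; exact hπ
  · rw [Finset.prod_singleton]; exact hT
  · rw [Finset.prod_singleton]; exact hS
  · intro a ha
    rw [Finset.mem_singleton] at ha
    rw [ha, hT, hS, LinearMap.ker_zero, LinearMap.ker_zero, finrank_top, finrank_top, h]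

/-- the degree divides the dimension -/
theorem degree_dvd_finrank [Finite F] {π : F[X]} (hπ : Irreducible π) {S : W →ₗ[F] W} (h : aeval S π = 0) :
    π.natDegree ∣ Module.finrank F W := by
  classical
  haveI : Fact (Irreducible π) := ⟨hπ⟩
  haveI : Module.Finite F (AdjoinRoot π) := (AdjoinRoot.powerBasis hπ.ne_zero).finite
  let φ : AdjoinRoot π →+* Module.End F W :=
    Ideal.Quotient.lift (Ideal.span {π}) (aeval S : F[X] →ₐ[F] Module.End F W).toRingHom (by
      intro a ha
      obtain ⟨c, rfl⟩ := Ideal.mem_span_singleton'.mp ha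
      show aeval S (c * π) = 0
      rw [map_mul, h, mul_zero])
  letI : Module (AdjoinRoot π) W := Module.compHom W φ
  have hsm : ∀ (f : F[X]) (x : W), (AdjoinRoot.mk π f) • x = aeval S f x := fun f x => rfl
  haveI : IsScalarTower F (AdjoinRoot π) W := by
    constructor
    intro a k x
    obtain ⟨f, rfl⟩ := AdjoinRoot.mk_surjective k
    have h1 : a • AdjoinRoot.mk π f = AdjoinRoot.mk π (C a * f) := by
      rw [map_mul, AdjoinRoot.mk_C, Algebra.smul_def]
      rfl
    rw [h1, hsm, hsm, map_mul, aeval_C, Module.End.mul_apply]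
    rfl
  haveI : FiniteDimensional (AdjoinRoot π) W := Module.Finite.of_restrictScalars_finite F _ _
  have h2 := Module.finrank_mul_finrank F (AdjoinRoot π) W
  rw [(AdjoinRoot.powerBasis hπ.ne_zero).finrank, AdjoinRoot.powerBasis_dim] at h2
  exact Dvd.intro _ h2

/-- existence of an endomorphism killed by a given irreducible polynomial -/
theorem exists_irred_mat [Finite F] {π : F[X]} (hπ : Irreducible π) (k : ℕ) :
    ∃ A : Matrix (Fin (k * π.natDegree)) (Fin (k * π.natDegree)) F, aeval A π = 0 := by
  classical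
  haveI : Fact (Irreducible π) := ⟨hπ⟩
  haveI : Module.Finite F (AdjoinRoot π) := (AdjoinRoot.powerBasis hπ.ne_zero).finite
  have hfr : Module.finrank F (Fin k → AdjoinRoot π) = k * π.natDegree := by
    rw [Module.finrank_pi_fintype]
    simp only [(AdjoinRoot.powerBasis hπ.ne_zero).finrank, AdjoinRoot.powerBasis_dim, Finset.sum_const,
      Finset.card_univ, Fintype.card_fin, smul_eq_mul]
  let b := Module.finBasisOfFinrankEq F (Fin k → AdjoinRoot π) hfr
  let T : (Fin k → AdjoinRoot π) →ₗ[F] (Fin k → AdjoinRoot π) :=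
    (LinearMap.lsmul (AdjoinRoot π) (Fin k → AdjoinRoot π) (AdjoinRoot.root π)).restrictScalars F
  have hT : ∀ f : F[X], ∀ x, aeval T f x = (AdjoinRoot.mk π f) • x := by
    intro f x
    induction f using Polynomial.induction_on' with
    | add a b ha hb => rw [map_add, map_add, LinearMap.add_apply, ha, hb, add_smul]
    | monomial m a =>
      rw [aeval_monomial, ← C_mul_X_pow_eq_monomial, map_mul, map_pow, AdjoinRoot.mk_C, AdjoinRoot.mk_X,
        ← Algebra.smul_def, LinearMap.smul_apply, mul_smul]
      have h1 : ∀ m : ℕ, (T ^ m) x = (AdjoinRoot.root π) ^ m • x := by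
        intro m
        induction m with
        | zero => rw [pow_zero, pow_zero, one_smul]; rfl
        | succ m ih => rw [pow_succ', Module.End.mul_apply, ih, pow_succ', mul_smul]; rfl
      rw [h1]
      funext j
      show a • ((AdjoinRoot.root π) ^ m * x j) = (AdjoinRoot.of π a) * ((AdjoinRoot.root π) ^ m * x j)
      rw [Algebra.smul_def]
      rfl
  refine ⟨LinearMap.toMatrix b b T, ?_⟩
  have h2 : ∀ p : F[X], aeval (LinearMap.toMatrix b b T) p = LinearMap.toMatrix b b (aeval T p) := by
    intro p
    exact Polynomial.aeval_algHom_apply (LinearMap.toMatrixAlgEquiv b).toAlgHom T p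
  rw [h2]
  have h3 : aeval T π = 0 := by
    apply LinearMap.ext
    intro x
    rw [hT, AdjoinRoot.mk_self, zero_smul]
    rfl
  rw [h3, map_zero]

end Dim

end Cfsg.Agent.Lib.RCF
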