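import Mathlib
import Cfsg.Agent.Lib.RCF12
import Cfsg.Agent.Lib.CombT

/-! Classes of elements of prime order in projective groups. -/

set_option linter.all false
set_option maxHeartbeats 400000

namespace Cfsg.Agent.Lib.RCF

open Polynomial Cfsg.Agent.Lib.CombT

section Ed

variable {F : Type*} [Field F] {n r : ℕ}

/-- scalar matrices -/
def sc (n : ℕ) (F : Type*) [Field F] : Fˣ →* GL (Fin n) F :=
  Units.map ((Matrix.scalar (Fin n) : F →+* Matrix (Fin n) (Fin n) F) : F →* Matrix (Fin n) (Fin n) F)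

theorem sc_val (u : Fˣ) : ((sc n F u : GL (Fin n) F) : Matrix (Fin n) (Fin n) F) = Matrix.scalar (Fin n) (u : F) := rfl

theorem sc_comm (u : Fˣ) (g : GL (Fin n) F) : sc n F u * g = g * sc n F u := by
  apply Units.ext
  exact (Matrix.scalar_commute (u : F) (fun r => Commute.all _ _) (g : Matrix (Fin n) (Fin n) F)).eq

theorem sc_inj (hn : 1 ≤ n) : Function.Injective (sc n F) := by
  intro u v h
  have h1 := congrArg (fun g : GL (Fin n) F => (g : Matrix (Fin n) (Fin n) F) ⟨0, hn⟩ ⟨0, hn⟩) h
  simp only [sc_val, Matrix.scalar_apply, Matrix.diagonal_apply_eq] at h1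
  exact Units.ext h1

/-- dimension of the eigenspace -/
noncomputable def ed (A : GL (Fin n) F) (l : F) : ℕ :=
  Module.finrank F (LinearMap.ker (aeval (Matrix.toLin' (A : Matrix (Fin n) (Fin n) F)) (X - C l)))

theorem mem_ed {A : GL (Fin n) F} {l : F} {v : Fin n → F} :
    v ∈ LinearMap.ker (aeval (Matrix.toLin' (A : Matrix (Fin n) (Fin n) F)) (X - C l)) ↔
      (A : Matrix (Fin n) (Fin n) F).mulVec v = l • v := by
  rw [LinearMap.mem_ker, map_sub, aeval_X, aeval_C, LinearMap.sub_apply, sub_eq_zero, Matrix.toLin'_apply]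
  rfl

theorem sc_mulVec (u : Fˣ) (v : Fin n → F) :
    ((sc n F u : GL (Fin n) F) : Matrix (Fin n) (Fin n) F).mulVec v = (u : F) • v := by
  funext i
  rw [sc_val, Matrix.scalar_apply, Matrix.mulVec_diagonal]
  rfl

theorem ed_scale (A : GL (Fin n) F) (u : Fˣ) (l : F) : ed (sc n F u * A) ((u : F) * l) = ed A l := by
  have key : LinearMap.ker (aeval (Matrix.toLin' ((sc n F u * A : GL (Fin n) F) : Matrix (Fin n) (Fin n) F)) (X - C ((u : F) * l))) =
      LinearMap.ker (aeval (Matrix.toLin' (A : Matrix (Fin n) (Fin n) F)) (X - C l)) := by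
    ext v
    rw [mem_ed, mem_ed, Units.val_mul, ← Matrix.mulVec_mulVec, sc_mulVec, mul_smul]
    constructor
    · intro h
      have := congrArg (fun x => ((u⁻¹ : Fˣ) : F) • x) h
      simp only [smul_smul] at this
      rw [← mul_assoc, Units.inv_mul, one_smul, one_mul] at this
      exact this
    · intro h; rw [h]
  unfold ed
  rw [key]

theorem ed_conj {A B : GL (Fin n) F} (h : IsConj A B) (l : F) : ed A l = ed B l := by
  obtain ⟨c, rfl⟩ := isConj_iff.mp h
  unfold ed
  apply LinearEquiv.finrank_eq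
  refine (Herm.gl n F c).submoduleMap _ |>.trans (LinearEquiv.ofEq _ _ ?_)
  ext v
  rw [Submodule.mem_map, mem_ed]
  constructor
  · rintro ⟨w, hw, rfl⟩
    rw [mem_ed] at hw
    show Matrix.mulVec _ (Matrix.mulVec (c : Matrix (Fin n) (Fin n) F) w) = l • Matrix.mulVec (c : Matrix (Fin n) (Fin n) F) w
    rw [Matrix.mulVec_mulVec, ← Units.val_mul, inv_mul_cancel_right, Units.val_mul, ← Matrix.mulVec_mulVec, hw, Matrix.mulVec_smul]
  · intro hv
    refine ⟨Matrix.mulVec ((c⁻¹ : GL (Fin n) F) : Matrix (Fin n) (Fin n) F) v, ?_, ?_⟩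
    · rw [mem_ed, Matrix.mulVec_mulVec, ← Units.val_mul]
      have h1 : A * c⁻¹ = c⁻¹ * (c * A * c⁻¹) := by group
      rw [h1, Units.val_mul, ← Matrix.mulVec_mulVec, hv, Matrix.mulVec_smul]
    · show Matrix.mulVec (c : Matrix (Fin n) (Fin n) F) (Matrix.mulVec _ v) = v
      rw [Matrix.mulVec_mulVec, ← Units.val_mul, mul_inv_cancel, Units.val_one, Matrix.one_mulVec]

theorem eq_sc_of_ed {A : GL (Fin n) F} {u : Fˣ} (h : n ≤ ed A u) : A = sc n F u := by
  have h1 : LinearMap.ker (aeval (Matrix.toLin' (A : Matrix (Fin n) (Fin n) F)) (X - C (u : F))) = ⊤ := by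
    apply Submodule.eq_top_of_finrank_eq
    apply le_antisymm (Submodule.finrank_le _)
    rw [Module.finrank_fintype_fun_eq_card, Fintype.card_fin]
    exact h
  apply Units.ext
  apply Matrix.toLin'.injective
  apply LinearMap.ext
  intro v
  rw [Matrix.toLin'_apply, Matrix.toLin'_apply, sc_mulVec, ← mem_ed, h1]
  trivial

variable {ζ : Fˣ}

/-- factorization of `X^r - 1` -/
theorem prod_zpowers [Fintype (Subgroup.zpowers ζ)] (hr : 0 < r) (hζ : orderOf ζ = r) :
    ∏ l : Subgroup.zpowers ζ, (X - C ((l : Fˣ) : F)) = X ^ r - 1 := by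
  classical
  have hcard : Fintype.card (Subgroup.zpowers ζ) = r := by
    rw [← Nat.card_eq_fintype_card, Nat.card_zpowers, hζ]
  have hinj : Function.Injective (fun l : Subgroup.zpowers ζ => ((l : Fˣ) : F)) :=
    Units.val_injective.comp Subtype.val_injective
  have hm1 : (∏ l : Subgroup.zpowers ζ, (X - C ((l : Fˣ) : F))).Monic := monic_prod_of_monic _ _ fun l _ => monic_X_sub_C _
  have hm2 : ((X : F[X]) ^ r - 1).Monic := monic_X_pow_sub_C 1 hr.ne'
  have hdvd : (∏ l : Subgroup.zpowers ζ, (X - C ((l : Fˣ) : F))) ∣ X ^ r - 1 := by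
    apply Finset.prod_dvd_of_coprime
    · intro a _ b _ hab
      exact isCoprime_X_sub_C_of_isUnit_sub (by
        apply IsUnit.mk0
        rw [sub_ne_zero]
        exact fun h => hab (hinj h))
    · intro a _
      rw [dvd_iff_isRoot, IsRoot, eval_sub, eval_pow, eval_X, eval_one, sub_eq_zero]
      have h1 : a ^ r = 1 := by rw [← hcard]; exact pow_card_eq_one
      have h2 := congrArg (fun z : Subgroup.zpowers ζ => ((z : Fˣ) : F)) h1
      simpa using h2
  apply (eq_of_monic_of_dvd_of_natDegree_le hm1 hm2 hdvd ?_).symm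
  have : ((X : F[X]) ^ r - 1).natDegree = r := by
    have := natDegree_X_pow_sub_C (n := r) (r := (1 : F))
    rwa [C_1] at this
  rw [this, natDegree_prod_of_monic _ _ (fun l _ => monic_X_sub_C _)]
  simp [hcard]

/-- the finset of linear factors -/
noncomputable def lf (ζ : Fˣ) [Fintype (Subgroup.zpowers ζ)] : Finset F[X] := by
  classical
  exact Finset.univ.image (fun l : Subgroup.zpowers ζ => (X - C ((l : Fˣ) : F)))

theorem lf_inj (ζ : Fˣ) : Function.Injective (fun l : Subgroup.zpowers ζ => (X - C ((l : Fˣ) : F) : F[X])) := by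
  intro a b h
  simp only [sub_right_inj] at h
  exact Subtype.ext (Units.ext (C_injective h))

theorem lf_prod [Fintype (Subgroup.zpowers ζ)] (hr : 0 < r) (hζ : orderOf ζ = r) :
    ∏ π ∈ lf ζ, π = X ^ r - 1 := by
  classical
  rw [lf, Finset.prod_image (fun a _ b _ h => lf_inj ζ h), prod_zpowers hr hζ]

theorem lf_cop [Fintype (Subgroup.zpowers ζ)] : ∀ a ∈ lf ζ, ∀ b ∈ lf ζ, a ≠ b → IsCoprime a b := by
  classical
  intro a ha b hb hab
  obtain ⟨l, -, rfl⟩ := Finset.mem_image.mp ha
  obtain ⟨l', -, rfl⟩ := Finset.mem_image.mp hb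
  exact isCoprime_X_sub_C_of_isUnit_sub (by
    apply IsUnit.mk0
    rw [sub_ne_zero]
    intro h
    apply hab
    rw [h])

theorem aeval_toLin_pow [Finite F] {A : GL (Fin n) F} (hA : A ^ r = 1) :
    aeval (Matrix.toLin' (A : Matrix (Fin n) (Fin n) F)) ((X : F[X]) ^ r - 1) = 0 :=
  aeval_X_pow_toLin' _ (by rw [← Units.val_pow_eq_pow_val, hA, Units.val_one])

theorem ed_sum [Finite F] [Fintype (Subgroup.zpowers ζ)] (hr : 0 < r) (hζ : orderOf ζ = r) {A : GL (Fin n) F} (hA : A ^ r = 1) :
    ∑ l : Subgroup.zpowers ζ, ed A ((l : Fˣ) : F) = n := by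
  classical
  have h1 := finrank_ker_prod (Matrix.toLin' (A : Matrix (Fin n) (Fin n) F)) (lf ζ) lf_cop
  rw [lf_prod hr hζ, aeval_toLin_pow hA, LinearMap.ker_zero, finrank_top,
    Module.finrank_fintype_fun_eq_card, Fintype.card_fin] at h1
  refine Eq.trans ?_ h1.symm
  rw [lf, Finset.sum_image (fun a _ b _ h => lf_inj ζ h)]
  rfl

theorem conj_of_ed [Finite F] [Fintype (Subgroup.zpowers ζ)] (hr : 0 < r) (hζ : orderOf ζ = r) {A B : GL (Fin n) F} (hA : A ^ r = 1)
    (hB : B ^ r = 1) (h : ∀ l : Subgroup.zpowers ζ, ed A ((l : Fˣ) : F) = ed B ((l : Fˣ) : F)) : IsConj A B := by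
  classical
  obtain ⟨k, hk⟩ := similar_of_factors (lf ζ) lf_cop (by
      intro a ha
      obtain ⟨l, -, rfl⟩ := Finset.mem_image.mp ha
      exact irreducible_X_sub_C _) (T := Matrix.toLin' (A : Matrix (Fin n) (Fin n) F))
    (S := Matrix.toLin' (B : Matrix (Fin n) (Fin n) F))
    (by rw [lf_prod hr hζ]; exact aeval_toLin_pow hA) (by rw [lf_prod hr hζ]; exact aeval_toLin_pow hB)
    (by
      intro a ha
      obtain ⟨l, -, rfl⟩ := Finset.mem_image.mp ha
      exact h l)
  exact SqZero.isConj_GL hk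

/-- realization of multiplicities by diagonal matrices -/
theorem exists_ed [Fintype (Subgroup.zpowers ζ)] (hr : 0 < r) (hζ : orderOf ζ = r) (a : Subgroup.zpowers ζ → ℕ)
    (ha : ∑ l, a l = n) : ∃ A : GL (Fin n) F, A ^ r = 1 ∧ ∀ l : Subgroup.zpowers ζ, ed A ((l : Fˣ) : F) = a l := by
  classical
  have hcard : Fintype.card ((l : Subgroup.zpowers ζ) × Fin (a l)) = n := by
    rw [Fintype.card_sigma]
    simpa using ha
  let e : ((l : Subgroup.zpowers ζ) × Fin (a l)) ≃ Fin n := Fintype.equivFinOfCardEq hcard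
  let w : Fin n → Fˣ := fun i => ((e.symm i).1 : Fˣ)
  let A : GL (Fin n) F := ⟨Matrix.diagonal (fun i => (w i : F)), Matrix.diagonal (fun i => ((w i)⁻¹ : Fˣ)),
    by rw [Matrix.diagonal_mul_diagonal]; simp, by rw [Matrix.diagonal_mul_diagonal]; simp⟩
  have hA : (A : Matrix (Fin n) (Fin n) F) = Matrix.diagonal (fun i => (w i : F)) := rfl
  have hfc : Fintype.card (Subgroup.zpowers ζ) = r := by
    rw [← Nat.card_eq_fintype_card, Nat.card_zpowers, hζ]
  refine ⟨A, ?_, ?_⟩
  · apply Units.ext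
    rw [Units.val_pow_eq_pow_val, hA, Matrix.diagonal_pow, Units.val_one, ← Matrix.diagonal_one]
    congr 1
    funext i
    have h1 : (e.symm i).1 ^ r = 1 := by rw [← hfc]; exact pow_card_eq_one
    have h2 := congrArg (fun z : Subgroup.zpowers ζ => ((z : Fˣ) : F)) h1
    simpa using h2
  · intro l
    have h1 : ∀ v : Fin n → F, v ∈ LinearMap.ker (aeval (Matrix.toLin' (A : Matrix (Fin n) (Fin n) F)) (X - C ((l : Fˣ) : F))) ↔
        ∀ i, (e.symm i).1 ≠ l → v i = 0 := by
      intro v
      rw [mem_ed, hA]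
      constructor
      · intro h i hi
        have h2 := congrFun h i
        rw [Matrix.mulVec_diagonal, Pi.smul_apply, smul_eq_mul] at h2
        have h3 : ((w i : F) - ((l : Fˣ) : F)) * v i = 0 := by linear_combination h2
        rcases mul_eq_zero.mp h3 with h4 | h4
        · exact absurd (Subtype.ext (Units.ext (sub_eq_zero.mp h4))) hi
        · exact h4
      · intro h
        funext i
        rw [Matrix.mulVec_diagonal, Pi.smul_apply, smul_eq_mul]
        by_cases hi : (e.symm i).1 = l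
        · show (((e.symm i).1 : Fˣ) : F) * v i = _
          rw [hi]
        · rw [h i hi, mul_zero, mul_zero]
    unfold ed
    let φ : LinearMap.ker (aeval (Matrix.toLin' (A : Matrix (Fin n) (Fin n) F)) (X - C ((l : Fˣ) : F))) →ₗ[F] (Fin (a l) → F) :=
      { toFun := fun v j => (v : Fin n → F) (e ⟨l, j⟩)
        map_add' := fun v w => rfl
        map_smul' := fun c v => rfl }
    have hφ : Function.Bijective φ := by
      constructor
      · rw [← LinearMap.ker_eq_bot, LinearMap.ker_eq_bot']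
        intro v hv
        apply Subtype.ext
        funext i
        by_cases hi : (e.symm i).1 = l
        · obtain ⟨⟨l', j⟩, rfl⟩ := e.surjective i
          rw [e.symm_apply_apply] at hi
          dsimp only at hi
          subst hi
          exact congrFun hv j
        · exact (h1 v).mp v.2 i hi
      · intro u
        refine ⟨⟨fun i => if h : (e.symm i).1 = l then u (h ▸ (e.symm i).2) else 0, ?_⟩, ?_⟩
        · rw [h1]
          intro i hi
          exact dif_neg hi
        · funext j
          show (if h : (e.symm (e ⟨l, j⟩)).1 = l then u (h ▸ (e.symm (e ⟨l, j⟩)).2) else 0) = u j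
          have h2 : ∀ (s : (l : Subgroup.zpowers ζ) × Fin (a l)) (hs : s = ⟨l, j⟩),
              (if h : s.1 = l then u (h ▸ s.2) else 0) = u j := by
            rintro s rfl
            rw [dif_pos rfl]
          exact h2 _ (e.symm_apply_apply _)
    rw [(LinearEquiv.ofBijective φ hφ).finrank_eq, Module.finrank_fintype_fun_eq_card, Fintype.card_fin]

end Ed

end Cfsg.Agent.Lib.RCF
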