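import Mathlib
import Cfsg.Agent.Lib.RCF13

/-! Classes of elements of prime order in projective groups: the count. -/

set_option linter.all false
set_option maxHeartbeats 400000

namespace Cfsg.Agent.Lib.RCF

open Polynomial Cfsg.Agent.Lib.CombT

section Main

variable {F : Type*} [Field F] [Finite F] {n r : ℕ}

theorem aeval_sub_C {A : GL (Fin n) F} {u : Fˣ} (h : A ^ r = sc n F u) :
    aeval (Matrix.toLin' (A : Matrix (Fin n) (Fin n) F)) ((X : F[X]) ^ r - C (u : F)) = 0 := by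
  rw [map_sub, map_pow, aeval_X, aeval_C, ← Matrix.toLin'_pow, ← Units.val_pow_eq_pow_val, h, sub_eq_zero]
  apply LinearMap.ext
  intro v
  rw [Matrix.toLin'_apply, sc_mulVec]
  rfl

theorem irr_of_not_pow (hr : r.Prime) {u : Fˣ} (h : ∀ c : Fˣ, c ^ r ≠ u) : Irreducible ((X : F[X]) ^ r - C (u : F)) := by
  apply X_pow_sub_C_irreducible_of_prime hr
  intro b hb
  have hb0 : b ≠ 0 := by
    rintro rfl
    rw [zero_pow hr.ne_zero] at hb
    exact u.ne_zero hb.symm
  exact h (Units.mk0 b hb0) (Units.ext hb)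

theorem exists_irred_mat' {π : F[X]} (hπ : Irreducible π) (h : π.natDegree ∣ n) :
    ∃ A : Matrix (Fin n) (Fin n) F, aeval A π = 0 := by
  obtain ⟨k, hk⟩ := h
  rw [mul_comm] at hk
  subst hk
  exact exists_irred_mat hπ k

theorem exists_pow_sc (hr : r.Prime) {u : Fˣ} (h : ∀ c : Fˣ, c ^ r ≠ u) (hd : r ∣ n) :
    ∃ A : GL (Fin n) F, A ^ r = sc n F u := by
  obtain ⟨A, hA⟩ := exists_irred_mat' (n := n) (irr_of_not_pow hr h) (by rw [natDegree_X_pow_sub_C]; exact hd)
  rw [map_sub, map_pow, aeval_X, aeval_C, sub_eq_zero] at hA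
  have hu : IsUnit (A ^ r) := by
    rw [hA]
    exact (u.isUnit).map (algebraMap F (Matrix (Fin n) (Fin n) F))
  rw [isUnit_pow_iff hr.ne_zero] at hu
  obtain ⟨B, rfl⟩ := hu
  refine ⟨B, Units.ext ?_⟩
  rw [Units.val_pow_eq_pow_val, hA]
  rfl

variable {G : Type*} [Group G]

theorem card_proj (φ : G →* GL (Fin n) F) (hφ : Function.Injective φ) (U : Subgroup Fˣ) (ζ : Fˣ)
    (hζU : ζ ∈ U) (hζ : orderOf ζ = r) (hr : r.Prime) (hn : 1 ≤ n)
    (hZ : ∀ g, g ∈ Subgroup.center G ↔ ∃ u ∈ U, φ g = sc n F u)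
    (hU : ∀ u ∈ U, ∃ g, φ g = sc n F u)
    (hconj : ∀ g h, IsConj (φ g) (φ h) → IsConj g h)
    (hreal : ∀ A : GL (Fin n) F, ∀ μ ∈ U, A ^ r = sc n F μ → ∃ g, IsConj A (φ g))
    (hroot : ∀ μ ∈ U, ∀ c : Fˣ, c ^ r = μ → ∃ c' ∈ U, c' ^ r = μ) (hdvd : r ∣ Nat.card U) :
    Nat.card {C : ConjClasses (G ⧸ Subgroup.center G) // ∃ g : G ⧸ Subgroup.center G,
      ConjClasses.mk g = C ∧ orderOf g = r} =
      (Nat.choose (n + r - 1) (r - 1) - r - (if r ∣ n then 1 else 0)) / r + r * (if r ∣ n then 1 else 0) := by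
  classical
  have hr0 : 0 < r := hr.pos
  haveI : Finite (Subgroup.zpowers ζ) := inferInstance
  haveI := Fintype.ofFinite (Subgroup.zpowers ζ)
  have hMU : ∀ l : Subgroup.zpowers ζ, (l : Fˣ) ∈ U := by
    intro l
    exact (Subgroup.zpowers_le.mpr hζU) l.2
  have hcardM : Fintype.card (Subgroup.zpowers ζ) = r := by
    rw [← Nat.card_eq_fintype_card, Nat.card_zpowers, hζ]
  have hMr : ∀ l : Subgroup.zpowers ζ, (l : Fˣ) ^ r = 1 := by
    intro l
    have h1 : l ^ r = 1 := by rw [← hcardM]; exact pow_card_eq_one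
    exact congrArg Subtype.val h1
  -- `r`-th roots of unity are in `M`
  have hmem : ∀ u : Fˣ, u ^ r = 1 → u ∈ Subgroup.zpowers ζ := by
    intro u hu
    have h1 : (∏ l : Subgroup.zpowers ζ, (X - C ((l : Fˣ) : F))).eval (u : F) = 0 := by
      rw [prod_zpowers hr0 hζ, eval_sub, eval_pow, eval_X, eval_one, ← Units.val_pow_eq_pow_val, hu,
        Units.val_one, sub_self]
    rw [eval_prod, Finset.prod_eq_zero_iff] at h1
    obtain ⟨l, -, hl⟩ := h1
    rw [eval_sub, eval_X, eval_C, sub_eq_zero] at hl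
    have : u = (l : Fˣ) := Units.ext hl
    rw [this]
    exact l.2
  letI := rot (Subgroup.zpowers ζ) n
  set Rg : Subgroup U := (powMonoidHom r : U →* U).range with hRg
  let T := (MulAction.orbitRel.Quotient (Subgroup.zpowers ζ) (SS (Subgroup.zpowers ζ) n)) ⊕
    {t : U ⧸ Rg // t ≠ 1 ∧ r ∣ n}
  let R : G ⧸ Subgroup.center G → T → Prop := fun x t => match t with
    | Sum.inl o => ∃ g : G, (g : G ⧸ Subgroup.center G) = x ∧ (φ g) ^ r = 1 ∧ ∃ a : SS (Subgroup.zpowers ζ) n,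
        (Quotient.mk (MulAction.orbitRel _ _) a : MulAction.orbitRel.Quotient _ _) = o ∧
          ∀ l : Subgroup.zpowers ζ, ed (φ g) ((l : Fˣ) : F) = a.1 l
    | Sum.inr t => ∃ g : G, (g : G ⧸ Subgroup.center G) = x ∧ ∃ u : U, (φ g) ^ r = sc n F (u : Fˣ) ∧
        (QuotientGroup.mk u : U ⧸ Rg) = t.1
  have hmk : ∀ g g' : G, (g : G ⧸ Subgroup.center G) = (g' : G ⧸ Subgroup.center G) ↔
      ∃ u ∈ U, φ g' = sc n F u * φ g := by
    intro g g'
    rw [QuotientGroup.eq, hZ]
    constructor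
    · rintro ⟨u, hu, h⟩
      refine ⟨u, hu, ?_⟩
      have h1 : g' = g * (g⁻¹ * g') := by group
      rw [h1, map_mul, h, sc_comm]
    · rintro ⟨u, hu, h⟩
      refine ⟨u, hu, ?_⟩
      rw [map_mul, h, sc_comm, map_inv, inv_mul_cancel_left]
  have hRgmem : ∀ u : U, u ∈ Rg ↔ ∃ c ∈ U, c ^ r = (u : Fˣ) := by
    intro u
    constructor
    · rintro ⟨c, hc⟩
      exact ⟨c, c.2, congrArg Subtype.val hc⟩
    · rintro ⟨c, hc, h⟩
      exact ⟨⟨c, hc⟩, Subtype.ext h⟩
  have hnotR : ∀ u : U, (QuotientGroup.mk u : U ⧸ Rg) ≠ 1 → ∀ c : Fˣ, c ^ r ≠ (u : Fˣ) := by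
    intro u hu c hc
    apply hu
    rw [QuotientGroup.eq_one_iff, hRgmem]
    exact hroot u u.2 c hc
  have key := card_of_type (G := G ⧸ Subgroup.center G) (T := T) (fun x => orderOf x = r) R ?_ ?_ ?_ ?_ ?_
  · rw [key, Nat.card_sum, card_orbits (M := Subgroup.zpowers ζ) hn (by rw [hcardM]; exact hr), hcardM, add_assoc]
    congr 1
    have hidx : Nat.card (U ⧸ Rg) = r := by
      have h1 : Rg.index = Nat.gcd (Nat.card U) r := by rw [hRg, IsCyclic.index_powMonoidHom_range]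
      rw [Nat.gcd_eq_right hdvd] at h1
      exact h1
    by_cases hd : r ∣ n
    · rw [if_pos hd, mul_one]
      have h2 : Nat.card {t : U ⧸ Rg // t ≠ 1 ∧ r ∣ n} = r - 1 := by
        have e1 : Nat.card {t : U ⧸ Rg // t ≠ 1 ∧ r ∣ n} = Nat.card {t : U ⧸ Rg // ¬ t = 1} :=
          Nat.card_congr (Equiv.subtypeEquivRight fun t => ⟨fun h => h.1, fun h => ⟨h, hd⟩⟩)
        haveI := Fintype.ofFinite (U ⧸ Rg)
        rw [e1, Nat.card_eq_fintype_card, Fintype.card_subtype_compl, Fintype.card_subtype_eq,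
          ← Nat.card_eq_fintype_card, hidx]
      rw [h2]
      have := hr.two_le
      omega
    · rw [if_neg hd, mul_zero, zero_add]
      haveI : IsEmpty {t : U ⧸ Rg // t ≠ 1 ∧ r ∣ n} := ⟨fun t => hd t.2.2⟩
      exact Nat.card_of_isEmpty
  · -- existence
    intro x hx
    obtain ⟨g, rfl⟩ := QuotientGroup.mk_surjective x
    have h1 : (g ^ r : G) ∈ Subgroup.center G := by
      rw [← QuotientGroup.eq_one_iff]
      rw [QuotientGroup.mk_pow, ← hx]
      exact pow_orderOf_eq_one _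
    obtain ⟨μ, hμ, hgμ⟩ := (hZ _).mp h1
    rw [map_pow] at hgμ
    by_cases hc : ∃ c ∈ U, c ^ r = μ
    · obtain ⟨c, hcU, hc⟩ := hc
      obtain ⟨h, hh⟩ := hU c⁻¹ (U.inv_mem hcU)
      have hmkeq : (g : G ⧸ Subgroup.center G) = ((h * g : G) : G ⧸ Subgroup.center G) :=
        (hmk _ _).mpr ⟨c⁻¹, U.inv_mem hcU, by rw [map_mul, hh]⟩
      have hpow : (φ (h * g)) ^ r = 1 := by
        rw [map_mul, hh, (show Commute (sc n F c⁻¹) (φ g) from sc_comm _ _).mul_pow, hgμ, ← map_pow, ← map_mul,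
          inv_pow, hc, inv_mul_cancel, map_one]
      have hlt : ∀ l : Subgroup.zpowers ζ, ed (φ (h * g)) ((l : Fˣ) : F) < n := by
        intro l
        by_contra hcon
        push Not at hcon
        have h2 := eq_sc_of_ed hcon
        have h3 : (h * g : G) ∈ Subgroup.center G := (hZ _).mpr ⟨_, hMU l, h2⟩
        rw [← QuotientGroup.eq_one_iff, ← hmkeq] at h3
        rw [h3, orderOf_one] at hx
        exact hr.one_lt.ne hx
      refine ⟨Sum.inl (Quotient.mk (MulAction.orbitRel _ _) ⟨fun l => ed (φ (h * g)) ((l : Fˣ) : F), ed_sum hr0 hζ hpow, hlt⟩), ?_⟩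
      exact ⟨h * g, hmkeq.symm, hpow, _, rfl, fun l => rfl⟩
    · have hne : (QuotientGroup.mk (⟨μ, hμ⟩ : U) : U ⧸ Rg) ≠ 1 := by
        rw [Ne, QuotientGroup.eq_one_iff, hRgmem]
        exact hc
      have hirr := irr_of_not_pow hr (hnotR _ hne)
      have hdn := degree_dvd_finrank hirr (aeval_sub_C hgμ)
      rw [natDegree_X_pow_sub_C, Module.finrank_fintype_fun_eq_card, Fintype.card_fin] at hdn
      exact ⟨Sum.inr ⟨_, hne, hdn⟩, g, rfl, ⟨μ, hμ⟩, hgμ, rfl⟩
  · -- uniqueness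
    intro x t t' ht ht'
    rcases t with o | t <;> rcases t' with o' | t'
    · obtain ⟨g, hg, hgr, a, rfl, ha⟩ := ht
      obtain ⟨g', hg', hgr', a', rfl, ha'⟩ := ht'
      obtain ⟨u, hu, hgu⟩ := (hmk g g').mp (hg.trans hg'.symm)
      have hur : u ^ r = 1 := by
        apply sc_inj hn
        have h1 := hgr'
        rw [hgu, (show Commute (sc n F u) (φ g) from sc_comm _ _).mul_pow, hgr, mul_one] at h1
        rw [map_pow, h1, map_one]
      congr 1
      apply Quotient.sound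
      show a ∈ MulAction.orbit _ a'
      refine ⟨⟨u, hmem u hur⟩, ?_⟩
      apply Subtype.ext
      funext l
      show a'.1 (⟨u, hmem u hur⟩ * l) = a.1 l
      rw [← ha', ← ha, hgu]
      have h2 := ed_scale (φ g) u ((l : Fˣ) : F)
      rw [← h2]
      rfl
    · exfalso
      obtain ⟨g, hg, hgr, a, rfl, ha⟩ := ht
      obtain ⟨g', hg', u', hgr', ht'⟩ := ht'
      obtain ⟨u, hu, hgu⟩ := (hmk g g').mp (hg.trans hg'.symm)
      have hur : u ^ r = u' := by
        apply sc_inj hn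
        rw [← hgr', hgu, (show Commute (sc n F u) (φ g) from sc_comm _ _).mul_pow, hgr, mul_one, map_pow]
      apply t'.2.1
      rw [← ht', QuotientGroup.eq_one_iff, hRgmem]
      exact ⟨u, hu, hur⟩
    · exfalso
      obtain ⟨g, hg, hgr, a, rfl, ha⟩ := ht'
      obtain ⟨g', hg', u', hgr', ht'⟩ := ht
      obtain ⟨u, hu, hgu⟩ := (hmk g g').mp (hg.trans hg'.symm)
      have hur : u ^ r = u' := by
        apply sc_inj hn
        rw [← hgr', hgu, (show Commute (sc n F u) (φ g) from sc_comm _ _).mul_pow, hgr, mul_one, map_pow]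
      apply t.2.1
      rw [← ht', QuotientGroup.eq_one_iff, hRgmem]
      exact ⟨u, hu, hur⟩
    · obtain ⟨g, hg, v, hgv, ht⟩ := ht
      obtain ⟨g', hg', v', hgv', ht'⟩ := ht'
      obtain ⟨u, hu, hgu⟩ := (hmk g g').mp (hg.trans hg'.symm)
      have hur : u ^ r * v = v' := by
        apply sc_inj hn
        rw [← hgv', hgu, (show Commute (sc n F u) (φ g) from sc_comm _ _).mul_pow, hgv, map_mul, map_pow]
      congr 1
      apply Subtype.ext
      rw [← ht, ← ht', QuotientGroup.eq, hRgmem]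
      refine ⟨u, hu, ?_⟩
      rw [Subgroup.coe_mul, Subgroup.coe_inv, ← hur]
      rw [mul_comm (u ^ r), inv_mul_cancel_left]
  · -- conjugacy
    intro x x' t hx hx' ht ht'
    rcases t with o | t
    · obtain ⟨g, rfl, hgr, a, rfl, ha⟩ := ht
      obtain ⟨g', rfl, hgr', a', hao, ha'⟩ := ht'
      obtain ⟨k, hk⟩ : a' ∈ MulAction.orbit (Subgroup.zpowers ζ) a := Quotient.exact hao
      -- `a' l = a (k l)`; replace `g` by `k⁻¹ g`
      obtain ⟨h, hh⟩ := hU ((k : Fˣ)⁻¹) (U.inv_mem (hMU k))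
      have hmkeq : (g : G ⧸ Subgroup.center G) = ((h * g : G) : G ⧸ Subgroup.center G) :=
        (hmk _ _).mpr ⟨_, U.inv_mem (hMU k), by rw [map_mul, hh]⟩
      have hpow : (φ (h * g)) ^ r = 1 := by
        rw [map_mul, hh, (show Commute (sc n F (k : Fˣ)⁻¹) (φ g) from sc_comm _ _).mul_pow, hgr, mul_one, ← map_pow,
          inv_pow, hMr, inv_one, map_one]
      have hc : IsConj (φ (h * g)) (φ g') := by
        apply conj_of_ed hr0 hζ hpow hgr'
        intro l
        rw [ha', ← hk]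
        show _ = a.1 (k * l)
        rw [← ha, map_mul, hh]
        have h2 := ed_scale (φ g) (k : Fˣ)⁻¹ (((k * l : Subgroup.zpowers ζ) : Fˣ) : F)
        rw [← h2]
        congr 1
        rw [← Units.val_mul, Subgroup.coe_mul, inv_mul_cancel_left]
      rw [hmkeq]
      exact (QuotientGroup.mk' (Subgroup.center G)).map_isConj (hconj _ _ hc)
    · obtain ⟨g, rfl, v, hgv, ht⟩ := ht
      obtain ⟨g', rfl, v', hgv', ht'⟩ := ht'
      have h1 : (QuotientGroup.mk v : U ⧸ Rg) = QuotientGroup.mk v' := ht.trans ht'.symm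
      rw [QuotientGroup.eq, hRgmem] at h1
      obtain ⟨c, hc, hcr⟩ := h1
      obtain ⟨h, hh⟩ := hU c hc
      have hmkeq : (g : G ⧸ Subgroup.center G) = ((h * g : G) : G ⧸ Subgroup.center G) :=
        (hmk _ _).mpr ⟨_, hc, by rw [map_mul, hh]⟩
      have hpow : (φ (h * g)) ^ r = sc n F (v' : Fˣ) := by
        rw [map_mul, hh, (show Commute (sc n F c) (φ g) from sc_comm _ _).mul_pow, hgv, ← map_pow, ← map_mul, hcr,
          Subgroup.coe_mul, Subgroup.coe_inv, mul_comm, mul_inv_cancel_left]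
      have hirr := irr_of_not_pow hr (hnotR v' (by rw [ht']; exact t.2.1))
      obtain ⟨k, hk⟩ := similar_of_irred hirr (aeval_sub_C hpow) (aeval_sub_C hgv') rfl
      have hcj : IsConj (φ (h * g)) (φ g') := SqZero.isConj_GL hk
      rw [hmkeq]
      exact (QuotientGroup.mk' (Subgroup.center G)).map_isConj (hconj _ _ hcj)
  · -- invariance
    intro x x' t hxx ht
    obtain ⟨y, rfl⟩ := isConj_iff.mp hxx
    obtain ⟨h, rfl⟩ := QuotientGroup.mk_surjective y
    rcases t with o | t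
    · obtain ⟨g, rfl, hgr, a, hao, ha⟩ := ht
      refine ⟨h * g * h⁻¹, rfl, ?_, a, hao, ?_⟩
      · rw [map_mul, map_mul, map_inv, conj_pow, hgr, mul_one, mul_inv_cancel]
      · intro l
        rw [← ha]
        exact (ed_conj (φ.map_isConj (isConj_iff.mpr ⟨h, rfl⟩)) _).symm
    · obtain ⟨g, rfl, v, hgv, ht⟩ := ht
      refine ⟨h * g * h⁻¹, rfl, v, ?_, ht⟩
      rw [map_mul, map_mul, map_inv, conj_pow, hgv, ← sc_comm, mul_inv_cancel_right]
  · -- realization
    intro t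
    rcases t with o | t
    · obtain ⟨a, rfl⟩ := Quotient.exists_rep o
      obtain ⟨A, hA, hAe⟩ := exists_ed hr0 hζ a.1 a.2.1
      obtain ⟨g, hg⟩ := hreal A 1 U.one_mem (by rw [hA, map_one])
      have hgr : (φ g) ^ r = 1 := by
        obtain ⟨c, hc⟩ := isConj_iff.mp hg
        rw [← hc, conj_pow, hA, mul_one, mul_inv_cancel]
      have hge : ∀ l : Subgroup.zpowers ζ, ed (φ g) ((l : Fˣ) : F) = a.1 l := by
        intro l
        rw [← hAe, ed_conj hg]
      refine ⟨(g : G ⧸ Subgroup.center G), ?_, g, rfl, hgr, a, rfl, hge⟩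
      haveI : Fact r.Prime := ⟨hr⟩
      apply orderOf_eq_prime
      · rw [← QuotientGroup.mk_pow, QuotientGroup.eq_one_iff, hZ]
        exact ⟨1, U.one_mem, by rw [map_pow, hgr, map_one]⟩
      · intro h1
        rw [QuotientGroup.eq_one_iff, hZ] at h1
        obtain ⟨u, hu, hgu⟩ := h1
        have hur : u ^ r = 1 := by
          apply sc_inj hn
          rw [map_pow, ← hgu, hgr, map_one]
        have h2 := a.2.2 ⟨u, hmem u hur⟩
        rw [← hge] at h2
        have h3 : ed (φ g) (((⟨u, hmem u hur⟩ : Subgroup.zpowers ζ) : Fˣ) : F) = n := by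
          unfold ed
          have : LinearMap.ker (aeval (Matrix.toLin' ((φ g : GL (Fin n) F) : Matrix (Fin n) (Fin n) F)) (X - C (u : F))) = ⊤ := by
            rw [eq_top_iff]
            intro v _
            rw [mem_ed, hgu, sc_mulVec]
          show Module.finrank F (LinearMap.ker (aeval (Matrix.toLin' ((φ g : GL (Fin n) F) : Matrix (Fin n) (Fin n) F)) (X - C (u : F)))) = n
          rw [this, finrank_top, Module.finrank_fintype_fun_eq_card, Fintype.card_fin]
        omega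
    · obtain ⟨v, hv⟩ := QuotientGroup.mk_surjective t.1
      have hvne : (QuotientGroup.mk v : U ⧸ Rg) ≠ 1 := by rw [hv]; exact t.2.1
      obtain ⟨A, hA⟩ := exists_pow_sc (n := n) hr (hnotR v hvne) t.2.2
      obtain ⟨g, hg⟩ := hreal A v v.2 hA
      have hgr : (φ g) ^ r = sc n F (v : Fˣ) := by
        obtain ⟨c, hc⟩ := isConj_iff.mp hg
        rw [← hc, conj_pow, hA, ← sc_comm, mul_inv_cancel_right]
      refine ⟨(g : G ⧸ Subgroup.center G), ?_, g, rfl, v, hgr, hv⟩
      haveI : Fact r.Prime := ⟨hr⟩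
      apply orderOf_eq_prime
      · rw [← QuotientGroup.mk_pow, QuotientGroup.eq_one_iff, hZ]
        exact ⟨v, v.2, by rw [map_pow, hgr]⟩
      · intro h1
        rw [QuotientGroup.eq_one_iff, hZ] at h1
        obtain ⟨u, hu, hgu⟩ := h1
        apply hnotR v hvne u
        apply sc_inj hn
        rw [map_pow, ← hgu, hgr]

end Main

end Cfsg.Agent.Lib.RCF
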