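import Mathlib
import Cfsg.Agent.Lib.RCF14

/-! Irreducible factors of `Phi_r`, indexed by `(ZMod r)ˣ / ⟨q⟩`. -/

set_option linter.all false
set_option maxHeartbeats 400000

namespace Cfsg.Agent.Lib.RCF

open Polynomial

section PF

variable {F : Type*} [Field F]

theorem Phi_monic {r : ℕ} (hr : 0 < r) : (Phi F r).Monic := by
  have h1 : (Phi F r * (X - 1)).Monic := by
    rw [Phi_mul]
    have := monic_X_pow_sub_C (1 : F) hr.ne'
    rwa [C_1] at this
  have h2 : (X - 1 : F[X]).Monic := by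
    have := monic_X_sub_C (1 : F)
    rwa [C_1] at this
  exact h2.of_mul_monic_right h1

theorem Phi_natDegree {r : ℕ} (hr : 0 < r) : (Phi F r).natDegree = r - 1 := by
  have h2 : (X - 1 : F[X]).Monic := by
    have := monic_X_sub_C (1 : F)
    rwa [C_1] at this
  have h1 : (Phi F r * (X - 1)).natDegree = r := by
    rw [Phi_mul]
    have := natDegree_X_pow_sub_C (n := r) (r := (1 : F))
    rwa [C_1] at this
  rw [(Phi_monic hr).natDegree_mul h2] at h1
  have h3 : (X - 1 : F[X]).natDegree = 1 := by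
    have := natDegree_X_sub_C (1 : F)
    rwa [C_1] at this
  omega

/-- irreducible factors of `Phi` -/
noncomputable def PF (F : Type*) [Field F] (r : ℕ) : Finset F[X] := by
  classical exact (UniqueFactorizationMonoid.normalizedFactors (Phi F r)).toFinset

theorem mem_PF {r : ℕ} (hr : 0 < r) {π : F[X]} : π ∈ PF F r ↔ Irreducible π ∧ π.Monic ∧ π ∣ Phi F r := by
  classical
  have h0 := (Phi_monic (F := F) hr).ne_zero
  unfold PF
  rw [Multiset.mem_toFinset]
  have h1 := UniqueFactorizationMonoid.mem_normalizedFactors_iff' (p := π) h0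
  constructor
  · intro h
    have h' : π ∈ UniqueFactorizationMonoid.normalizedFactors (Phi F r) := by convert h
    obtain ⟨h2, h3, h4⟩ := h1.mp h'
    refine ⟨h2, ?_, h4⟩
    have := monic_normalize (p := π) h2.ne_zero
    rw [← h3]
    convert this
  · rintro ⟨h2, h3, h4⟩
    have := h1.mpr ⟨h2, by convert h3.normalize_eq_self, h4⟩
    convert this

theorem prod_PF [Finite F] {r p : ℕ} [Fact p.Prime] [CharP F p] (hr : r.Prime) (hrp : r ≠ p) :
    ∏ π ∈ PF F r, π = Phi F r := by
  classical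
  have hr0 := hr.pos
  have h0 := (Phi_monic (F := F) hr0).ne_zero
  have hsq : Squarefree (Phi F r) := by
    have h1 : Squarefree ((X : F[X]) ^ r - 1) := squarefree_X_pow (p := p) ((Nat.coprime_primes hr Fact.out).mpr hrp)
    rw [← Phi_mul] at h1
    exact h1.of_mul_left
  have hnd := (UniqueFactorizationMonoid.squarefree_iff_nodup_normalizedFactors h0).mp hsq
  have h2 := leadingCoeff_mul_prod_normalizedFactors (Phi F r)
  rw [(Phi_monic hr0).leadingCoeff, C_1, one_mul] at h2
  have h3 : PF F r = (UniqueFactorizationMonoid.normalizedFactors (Phi F r)).toFinset := by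
    unfold PF
    congr
  rw [h3]
  have h4 : ∏ π ∈ (UniqueFactorizationMonoid.normalizedFactors (Phi F r)).toFinset, π =
      (UniqueFactorizationMonoid.normalizedFactors (Phi F r)).toFinset.val.prod := by
    rw [Finset.prod_eq_multiset_prod, Multiset.map_id']
  rw [h4, Multiset.toFinset_val, hnd.dedup]
  convert h2

theorem natDegree_PF [Finite F] {r p : ℕ} [Fact p.Prime] [CharP F p] (hr : r.Prime) (hrp : r ≠ p) {π : F[X]}
    (hπ : π ∈ PF F r) : π.natDegree = orderOf (Nat.card F : ZMod r) := by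
  obtain ⟨h1, h2, h3⟩ := (mem_PF hr.pos).mp hπ
  have h4 := degree_of_dvd_Phi (F := F) hr hrp h1 h3
  apply Nat.dvd_antisymm
  · rw [← h4]; exact pow_orderOf_eq_one _
  · apply orderOf_dvd_of_pow_eq_one
    rw [h4]

theorem card_PF [Finite F] {r p : ℕ} [Fact p.Prime] [CharP F p] (hr : r.Prime) (hrp : r ≠ p) :
    (PF F r).card * orderOf (Nat.card F : ZMod r) = r - 1 := by
  rw [← Phi_natDegree (F := F) hr.pos, ← prod_PF (F := F) (p := p) hr hrp, natDegree_prod_of_monic _ _
    (fun π hπ => ((mem_PF hr.pos).mp hπ).2.1), Finset.sum_congr rfl (fun π hπ => natDegree_PF (p := p) hr hrp hπ),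
    Finset.sum_const, smul_eq_mul]

theorem PF_coprime {r : ℕ} (hr : 0 < r) : ∀ a ∈ PF F r, ∀ b ∈ PF F r, a ≠ b → IsCoprime a b := by
  intro a ha b hb hab
  obtain ⟨ha1, ha2, ha3⟩ := (mem_PF hr).mp ha
  obtain ⟨hb1, hb2, hb3⟩ := (mem_PF hr).mp hb
  rw [ha1.coprime_iff_not_dvd]
  intro h
  apply hab
  exact eq_of_monic_of_associated ha2 hb2 (ha1.associated_of_dvd hb1 h)

theorem PF_coprime_one {r p : ℕ} [Fact p.Prime] [CharP F p] (hr : r.Prime) (hrp : r ≠ p) {π : F[X]}
    (hπ : π ∈ PF F r) : IsCoprime π (X - 1) :=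
  (Phi_coprime (p := p) hr hrp).of_isCoprime_of_dvd_left ((mem_PF hr.pos).mp hπ).2.2

/-- all irreducible factors of `X^r-1` -/
noncomputable def PF1 (F : Type*) [Field F] (r : ℕ) : Finset F[X] := by
  classical exact insert (X - 1) (PF F r)

theorem mem_PF1 {r : ℕ} {π : F[X]} : π ∈ PF1 F r ↔ π = X - 1 ∨ π ∈ PF F r := by
  classical
  unfold PF1
  rw [Finset.mem_insert]

theorem X_sub_one_not_mem {r p : ℕ} [Fact p.Prime] [CharP F p] (hr : r.Prime) (hrp : r ≠ p) :
    (X - 1 : F[X]) ∉ PF F r := by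
  intro h
  have h1 := PF_coprime_one (p := p) hr hrp h
  rw [isCoprime_self] at h1
  have h2 := ((mem_PF hr.pos).mp h).1
  exact h2.not_isUnit h1

theorem prod_PF1 [Finite F] {r p : ℕ} [Fact p.Prime] [CharP F p] (hr : r.Prime) (hrp : r ≠ p) :
    ∏ π ∈ PF1 F r, π = X ^ r - 1 := by
  classical
  unfold PF1
  rw [Finset.prod_insert (X_sub_one_not_mem (p := p) hr hrp), prod_PF (p := p) hr hrp, ← Phi_mul, mul_comm]

theorem PF1_coprime {r p : ℕ} [Fact p.Prime] [CharP F p] (hr : r.Prime) (hrp : r ≠ p) :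
    ∀ a ∈ PF1 F r, ∀ b ∈ PF1 F r, a ≠ b → IsCoprime a b := by
  intro a ha b hb hab
  rcases mem_PF1.mp ha with rfl | ha
  · rcases mem_PF1.mp hb with rfl | hb
    · exact absurd rfl hab
    · exact (PF_coprime_one (p := p) hr hrp hb).symm
  · rcases mem_PF1.mp hb with rfl | hb
    · exact (PF_coprime_one (p := p) hr hrp ha)
    · exact PF_coprime hr.pos _ ha _ hb hab

theorem PF1_irreducible {r : ℕ} (hr : 0 < r) : ∀ a ∈ PF1 F r, Irreducible a := by
  intro a ha
  rcases mem_PF1.mp ha with rfl | ha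
  · have := irreducible_X_sub_C (1 : F)
    rwa [C_1] at this
  · exact ((mem_PF hr).mp ha).1

end PF

section Lin

variable {F V W : Type*} [Field F] [Finite F] [AddCommGroup V] [Module F V] [FiniteDimensional F V]
  [AddCommGroup W] [Module F W] [FiniteDimensional F W]

theorem aeval_pow_sub {T : V →ₗ[F] V} {r : ℕ} (hT : T ^ r = 1) : aeval T ((X : F[X]) ^ r - 1) = 0 := by
  rw [map_sub, map_pow, aeval_X, map_one, hT, sub_self]

/-- the dimensions of the homogeneous parts -/
noncomputable def kd (T : V →ₗ[F] V) (π : F[X]) : ℕ := Module.finrank F (LinearMap.ker (aeval T π))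

theorem kd_sum {r p : ℕ} [Fact p.Prime] [CharP F p] (hr : r.Prime) (hrp : r ≠ p) {T : V →ₗ[F] V}
    (hT : T ^ r = 1) : kd T (X - 1) + ∑ π ∈ PF F r, kd T π = Module.finrank F V := by
  classical
  have h1 := finrank_ker_prod T (PF1 F r) (PF1_coprime (p := p) hr hrp)
  rw [prod_PF1 (p := p) hr hrp, aeval_pow_sub hT, LinearMap.ker_zero, finrank_top] at h1
  rw [h1]
  unfold PF1
  rw [Finset.sum_insert (X_sub_one_not_mem (p := p) hr hrp)]
  rfl

theorem similar_of_kd {r p : ℕ} [Fact p.Prime] [CharP F p] (hr : r.Prime) (hrp : r ≠ p) {T : V →ₗ[F] V}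
    {S : W →ₗ[F] W} (hT : T ^ r = 1) (hS : S ^ r = 1) (hd : Module.finrank F V = Module.finrank F W)
    (h : ∀ π ∈ PF F r, kd T π = kd S π) : ∃ g : V ≃ₗ[F] W, ∀ v, g (T v) = S (g v) := by
  apply similar_of_factors (PF1 F r) (PF1_coprime (p := p) hr hrp) (PF1_irreducible hr.pos)
  · rw [prod_PF1 (p := p) hr hrp, aeval_pow_sub hT]
  · rw [prod_PF1 (p := p) hr hrp, aeval_pow_sub hS]
  · intro π hπ
    rcases mem_PF1.mp hπ with rfl | hπ
    · have h1 := kd_sum (p := p) hr hrp hT
      have h2 := kd_sum (p := p) hr hrp hS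
      have h0 : ∑ π ∈ PF F r, kd T π = ∑ π ∈ PF F r, kd S π := Finset.sum_congr rfl h
      have h3 : kd T (X - 1) = kd S (X - 1) := by omega
      exact h3
    · exact h π hπ

theorem dvd_kd {T : V →ₗ[F] V} {π : F[X]} (hπ : Irreducible π) : π.natDegree ∣ kd T π := by
  unfold kd
  have hinv : ∀ x ∈ LinearMap.ker (aeval T π), T x ∈ LinearMap.ker (aeval T π) := by
    intro x hx
    rw [LinearMap.mem_ker] at hx ⊢
    have h1 : aeval T π (T x) = (aeval T π * aeval T (X : F[X])) x := by rw [aeval_X]; rfl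
    rw [h1, ← map_mul, mul_comm, map_mul, aeval_X]
    show T (aeval T π x) = 0
    rw [hx, map_zero]
  apply degree_dvd_finrank hπ (S := T.restrict hinv)
  apply LinearMap.ext
  intro x
  apply Subtype.ext
  have h2 : ∀ f : F[X], ((aeval (T.restrict hinv) f x : LinearMap.ker (aeval T π)) : V) = aeval T f (x : V) := by
    intro f
    induction f using Polynomial.induction_on' with
    | add a b ha hb => rw [map_add, map_add, LinearMap.add_apply, LinearMap.add_apply, Submodule.coe_add, ha, hb]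
    | monomial n a =>
      rw [aeval_monomial, aeval_monomial]
      have h3 : ∀ k : ℕ, (((T.restrict hinv) ^ k) x : V) = (T ^ k) (x : V) := by
        intro k
        induction k with
        | zero => rfl
        | succ k ih =>
          rw [pow_succ', pow_succ']
          show T (((T.restrict hinv) ^ k) x : V) = T ((T ^ k) (x : V))
          rw [ih]
      show a • ((((T.restrict hinv) ^ n) x : LinearMap.ker (aeval T π)) : V) = a • (T ^ n) (x : V)
      rw [h3]
  rw [h2]
  exact x.2

end Lin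

end Cfsg.Agent.Lib.RCF
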