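import Mathlib
import Cfsg.Agent.Lib.RCF15

/-! Existence of elements of order `r` with given dimensions. -/

set_option linter.all false
set_option maxHeartbeats 400000

namespace Cfsg.Agent.Lib.RCF

open Polynomial

section ProdMap

variable {F V W : Type*} [Field F] [AddCommGroup V] [Module F V] [FiniteDimensional F V]
  [AddCommGroup W] [Module F W] [FiniteDimensional F W]

theorem aeval_prodMap (T : V →ₗ[F] V) (S : W →ₗ[F] W) (f : F[X]) :
    aeval (T.prodMap S) f = (aeval T f).prodMap (aeval S f) := by
  induction f using Polynomial.induction_on' with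
  | add a b ha hb =>
    rw [map_add, map_add, map_add, ha, hb]
    apply LinearMap.ext
    intro x
    rfl
  | monomial n a =>
    rw [aeval_monomial, aeval_monomial, aeval_monomial]
    have h1 : ∀ k : ℕ, (T.prodMap S) ^ k = (T ^ k).prodMap (S ^ k) := by
      intro k
      induction k with
      | zero => rfl
      | succ k ih => rw [pow_succ, pow_succ, pow_succ, ih]; rfl
    rw [h1]
    apply LinearMap.ext
    intro x
    rfl

theorem finrank_ker_prodMap (T : V →ₗ[F] V) (S : W →ₗ[F] W) :
    Module.finrank F (LinearMap.ker (T.prodMap S)) =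
      Module.finrank F (LinearMap.ker T) + Module.finrank F (LinearMap.ker S) := by
  rw [← Module.finrank_prod]
  apply LinearEquiv.finrank_eq
  exact
    { toFun := fun x => (⟨x.1.1, by
        have h := x.2
        rw [LinearMap.mem_ker] at h
        exact congrArg Prod.fst h⟩, ⟨x.1.2, by
        have h := x.2
        rw [LinearMap.mem_ker] at h
        exact congrArg Prod.snd h⟩)
      invFun := fun y => ⟨(y.1.1, y.2.1), by
        rw [LinearMap.mem_ker]
        exact Prod.ext y.1.2 y.2.2⟩
      left_inv := fun x => rfl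
      right_inv := fun y => rfl
      map_add' := fun x y => rfl
      map_smul' := fun c x => rfl }

end ProdMap

section KD

variable {F V W : Type*} [Field F] [AddCommGroup V] [Module F V] [FiniteDimensional F V]
  [AddCommGroup W] [Module F W] [FiniteDimensional F W]

/-- transport of structure -/
theorem aeval_conj (g : V ≃ₗ[F] W) {T : V →ₗ[F] V} {S : W →ₗ[F] W} (h : ∀ v, g (T v) = S (g v)) (f : F[X]) :
    ∀ v, g (aeval T f v) = aeval S f (g v) := by
  intro v
  induction f using Polynomial.induction_on' with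
  | add a b ha hb => rw [map_add, map_add, LinearMap.add_apply, LinearMap.add_apply, map_add, ha, hb]
  | monomial n a =>
    rw [aeval_monomial, aeval_monomial]
    have h1 : ∀ k : ℕ, ∀ v, g ((T ^ k) v) = (S ^ k) (g v) := by
      intro k
      induction k with
      | zero => intro v; rfl
      | succ k ih =>
        intro v
        rw [pow_succ', pow_succ']
        show g (T ((T ^ k) v)) = S ((S ^ k) (g v))
        rw [h, ih]
    show g (a • (T ^ n) v) = a • (S ^ n) (g v)
    rw [map_smul, h1]

theorem kd_conj (g : V ≃ₗ[F] W) {T : V →ₗ[F] V} {S : W →ₗ[F] W} (h : ∀ v, g (T v) = S (g v)) (f : F[X]) :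
    kd T f = kd S f := by
  unfold kd
  apply LinearEquiv.finrank_eq
  exact LinearEquiv.ofSubmodules g _ _ (by
    ext w
    constructor
    · rintro ⟨v, hv, rfl⟩
      have hv' : aeval T f v = 0 := hv
      show aeval S f (g v) = 0
      rw [← aeval_conj g h, hv', map_zero]
    · intro hw
      have hw' : aeval S f w = 0 := hw
      refine ⟨g.symm w, ?_, by exact g.apply_symm_apply w⟩
      show aeval T f (g.symm w) = 0
      apply g.injective
      rw [aeval_conj g h]
      show aeval S f (g (g.symm w)) = g 0
      rw [g.apply_symm_apply, hw', map_zero])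

theorem exists_kd [Finite F] (P : Finset F[X]) (hP : ∀ a ∈ P, ∀ b ∈ P, a ≠ b → IsCoprime a b)
    (hirr : ∀ a ∈ P, Irreducible a) (a : F[X] → ℕ) {N : ℕ} (hN : ∑ π ∈ P, a π * π.natDegree = N) :
    ∃ T : (Fin N → F) →ₗ[F] (Fin N → F), aeval T (∏ π ∈ P, π) = 0 ∧ ∀ π ∈ P, kd T π = a π * π.natDegree := by
  classical
  induction P using Finset.induction_on generalizing N with
  | empty =>
    subst hN
    refine ⟨0, ?_, fun π hπ => absurd hπ (Finset.notMem_empty _)⟩
    apply LinearMap.ext
    intro x
    funext i
    exact i.elim0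
  | insert π0 P hπ0 ih =>
    rw [Finset.sum_insert hπ0] at hN
    obtain ⟨T, hT, hTd⟩ := ih (fun a ha b hb => hP a (Finset.mem_insert_of_mem ha) b (Finset.mem_insert_of_mem hb))
      (fun a ha => hirr a (Finset.mem_insert_of_mem ha)) rfl
    obtain ⟨A, hA⟩ := exists_irred_mat (hirr π0 (Finset.mem_insert_self _ _)) (a π0)
    have hS : aeval (Matrix.toLin' A) π0 = 0 := by
      have h1 : aeval (Matrix.toLin' A) π0 = Matrix.toLin' (aeval A π0) :=
        aeval_algHom_apply (Matrix.toLinAlgEquiv' : Matrix _ _ F ≃ₐ[F] _) A π0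
      rw [h1, hA, map_zero]
    set S := Matrix.toLin' A with hSdef
    have hfr : Module.finrank F ((Fin (∑ π ∈ P, a π * π.natDegree) → F) × (Fin (a π0 * π0.natDegree) → F)) =
        Module.finrank F (Fin N → F) := by
      rw [Module.finrank_prod, Module.finrank_fin_fun, Module.finrank_fin_fun, Module.finrank_fin_fun]
      omega
    let g := LinearEquiv.ofFinrankEq _ _ hfr
    let T' : (Fin N → F) →ₗ[F] (Fin N → F) := g.toLinearMap ∘ₗ (T.prodMap S) ∘ₗ g.symm.toLinearMap
    have hg : ∀ v, g ((T.prodMap S) v) = T' (g v) := by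
      intro v
      show g _ = g ((T.prodMap S) (g.symm (g v)))
      rw [g.symm_apply_apply]
    refine ⟨T', ?_, ?_⟩
    · apply LinearMap.ext
      intro w
      obtain ⟨v, rfl⟩ := g.surjective w
      rw [← aeval_conj g hg, Finset.prod_insert hπ0, aeval_prodMap, map_mul, map_mul, hT, hS, mul_zero, zero_mul]
      rw [LinearMap.zero_apply]
      have : (LinearMap.prodMap (0 : (Fin (∑ π ∈ P, a π * π.natDegree) → F) →ₗ[F] (Fin (∑ π ∈ P, a π * π.natDegree) → F)) (0 : (Fin (a π0 * π0.natDegree) → F) →ₗ[F] (Fin (a π0 * π0.natDegree) → F))) v = 0 := rfl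
      rw [this, map_zero]
    · intro π hπ
      rw [← kd_conj g hg]
      unfold kd
      rw [aeval_prodMap, finrank_ker_prodMap]
      have hzero : ∀ {U : Type _} [AddCommGroup U] [Module F U] [FiniteDimensional F U] (R : U →ₗ[F] U) (f h : F[X]),
          IsCoprime f h → aeval R h = 0 → Module.finrank F (LinearMap.ker (aeval R f)) = 0 := by
        intro U _ _ _ R f h hc hh
        obtain ⟨u, v, huv⟩ := hc
        rw [Submodule.finrank_eq_zero]
        rw [LinearMap.ker_eq_bot']
        intro x hx
        have h1 := congrArg (fun k => aeval R k x) huv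
        simp only [map_add, map_mul, map_one, hh, mul_zero, add_zero, LinearMap.add_apply] at h1
        have h2 : (aeval R u * aeval R f) x = aeval R u (aeval R f x) := rfl
        rw [h2, hx, map_zero] at h1
        exact h1.symm
      rcases Finset.mem_insert.mp hπ with rfl | hπ'
      · rw [hzero T π _ (IsCoprime.prod_right (fun b hb => hP π (Finset.mem_insert_self _ _) b (Finset.mem_insert_of_mem hb)
          (by rintro rfl; exact hπ0 hb))) hT, hS, LinearMap.ker_zero, finrank_top, Module.finrank_fin_fun, zero_add]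
      · have hne : π ≠ π0 := by rintro rfl; exact hπ0 hπ'
        rw [hzero S π π0 (hP π (Finset.mem_insert_of_mem hπ') π0 (Finset.mem_insert_self _ _) hne) hS, add_zero]
        exact hTd π hπ'

theorem exists_kd_r [Finite F] {r p : ℕ} [Fact p.Prime] [CharP F p] (hr : r.Prime) (hrp : r ≠ p) (a : F[X] → ℕ)
    {N : ℕ} (hN : orderOf (Nat.card F : ZMod r) * ∑ π ∈ PF F r, a π ≤ N) :
    ∃ T : (Fin N → F) →ₗ[F] (Fin N → F), T ^ r = 1 ∧ ∀ π ∈ PF F r, kd T π = a π * orderOf (Nat.card F : ZMod r) := by
  classical
  set e := orderOf (Nat.card F : ZMod r) with he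
  let b : F[X] → ℕ := fun π => if π = X - 1 then N - e * ∑ π ∈ PF F r, a π else a π
  have hX : (X - 1 : F[X]).natDegree = 1 := by
    have := natDegree_X_sub_C (1 : F)
    rwa [C_1] at this
  have hsum : ∑ π ∈ PF1 F r, b π * π.natDegree = N := by
    unfold PF1
    rw [Finset.sum_insert (X_sub_one_not_mem (p := p) hr hrp), hX, mul_one]
    have h1 : ∑ π ∈ PF F r, b π * π.natDegree = e * ∑ π ∈ PF F r, a π := by
      rw [Finset.mul_sum]
      apply Finset.sum_congr rfl
      intro π hπ
      have hne : π ≠ X - 1 := by rintro rfl; exact X_sub_one_not_mem (p := p) hr hrp hπ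
      show (if π = X - 1 then _ else a π) * _ = _
      rw [if_neg hne, natDegree_PF (p := p) hr hrp hπ, mul_comm]
    rw [h1]
    show (if (X - 1 : F[X]) = X - 1 then N - e * ∑ π ∈ PF F r, a π else a (X - 1)) + _ = N
    rw [if_pos rfl]
    omega
  obtain ⟨T, hT, hTd⟩ := exists_kd (PF1 F r) (PF1_coprime (p := p) hr hrp) (PF1_irreducible hr.pos) b hsum
  refine ⟨T, ?_, ?_⟩
  · rw [prod_PF1 (p := p) hr hrp, map_sub, map_pow, aeval_X, map_one, sub_eq_zero] at hT
    exact hT
  · intro π hπ
    have hne : π ≠ X - 1 := by rintro rfl; exact X_sub_one_not_mem (p := p) hr hrp hπ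
    rw [hTd π (mem_PF1.mpr (Or.inr hπ)), natDegree_PF (p := p) hr hrp hπ]
    show (if π = X - 1 then _ else a π) * _ = _
    rw [if_neg hne]

end KD

end Cfsg.Agent.Lib.RCF
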