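import Mathlib
import Cfsg.Agent.Lib.HilbM
import Cfsg.Agent.Lib.RCF16
import Cfsg.Agent.Lib.Alt

/-! Isometries of bilinear forms over finite fields, equivariant isometries. -/

set_option linter.all false
set_option maxHeartbeats 400000

namespace Cfsg.Agent.Lib.BForm

open Cfsg.Agent.Lib.HilbN

section Adj

variable {F V : Type*} [Field F] [AddCommGroup V] [Module F V] [FiniteDimensional F V]

/-- the right adjoint: `B (f x) y = B x (adj f y)` -/
theorem exists_adj {B : LinearMap.BilinForm F V} (hB : B.Nondegenerate) (f : V →ₗ[F] V) :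
    ∃ g : V →ₗ[F] V, ∀ x y, B (f x) y = B x (g y) := by
  have hB2 : B.flip.Nondegenerate := LinearMap.BilinForm.nondegenerate_flip_iff.mpr hB
  let e := B.flip.toDual hB2
  refine ⟨e.symm.toLinearMap ∘ₗ (LinearMap.lcomp F F f) ∘ₗ B.flip, ?_⟩
  intro x y
  have h1 := LinearMap.BilinForm.apply_toDual_symm_apply (hB := hB2) (LinearMap.lcomp F F f (B.flip y)) x
  exact h1.symm

noncomputable def adj {B : LinearMap.BilinForm F V} (hB : B.Nondegenerate) (f : V →ₗ[F] V) : V →ₗ[F] V :=
  (exists_adj hB f).choose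

theorem adj_spec {B : LinearMap.BilinForm F V} (hB : B.Nondegenerate) (f : V →ₗ[F] V) (x y : V) :
    B (f x) y = B x (adj hB f y) := (exists_adj hB f).choose_spec x y

theorem right_inj {B : LinearMap.BilinForm F V} (hB : B.Nondegenerate) {y z : V} (h : ∀ x, B x y = B x z) : y = z := by
  rw [← sub_eq_zero]
  apply hB.2
  intro x
  rw [map_sub, h, sub_self]

theorem left_inj {B : LinearMap.BilinForm F V} (hB : B.Nondegenerate) {y z : V} (h : ∀ x, B y x = B z x) : y = z := by
  rw [← sub_eq_zero]
  apply hB.1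
  intro x
  rw [map_sub, LinearMap.sub_apply, h, sub_self]

theorem adj_eq {B : LinearMap.BilinForm F V} (hB : B.Nondegenerate) {f g : V →ₗ[F] V} (h : ∀ x y, B (f x) y = B x (g y)) :
    adj hB f = g := by
  apply LinearMap.ext
  intro y
  apply right_inj hB
  intro x
  rw [← adj_spec, h]

theorem adj_add {B : LinearMap.BilinForm F V} (hB : B.Nondegenerate) (f g : V →ₗ[F] V) :
    adj hB (f + g) = adj hB f + adj hB g := by
  apply adj_eq
  intro x y
  rw [LinearMap.add_apply, LinearMap.add_apply, map_add, map_add, LinearMap.add_apply, adj_spec hB f, adj_spec hB g]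

theorem adj_mul {B : LinearMap.BilinForm F V} (hB : B.Nondegenerate) (f g : V →ₗ[F] V) :
    adj hB (f * g) = adj hB g * adj hB f := by
  apply adj_eq
  intro x y
  show B (f (g x)) y = B x (adj hB g (adj hB f y))
  rw [adj_spec, adj_spec]

theorem adj_one {B : LinearMap.BilinForm F V} (hB : B.Nondegenerate) : adj hB 1 = 1 := by
  apply adj_eq
  intro x y
  rfl

theorem adj_algebraMap {B : LinearMap.BilinForm F V} (hB : B.Nondegenerate) (a : F) :
    adj hB (algebraMap F (Module.End F V) a) = algebraMap F (Module.End F V) a := by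
  apply adj_eq
  intro x y
  simp only [Module.algebraMap_end_apply, map_smul, LinearMap.smul_apply]

/-- a commutative subalgebra closed under the adjoint -/
theorem closed_adj {B : LinearMap.BilinForm F V} (hB : B.Nondegenerate) {S : Set (Module.End F V)}
    (hS : ∀ s ∈ S, adj hB s ∈ Algebra.adjoin F S) : ∀ x ∈ Algebra.adjoin F S, adj hB x ∈ Algebra.adjoin F S := by
  intro x hx
  induction hx using Algebra.adjoin_induction with
  | mem x hx => exact hS x hx
  | algebraMap a => rw [adj_algebraMap]; exact Subalgebra.algebraMap_mem _ _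
  | add x y _ _ hx hy => rw [adj_add]; exact add_mem hx hy
  | mul x y _ _ hx hy => rw [adj_mul]; exact mul_mem hy hx

theorem invol_adj {B : LinearMap.BilinForm F V} (hB : B.Nondegenerate) {S : Set (Module.End F V)}
    (hS : ∀ s ∈ S, adj hB (adj hB s) = s) : ∀ x ∈ Algebra.adjoin F S, adj hB (adj hB x) = x := by
  intro x hx
  induction hx using Algebra.adjoin_induction with
  | mem x hx => exact hS x hx
  | algebraMap a => rw [adj_algebraMap, adj_algebraMap]
  | add x y _ _ hx hy => rw [adj_add, adj_add, hx, hy]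
  | mul x y _ _ hx hy => rw [adj_mul, adj_mul, hx, hy]

theorem comm_adj {S : Set (Module.End F V)} (hS : ∀ x ∈ S, ∀ y ∈ S, x * y = y * x) :
    ∀ x ∈ Algebra.adjoin F S, ∀ y ∈ Algebra.adjoin F S, x * y = y * x := by
  intro x hx y hy
  have h1 : ∀ s ∈ S, ∀ y ∈ Algebra.adjoin F S, s * y = y * s := by
    intro s hs y hy
    induction hy using Algebra.adjoin_induction with
    | mem y hy => exact hS s hs y hy
    | algebraMap a => exact (Algebra.commutes a s).symm
    | add y z _ _ hy hz => rw [mul_add, add_mul, hy, hz]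
    | mul y z _ _ hy hz => rw [← mul_assoc, hy, mul_assoc, hz, mul_assoc]
  induction hx using Algebra.adjoin_induction with
  | mem x hx => exact h1 x hx y hy
  | algebraMap a => exact Algebra.commutes a y
  | add x z _ _ hx hz => rw [mul_add, add_mul, hx, hz]
  | mul x z _ _ hx hz => rw [mul_assoc, hz, ← mul_assoc, hx, mul_assoc]

end Adj

section Main

variable {F V : Type*} [Field F] [Finite F] [AddCommGroup V] [Module F V] [FiniteDimensional F V]

/-- the main algebra lemma: norms and Hilbert 90 in `F[S]` -/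
theorem norm_adj {B : LinearMap.BilinForm F V} (hB : B.Nondegenerate) {S : Set (Module.End F V)}
    (hc : ∀ x ∈ S, ∀ y ∈ S, x * y = y * x)
    (hS : ∀ s ∈ S, adj hB s ∈ Algebra.adjoin F S) (hS2 : ∀ s ∈ S, adj hB (adj hB s) = s)
    {c : Module.End F V} (hcS : c ∈ Algebra.adjoin F S) (hcu : IsUnit (c - adj hB c)) :
    (∀ h ∈ Algebra.adjoin F S, IsUnit h → adj hB h = h → ∃ x ∈ Algebra.adjoin F S, IsUnit x ∧ x * adj hB x = h) ∧
    (∀ h ∈ Algebra.adjoin F S, h * adj hB h = 1 → ∃ y ∈ Algebra.adjoin F S, IsUnit y ∧ h * adj hB y = y) := by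
  classical
  haveI : Finite (Module.End F V) := Module.finite_of_finite F
  set A := Algebra.adjoin F S with hA
  have hcomm := comm_adj (F := F) hc
  have hclosed := closed_adj hB hS
  have hinv := invol_adj hB hS2
  letI : CommRing A := { (inferInstance : Ring A) with mul_comm := fun x y => Subtype.ext (hcomm x.1 x.2 y.1 y.2) }
  let s : A →+* A :=
    { toFun := fun x => ⟨adj hB x.1, hclosed x.1 x.2⟩
      map_one' := Subtype.ext (adj_one hB)
      map_mul' := fun x y => Subtype.ext (by
        show adj hB (x.1 * y.1) = adj hB x.1 * adj hB y.1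
        rw [adj_mul]
        exact hcomm _ (hclosed y.1 y.2) _ (hclosed x.1 x.2))
      map_zero' := Subtype.ext (by
        show adj hB 0 = 0
        have h1 := adj_algebraMap hB (0 : F)
        rwa [map_zero] at h1)
      map_add' := fun x y => Subtype.ext (adj_add hB _ _) }
  have hs : ∀ a, s (s a) = a := fun a => Subtype.ext (hinv a.1 a.2)
  have hunit : ∀ x : A, IsUnit (x : Module.End F V) → IsUnit x := by
    intro x hx
    obtain ⟨k, hk, h1, h2⟩ := inv_mem_of_unit A x.2 hx
    exact ⟨⟨x, ⟨k, hk⟩, Subtype.ext h1, Subtype.ext h2⟩, rfl⟩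
  have hcu' : IsUnit ((⟨c, hcS⟩ : A) - s ⟨c, hcS⟩) := hunit _ hcu
  constructor
  · intro h hh hu hsh
    obtain ⟨x, hx, hxh⟩ := norm_surj s hs hcu' (h := (⟨h, hh⟩ : A)) (hunit _ hu) (Subtype.ext hsh)
    refine ⟨x.1, x.2, hx.map A.val, congrArg Subtype.val hxh⟩
  · intro h hh h1
    obtain ⟨y, hy, hyh⟩ := hilbert90 s hs hcu' (x := (⟨h, hh⟩ : A)) (Subtype.ext h1)
    exact ⟨y.1, y.2, hy.map A.val, congrArg Subtype.val hyh⟩

end Main

end Cfsg.Agent.Lib.BForm
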