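import Mathlib
import Cfsg.Agent.Lib.BForm1

/-! Equivariant isometries (no eigenvalues `±1`). -/

set_option linter.all false
set_option maxHeartbeats 400000

namespace Cfsg.Agent.Lib.BForm

open Cfsg.Agent.Lib.HilbN

section Iso

variable {F V W : Type*} [Field F] [AddCommGroup V] [Module F V] [FiniteDimensional F V]
  [AddCommGroup W] [Module F W] [FiniteDimensional F W]

theorem isUnit_of_inj {T : V →ₗ[F] V} (h : ∀ x, T x = 0 → x = 0) : IsUnit T := by
  rw [LinearMap.isUnit_iff_ker_eq_bot, LinearMap.ker_eq_bot']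
  exact h

theorem isUnit_isometry {B : LinearMap.BilinForm F V} (hB : B.Nondegenerate) {T : V →ₗ[F] V}
    (hT : ∀ x y, B (T x) (T y) = B x y) : IsUnit T := by
  apply isUnit_of_inj
  intro x hx
  apply hB.1
  intro y
  rw [← hT, hx, map_zero, LinearMap.zero_apply]

theorem exists_left_rep {B D : LinearMap.BilinForm F V} (hB : B.Nondegenerate) :
    ∃ h : V →ₗ[F] V, ∀ x y, B (h x) y = D x y := by
  refine ⟨(B.toDual hB).symm.toLinearMap ∘ₗ D, ?_⟩
  intro x y
  exact LinearMap.BilinForm.apply_toDual_symm_apply (hB := hB) (D x) y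

/-- equivariant linear isomorphism gives an equivariant isometry -/
theorem iso_of_conj [Finite F] {B : LinearMap.BilinForm F V} {C : LinearMap.BilinForm F W} (hB : B.Nondegenerate)
    (hC : C.Nondegenerate) (ε : F) (hBε : ∀ x y, B x y = ε * B y x) (hCε : ∀ x y, C x y = ε * C y x)
    {T : V →ₗ[F] V} {S : W →ₗ[F] W} (hT : ∀ x y, B (T x) (T y) = B x y) (hS : ∀ x y, C (S x) (S y) = C x y)
    (hu : IsUnit (T * T - 1)) (k : V ≃ₗ[F] W) (hk : ∀ v, k (T v) = S (k v)) :
    ∃ k' : V ≃ₗ[F] W, (∀ v, k' (T v) = S (k' v)) ∧ ∀ x y, C (k' x) (k' y) = B x y := by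
  classical
  set D : LinearMap.BilinForm F V := C.comp k.toLinearMap k.toLinearMap with hD
  have hDa : ∀ x y, D x y = C (k x) (k y) := fun x y => rfl
  obtain ⟨h, hh⟩ := exists_left_rep (D := D) hB
  obtain ⟨U, hU⟩ := isUnit_isometry hB hT
  have hUa : ∀ x, (U : V →ₗ[F] V) x = T x := fun x => by rw [hU]
  set T' : V →ₗ[F] V := ((U⁻¹ : (Module.End F V)ˣ) : Module.End F V) with hT'
  have h1 : T * T' = 1 := by rw [← hU]; exact U.mul_inv
  have h2 : T' * T = 1 := by rw [← hU]; exact U.inv_mul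
  have hTsurj : ∀ y, ∃ z, T z = y := fun y => ⟨T' y, LinearMap.congr_fun h1 y⟩
  have hhu : IsUnit h := by
    apply isUnit_of_inj
    intro x hx
    have h3 : ∀ y, C (k x) y = 0 := by
      intro y
      obtain ⟨z, rfl⟩ := k.surjective y
      rw [← hDa, ← hh, hx, map_zero, LinearMap.zero_apply]
    have h4 := hC.1 _ h3
    rwa [map_eq_zero_iff k k.injective] at h4
  have hcomm : h * T = T * h := by
    apply LinearMap.ext
    intro x
    apply left_inj hB
    intro y
    obtain ⟨z, rfl⟩ := hTsurj y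
    show B (h (T x)) (T z) = B (T (h x)) (T z)
    rw [hh, hDa, hk, hk, hS, hT, hh, hDa]
  have hadjh : adj hB h = h := by
    apply adj_eq
    intro x y
    rw [hh, hDa, hCε, ← hDa, ← hh, ← hBε]
  have hadjT : adj hB T = T' := by
    apply adj_eq
    intro x y
    rw [← hT x (T' y)]
    congr 1
    exact (LinearMap.congr_fun h1 y).symm
  have hadjT' : adj hB T' = T := by
    apply adj_eq
    intro x y
    rw [← hT (T' x) y]
    congr 1
    have h3 : T (T' x) = x := LinearMap.congr_fun h1 x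
    rw [h3]
  have hcomm' : h * T' = T' * h := by
    calc h * T' = (T' * T) * h * T' := by rw [h2, one_mul]
      _ = T' * (h * T) * T' := by rw [hcomm, mul_assoc T' T h]
      _ = T' * h * (T * T') := by simp only [mul_assoc]
      _ = T' * h := by rw [h1, mul_one]
  have hTT' : T * T' = T' * T := by rw [h1, h2]
  let Z : Set (Module.End F V) := {T, T', h}
  have hZc : ∀ x ∈ Z, ∀ y ∈ Z, x * y = y * x := by
    intro x hx y hy
    rcases hx with rfl | rfl | rfl <;> rcases hy with rfl | rfl | rfl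
    · rfl
    · exact hTT'
    · exact hcomm.symm
    · exact hTT'.symm
    · rfl
    · exact hcomm'.symm
    · exact hcomm
    · exact hcomm'
    · rfl
  have hZa : ∀ s ∈ Z, adj hB s ∈ Algebra.adjoin F Z := by
    intro x hx
    rcases hx with rfl | rfl | rfl
    · rw [hadjT]; exact Algebra.subset_adjoin (Or.inr (Or.inl rfl))
    · rw [hadjT']; exact Algebra.subset_adjoin (Or.inl rfl)
    · rw [hadjh]; exact Algebra.subset_adjoin (Or.inr (Or.inr rfl))
  have hZi : ∀ s ∈ Z, adj hB (adj hB s) = s := by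
    intro x hx
    rcases hx with rfl | rfl | rfl
    · rw [hadjT, hadjT']
    · rw [hadjT', hadjT]
    · rw [hadjh, hadjh]
  have hcu : IsUnit (T - adj hB T) := by
    rw [hadjT]
    have h3 : T - T' = T' * (T * T - 1) := by rw [mul_sub, ← mul_assoc, h2, one_mul, mul_one]
    rw [h3]
    exact IsUnit.mul ⟨U⁻¹, rfl⟩ hu
  obtain ⟨hn, -⟩ := norm_adj hB hZc hZa hZi (c := T) (Algebra.subset_adjoin (Or.inl rfl)) hcu
  obtain ⟨x, hxZ, ⟨X, hX⟩, hxh⟩ := hn h (Algebra.subset_adjoin (Or.inr (Or.inr rfl))) hhu hadjh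
  set x' : V →ₗ[F] V := ((X⁻¹ : (Module.End F V)ˣ) : Module.End F V) with hx'
  have h3 : x * x' = 1 := by rw [← hX]; exact X.mul_inv
  have h4 : x' * x = 1 := by rw [← hX]; exact X.inv_mul
  have hcomm_all := comm_adj (F := F) hZc
  have hxT : x * T = T * x := hcomm_all x hxZ T (Algebra.subset_adjoin (Or.inl rfl))
  have hx'T : x' * T = T * x' := by
    calc x' * T = x' * (T * x) * x' := by rw [mul_assoc, mul_assoc, h3, mul_one]
      _ = (x' * x) * T * x' := by rw [← hxT]; simp only [mul_assoc]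
      _ = T * x' := by rw [h4, one_mul]
  have hadjx : adj hB x * x' * x = adj hB x := by rw [mul_assoc, h4, mul_one]
  let e : V ≃ₗ[F] V := LinearEquiv.ofLinear x' x h4 h3
  refine ⟨e.trans k, ?_, ?_⟩
  · intro v
    show k (x' (T v)) = S (k (x' v))
    rw [← hk]
    congr 1
    exact LinearMap.congr_fun hx'T v
  · intro u v
    show C (k (x' u)) (k (x' v)) = B u v
    rw [← hDa, ← hh]
    -- `h x' = adj x`
    have h5 : h * x' = adj hB x := by
      have h6 : adj hB x * x = h := by
        rw [← hxh]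
        exact (hcomm_all x hxZ _ (closed_adj hB hZa x hxZ)).symm
      rw [← h6, mul_assoc, h3, mul_one]
    have h6 : h (x' u) = adj hB x u := LinearMap.congr_fun h5 u
    rw [h6]
    have h7 : adj hB (adj hB x) = x := invol_adj hB hZi x hxZ
    rw [adj_spec hB (adj hB x), h7]
    congr 1
    exact LinearMap.congr_fun h3 v

/-- existence of invariant symmetric forms -/
theorem exists_symm_form [Finite F] {B : LinearMap.BilinForm F V} (hB : B.Nondegenerate)
    {T : V →ₗ[F] V} (hT : ∀ x y, B (T x) (T y) = B x y) (hu : IsUnit (T * T - 1)) :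
    ∃ C : LinearMap.BilinForm F V, C.Nondegenerate ∧ (∀ x y, C x y = C y x) ∧ ∀ x y, C (T x) (T y) = C x y := by
  classical
  obtain ⟨U, hU⟩ := isUnit_isometry hB hT
  set T' : V →ₗ[F] V := ((U⁻¹ : (Module.End F V)ˣ) : Module.End F V) with hT'
  have h1 : T * T' = 1 := by rw [← hU]; exact U.mul_inv
  have h2 : T' * T = 1 := by rw [← hU]; exact U.inv_mul
  have hTsurj : ∀ y, ∃ z, T z = y := fun y => ⟨T' y, LinearMap.congr_fun h1 y⟩
  -- `B x y = B y (X x)`
  have hBf : B.flip.Nondegenerate := LinearMap.BilinForm.nondegenerate_flip_iff.mpr hB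
  obtain ⟨X, hX⟩ := exists_left_rep (D := B) hBf
  have hX' : ∀ x y, B y (X x) = B x y := hX
  have hXu : IsUnit X := by
    apply isUnit_of_inj
    intro x hx
    apply hB.1
    intro y
    rw [← hX', hx, map_zero]
  obtain ⟨UX, hUX⟩ := hXu
  set X' : V →ₗ[F] V := ((UX⁻¹ : (Module.End F V)ˣ) : Module.End F V) with hX'd
  have h3 : X * X' = 1 := by rw [← hUX]; exact UX.mul_inv
  have h4 : X' * X = 1 := by rw [← hUX]; exact UX.inv_mul
  have hcomm : X * T = T * X := by
    apply LinearMap.ext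
    intro x
    apply right_inj hB
    intro y
    obtain ⟨z, rfl⟩ := hTsurj y
    show B (T z) (X (T x)) = B (T z) (T (X x))
    rw [hX', hT, hT, hX']
  have hinvc : ∀ {P P' Q : V →ₗ[F] V}, P * P' = 1 → P' * P = 1 → P * Q = Q * P → P' * Q = Q * P' := by
    intro P P' Q e1 e2 e3
    calc P' * Q = P' * (Q * P) * P' := by rw [mul_assoc, mul_assoc, e1, mul_one]
      _ = (P' * P) * Q * P' := by rw [← e3]; simp only [mul_assoc]
      _ = Q * P' := by rw [e2, one_mul]
  have hX'T : X' * T = T * X' := hinvc h3 h4 hcomm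
  have hXT' : T' * X = X * T' := hinvc h1 h2 hcomm.symm
  have hX'T' : T' * X' = X' * T' := hinvc h1 h2 hX'T.symm
  have hTT' : T * T' = T' * T := by rw [h1, h2]
  have hXX' : X * X' = X' * X := by rw [h3, h4]
  have hadjT : adj hB T = T' := by
    apply adj_eq
    intro x y
    rw [← hT x (T' y)]
    congr 1
    exact (LinearMap.congr_fun h1 y).symm
  have hadjT' : adj hB T' = T := by
    apply adj_eq
    intro x y
    rw [← hT (T' x) y]
    congr 1
    have h3 : T (T' x) = x := LinearMap.congr_fun h1 x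
    rw [h3]
  have hadjX : adj hB X = X' := by
    apply adj_eq
    intro x y
    rw [← hX' x (X' y), ← hX' (X' y) (X x)]
    congr 1
    exact (LinearMap.congr_fun h3 y).symm
  have hadjX' : adj hB X' = X := by
    apply adj_eq
    intro x y
    have h5 : adj hB (X' * X) = 1 := by rw [h4, adj_one]
    rw [adj_mul, hadjX] at h5
    have h6 : adj hB X' = X := by
      calc adj hB X' = (X * X') * adj hB X' := by rw [h3, one_mul]
        _ = X := by rw [mul_assoc, h5, mul_one]
    rw [adj_spec hB, h6]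
  let Z : Set (Module.End F V) := {T, T', X, X'}
  have hZc : ∀ x ∈ Z, ∀ y ∈ Z, x * y = y * x := by
    intro x hx y hy
    rcases hx with rfl | rfl | rfl | rfl <;> rcases hy with rfl | rfl | rfl | rfl
    · rfl
    · exact hTT'
    · exact hcomm.symm
    · exact hX'T.symm
    · exact hTT'.symm
    · rfl
    · exact hXT'
    · exact hX'T'
    · exact hcomm
    · exact hXT'.symm
    · rfl
    · exact hXX'
    · exact hX'T
    · exact hX'T'.symm
    · exact hXX'.symm
    · rfl
  have hZa : ∀ s ∈ Z, adj hB s ∈ Algebra.adjoin F Z := by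
    intro x hx
    rcases hx with rfl | rfl | rfl | rfl
    · rw [hadjT]; exact Algebra.subset_adjoin (Or.inr (Or.inl rfl))
    · rw [hadjT']; exact Algebra.subset_adjoin (Or.inl rfl)
    · rw [hadjX]; exact Algebra.subset_adjoin (Or.inr (Or.inr (Or.inr rfl)))
    · rw [hadjX']; exact Algebra.subset_adjoin (Or.inr (Or.inr (Or.inl rfl)))
  have hZi : ∀ s ∈ Z, adj hB (adj hB s) = s := by
    intro x hx
    rcases hx with rfl | rfl | rfl | rfl
    · rw [hadjT, hadjT']
    · rw [hadjT', hadjT]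
    · rw [hadjX, hadjX']
    · rw [hadjX', hadjX]
  have hcu : IsUnit (T - adj hB T) := by
    rw [hadjT]
    have h3 : T - T' = T' * (T * T - 1) := by rw [mul_sub, ← mul_assoc, h2, one_mul, mul_one]
    rw [h3]
    exact IsUnit.mul ⟨U⁻¹, rfl⟩ hu
  obtain ⟨-, hn⟩ := norm_adj hB hZc hZa hZi (c := T) (Algebra.subset_adjoin (Or.inl rfl)) hcu
  obtain ⟨y, hyZ, hyu, hy⟩ := hn X (Algebra.subset_adjoin (Or.inr (Or.inr (Or.inl rfl)))) (by rw [hadjX, h3])
  have hcomm_all := comm_adj (F := F) hZc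
  obtain ⟨UY, hUY⟩ := hyu
  set y' : V →ₗ[F] V := ((UY⁻¹ : (Module.End F V)ˣ) : Module.End F V) with hy'd
  have h5 : y * y' = 1 := by rw [← hUY]; exact UY.mul_inv
  have hysurj : ∀ v, ∃ w, y w = v := fun v => ⟨y' v, LinearMap.congr_fun h5 v⟩
  have hyT : ∀ v, y (T v) = T (y v) := fun v =>
    LinearMap.congr_fun (hcomm_all y hyZ T (Algebra.subset_adjoin (Or.inl rfl))) v
  let C : LinearMap.BilinForm F V := B.compr₂ LinearMap.id |>.compl₂ y
  have hC : ∀ u v, C u v = B u (y v) := fun u v => rfl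
  refine ⟨C, ⟨?_, ?_⟩, ?_, ?_⟩
  · intro u hu
    apply hB.1
    intro v
    obtain ⟨w, rfl⟩ := hysurj v
    exact hu w
  · intro v hv
    have h6 : y v = 0 := hB.2 _ (fun u => hv u)
    have h7 : y' * y = 1 := by rw [← hUY]; exact UY.inv_mul
    have h8 : y' (y v) = v := LinearMap.congr_fun h7 v
    rw [h6, map_zero] at h8
    exact h8.symm
  · intro u v
    rw [hC, hC, ← hX' u (y v)]
    -- B (y v) (X u) = B v (adj y (X u)) = B v (y u)
    rw [adj_spec hB y]
    congr 1
    have h6 : adj hB y * X = y := by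
      rw [← hcomm_all X (Algebra.subset_adjoin (Or.inr (Or.inr (Or.inl rfl)))) _ (closed_adj hB hZa y hyZ)]
      exact hy
    exact LinearMap.congr_fun h6 u
  · intro u v
    rw [hC, hC, hyT, hT]

theorem exists_alt_form [Finite F] {B : LinearMap.BilinForm F V} (hB : B.Nondegenerate)
    {T : V →ₗ[F] V} (hT : ∀ x y, B (T x) (T y) = B x y) (hu : IsUnit (T * T - 1)) :
    ∃ C : LinearMap.BilinForm F V, C.Nondegenerate ∧ C.IsAlt ∧ ∀ x y, C (T x) (T y) = C x y := by
  obtain ⟨C, hC, hCs, hCT⟩ := exists_symm_form hB hT hu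
  obtain ⟨U, hU⟩ := isUnit_isometry hB hT
  set T' : V →ₗ[F] V := ((U⁻¹ : (Module.End F V)ˣ) : Module.End F V) with hT'
  have h1 : T * T' = 1 := by rw [← hU]; exact U.mul_inv
  have h2 : T' * T = 1 := by rw [← hU]; exact U.inv_mul
  have h1' : ∀ x, T (T' x) = x := fun x => LinearMap.congr_fun h1 x
  have h2' : ∀ x, T' (T x) = x := fun x => LinearMap.congr_fun h2 x
  have h3 : T - T' = T' * (T * T - 1) := by rw [mul_sub, ← mul_assoc, h2, one_mul, mul_one]
  have hz : IsUnit (T - T') := by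
    rw [h3]
    exact IsUnit.mul ⟨U⁻¹, rfl⟩ hu
  obtain ⟨Z, hZ⟩ := hz
  have hZ1 : (T - T') * ((Z⁻¹ : (Module.End F V)ˣ) : Module.End F V) = 1 := by rw [← hZ]; exact Z.mul_inv
  have hZ2 : ((Z⁻¹ : (Module.End F V)ˣ) : Module.End F V) * (T - T') = 1 := by rw [← hZ]; exact Z.inv_mul
  let D : LinearMap.BilinForm F V := C.compl₂ (T - T')
  have hD : ∀ u v, D u v = C u (T v - T' v) := fun u v => rfl
  refine ⟨D, ⟨?_, ?_⟩, ?_, ?_⟩
  · intro u hu
    apply hC.1
    intro v
    have h4 := hu (((Z⁻¹ : (Module.End F V)ˣ) : Module.End F V) v)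
    have h5 : (T - T') (((Z⁻¹ : (Module.End F V)ˣ) : Module.End F V) v) = v := LinearMap.congr_fun hZ1 v
    have h6 : D u (((Z⁻¹ : (Module.End F V)ˣ) : Module.End F V) v) = C u ((T - T') (((Z⁻¹ : (Module.End F V)ˣ) : Module.End F V) v)) := rfl
    rw [h6, h5] at h4
    exact h4
  · intro v hv
    have h6 : (T - T') v = 0 := hC.2 _ (fun u => hv u)
    have h8 : ((Z⁻¹ : (Module.End F V)ˣ) : Module.End F V) ((T - T') v) = v := LinearMap.congr_fun hZ2 v
    rw [h6, map_zero] at h8
    exact h8.symm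
  · intro u
    rw [hD, map_sub]
    have h4 : C u (T' u) = C u (T u) := by
      rw [← hCT u (T' u), h1', hCs]
    rw [h4, sub_self]
  · intro u v
    rw [hD, hD]
    have h4 : T (T v) - T' (T v) = T (T v - T' v) := by rw [map_sub, h2', h1']
    rw [h4, hCT]

end Iso

end Cfsg.Agent.Lib.BForm
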