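import Mathlib
import Cfsg.Agent.Lib.BForm2
import Cfsg.Agent.Lib.RCF12
import Cfsg.Agent.Lib.RCF3

/-! Decompositions and semisimple isometries. -/

set_option linter.all false
set_option maxHeartbeats 400000

namespace Cfsg.Agent.Lib.BForm

open Cfsg.Agent.Lib.HilbN Module

section Glue

variable {F V W : Type*} [Field F] [AddCommGroup V] [Module F V] [FiniteDimensional F V]
  [AddCommGroup W] [Module F W] [FiniteDimensional F W]

theorem isCompl_ker_range {P : V →ₗ[F] V} (h : ∀ x, P (P x) = 0 → P x = 0) :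
    IsCompl (LinearMap.ker P) (LinearMap.range P) := by
  rw [Submodule.isCompl_iff_disjoint]
  · rw [Submodule.disjoint_def]
    rintro x hx ⟨y, rfl⟩
    exact h y hx
  · have := LinearMap.finrank_range_add_finrank_ker P
    omega

theorem glue {T : V →ₗ[F] V} {B C : LinearMap.BilinForm F V} {U U' : Submodule F V} (hc : IsCompl U U')
    (hB : ∀ x ∈ U, ∀ y ∈ U', B x y = 0 ∧ B y x = 0) (hC : ∀ x ∈ U, ∀ y ∈ U', C x y = 0 ∧ C y x = 0)
    (TU : U →ₗ[F] U) (hTU : ∀ x : U, (TU x : V) = T x) (TU' : U' →ₗ[F] U') (hTU' : ∀ x : U', (TU' x : V) = T x)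
    (h1 : ∃ k : U ≃ₗ[F] U, (∀ v, k (TU v) = TU (k v)) ∧ ∀ x y, C (k x) (k y) = B x y)
    (h2 : ∃ k : U' ≃ₗ[F] U', (∀ v, k (TU' v) = TU' (k v)) ∧ ∀ x y, C (k x) (k y) = B x y) :
    ∃ k : V ≃ₗ[F] V, (∀ v, k (T v) = T (k v)) ∧ ∀ x y, C (k x) (k y) = B x y := by
  obtain ⟨k1, h1a, h1b⟩ := h1
  obtain ⟨k2, h2a, h2b⟩ := h2
  let e := Submodule.prodEquivOfIsCompl U U' hc
  have he : ∀ x : U × U', e x = x.1 + x.2 := fun x => rfl
  let k : V ≃ₗ[F] V := (e.symm.trans (k1.prodCongr k2)).trans e
  have hk : ∀ (x : U) (y : U'), k ((x : V) + (y : V)) = (k1 x : V) + (k2 y : V) := by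
    intro x y
    have h3 : (x : V) + (y : V) = e (x, y) := rfl
    rw [h3]
    show e ((k1.prodCongr k2) (e.symm (e (x, y)))) = _
    rw [e.symm_apply_apply]
    rfl
  have hdec : ∀ v : V, ∃ (x : U) (y : U'), v = x + y := by
    intro v
    exact ⟨(e.symm v).1, (e.symm v).2, (e.apply_symm_apply v).symm⟩
  refine ⟨k, ?_, ?_⟩
  · intro v
    obtain ⟨x, y, rfl⟩ := hdec v
    rw [map_add, ← hTU, ← hTU', hk, hk, h1a, h2a, map_add, hTU, hTU']
  · intro v w
    obtain ⟨x, y, rfl⟩ := hdec v
    obtain ⟨x', y', rfl⟩ := hdec w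
    rw [hk, hk]
    simp only [map_add, LinearMap.add_apply]
    rw [h1b, h2b, (hC _ (k1 x).2 _ (k2 y').2).1, (hC _ (k1 x').2 _ (k2 y).2).2,
      (hB _ x.2 _ y'.2).1, (hB _ x'.2 _ y.2).2]

theorem nondeg_restrict {B : LinearMap.BilinForm F V} (hB : B.Nondegenerate) {U U' : Submodule F V} (hc : IsCompl U U')
    (hU : ∀ x ∈ U, ∀ y ∈ U', B x y = 0 ∧ B y x = 0) : (B.restrict U).Nondegenerate := by
  have hdec : ∀ v : V, ∃ (x : U) (y : U'), v = x + y := by
    intro v
    exact ⟨((Submodule.prodEquivOfIsCompl U U' hc).symm v).1, ((Submodule.prodEquivOfIsCompl U U' hc).symm v).2,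
      ((Submodule.prodEquivOfIsCompl U U' hc).apply_symm_apply v).symm⟩
  constructor
  · intro x hx
    apply Subtype.ext
    apply hB.1
    intro v
    obtain ⟨a, b, rfl⟩ := hdec v
    rw [map_add, (hU _ x.2 _ b.2).1, add_zero]
    exact hx a
  · intro x hx
    apply Subtype.ext
    apply hB.2
    intro v
    obtain ⟨a, b, rfl⟩ := hdec v
    rw [map_add, LinearMap.add_apply, (hU _ x.2 _ b.2).2, add_zero]
    exact hx a

/-- alternating spaces of the same dimension are isometric -/
theorem alt_iso {B : LinearMap.BilinForm F V} {C : LinearMap.BilinForm F W} (hB : B.Nondegenerate) (hC : C.Nondegenerate)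
    (hBa : B.IsAlt) (hCa : C.IsAlt) (hd : finrank F V = finrank F W) :
    ∃ k : V ≃ₗ[F] W, ∀ x y, C (k x) (k y) = B x y := by
  obtain ⟨m, b, h1, h2, h3⟩ := Alt.exists_basis_of_nondegenerate B hBa hB
  obtain ⟨m', b', h1', h2', h3'⟩ := Alt.exists_basis_of_nondegenerate C hCa hC
  have hm : m = m' := by
    have e1 := finrank_eq_card_basis b
    have e2 := finrank_eq_card_basis b'
    rw [Fintype.card_sum, Fintype.card_fin] at e1 e2
    omega
  subst hm
  refine ⟨b.equiv b' (Equiv.refl _), ?_⟩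
  have h4 : C.comp (b.equiv b' (Equiv.refl _)).toLinearMap (b.equiv b' (Equiv.refl _)).toLinearMap = B := by
    apply LinearMap.BilinForm.ext_basis b
    intro i j
    rw [LinearMap.BilinForm.comp_apply]
    show C ((b.equiv b' (Equiv.refl _)) (b i)) ((b.equiv b' (Equiv.refl _)) (b j)) = _
    rw [Basis.equiv_apply, Basis.equiv_apply, Equiv.refl_apply, Equiv.refl_apply]
    rcases i with i | i <;> rcases j with j | j
    · rw [h2, h2']
    · rw [h1, h1']
    · rw [Alt.alt_swap hCa, Alt.alt_swap hBa, h1, h1']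
    · rw [h3, h3']
  intro x y
  rw [← h4]
  rfl

/-- semisimplicity -/
theorem semisimple_ker [Finite F] {p : ℕ} [Fact p.Prime] [CharP F p] {T : V →ₗ[F] V} {N : ℕ} (hN : N.Coprime p)
    (hT : T ^ N = 1) (f : Polynomial F) {x : V}
    (h : Polynomial.aeval T f (Polynomial.aeval T f x) = 0) : Polynomial.aeval T f x = 0 := by
  classical
  set g : Polynomial F := Polynomial.X ^ N - 1 with hg
  have hgs : Squarefree g := RCF.squarefree_X_pow (p := p) hN
  have hgT : Polynomial.aeval T g = 0 := by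
    rw [hg, map_sub, map_pow, Polynomial.aeval_X, map_one, hT, sub_self]
  have hd : EuclideanDomain.gcd g (f ^ 2) ∣ f := by
    have h1 : Squarefree (EuclideanDomain.gcd g (f ^ 2)) := hgs.squarefree_of_dvd (EuclideanDomain.gcd_dvd_left _ _)
    exact (h1.dvd_pow_iff_dvd two_ne_zero).mp (EuclideanDomain.gcd_dvd_right _ _)
  have hk : Polynomial.aeval T (EuclideanDomain.gcd g (f ^ 2)) x = 0 := by
    rw [EuclideanDomain.gcd_eq_gcd_ab, map_add, map_mul, map_mul, hgT, zero_mul, zero_add, map_pow]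
    have h2 : (Polynomial.aeval T f ^ 2 * Polynomial.aeval T (EuclideanDomain.gcdB g (f ^ 2))) =
        Polynomial.aeval T (EuclideanDomain.gcdB g (f ^ 2)) * Polynomial.aeval T f ^ 2 := by
      rw [← map_pow, ← map_mul, mul_comm, map_mul]
    rw [h2, sq (Polynomial.aeval T f)]
    show Polynomial.aeval T (EuclideanDomain.gcdB g (f ^ 2)) (Polynomial.aeval T f (Polynomial.aeval T f x)) = 0
    rw [h, map_zero]
  obtain ⟨c, hc⟩ := hd
  rw [hc, mul_comm, map_mul]
  show Polynomial.aeval T c (Polynomial.aeval T (EuclideanDomain.gcd g (f ^ 2)) x) = 0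
  rw [hk, map_zero]

end Glue

section Symp

variable {F V : Type*} [Field F] [Finite F] {p : ℕ} [Fact p.Prime] [CharP F p] [AddCommGroup V] [Module F V] [FiniteDimensional F V]

theorem orth_ker_range {B : LinearMap.BilinForm F V} {T : V →ₗ[F] V} (hT : ∀ x y, B (T x) (T y) = B x y) (a : F) (ha : a * a = 1) :
    ∀ x ∈ LinearMap.ker (T - algebraMap F (Module.End F V) a), ∀ y ∈ LinearMap.range (T - algebraMap F (Module.End F V) a),
      B x y = 0 ∧ B y x = 0 := by
  rintro x hx _ ⟨z, rfl⟩
  rw [LinearMap.mem_ker, LinearMap.sub_apply, sub_eq_zero, Module.algebraMap_end_apply] at hx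
  have h1 : x = a • T x := by rw [hx, smul_smul, ha, one_smul]
  have hz : (T - algebraMap F (Module.End F V) a) z = T z - a • z := rfl
  rw [hz, map_sub, map_sub, LinearMap.sub_apply, map_smul, map_smul, LinearMap.smul_apply, smul_eq_mul, smul_eq_mul]
  have h2 : B x (T z) = a * B x z := by
    conv_lhs => rw [h1]
    rw [map_smul, LinearMap.smul_apply, smul_eq_mul, hT]
  have h3 : B (T z) x = a * B z x := by
    conv_lhs => rw [h1]
    rw [map_smul, smul_eq_mul, hT]
  rw [h2, h3, sub_self, sub_self]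
  exact ⟨rfl, rfl⟩

/-- equivariant isometries between alternating forms invariant under a semisimple operator -/
theorem symp_eiso_aux {B C : LinearMap.BilinForm F V} (hB : B.Nondegenerate) (hC : C.Nondegenerate) (hBa : B.IsAlt) (hCa : C.IsAlt)
    {T : V →ₗ[F] V} (hTB : ∀ x y, B (T x) (T y) = B x y) (hTC : ∀ x y, C (T x) (T y) = C x y) {N : ℕ} (hN : N.Coprime p)
    (hT : T ^ N = 1) (h1 : ∀ x, T x = x → x = 0) :
    ∃ k : V ≃ₗ[F] V, (∀ v, k (T v) = T (k v)) ∧ ∀ x y, C (k x) (k y) = B x y := by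
  classical
  -- no eigenvalue `1`; split off the eigenvalue `-1`
  set P : V →ₗ[F] V := T - algebraMap F (Module.End F V) (-1) with hP
  have hPa : ∀ x, P x = T x + x := by
    intro x
    rw [hP, LinearMap.sub_apply, Module.algebraMap_end_apply, neg_smul, one_smul, sub_neg_eq_add]
  have hPpol : P = Polynomial.aeval T (Polynomial.X - Polynomial.C (-1 : F)) := by
    rw [map_sub, Polynomial.aeval_X, Polynomial.aeval_C]
  have hPP : ∀ x, P (P x) = 0 → P x = 0 := by
    intro x hx
    rw [hPpol] at hx ⊢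
    exact semisimple_ker (p := p) hN hT _ hx
  have hc := isCompl_ker_range hPP
  have hoB := orth_ker_range hTB (-1) (by ring)
  have hoC := orth_ker_range hTC (-1) (by ring)
  have hinvk : ∀ x ∈ LinearMap.ker P, T x ∈ LinearMap.ker P := by
    intro x hx
    rw [LinearMap.mem_ker, hPa] at hx ⊢
    rw [← map_add, hx, map_zero]
  have hinvr : ∀ x ∈ LinearMap.range P, T x ∈ LinearMap.range P := by
    rintro _ ⟨x, rfl⟩
    refine ⟨T x, ?_⟩
    rw [hPa, hPa, map_add]
  have hBr : ∀ U : Submodule F V, (B.restrict U).IsAlt := fun U x => hBa x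
  have hCr : ∀ U : Submodule F V, (C.restrict U).IsAlt := fun U x => hCa x
  apply glue hc hoB hoC (T.restrict hinvk) (fun x => rfl) (T.restrict hinvr) (fun x => rfl)
  · obtain ⟨k, hk⟩ := alt_iso (nondeg_restrict hB hc hoB) (nondeg_restrict hC hc hoC) (hBr _) (hCr _) rfl
    refine ⟨k, ?_, hk⟩
    have hneg : ∀ v : LinearMap.ker P, (T.restrict hinvk) v = -v := by
      intro v
      apply Subtype.ext
      have h2 := v.2
      rw [LinearMap.mem_ker, hPa] at h2
      show T (v : V) = -(v : V)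
      rw [eq_neg_iff_add_eq_zero]
      exact h2
    intro v
    rw [hneg, hneg, map_neg]
  · have hunit : IsUnit ((T.restrict hinvr) * (T.restrict hinvr) - 1) := by
      apply isUnit_of_inj
      intro x hx
      have hx' : T (T (x : V)) - (x : V) = 0 := congrArg Subtype.val hx
      -- T x + x is fixed
      have h2 : T (P (x : V)) = P (x : V) := by
        rw [hPa, map_add, sub_eq_zero.mp hx', add_comm]
      have h3 := h1 _ h2
      have h4 : (x : V) ∈ LinearMap.ker P := h3
      apply Subtype.ext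
      have h5 := hc.disjoint
      rw [Submodule.disjoint_def] at h5
      exact h5 _ h4 x.2
    obtain ⟨k, hk1, hk2⟩ := iso_of_conj (B := B.restrict (LinearMap.range P)) (C := C.restrict (LinearMap.range P))
      (nondeg_restrict hB hc.symm (fun x hx y hy => ((hoB y hy x hx).symm)))
      (nondeg_restrict hC hc.symm (fun x hx y hy => ((hoC y hy x hx).symm))) (-1)
      (fun x y => by rw [neg_one_mul]; exact Alt.alt_swap hBa _ _) (fun x y => by rw [neg_one_mul]; exact Alt.alt_swap hCa _ _)
      (T := T.restrict hinvr) (S := T.restrict hinvr) (fun x y => hTB _ _) (fun x y => hTC _ _) hunit (LinearEquiv.refl F _) (fun v => rfl)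
    exact ⟨k, hk1, hk2⟩

theorem symp_eiso {B C : LinearMap.BilinForm F V} (hB : B.Nondegenerate) (hC : C.Nondegenerate) (hBa : B.IsAlt) (hCa : C.IsAlt)
    {T : V →ₗ[F] V} (hTB : ∀ x y, B (T x) (T y) = B x y) (hTC : ∀ x y, C (T x) (T y) = C x y) {N : ℕ} (hN : N.Coprime p)
    (hT : T ^ N = 1) :
    ∃ k : V ≃ₗ[F] V, (∀ v, k (T v) = T (k v)) ∧ ∀ x y, C (k x) (k y) = B x y := by
  classical
  set P : V →ₗ[F] V := T - algebraMap F (Module.End F V) 1 with hP
  have hPa : ∀ x, P x = T x - x := by
    intro x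
    rw [hP, LinearMap.sub_apply, Module.algebraMap_end_apply, one_smul]
  have hPpol : P = Polynomial.aeval T (Polynomial.X - Polynomial.C (1 : F)) := by
    rw [map_sub, Polynomial.aeval_X, Polynomial.aeval_C]
  have hPP : ∀ x, P (P x) = 0 → P x = 0 := by
    intro x hx
    rw [hPpol] at hx ⊢
    exact semisimple_ker (p := p) hN hT _ hx
  have hc := isCompl_ker_range hPP
  have hoB := orth_ker_range hTB 1 (by ring)
  have hoC := orth_ker_range hTC 1 (by ring)
  have hinvk : ∀ x ∈ LinearMap.ker P, T x ∈ LinearMap.ker P := by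
    intro x hx
    rw [LinearMap.mem_ker, hPa] at hx ⊢
    rw [← map_sub, hx, map_zero]
  have hinvr : ∀ x ∈ LinearMap.range P, T x ∈ LinearMap.range P := by
    rintro _ ⟨x, rfl⟩
    refine ⟨T x, ?_⟩
    rw [hPa, hPa, map_sub]
  have hBr : ∀ U : Submodule F V, (B.restrict U).IsAlt := fun U x => hBa x
  have hCr : ∀ U : Submodule F V, (C.restrict U).IsAlt := fun U x => hCa x
  apply glue hc hoB hoC (T.restrict hinvk) (fun x => rfl) (T.restrict hinvr) (fun x => rfl)
  · obtain ⟨k, hk⟩ := alt_iso (nondeg_restrict hB hc hoB) (nondeg_restrict hC hc hoC) (hBr _) (hCr _) rfl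
    refine ⟨k, ?_, hk⟩
    have hneg : ∀ v : LinearMap.ker P, (T.restrict hinvk) v = v := by
      intro v
      apply Subtype.ext
      have h2 := v.2
      rw [LinearMap.mem_ker, hPa] at h2
      show T (v : V) = (v : V)
      rw [← sub_eq_zero]
      exact h2
    intro v
    rw [hneg, hneg]
  · have hTpow : (T.restrict hinvr) ^ N = 1 := by
      apply LinearMap.ext
      intro x
      apply Subtype.ext
      have h3 : ∀ k : ℕ, ((((T.restrict hinvr) ^ k) x : LinearMap.range P) : V) = (T ^ k) (x : V) := by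
        intro k
        induction k with
        | zero => rfl
        | succ k ih =>
          rw [pow_succ', pow_succ']
          show T (((T.restrict hinvr) ^ k) x : V) = T ((T ^ k) (x : V))
          rw [ih]
      rw [h3, hT]
      rfl
    obtain ⟨k, hk1, hk2⟩ := symp_eiso_aux (p := p) (B := B.restrict (LinearMap.range P)) (C := C.restrict (LinearMap.range P))
      (nondeg_restrict hB hc.symm (fun x hx y hy => ((hoB y hy x hx).symm)))
      (nondeg_restrict hC hc.symm (fun x hx y hy => ((hoC y hy x hx).symm))) (hBr _) (hCr _)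
      (T := T.restrict hinvr) (fun x y => hTB _ _) (fun x y => hTC _ _) hN hTpow (by
        intro x hx
        have hx' : T (x : V) = (x : V) := congrArg Subtype.val hx
        have h4 : (x : V) ∈ LinearMap.ker P := by rw [LinearMap.mem_ker, hPa, hx', sub_self]
        apply Subtype.ext
        have h5 := hc.disjoint
        rw [Submodule.disjoint_def] at h5
        exact h5 _ h4 x.2)
    exact ⟨k, hk1, hk2⟩

end Symp

end Cfsg.Agent.Lib.BForm
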