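import Mathlib

/-!
Finite `G`-sets and their marks: matching of orbits, a congruence, and the stabilization of marks along an
equivalence relation on subgroups (as needed for characteristic bisets).
-/

set_option autoImplicit false
set_option linter.unusedSectionVars false
set_option linter.style.haveILetI false
set_option linter.unusedVariables false

namespace Cfsg.Agent.Lib.BisA

universe u v w

/-- fixed points of a subgroup -/
def Fix {G : Type u} [Group G] (X : Type v) [MulAction G X] (R : Subgroup G) : Set X := {x | ∀ g ∈ R, g • x = x}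

/-- invariant subset -/
def Inv (G : Type u) [Group G] {X : Type v} [MulAction G X] (A : Set X) : Prop := ∀ g : G, ∀ x ∈ A, g • x ∈ A

section Basic

variable {G : Type u} [Group G] {X : Type v} [MulAction G X] {Y : Type w} [MulAction G Y]

theorem mem_Fix {R : Subgroup G} {x : X} : x ∈ Fix X R ↔ R ≤ MulAction.stabilizer G x :=
  ⟨fun h g hg => h g hg, fun h g hg => h hg⟩

theorem mem_Fix_stab (x : X) : x ∈ Fix X (MulAction.stabilizer G x) := mem_Fix.2 le_rfl

theorem inv_orbit (x : X) : Inv G (MulAction.orbit G x) := by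
  rintro g _ ⟨h, rfl⟩
  exact ⟨g * h, mul_smul _ _ _⟩

theorem Inv.diff {A B : Set X} (hA : Inv G A) (hB : Inv G B) : Inv G (A \ B) := by
  rintro g x ⟨h1, h2⟩
  refine ⟨hA g x h1, fun h3 => h2 ?_⟩
  have := hB g⁻¹ _ h3
  rwa [inv_smul_smul] at this

theorem Inv.union {A B : Set X} (hA : Inv G A) (hB : Inv G B) : Inv G (A ∪ B) := by
  rintro g x (h | h)
  · exact Or.inl (hA g x h)
  · exact Or.inr (hB g x h)

theorem orbit_subset {A : Set X} (hA : Inv G A) {x : X} (hx : x ∈ A) : MulAction.orbit G x ⊆ A := by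
  rintro _ ⟨g, rfl⟩
  exact hA g x hx

/-- the map between two orbits with the same stabilizer -/
theorem exists_orbit_map [Nonempty Y] (x : X) (y : Y) (h : MulAction.stabilizer G x = MulAction.stabilizer G y) :
    ∃ τ : X → Y, ∀ g : G, τ (g • x) = g • y := by
  classical
  refine ⟨fun z => if hz : ∃ g : G, g • x = z then (Classical.choose hz) • y else Classical.arbitrary Y, fun g => ?_⟩
  have hz : ∃ g' : G, g' • x = g • x := ⟨g, rfl⟩
  dsimp only
  rw [dif_pos hz]
  have h1 := Classical.choose_spec hz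
  have h2 : g⁻¹ * Classical.choose hz ∈ MulAction.stabilizer G x := by
    rw [MulAction.mem_stabilizer_iff, mul_smul, h1, inv_smul_smul]
  rw [h, MulAction.mem_stabilizer_iff, mul_smul, inv_smul_eq_iff] at h2
  exact h2

theorem matching [Finite G] [Finite X] [Finite Y] [Nonempty Y] (U : Set (Subgroup G))
    (hU : ∀ R R' : Subgroup G, R ∈ U → R ≤ R' → R' ∈ U) :
    ∀ (n : ℕ) (A : Set X) (B : Set Y), A.ncard = n → Inv G A → Inv G B →
      (∀ R ∈ U, (A ∩ Fix X R).ncard = (B ∩ Fix Y R).ncard) →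
      ∃ A₁ ⊆ A, ∃ B₁ ⊆ B, Inv G A₁ ∧ Inv G B₁ ∧ ∃ σ : X → Y, Set.BijOn σ A₁ B₁ ∧
        (∀ (g : G), ∀ x ∈ A₁, σ (g • x) = g • σ x) ∧ (∀ x ∈ A \ A₁, MulAction.stabilizer G x ∉ U) ∧
        (∀ y ∈ B \ B₁, MulAction.stabilizer G y ∉ U) := by
  classical
  intro n
  induction n using Nat.strong_induction_on with
  | _ n ih =>
  intro A B hn hA hB hAB
  by_cases hex : ∃ x ∈ A, MulAction.stabilizer G x ∈ U
  · obtain ⟨x₀, hx₀, hx₀U⟩ := hex
    obtain ⟨x, ⟨hxA, hxU⟩, hmax⟩ := Set.exists_max_image {x | x ∈ A ∧ MulAction.stabilizer G x ∈ U}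
      (fun x => Nat.card (MulAction.stabilizer G x)) (Set.toFinite _) ⟨x₀, hx₀, hx₀U⟩
    have h1 : (A ∩ Fix X (MulAction.stabilizer G x)).Nonempty := ⟨x, hxA, mem_Fix_stab x⟩
    have h2 : (B ∩ Fix Y (MulAction.stabilizer G x)).Nonempty := by
      rw [← Set.ncard_pos, ← hAB _ hxU, Set.ncard_pos]; exact h1
    obtain ⟨y, hyB, hy⟩ := h2
    rw [mem_Fix] at hy
    have hyU := hU _ _ hxU hy
    have h3 : (A ∩ Fix X (MulAction.stabilizer G y)).Nonempty := by
      rw [← Set.ncard_pos, hAB _ hyU, Set.ncard_pos]; exact ⟨y, hyB, mem_Fix_stab y⟩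
    obtain ⟨x', hx'A, hx'⟩ := h3
    rw [mem_Fix] at hx'
    have h4 := hmax x' ⟨hx'A, hU _ _ hyU hx'⟩
    have hstab : MulAction.stabilizer G x = MulAction.stabilizer G y :=
      Subgroup.eq_of_le_of_card_ge hy ((Subgroup.card_le_of_le hx').trans h4)
    obtain ⟨τ, hτ⟩ := exists_orbit_map x y hstab
    haveI : Nonempty X := ⟨x⟩
    obtain ⟨τ', hτ'⟩ := exists_orbit_map y x hstab.symm
    have hbij : Set.BijOn τ (MulAction.orbit G x) (MulAction.orbit G y) := by
      refine ⟨?_, ?_, ?_⟩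
      · rintro _ ⟨g, rfl⟩; exact ⟨g, (hτ g).symm⟩
      · rintro _ ⟨g, rfl⟩ _ ⟨h, rfl⟩ e
        have e' : g • y = h • y := by rw [← hτ, ← hτ]; exact e
        show g • x = h • x
        rw [← hτ', ← hτ', e']
      · rintro _ ⟨g, rfl⟩; exact ⟨g • x, ⟨g, rfl⟩, hτ g⟩
    have hfixorb : ∀ R : Subgroup G, (MulAction.orbit G x ∩ Fix X R).ncard = (MulAction.orbit G y ∩ Fix Y R).ncard := by
      intro R
      have hb : Set.BijOn τ (MulAction.orbit G x ∩ Fix X R) (MulAction.orbit G y ∩ Fix Y R) := by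
        refine ⟨?_, hbij.injOn.mono Set.inter_subset_left, ?_⟩
        · rintro _ ⟨⟨g, rfl⟩, h5⟩
          refine ⟨hbij.mapsTo ⟨g, rfl⟩, fun r hr => ?_⟩
          show r • τ (g • x) = τ (g • x)
          have h6 : (r * g) • x = g • x := by rw [mul_smul]; exact h5 r hr
          rw [hτ, ← mul_smul, ← hτ, h6, hτ]
        · rintro _ ⟨⟨g, rfl⟩, h5⟩
          refine ⟨g • x, ⟨⟨g, rfl⟩, fun r hr => ?_⟩, hτ g⟩
          have h6 : (r * g) • y = g • y := by rw [mul_smul]; exact h5 r hr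
          rw [← mul_smul, ← hτ', h6, hτ']
      rw [← hb.image_eq, hb.injOn.ncard_image]
    have hAx := orbit_subset hA hxA
    have hBy := orbit_subset hB hyB
    have hsplit : ∀ {Z : Type v} [MulAction G Z] [Finite Z] (C O : Set Z) (R : Subgroup G), O ⊆ C →
        (C ∩ Fix Z R).ncard = (O ∩ Fix Z R).ncard + ((C \ O) ∩ Fix Z R).ncard := by
      intro Z _ _ C O R hO
      rw [← Set.ncard_union_eq]
      · congr 1
        ext z
        simp only [Set.mem_inter_iff, Set.mem_union, Set.mem_sdiff]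
        constructor
        · rintro ⟨a, b⟩
          by_cases hz : z ∈ O
          · exact Or.inl ⟨hz, b⟩
          · exact Or.inr ⟨⟨a, hz⟩, b⟩
        · rintro (⟨a, b⟩ | ⟨⟨a, c⟩, b⟩)
          · exact ⟨hO a, b⟩
          · exact ⟨a, b⟩
      · rw [Set.disjoint_left]
        rintro z ⟨a, _⟩ ⟨⟨_, b⟩, _⟩
        exact b a
    have hsplit' : ∀ {Z : Type w} [MulAction G Z] [Finite Z] (C O : Set Z) (R : Subgroup G), O ⊆ C →
        (C ∩ Fix Z R).ncard = (O ∩ Fix Z R).ncard + ((C \ O) ∩ Fix Z R).ncard := by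
      intro Z _ _ C O R hO
      rw [← Set.ncard_union_eq]
      · congr 1
        ext z
        simp only [Set.mem_inter_iff, Set.mem_union, Set.mem_sdiff]
        constructor
        · rintro ⟨a, b⟩
          by_cases hz : z ∈ O
          · exact Or.inl ⟨hz, b⟩
          · exact Or.inr ⟨⟨a, hz⟩, b⟩
        · rintro (⟨a, b⟩ | ⟨⟨a, c⟩, b⟩)
          · exact ⟨hO a, b⟩
          · exact ⟨a, b⟩
      · rw [Set.disjoint_left]
        rintro z ⟨a, _⟩ ⟨⟨_, b⟩, _⟩
        exact b a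
    have hlt : (A \ MulAction.orbit G x).ncard < n := by
      rw [← hn]
      refine Set.ncard_lt_ncard ⟨Set.sdiff_subset, fun h5 => ?_⟩ (Set.toFinite _)
      exact (h5 hxA).2 (MulAction.mem_orbit_self x)
    obtain ⟨A₁, hA₁, B₁, hB₁, iA, iB, σ, hσ, hσe, hA2, hB2⟩ := ih _ hlt (A \ MulAction.orbit G x) (B \ MulAction.orbit G y) rfl
      (hA.diff (inv_orbit x)) (hB.diff (inv_orbit y)) (by
        intro R hR
        have h5 := hAB R hR
        rw [hsplit A _ R hAx, hsplit' B _ R hBy, hfixorb R] at h5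
        omega)
    refine ⟨MulAction.orbit G x ∪ A₁, Set.union_subset hAx (hA₁.trans Set.sdiff_subset), MulAction.orbit G y ∪ B₁,
      Set.union_subset hBy (hB₁.trans Set.sdiff_subset), (inv_orbit x).union iA, (inv_orbit y).union iB,
      fun z => if z ∈ MulAction.orbit G x then τ z else σ z, ⟨?_, ?_, ?_⟩, ?_, ?_, ?_⟩
    · rintro z (hz | hz)
      · dsimp only; rw [if_pos hz]; exact Or.inl (hbij.mapsTo hz)
      · dsimp only; rw [if_neg (hA₁ hz).2]; exact Or.inr (hσ.mapsTo hz)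
    · rintro z (hz | hz) z' (hz' | hz') e <;> dsimp only at e
      · rw [if_pos hz, if_pos hz'] at e; exact hbij.injOn hz hz' e
      · rw [if_pos hz, if_neg (hA₁ hz').2] at e
        exact absurd (e ▸ hbij.mapsTo hz : σ z' ∈ MulAction.orbit G y) (hB₁ (hσ.mapsTo hz')).2
      · rw [if_neg (hA₁ hz).2, if_pos hz'] at e
        exact absurd (e ▸ hbij.mapsTo hz' : σ z ∈ MulAction.orbit G y) (hB₁ (hσ.mapsTo hz)).2
      · rw [if_neg (hA₁ hz).2, if_neg (hA₁ hz').2] at e; exact hσ.injOn hz hz' e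
    · rintro z (hz | hz)
      · obtain ⟨z', h5, h6⟩ := hbij.surjOn hz
        exact ⟨z', Or.inl h5, by dsimp only; rw [if_pos h5, h6]⟩
      · obtain ⟨z', h5, h6⟩ := hσ.surjOn hz
        exact ⟨z', Or.inr h5, by dsimp only; rw [if_neg (hA₁ h5).2, h6]⟩
    · rintro g z (hz | hz)
      · have h5 := inv_orbit x g z hz
        dsimp only
        rw [if_pos hz, if_pos h5]
        obtain ⟨k, rfl⟩ := hz
        show τ (g • k • x) = g • τ (k • x)
        rw [← mul_smul, hτ, hτ, mul_smul]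
      · dsimp only
        rw [if_neg (hA₁ hz).2, if_neg (hA₁ (iA g z hz)).2, hσe g z hz]
    · rintro z ⟨h5, h6⟩
      exact hA2 z ⟨⟨h5, fun h7 => h6 (Or.inl h7)⟩, fun h7 => h6 (Or.inr h7)⟩
    · rintro z ⟨h5, h6⟩
      exact hB2 z ⟨⟨h5, fun h7 => h6 (Or.inl h7)⟩, fun h7 => h6 (Or.inr h7)⟩
  · push Not at hex
    refine ⟨∅, Set.empty_subset _, ∅, Set.empty_subset _, fun _ _ h => h.elim, fun _ _ h => h.elim,
      fun _ => Classical.arbitrary Y, Set.bijOn_empty _, fun _ _ h => h.elim, fun x hx => hex x hx.1, fun y hy hyU => ?_⟩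
    have h3 : (A ∩ Fix X (MulAction.stabilizer G y)).Nonempty := by
      rw [← Set.ncard_pos, hAB _ hyU, Set.ncard_pos]; exact ⟨y, hy.1, mem_Fix_stab y⟩
    obtain ⟨x', hx'A, hx'⟩ := h3
    rw [mem_Fix] at hx'
    exact hex x' hx'A (hU _ _ hyU hx')

theorem dvd_ncard [Finite G] [Finite X] (H : Subgroup G) : ∀ (n : ℕ) (C : Set X), C.ncard = n → Inv G C →
    (∀ x ∈ C, MulAction.stabilizer G x = H) → H.index ∣ C.ncard := by
  intro n
  induction n using Nat.strong_induction_on with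
  | _ n ih =>
  intro C hn hC hst
  by_cases hex : ∃ x, x ∈ C
  · obtain ⟨x, hx⟩ := hex
    have hO := orbit_subset hC hx
    have hlt : (C \ MulAction.orbit G x).ncard < n := by
      rw [← hn]
      refine Set.ncard_lt_ncard ⟨Set.sdiff_subset, fun h5 => ?_⟩ (Set.toFinite _)
      exact (h5 hx).2 (MulAction.mem_orbit_self x)
    have h1 := ih _ hlt (C \ MulAction.orbit G x) rfl (hC.diff (inv_orbit x)) fun z hz => hst z hz.1
    have h2 : (C \ MulAction.orbit G x).ncard + (MulAction.orbit G x).ncard = C.ncard :=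
      Set.ncard_sdiff_add_ncard_of_subset hO (Set.toFinite _)
    rw [← h2]
    refine dvd_add h1 ?_
    rw [← MulAction.index_stabilizer, hst x hx]
  · have : C = ∅ := by
      ext z; exact ⟨fun h => hex ⟨z, h⟩, fun h => h.elim⟩
    rw [this, Set.ncard_empty]; exact dvd_zero _

/-- the congruence -/
theorem congruence [Finite G] [Finite X] [Finite Y] [Nonempty Y] (H : Subgroup G) [hH : H.Normal]
    (h : ∀ R : Subgroup G, H < R → (Fix X R).ncard = (Fix Y R).ncard) :
    (Fix X H).ncard ≡ (Fix Y H).ncard [MOD H.index] := by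
  obtain ⟨A₁, hA₁, B₁, hB₁, iA, iB, σ, hσ, hσe, hA2, hB2⟩ := matching (X := X) (Y := Y) {R : Subgroup G | H < R}
    (fun R R' h1 h2 => lt_of_lt_of_le h1 h2) _ Set.univ Set.univ rfl (fun _ _ _ => trivial) (fun _ _ _ => trivial) (by
      intro R hR
      rw [Set.univ_inter, Set.univ_inter]; exact h R hR)
  have key : ∀ {Z : Type v} [MulAction G Z] [Finite Z] (C : Set Z), Inv G C →
      (∀ z ∈ Set.univ \ C, MulAction.stabilizer G z ∉ {R : Subgroup G | H < R}) →
      ∃ m, (Fix Z H).ncard = (C ∩ Fix Z H).ncard + H.index * m := by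
    intro Z _ _ C iC hC
    have h1 : (Fix Z H).ncard = (C ∩ Fix Z H).ncard + (Cᶜ ∩ Fix Z H).ncard := by
      rw [← Set.ncard_union_eq]
      · congr 1
        ext z
        simp only [Set.mem_inter_iff, Set.mem_union, Set.mem_compl_iff]
        tauto
      · rw [Set.disjoint_left]
        rintro z ⟨a, _⟩ ⟨b, _⟩
        exact b a
    obtain ⟨m, hm⟩ := dvd_ncard (X := Z) H _ (Cᶜ ∩ Fix Z H) rfl (by
      rintro g z ⟨hz1, hz2⟩
      refine ⟨fun h3 => hz1 ?_, fun k hk => ?_⟩
      · have := iC g⁻¹ _ h3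
        rwa [inv_smul_smul] at this
      · have h4 : g⁻¹ * k * g ∈ H := by
          have := hH.conj_mem k hk g⁻¹
          rwa [inv_inv] at this
        have h5 := hz2 _ h4
        rw [mul_smul, mul_smul, inv_smul_eq_iff] at h5
        exact h5) (by
      rintro z ⟨hz1, hz2⟩
      by_contra hne
      exact hC z ⟨trivial, hz1⟩ (lt_of_le_of_ne (mem_Fix.1 hz2) (Ne.symm hne)))
    exact ⟨m, by rw [h1, hm]⟩
  have key' : ∀ {Z : Type w} [MulAction G Z] [Finite Z] (C : Set Z), Inv G C →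
      (∀ z ∈ Set.univ \ C, MulAction.stabilizer G z ∉ {R : Subgroup G | H < R}) →
      ∃ m, (Fix Z H).ncard = (C ∩ Fix Z H).ncard + H.index * m := by
    intro Z _ _ C iC hC
    have h1 : (Fix Z H).ncard = (C ∩ Fix Z H).ncard + (Cᶜ ∩ Fix Z H).ncard := by
      rw [← Set.ncard_union_eq]
      · congr 1
        ext z
        simp only [Set.mem_inter_iff, Set.mem_union, Set.mem_compl_iff]
        tauto
      · rw [Set.disjoint_left]
        rintro z ⟨a, _⟩ ⟨b, _⟩
        exact b a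
    obtain ⟨m, hm⟩ := dvd_ncard (X := Z) H _ (Cᶜ ∩ Fix Z H) rfl (by
      rintro g z ⟨hz1, hz2⟩
      refine ⟨fun h3 => hz1 ?_, fun k hk => ?_⟩
      · have := iC g⁻¹ _ h3
        rwa [inv_smul_smul] at this
      · have h4 : g⁻¹ * k * g ∈ H := by
          have := hH.conj_mem k hk g⁻¹
          rwa [inv_inv] at this
        have h5 := hz2 _ h4
        rw [mul_smul, mul_smul, inv_smul_eq_iff] at h5
        exact h5) (by
      rintro z ⟨hz1, hz2⟩
      by_contra hne
      exact hC z ⟨trivial, hz1⟩ (lt_of_le_of_ne (mem_Fix.1 hz2) (Ne.symm hne)))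
    exact ⟨m, by rw [h1, hm]⟩
  obtain ⟨m, hm⟩ := key A₁ iA hA2
  obtain ⟨m', hm'⟩ := key' B₁ iB hB2
  have hb : Set.BijOn σ (A₁ ∩ Fix X H) (B₁ ∩ Fix Y H) := by
    refine ⟨?_, hσ.injOn.mono Set.inter_subset_left, ?_⟩
    · rintro z ⟨h5, h6⟩
      refine ⟨hσ.mapsTo h5, fun r hr => ?_⟩
      rw [← hσe r z h5, h6 r hr]
    · rintro z ⟨h5, h6⟩
      obtain ⟨z', h7, rfl⟩ := hσ.surjOn h5
      refine ⟨z', ⟨h7, fun r hr => ?_⟩, rfl⟩
      apply hσ.injOn (iA r z' h7) h7
      rw [hσe r z' h7]; exact h6 r hr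
  have h8 : (A₁ ∩ Fix X H).ncard = (B₁ ∩ Fix Y H).ncard := by
    rw [← hb.image_eq, hb.injOn.ncard_image]
  rw [hm, hm', h8]
  exact ((Nat.modEq_zero_iff_dvd.2 (dvd_mul_right _ _)).add_left _).trans
    ((Nat.modEq_zero_iff_dvd.2 (dvd_mul_right _ _)).add_left _).symm

/-- Burnside's theorem: a finite `G`-set is determined by its marks -/
theorem burnside [Finite G] [Finite X] [Finite Y] [Nonempty Y]
    (h : ∀ R : Subgroup G, (Fix X R).ncard = (Fix Y R).ncard) :
    ∃ σ : X → Y, Function.Bijective σ ∧ ∀ (g : G) (x : X), σ (g • x) = g • σ x := by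
  obtain ⟨A₁, hA₁, B₁, hB₁, iA, iB, σ, hσ, hσe, hA2, hB2⟩ := matching (X := X) (Y := Y) (Set.univ : Set (Subgroup G))
    (fun R R' h1 h2 => trivial) _ Set.univ Set.univ rfl (fun _ _ _ => trivial) (fun _ _ _ => trivial) (by
      intro R hR
      rw [Set.univ_inter, Set.univ_inter]; exact h R)
  have h1 : A₁ = Set.univ := by
    ext z; exact ⟨fun _ => trivial, fun _ => by_contra fun hz => hA2 z ⟨trivial, hz⟩ trivial⟩
  have h2 : B₁ = Set.univ := by
    ext z; exact ⟨fun _ => trivial, fun _ => by_contra fun hz => hB2 z ⟨trivial, hz⟩ trivial⟩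
  subst h1 h2
  exact ⟨σ, Set.bijOn_univ.1 hσ, fun g x => hσe g x trivial⟩

end Basic

end Cfsg.Agent.Lib.BisA
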