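import Cfsg.Agent.Lib.BisA

/-!
Stabilization of marks along an equivalence relation on subgroups.
-/

set_option autoImplicit false
set_option linter.unusedSectionVars false
set_option linter.style.haveILetI false
set_option linter.unusedVariables false

namespace Cfsg.Agent.Lib.BisB

open Cfsg.Agent.Lib.BisA
open scoped Classical

universe u v w

variable {G : Type u} [Group G]

/-- the `G`-set with `n H` orbits `G / H` -/
def YY (n : Subgroup G → ℕ) : Type u := Σ H : Subgroup G, Fin (n H) × (G ⧸ H)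

instance (n : Subgroup G → ℕ) : MulAction G (YY n) where
  smul g z := ⟨z.1, z.2.1, g • z.2.2⟩
  one_smul z := by
    show (⟨z.1, z.2.1, (1 : G) • z.2.2⟩ : YY n) = z
    rw [one_smul]
    rfl
  mul_smul g h z := by
    show (⟨z.1, z.2.1, (g * h) • z.2.2⟩ : YY n) = ⟨z.1, z.2.1, g • h • z.2.2⟩
    rw [mul_smul]

theorem smul_def (n : Subgroup G → ℕ) (g : G) (z : YY n) : g • z = ⟨z.1, z.2.1, g • z.2.2⟩ := rfl

instance [Finite G] (n : Subgroup G → ℕ) : Finite (YY n) := by
  unfold YY; infer_instance

/-- marks -/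
noncomputable def mk (n : Subgroup G → ℕ) (R : Subgroup G) : ℕ := (Fix (YY n) R).ncard

noncomputable def fx (R H : Subgroup G) : ℕ := (Fix (G ⧸ H) R).ncard

theorem mk_eq [Finite G] [Fintype (Subgroup G)] (n : Subgroup G → ℕ) (R : Subgroup G) : mk n R = ∑ H, n H * fx R H := by
  have e : Fix (YY n) R ≃ Σ H : Subgroup G, Fin (n H) × Fix (G ⧸ H) R :=
    { toFun := fun z => ⟨z.1.1, z.1.2.1, ⟨z.1.2.2, fun g hg => by
        have h1 := z.2 g hg
        rw [smul_def] at h1
        have h2 : HEq (g • z.1.2.2) z.1.2.2 := by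
          have h3 : (⟨z.1.1, z.1.2.1, g • z.1.2.2⟩ : YY n) = ⟨z.1.1, z.1.2.1, z.1.2.2⟩ := h1
          have h4 := (Sigma.mk.inj_iff.1 h3).2
          have h5 := eq_of_heq h4
          exact heq_of_eq (congrArg Prod.snd h5)
        exact eq_of_heq h2⟩⟩
      invFun := fun z => ⟨⟨z.1, z.2.1, z.2.2.1⟩, fun g hg => by
        show (⟨z.1, z.2.1, g • z.2.2.1⟩ : YY n) = ⟨z.1, z.2.1, z.2.2.1⟩
        rw [z.2.2.2 g hg]⟩
      left_inv := fun z => rfl
      right_inv := fun z => rfl }
  unfold mk fx
  rw [← Nat.card_coe_set_eq, Nat.card_congr e, Nat.card_sigma]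
  refine Finset.sum_congr rfl fun H _ => ?_
  rw [Nat.card_prod, Nat.card_fin, Nat.card_coe_set_eq]

theorem card_YY [Finite G] [Fintype (Subgroup G)] (n : Subgroup G → ℕ) : Nat.card (YY n) = ∑ H : Subgroup G, n H * H.index := by
  have e : YY n ≃ Σ H : Subgroup G, Fin (n H) × (G ⧸ H) := Equiv.refl _
  rw [Nat.card_congr e, Nat.card_sigma]
  refine Finset.sum_congr rfl fun H _ => ?_
  rw [Nat.card_prod, Nat.card_fin]; rfl

/-- conjugate subgroup -/
def cjS (g : G) (H : Subgroup G) : Subgroup G := H.map (MulAut.conj g).toMonoidHom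

theorem mem_cjS {g x : G} {H : Subgroup G} : x ∈ cjS g H ↔ g⁻¹ * x * g ∈ H := by
  constructor
  · rintro ⟨y, hy, rfl⟩
    show g⁻¹ * (g * y * g⁻¹) * g ∈ H
    have : g⁻¹ * (g * y * g⁻¹) * g = y := by group
    rw [this]; exact hy
  · intro h
    exact ⟨_, h, by show g * (g⁻¹ * x * g) * g⁻¹ = x; group⟩

theorem cjS_one (H : Subgroup G) : cjS 1 H = H := by
  ext x; rw [mem_cjS]; simp

theorem cjS_mul (g h : G) (H : Subgroup G) : cjS g (cjS h H) = cjS (g * h) H := by
  ext x
  rw [mem_cjS, mem_cjS, mem_cjS]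
  have : h⁻¹ * (g⁻¹ * x * g) * h = (g * h)⁻¹ * x * (g * h) := by group
  rw [this]

theorem card_cjS (g : G) (H : Subgroup G) : Nat.card (cjS g H) = Nat.card H :=
  Subgroup.card_map_of_injective (MulAut.conj g).injective

theorem mem_Fix_mk {R H : Subgroup G} {g : G} : (QuotientGroup.mk g : G ⧸ H) ∈ Fix (G ⧸ H) R ↔ R ≤ cjS g H := by
  constructor
  · intro h r hr
    rw [mem_cjS]
    have h1 : ((r * g : G) : G ⧸ H) = (g : G ⧸ H) := h r hr
    have h2 := QuotientGroup.eq.1 h1.symm
    rwa [← mul_assoc] at h2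
  · intro h r hr
    have h1 := mem_cjS.1 (h hr)
    show ((r * g : G) : G ⧸ H) = (g : G ⧸ H)
    refine (QuotientGroup.eq.2 ?_).symm
    rwa [← mul_assoc]

theorem fx_ne_zero [Finite G] {R H : Subgroup G} (h : fx R H ≠ 0) : ∃ g, R ≤ cjS g H := by
  unfold fx at h
  obtain ⟨q, hq⟩ := (Set.ncard_pos (Set.toFinite _)).1 (Nat.pos_of_ne_zero h)
  obtain ⟨g, rfl⟩ := QuotientGroup.mk_surjective q
  exact ⟨g, mem_Fix_mk.1 hq⟩

theorem Fix_cjS {X : Type v} [MulAction G X] (g : G) (R : Subgroup G) {x : X} : g • x ∈ Fix X (cjS g R) ↔ x ∈ Fix X R := by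
  constructor
  · intro h r hr
    have h1 := h (g * r * g⁻¹) (mem_cjS.2 (by
      have : g⁻¹ * (g * r * g⁻¹) * g = r := by group
      rw [this]; exact hr))
    rw [mul_smul, mul_smul, inv_smul_smul] at h1
    exact smul_left_cancel g h1
  · intro h r hr
    have h1 := h _ (mem_cjS.1 hr)
    rw [mul_smul, mul_smul, inv_smul_eq_iff] at h1
    exact h1

theorem ncard_Fix_cjS {X : Type v} [MulAction G X] (g : G) (R : Subgroup G) : (Fix X (cjS g R)).ncard = (Fix X R).ncard := by
  have h1 : Fix X (cjS g R) = (fun x => g • x) '' Fix X R := by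
    ext x
    constructor
    · intro hx
      refine ⟨g⁻¹ • x, ?_, smul_inv_smul g x⟩
      rw [← Fix_cjS g R, smul_inv_smul]; exact hx
    · rintro ⟨y, hy, rfl⟩
      exact (Fix_cjS g R).2 hy
  rw [h1]
  exact (Set.injOn_of_injective (MulAction.injective g)).ncard_image

/-- `w H = |N(H) : H|` -/
theorem fx_self [Finite G] (H : Subgroup G) : fx H H * Nat.card H = Nat.card (Subgroup.normalizer (H : Set G)) := by
  unfold fx
  have e := QuotientGroup.preimageMkEquivSubgroupProdSet H (Fix (G ⧸ H) H)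
  have h1 : (QuotientGroup.mk ⁻¹' (Fix (G ⧸ H) H) : Set G) = (Subgroup.normalizer (H : Set G) : Set G) := by
    ext g
    rw [Set.mem_preimage, mem_Fix_mk, SetLike.mem_coe]
    constructor
    · intro h
      have h2 : H = cjS g H := Subgroup.eq_of_le_of_card_ge h (card_cjS g H).le
      rw [Subgroup.mem_normalizer_iff]
      intro x
      constructor
      · intro hx
        rw [h2, mem_cjS]
        have : g⁻¹ * (g * x * g⁻¹) * g = x := by group
        rw [this]; exact hx
      · intro hx
        rw [h2, mem_cjS] at hx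
        have : g⁻¹ * (g * x * g⁻¹) * g = x := by group
        rwa [this] at hx
    · intro h x hx
      rw [mem_cjS]
      have h2 := (Subgroup.mem_normalizer_iff.1 (Subgroup.inv_mem _ h) x).1 hx
      rwa [inv_inv] at h2
  rw [h1] at e
  have h2 := Nat.card_congr e
  rw [Nat.card_prod, Nat.card_coe_set_eq (Fix (G ⧸ H) H)] at h2
  rw [mul_comm]; exact h2.symm

theorem fx_pos [Finite G] (H : Subgroup G) : 0 < fx H H := by
  have h1 := fx_self H
  rcases Nat.eq_zero_or_pos (fx H H) with h | h
  · rw [h, zero_mul] at h1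
    exact absurd h1.symm (Nat.card_pos (α := ↥(Subgroup.normalizer (H : Set G)))).ne'
  · exact h

theorem fx_cj [Finite G] (H : Subgroup G) (g : G) : fx (cjS g H) H = fx H H := ncard_Fix_cjS g H

theorem mk_cj (n : Subgroup G → ℕ) (g : G) (R : Subgroup G) : mk n (cjS g R) = mk n R := ncard_Fix_cjS g R

/-- a good representative -/
def Good (r : Subgroup G → Subgroup G → Prop) (H₀ : Subgroup G) : Prop :=
  ∀ H', r H' H₀ → ∃ φ : ↥(Subgroup.normalizer (H' : Set G)) →* G, Function.Injective φ ∧
    (∀ x, φ x ∈ Subgroup.normalizer (H₀ : Set G)) ∧ (H'.subgroupOf (Subgroup.normalizer (H' : Set G))).map φ = H₀ ∧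
    ∀ R, H' ≤ R → R ≤ Subgroup.normalizer (H' : Set G) → r R ((R.subgroupOf (Subgroup.normalizer (H' : Set G))).map φ)

structure Stab (r : Subgroup G → Subgroup G → Prop) (A : Set (Subgroup G)) : Prop where
  symm : ∀ H H', r H H' → r H' H
  trans : ∀ H H' H'', r H H' → r H' H'' → r H H''
  conj : ∀ H g, r H (cjS g H)
  card : ∀ H H', r H H' → Nat.card H = Nat.card H'
  closed : ∀ H H', H ∈ A → r H H' → H' ∈ A
  sub : ∀ H H', H ∈ A → H' ≤ H → H' ∈ A
  good : ∀ H, H ∈ A → ∃ H₀, r H H₀ ∧ Good r H₀

/-- two actions through homomorphisms -/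
def Tw {H : Type v} [Group H] (φ : H →* G) (X : Type w) : Type w := X

instance {H : Type v} [Group H] (φ : H →* G) (X : Type w) [MulAction G X] : MulAction H (Tw φ X) := MulAction.compHom X φ

instance {H : Type v} [Group H] (φ : H →* G) (X : Type w) [Finite X] : Finite (Tw φ X) := inferInstanceAs (Finite X)

theorem Fix_Tw {H : Type v} [Group H] (φ : H →* G) (X : Type w) [MulAction G X] (R : Subgroup H) :
    (Fix (Tw φ X) R : Set X) = Fix X (R.map φ) := by
  ext x
  constructor
  · rintro h _ ⟨g, hg, rfl⟩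
    exact h g hg
  · intro h g hg
    exact h (φ g) ⟨g, hg, rfl⟩

theorem marks_congr [Finite G] {r : Subgroup G → Subgroup G → Prop} {A : Set (Subgroup G)} (hr : Stab r A)
    (n : Subgroup G → ℕ) (H H₀ : Subgroup G) (hH : r H H₀) (hg : Good r H₀)
    (h : ∀ R R', r R R' → Nat.card H < Nat.card R → mk n R = mk n R') :
    fx H H ∣ fx H₀ H₀ ∧ mk n H ≡ mk n H₀ [MOD fx H H] := by
  have hg' := hg H hH
  set N := Subgroup.normalizer (H : Set G) with hN
  obtain ⟨φ, hφ, hφN, hφH, hφr⟩ := hg'
  have hHN : H ≤ N := Subgroup.le_normalizer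
  have hc := hr.card _ _ hH
  have hHpos : 0 < Nat.card H := Nat.card_pos
  -- divisibility
  have hdvd : fx H H ∣ fx H₀ H₀ := by
    have h1 : Nat.card N ∣ Nat.card (Subgroup.normalizer (H₀ : Set G)) := by
      have h2 : φ.range ≤ Subgroup.normalizer (H₀ : Set G) := by
        rintro _ ⟨x, rfl⟩; exact hφN x
      have h3 : Nat.card φ.range = Nat.card N := (Nat.card_congr (MonoidHom.ofInjective hφ).toEquiv).symm
      rw [← h3]
      exact Subgroup.card_dvd_of_le h2
    rw [hN, ← fx_self H, ← fx_self H₀, ← hc] at h1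
    exact Nat.dvd_of_mul_dvd_mul_right hHpos h1
  refine ⟨hdvd, ?_⟩
  have hn : (H.subgroupOf N).Normal := by rw [hN]; infer_instance
  have hidx : (H.subgroupOf N).index = fx H H := by
    have h1 : Nat.card (H.subgroupOf N) * (H.subgroupOf N).index = Nat.card N := Subgroup.card_mul_index _
    have h2 : Nat.card (H.subgroupOf N) = Nat.card H := Nat.card_congr (Subgroup.subgroupOfEquivOfLe hHN).toEquiv
    rw [h2] at h1
    have h3 := fx_self H
    rw [← hN, ← h1, mul_comm] at h3
    exact (Nat.eq_of_mul_eq_mul_left hHpos h3).symm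
  by_cases hne : Nonempty (YY n)
  · haveI : Nonempty (Tw φ (YY n)) := hne
    have h1 := congruence (G := N) (X := Tw N.subtype (YY n)) (Y := Tw φ (YY n)) (H.subgroupOf N) (by
      intro R hR
      have e1 : (Fix (Tw N.subtype (YY n)) R).ncard = mk n (R.map N.subtype) := congrArg Set.ncard (Fix_Tw N.subtype (YY n) R)
      have e2 : (Fix (Tw φ (YY n)) R).ncard = mk n (R.map φ) := congrArg Set.ncard (Fix_Tw φ (YY n) R)
      rw [e1, e2]
      have h2 : H ≤ R.map N.subtype := by
        intro x hx
        exact ⟨⟨x, hHN hx⟩, hR.le (Subgroup.mem_subgroupOf.2 hx), rfl⟩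
      have h3 : R.map N.subtype ≤ N := by
        rintro _ ⟨x, _, rfl⟩; exact x.2
      have h4 : (R.map N.subtype).subgroupOf N = R := by
        ext x
        rw [Subgroup.mem_subgroupOf]
        constructor
        · rintro ⟨y, hy, e⟩
          have : y = x := Subtype.ext e
          rwa [← this]
        · intro hx; exact ⟨x, hx, rfl⟩
      have h5 := hφr _ h2 h3
      rw [h4] at h5
      refine h _ _ h5 ?_
      have h6 : Nat.card (R.map N.subtype) = Nat.card R := Subgroup.card_map_of_injective N.subtype_injective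
      have h7 : Nat.card (H.subgroupOf N) = Nat.card H := Nat.card_congr (Subgroup.subgroupOfEquivOfLe hHN).toEquiv
      rw [h6, ← h7]
      exact lt_of_le_of_ne (Subgroup.card_le_of_le hR.le) fun h' => hR.ne (Subgroup.eq_of_le_of_card_ge hR.le h'.ge))
    rw [hidx] at h1
    have e1 : (Fix (Tw N.subtype (YY n)) (H.subgroupOf N)).ncard = mk n ((H.subgroupOf N).map N.subtype) :=
      congrArg Set.ncard (Fix_Tw N.subtype (YY n) _)
    have e2 : (Fix (Tw φ (YY n)) (H.subgroupOf N)).ncard = mk n ((H.subgroupOf N).map φ) :=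
      congrArg Set.ncard (Fix_Tw φ (YY n) _)
    rw [e1, e2, hφH, Subgroup.map_subgroupOf_eq_of_le hHN] at h1
    exact h1
  · have : IsEmpty (YY n) := not_nonempty_iff.1 hne
    have h1 : ∀ R, mk n R = 0 := by
      intro R
      unfold mk
      rw [Set.ncard_eq_zero (Set.toFinite _)]
      exact Set.eq_empty_of_isEmpty _
    rw [h1, h1]

/-- **stabilization** -/
theorem stabilize [Finite G] {r : Subgroup G → Subgroup G → Prop} {A : Set (Subgroup G)} (hr : Stab r A)
    (n₀ : Subgroup G → ℕ) (h₀ : ∀ R R', r R R' → R ∉ A → mk n₀ R = mk n₀ R') :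
    ∃ n : Subgroup G → ℕ, (∀ H, n₀ H ≤ n H) ∧ (∀ H, H ∉ A → n H = n₀ H) ∧ ∀ R R', r R R' → mk n R = mk n R' := by
  classical
  haveI : Fintype (Subgroup G) := Fintype.ofFinite _
  have step : ∀ j : ℕ, ∃ n : Subgroup G → ℕ, (∀ H, n₀ H ≤ n H) ∧ (∀ H, H ∉ A → n H = n₀ H) ∧
      ∀ R R', r R R' → (R ∉ A ∨ Nat.card G < Nat.card R + j) → mk n R = mk n R' := by
    intro j
    induction j with
    | zero =>
      refine ⟨n₀, fun _ => le_rfl, fun _ _ => rfl, fun R R' hRR' h => ?_⟩
      rcases h with h | h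
      · exact h₀ R R' hRR' h
      · exact absurd (Subgroup.card_le_card_group R) (by omega)
    | succ j ih =>
      obtain ⟨n, hn1, hn2, hn3⟩ := ih
      set L : ℕ := ∑ H : Subgroup G, mk n H with hL
      have hLle : ∀ H, mk n H ≤ L := fun H => Finset.single_le_sum (f := fun H => mk n H) (fun _ _ => Nat.zero_le _) (Finset.mem_univ H)
      set gd : Subgroup G → Subgroup G := fun H => Classical.epsilon fun H₀ => r H H₀ ∧ Good r H₀ with hgd
      have hgd_spec : ∀ H ∈ A, r H (gd H) ∧ Good r (gd H) := fun H hH =>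
        Classical.epsilon_spec (p := fun H₀ => r H H₀ ∧ Good r H₀) (hr.good H hH)
      have hgd_eq : ∀ H H', r H H' → gd H = gd H' := by
        intro H H' h
        show (Classical.epsilon fun H₀ => r H H₀ ∧ Good r H₀) = Classical.epsilon fun H₀ => r H' H₀ ∧ Good r H₀
        congr 1
        funext H₀
        apply propext
        exact ⟨fun h1 => ⟨hr.trans _ _ _ (hr.symm _ _ h) h1.1, h1.2⟩, fun h1 => ⟨hr.trans _ _ _ h h1.1, h1.2⟩⟩
      set cr : Subgroup G → Subgroup G := fun H => Classical.epsilon fun H' => ∃ g, H' = cjS g H with hcr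
      have hcr_spec : ∀ H, ∃ g, cr H = cjS g H := fun H =>
        Classical.epsilon_spec (p := fun H' => ∃ g, H' = cjS g H) ⟨H, 1, (cjS_one H).symm⟩
      have hcr_eq : ∀ H g, cr (cjS g H) = cr H := by
        intro H g
        show (Classical.epsilon fun H' => ∃ g', H' = cjS g' (cjS g H)) = Classical.epsilon fun H' => ∃ g', H' = cjS g' H
        congr 1
        funext H'
        apply propext
        constructor
        · rintro ⟨g', h⟩; exact ⟨g' * g, by rw [h, cjS_mul]⟩
        · rintro ⟨g', h⟩; exact ⟨g' * g⁻¹, by rw [h, cjS_mul, inv_mul_cancel_right]⟩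
      set M : Subgroup G → ℕ := fun H => mk n (gd H) + L * fx (gd H) (gd H) with hM
      set k : ℕ := Nat.card G - j with hk
      set δ : Subgroup G → ℕ := fun H => if H ∈ A ∧ Nat.card H = k ∧ cr H = H then (M H - mk n H) / fx H H else 0 with hδ
      have hmkadd : ∀ R, mk (fun H => n H + δ H) R = mk n R + ∑ H, δ H * fx R H := by
        intro R
        rw [mk_eq, mk_eq, ← Finset.sum_add_distrib]
        refine Finset.sum_congr rfl fun H _ => ?_
        rw [add_mul]
      have hδ0 : ∀ H, δ H ≠ 0 → H ∈ A ∧ Nat.card H = k ∧ cr H = H := by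
        intro H hH
        by_contra hne
        apply hH
        rw [hδ]; dsimp only; rw [if_neg hne]
      -- marks unchanged
      have hc1 : ∀ R, (R ∉ A ∨ k < Nat.card R) → mk (fun H => n H + δ H) R = mk n R := by
        intro R hR
        rw [hmkadd, Finset.sum_eq_zero, add_zero]
        intro H _
        by_contra hne
        have h1 := hδ0 H (left_ne_zero_of_mul hne)
        obtain ⟨g, hg⟩ := fx_ne_zero (right_ne_zero_of_mul hne)
        rcases hR with h2 | h2
        · exact h2 (hr.sub _ _ (hr.closed _ _ h1.1 (hr.conj H g)) hg)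
        · have := Subgroup.card_le_of_le hg
          rw [card_cjS] at this
          omega
      have hj : ∀ H : Subgroup G, Nat.card H = k → ∀ R : Subgroup G, Nat.card H < Nat.card R → Nat.card G < Nat.card R + j := by
        intro H hH R hR
        have := Subgroup.card_le_card_group R
        omega
      have hc2 : ∀ R, R ∈ A → Nat.card R = k → mk (fun H => n H + δ H) R = M R := by
        intro R hRA hRk
        rw [hmkadd]
        obtain ⟨g, hg⟩ := hcr_spec R
        have hcrA : cr R ∈ A := by rw [hg]; exact hr.closed _ _ hRA (hr.conj R g)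
        have hcrk : Nat.card (cr R) = k := by rw [hg, card_cjS, hRk]
        have hcrcr : cr (cr R) = cr R := by
          conv_lhs => rw [hg]
          exact hcr_eq R g
        have hsum : ∑ H, δ H * fx R H = δ (cr R) * fx R (cr R) := by
          refine Finset.sum_eq_single _ (fun H _ hne => ?_) fun h => absurd (Finset.mem_univ _) h
          by_contra hne2
          have h1 := hδ0 H (left_ne_zero_of_mul hne2)
          obtain ⟨t, ht⟩ := fx_ne_zero (right_ne_zero_of_mul hne2)
          have h2 : R = cjS t H := Subgroup.eq_of_le_of_card_ge ht (by rw [card_cjS, h1.2.1, hRk])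
          apply hne
          rw [h2, hcr_eq, h1.2.2]
        have hfx : fx R (cr R) = fx (cr R) (cr R) := by
          have h2 : R = cjS g⁻¹ (cr R) := by rw [hg, cjS_mul, inv_mul_cancel, cjS_one]
          conv_lhs => rw [h2]
          have h3 : cr (cjS g⁻¹ (cr R)) = cr R := by rw [hcr_eq, hcrcr]
          rw [h3]
          exact fx_cj _ _
        rw [hsum, hfx]
        have hδv : δ (cr R) = (M (cr R) - mk n (cr R)) / fx (cr R) (cr R) := by
          rw [hδ]; dsimp only; rw [if_pos ⟨hcrA, hcrk, hcrcr⟩]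
        have hMeq : M (cr R) = M R := by
          rw [hM]; dsimp only
          rw [hg, ← hgd_eq _ _ (hr.conj R g)]
        have hmkeq : mk n (cr R) = mk n R := by rw [hg, mk_cj]
        obtain ⟨h4, h5⟩ := hgd_spec _ hcrA
        obtain ⟨h6, h7⟩ := marks_congr hr n (cr R) (gd (cr R)) h4 h5 (fun R₁ R₂ h8 h9 =>
          hn3 R₁ R₂ h8 (Or.inr (hj _ hcrk _ h9)))
        have hpos := fx_pos (gd (cr R))
        have hle : mk n (cr R) ≤ M (cr R) := by
          have h10 : L ≤ L * fx (gd (cr R)) (gd (cr R)) := Nat.le_mul_of_pos_right _ hpos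
          have h11 := hLle (cr R)
          rw [hM]; dsimp only; omega
        have hdvd : fx (cr R) (cr R) ∣ M (cr R) - mk n (cr R) := by
          rw [← Nat.modEq_iff_dvd' hle]
          refine h7.trans ?_
          rw [hM]; dsimp only
          conv_lhs => rw [← add_zero (mk n (gd (cr R)))]
          exact Nat.ModEq.add_left _ (Nat.modEq_zero_iff_dvd.2 (Dvd.dvd.mul_left h6 _)).symm
        rw [hδv, Nat.div_mul_cancel hdvd, hMeq, hmkeq]
        rw [hMeq, hmkeq] at hle
        omega
      refine ⟨fun H => n H + δ H, fun H => (hn1 H).trans (Nat.le_add_right _ _), fun H hH => ?_, fun R R' hRR' h => ?_⟩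
      · have : δ H = 0 := by
          by_contra hne
          exact hH (hδ0 H hne).1
        dsimp only
        rw [this, add_zero, hn2 H hH]
      · have hcard := hr.card _ _ hRR'
        by_cases hRA : R ∈ A
        · have hR'A := hr.closed _ _ hRA hRR'
          have hcR : Nat.card R ≤ Nat.card G := Subgroup.card_le_card_group R
          rcases h with h | h
          · exact absurd hRA h
          by_cases hk' : Nat.card R = k
          · rw [hc2 R hRA hk', hc2 R' hR'A (hcard ▸ hk')]
            show mk n (gd R) + L * fx (gd R) (gd R) = mk n (gd R') + L * fx (gd R') (gd R')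
            rw [hgd_eq _ _ hRR']
          · have h2 : k < Nat.card R := by omega
            rw [hc1 R (Or.inr h2), hc1 R' (Or.inr (hcard ▸ h2))]
            exact hn3 R R' hRR' (Or.inr (by omega))
        · have hR'A : R' ∉ A := fun h' => hRA (hr.closed _ _ h' (hr.symm _ _ hRR'))
          rw [hc1 R (Or.inl hRA), hc1 R' (Or.inl hR'A)]
          exact hn3 R R' hRR' (Or.inl hRA)
  obtain ⟨n, hn1, hn2, hn3⟩ := step (Nat.card G)
  refine ⟨n, hn1, hn2, fun R R' h => hn3 R R' h (Or.inr ?_)⟩
  have : 0 < Nat.card R := Nat.card_pos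
  omega

end Cfsg.Agent.Lib.BisB
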