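import Cfsg.Agent.Lib.LabC
import Cfsg.Agent.Lib.BisB

/-!
Characteristic bisets relative to a strongly closed subgroup containing the hyperfocal subgroup, part one: the
relation on subgroups of `S ×_{S/K} S`.
-/

set_option autoImplicit false
set_option linter.unusedSectionVars false
set_option linter.style.haveILetI false
set_option linter.unusedVariables false

namespace Cfsg.Agent.Lib.BisC

open Cfsg Cfsg.FusionSystem Cfsg.Agent.Lib.FusBase Cfsg.Agent.Lib.FusSat Cfsg.Agent.Lib.StrongEmb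
open Cfsg.Agent.Lib.FusAlperin Cfsg.Agent.Lib.FusNormal Cfsg.Agent.Lib.FusNormalB Cfsg.Agent.Lib.SylRel
open Cfsg.Agent.Lib.FusSub Cfsg.Agent.Lib.FusPuig Cfsg.Agent.Lib.FusNK Cfsg.Agent.Lib.FusNKB Cfsg.Agent.Lib.FusMor Cfsg.Agent.Lib.FusGroup
open Cfsg.Agent.Lib.FusHyp Cfsg.Agent.Lib.FusHypB Cfsg.Agent.Lib.LabA Cfsg.Agent.Lib.LabB Cfsg.Agent.Lib.LabC
open Cfsg.Agent.Lib.BisB

universe u

variable {Ω : Type u} [Group Ω] {S : Subgroup Ω} {F : FusionSystem S} {p : ℕ}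
variable {P Q K : Subgroup Ω} {f g h : Ω → Ω} {s t k : Ω}

/-- `S ×_{S/K} S` -/
def DD (hK : KS F p K) : Subgroup (Ω × Ω) where
  carrier := {z | z.1 ∈ S ∧ z.2 ∈ S ∧ z.1 * z.2⁻¹ ∈ K}
  one_mem' := ⟨S.one_mem, S.one_mem, by simp [K.one_mem]⟩
  mul_mem' := by
    rintro ⟨a, b⟩ ⟨c, d⟩ ⟨h1, h2, h3⟩ ⟨h4, h5, h6⟩
    refine ⟨S.mul_mem h1 h4, S.mul_mem h2 h5, ?_⟩
    have h7 := K.mul_mem (hK.norm a h1 _ h6) h3
    show a * c * (b * d)⁻¹ ∈ K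
    convert h7 using 1
    group
  inv_mem' := by
    rintro ⟨a, b⟩ ⟨h1, h2, h3⟩
    refine ⟨S.inv_mem h1, S.inv_mem h2, ?_⟩
    have h7 := hK.norm' h1 (K.inv_mem h3)
    show a⁻¹ * (b⁻¹)⁻¹ ∈ K
    convert h7 using 1
    group

theorem mem_DD {hK : KS F p K} {z : Ω × Ω} : z ∈ DD hK ↔ z.1 ∈ S ∧ z.2 ∈ S ∧ z.1 * z.2⁻¹ ∈ K := Iff.rfl

instance [Finite S] (hK : KS F p K) : Finite ↥(DD hK) := by
  let e : ↥(DD hK) → S × S := fun z => (⟨z.1.1, z.2.1⟩, ⟨z.1.2, z.2.2.1⟩)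
  refine Finite.of_injective e fun z w h => ?_
  have h1 := congrArg (fun t => ((t.1 : Ω), (t.2 : Ω))) h
  exact Subtype.ext h1

variable (hK : KS F p K)

def pr1 (R : Subgroup ↥(DD hK)) : Subgroup Ω := R.map ((MonoidHom.fst Ω Ω).comp (DD hK).subtype)
def pr2 (R : Subgroup ↥(DD hK)) : Subgroup Ω := R.map ((MonoidHom.snd Ω Ω).comp (DD hK).subtype)

theorem mem_pr1 {R : Subgroup ↥(DD hK)} {x : Ω} : x ∈ pr1 hK R ↔ ∃ w ∈ R, w.1.1 = x := Iff.rfl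
theorem mem_pr2 {R : Subgroup ↥(DD hK)} {x : Ω} : x ∈ pr2 hK R ↔ ∃ w ∈ R, w.1.2 = x := Iff.rfl

theorem pr1_mono {R R' : Subgroup ↥(DD hK)} (h : R ≤ R') : pr1 hK R ≤ pr1 hK R' := Subgroup.map_mono h
theorem pr2_mono {R R' : Subgroup ↥(DD hK)} (h : R ≤ R') : pr2 hK R ≤ pr2 hK R' := Subgroup.map_mono h

/-- the pair of images is in `D` -/
theorem act_mem {hK : KS F p K} {P₁ P₂ : Subgroup Ω} {α β : Ω → Ω} {r : Ω} (hα : Lab F p K P₁ α r)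
    (hβ : Lab F p K P₂ β r) {z : Ω × Ω} (hz : z ∈ DD hK) (h1 : z.1 ∈ P₁) (h2 : z.2 ∈ P₂) : (α z.1, β z.2) ∈ DD hK := by
  refine ⟨hα.mor.mem h1, hβ.mor.mem h2, ?_⟩
  have h3 := hα.spec hK _ h1
  have h4 := hβ.spec hK _ h2
  have hr := hα.mem hK.le
  have h5 := hK.norm r hr _ hz.2.2
  -- α a (β b)⁻¹ = [α a (r a r⁻¹)⁻¹] [r a b⁻¹ r⁻¹] [β b (r b r⁻¹)⁻¹]⁻¹ conj
  show α z.1 * (β z.2)⁻¹ ∈ K
  have h6 := K.mul_mem (K.mul_mem h3 h5) (K.inv_mem h4)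
  have h7 : α z.1 * (r * z.1 * r⁻¹)⁻¹ * (r * (z.1 * z.2⁻¹) * r⁻¹) * (β z.2 * (r * z.2 * r⁻¹)⁻¹)⁻¹ = α z.1 * (β z.2)⁻¹ := by
    group
  rw [h7] at h6
  exact h6

/-- the relation -/
def rel (R R' : Subgroup ↥(DD hK)) : Prop :=
  ∃ (α β : Ω → Ω) (r : Ω), Lab F p K (pr1 hK R) α r ∧ Lab F p K (pr2 hK R) β r ∧
    ∀ z : ↥(DD hK), z ∈ R' ↔ ∃ w ∈ R, z.1.1 = α w.1.1 ∧ z.1.2 = β w.1.2

theorem rel_pr1 {R R' : Subgroup ↥(DD hK)} {α β : Ω → Ω} {r : Ω} (hα : Lab F p K (pr1 hK R) α r)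
    (hβ : Lab F p K (pr2 hK R) β r) (h : ∀ z : ↥(DD hK), z ∈ R' ↔ ∃ w ∈ R, z.1.1 = α w.1.1 ∧ z.1.2 = β w.1.2) :
    pr1 hK R' = img (pr1 hK R) α ∧ pr2 hK R' = img (pr2 hK R) β := by
  constructor
  · ext x
    rw [hα.mor.mem_img]
    constructor
    · rintro ⟨z, hz, rfl⟩
      obtain ⟨w, hw, h1, h2⟩ := (h z).1 hz
      exact ⟨w.1.1, ⟨w, hw, rfl⟩, h1.symm⟩
    · rintro ⟨_, ⟨w, hw, rfl⟩, rfl⟩
      refine ⟨⟨(α w.1.1, β w.1.2), act_mem hα hβ w.2 ⟨w, hw, rfl⟩ ⟨w, hw, rfl⟩⟩, (h _).2 ⟨w, hw, rfl, rfl⟩, rfl⟩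
  · ext x
    rw [hβ.mor.mem_img]
    constructor
    · rintro ⟨z, hz, rfl⟩
      obtain ⟨w, hw, h1, h2⟩ := (h z).1 hz
      exact ⟨w.1.2, ⟨w, hw, rfl⟩, h2.symm⟩
    · rintro ⟨_, ⟨w, hw, rfl⟩, rfl⟩
      refine ⟨⟨(α w.1.1, β w.1.2), act_mem hα hβ w.2 ⟨w, hw, rfl⟩ ⟨w, hw, rfl⟩⟩, (h _).2 ⟨w, hw, rfl, rfl⟩, rfl⟩

theorem rel_symm {R R' : Subgroup ↥(DD hK)} (h : rel hK R R') : rel hK R' R := by
  obtain ⟨α, β, r, hα, hβ, h⟩ := h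
  obtain ⟨e1, e2⟩ := rel_pr1 hK hα hβ h
  obtain ⟨α', hα', h1⟩ := hα.inv hK
  obtain ⟨β', hβ', h2⟩ := hβ.inv hK
  refine ⟨α', β', r⁻¹, by rw [e1]; exact hα', by rw [e2]; exact hβ', fun z => ⟨fun hz => ?_, ?_⟩⟩
  · refine ⟨⟨(α z.1.1, β z.1.2), act_mem hα hβ z.2 ⟨z, hz, rfl⟩ ⟨z, hz, rfl⟩⟩, (h _).2 ⟨z, hz, rfl, rfl⟩, ?_, ?_⟩
    · exact (h1 _ ⟨z, hz, rfl⟩).symm
    · exact (h2 _ ⟨z, hz, rfl⟩).symm
  · rintro ⟨w, hw, h3, h4⟩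
    obtain ⟨v, hv, h5, h6⟩ := (h w).1 hw
    rw [h5, show α' (α v.1.1) = v.1.1 from h1 _ ⟨v, hv, rfl⟩] at h3
    rw [h6, show β' (β v.1.2) = v.1.2 from h2 _ ⟨v, hv, rfl⟩] at h4
    have : z = v := Subtype.ext (Prod.ext h3 h4)
    rw [this]; exact hv

theorem rel_trans {R R' R'' : Subgroup ↥(DD hK)} (h : rel hK R R') (h' : rel hK R' R'') : rel hK R R'' := by
  obtain ⟨α, β, r, hα, hβ, h⟩ := h
  obtain ⟨α', β', r', hα', hβ', h'⟩ := h'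
  obtain ⟨e1, e2⟩ := rel_pr1 hK hα hβ h
  rw [e1] at hα'
  rw [e2] at hβ'
  refine ⟨_, _, r' * r, hα.comp hα' fun x hx => mem_img_of_mem hx, hβ.comp hβ' fun x hx => mem_img_of_mem hx,
    fun z => ⟨fun hz => ?_, ?_⟩⟩
  · obtain ⟨w, hw, h1, h2⟩ := (h' z).1 hz
    obtain ⟨v, hv, h3, h4⟩ := (h w).1 hw
    exact ⟨v, hv, by rw [h1, h3], by rw [h2, h4]⟩
  · rintro ⟨v, hv, h1, h2⟩
    exact (h' z).2 ⟨⟨(α v.1.1, β v.1.2), act_mem hα hβ v.2 ⟨v, hv, rfl⟩ ⟨v, hv, rfl⟩⟩, (h _).2 ⟨v, hv, rfl, rfl⟩, h1, h2⟩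

theorem pr1_le (R : Subgroup ↥(DD hK)) : pr1 hK R ≤ S := by
  rintro _ ⟨w, hw, rfl⟩; exact w.2.1

theorem pr2_le (R : Subgroup ↥(DD hK)) : pr2 hK R ≤ S := by
  rintro _ ⟨w, hw, rfl⟩; exact w.2.2.1

theorem rel_conj (R : Subgroup ↥(DD hK)) (g : ↥(DD hK)) : rel hK R (cjS g R) := by
  have h1 := Lab.conj (F := F) (p := p) (K := K) (pr1_le hK R) g.2.1
  have h2 : Lab F p K (pr2 hK R) (fun x => g.1.2 * x * (g.1.2)⁻¹) g.1.1 :=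
    (Lab.conj (F := F) (p := p) (K := K) (pr2_le hK R) g.2.2.1).lab' hK (by
      have := hK.norm' g.2.2.1 g.2.2.2
      convert this using 1
      group)
  refine ⟨_, _, g.1.1, h1, h2, fun z => ?_⟩
  constructor
  · rintro ⟨w, hw, rfl⟩
    exact ⟨w, hw, rfl, rfl⟩
  · rintro ⟨w, hw, h3, h4⟩
    exact ⟨w, hw, Subtype.ext (Prod.ext h3.symm h4.symm)⟩

theorem rel_card [Finite S] {R R' : Subgroup ↥(DD hK)} (h : rel hK R R') : Nat.card R = Nat.card R' := by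
  have key : ∀ R R' : Subgroup ↥(DD hK), rel hK R R' → Nat.card R ≤ Nat.card R' := by
    intro R R' h
    obtain ⟨α, β, r, hα, hβ, h⟩ := h
    refine Nat.card_le_card_of_injective (fun w : R => (⟨⟨(α w.1.1.1, β w.1.1.2), act_mem hα hβ w.1.2 ⟨w.1, w.2, rfl⟩ ⟨w.1, w.2, rfl⟩⟩,
      (h _).2 ⟨w.1, w.2, rfl, rfl⟩⟩ : R')) fun w v e => ?_
    have e1 := congrArg (fun t : R' => t.1.1) e
    have e2 := congrArg Prod.fst e1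
    have e3 := congrArg Prod.snd e1
    have e4 := hα.mor.inj ⟨w.1, w.2, rfl⟩ ⟨v.1, v.2, rfl⟩ e2
    have e5 := hβ.mor.inj ⟨w.1, w.2, rfl⟩ ⟨v.1, v.2, rfl⟩ e3
    exact Subtype.ext (Subtype.ext (Prod.ext e4 e5))
  exact le_antisymm (key _ _ h) (key _ _ (rel_symm hK h))

/-- `R` is the graph `{(φ u, u) : u ∈ P}` -/
def IsGr (R : Subgroup ↥(DD hK)) (P : Subgroup Ω) (φ : Ω → Ω) : Prop :=
  Lab F p K P φ 1 ∧ ∀ z : ↥(DD hK), z ∈ R ↔ z.1.2 ∈ P ∧ z.1.1 = φ z.1.2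

theorem gr_mem {P : Subgroup Ω} {φ : Ω → Ω} (h : Lab F p K P φ 1) {u : Ω} (hu : u ∈ P) : (φ u, u) ∈ DD hK := by
  refine ⟨h.mor.mem hu, h.le hu, ?_⟩
  have := h.spec hK u hu
  simpa using this

/-- the graph -/
def gr {P : Subgroup Ω} {φ : Ω → Ω} (h : Lab F p K P φ 1) : Subgroup ↥(DD hK) where
  carrier := {z | z.1.2 ∈ P ∧ z.1.1 = φ z.1.2}
  one_mem' := ⟨P.one_mem, h.mor.one.symm⟩
  mul_mem' := by
    rintro z w ⟨h1, h2⟩ ⟨h3, h4⟩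
    refine ⟨P.mul_mem h1 h3, ?_⟩
    show z.1.1 * w.1.1 = φ (z.1.2 * w.1.2)
    rw [h.mor.mul h1 h3, h2, h4]
  inv_mem' := by
    rintro z ⟨h1, h2⟩
    refine ⟨P.inv_mem h1, ?_⟩
    show (z.1.1)⁻¹ = φ (z.1.2)⁻¹
    rw [h.mor.inv h1, h2]

theorem gr_isGr {P : Subgroup Ω} {φ : Ω → Ω} (h : Lab F p K P φ 1) : IsGr hK (gr hK h) P φ := ⟨h, fun _ => Iff.rfl⟩

variable {hK}

theorem IsGr.pr2 {R : Subgroup ↥(DD hK)} {P : Subgroup Ω} {φ : Ω → Ω} (h : IsGr hK R P φ) : pr2 hK R = P := by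
  ext x
  constructor
  · rintro ⟨w, hw, rfl⟩
    exact ((h.2 w).1 hw).1
  · intro hx
    exact ⟨⟨(φ x, x), gr_mem hK h.1 hx⟩, (h.2 _).2 ⟨hx, rfl⟩, rfl⟩

theorem IsGr.pr1 {R : Subgroup ↥(DD hK)} {P : Subgroup Ω} {φ : Ω → Ω} (h : IsGr hK R P φ) : pr1 hK R = img P φ := by
  ext x
  rw [h.1.mor.mem_img]
  constructor
  · rintro ⟨w, hw, rfl⟩
    obtain ⟨h1, h2⟩ := (h.2 w).1 hw
    exact ⟨_, h1, h2.symm⟩
  · rintro ⟨y, hy, rfl⟩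
    exact ⟨⟨(φ y, y), gr_mem hK h.1 hy⟩, (h.2 _).2 ⟨hy, rfl⟩, rfl⟩

theorem IsGr.card {R : Subgroup ↥(DD hK)} {P : Subgroup Ω} {φ : Ω → Ω} (h : IsGr hK R P φ) : Nat.card R = Nat.card P := by
  refine Nat.card_congr
    { toFun := fun w => ⟨w.1.1.2, ((h.2 w.1).1 w.2).1⟩
      invFun := fun u => ⟨⟨(φ u, u), gr_mem hK h.1 u.2⟩, (h.2 _).2 ⟨u.2, rfl⟩⟩
      left_inv := fun w => by
        apply Subtype.ext; apply Subtype.ext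
        exact Prod.ext ((h.2 w.1).1 w.2).2.symm rfl
      right_inv := fun u => rfl }

theorem IsGr.rel {R R' : Subgroup ↥(DD hK)} {P : Subgroup Ω} {φ : Ω → Ω} (h : IsGr hK R P φ) (hr : rel hK R R') :
    ∃ P' φ', IsGr hK R' P' φ' ∧ Nat.card P' = Nat.card P := by
  have hr' := hr
  obtain ⟨α, β, r, hα, hβ, hR'⟩ := hr
  rw [h.pr1] at hα
  rw [h.pr2] at hβ
  obtain ⟨β', hβ', h1⟩ := hβ.inv hK
  have h2 : ∀ y ∈ img P β, β' y ∈ P := by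
    intro y hy
    obtain ⟨x, hx, rfl⟩ := hβ.mor.mem_img.1 hy
    rw [h1 x hx]; exact hx
  have h3 : ∀ y ∈ img P β, φ (β' y) ∈ img P φ := fun y hy => mem_img_of_mem (h2 y hy)
  have h4 := (hβ'.comp h.1 h2).comp hα h3
  have h5 : r * (1 * r⁻¹) = 1 := by group
  rw [h5] at h4
  refine ⟨img P β, _, ⟨h4, fun z => ?_⟩, hβ.mor.iso.card_eq.symm⟩
  rw [hR' z]
  constructor
  · rintro ⟨w, hw, e1, e2⟩
    obtain ⟨hwP, hw1⟩ := (h.2 w).1 hw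
    refine ⟨by rw [e2]; exact mem_img_of_mem hwP, ?_⟩
    rw [e2, h1 _ hwP, e1, hw1]
  · rintro ⟨e1, e2⟩
    refine ⟨⟨(φ (β' z.1.2), β' z.1.2), gr_mem hK h.1 (h2 _ e1)⟩, (h.2 _).2 ⟨h2 _ e1, rfl⟩, e2, ?_⟩
    obtain ⟨x, hx, e3⟩ := hβ.mor.mem_img.1 e1
    show z.1.2 = β (β' z.1.2)
    rw [← e3, h1 x hx]

theorem IsGr.sub {R R' : Subgroup ↥(DD hK)} {P : Subgroup Ω} {φ : Ω → Ω} (h : IsGr hK R P φ) (hR : R' ≤ R) :
    IsGr hK R' (BisC.pr2 hK R') φ ∧ BisC.pr2 hK R' ≤ P := by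
  have h1 : BisC.pr2 hK R' ≤ P := by rw [← h.pr2]; exact pr2_mono hK hR
  refine ⟨⟨h.1.restrict h1, fun z => ⟨fun hz => ⟨⟨z, hz, rfl⟩, ((h.2 z).1 (hR hz)).2⟩, ?_⟩⟩, h1⟩
  rintro ⟨⟨w, hw, e1⟩, e2⟩
  have e1 : w.1.2 = z.1.2 := e1
  have e3 := ((h.2 w).1 (hR hw)).2
  rw [e1, ← e2] at e3
  have : w = z := Subtype.ext (Prod.ext e3 e1)
  rw [← this]; exact hw

/-- the family of small graphs -/
def AA (hK : KS F p K) : Set (Subgroup ↥(DD hK)) := {R | ∃ P φ, IsGr hK R P φ ∧ P < S}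
/-- the family of full graphs -/
def TT (hK : KS F p K) : Set (Subgroup ↥(DD hK)) := {R | ∃ φ, IsGr hK R S φ}

theorem graph_cases {R : Subgroup ↥(DD hK)} {P : Subgroup Ω} {φ : Ω → Ω} (h : IsGr hK R P φ) : R ∈ AA hK ∨ R ∈ TT hK := by
  rcases eq_or_lt_of_le h.1.le with e | e
  · right; subst e; exact ⟨φ, h⟩
  · left; exact ⟨P, φ, h, e⟩

section Sat

variable [Finite S] [Fact p.Prime]

theorem good_exists (hS : IsPGroup p S) (hF : F.IsSaturated p) {R : Subgroup ↥(DD hK)} {P : Subgroup Ω} {φ : Ω → Ω}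
    (h : IsGr hK R P φ) : ∃ R₀, rel hK R R₀ ∧ Good (rel hK) R₀ := by
  obtain ⟨P₀, hPP₀, hP₀⟩ := exists_FN F h.1.le
  obtain ⟨β, hβ⟩ := isConj_iff.1 hPP₀
  obtain ⟨r, hr⟩ := Lab.exists_lab hS hF hK _ _ hβ.mor
  have hone := Lab.one (F := F) (p := p) (K := K) hP₀.1
  obtain ⟨φ', hφ', h1⟩ := h.1.inv hK
  have h2 : ∀ y ∈ img P φ, φ' y ∈ P := by
    intro y hy
    obtain ⟨x, hx, rfl⟩ := h.1.mor.mem_img.1 hy
    rw [h1 x hx]; exact hx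
  refine ⟨gr hK hone, ⟨fun x => β (φ' x), β, r, ?_, by rw [h.pr2]; exact hr, fun z => ?_⟩, ?_⟩
  · rw [h.pr1]
    have := hφ'.comp hr h2
    rwa [inv_one, mul_one] at this
  · constructor
    · rintro ⟨e1, e2⟩
      obtain ⟨x, hx, e3⟩ := hβ.mem_right.1 e1
      refine ⟨⟨(φ x, x), gr_mem hK h.1 hx⟩, (h.2 _).2 ⟨hx, rfl⟩, ?_, e3.symm⟩
      show z.1.1 = β (φ' (φ x))
      rw [h1 x hx, e3, e2]
    · rintro ⟨w, hw, e1, e2⟩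
      obtain ⟨hwP, hw1⟩ := (h.2 w).1 hw
      refine ⟨by rw [e2]; exact hβ.map_mem hwP, ?_⟩
      show z.1.1 = z.1.2
      rw [e1, e2, hw1]
      show β (φ' (φ w.1.2)) = β w.1.2
      rw [h1 _ hwP]
  · -- goodness
    intro H' hH'
    have hH₀ : IsGr hK (gr hK hone) P₀ (fun x => x) := gr_isGr hK hone
    obtain ⟨P', ψ, hψ, -⟩ := hH₀.rel (rel_symm hK hH')
    obtain ⟨α₁, β₁, r₁, hα₁, hβ₁, hH'₁⟩ := hH'
    rw [hψ.pr2] at hβ₁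
    have hβ₁i : Iso F P' P₀ β₁ := by
      refine ⟨hβ₁.mor, ?_⟩
      have h3 := (rel_pr1 hK hα₁ (by rw [hψ.pr2]; exact hβ₁) hH'₁).2
      rw [hψ.pr2, hH₀.pr2] at h3
      exact h3.symm
    obtain ⟨a, G, ha, hG, hGa, hGN⟩ := extend_to_FN hS hF hP₀ hβ₁i
    obtain ⟨t, ht⟩ := Lab.exists_lab hS hF hK _ _ hG
    have hP'S : P' ≤ S := hψ.1.le
    have hP'N := le_normalizerIn hP'S
    have hGi : Iso F P' P₀ G := by
      refine ⟨hG.restrict hP'N, ?_⟩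
      have h3 : Iso F P' P₀ (fun x => a (β₁ x)) := hβ₁i.trans ha
      rw [img_congr hGa]; exact h3.img_eq
    obtain ⟨ψ', hψ', h4⟩ := hψ.1.inv hK
    have h5 : ∀ y ∈ img P' ψ, ψ' y ∈ P' := by
      intro y hy
      obtain ⟨x, hx, rfl⟩ := hψ.1.mor.mem_img.1 hy
      rw [h4 x hx]; exact hx
    set α₀ : Ω → Ω := fun x => G (ψ' x) with hα₀
    have hα₀L : Lab F p K (img P' ψ) α₀ t := by
      have := hψ'.comp (ht.restrict hP'N) h5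
      rwa [inv_one, mul_one] at this
    have hα₀i : img (img P' ψ) α₀ = P₀ := by
      have h6 : ∀ x ∈ P', α₀ (ψ x) = G x := fun x hx => by show G (ψ' (ψ x)) = G x; rw [h4 x hx]
      rw [img_img _ _ hψ.1.mor, img_congr h6, hGi.img_eq]
    obtain ⟨α₂, hα₂, hα₂α⟩ := ext_lab hS hF hK (FN_FC hS hF hP₀) hα₀L hα₀i
    set N := Subgroup.normalizer (H' : Set ↥(DD hK)) with hN
    -- facts on the normalizer
    have hNf : ∀ z ∈ N, z.1.2 ∈ normalizerIn S P' ∧ z.1.1 ∈ Nx S (img P' ψ) α₀ ∧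
        ∀ u ∈ P', z.1.1 * ψ u * (z.1.1)⁻¹ = ψ (z.1.2 * u * (z.1.2)⁻¹) := by
      intro z hz
      have h6 : ∀ u ∈ P', z.1.2 * u * (z.1.2)⁻¹ ∈ P' ∧ z.1.1 * ψ u * (z.1.1)⁻¹ = ψ (z.1.2 * u * (z.1.2)⁻¹) := by
        intro u hu
        have h7 := (Subgroup.mem_normalizer_iff.1 hz ⟨(ψ u, u), gr_mem hK hψ.1 hu⟩).1 ((hψ.2 _).2 ⟨hu, rfl⟩)
        exact (hψ.2 _).1 h7
      have hfin : Finite P' := finite_of_le hP'S
      have h8 : z.1.2 ∈ normalizerIn S P' := mem_normalizerIn.2 ⟨z.2.2.1, mem_normalizer_of_conj_mem fun u hu => (h6 u hu).1⟩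
      refine ⟨h8, ?_, fun u hu => (h6 u hu).2⟩
      have hfin' : Finite ↥(img P' ψ) := finite_of_le hψ.1.mor.img_le
      refine mem_Nx.2 ⟨z.2.1, mem_normalizer_of_conj_mem fun y hy => ?_, G z.1.2, hG.mem h8, fun y hy => ?_⟩
      · obtain ⟨u, hu, rfl⟩ := hψ.1.mor.mem_img.1 hy
        rw [(h6 u hu).2]
        exact mem_img_of_mem (h6 u hu).1
      · obtain ⟨u, hu, rfl⟩ := hψ.1.mor.mem_img.1 hy
        rw [(h6 u hu).2]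
        show G (ψ' (ψ (z.1.2 * u * (z.1.2)⁻¹))) = G z.1.2 * G (ψ' (ψ u)) * (G z.1.2)⁻¹
        rw [h4 _ (h6 u hu).1, h4 u hu, hG.conj h8 (hP'N hu)]
    have hL1 : ∀ z : N, z.1.1.1 ∈ Nx S (img P' ψ) α₀ := fun z => (hNf z.1 z.2).2.1
    have hL2 : ∀ z : N, z.1.1.2 ∈ normalizerIn S P' := fun z => (hNf z.1 z.2).1
    let Φ : ↥N →* ↥(DD hK) := MonoidHom.mk' (fun z => ⟨(α₂ z.1.1.1, G z.1.1.2), act_mem hα₂ ht z.1.2 (hL1 z) (hL2 z)⟩) (by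
      intro z w
      apply Subtype.ext
      refine Prod.ext ?_ ?_
      · show α₂ (z.1.1.1 * w.1.1.1) = α₂ z.1.1.1 * α₂ w.1.1.1
        exact hα₂.mor.mul (hL1 z) (hL1 w)
      · show G (z.1.1.2 * w.1.1.2) = G z.1.1.2 * G w.1.1.2
        exact hG.mul (hL2 z) (hL2 w))
    have hval : ∀ u ∈ P', α₂ (ψ u) = G u := by
      intro u hu
      rw [hα₂α _ (mem_img_of_mem hu)]
      show G (ψ' (ψ u)) = G u
      rw [h4 u hu]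
    refine ⟨Φ, ?_, ?_, ?_, ?_⟩
    · intro z w e
      have e1 := congrArg (fun t : ↥(DD hK) => t.1) e
      have e2 := hα₂.mor.inj (hL1 z) (hL1 w) (congrArg Prod.fst e1)
      have e3 := hG.inj (hL2 z) (hL2 w) (congrArg Prod.snd e1)
      exact Subtype.ext (Subtype.ext (Prod.ext e2 e3))
    · intro z
      have hfinD : Finite ↥(gr hK hone) := inferInstance
      refine mem_normalizer_of_conj_mem fun w hw => ?_
      obtain ⟨e1, e2⟩ := hw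
      obtain ⟨v, hv, e3⟩ := hGi.mem_right.1 e1
      have e4 : α₂ z.1.1.1 * w.1.1 * (α₂ z.1.1.1)⁻¹ = G (z.1.1.2 * v * (z.1.1.2)⁻¹) := by
        rw [e2]
        show α₂ z.1.1.1 * w.1.2 * (α₂ z.1.1.1)⁻¹ = _
        rw [← e3, ← hval v hv, ← hα₂.mor.conj (hL1 z) (hα₀L.mor.le_Nx (mem_img_of_mem hv)), (hNf z.1 z.2).2.2 v hv]
        exact hval _ (normalizerIn_conj_mem (hL2 z) hv)
      have e5 : G z.1.1.2 * w.1.2 * (G z.1.1.2)⁻¹ = G (z.1.1.2 * v * (z.1.1.2)⁻¹) := by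
        rw [← e3, hG.conj (hL2 z) (hP'N hv)]
      refine ⟨?_, ?_⟩
      · show G z.1.1.2 * w.1.2 * (G z.1.1.2)⁻¹ ∈ P₀
        rw [e5]
        exact hGi.map_mem (normalizerIn_conj_mem (hL2 z) hv)
      · show α₂ z.1.1.1 * w.1.1 * (α₂ z.1.1.1)⁻¹ = G z.1.1.2 * w.1.2 * (G z.1.1.2)⁻¹
        rw [e4, e5]
    · ext z
      constructor
      · rintro ⟨w, hw, rfl⟩
        obtain ⟨e1, e2⟩ := (hψ.2 w.1).1 (Subgroup.mem_subgroupOf.1 hw)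
        refine ⟨hGi.map_mem e1, ?_⟩
        show α₂ w.1.1.1 = G w.1.1.2
        rw [e2, hval _ e1]
      · rintro ⟨e1, e2⟩
        obtain ⟨v, hv, e3⟩ := hGi.mem_right.1 e1
        have hvH : (⟨(ψ v, v), gr_mem hK hψ.1 hv⟩ : ↥(DD hK)) ∈ H' := (hψ.2 _).2 ⟨hv, rfl⟩
        refine ⟨⟨_, Subgroup.le_normalizer hvH⟩, Subgroup.mem_subgroupOf.2 hvH, ?_⟩
        apply Subtype.ext
        refine Prod.ext ?_ e3
        show α₂ (ψ v) = z.1.1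
        rw [hval v hv, e3, e2]
    · intro R₁ hR₁ hR₁N
      refine ⟨α₂, G, t, hα₂.restrict ?_, ht.restrict ?_, fun z => ?_⟩
      · rintro _ ⟨w, hw, rfl⟩; exact hL1 ⟨w, hR₁N hw⟩
      · rintro _ ⟨w, hw, rfl⟩; exact hL2 ⟨w, hR₁N hw⟩
      · constructor
        · rintro ⟨w, hw, rfl⟩
          exact ⟨w.1, Subgroup.mem_subgroupOf.1 hw, rfl, rfl⟩
        · rintro ⟨w, hw, e1, e2⟩
          refine ⟨⟨w, hR₁N hw⟩, Subgroup.mem_subgroupOf.2 hw, ?_⟩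
          exact Subtype.ext (Prod.ext e1.symm e2.symm)

theorem stab (hS : IsPGroup p S) (hF : F.IsSaturated p) : Stab (rel hK) (AA hK) where
  symm := fun _ _ h => rel_symm hK h
  trans := fun _ _ _ h h' => rel_trans hK h h'
  conj := fun H g => rel_conj hK H g
  card := fun _ _ h => rel_card hK h
  closed := by
    rintro H H' ⟨P, φ, h, hP⟩ hr
    obtain ⟨P', φ', h', hc⟩ := h.rel hr
    refine ⟨P', φ', h', lt_of_le_of_ne h'.1.le fun e => ?_⟩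
    rw [e] at hc
    exact hP.ne (Subgroup.eq_of_le_of_card_ge hP.le hc.le)
  sub := by
    rintro H H' ⟨P, φ, h, hP⟩ hr
    obtain ⟨h1, h2⟩ := h.sub hr
    exact ⟨_, φ, h1, lt_of_le_of_lt h2 hP⟩
  good := by
    rintro H ⟨P, φ, h, hP⟩
    exact good_exists hS hF h

end Sat

end Cfsg.Agent.Lib.BisC
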