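import Cfsg.Agent.Lib.BisC

/-!
Characteristic bisets relative to a strongly closed subgroup containing the hyperfocal subgroup: existence.
-/

set_option autoImplicit false
set_option linter.unusedSectionVars false
set_option linter.style.haveILetI false
set_option linter.unusedVariables false

namespace Cfsg.Agent.Lib.BisD

open Cfsg Cfsg.FusionSystem Cfsg.Agent.Lib.FusBase Cfsg.Agent.Lib.FusSat Cfsg.Agent.Lib.StrongEmb
open Cfsg.Agent.Lib.FusAlperin Cfsg.Agent.Lib.FusNormal Cfsg.Agent.Lib.FusNormalB Cfsg.Agent.Lib.SylRel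
open Cfsg.Agent.Lib.FusSub Cfsg.Agent.Lib.FusPuig Cfsg.Agent.Lib.FusNK Cfsg.Agent.Lib.FusNKB Cfsg.Agent.Lib.FusMor Cfsg.Agent.Lib.FusGroup
open Cfsg.Agent.Lib.FusHyp Cfsg.Agent.Lib.FusHypB Cfsg.Agent.Lib.LabA Cfsg.Agent.Lib.LabB Cfsg.Agent.Lib.LabC
open Cfsg.Agent.Lib.BisB Cfsg.Agent.Lib.BisC
open scoped Classical

universe u

/-- representative of a conjugacy class of subgroups -/
noncomputable def cr {G : Type u} [Group G] (H : Subgroup G) : Subgroup G := Classical.epsilon fun H' => ∃ g, H' = cjS g H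

theorem cr_spec {G : Type u} [Group G] (H : Subgroup G) : ∃ g, cr H = cjS g H :=
  Classical.epsilon_spec (p := fun H' => ∃ g, H' = cjS g H) ⟨H, 1, (cjS_one H).symm⟩

theorem cr_eq {G : Type u} [Group G] (H : Subgroup G) (g : G) : cr (cjS g H) = cr H := by
  show (Classical.epsilon fun H' => ∃ g', H' = cjS g' (cjS g H)) = Classical.epsilon fun H' => ∃ g', H' = cjS g' H
  congr 1
  funext H'
  apply propext
  constructor
  · rintro ⟨g', h⟩; exact ⟨g' * g, by rw [h, cjS_mul]⟩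
  · rintro ⟨g', h⟩; exact ⟨g' * g⁻¹, by rw [h, cjS_mul, inv_mul_cancel_right]⟩

theorem cr_cr {G : Type u} [Group G] (H : Subgroup G) : cr (cr H) = cr H := by
  obtain ⟨g, hg⟩ := cr_spec H
  conv_lhs => rw [hg]
  exact cr_eq H g

theorem exists_cj_of_cr {G : Type u} [Group G] {H H' : Subgroup G} (h : cr H = cr H') : ∃ g, H' = cjS g H := by
  obtain ⟨g, hg⟩ := cr_spec H
  obtain ⟨g', hg'⟩ := cr_spec H'
  refine ⟨g'⁻¹ * g, ?_⟩
  rw [← cjS_mul, ← hg, h, hg', cjS_mul, inv_mul_cancel, cjS_one]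

variable {Ω : Type u} [Group Ω] {S : Subgroup Ω} {F : FusionSystem S} {p : ℕ} [Finite S] [Fact p.Prime]
variable {P Q K : Subgroup Ω} {f g h : Ω → Ω} {s t k : Ω} {hK : KS F p K}

theorem TT_rel {R R' : Subgroup ↥(DD hK)} (h : R ∈ TT hK) (hr : rel hK R R') : R' ∈ TT hK := by
  obtain ⟨φ, hφ⟩ := h
  obtain ⟨P', φ', h', hc⟩ := hφ.rel hr
  have : P' = S := Subgroup.eq_of_le_of_card_ge h'.1.le hc.ge
  subst this
  exact ⟨φ', h'⟩

theorem card_DD : Nat.card ↥(DD hK) = Nat.card S * Nat.card K := by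
  rw [← Nat.card_prod]
  refine Nat.card_congr
    { toFun := fun z => (⟨z.1.2, z.2.2.1⟩, ⟨z.1.1 * (z.1.2)⁻¹, z.2.2.2⟩)
      invFun := fun w => ⟨(w.2 * w.1, w.1), S.mul_mem (hK.le w.2.2) w.1.2, w.1.2, by
        show (w.2 : Ω) * w.1 * (w.1 : Ω)⁻¹ ∈ K
        rw [mul_inv_cancel_right]; exact w.2.2⟩
      left_inv := fun z => by
        apply Subtype.ext
        exact Prod.ext (inv_mul_cancel_right _ _) rfl
      right_inv := fun w => by
        refine Prod.ext rfl (Subtype.ext ?_)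
        exact mul_inv_cancel_right _ _ }

/-- the normalizer index of a full graph -/
theorem fx_TT {H : Subgroup ↥(DD hK)} (hH : H ∈ TT hK) :
    fx H H = Nat.card ↥(K ⊓ Subgroup.centralizer (S : Set Ω)) := by
  obtain ⟨φ, hφ⟩ := hH
  have h1 := fx_self H
  rw [hφ.card] at h1
  have hSpos : 0 < Nat.card S := Nat.card_pos
  refine Nat.eq_of_mul_eq_mul_right hSpos (h1.trans ?_)
  rw [mul_comm, ← Nat.card_prod]
  have hφi : Iso F S S φ := hφ.1.mor.iso_of_map fun x hx => hφ.1.mor.mem hx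
  have hN : ∀ z : ↥(DD hK), z ∈ Subgroup.normalizer (H : Set ↥(DD hK)) ↔
      ∀ u ∈ S, z.1.1 * φ u * (z.1.1)⁻¹ = φ (z.1.2 * u * (z.1.2)⁻¹) := by
    intro z
    constructor
    · intro hz u hu
      have h7 := (Subgroup.mem_normalizer_iff.1 hz ⟨(φ u, u), gr_mem hK hφ.1 hu⟩).1 ((hφ.2 _).2 ⟨hu, rfl⟩)
      exact ((hφ.2 _).1 h7).2
    · intro hz
      refine mem_normalizer_of_conj_mem fun w hw => ?_
      obtain ⟨e1, e2⟩ := (hφ.2 w).1 hw
      refine (hφ.2 _).2 ⟨S.mul_mem (S.mul_mem z.2.2.1 e1) (S.inv_mem z.2.2.1), ?_⟩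
      show z.1.1 * w.1.1 * (z.1.1)⁻¹ = φ (z.1.2 * w.1.2 * (z.1.2)⁻¹)
      rw [e2, hz _ e1]
  refine Nat.card_congr
    { toFun := fun z => (⟨z.1.1.2, z.1.2.2.1⟩, ⟨(φ z.1.1.2)⁻¹ * z.1.1.1, ?_, ?_⟩)
      invFun := fun w => ⟨⟨(φ w.1 * w.2, w.1), ⟨S.mul_mem (hφ.1.mor.mem w.1.2) (hK.le w.2.2.1), w.1.2, ?_⟩⟩, ?_⟩
      left_inv := fun z => by
        apply Subtype.ext; apply Subtype.ext
        exact Prod.ext (mul_inv_cancel_left _ _) rfl
      right_inv := fun w => by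
        refine Prod.ext rfl (Subtype.ext ?_)
        exact inv_mul_cancel_left _ _ }
  · have e1 := hφ.1.spec hK _ z.1.2.2.1
    rw [one_mul, inv_one, mul_one] at e1
    have e2 := K.mul_mem (K.inv_mem e1) z.1.2.2.2
    have e3 := hK.norm' (hφ.1.mor.mem z.1.2.2.1) (K.mul_mem z.1.2.2.2 (K.inv_mem e1))
    have e4 : (φ z.1.1.2)⁻¹ * (z.1.1.1 * (z.1.1.2)⁻¹ * (φ z.1.1.2 * (z.1.1.2)⁻¹)⁻¹) * φ z.1.1.2 = (φ z.1.1.2)⁻¹ * z.1.1.1 := by
      group
    rw [e4] at e3
    exact e3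
  · show _ ∈ Subgroup.centralizer (S : Set Ω)
    rw [Subgroup.mem_centralizer_iff]
    intro y hy
    obtain ⟨u, hu, rfl⟩ := hφi.mem_right.1 hy
    have e1 := (hN z.1).1 z.2 u hu
    rw [hφ.1.mor.conj z.1.2.2.1 hu] at e1
    have e2 : φ u = (φ z.1.1.2)⁻¹ * (z.1.1.1 * φ u * (z.1.1.1)⁻¹) * φ z.1.1.2 := by rw [e1]; group
    have e3 : (φ z.1.1.2)⁻¹ * z.1.1.1 * φ u = (φ z.1.1.2)⁻¹ * (z.1.1.1 * φ u * (z.1.1.1)⁻¹) * φ z.1.1.2 * ((φ z.1.1.2)⁻¹ * z.1.1.1) := by
      group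
    rw [e3, ← e2]
  · have e1 := hφ.1.spec hK _ w.1.2
    rw [one_mul, inv_one, mul_one] at e1
    have e2 := hK.norm (w.1 : Ω) w.1.2 _ w.2.2.1
    have e5 : (w.1 : Ω) * (w.2 : Ω) = (w.2 : Ω) * (w.1 : Ω) := Subgroup.mem_centralizer_iff.1 w.2.2.2 _ w.1.2
    have e6 : φ (w.1 : Ω) * (w.2 : Ω) * (w.1 : Ω)⁻¹ = φ (w.1 : Ω) * (w.1 : Ω)⁻¹ * ((w.1 : Ω) * w.2 * (w.1 : Ω)⁻¹) := by group
    show φ (w.1 : Ω) * (w.2 : Ω) * (w.1 : Ω)⁻¹ ∈ K
    rw [e6]
    exact K.mul_mem e1 e2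
  · rw [hN]
    intro u hu
    show φ w.1 * w.2 * φ u * (φ w.1 * w.2)⁻¹ = φ (w.1 * u * (w.1 : Ω)⁻¹)
    rw [hφ.1.mor.conj w.1.2 hu]
    have e5 : φ u * (w.2 : Ω) = (w.2 : Ω) * φ u := Subgroup.mem_centralizer_iff.1 w.2.2.2 _ (hφ.1.mor.mem hu)
    have e6 : φ (w.1 : Ω) * (w.2 : Ω) * φ u * (φ (w.1 : Ω) * (w.2 : Ω))⁻¹ = φ (w.1 : Ω) * ((w.2 : Ω) * φ u) * (w.2 : Ω)⁻¹ * (φ (w.1 : Ω))⁻¹ := by group
    rw [e6, ← e5]; group

/-- the initial multiplicities -/
noncomputable def n0 (hK : KS F p K) : Subgroup ↥(DD hK) → ℕ := fun H => if H ∈ TT hK ∧ cr H = H then 1 else 0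

theorem n0_ne {H : Subgroup ↥(DD hK)} (h : n0 hK H ≠ 0) : H ∈ TT hK ∧ cr H = H := by
  by_contra hne
  exact h (if_neg hne)

theorem mk_n0_TT {R : Subgroup ↥(DD hK)} (hR : R ∈ TT hK) :
    mk (n0 hK) R = Nat.card ↥(K ⊓ Subgroup.centralizer (S : Set Ω)) := by
  haveI : Fintype (Subgroup ↥(DD hK)) := Fintype.ofFinite _
  obtain ⟨g, hg⟩ := cr_spec R
  have hcT : cr R ∈ TT hK := by rw [hg]; exact TT_rel hR (rel_conj hK R g)
  rw [mk_eq]
  have hsum : ∑ H, n0 hK H * fx R H = n0 hK (cr R) * fx R (cr R) := by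
    refine Finset.sum_eq_single _ (fun H _ hne => ?_) fun h => absurd (Finset.mem_univ _) h
    by_contra hne2
    obtain ⟨h1, h2⟩ := n0_ne (left_ne_zero_of_mul hne2)
    obtain ⟨t, ht⟩ := fx_ne_zero (right_ne_zero_of_mul hne2)
    obtain ⟨φ, hφ⟩ := hR
    obtain ⟨ψ, hψ⟩ := h1
    have h3 : R = cjS t H := Subgroup.eq_of_le_of_card_ge ht (by rw [card_cjS, hφ.card, hψ.card])
    apply hne
    rw [h3, cr_eq, h2]
  have h1 : n0 hK (cr R) = 1 := if_pos ⟨hcT, cr_cr R⟩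
  have h2 : R = cjS g⁻¹ (cr R) := by rw [hg, cjS_mul, inv_mul_cancel, cjS_one]
  have h3 : fx R (cr R) = fx (cr R) (cr R) := by
    conv_lhs => rw [h2]
    have h4 : cr (cjS g⁻¹ (cr R)) = cr R := by rw [cr_eq, cr_cr]
    rw [h4]; exact fx_cj _ _
  rw [hsum, h1, one_mul, h3, fx_TT hcT]

theorem mk_n0_not {R : Subgroup ↥(DD hK)} (hA : R ∉ AA hK) (hT : R ∉ TT hK) : mk (n0 hK) R = 0 := by
  haveI : Fintype (Subgroup ↥(DD hK)) := Fintype.ofFinite _
  rw [mk_eq]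
  refine Finset.sum_eq_zero fun H _ => ?_
  by_contra hne
  obtain ⟨h1, h2⟩ := n0_ne (left_ne_zero_of_mul hne)
  obtain ⟨t, ht⟩ := fx_ne_zero (right_ne_zero_of_mul hne)
  obtain ⟨φ, hφ⟩ := TT_rel h1 (rel_conj hK H t)
  rcases graph_cases (hφ.sub ht).1 with h | h
  · exact hA h
  · exact hT h

theorem n0_marks {R R' : Subgroup ↥(DD hK)} (hr : rel hK R R') (hR : R ∉ AA hK) (hS : IsPGroup p S) (hF : F.IsSaturated p) :
    mk (n0 hK) R = mk (n0 hK) R' := by
  have hR' : R' ∉ AA hK := fun h => hR ((stab hS hF).closed _ _ h (rel_symm hK hr))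
  by_cases hT : R ∈ TT hK
  · rw [mk_n0_TT hT, mk_n0_TT (TT_rel hT hr)]
  · have hT' : R' ∉ TT hK := fun h => hT (TT_rel h (rel_symm hK hr))
    rw [mk_n0_not hR hT, mk_n0_not hR' hT']

/-- the number of classes of full graphs is prime to `p` -/
theorem card_rep (hS : IsPGroup p S) (hF : F.IsSaturated p) :
    ¬ p ∣ Nat.card {H : Subgroup ↥(DD hK) // H ∈ TT hK ∧ cr H = H} := by
  -- the group
  let A₁ : Subgroup (F.autGroup S) :=
    { carrier := {γ | Lab F p K S (fn (γ : MulAut S)) 1}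
      one_mem' := (Lab.one le_rfl).congr fun x hx => (fn_one hx).symm
      mul_mem' := by
        intro a b ha hb
        have h1 := Lab.comp hb ha fun x hx => fn_mem' _ hx
        rw [one_mul] at h1
        exact h1.congr fun x hx => (fn_mul _ _ hx).symm
      inv_mem' := by
        intro a ha
        have h1 := Lab.inv' hK ha (g := fn ((a⁻¹ : F.autGroup S) : MulAut S)) fun x hx => fn_inv_fn _ hx
        rw [(iso_fn le_rfl a.2).img_eq, inv_one] at h1
        exact h1 }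
  set I' : Subgroup (F.autGroup S) := (Inn S).subgroupOf (F.autGroup S) with hI'
  have hI'n : I'.Normal := innF_normal F S
  set I : Subgroup A₁ := I'.subgroupOf A₁ with hI
  have hind : ¬ p ∣ I.index := by
    have h1 : I.index ∣ I'.index := Subgroup.relIndex_dvd_index_of_normal I' A₁
    have h2 := (FA_iff hS le_rfl).1 (FN_FA hS hF (S_FN F))
    intro h3
    apply h2
    rw [← inn_eq_autInducedBy]
    exact h3.trans h1
  have hIm : ∀ γ : A₁, γ ∈ I ↔ ∃ k ∈ K, ∀ x ∈ S, fn ((γ : F.autGroup S) : MulAut S) x = k * x * k⁻¹ := by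
    intro γ
    rw [hI, Subgroup.mem_subgroupOf, hI', Subgroup.mem_subgroupOf, mem_inn]
    constructor
    · rintro ⟨x, hx, h1⟩
      have h2 : Lab F p K S (fn ((γ : F.autGroup S) : MulAut S)) 1 := γ.2
      have h3 : Lab F p K S (fn ((γ : F.autGroup S) : MulAut S)) x :=
        (Lab.conj le_rfl hx).congr fun y hy => by rw [fn_mem _ hy, h1 ⟨y, hy⟩]
      obtain ⟨g', hg', h4⟩ := h2.inv hK
      have h5 : img S (fn ((γ : F.autGroup S) : MulAut S)) = S := (iso_fn le_rfl (γ : F.autGroup S).2).img_eq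
      have h6 := (h3.comp hg' fun y hy => by rw [h5]; exact fn_mem' _ hy).congr (g := fun y => y) h4
      rw [inv_one, one_mul] at h6
      obtain ⟨k, hk, c, hc, hkc⟩ := ker hS hF hK (FN_FC hS hF (S_FN F)) h6
      refine ⟨k, hk, fun y hy => ?_⟩
      have h7 := (mem_centralizerIn.1 hc).2 y hy
      rw [fn_mem _ hy, h1 ⟨y, hy⟩]
      show x * y * x⁻¹ = k * y * k⁻¹
      rw [hkc]
      have h8 : k * c * y * (k * c)⁻¹ = k * (c * y) * c⁻¹ * k⁻¹ := by group
      rw [h8, ← h7]; group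
    · rintro ⟨k, hk, h1⟩
      exact ⟨k, hK.le hk, fun y => by rw [← h1 y y.2, fn_mem _ y.2]⟩
  -- the map
  have hgrT : ∀ γ : A₁, gr hK γ.2 ∈ TT hK := fun γ => ⟨_, gr_isGr hK γ.2⟩
  let f : A₁ → {H : Subgroup ↥(DD hK) // H ∈ TT hK ∧ cr H = H} := fun γ =>
    ⟨cr (gr hK γ.2), by
      obtain ⟨g, hg⟩ := cr_spec (gr hK γ.2)
      rw [hg]; exact TT_rel (hgrT γ) (rel_conj hK _ g), cr_cr _⟩
  have hf : ∀ γ γ' : A₁, f γ = f γ' ↔ γ⁻¹ * γ' ∈ I := by
    intro γ γ'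
    have hγi : Iso F S S (fn ((γ : F.autGroup S) : MulAut S)) := iso_fn le_rfl (γ : F.autGroup S).2
    constructor
    · intro e
      have e' : cr (gr hK γ.2) = cr (gr hK γ'.2) :=
        congrArg (fun t : {H : Subgroup ↥(DD hK) // H ∈ TT hK ∧ cr H = H} => t.1) e
      obtain ⟨g, hg⟩ := exists_cj_of_cr e'
      rw [hIm]
      have h1 : ∀ u ∈ S, g.1.1 * fn ((γ : F.autGroup S) : MulAut S) u * (g.1.1)⁻¹ =
          fn ((γ' : F.autGroup S) : MulAut S) (g.1.2 * u * (g.1.2)⁻¹) := by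
        intro u hu
        have h2 : (g * ⟨(fn ((γ : F.autGroup S) : MulAut S) u, u), gr_mem hK γ.2 hu⟩ * g⁻¹ : ↥(DD hK)) ∈ gr hK γ'.2 := by
          rw [hg]
          exact ⟨_, ⟨hu, rfl⟩, rfl⟩
        exact h2.2
      have hinv : Lab F p K S (fn (((γ⁻¹ : A₁) : F.autGroup S) : MulAut S)) 1 := (γ⁻¹).2
      set k := fn (((γ⁻¹ : A₁) : F.autGroup S) : MulAut S) g.1.1 * (g.1.2)⁻¹ with hk
      refine ⟨k, ?_, fun x hx => ?_⟩
      · have h3 := hinv.spec hK _ g.2.1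
        rw [one_mul, inv_one, mul_one] at h3
        have h4 := K.mul_mem h3 g.2.2.2
        have h5 : fn (((γ⁻¹ : A₁) : F.autGroup S) : MulAut S) g.1.1 * (g.1.1)⁻¹ * (g.1.1 * (g.1.2)⁻¹) = k := by
          rw [hk]; group
        rw [h5] at h4; exact h4
      · have hx' : (g.1.2)⁻¹ * x * g.1.2 ∈ S := S.mul_mem (S.mul_mem (S.inv_mem g.2.2.1) hx) g.2.2.1
        have h3 := h1 _ hx'
        have h4 : g.1.2 * ((g.1.2)⁻¹ * x * g.1.2) * (g.1.2)⁻¹ = x := by group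
        rw [h4] at h3
        show fn ((((γ⁻¹ * γ' : A₁)) : F.autGroup S) : MulAut S) x = k * x * k⁻¹
        have h5 : fn ((((γ⁻¹ * γ' : A₁)) : F.autGroup S) : MulAut S) x =
            fn (((γ⁻¹ : A₁) : F.autGroup S) : MulAut S) (fn ((γ' : F.autGroup S) : MulAut S) x) := fn_mul _ _ hx
        have hγS : fn ((γ : F.autGroup S) : MulAut S) ((g.1.2)⁻¹ * x * g.1.2) ∈ S := fn_mem' _ hx'
        rw [h5, ← h3, hinv.mor.mul (S.mul_mem g.2.1 hγS) (S.inv_mem g.2.1), hinv.mor.mul g.2.1 hγS, hinv.mor.inv g.2.1]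
        have h6 : fn (((γ⁻¹ : A₁) : F.autGroup S) : MulAut S) (fn ((γ : F.autGroup S) : MulAut S) ((g.1.2)⁻¹ * x * g.1.2)) =
          (g.1.2)⁻¹ * x * g.1.2 := fn_inv_fn _ hx'
        rw [h6, hk]; group
    · intro h
      obtain ⟨k, hk, h1⟩ := (hIm _).1 h
      have hkS := hK.le hk
      have h2 : ∀ x ∈ S, fn ((γ' : F.autGroup S) : MulAut S) x = fn ((γ : F.autGroup S) : MulAut S) (k * x * k⁻¹) := by
        intro x hx
        rw [← h1 x hx]
        have h3 : fn ((((γ⁻¹ * γ' : A₁)) : F.autGroup S) : MulAut S) x =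
            fn (((γ⁻¹ : A₁) : F.autGroup S) : MulAut S) (fn ((γ' : F.autGroup S) : MulAut S) x) := fn_mul _ _ hx
        rw [h3]
        exact (fn_fn_inv _ (fn_mem' _ hx)).symm
      have hγ : Lab F p K S (fn ((γ : F.autGroup S) : MulAut S)) 1 := γ.2
      have hγk : fn ((γ : F.autGroup S) : MulAut S) k ∈ K := by
        have h3 := hγ.spec hK _ hkS
        rw [one_mul, inv_one, mul_one] at h3
        have h4 := K.mul_mem h3 hk
        rwa [inv_mul_cancel_right] at h4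
      apply Subtype.ext
      show cr (gr hK γ.2) = cr (gr hK γ'.2)
      have hgm : ((fn ((γ : F.autGroup S) : MulAut S) k, 1) : Ω × Ω) ∈ DD hK :=
        ⟨hK.le hγk, S.one_mem, by simpa using hγk⟩
      have h5 : gr hK γ'.2 = cjS (⟨_, hgm⟩ : ↥(DD hK)) (gr hK γ.2) := by
        ext z
        rw [mem_cjS]
        have e1 : ((⟨_, hgm⟩ : ↥(DD hK))⁻¹ * z * (⟨_, hgm⟩ : ↥(DD hK))).1.2 = z.1.2 := by
          show (1 : Ω)⁻¹ * z.1.2 * 1 = z.1.2
          group
        have e2 : ((⟨_, hgm⟩ : ↥(DD hK))⁻¹ * z * (⟨_, hgm⟩ : ↥(DD hK))).1.1 =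
          (fn ((γ : F.autGroup S) : MulAut S) k)⁻¹ * z.1.1 * (fn ((γ : F.autGroup S) : MulAut S) k) := rfl
        constructor
        · rintro ⟨h6, h7⟩
          refine ⟨by rw [e1]; exact h6, ?_⟩
          rw [e1, e2]
          have h7 : z.1.1 = fn ((γ' : F.autGroup S) : MulAut S) z.1.2 := h7
          rw [h7, h2 _ h6, hγ.mor.conj hkS h6]; group
        · rintro ⟨h6, h7⟩
          rw [e1] at h6
          rw [e1, e2] at h7
          refine ⟨h6, ?_⟩
          show z.1.1 = fn ((γ' : F.autGroup S) : MulAut S) z.1.2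
          rw [h2 _ h6, hγ.mor.conj hkS h6]
          have h7 : (fn ((γ : F.autGroup S) : MulAut S) k)⁻¹ * z.1.1 * (fn ((γ : F.autGroup S) : MulAut S) k) =
            fn ((γ : F.autGroup S) : MulAut S) z.1.2 := h7
          rw [← h7]; group
      rw [h5, cr_eq]
  have hfs : Function.Surjective f := by
    rintro ⟨H, ⟨φ, hφ⟩, hc⟩
    have hφi : Iso F S S φ := hφ.1.mor.iso_of_map fun x hx => hφ.1.mor.mem hx
    have hL : Lab F p K S (fn (autOf hφi)) 1 := hφ.1.congr fun x hx => by rw [fn_mem _ hx]; rfl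
    refine ⟨⟨⟨autOf hφi, autOf_mem hφi⟩, hL⟩, ?_⟩
    apply Subtype.ext
    show cr (gr hK hL) = H
    have : gr hK hL = H := by
      ext z
      rw [hφ.2 z]
      constructor
      · rintro ⟨h1, h2⟩
        refine ⟨h1, ?_⟩
        have h2 : z.1.1 = fn (autOf hφi) z.1.2 := h2
        rw [h2, fn_mem _ h1]; rfl
      · rintro ⟨h1, h2⟩
        refine ⟨h1, ?_⟩
        show z.1.1 = fn (autOf hφi) z.1.2
        rw [h2, fn_mem _ h1]; rfl
    rw [this, hc]
  have hcard : Nat.card {H : Subgroup ↥(DD hK) // H ∈ TT hK ∧ cr H = H} = I.index := by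
    show _ = Nat.card (A₁ ⧸ I)
    symm
    refine Nat.card_eq_of_bijective (fun q : A₁ ⧸ I => Quotient.liftOn' q f fun a b hab => ?_) ⟨?_, ?_⟩
    · exact (hf a b).2 (QuotientGroup.leftRel_apply.1 hab)
    · intro q q' h
      induction q using QuotientGroup.induction_on with
      | H a =>
      induction q' using QuotientGroup.induction_on with
      | H b =>
      exact QuotientGroup.eq.2 ((hf a b).1 h)
    · intro H
      obtain ⟨a, ha⟩ := hfs H
      exact ⟨(a : A₁ ⧸ I), ha⟩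
  rw [hcard]; exact hind

/-- **existence of characteristic bisets** -/
theorem exists_biset (hS : IsPGroup p S) (hF : F.IsSaturated p) (hK : KS F p K) :
    ∃ n : Subgroup ↥(DD hK) → ℕ, (∀ H, n H ≠ 0 → ∃ P φ, IsGr hK H P φ) ∧
      (∀ R R', rel hK R R' → mk n R = mk n R') ∧ ∃ N, ¬ p ∣ N ∧ Nat.card (YY n) = Nat.card K * N := by
  haveI : Fintype (Subgroup ↥(DD hK)) := Fintype.ofFinite _
  obtain ⟨n, hn1, hn2, hn3⟩ := stabilize (stab (hK := hK) hS hF) (n0 hK) fun R R' hr hR => n0_marks hr hR hS hF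
  have hgr : ∀ H, n H ≠ 0 → ∃ P φ, IsGr hK H P φ := by
    intro H hH
    by_cases hA : H ∈ AA hK
    · obtain ⟨P, φ, h, _⟩ := hA; exact ⟨P, φ, h⟩
    · rw [hn2 H hA] at hH
      obtain ⟨⟨φ, hφ⟩, _⟩ := n0_ne hH
      exact ⟨S, φ, hφ⟩
  refine ⟨n, hgr, hn3, ∑ H, n H * (Nat.card S / Nat.card H), ?_, ?_⟩
  · have hmod : (∑ H, n H * (Nat.card S / Nat.card H)) ≡ ∑ H, n0 hK H [MOD p] := by
      have key : ∀ H : Subgroup ↥(DD hK), n H * (Nat.card S / Nat.card H) ≡ n0 hK H [MOD p] := by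
        intro H
        by_cases hA : H ∈ AA hK
        · have hn0 : n0 hK H = 0 := by
            by_contra hne
            obtain ⟨⟨φ, hφ⟩, _⟩ := n0_ne hne
            obtain ⟨P, ψ, hψ, hP⟩ := hA
            have h1 := hφ.card
            rw [hψ.card] at h1
            exact hP.ne (Subgroup.eq_of_le_of_card_ge hP.le h1.ge)
          obtain ⟨P, φ, h, hP⟩ := hA
          rw [hn0, h.card]
          refine (Nat.modEq_zero_iff_dvd).2 (Dvd.dvd.mul_left ?_ _)
          have hfinP : Finite P := finite_of_le hP.le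
          obtain ⟨a, ha⟩ := (IsPGroup.iff_card (p := p)).1 (isPGroup_le hS hP.le)
          obtain ⟨b, hb⟩ := (IsPGroup.iff_card (p := p)).1 hS
          have hlt : Nat.card P < Nat.card S :=
            lt_of_le_of_ne (Subgroup.card_le_of_le hP.le) fun h' => hP.ne (Subgroup.eq_of_le_of_card_ge hP.le h'.ge)
          have hp1 : 1 < p := (Fact.out : p.Prime).one_lt
          have hab : a < b := by
            rw [ha, hb] at hlt
            exact (Nat.pow_lt_pow_iff_right hp1).1 hlt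
          rw [ha, hb, Nat.pow_div hab.le (by omega)]
          exact dvd_pow_self p (by omega)
        · rw [hn2 H hA]
          by_cases h0 : n0 hK H = 0
          · rw [h0, zero_mul]
          · obtain ⟨⟨φ, hφ⟩, _⟩ := n0_ne h0
            rw [hφ.card, Nat.div_self Nat.card_pos, mul_one]
      exact Nat.ModEq.sum fun H _ => key H
    have hsum : ∑ H, n0 hK H = Nat.card {H : Subgroup ↥(DD hK) // H ∈ TT hK ∧ cr H = H} := by
      rw [Nat.card_eq_fintype_card, Fintype.card_subtype]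
      unfold n0
      rw [Finset.card_filter]
    intro hdvd
    apply card_rep (hK := hK) hS hF
    rw [← hsum]
    exact (Nat.modEq_zero_iff_dvd).1 (hmod.symm.trans ((Nat.modEq_zero_iff_dvd).2 hdvd))
  · rw [card_YY, Finset.mul_sum]
    refine Finset.sum_congr rfl fun H _ => ?_
    by_cases h0 : n H = 0
    · rw [h0, zero_mul, zero_mul, mul_zero]
    · obtain ⟨P, φ, h⟩ := hgr H h0
      have h1 : Nat.card H * H.index = Nat.card S * Nat.card K := by rw [Subgroup.card_mul_index, card_DD]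
      rw [h.card] at h1
      have h2 : Nat.card P ∣ Nat.card S := Subgroup.card_dvd_of_le h.1.le
      obtain ⟨q, hq⟩ := h2
      have hPpos : 0 < Nat.card P := by
        have : Finite P := finite_of_le h.1.le
        exact Nat.card_pos
      have h3 : H.index = q * Nat.card K := by
        rw [hq, mul_assoc] at h1
        exact Nat.eq_of_mul_eq_mul_left hPpos h1
      rw [h.card, h3, hq, Nat.mul_div_cancel_left _ hPpos]
      ring

end Cfsg.Agent.Lib.BisD
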