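import Cfsg.Agent.Lib.BisD

/-!
The transfer map attached to a characteristic biset.
-/

set_option autoImplicit false
set_option linter.unusedSectionVars false
set_option linter.style.haveILetI false
set_option linter.unusedVariables false

namespace Cfsg.Agent.Lib.BisE

open Cfsg Cfsg.FusionSystem Cfsg.Agent.Lib.FusBase Cfsg.Agent.Lib.FusSat Cfsg.Agent.Lib.StrongEmb
open Cfsg.Agent.Lib.FusAlperin Cfsg.Agent.Lib.FusNormal Cfsg.Agent.Lib.FusNormalB Cfsg.Agent.Lib.SylRel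
open Cfsg.Agent.Lib.FusSub Cfsg.Agent.Lib.FusPuig Cfsg.Agent.Lib.FusNK Cfsg.Agent.Lib.FusNKB Cfsg.Agent.Lib.FusMor Cfsg.Agent.Lib.FusGroup
open Cfsg.Agent.Lib.FusHyp Cfsg.Agent.Lib.FusHypB Cfsg.Agent.Lib.LabA Cfsg.Agent.Lib.LabB Cfsg.Agent.Lib.LabC
open Cfsg.Agent.Lib.BisA Cfsg.Agent.Lib.BisB Cfsg.Agent.Lib.BisC Cfsg.Agent.Lib.BisD
open scoped Classical

universe u v w

/-- equivariant maps to an abelian group -/
theorem exists_c {G : Type u} [Group G] {X : Type v} [MulAction G X] {A : Type w} [CommGroup A] (μ : G →* A)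
    (h : ∀ (g : G) (x : X), g • x = x → μ g = 1) : ∃ c : X → A, ∀ (g : G) (x : X), c (g • x) = μ g * c x := by
  let Z := Quotient (MulAction.orbitRel G X)
  have h1 : ∀ x : X, ∃ g : G, g • (Quotient.out (Quotient.mk (MulAction.orbitRel G X) x)) = x := by
    intro x
    have h2 : (MulAction.orbitRel G X) x (Quotient.out (Quotient.mk (MulAction.orbitRel G X) x)) :=
      Quotient.exact (Quotient.out_eq _).symm
    obtain ⟨g, hg⟩ := h2
    exact ⟨g, hg⟩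
  choose r hr using h1
  refine ⟨fun x => μ (r x), fun g x => ?_⟩
  have h2 : Quotient.mk (MulAction.orbitRel G X) (g • x) = Quotient.mk (MulAction.orbitRel G X) x :=
    Quotient.sound ⟨g, rfl⟩
  have h3 := hr (g • x)
  rw [h2] at h3
  have h4 : ((g * r x)⁻¹ * r (g • x)) • (Quotient.out (Quotient.mk (MulAction.orbitRel G X) x)) =
      Quotient.out (Quotient.mk (MulAction.orbitRel G X) x) := by
    rw [mul_smul, h3, inv_smul_eq_iff, mul_smul, hr x]
  have h5 := h _ _ h4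
  rw [map_mul, map_inv, inv_mul_eq_one, map_mul] at h5
  exact h5.symm

variable {Ω : Type u} [Group Ω] {S : Subgroup Ω} {F : FusionSystem S} {p : ℕ} [Finite S] [Fact p.Prime]
variable {P Q K : Subgroup Ω} {f g h : Ω → Ω} {s t k : Ω} {hK : KS F p K}

/-- a characteristic biset over `S / K` -/
structure Bis (hK : KS F p K) (Y : Type u) [MulAction ↥(DD hK) Y] : Prop where
  stab : ∀ y : Y, ∃ P φ, IsGr hK (MulAction.stabilizer ↥(DD hK) y) P φ
  marks : ∀ R R', rel hK R R' → (Fix Y R).ncard = (Fix Y R').ncard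
  card : ∃ N, ¬ p ∣ N ∧ Nat.card Y = Nat.card K * N

theorem stabilizer_YY {G : Type u} [Group G] (n : Subgroup G → ℕ) (y : YY n) :
    ∃ H g, n H ≠ 0 ∧ MulAction.stabilizer G y = cjS g H := by
  obtain ⟨H, i, q⟩ := y
  obtain ⟨g, rfl⟩ := QuotientGroup.mk_surjective q
  refine ⟨H, g, ?_, ?_⟩
  · intro e
    have := i.isLt
    omega
  · ext x
    rw [mem_cjS]
    constructor
    · intro h
      have h3 : (⟨H, i, x • (g : G ⧸ H)⟩ : YY n) = ⟨H, i, (g : G ⧸ H)⟩ := h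
      have h5 := eq_of_heq (Sigma.mk.inj_iff.1 h3).2
      have h6 : ((x * g : G) : G ⧸ H) = (g : G ⧸ H) := congrArg Prod.snd h5
      have h7 := QuotientGroup.eq.1 h6.symm
      rwa [← mul_assoc] at h7
    · intro h
      have h6 : ((x * g : G) : G ⧸ H) = (g : G ⧸ H) := by
        refine (QuotientGroup.eq.2 ?_).symm
        rwa [← mul_assoc]
      show (⟨H, i, ((x * g : G) : G ⧸ H)⟩ : YY n) = ⟨H, i, (g : G ⧸ H)⟩
      rw [h6]

theorem exists_Bis (hS : IsPGroup p S) (hF : F.IsSaturated p) (hK : KS F p K) :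
    ∃ (Y : Type u) (_ : MulAction ↥(DD hK) Y) (_ : Finite Y), Bis hK Y := by
  obtain ⟨n, h1, h2, h3⟩ := exists_biset hS hF hK
  refine ⟨YY n, inferInstance, inferInstance, ⟨fun y => ?_, h2, h3⟩⟩
  obtain ⟨H, g, hH, hy⟩ := stabilizer_YY n y
  obtain ⟨P, φ, hφ⟩ := h1 H hH
  rw [hy]
  obtain ⟨P', φ', h', _⟩ := hφ.rel (rel_conj hK H g)
  exact ⟨P', φ', h'⟩

variable {Y : Type u} [MulAction ↥(DD hK) Y] [Finite Y]

theorem Bis.nonempty (hY : Bis hK Y) : Nonempty Y := by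
  obtain ⟨N, h1, h2⟩ := hY.card
  by_contra hne
  have : IsEmpty Y := not_nonempty_iff.1 hne
  rw [Nat.card_of_isEmpty] at h2
  have hfK : Finite K := finite_of_le hK.le
  rcases Nat.mul_eq_zero.1 h2.symm with h | h
  · exact Nat.card_pos.ne' h
  · exact h1 (h ▸ dvd_zero p)

/-- stability: twisting the left action by a labelled map with trivial label -/
theorem Bis.twist (hY : Bis hK Y) {f : Ω → Ω} (hf : Lab F p K P f 1) :
    ∃ σ : Y → Y, Function.Bijective σ ∧ ∀ (z : ↥(DD hK)) (hz : z.1.1 ∈ P) (y : Y),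
      σ (z • y) = (⟨(f z.1.1, z.1.2), act_mem hf (Lab.one le_rfl) z.2 hz z.2.2.1⟩ : ↥(DD hK)) • σ y := by
  let DP : Subgroup ↥(DD hK) := P.comap ((MonoidHom.fst Ω Ω).comp (DD hK).subtype)
  have hDP : ∀ z : DP, z.1.1.1 ∈ P := fun z => z.2
  let τ : DP →* ↥(DD hK) := MonoidHom.mk' (fun z => ⟨(f z.1.1.1, z.1.1.2), act_mem hf (Lab.one le_rfl) z.1.2 (hDP z) z.1.2.2.1⟩) (by
    intro z w
    apply Subtype.ext
    refine Prod.ext ?_ rfl
    show f (z.1.1.1 * w.1.1.1) = f z.1.1.1 * f w.1.1.1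
    exact hf.mor.mul (hDP z) (hDP w))
  haveI := hY.nonempty
  haveI : Nonempty (Tw τ Y) := hY.nonempty
  obtain ⟨σ, hσ, hσe⟩ := burnside (G := DP) (X := Tw DP.subtype Y) (Y := Tw τ Y) (by
    intro R
    have e1 : (Fix (Tw DP.subtype Y) R).ncard = (Fix Y (R.map DP.subtype)).ncard := congrArg Set.ncard (Fix_Tw DP.subtype Y R)
    have e2 : (Fix (Tw τ Y) R).ncard = (Fix Y (R.map τ)).ncard := congrArg Set.ncard (Fix_Tw τ Y R)
    rw [e1, e2]
    apply hY.marks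
    refine ⟨f, fun x => x, 1, hf.restrict ?_, Lab.one (pr2_le hK _), fun z => ⟨?_, ?_⟩⟩
    · rintro _ ⟨_, ⟨w, hw, rfl⟩, rfl⟩
      exact hDP w
    · rintro ⟨w, hw, rfl⟩
      exact ⟨w.1, ⟨w, hw, rfl⟩, rfl, rfl⟩
    · rintro ⟨_, ⟨w, hw, rfl⟩, e3, e4⟩
      exact ⟨w, hw, Subtype.ext (Prod.ext e3.symm e4.symm)⟩)
  exact ⟨σ, hσ, fun z hz y => hσe ⟨z, hz⟩ y⟩

/-- the right action of `K` -/
def kk (hK : KS F p K) : K →* ↥(DD hK) := MonoidHom.mk' (fun k => ⟨(1, (k : Ω)), S.one_mem, hK.le k.2, by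
  show (1 : Ω) * (k : Ω)⁻¹ ∈ K
  rw [one_mul]; exact K.inv_mem k.2⟩) (by
    intro a b
    apply Subtype.ext
    exact Prod.ext (by simp) rfl)

theorem Bis.free (hY : Bis hK Y) {k : K} {y : Y} (h : kk hK k • y = y) : k = 1 := by
  obtain ⟨P, φ, hφ⟩ := hY.stab y
  obtain ⟨h1, h2⟩ := (hφ.2 (kk hK k)).1 h
  exact Subtype.ext (hφ.1.mor.eq_one h1 h2.symm)

/-- the diagonal -/
def dg (hK : KS F p K) : S →* ↥(DD hK) := MonoidHom.mk' (fun x => ⟨((x : Ω), (x : Ω)), x.2, x.2, by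
  show (x : Ω) * (x : Ω)⁻¹ ∈ K
  rw [mul_inv_cancel]; exact K.one_mem⟩) (by
    intro a b
    apply Subtype.ext
    exact Prod.ext rfl rfl)

/-- `K`-orbits -/
def zs (hK : KS F p K) (Y : Type u) [MulAction ↥(DD hK) Y] : Setoid Y where
  r y y' := ∃ k : K, y' = kk hK k • y
  iseqv := ⟨fun y => ⟨1, by rw [map_one, one_smul]⟩, fun {y y'} ⟨k, hk⟩ => ⟨k⁻¹, by rw [hk, map_inv, inv_smul_smul]⟩,
    fun {x y z} ⟨k, hk⟩ ⟨l, hl⟩ => ⟨l * k, by rw [hl, hk, map_mul, mul_smul]⟩⟩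

abbrev ZZ (hK : KS F p K) (Y : Type u) [MulAction ↥(DD hK) Y] := Quotient (zs hK Y)

noncomputable instance : Fintype (ZZ hK Y) := Fintype.ofFinite _

theorem out_spec (y : Y) : ∃ k : K, (Quotient.out (Quotient.mk (zs hK Y) y)) = kk hK k • y :=
  Quotient.exact (s := zs hK Y) (Quotient.out_eq _).symm

theorem Bis.card_Y (hY : Bis hK Y) : Nat.card Y = Nat.card K * Nat.card (ZZ hK Y) := by
  rw [← Nat.card_prod]
  symm
  refine Nat.card_eq_of_bijective (fun w : K × ZZ hK Y => kk hK w.1 • w.2.out) ⟨?_, ?_⟩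
  · rintro ⟨k, i⟩ ⟨l, j⟩ h
    have h : kk hK k • i.out = kk hK l • j.out := h
    have hij : i = j := by
      rw [← Quotient.out_eq i, ← Quotient.out_eq j]
      refine Quotient.sound ⟨l⁻¹ * k, ?_⟩
      rw [map_mul, mul_smul, h, map_inv, inv_smul_smul]
    subst hij
    have h2 : kk hK (l⁻¹ * k) • i.out = i.out := by rw [map_mul, mul_smul, h, map_inv, inv_smul_smul]
    have h3 := hY.free h2
    rw [inv_mul_eq_one] at h3
    rw [h3]
  · intro y
    obtain ⟨k, hk⟩ := out_spec (hK := hK) y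
    refine ⟨(k⁻¹, Quotient.mk (zs hK Y) y), ?_⟩
    show kk hK k⁻¹ • (Quotient.out (Quotient.mk (zs hK Y) y)) = y
    rw [hk, map_inv, inv_smul_smul]

theorem Bis.card_Z (hY : Bis hK Y) : ¬ p ∣ Nat.card (ZZ hK Y) := by
  obtain ⟨N, h1, h2⟩ := hY.card
  have hfK : Finite K := finite_of_le hK.le
  rw [hY.card_Y] at h2
  rw [Nat.eq_of_mul_eq_mul_left Nat.card_pos h2]
  exact h1

variable {A : Type v} [CommGroup A]

noncomputable def prodZ (hK : KS F p K) {Y : Type u} [MulAction ↥(DD hK) Y] [Finite Y] (b : Y → A) : A :=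
  ∏ i : ZZ hK Y, b i.out

theorem inv_out {b : Y → A} (hb : ∀ (k : K) y, b (kk hK k • y) = b y) (y : Y) :
    b (Quotient.out (Quotient.mk (zs hK Y) y)) = b y := by
  obtain ⟨k, hk⟩ := out_spec (hK := hK) y
  rw [hk, hb]

theorem prodZ_comp {b : Y → A} (hb : ∀ (k : K) y, b (kk hK k • y) = b y) {σ : Y → Y} (hσ : Function.Surjective σ)
    (h : ∀ (k : K) y, ∃ k' : K, σ (kk hK k • y) = kk hK k' • σ y) : prodZ hK (fun y => b (σ y)) = prodZ hK b := by
  unfold prodZ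
  let τ : ZZ hK Y → ZZ hK Y := fun i => Quotient.mk (zs hK Y) (σ i.out)
  have hτs : Function.Surjective τ := by
    intro j
    obtain ⟨y, hy⟩ := hσ j.out
    refine ⟨Quotient.mk (zs hK Y) y, ?_⟩
    obtain ⟨k, hk⟩ := out_spec (hK := hK) y
    obtain ⟨k', hk'⟩ := h k y
    show Quotient.mk (zs hK Y) (σ (Quotient.out (Quotient.mk (zs hK Y) y))) = j
    rw [hk, hk', hy, ← Quotient.out_eq j]
    refine Quotient.sound (s := zs hK Y) ⟨k'⁻¹, ?_⟩
    rw [Quotient.out_eq, map_inv, inv_smul_smul]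
  have hτ : Function.Bijective τ := Finite.injective_iff_bijective.1 (Finite.injective_iff_surjective.2 hτs)
  rw [← Function.Bijective.prod_comp hτ (fun j : ZZ hK Y => b j.out)]
  refine Finset.prod_congr rfl fun i _ => ?_
  exact (inv_out (hK := hK) hb _).symm

/-- the cocycle -/
def bb (hK : KS F p K) {Y : Type u} [MulAction ↥(DD hK) Y] (c : Y → A) (x : S) (y : Y) : A := c (dg hK x • y) * (c y)⁻¹

/-- `c` is equivariant -/
def Eqv (hK : KS F p K) {Y : Type u} [MulAction ↥(DD hK) Y] (l : K →* A) (c : Y → A) : Prop :=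
  ∀ (k : K) (y : Y), c (kk hK k • y) = l k * c y

/-- the invariance of `l` -/
def LInv (S : Subgroup Ω) {K : Subgroup Ω} (l : K →* A) : Prop := ∀ (s : Ω) (hs : s ∈ S) (k : K) (h : s * k * s⁻¹ ∈ K), l ⟨s * k * s⁻¹, h⟩ = l k

theorem dg_kk (x : S) (k : K) : dg hK x * kk hK k = kk hK ⟨(x : Ω) * k * (x : Ω)⁻¹, hK.norm x x.2 k k.2⟩ * dg hK x := by
  apply Subtype.ext
  refine Prod.ext ?_ ?_
  · show (x : Ω) * 1 = 1 * x
    rw [mul_one, one_mul]
  · show (x : Ω) * k = (x : Ω) * k * (x : Ω)⁻¹ * x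
    group

theorem bb_inv {l : K →* A} (hl : LInv S l) {c : Y → A} (hc : Eqv hK l c) (x : S) (k : K) (y : Y) :
    bb hK c x (kk hK k • y) = bb hK c x y := by
  unfold bb
  rw [← mul_smul, dg_kk, mul_smul, hc, hc, hl x x.2 k]
  rw [mul_inv, mul_mul_mul_comm, mul_inv_cancel, one_mul]

theorem exists_eqv (hY : Bis hK Y) (l : K →* A) : ∃ c : Y → A, Eqv hK l c := by
  obtain ⟨c, hc⟩ := exists_c (G := K) (X := Tw (kk hK) Y) l (fun g x h => by rw [hY.free h, map_one])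
  exact ⟨c, hc⟩

theorem dg_map (x : S) (k : K) (y : Y) : ∃ k' : K, dg hK x • kk hK k • y = kk hK k' • dg hK x • y := by
  refine ⟨⟨(x : Ω) * k * (x : Ω)⁻¹, hK.norm x x.2 k k.2⟩, ?_⟩
  rw [← mul_smul, dg_kk, mul_smul]

/-- the transfer -/
noncomputable def Bm {l : K →* A} (hl : LInv S l) {c : Y → A} (hc : Eqv hK l c) : S →* A :=
  MonoidHom.mk' (fun x => prodZ hK (bb hK c x)) (by
    intro x x'
    have h1 : prodZ hK (fun y => bb hK c x (dg hK x' • y)) = prodZ hK (bb hK c x) :=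
      prodZ_comp (hK := hK) (bb_inv hl hc x) (MulAction.surjective (dg hK x')) (dg_map x')
    rw [← h1]
    unfold prodZ
    rw [← Finset.prod_mul_distrib]
    refine Finset.prod_congr rfl fun i _ => ?_
    unfold bb
    rw [map_mul, mul_smul]
    group)

theorem Bm_apply {l : K →* A} (hl : LInv S l) {c : Y → A} (hc : Eqv hK l c) (x : S) :
    Bm hl hc x = prodZ hK (bb hK c x) := rfl

/-- independence of the choice -/
theorem prodZ_indep {l : K →* A} (hl : LInv S l) {c c' : Y → A} (hc : Eqv hK l c) (hc' : Eqv hK l c') (x : S) :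
    prodZ hK (bb hK c x) = prodZ hK (bb hK c' x) := by
  set e : Y → A := fun y => c' y * (c y)⁻¹ with he
  have hei : ∀ (k : K) y, e (kk hK k • y) = e y := by
    intro k y
    show c' (kk hK k • y) * (c (kk hK k • y))⁻¹ = c' y * (c y)⁻¹
    rw [hc, hc', mul_inv, mul_mul_mul_comm, mul_inv_cancel, one_mul]
  have h1 : prodZ hK (fun y => e (dg hK x • y)) = prodZ hK e := prodZ_comp (hK := hK) hei (MulAction.surjective (dg hK x)) (dg_map x)
  have h2 : prodZ hK (bb hK c' x) = prodZ hK (bb hK c x) * (prodZ hK (fun y => e (dg hK x • y)) * (prodZ hK e)⁻¹) := by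
    unfold prodZ
    rw [← Finset.prod_inv_distrib, ← Finset.prod_mul_distrib, ← Finset.prod_mul_distrib]
    refine Finset.prod_congr rfl fun i _ => ?_
    show c' (dg hK x • i.out) * (c' i.out)⁻¹ = c (dg hK x • i.out) * (c i.out)⁻¹ *
      (c' (dg hK x • i.out) * (c (dg hK x • i.out))⁻¹ * (c' i.out * (c i.out)⁻¹)⁻¹)
    generalize c' (dg hK x • i.out) = a
    generalize c' i.out = b
    generalize c (dg hK x • i.out) = d
    generalize c i.out = e
    rw [mul_inv, inv_inv]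
    calc a * b⁻¹ = (d * d⁻¹) * (e * e⁻¹) * (a * b⁻¹) := by rw [mul_inv_cancel, mul_inv_cancel, one_mul, one_mul]
      _ = d * e⁻¹ * (a * d⁻¹ * (b⁻¹ * e)) := by
        simp only [mul_comm, mul_left_comm, mul_assoc]
  rw [h2, h1, mul_inv_cancel, mul_one]

/-- **the key property of the transfer** -/
theorem Bm_rel (hY : Bis hK Y) {l : K →* A} (hl : LInv S l) {c : Y → A} (hc : Eqv hK l c) {f : Ω → Ω} (hf : Lab F p K P f 1)
    {x : Ω} (hx : x ∈ P) (h1 : f x * x⁻¹ ∈ K) :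
    Bm hl hc ⟨f x, hf.mor.mem hx⟩ = (l ⟨f x * x⁻¹, h1⟩) ^ Nat.card (ZZ hK Y) * Bm hl hc ⟨x, hf.le hx⟩ := by
  obtain ⟨σ, hσ, hσe⟩ := hY.twist hf
  have hσk : ∀ (k : K) (y : Y), σ (kk hK k • y) = kk hK k • σ y := by
    intro k y
    have h2 := hσe (kk hK k) P.one_mem y
    rw [h2]
    congr 1
    apply Subtype.ext
    refine Prod.ext ?_ rfl
    exact hf.mor.one
  have hc' : Eqv hK l (fun y => c (σ y)) := by
    intro k y
    show c (σ (kk hK k • y)) = l k * c (σ y)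
    rw [hσk, hc]
  rw [Bm_apply, Bm_apply, prodZ_indep hl hc hc' ⟨x, hf.le hx⟩]
  rw [← prodZ_comp (hK := hK) (bb_inv hl hc ⟨f x, hf.mor.mem hx⟩) hσ.surjective (fun k y => ⟨k, hσk k y⟩)]
  unfold prodZ
  rw [← Fintype.card_eq_nat_card, ← Finset.card_univ, ← Finset.prod_const, ← Finset.prod_mul_distrib]
  refine Finset.prod_congr rfl fun i _ => ?_
  have hd : dg hK (⟨f x, hf.mor.mem hx⟩ : S) = kk hK ⟨f x * x⁻¹, h1⟩ *
      (⟨(f x, x), act_mem hf (Lab.one le_rfl) (dg hK ⟨x, hf.le hx⟩).2 hx (hf.le hx)⟩ : ↥(DD hK)) := by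
    apply Subtype.ext
    refine Prod.ext ?_ ?_
    · show f x = 1 * f x
      rw [one_mul]
    · show f x = f x * x⁻¹ * x
      group
  have h3 := hσe (dg hK ⟨x, hf.le hx⟩) hx i.out
  show c (dg hK ⟨f x, hf.mor.mem hx⟩ • σ i.out) * (c (σ i.out))⁻¹ =
    l ⟨f x * x⁻¹, h1⟩ * (c (σ (dg hK ⟨x, hf.le hx⟩ • i.out)) * (c (σ i.out))⁻¹)
  rw [h3, hd, mul_smul, hc, mul_assoc]
  rfl

/-- packaged -/
theorem exists_B (hS : IsPGroup p S) (hF : F.IsSaturated p) (hK : KS F p K) (l : K →* A) (hl : LInv S l) :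
    ∃ N : ℕ, ¬ p ∣ N ∧ ∃ B : S →* A, ∀ (P : Subgroup Ω) (f : Ω → Ω) (hf : Lab F p K P f 1) (x : Ω) (hx : x ∈ P)
      (h1 : f x * x⁻¹ ∈ K), B ⟨f x, hf.mor.mem hx⟩ = (l ⟨f x * x⁻¹, h1⟩) ^ N * B ⟨x, hf.le hx⟩ := by
  obtain ⟨Y, _, _, hY⟩ := exists_Bis hS hF hK
  obtain ⟨c, hc⟩ := exists_eqv hY l
  exact ⟨_, hY.card_Z, Bm hl hc, fun P f hf x hx h1 => Bm_rel hY hl hc hf hx h1⟩

end Cfsg.Agent.Lib.BisE
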