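import Cfsg.Agent.Lib.QuadA
import Cfsg.Agent.Lib.CoprimeB
import Cfsg.Agent.Lib.PNilp
import Cfsg.Prelude.Def_PLocal

/-!
Uniserial action of a `p`-group on a `p`-group.
-/

set_option autoImplicit false
set_option linter.unusedSectionVars false
set_option linter.unusedVariables false

namespace Cfsg.Agent.Lib.Uniser

open Subgroup Cfsg.Agent.Lib
open scoped commutatorElement Pointwise

variable {L : Type*} [Group L]

theorem commutator_sup_ne [Finite L] {p : ℕ} [Fact p.Prime] {U P M : Subgroup L}
    (hU : IsPGroup p U) (hP : IsPGroup p P) (h : P ≤ normalizer (U : Set L)) (hM : M < U) (hPM : P ≤ normalizer (M : Set L))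
    (hUM : U ≤ normalizer (M : Set L)) : ⁅U, P⁆ ⊔ M ≠ U := by
  intro heq
  have hS : IsPGroup p (U ⊔ P : Subgroup L) := hU.to_sup_of_normal_left' hP h
  have hn : Group.IsNilpotent (U ⊔ P : Subgroup L) := hS.isNilpotent
  obtain ⟨n, hn⟩ := (isNilpotent_iff_lowerCentralSeries _).mp hn
  have hle : ∀ k : ℕ, (U ⊔ P).lowerCentralSeries k ≤ U ⊔ P := fun k => Subgroup.lowerCentralSeries_le_self _ k
  have hUP : U ⊔ P ≤ normalizer (M : Set L) := sup_le hUM hPM
  have key : ∀ k : ℕ, U ≤ (U ⊔ P).lowerCentralSeries k ⊔ M := by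
    intro k
    induction k with
    | zero => exact le_sup_left.trans le_sup_left
    | succ k ih =>
      refine heq.symm.le.trans (sup_le ?_ le_sup_right)
      rw [commutator_le]
      intro x hx y hy
      have hx' := ih hx
      rw [sup_comm, Basic.mem_sup_iff_right (N := M) ((hle k).trans hUP)] at hx'
      obtain ⟨l, hl, m, hm, rfl⟩ := hx'
      have e : ⁅l * m, y⁆ = l * (m * (y * m⁻¹ * y⁻¹)) * l⁻¹ * ⁅l, y⁆ := by
        rw [_root_.commutatorElement_def, _root_.commutatorElement_def]; group
      rw [e]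
      refine mul_mem ?_ ?_
      · refine (le_sup_right : M ≤ _) ?_
        refine QuadA.conj_mem_of hUP (hle k hl) ?_
        exact M.mul_mem hm (QuadA.conj_mem_of hPM hy (M.inv_mem hm))
      · refine (le_sup_left : (U ⊔ P).lowerCentralSeries (k + 1) ≤ _) ?_
        rw [Subgroup.lowerCentralSeries_succ]
        exact commutator_mem_commutator hl ((le_sup_right : P ≤ U ⊔ P) hy)
  have h1 := key n
  rw [hn, bot_sup_eq] at h1
  exact not_le_of_gt hM h1

theorem iter_le {N G : Subgroup L} (hGN : G ≤ normalizer (N : Set L)) (i : ℕ) :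
    Cfsg.iterCommutator N G i ≤ N ∧ G ≤ normalizer (Cfsg.iterCommutator N G i : Set L) := by
  induction i with
  | zero => exact ⟨le_rfl, hGN⟩
  | succ i ih =>
    exact ⟨(Coprime.commutator_le_of_normalizes ih.2).trans ih.1, Coprime.le_normalizer_commutator_right _ _⟩

theorem iter_succ_le {N G : Subgroup L} (hGN : G ≤ normalizer (N : Set L)) (i : ℕ) :
    Cfsg.iterCommutator N G (i + 1) ≤ Cfsg.iterCommutator N G i :=
  Coprime.commutator_le_of_normalizes (iter_le hGN i).2

theorem iter_anti {N G : Subgroup L} (hGN : G ≤ normalizer (N : Set L)) {i j : ℕ} (h : i ≤ j) :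
    Cfsg.iterCommutator N G j ≤ Cfsg.iterCommutator N G i := by
  induction h with
  | refl => exact le_rfl
  | step _ ih => exact (iter_succ_le hGN _).trans ih

section
variable [Finite L] {p : ℕ} [hp : Fact p.Prime] {N G : Subgroup L} (hN : IsPGroup p N) (hG : IsPGroup p G)
  (hGN : G ≤ normalizer (N : Set L)) {n : ℕ} (hn : Nat.card N = p ^ n)
include hN hG hGN hn

/-- the chain has the maximal length -/
def Full (N G : Subgroup L) (p n : ℕ) : Prop := ∀ i ≤ n, Nat.card (Cfsg.iterCommutator N G i) = p ^ (n - i)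

theorem full_of_uniserial
    (h : ∀ H : Subgroup L, H ≤ N → G ≤ normalizer (H : Set L) → H ≠ ⊥ → (⁅H, G⁆).relIndex H = p) : Full N G p n := by
  intro i
  induction i with
  | zero => intro _; rw [Nat.sub_zero, ← hn]; rfl
  | succ i ih =>
    intro hi
    have h1 := ih (by omega)
    have h2 : Cfsg.iterCommutator N G i ≠ ⊥ := by
      intro h3
      rw [h3, card_bot] at h1
      have : 1 < p ^ (n - i) := Nat.one_lt_pow (by omega) hp.out.one_lt
      omega
    have h3 := h _ (iter_le hGN i).1 (iter_le hGN i).2 h2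
    have h4 := Basic.card_mul_relIndex (iter_succ_le hGN i)
    rw [show Cfsg.iterCommutator N G (i + 1) = ⁅Cfsg.iterCommutator N G i, G⁆ from rfl] at h4 ⊢
    rw [h3, h1, show n - i = (n - (i + 1)) + 1 by omega, pow_succ] at h4
    exact Nat.eq_of_mul_eq_mul_right hp.out.pos h4

theorem full_of_ne_bot (h : Cfsg.iterCommutator N G (n - 1) ≠ ⊥ ∨ n = 0) : Full N G p n := by
  -- exponents
  have hcard : ∀ i, ∃ m, Nat.card (Cfsg.iterCommutator N G i) = p ^ m := fun i =>
    (hN.to_le (iter_le hGN i).1).exists_card_eq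
  choose m hm using hcard
  have hm0 : m 0 = n := by
    have := hm 0
    rw [show Cfsg.iterCommutator N G 0 = N from rfl, hn] at this
    exact (Nat.pow_right_injective hp.out.two_le this).symm
  have hstep : ∀ i, Cfsg.iterCommutator N G i ≠ ⊥ → m (i + 1) < m i := by
    intro i hi
    have h1 := CoprimeB.commutator_lt_of_pgroup (hN.to_le (iter_le hGN i).1) hG (iter_le hGN i).2 hi
    have h2 := Basic.card_lt_card_of_lt h1
    rw [show ⁅Cfsg.iterCommutator N G i, G⁆ = Cfsg.iterCommutator N G (i + 1) from rfl, hm, hm] at h2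
    exact (Nat.pow_lt_pow_iff_right hp.out.one_lt).mp h2
  rcases h with h | h
  · have hne : ∀ i ≤ n - 1, Cfsg.iterCommutator N G i ≠ ⊥ := by
      intro i hi h0
      exact h (le_bot_iff.mp (h0 ▸ iter_anti hGN hi))
    have hpos : 0 < n := by
      by_contra h0
      have h1 : n = 0 := by omega
      apply h
      subst h1
      rw [pow_zero, card_eq_one] at hn
      rw [show Cfsg.iterCommutator N G (0 - 1) = N from rfl]; exact hn
    have hup : ∀ i ≤ n, m i ≤ n - i := by
      intro i
      induction i with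
      | zero => intro _; omega
      | succ i ih =>
        intro hi
        have h1 := ih (by omega)
        have h2 := hstep i (hne i (by omega))
        omega
    have hlow : ∀ j, j ≤ n - 1 → 1 + j ≤ m (n - 1 - j) := by
      intro j
      induction j with
      | zero =>
        intro _
        by_contra h0
        have h1 : m (n - 1) = 0 := by simpa using h0
        have h2 := hm (n - 1)
        rw [h1, pow_zero, card_eq_one] at h2
        exact h h2
      | succ j ih =>
        intro hj
        have h1 := ih (by omega)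
        have h2 := hstep (n - 1 - (j + 1)) (hne _ (by omega))
        rw [show n - 1 - (j + 1) + 1 = n - 1 - j by omega] at h2
        omega
    intro i hi
    rw [hm]
    congr 1
    rcases Nat.lt_or_ge i n with h1 | h1
    · have h2 := hup i hi
      have h3 := hlow (n - 1 - i) (by omega)
      rw [show n - 1 - (n - 1 - i) = i by omega] at h3
      omega
    · have h2 := hup i hi
      omega
  · subst h
    intro i hi
    have : i = 0 := by omega
    subst this
    rw [hm, hm0]

/-- the invariant subgroups -/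
theorem eq_iter_of_full (h : Full N G p n) {H : Subgroup L} (hH : H ≤ N) (hGH : G ≤ normalizer (H : Set L)) :
    ∃ i ≤ n, H = Cfsg.iterCommutator N G i := by
  classical
  have hbot : Cfsg.iterCommutator N G n = ⊥ := by
    have := h n le_rfl
    rw [Nat.sub_self, pow_zero, card_eq_one] at this
    exact this
  by_cases hHb : H = ⊥
  · exact ⟨n, le_rfl, by rw [hHb, hbot]⟩
  have hex : ∃ i, i < n ∧ H ≤ Cfsg.iterCommutator N G i ∧ ¬ H ≤ Cfsg.iterCommutator N G (i + 1) := by
    by_contra hcon
    push Not at hcon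
    have : ∀ i ≤ n, H ≤ Cfsg.iterCommutator N G i := by
      intro i
      induction i with
      | zero => intro _; exact hH
      | succ i ih => intro hi; exact hcon i (by omega) (ih (by omega))
    exact hHb (le_bot_iff.mp (hbot ▸ this n le_rfl))
  obtain ⟨i, hin, hi1, hi2⟩ := hex
  refine ⟨i, hin.le, ?_⟩
  by_contra hne
  set X := Cfsg.iterCommutator N G i with hX
  have hXp : IsPGroup p X := hN.to_le (iter_le hGN i).1
  have hGX := (iter_le hGN i).2
  obtain ⟨M, ⟨hHM, hMX, hGM⟩, hmax⟩ := Set.exists_max_image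
    {M : Subgroup L | H ≤ M ∧ M < X ∧ G ≤ normalizer (M : Set L)} (fun M => Nat.card M) (Set.toFinite _)
    ⟨H, le_rfl, lt_of_le_of_ne hi1 hne, hGH⟩
  have h1 : M < X ⊓ normalizer (M : Set L) := PNilp.lt_inf_normalizer hXp.isNilpotent hMX
  have h2 : X ⊓ normalizer (M : Set L) = X := by
    by_contra h3
    have h4 := hmax (X ⊓ normalizer (M : Set L)) ⟨hHM.trans h1.le, lt_of_le_of_ne inf_le_left h3,
      QuadA.le_normalizer_inf hGX (hGM.trans le_normalizer)⟩
    exact absurd (Basic.card_lt_card_of_lt h1) (not_lt.mpr h4)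
  have hXM : X ≤ normalizer (M : Set L) := by rw [← h2]; exact inf_le_right
  have h3 := commutator_sup_ne hXp hG hGX hMX hGM hXM
  have h4 : ⁅X, G⁆ ⊔ M = M := by
    by_contra h5
    have h6 : M < ⁅X, G⁆ ⊔ M := lt_of_le_of_ne le_sup_right (Ne.symm h5)
    have h7 := hmax (⁅X, G⁆ ⊔ M) ⟨hHM.trans le_sup_right,
      lt_of_le_of_ne (sup_le (Coprime.commutator_le_of_normalizes hGX) hMX.le) h3, by
        intro g hg
        have e1 := Coprime.conj_smul_eq_of_mem_normalizer ((Coprime.le_normalizer_commutator_right G X) hg)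
        have e2 := Coprime.conj_smul_eq_of_mem_normalizer (hGM hg)
        apply Coprime.mem_normalizer_of_conj_smul_eq
        rw [Subgroup.smul_sup, e1, e2]⟩
    exact absurd (Basic.card_lt_card_of_lt h6) (not_lt.mpr h7)
  have h5 : ⁅X, G⁆ ≤ M := sup_eq_right.mp h4
  have h6 : M = ⁅X, G⁆ := by
    -- index `p`
    have h7 : Nat.card (⁅X, G⁆ : Subgroup L) * p = Nat.card X := by
      have e1 := h i (by omega)
      have e2 := h (i + 1) (by omega)
      rw [show Cfsg.iterCommutator N G (i + 1) = ⁅X, G⁆ from rfl] at e2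
      rw [e2, hX, e1, ← pow_succ]; congr 1; omega
    have h8 : Nat.card (⁅X, G⁆ : Subgroup L) ∣ Nat.card M := card_dvd_of_le h5
    have h9 : Nat.card M ∣ Nat.card X := card_dvd_of_le hMX.le
    obtain ⟨a, ha⟩ := h8
    obtain ⟨b, hb⟩ := h9
    have hab : a * b = p := by
      apply Nat.eq_of_mul_eq_mul_left (Nat.card_pos (α := (⁅X, G⁆ : Subgroup L)))
      rw [h7, hb, ha, mul_assoc]
    rcases (Nat.dvd_prime hp.out).mp (Dvd.intro _ hab) with ha1 | ha1
    · symm
      apply Subgroup.eq_of_le_of_card_ge h5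
      rw [ha, ha1, mul_one]
    · exfalso
      rw [ha1] at hab
      have hb1 : b = 1 := Nat.eq_of_mul_eq_mul_left hp.out.pos (by rw [hab, mul_one])
      rw [hb1, mul_one] at hb
      exact absurd (Basic.card_lt_card_of_lt hMX) (by omega)
  exact hi2 (hHM.trans h6.le)

theorem uniserial_of_full (h : Full N G p n) : ∀ H : Subgroup L, H ≤ N → G ≤ normalizer (H : Set L) → H ≠ ⊥ → (⁅H, G⁆).relIndex H = p := by
  intro H hH hGH hH0
  obtain ⟨i, hi, rfl⟩ := eq_iter_of_full hN hG hGN hn h hH hGH
  have hin : i < n := by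
    by_contra h1
    have : i = n := by omega
    subst this
    apply hH0
    have := h i le_rfl
    rw [Nat.sub_self, pow_zero, card_eq_one] at this
    exact this
  have h4 := Basic.card_mul_relIndex (iter_succ_le hGN i)
  rw [h i hi, h (i + 1) (by omega), show n - i = (n - (i + 1)) + 1 by omega, pow_succ] at h4
  exact Nat.eq_of_mul_eq_mul_left (pow_pos hp.out.pos _) h4

theorem le_normalizer_of_full (h : Full N G p n) : ∀ i ≤ n, N ≤ normalizer (Cfsg.iterCommutator N G i : Set L) := by
  intro i
  induction i with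
  | zero => intro _; exact le_normalizer
  | succ i ih =>
    intro hi
    have h1 := ih (by omega)
    set X := Cfsg.iterCommutator N G i with hX
    have hXp : IsPGroup p X := hN.to_le (iter_le hGN i).1
    have hGX := (iter_le hGN i).2
    have hP : IsPGroup p (N ⊔ G : Subgroup L) := hN.to_sup_of_normal_left' hG hGN
    have hXP : N ⊔ G ≤ normalizer (X : Set L) := sup_le h1 hGX
    have hX0 : X ≠ ⊥ := by
      intro h0
      have e1 := h i (by omega)
      rw [← hX, h0, card_bot] at e1
      have : 1 < p ^ (n - i) := Nat.one_lt_pow (by omega) hp.out.one_lt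
      omega
    have h2 := CoprimeB.commutator_lt_of_pgroup hXp hP hXP hX0
    have h3 : ⁅X, G⁆ ≤ ⁅X, N ⊔ G⁆ := commutator_mono le_rfl le_sup_right
    have hGn : G ≤ normalizer ((⁅X, N ⊔ G⁆ : Subgroup L) : Set L) :=
      le_sup_right.trans (Coprime.le_normalizer_commutator_right (N ⊔ G) X)
    obtain ⟨j, hj, hj1⟩ := eq_iter_of_full hN hG hGN hn h (h2.le.trans (iter_le hGN i).1) hGn
    have h4 : j = i + 1 := by
      have c1 := Basic.card_lt_card_of_lt h2
      have c2 := Subgroup.card_le_of_le h3
      rw [hj1, h j hj, hX, h i (by omega)] at c1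
      rw [hj1, h j hj, show ⁅X, G⁆ = Cfsg.iterCommutator N G (i + 1) from rfl, h (i + 1) hi] at c2
      have d1 := (Nat.pow_lt_pow_iff_right hp.out.one_lt).mp c1
      have d2 := (Nat.pow_le_pow_iff_right hp.out.one_lt).mp c2
      omega
    rw [h4] at hj1
    rw [← hj1]
    exact le_sup_left.trans (Coprime.le_normalizer_commutator_right (N ⊔ G) X)

end

end Cfsg.Agent.Lib.Uniser
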