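import Cfsg.Agent.Lib.BisE
import Cfsg.Agent.Lib.Nilp
import Cfsg.Agent.Lib.Uniser
import Cfsg.Agent.Lib.NilB

/-!
Tate's theorem for fusion systems, and the focal subgroup of the centre.
-/

set_option autoImplicit false
set_option linter.unusedSectionVars false
set_option linter.style.haveILetI false
set_option linter.unusedVariables false

namespace Cfsg.Agent.Lib.BisF

open Cfsg Cfsg.FusionSystem Cfsg.Agent.Lib.FusBase Cfsg.Agent.Lib.FusSat Cfsg.Agent.Lib.StrongEmb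
open Cfsg.Agent.Lib.FusAlperin Cfsg.Agent.Lib.FusNormal Cfsg.Agent.Lib.FusNormalB Cfsg.Agent.Lib.SylRel
open Cfsg.Agent.Lib.FusSub Cfsg.Agent.Lib.FusPuig Cfsg.Agent.Lib.FusNK Cfsg.Agent.Lib.FusNKB Cfsg.Agent.Lib.FusMor Cfsg.Agent.Lib.FusGroup
open Cfsg.Agent.Lib.FusHyp Cfsg.Agent.Lib.FusHypB Cfsg.Agent.Lib.LabA Cfsg.Agent.Lib.LabB Cfsg.Agent.Lib.LabC
open Cfsg.Agent.Lib.BisA Cfsg.Agent.Lib.BisB Cfsg.Agent.Lib.BisC Cfsg.Agent.Lib.BisD Cfsg.Agent.Lib.BisE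
open scoped Classical commutatorElement

universe u v w

/-- a maximal `G`-invariant subgroup between two normal subgroups of a finite `p`-group -/
theorem exists_mid {G : Type u} [Group G] [Finite G] {p : ℕ} [hp : Fact p.Prime] (hG : IsPGroup p G) {N₀ N₁ : Subgroup G}
    [N₀.Normal] [N₁.Normal] (h : N₀ < N₁) :
    ∃ M : Subgroup G, M.Normal ∧ N₀ ≤ M ∧ M < N₁ ∧ ⁅N₁, (⊤ : Subgroup G)⁆ ≤ M ∧ ∀ x ∈ N₁, x ^ p ∈ M := by
  obtain ⟨M, ⟨hMn, hM₀, hM₁⟩, hmax⟩ := (Set.toFinite {M : Subgroup G | M.Normal ∧ N₀ ≤ M ∧ M < N₁}).exists_maximal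
    ⟨N₀, inferInstance, le_rfl, h⟩
  have hmax' : ∀ M' : Subgroup G, M'.Normal → M ≤ M' → M' < N₁ → M' = M := fun M' h1 h2 h3 =>
    le_antisymm (hmax ⟨h1, hM₀.trans h2, h3⟩ h2) h2
  have hnt : ∀ H : Subgroup G, H.Normal → (⊤ : Subgroup G) ≤ Subgroup.normalizer (H : Set G) := by
    intro H hH
    rw [Subgroup.normalizer_eq_top_iff.2 hH]
  have hN₁ : IsPGroup p N₁ := hG.to_subgroup N₁
  have htop : IsPGroup p (⊤ : Subgroup G) := hG.to_subgroup ⊤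
  have hcomm : ⁅N₁, (⊤ : Subgroup G)⁆ ≤ M := by
    have h1 := Cfsg.Agent.Lib.Uniser.commutator_sup_ne hN₁ htop (hnt N₁ inferInstance) hM₁ (hnt M hMn) ((le_top).trans (hnt M hMn))
    have h2 : ⁅N₁, (⊤ : Subgroup G)⁆ ⊔ M ≤ N₁ := sup_le (Subgroup.commutator_le_left _ _) hM₁.le
    have h3 := hmax' (⁅N₁, (⊤ : Subgroup G)⁆ ⊔ M) inferInstance le_sup_right (lt_of_le_of_ne h2 h1)
    rw [← h3]; exact le_sup_left
  refine ⟨M, hMn, hM₀, hM₁, hcomm, fun x hx => ?_⟩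
  -- normality of joins with cyclic groups
  have hjn : ∀ y ∈ N₁, (M ⊔ Subgroup.zpowers y).Normal := by
    intro y hy
    rw [← Subgroup.normalizer_eq_top_iff, eq_top_iff]
    intro g _
    refine mem_normalizer_of_conj_mem fun z hz => ?_
    have hzN : z ∈ N₁ := (sup_le hM₁.le (Subgroup.zpowers_le.2 hy)) hz
    have h1 : ⁅z, g⁆ ∈ M := hcomm (Subgroup.commutator_mem_commutator hzN trivial)
    have h2 : g * z * g⁻¹ = (⁅z, g⁆)⁻¹ * z := by rw [commutatorElement_def]; group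
    rw [h2]
    exact Subgroup.mul_mem _ (Subgroup.mem_sup_left (M.inv_mem h1)) hz
  by_cases hxM : x ∈ M
  · exact M.pow_mem hxM _
  have hxp : x ^ p ∈ N₁ := N₁.pow_mem hx _
  by_contra hne
  have h1 : M ⊔ Subgroup.zpowers (x ^ p) = N₁ := by
    by_contra h2
    have h3 := hmax' _ (hjn _ hxp) le_sup_left (lt_of_le_of_ne (sup_le hM₁.le (Subgroup.zpowers_le.2 hxp)) h2)
    exact hne (by rw [← h3]; exact Subgroup.mem_sup_right (Subgroup.mem_zpowers _))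
  have h2 : x ∈ M ⊔ Subgroup.zpowers (x ^ p) := by rw [h1]; exact hx
  rw [← SetLike.mem_coe, Subgroup.normal_mul] at h2
  obtain ⟨m, hm, _, ⟨j, rfl⟩, h3⟩ := h2
  have h3 : m * (x ^ p) ^ j = x := h3
  -- x^(1 - p j) ∈ M
  have h4 : x ^ (1 - (p : ℤ) * j) ∈ M := by
    have : x ^ (1 - (p : ℤ) * j) = m := by
      rw [zpow_sub, zpow_one, zpow_mul, zpow_natCast, ← eq_mul_inv_iff_mul_eq.2 h3]
    rw [this]; exact hm
  obtain ⟨k, hk⟩ := hG x
  have hco : IsCoprime (1 - (p : ℤ) * j) ((p : ℤ) ^ k) := by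
    refine IsCoprime.pow_right ⟨1, j, by ring⟩
  obtain ⟨a, b, hab⟩ := hco
  apply hxM
  have h5 : x = (x ^ (1 - (p : ℤ) * j)) ^ a * (x ^ p ^ k) ^ b := by
    rw [← zpow_natCast x (p ^ k), ← zpow_mul, ← zpow_mul, ← zpow_add]
    have : (1 - (p : ℤ) * j) * a + ((p ^ k : ℕ) : ℤ) * b = 1 := by
      push_cast
      linear_combination hab
    rw [this, zpow_one]
  rw [h5, hk, one_zpow, mul_one]
  exact M.zpow_mem h4 a

variable {Ω : Type u} [Group Ω] {S : Subgroup Ω} {F : FusionSystem S} {p : ℕ} [Finite S] [Fact p.Prime]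
variable {P Q K : Subgroup Ω} {f g h : Ω → Ω} {s t k : Ω} {hK : KS F p K}

theorem ks_hyp : KS F p (F.hyperfocalSubgroup p) := ⟨le_rfl, hyp_le, fun s hs k hk => hyp_conj hs hk⟩

theorem ks_top : KS F p S := ⟨hyp_le, le_rfl, fun s hs k hk => S.mul_mem (S.mul_mem hs hk) (S.inv_mem hs)⟩

/-- with `K = S` every map has trivial label -/
theorem lab_top (hS : IsPGroup p S) (hF : F.IsSaturated p) (hf : Mor F P f) : Lab F p S P f 1 := by
  obtain ⟨s, hs⟩ := Lab.exists_lab hS hF (K := S) ks_top P f hf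
  exact hs.lab' ks_top (S.mul_mem (S.inv_mem (hs.mem le_rfl)) S.one_mem)

section B

variable {A : Type v} [CommGroup A]

theorem exists_B' (hS : IsPGroup p S) (hF : F.IsSaturated p) (hK : KS F p K) (l : K →* A) (hl : LInv S l) :
    ∃ N : ℕ, ¬ p ∣ N ∧ ∃ B : S →* A, ∀ (P : Subgroup Ω) (f : Ω → Ω) (hf : Lab F p K P f 1) (x : Ω) (hx : x ∈ P)
      (h1 : x⁻¹ * f x ∈ K), B ⟨x⁻¹ * f x, hK.le h1⟩ = (l ⟨x⁻¹ * f x, h1⟩) ^ N := by
  obtain ⟨N, hN, B, hB⟩ := exists_B hS hF hK l hl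
  refine ⟨N, hN, B, fun P f hf x hx h1 => ?_⟩
  have hxS := hf.le hx
  have h2 : f x * x⁻¹ ∈ K := by
    have := hK.norm x hxS _ h1
    convert this using 1
    group
  have h3 := hB P f hf x hx h2
  have h4 : (⟨x⁻¹ * f x, hK.le h1⟩ : S) = (⟨x, hxS⟩ : S)⁻¹ * ⟨f x, hf.mor.mem hx⟩ := rfl
  rw [h4, map_mul, h3, map_inv]
  have h5 : x⁻¹ * (f x * x⁻¹) * (x⁻¹)⁻¹ ∈ K := hK.norm x⁻¹ (S.inv_mem hxS) _ h2
  have h6 := hl x⁻¹ (S.inv_mem hxS) ⟨f x * x⁻¹, h2⟩ h5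
  have h7 : (⟨x⁻¹ * f x, h1⟩ : K) = ⟨x⁻¹ * (f x * x⁻¹) * (x⁻¹)⁻¹, h5⟩ := Subtype.ext (by group)
  rw [h7, h6, mul_comm, mul_assoc, mul_inv_cancel, mul_one]

end B

/-- **Tate's theorem**: an `S`-invariant subgroup of the hyperfocal subgroup which covers it modulo the Frattini
subgroup is everything -/
theorem hyp_le_of_frattini (hS : IsPGroup p S) (hF : F.IsSaturated p) {H₀ : Subgroup Ω} (hH₀ : H₀ ≤ F.hyperfocalSubgroup p)
    (hn : ∀ s ∈ S, ∀ x ∈ H₀, s * x * s⁻¹ ∈ H₀)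
    (h : F.hyperfocalSubgroup p ≤ H₀ ⊔ (frattini ↥S).map S.subtype) : F.hyperfocalSubgroup p ≤ H₀ := by
  by_contra hne
  set K := F.hyperfocalSubgroup p with hKdef
  have hK : KS F p K := ks_hyp
  have hKS := hK.le
  have hnorm : ∀ X : Subgroup Ω, X ≤ S → (∀ s ∈ S, ∀ x ∈ X, s * x * s⁻¹ ∈ X) → (X.subgroupOf S).Normal := by
    intro X hX h1
    exact ⟨fun x hx g => Subgroup.mem_subgroupOf.2 (h1 g g.2 _ (Subgroup.mem_subgroupOf.1 hx))⟩
  haveI i0 : (H₀.subgroupOf S).Normal := hnorm H₀ (hH₀.trans hKS) hn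
  haveI i1 : (K.subgroupOf S).Normal := hnorm K hKS hK.norm
  have hlt : H₀.subgroupOf S < K.subgroupOf S := by
    refine lt_of_le_not_ge (fun x hx => hH₀ hx) fun h1 => hne fun x hx => ?_
    exact h1 (show (⟨x, hKS hx⟩ : S) ∈ K.subgroupOf S from hx)
  obtain ⟨M, hMn, hM₀, hM₁, hMc, hMp⟩ := exists_mid hS hlt
  set M' := M.subgroupOf (K.subgroupOf S) with hM'
  have hcomm : ∀ a b : ↥(K.subgroupOf S) ⧸ M', a * b = b * a := by
    intro a b
    obtain ⟨a, rfl⟩ := QuotientGroup.mk_surjective a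
    obtain ⟨b, rfl⟩ := QuotientGroup.mk_surjective b
    rw [← QuotientGroup.mk_mul, ← QuotientGroup.mk_mul]
    refine QuotientGroup.eq.2 (Subgroup.mem_subgroupOf.2 ?_)
    have h1 : ⁅((b : ↥(K.subgroupOf S)) : S)⁻¹, ((a : ↥(K.subgroupOf S)) : S)⁻¹⁆ ∈ M :=
      hMc (Subgroup.commutator_mem_commutator (Subgroup.inv_mem _ b.2) trivial)
    convert h1 using 1
    rw [commutatorElement_def]
    simp only [Subgroup.coe_mul, Subgroup.coe_inv]
    group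
  letI : CommGroup (↥(K.subgroupOf S) ⧸ M') := { (inferInstance : Group (↥(K.subgroupOf S) ⧸ M')) with mul_comm := hcomm }
  let e : K →* ↥(K.subgroupOf S) := MonoidHom.mk' (fun k => ⟨⟨k, hKS k.2⟩, k.2⟩) (fun a b => rfl)
  let l : K →* (↥(K.subgroupOf S) ⧸ M') := (QuotientGroup.mk' M').comp e
  have hl1 : ∀ k : K, l k = 1 ↔ (⟨k, hKS k.2⟩ : S) ∈ M := by
    intro k
    show QuotientGroup.mk' M' (e k) = 1 ↔ _
    rw [QuotientGroup.mk'_apply, QuotientGroup.eq_one_iff, hM', Subgroup.mem_subgroupOf]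
    exact Iff.rfl
  have hlinv : LInv S l := by
    intro s hs k h1
    rw [← mul_inv_eq_one, ← map_inv, ← map_mul, hl1]
    have h2 : ⁅(⟨(k : Ω), hKS k.2⟩ : S), (⟨s, hs⟩ : S)⁆ ∈ M := hMc (Subgroup.commutator_mem_commutator k.2 trivial)
    have h3 := M.inv_mem h2
    convert h3 using 1
    apply Subtype.ext
    show s * (k : Ω) * s⁻¹ * (k : Ω)⁻¹ = ((k : Ω) * s * (k : Ω)⁻¹ * s⁻¹)⁻¹
    group
  obtain ⟨N, hN, B, hB⟩ := exists_B' hS hF hK l hlinv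
  -- B on K
  have hBK : ∀ (k : Ω) (hk : k ∈ K), B ⟨k, hKS hk⟩ = (l ⟨k, hk⟩) ^ N := by
    intro k hk
    have hk' : k ∈ Subgroup.closure {y : Ω | ∃ (P : Subgroup Ω) (α : F.autGroup P) (x : P), P ≤ S ∧
      α ∈ pResidual p (F.autGroup P) ∧ y = (x : Ω)⁻¹ * ((α : MulAut P) x : P)} := hk
    let B' : K →* (↥(K.subgroupOf S) ⧸ M') := B.comp (Subgroup.inclusion hKS)
    let l' : K →* (↥(K.subgroupOf S) ⧸ M') := (powMonoidHom N).comp l
    suffices h1 : ∀ y ∈ K, ∀ hy : y ∈ K, B' ⟨y, hy⟩ = l' ⟨y, hy⟩ from h1 k hk hk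
    intro y hy
    have hy' : y ∈ Subgroup.closure {y : Ω | ∃ (P : Subgroup Ω) (α : F.autGroup P) (x : P), P ≤ S ∧
      α ∈ pResidual p (F.autGroup P) ∧ y = (x : Ω)⁻¹ * ((α : MulAut P) x : P)} := hy
    induction hy' using Subgroup.closure_induction with
    | mem z hz =>
      intro hz'
      obtain ⟨P, α, x, hP, hα, rfl⟩ := hz
      have h2 := hB P _ (Lab.res (K := K) hP α hα) x x.2 (by rw [fn_apply]; exact hz')
      have h3 : (⟨(x : Ω)⁻¹ * ((α : MulAut P) x : P), hz'⟩ : K) = ⟨(x : Ω)⁻¹ * fn (α : MulAut P) x, by rw [fn_apply]; exact hz'⟩ :=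
        Subtype.ext (by
          show (x : Ω)⁻¹ * ((α : MulAut P) x : P) = (x : Ω)⁻¹ * fn (α : MulAut P) x
          rw [fn_apply])
      rw [h3]
      exact h2
    | one =>
      intro h1
      have : (⟨1, h1⟩ : K) = 1 := rfl
      rw [this, map_one, map_one]
    | mul a b ha hb iha ihb =>
      intro h1
      have h2 : (⟨a * b, h1⟩ : K) = (⟨a, ha⟩ : K) * ⟨b, hb⟩ := rfl
      rw [h2, map_mul, map_mul, iha ha ha, ihb hb hb]
    | inv a ha iha =>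
      intro h1
      have h2 : (⟨a⁻¹, h1⟩ : K) = (⟨a, ha⟩ : K)⁻¹ := rfl
      rw [h2, map_inv, map_inv, iha ha ha]
  -- B kills the Frattini subgroup
  have hexp : ∀ a : ↥(K.subgroupOf S) ⧸ M', a ^ p = 1 := by
    intro a
    obtain ⟨a, rfl⟩ := QuotientGroup.mk_surjective a
    rw [← QuotientGroup.mk_pow, QuotientGroup.eq_one_iff]
    exact Subgroup.mem_subgroupOf.2 (hMp _ a.2)
  have hBF : frattini ↥S ≤ B.ker := by
    refine Cfsg.Agent.Lib.Nilp.frattini_le_of_elementary_quotient (p := p) B.ker ?_ fun x => ?_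
    · rw [commutator_def, Subgroup.commutator_le]
      intro a _ b _
      rw [MonoidHom.mem_ker, map_commutatorElement, commutatorElement_eq_one_iff_mul_comm]
      exact mul_comm _ _
    · rw [MonoidHom.mem_ker, map_pow]; exact hexp _
  -- conclusion
  apply hM₁.not_ge
  intro x hx
  have hxK : (x : Ω) ∈ K := hx
  have h1 := h hxK
  have hn' : (frattini ↥S).map S.subtype ≤ Subgroup.normalizer (H₀ : Set Ω) := by
    rintro _ ⟨y, _, rfl⟩
    have hfin : Finite H₀ := finite_of_le (hH₀.trans hKS)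
    exact mem_normalizer_of_conj_mem fun z hz => hn y y.2 z hz
  rw [Cfsg.Agent.Lib.Basic.mem_sup_iff_left hn'] at h1
  obtain ⟨z, hz, _, ⟨y, hy, rfl⟩, hyz⟩ := h1
  have hzK := hH₀ hz
  have hzS := hKS hzK
  have h2 : x = ⟨z, hzS⟩ * y := Subtype.ext hyz.symm
  have h3 : B x = B ⟨z, hzS⟩ := by
    rw [h2, map_mul, MonoidHom.mem_ker.1 (hBF hy), mul_one]
  have h4 : l ⟨z, hzK⟩ = 1 := (hl1 _).2 (hM₀ hz)
  rw [hBK z hzK, h4, one_pow] at h3
  have h5 := hBK x hxK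
  have h6 : (⟨(x : Ω), hKS hxK⟩ : S) = x := rfl
  rw [h6, h3] at h5
  have h7 : l ⟨x, hxK⟩ = 1 := by
    have h8 := hexp (l ⟨x, hxK⟩)
    have hco : Nat.Coprime N p := ((Nat.Prime.coprime_iff_not_dvd (Fact.out : p.Prime)).2 hN).symm
    exact (orderOf_eq_one_iff).1 (Nat.eq_one_of_dvd_coprimes hco (orderOf_dvd_of_pow_eq_one h5.symm) (orderOf_dvd_of_pow_eq_one h8))
  exact (hl1 _).1 h7

/-- trivial hyperfocal subgroup -/
theorem inner_of_hyp (hS : IsPGroup p S) (hF : F.IsSaturated p) (h : F.hyperfocalSubgroup p = ⊥) (P : Subgroup Ω) :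
    F.Hom P = (innerFusionSystem S).Hom P := by
  refine Cfsg.Agent.Lib.NilB.inner_of_isPGroup hS hF (fun X hX => ?_) P
  have hfin : Finite X := finite_of_le hX
  refine Cfsg.Agent.Lib.PRes.isPGroup_of_eq_bot ?_
  rw [eq_bot_iff]
  intro β hβ
  rw [Subgroup.mem_bot]
  apply Subtype.ext
  refine fn_ext fun x hx => ?_
  have h1 := mem_hyp (p := p) hX hβ hx
  rw [h, Subgroup.mem_bot, inv_mul_eq_one] at h1
  exact h1.symm.trans (fn_one hx).symm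

/-- if `S / Φ(S)` sees no fusion then there is no fusion -/
theorem inner_of_frattini (hS : IsPGroup p S) (hF : F.IsSaturated p)
    (h : F.hyperfocalSubgroup p ≤ (frattini ↥S).map S.subtype) (P : Subgroup Ω) :
    F.Hom P = (innerFusionSystem S).Hom P := by
  refine inner_of_hyp hS hF ?_ P
  rw [eq_bot_iff]
  refine hyp_le_of_frattini hS hF bot_le (fun s hs x hx => ?_) (by rw [bot_sup_eq]; exact h)
  rw [Subgroup.mem_bot] at hx ⊢
  rw [hx]; group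

/-- **the focal subgroup meets the centre in the derived subgroup** -/
theorem foc_center (hS : IsPGroup p S) (hF : F.IsSaturated p) (hQ : F.IsCentral Q) {z : Ω} (hz : z ∈ F.focalSubgroup)
    (hzQ : z ∈ Q) : z ∈ ⁅S, S⁆ := by
  have hzS : z ∈ S := hQ.1 hzQ
  have hzc : ∀ P f, Mor F P f → z ∈ P → f z = z := fun P f hf hz => central_fix hQ hf hz hzQ
  have hK : KS F p S := ks_top
  obtain ⟨Y, _, _, hY⟩ := exists_Bis hS hF hK
  let l : S →* Abelianization S := Abelianization.of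
  have hl : LInv S l := by
    intro s hs k h1
    have : (⟨s * k * s⁻¹, h1⟩ : S) = ⟨s, hs⟩ * k * ⟨s, hs⟩⁻¹ := rfl
    rw [this, map_mul, map_mul, map_inv, mul_comm (l _) (l k), mul_assoc, mul_inv_cancel, mul_one]
  -- z is central
  have hcz : ∀ s ∈ S, s * z = z * s := by
    intro s hs
    have h1 := hzc S _ (mor_conj F le_rfl hs) hzS
    have h1 : s * z * s⁻¹ = z := h1
    rw [mul_inv_eq_iff_eq_mul] at h1
    exact h1
  -- the group generated by K and z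
  let M : Subgroup ↥(DD hK) := (Subgroup.zpowers z).comap ((MonoidHom.fst Ω Ω).comp (DD hK).subtype)
  have hM : ∀ m : M, ∃ j : ℤ, z ^ j = m.1.1.1 := fun m => m.2
  have hcom : ∀ m : M, ∀ s ∈ S, s * m.1.1.1 = m.1.1.1 * s := by
    intro m s hs
    obtain ⟨j, hj⟩ := hM m
    rw [← hj]
    exact (Commute.zpow_right (hcz s hs) j).eq
  let μ : M →* Abelianization S := MonoidHom.mk' (fun m => l ⟨m.1.1.2 * (m.1.1.1)⁻¹, S.mul_mem m.1.2.2.1 (S.inv_mem m.1.2.1)⟩) (by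
    intro a b
    rw [← map_mul]
    congr 1
    apply Subtype.ext
    show a.1.1.2 * b.1.1.2 * (a.1.1.1 * b.1.1.1)⁻¹ = a.1.1.2 * (a.1.1.1)⁻¹ * (b.1.1.2 * (b.1.1.1)⁻¹)
    have h2 := hcom a (b.1.1.2 * (b.1.1.1)⁻¹) (S.mul_mem b.1.2.2.1 (S.inv_mem b.1.2.1))
    have h3 : (a.1.1.1)⁻¹ * (b.1.1.2 * (b.1.1.1)⁻¹) = (b.1.1.2 * (b.1.1.1)⁻¹) * (a.1.1.1)⁻¹ := by
      rw [inv_mul_eq_iff_eq_mul, ← mul_assoc, ← h2, mul_inv_cancel_right]
    calc a.1.1.2 * b.1.1.2 * (a.1.1.1 * b.1.1.1)⁻¹ = a.1.1.2 * (b.1.1.2 * (b.1.1.1)⁻¹ * (a.1.1.1)⁻¹) := by group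
      _ = a.1.1.2 * (a.1.1.1)⁻¹ * (b.1.1.2 * (b.1.1.1)⁻¹) := by rw [← h3]; group)
  have hμ : ∀ (m : M) (y : Y), (m : ↥(DD hK)) • y = y → μ m = 1 := by
    intro m y hy
    obtain ⟨P, φ, hφ⟩ := hY.stab y
    obtain ⟨h1, h2⟩ := (hφ.2 m.1).1 hy
    obtain ⟨j, hj⟩ := hM m
    -- φ maps m.2 to z^j, so m.2 = z^j
    obtain ⟨φ', hφ', h3⟩ := hφ.1.inv hK
    have hzj : ∀ R f, Mor F R f → z ^ j ∈ R → f (z ^ j) = z ^ j := fun R f hf hR =>
      central_fix hQ hf hR (Q.zpow_mem hzQ j)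
    have h4 : φ' (φ m.1.1.2) = m.1.1.2 := h3 _ h1
    rw [← h2, ← hj] at h4
    have h5 : φ' (z ^ j) = z ^ j := hzj _ φ' hφ'.mor (by rw [hj, h2]; exact mem_img_of_mem h1)
    rw [h5, hj] at h4
    show l ⟨m.1.1.2 * (m.1.1.1)⁻¹, _⟩ = 1
    have h6 : (⟨m.1.1.2 * (m.1.1.1)⁻¹, S.mul_mem m.1.2.2.1 (S.inv_mem m.1.2.1)⟩ : S) = 1 := Subtype.ext (by
      show m.1.1.2 * (m.1.1.1)⁻¹ = 1
      rw [← h4, mul_inv_cancel])
    rw [h6, map_one]
  obtain ⟨c, hc⟩ : ∃ c : Y → Abelianization S, ∀ (g : M) (x : Y), c ((g : ↥(DD hK)) • x) = μ g * c x :=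
    exists_c (G := M) (X := Tw M.subtype Y) μ (fun m y h => hμ m y h)
  have hcE : Eqv (Y := Y) hK l c := by
    intro k y
    have h1 : kk hK k ∈ M := ⟨0, by simp [kk]⟩
    have h2 := hc ⟨kk hK k, h1⟩ y
    have h3 : μ ⟨kk hK k, h1⟩ = l k := by
      show l ⟨(k : Ω) * (1 : Ω)⁻¹, _⟩ = l k
      congr 1
      apply Subtype.ext
      show (k : Ω) * (1 : Ω)⁻¹ = k
      group
    rw [h3] at h2
    exact h2
  have hBz : Bm hl hcE ⟨z, hzS⟩ = 1 := by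
    rw [Bm_apply]
    unfold prodZ
    refine Finset.prod_eq_one fun i _ => ?_
    have h1 : dg hK ⟨z, hzS⟩ ∈ M := ⟨1, by simp [dg]⟩
    have h2 := hc ⟨dg hK ⟨z, hzS⟩, h1⟩ i.out
    have h3 : μ ⟨dg hK ⟨z, hzS⟩, h1⟩ = 1 := by
      show l ⟨z * z⁻¹, _⟩ = 1
      have : (⟨z * z⁻¹, S.mul_mem hzS (S.inv_mem hzS)⟩ : S) = 1 := Subtype.ext (mul_inv_cancel z)
      exact (congrArg l this).trans (map_one l)
    rw [h3, one_mul] at h2
    show c (dg hK ⟨z, hzS⟩ • i.out) * (c i.out)⁻¹ = 1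
    have h4 : c (dg hK ⟨z, hzS⟩ • i.out) = c i.out := h2
    rw [h4, mul_inv_cancel]
  -- B = l ^ N on the focal subgroup
  have hBf : ∀ (x : Ω) (hx : x ∈ S), x ∈ F.focalSubgroup → Bm hl hcE ⟨x, hx⟩ = (l ⟨x, hx⟩) ^ Nat.card (ZZ hK Y) := by
    intro x hx hxf
    let E : Subgroup S := (MonoidHom.eqLocus (Bm hl hcE) ((powMonoidHom (Nat.card (ZZ hK Y))).comp l))
    have h1 : F.focalSubgroup ≤ E.map S.subtype := by
      refine foc_le _ fun P f hf y hy => ?_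
      have hyS := hf.le hy
      refine ⟨⟨y⁻¹ * f y, S.mul_mem (S.inv_mem hyS) (hf.mem hy)⟩, ?_, rfl⟩
      have hL := lab_top hS hF hf
      have h2 := Bm_rel hY hl hcE hL hy (S.mul_mem (hf.mem hy) (S.inv_mem hyS))
      have h3 : (⟨y⁻¹ * f y, S.mul_mem (S.inv_mem hyS) (hf.mem hy)⟩ : S) = (⟨y, hyS⟩ : S)⁻¹ * ⟨f y, hf.mem hy⟩ := rfl
      have h4 : (⟨f y * y⁻¹, S.mul_mem (hf.mem hy) (S.inv_mem hyS)⟩ : S) = ⟨f y, hf.mem hy⟩ * (⟨y, hyS⟩ : S)⁻¹ := rfl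
      show Bm hl hcE _ = (l _) ^ _
      rw [h3, map_mul, map_inv, map_mul, map_inv, h2, h4, map_mul, map_inv, mul_comm, mul_assoc, mul_inv_cancel, mul_one,
        mul_comm (l _)]
    obtain ⟨w, hw, e⟩ := h1 hxf
    have e' : w = ⟨x, hx⟩ := Subtype.ext e
    rw [← e']; exact hw
  have h1 := hBf z hzS hz
  rw [hBz] at h1
  have hN := hY.card_Z
  have h2 : l ⟨z, hzS⟩ = 1 := by
    obtain ⟨k, hk⟩ := hS ⟨z, hzS⟩
    have h3 : (l ⟨z, hzS⟩) ^ p ^ k = 1 := by rw [← map_pow, hk, map_one]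
    have hco : Nat.Coprime (Nat.card (ZZ hK Y)) (p ^ k) :=
      (((Nat.Prime.coprime_iff_not_dvd (Fact.out : p.Prime)).2 hN).symm).pow_right k
    exact (orderOf_eq_one_iff).1 (Nat.eq_one_of_dvd_coprimes hco (orderOf_dvd_of_pow_eq_one h1.symm) (orderOf_dvd_of_pow_eq_one h3))
  have h3 : (⟨z, hzS⟩ : S) ∈ commutator S := (QuotientGroup.eq_one_iff _).1 h2
  have h4 : (commutator ↥S).map S.subtype = ⁅S, S⁆ := by
    rw [commutator_def, Subgroup.map_commutator, ← MonoidHom.range_eq_map, Subgroup.range_subtype]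
  rw [← h4]
  exact ⟨_, h3, rfl⟩

end Cfsg.Agent.Lib.BisF
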