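import Cfsg.Agent.Lib.BlockRey
import Cfsg.Agent.Lib.BlockKB
import Cfsg.Agent.Lib.BlockLar
import Cfsg.Agent.Lib.BlockMaxB
import Cfsg.Agent.Lib.BlockIndIn
import Cfsg.Agent.Lib.BlockBFM

import Cfsg.Agent.Lib.BlkH5O

/-!
Robinson's matrix.
-/

set_option autoImplicit false
set_option linter.style.haveILetI false
set_option linter.unusedVariables false
set_option linter.unusedSectionVars false
set_option linter.unusedDecidableInType false
set_option linter.unusedFintypeInType false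
set_option linter.unusedSimpArgs false

namespace Cfsg.Agent.Lib.BlkH5P
open Cfsg Cfsg.Agent.Lib.BlockLoc Cfsg.Agent.Lib.BlockGA Cfsg.Agent.Lib.CharBasic
open Cfsg.Agent.Lib.BlockIdem Cfsg.Agent.Lib.BlockPP Cfsg.Agent.Lib.BlockOrth
open Cfsg.Agent.Lib.BlockRed Cfsg.Agent.Lib.BlockDef Cfsg.Agent.Lib.BlockDeg
open Cfsg.Agent.Lib.BlockNP Cfsg.Agent.Lib.BlockInd Cfsg.Agent.Lib.BlockSecond
open Cfsg.Agent.Lib.BlockFirst Cfsg.Agent.Lib.BlockHt Cfsg.Agent.Lib.BlockM
open Cfsg.Agent.Lib.BlockCov Cfsg.Agent.Lib.BlockQuot Cfsg.Agent.Lib.CharKer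
open Cfsg.Agent.Lib.BlockQuotB Cfsg.Agent.Lib.BlockMore Cfsg.Agent.Lib.BlockMoreB
open Cfsg.Agent.Lib.BlockTr Cfsg.Agent.Lib.CharNormal Cfsg.Agent.Lib.BlockCovB
open Cfsg.Agent.Lib.BlockBP Cfsg.Agent.Lib.BlockInt Cfsg.Agent.Lib.BlockSum Cfsg.Agent.Lib.BlockRk
open Cfsg.Agent.Lib.BlockFusB Cfsg.Agent.Lib.BlockMax Cfsg.Agent.Lib.CharSplit Cfsg.Agent.Lib.CharBrauer
open Cfsg.Agent.Lib.CharInd Cfsg.Agent.Lib.BlockPC Cfsg.Agent.Lib.BlockPair Cfsg.Agent.Lib.BlockPairB
open Cfsg.Agent.Lib.BlockPairC Cfsg.Agent.Lib.BlockPairD Cfsg.Agent.Lib.BlockPairE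
open Cfsg.Agent.Lib.BlockRey Cfsg.Agent.Lib.BlockPairF Cfsg.Agent.Lib.BlockFus Cfsg.Agent.Lib.BlockNilB Cfsg.Agent.Lib.BlockNil Cfsg.Agent.Lib.CharClifford
open Cfsg.Agent.Lib.BlockKB Cfsg.Agent.Lib.BlockLar Cfsg.Agent.Lib.BlockMaxB Cfsg.Agent.Lib.BlockIndIn Cfsg.Agent.Lib.BlockBFM
open Cfsg.Agent.Lib.BlkH5O
open scoped ComplexConjugate

section RankMap

theorem rank_map_field {K L n : Type*} [Field K] [Field L] [Fintype n] [DecidableEq n]
    (f : K →+* L) (A : Matrix n n K) : (A.map f).rank = A.rank := by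
  classical
  obtain ⟨T, T', D, hD⟩ := Matrix.Pivot.exists_list_transvec_mul_mul_list_transvec_eq_diagonal A
  set E := (T.map Matrix.TransvectionStruct.toMatrix).prod with hE
  set E' := (T'.map Matrix.TransvectionStruct.toMatrix).prod with hE'
  have hd : E.det = 1 := Matrix.TransvectionStruct.det_toMatrix_prod T
  have hd' : E'.det = 1 := Matrix.TransvectionStruct.det_toMatrix_prod T'
  have h1 : (E * A * E').rank = A.rank := by
    rw [Matrix.rank_mul_eq_left_of_isUnit_det _ _ (by rw [hd']; exact isUnit_one),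
      Matrix.rank_mul_eq_right_of_isUnit_det _ _ (by rw [hd]; exact isUnit_one)]
  have h2 : ((E * A * E').map f).rank = (A.map f).rank := by
    rw [Matrix.map_mul, Matrix.map_mul,
      Matrix.rank_mul_eq_left_of_isUnit_det _ _ (by
        change IsUnit (f.mapMatrix E').det
        rw [← RingHom.map_det, hd', map_one]; exact isUnit_one),
      Matrix.rank_mul_eq_right_of_isUnit_det _ _ (by
        change IsUnit (f.mapMatrix E).det
        rw [← RingHom.map_det, hd, map_one]; exact isUnit_one)]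
  rw [← h1, ← h2, hD, Matrix.diagonal_map (map_zero f), Matrix.rank_diagonal, Matrix.rank_diagonal]
  refine Fintype.card_congr (Equiv.subtypeEquivRight (fun i => ?_))
  rw [Ne, map_eq_zero]

theorem rank_of_factor {L n b : Type*} [Field L] [Fintype n] [Fintype b] [DecidableEq b]
    (A : Matrix n b L) (E : Matrix b n L) (h : E * A = 1) : (A * E).rank = Fintype.card b := by
  apply le_antisymm
  · exact (Matrix.rank_mul_le_left A E).trans (Matrix.rank_le_card_width A)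
  · have h1 : E * (A * E) * A = 1 := by
      rw [← Matrix.mul_assoc, h, Matrix.one_mul, h]
    have h2 := Matrix.rank_mul_le_left (E * (A * E)) A
    have h3 := Matrix.rank_mul_le_right E (A * E)
    rw [h1, Matrix.rank_one] at h2
    exact h2.trans h3

end RankMap

section Grp

variable {G : Type*} [Group G] [Finite G] {p : ℕ} {M : Ideal AlgInt}

/-- Sums over all characters, block by block. -/
theorem sum_by_blocks (hM : IsPModular p M) {R : Type*} [AddCommMonoid R]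
    [Fintype {B : Set (IrrCharacter G) // IsPBlock M B}] (f : IrrCharacter G → R) :
    ∑ χ : IrrCharacter G, f χ = ∑ B : {B : Set (IrrCharacter G) // IsPBlock M B},
      haveI : DecidablePred (· ∈ B.1) := Classical.decPred _
      ∑ χ ∈ Finset.univ.filter (· ∈ B.1), f χ := by
  classical
  have h1 : ∀ B : {B : Set (IrrCharacter G) // IsPBlock M B},
      (∑ χ ∈ Finset.univ.filter (· ∈ B.1), f χ) = ∑ χ, if χ ∈ B.1 then f χ else 0 :=
    fun B => Finset.sum_filter _ _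
  have h2 : ∑ B : {B : Set (IrrCharacter G) // IsPBlock M B},
      (∑ χ ∈ Finset.univ.filter (· ∈ B.1), f χ) = ∑ χ, f χ := by
    rw [Finset.sum_congr rfl (fun B _ => h1 B), Finset.sum_comm]
    refine Finset.sum_congr rfl (fun χ _ => ?_)
    rw [Finset.sum_eq_single ⟨blockOf M χ.1, isPBlock_blockOf M χ⟩]
    · rw [if_pos (self_mem_blockOf hM χ)]
    · intro B _ hB
      rw [if_neg]
      intro h
      apply hB
      apply Subtype.ext
      exact (blockOf_eq_of_mem hM B.2 h).symm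
    · intro h
      exact absurd (Finset.mem_univ _) h
  rw [← h2]

/-- The number of pairs in two classes whose quotient lies in a Sylow subgroup. -/
theorem rob_pairs (hM : IsPModular p M) (S : Sylow p G) (x y : G)
    [Fintype {B : Set (IrrCharacter G) // IsPBlock M B}]
    {ch : ∀ B : {B : Set (IrrCharacter G) // IsPBlock M B}, IrrCharacter G}
    (hch : ∀ B, ch B ∈ B.1) (hy : ¬ p ∣ orderOf y)
    {k : ℕ} (hk : Nat.card {z : G // IsConj y z} = p ^ ((Subgroup.centralizer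
      ({y} : Set G)).index.factorization p) * k) :
    p ^ ((Subgroup.centralizer ({y} : Set G)).index.factorization p) ∣
      Nat.card {q : G × G // IsConj x q.1 ∧ IsConj y q.2 ∧ q.2 * q.1⁻¹ ∈ (S : Subgroup G)} ∧
    ((Nat.card {q : G × G // IsConj x q.1 ∧ IsConj y q.2 ∧ q.2 * q.1⁻¹ ∈ (S : Subgroup G)} /
      p ^ ((Subgroup.centralizer ({y} : Set G)).index.factorization p) : ℕ) : ResF hM) =
      (k : ResF hM) * ∑ B : {B : Set (IrrCharacter G) // IsPBlock M B},
        lam hM (ch B).1 (cs (ResF hM) x⁻¹) * (eF hM B.1) y⁻¹ := by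
  classical
  cases nonempty_fintype G
  have hp := hM.1
  haveI := Fact.mk hp
  haveI : Fintype (S : Subgroup G) := Fintype.ofFinite _
  have hm : ∀ χ : IrrCharacter G, ∃ n : ℕ, ∑ u : (S : Subgroup G), χ.1 (u : G) =
      (Nat.card (S : Subgroup G) : ℂ) * n := fun χ => exists_nat_sum_subgroup χ.1 (isChar_of_irr χ.2) S
  choose m hm using hm
  have hcard : (Nat.card G : ℂ) ≠ 0 := card_ne_zero'
  set N := Nat.card {q : G × G // IsConj x q.1 ∧ IsConj y q.2 ∧ q.2 * q.1⁻¹ ∈ (S : Subgroup G)}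
    with hN
  -- the count
  have hcount : N = ∑ u : (S : Subgroup G),
      Nat.card {q : G × G // IsConj x⁻¹ q.1 ∧ IsConj y q.2 ∧ q.1 * q.2 = (u : G)} := by
    rw [hN, ← Nat.card_sigma]
    have hc : ∀ (a z w : G), IsConj z w → IsConj z (a * w * a⁻¹) := by
      intro a z w hz
      exact hz.trans (isConj_iff.2 ⟨a, rfl⟩)
    have hinv : ∀ z w : G, IsConj z w → IsConj z⁻¹ w⁻¹ := by
      intro z w h
      obtain ⟨c, rfl⟩ := isConj_iff.1 h
      exact isConj_iff.2 ⟨c, by group⟩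
    refine Nat.card_congr ⟨fun q => ⟨⟨q.1.2 * q.1.1⁻¹, q.2.2.2⟩,
      ⟨(q.1.2 * q.1.1⁻¹ * q.1.2⁻¹, q.1.2), ?_, q.2.2.1, ?_⟩⟩,
      fun r => ⟨(r.2.1.2⁻¹ * r.2.1.1⁻¹ * r.2.1.2, r.2.1.2), ?_, r.2.2.2.1, ?_⟩, ?_, ?_⟩
    · exact hc _ _ _ (hinv _ _ q.2.1)
    · change q.1.2 * q.1.1⁻¹ * q.1.2⁻¹ * q.1.2 = q.1.2 * q.1.1⁻¹
      group
    · have h1 := hc r.2.1.2⁻¹ _ _ (hinv _ _ r.2.2.1)
      rwa [inv_inv, inv_inv] at h1
    · change r.2.1.2 * (r.2.1.2⁻¹ * r.2.1.1⁻¹ * r.2.1.2)⁻¹ ∈ (S : Subgroup G)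
      have h1 : r.2.1.2 * (r.2.1.2⁻¹ * r.2.1.1⁻¹ * r.2.1.2)⁻¹ = r.2.1.1 * r.2.1.2 := by group
      rw [h1, r.2.2.2.2]
      exact r.1.2
    · rintro ⟨⟨a, b⟩, h⟩
      apply Subtype.ext
      change (b⁻¹ * (b * a⁻¹ * b⁻¹)⁻¹ * b, b) = (a, b)
      congr 1
      group
    · rintro ⟨u, ⟨⟨a, b⟩, h1, h2, h3⟩⟩
      dsimp only at h3
      have h4 : (⟨b * (b⁻¹ * a⁻¹ * b)⁻¹, by
          have h5 : b * (b⁻¹ * a⁻¹ * b)⁻¹ = a * b := by group
          rw [h5, h3]; exact u.2⟩ : (S : Subgroup G)) = u := by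
        apply Subtype.ext
        change b * (b⁻¹ * a⁻¹ * b)⁻¹ = (u : G)
        rw [← h3]; group
      refine Sigma.ext h4 ?_
      refine (Subtype.heq_iff_coe_eq ?_).2 ?_
      · rintro ⟨c, d⟩
        change (IsConj x⁻¹ c ∧ IsConj y d ∧ c * d = b * (b⁻¹ * a⁻¹ * b)⁻¹) ↔
          (IsConj x⁻¹ c ∧ IsConj y d ∧ c * d = (u : G))
        have h5 : b * (b⁻¹ * a⁻¹ * b)⁻¹ = (u : G) := by rw [← h3]; group
        rw [h5]
      · change (b * (b⁻¹ * a⁻¹ * b)⁻¹ * b⁻¹, b) = (a, b)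
        congr 1
        group
  set Z : ℂ := ∑ χ : IrrCharacter G, centralChar χ.1 x⁻¹ * (χ.1 y * m χ) with hZ
  have hSi : (Nat.card (S : Subgroup G) : ℂ) ≠ 0 := Nat.cast_ne_zero.2 Nat.card_pos.ne'
  have hx' : (Nat.card {z : G // IsConj x⁻¹ z} : ℂ) =
      (Subgroup.centralizer ({x⁻¹} : Set G)).index := by rw [card_conj_class]
  have hNZ : (N : ℂ) * ((S : Subgroup G).index : ℂ) = (Nat.card {z : G // IsConj y z} : ℂ) * Z := by
    have h1 : (N : ℂ) = (Nat.card {z : G // IsConj x⁻¹ z} : ℂ) *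
        (Nat.card {z : G // IsConj y z} : ℂ) / (Nat.card G : ℂ) *
        ∑ χ : IrrCharacter G, χ.1 x⁻¹ * χ.1 y / χ.1 1 * ((Nat.card (S : Subgroup G) : ℂ) * m χ) := by
      rw [hcount]
      push_cast
      simp_rw [CharFS.card_class_mul]
      rw [← Finset.mul_sum, Finset.sum_comm]
      congr 1
      refine Finset.sum_congr rfl (fun χ _ => ?_)
      have h4 : ∑ u : (S : Subgroup G), conj (χ.1 (u : G)) = (Nat.card (S : Subgroup G) : ℂ) * m χ := by
        rw [← map_sum, hm, map_mul, Complex.conj_natCast, Complex.conj_natCast]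
      rw [← h4, Finset.mul_sum]
      exact Finset.sum_congr rfl (fun u _ => by ring)
    have h2 : Z = (Nat.card {z : G // IsConj x⁻¹ z} : ℂ) *
        ∑ χ : IrrCharacter G, χ.1 x⁻¹ * χ.1 y / χ.1 1 * m χ := by
      rw [hZ, Finset.mul_sum]
      refine Finset.sum_congr rfl (fun χ _ => ?_)
      rw [hx']
      unfold centralChar
      ring
    have h3 : (Nat.card G : ℂ) = ((S : Subgroup G).index : ℂ) * (Nat.card (S : Subgroup G) : ℂ) := by
      exact_mod_cast (Subgroup.index_mul_card (S : Subgroup G)).symm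
    have h5 : ∑ χ : IrrCharacter G, χ.1 x⁻¹ * χ.1 y / χ.1 1 *
        ((Nat.card (S : Subgroup G) : ℂ) * m χ) = (Nat.card (S : Subgroup G) : ℂ) *
        ∑ χ : IrrCharacter G, χ.1 x⁻¹ * χ.1 y / χ.1 1 * m χ := by
      rw [Finset.mul_sum]
      exact Finset.sum_congr rfl (fun χ _ => by ring)
    rw [h1, h2, h5, h3]
    rw [h3] at hcard
    have h6 := left_ne_zero_of_mul hcard
    field_simp
  have hloc : ∀ χ : IrrCharacter G, MemLocalRing M (centralChar χ.1 x⁻¹ * (χ.1 y * m χ)) := fun χ =>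
    loc_mul hM (loc_centralChar hM χ.2 _)
      (loc_mul hM (loc_char hM (isChar_of_irr χ.2) _) (loc_natCast hM _))
  have hZl : MemLocalRing M Z := loc_sum hM _ _ (fun χ _ => hloc χ)
  set e := (Subgroup.centralizer ({y} : Set G)).index.factorization p with he
  have hidx : ((S : Subgroup G).index : ResF hM) ≠ 0 := by
    intro h
    exact S.not_dvd_index ((CharP.cast_eq_zero_iff (ResF hM) p _).1 h)
  have hdvd : p ^ e ∣ N := by
    by_cases hN0 : N = 0
    · rw [hN0]; exact dvd_zero _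
    have h1 : ((p ^ e : ℕ) : ℂ) * ((k : ℂ) * Z) = ((N * (S : Subgroup G).index : ℕ) : ℂ) * 1 := by
      rw [mul_one, Nat.cast_mul, hNZ, hk, Nat.cast_mul, mul_assoc]
    have h2 := fac_le_of_mul hM (pow_pos hp.pos _).ne'
      (mul_ne_zero hN0 (S : Subgroup G).index_ne_zero_of_finite)
      (loc_mul hM (loc_natCast hM _) hZl) (loc_one hM) (not_max_one hM) h1
    rw [hp.factorization_pow, Finsupp.single_eq_same, Nat.factorization_mul hN0
      (S : Subgroup G).index_ne_zero_of_finite, Finsupp.add_apply,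
      Nat.factorization_eq_zero_of_not_dvd S.not_dvd_index, add_zero] at h2
    exact (hp.pow_dvd_iff_le_factorization hN0).2 h2
  refine ⟨hdvd, ?_⟩
  obtain ⟨n, hn⟩ := hdvd
  rw [hn, Nat.mul_div_cancel_left _ (pow_pos hp.pos _)]
  have h1 : (n : ℂ) * ((S : Subgroup G).index : ℂ) = (k : ℂ) * Z := by
    have h2 := hNZ
    rw [hn, hk, Nat.cast_mul, Nat.cast_mul] at h2
    have h3 : ((p ^ e : ℕ) : ℂ) ≠ 0 := Nat.cast_ne_zero.2 (pow_pos hp.pos _).ne'
    exact mul_left_cancel₀ h3 (by linear_combination h2)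
  have h2 := congrArg (red hM) h1
  rw [red_mul hM (loc_natCast hM _) (loc_natCast hM _), red_mul hM (loc_natCast hM _) hZl,
    red_natCast, red_natCast, red_natCast, hZ, red_sum hM _ _ (fun χ _ => hloc χ),
    sum_by_blocks hM] at h2
  have h3 : ∀ B : {B : Set (IrrCharacter G) // IsPBlock M B},
      (haveI : DecidablePred (· ∈ B.1) := Classical.decPred _
      ∑ χ ∈ Finset.univ.filter (· ∈ B.1), red hM (centralChar χ.1 x⁻¹ * (χ.1 y * m χ))) =
      lam hM (ch B).1 (cs (ResF hM) x⁻¹) * (eF hM B.1) y⁻¹ * ((S : Subgroup G).index : ResF hM) := by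
    intro B
    haveI : DecidablePred (· ∈ B.1) := Classical.decPred _
    have h4 : ∀ χ : IrrCharacter G, χ ∈ B.1 → red hM (centralChar χ.1 x⁻¹ * (χ.1 y * m χ)) =
        lam hM (ch B).1 (cs (ResF hM) x⁻¹) * red hM (χ.1 y * m χ) := by
      intro χ hχ
      rw [red_mul hM (loc_centralChar hM χ.2 _)
        (loc_mul hM (loc_char hM (isChar_of_irr χ.2) _) (loc_natCast hM _)), ← lam_cs hM χ.2]
      congr 1
      apply lam_eq_of_sameBlock hM χ.2 (ch B).2 _ (cs_isCl _)
      have h11 := hch B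
      rw [← blockOf_eq_of_mem hM B.2 hχ] at h11
      exact h11
    have h5 : ∑ χ ∈ Finset.univ.filter (· ∈ B.1), red hM (centralChar χ.1 x⁻¹ * (χ.1 y * m χ)) =
        lam hM (ch B).1 (cs (ResF hM) x⁻¹) *
          red hM (∑ χ ∈ Finset.univ.filter (· ∈ B.1), χ.1 y * m χ) := by
      rw [red_sum hM _ _ (fun χ _ => loc_mul hM (loc_char hM (isChar_of_irr χ.2) _)
        (loc_natCast hM _)), Finset.mul_sum]
      exact Finset.sum_congr rfl (fun χ hχ => h4 χ (Finset.mem_filter.1 hχ).2)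
    have h6 : ∑ χ ∈ Finset.univ.filter (· ∈ B.1), χ.1 y * m χ =
        ((S : Subgroup G).index : ℂ) * blockCoeff B.1 y⁻¹ := by
      have h7 := card_mul_blockCoeff hM (isLoc_eB hM B.2) (S : Subgroup G) S.2
        (y := y⁻¹) (by rw [orderOf_inv]; exact hy)
      have h8 : (Nat.card G : ℂ) = ((S : Subgroup G).index : ℂ) * (Nat.card (S : Subgroup G) : ℂ) := by
        exact_mod_cast (Subgroup.index_mul_card (S : Subgroup G)).symm
      have h9 : ∑ χ ∈ Finset.univ.filter (· ∈ B.1), (∑ u : (S : Subgroup G), χ.1 (u : G)) *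
          χ.1 y⁻¹⁻¹ = (Nat.card (S : Subgroup G) : ℂ) *
          ∑ χ ∈ Finset.univ.filter (· ∈ B.1), χ.1 y * m χ := by
        rw [Finset.mul_sum]
        refine Finset.sum_congr rfl (fun χ _ => ?_)
        rw [hm, inv_inv]; ring
      rw [h9, h8] at h7
      exact mul_left_cancel₀ hSi (by linear_combination -h7)
    have h7 := h5
    have hbc : MemLocalRing M (blockCoeff B.1 y⁻¹) := isLoc_eB hM B.2 y⁻¹
    rw [h6, red_mul hM (loc_natCast hM _) hbc, red_natCast] at h7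
    rw [eF_apply]
    refine Eq.trans ?_ (h7.trans (by ring))
    convert rfl
  rw [Finset.sum_congr rfl (fun B _ => h3 B), ← Finset.sum_mul, ← mul_assoc] at h2
  exact mul_right_cancel₀ hidx h2

end Grp

end Cfsg.Agent.Lib.BlkH5P
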