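import Cfsg.Agent.Lib.BlockRey
import Cfsg.Agent.Lib.BlockKB
import Cfsg.Agent.Lib.BlockLar
import Cfsg.Agent.Lib.BlockMaxB
import Cfsg.Agent.Lib.BlockIndIn
import Cfsg.Agent.Lib.BlockBFM

import Cfsg.Agent.Lib.BlkH5P
import Cfsg.Agent.Lib.CharInd
import Cfsg.Agent.Lib.CharClifford
import Cfsg.Agent.Lib.BlockPair
import Cfsg.Agent.Lib.BlockPairD

/-!
Fong-Reynolds.
-/

set_option autoImplicit false
set_option linter.style.haveILetI false
set_option linter.unusedVariables false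
set_option linter.unusedSectionVars false
set_option linter.unusedDecidableInType false
set_option linter.unusedFintypeInType false
set_option linter.unusedSimpArgs false

namespace Cfsg.Agent.Lib.BlkH5Q
open Cfsg Cfsg.Agent.Lib.BlockLoc Cfsg.Agent.Lib.BlockGA Cfsg.Agent.Lib.CharBasic
open Cfsg.Agent.Lib.BlockIdem Cfsg.Agent.Lib.BlockPP Cfsg.Agent.Lib.BlockOrth
open Cfsg.Agent.Lib.BlockRed Cfsg.Agent.Lib.BlockDef Cfsg.Agent.Lib.BlockDeg
open Cfsg.Agent.Lib.BlockNP Cfsg.Agent.Lib.BlockInd Cfsg.Agent.Lib.BlockSecond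
open Cfsg.Agent.Lib.BlockFirst Cfsg.Agent.Lib.BlockHt Cfsg.Agent.Lib.BlockM
open Cfsg.Agent.Lib.BlockCov Cfsg.Agent.Lib.BlockQuot Cfsg.Agent.Lib.CharKer
open Cfsg.Agent.Lib.BlockQuotB Cfsg.Agent.Lib.BlockMore Cfsg.Agent.Lib.BlockMoreB
open Cfsg.Agent.Lib.BlockTr Cfsg.Agent.Lib.CharNormal Cfsg.Agent.Lib.BlockCovB
open Cfsg.Agent.Lib.BlockBP Cfsg.Agent.Lib.BlockInt Cfsg.Agent.Lib.BlockSum Cfsg.Agent.Lib.BlockRk
open Cfsg.Agent.Lib.BlockFusB Cfsg.Agent.Lib.BlockMax Cfsg.Agent.Lib.CharSplit Cfsg.Agent.Lib.CharBrauer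
open Cfsg.Agent.Lib.CharInd Cfsg.Agent.Lib.BlockPC Cfsg.Agent.Lib.BlockPair Cfsg.Agent.Lib.BlockPairB
open Cfsg.Agent.Lib.BlockPairC Cfsg.Agent.Lib.BlockPairD Cfsg.Agent.Lib.BlockPairE
open Cfsg.Agent.Lib.BlockRey Cfsg.Agent.Lib.BlockPairF Cfsg.Agent.Lib.BlockFus Cfsg.Agent.Lib.BlockNilB Cfsg.Agent.Lib.BlockNil Cfsg.Agent.Lib.CharClifford
open Cfsg.Agent.Lib.BlockKB Cfsg.Agent.Lib.BlockLar Cfsg.Agent.Lib.BlockMaxB Cfsg.Agent.Lib.BlockIndIn Cfsg.Agent.Lib.BlockBFM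
open Cfsg.Agent.Lib.BlkH5P Cfsg.Agent.Lib.CharInd Cfsg.Agent.Lib.CharClifford Cfsg.Agent.Lib.BlockPair Cfsg.Agent.Lib.BlockPairD
open scoped ComplexConjugate

section FRa

variable {G : Type*} [Group G] [Fintype G] {p : ℕ} {M : Ideal AlgInt} {N : Subgroup G}
  [hN : N.Normal]

/-- The conjugate block. -/
def bx (x : G) (b : Set (IrrCharacter N)) : Set (IrrCharacter N) := {θ | cjI x θ ∈ b}

theorem nrm_iff (x : G) : ∀ g, g ∈ N ↔ x * g * x⁻¹ ∈ N := fun g =>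
  ⟨fun h => hN.conj_mem g h x, fun h => by
    have h1 := hN.conj_mem _ h x⁻¹
    have h2 : x⁻¹ * (x * g * x⁻¹) * x⁻¹⁻¹ = g := by group
    rwa [h2] at h1⟩

theorem bx_eq (x : G) (b : Set (IrrCharacter N)) :
    bx x b = trB (BlockPair.cjE x (nrm_iff x)) b := rfl

theorem ext_bx (x : G) (b : Set (IrrCharacter N)) :
    cjGA x (extGA N (eB b)) = extGA N (eB (bx x b)) := by
  rw [bx_eq, ext_trB]

theorem bx_block (hM : IsPModular p M) (x : G) {b : Set (IrrCharacter N)} (hb : IsPBlock M b) :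
    IsPBlock M (bx x b) := by
  rw [bx_eq]
  exact isPBlock_trB hM _ hb

theorem bx_eq_of_mem (hM : IsPModular p M) {x : G} {b : Set (IrrCharacter N)} (hb : IsPBlock M b)
    {θ : IrrCharacter N} (hθ : θ ∈ b) (h : cjI x θ ∈ b) : bx x b = b :=
  block_eq_of_mem_of_mem hM (bx_block hM x hb) hb (χ := θ) h hθ

theorem mem_T_iff (hM : IsPModular p M) {b : Set (IrrCharacter N)} (hb : IsPBlock M b)
    {T : Subgroup G} (hT : ∀ g : G, g ∈ T ↔ ∀ θ ∈ b, cjI g θ ∈ b) {g : G}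
    {θ : IrrCharacter N} (hθ : θ ∈ b) : g ∈ T ↔ cjI g θ ∈ b := by
  rw [hT]
  constructor
  · intro h; exact h θ hθ
  · intro h θ' hθ'
    have h1 := bx_eq_of_mem hM hb hθ h
    rw [← h1] at hθ'
    exact hθ'

theorem bx_eq_of_mem_T (hM : IsPModular p M) {b : Set (IrrCharacter N)} (hb : IsPBlock M b)
    {T : Subgroup G} (hT : ∀ g : G, g ∈ T ↔ ∀ θ ∈ b, cjI g θ ∈ b) {g : G} (hg : g ∈ T) :
    bx g b = b := by
  obtain ⟨θ, hθ⟩ := block_nonempty hM hb
  exact bx_eq_of_mem hM hb hθ ((hT g).1 hg θ hθ)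

/-- Orthogonality of conjugates outside the stabilizer. -/
theorem ext_mul_cj (hM : IsPModular p M) {b : Set (IrrCharacter N)} (hb : IsPBlock M b)
    {T : Subgroup G} (hT : ∀ g : G, g ∈ T ↔ ∀ θ ∈ b, cjI g θ ∈ b) {g : G} (hg : g ∉ T) :
    extGA N (eB b) * cjGA g (extGA N (eB b)) = 0 := by
  rw [ext_bx, ← extGA_mul, eB_mul_eB]
  have h1 : b ∩ bx g b = ∅ := by
    rw [Set.eq_empty_iff_forall_notMem]
    rintro θ ⟨h1, h2⟩
    exact hg ((mem_T_iff hM hb hT h1).2 h2)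
  rw [h1, eB_empty]
  ext h
  by_cases hh : h ∈ N
  · rw [extGA_pos hh]; rfl
  · rw [extGA_neg hh]; rfl

/-- The trace form. -/
noncomputable def trc (χ : G → ℂ) (a : GA ℂ G) : ℂ := ∑ g, a g * χ g

theorem trc_comm {χ : G → ℂ} (hχ : IsClassFunction G χ) (a b : GA ℂ G) :
    trc χ (a * b) = trc χ (b * a) := by
  unfold trc
  have h1 : ∀ a b : GA ℂ G, ∑ g, (a * b) g * χ g = ∑ h, ∑ k, a h * b k * χ (h * k) := by
    intro a b
    have : ∀ g, (a * b) g * χ g = ∑ h, a h * b (h⁻¹ * g) * χ g := by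
      intro g; rw [ga_mul, Finset.sum_mul]
    rw [Finset.sum_congr rfl (fun g _ => this g), Finset.sum_comm]
    refine Finset.sum_congr rfl (fun h _ => ?_)
    refine Fintype.sum_equiv (Equiv.mulLeft h⁻¹) _ _ fun g => ?_
    simp only [Equiv.coe_mulLeft]
    rw [mul_inv_cancel_left]
  rw [h1, h1, Finset.sum_comm]
  refine Finset.sum_congr rfl (fun k _ => Finset.sum_congr rfl (fun h _ => ?_))
  have h2 : χ (h * k) = χ (k * h) := by
    have := hχ (k * h) h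
    rw [← this]; congr 1; group
  rw [h2]; ring

/-- The function `z ↦ χ(e z)`. -/
noncomputable def Fz (χ : G → ℂ) (e : GA ℂ G) (z : G) : ℂ := ∑ g, e g * χ (g * z)

theorem Fz_eq (χ : G → ℂ) (e : GA ℂ G) (z : G) : Fz χ e z = trc χ (e * sg z) := by
  unfold Fz trc
  refine Fintype.sum_equiv (Equiv.mulRight z) _ _ fun g => ?_
  simp only [Equiv.coe_mulRight]
  rw [mul_sg_apply, mul_inv_cancel_right]

theorem sg_mul_eq_cj (z : G) (e : GA ℂ G) : (sg z * e : GA ℂ G) = cjGA z e * sg z := by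
  ext h
  rw [sg_mul_apply, mul_sg_apply, cjGA_apply]
  congr 1
  group

theorem Fz_zero (hM : IsPModular p M) {b : Set (IrrCharacter N)} (hb : IsPBlock M b)
    {T : Subgroup G} (hT : ∀ g : G, g ∈ T ↔ ∀ θ ∈ b, cjI g θ ∈ b) {χ : G → ℂ}
    (hχ : IsClassFunction G χ) {z : G} (hz : z ∉ T) : Fz χ (extGA N (eB b)) z = 0 := by
  set e := extGA N (eB b) with he
  have hee : e * e = e := by rw [he, ← extGA_mul, eB_idem]
  rw [Fz_eq]
  have h1 : trc χ (e * sg z) = trc χ (e * (e * sg z)) := by rw [← mul_assoc, hee]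
  rw [h1, trc_comm hχ, mul_assoc, sg_mul_eq_cj, ← mul_assoc, he, ext_mul_cj hM hb hT hz, zero_mul]
  unfold trc
  exact Finset.sum_eq_zero (fun g _ => by rw [ga_zero, zero_mul])

/-- The sum of the conjugates. -/
theorem sum_cj_ext (hM : IsPModular p M) {b : Set (IrrCharacter N)} (hb : IsPBlock M b)
    {T : Subgroup G} (hT : ∀ g : G, g ∈ T ↔ ∀ θ ∈ b, cjI g θ ∈ b) :
    ∑ x : G, cjGA x (extGA N (eB b)) = (Nat.card T : ℂ) • extGA N (eB (orb b)) := by
  classical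
  ext g
  rw [ga_sum, ga_smul]
  have h1 : ∀ x : G, (cjGA x (extGA N (eB b))) g = (extGA N (eB (bx x b))) g := by
    intro x; rw [ext_bx]
  rw [Finset.sum_congr rfl (fun x _ => h1 x)]
  by_cases hg : g ∈ N
  · rw [extGA_pos hg, Finset.sum_congr rfl (fun x _ => extGA_pos hg)]
    have h2 : ∀ A : Set (IrrCharacter N), (eB A) ⟨g, hg⟩ = (Nat.card N : ℂ)⁻¹ *
        ∑ θ : IrrCharacter N, if θ ∈ A then θ.1 1 * θ.1 (⟨g, hg⟩ : N)⁻¹ else 0 := by
      intro A
      rw [eB_apply, blockCoeff_eq, Finset.sum_filter]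
    rw [h2, Finset.sum_congr rfl (fun x _ => h2 _), ← Finset.mul_sum, Finset.sum_comm]
    rw [mul_left_comm (Nat.card T : ℂ)]
    congr 1
    rw [Finset.mul_sum]
    refine Finset.sum_congr rfl (fun θ _ => ?_)
    by_cases hθ : θ ∈ orb (G := G) b
    · rw [if_pos hθ]
      obtain ⟨x₀, hx₀⟩ := hθ
      rw [← Finset.sum_filter, Finset.sum_const, nsmul_eq_mul]
      congr 1
      rw [Nat.cast_inj]
      have h3 : Finset.univ.filter (fun x : G => θ ∈ bx x b) =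
          (Finset.univ.filter (fun x : G => x ∈ T)).map (mulLeftEmbedding x₀) := by
        ext x
        rw [Finset.mem_filter, Finset.mem_map]
        constructor
        · rintro ⟨-, hx⟩
          refine ⟨x₀⁻¹ * x, ?_, mul_inv_cancel_left _ _⟩
          rw [Finset.mem_filter]
          refine ⟨Finset.mem_univ _, ?_⟩
          rw [mem_T_iff hM hb hT hx₀, ← cjI_mul, mul_inv_cancel_left]
          exact hx
        · rintro ⟨y, hy, rfl⟩
          refine ⟨Finset.mem_univ _, ?_⟩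
          rw [Finset.mem_filter] at hy
          change cjI (x₀ * y) θ ∈ b
          rw [cjI_mul]
          exact (mem_T_iff hM hb hT hx₀).1 hy.2
      rw [h3, Finset.card_map, Nat.card_eq_fintype_card, Fintype.card_subtype]
    · rw [if_neg hθ, mul_zero]
      refine Finset.sum_eq_zero (fun x _ => ?_)
      rw [if_neg]
      intro h
      exact hθ ⟨x, h⟩
  · rw [extGA_neg hg, mul_zero]
    exact Finset.sum_eq_zero (fun x _ => extGA_neg hg)

/-- `χ` is induced from the `b`-part of its restriction to `T`. -/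
theorem ind_Fz [Fintype N] (hM : IsPModular p M) {b : Set (IrrCharacter N)} (hb : IsPBlock M b)
    {T : Subgroup G} (hT : ∀ g : G, g ∈ T ↔ ∀ θ ∈ b, cjI g θ ∈ b) {χ : IrrCharacter G}
    {θ : IrrCharacter N} (hθ : θ ∈ b) (hov : Over χ θ) :
    indFun T (fun t : T => Fz χ.1 (extGA N (eB b)) (t : G)) = χ.1 := by
  classical
  set e := extGA N (eB b) with he
  have hχc := isChar_classFn (isChar_of_irr χ.2)
  funext y
  rw [indFun_apply]
  have h1 : ∀ x : G, extendByZero T (fun t : T => Fz χ.1 e (t : G)) (x⁻¹ * y * x) =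
      Fz χ.1 e (x⁻¹ * y * x) := by
    intro x
    by_cases hx : x⁻¹ * y * x ∈ T
    · rw [ext_mem T _ hx]
    · rw [ext_notMem T _ hx, he, Fz_zero hM hb hT hχc hx]
  have h2 : ∀ x : G, Fz χ.1 e (x⁻¹ * y * x) = ∑ g, (cjGA x e) g * χ.1 (g * y) := by
    intro x
    unfold Fz
    refine Fintype.sum_equiv (MulAut.conj x).toEquiv _ _ fun g => ?_
    change e g * χ.1 (g * (x⁻¹ * y * x)) = (cjGA x e) (x * g * x⁻¹) * χ.1 (x * g * x⁻¹ * y)
    rw [cjGA_apply]
    have h3 : x⁻¹ * (x * g * x⁻¹) * x = g := by group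
    have h4 : χ.1 (g * (x⁻¹ * y * x)) = χ.1 (x * g * x⁻¹ * y) := by
      rw [← hχc (g * (x⁻¹ * y * x)) x]
      group
    rw [h3, h4]
  rw [Finset.sum_congr rfl (fun x _ => (h1 x).trans (h2 x)), Finset.sum_comm]
  have h5 : ∀ g : G, ∑ x : G, (cjGA x e) g * χ.1 (g * y) =
      (Nat.card T : ℂ) * ((extGA N (eB (orb b))) g * χ.1 (g * y)) := by
    intro g
    rw [← Finset.sum_mul, ← ga_sum, he, sum_cj_ext hM hb hT, ga_smul]
    ring
  rw [Finset.sum_congr rfl (fun g _ => h5 g), ← Finset.mul_sum]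
  have hT0 : (Nat.card T : ℂ) ≠ 0 := Nat.cast_ne_zero.2 Nat.card_pos.ne'
  rw [inv_mul_cancel_left₀ hT0]
  have hcl : IsCl (extGA N (eB (orb (G := G) b))) := extGA_isCl (eB_gInv (orb_gStab b))
  have h6 := sum_mul_central χ.2 y (1 : GA ℂ G) hcl
  have h7 : ∑ g, ((1 : GA ℂ G) * extGA N (eB (orb (G := G) b))) g * χ.1 (y * g) =
      ∑ g, (extGA N (eB (orb (G := G) b))) g * χ.1 (g * y) := by
    rw [one_mul]
    refine Finset.sum_congr rfl (fun g _ => ?_)
    congr 1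
    rw [← hχc (y * g) g]
    group
  rw [h7, om_ext_eB (orb_gStab b) hov, if_pos (subset_orb b hθ), one_mul] at h6
  rw [h6, Finset.sum_eq_single (1 : G)]
  · rw [ga_one, if_pos rfl, one_mul, mul_one]
  · intro g _ hg
    rw [ga_one, if_neg hg, zero_mul]
  · intro h; exact absurd (Finset.mem_univ _) h

end FRa

end Cfsg.Agent.Lib.BlkH5Q
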