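import Cfsg.Agent.Lib.BlockRey
import Cfsg.Agent.Lib.BlockKB
import Cfsg.Agent.Lib.BlockLar
import Cfsg.Agent.Lib.BlockMaxB
import Cfsg.Agent.Lib.BlockIndIn
import Cfsg.Agent.Lib.BlockBFM

import Cfsg.Agent.Lib.BlkH5Q

/-!
Fong-Reynolds, II.
-/

set_option autoImplicit false
set_option linter.style.haveILetI false
set_option linter.unusedVariables false
set_option linter.unusedSectionVars false
set_option linter.unusedDecidableInType false
set_option linter.unusedFintypeInType false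
set_option linter.unusedSimpArgs false

namespace Cfsg.Agent.Lib.BlkH5R
open Cfsg Cfsg.Agent.Lib.BlockLoc Cfsg.Agent.Lib.BlockGA Cfsg.Agent.Lib.CharBasic
open Cfsg.Agent.Lib.BlockIdem Cfsg.Agent.Lib.BlockPP Cfsg.Agent.Lib.BlockOrth
open Cfsg.Agent.Lib.BlockRed Cfsg.Agent.Lib.BlockDef Cfsg.Agent.Lib.BlockDeg
open Cfsg.Agent.Lib.BlockNP Cfsg.Agent.Lib.BlockInd Cfsg.Agent.Lib.BlockSecond
open Cfsg.Agent.Lib.BlockFirst Cfsg.Agent.Lib.BlockHt Cfsg.Agent.Lib.BlockM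
open Cfsg.Agent.Lib.BlockCov Cfsg.Agent.Lib.BlockQuot Cfsg.Agent.Lib.CharKer
open Cfsg.Agent.Lib.BlockQuotB Cfsg.Agent.Lib.BlockMore Cfsg.Agent.Lib.BlockMoreB
open Cfsg.Agent.Lib.BlockTr Cfsg.Agent.Lib.CharNormal Cfsg.Agent.Lib.BlockCovB
open Cfsg.Agent.Lib.BlockBP Cfsg.Agent.Lib.BlockInt Cfsg.Agent.Lib.BlockSum Cfsg.Agent.Lib.BlockRk
open Cfsg.Agent.Lib.BlockFusB Cfsg.Agent.Lib.BlockMax Cfsg.Agent.Lib.CharSplit Cfsg.Agent.Lib.CharBrauer
open Cfsg.Agent.Lib.CharInd Cfsg.Agent.Lib.BlockPC Cfsg.Agent.Lib.BlockPair Cfsg.Agent.Lib.BlockPairB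
open Cfsg.Agent.Lib.BlockPairC Cfsg.Agent.Lib.BlockPairD Cfsg.Agent.Lib.BlockPairE
open Cfsg.Agent.Lib.BlockRey Cfsg.Agent.Lib.BlockPairF Cfsg.Agent.Lib.BlockFus Cfsg.Agent.Lib.BlockNilB Cfsg.Agent.Lib.BlockNil Cfsg.Agent.Lib.CharClifford
open Cfsg.Agent.Lib.BlockKB Cfsg.Agent.Lib.BlockLar Cfsg.Agent.Lib.BlockMaxB Cfsg.Agent.Lib.BlockIndIn Cfsg.Agent.Lib.BlockBFM
open Cfsg.Agent.Lib.BlkH5Q
open scoped ComplexConjugate

section FRb

variable {G : Type*} [Group G] [Fintype G] {p : ℕ} {M : Ideal AlgInt} {N : Subgroup G}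
  [hN : N.Normal] [Fintype N]

/-- `b` transported to `N` as a subgroup of `T`. -/
def bT {T : Subgroup G} (hNT : N ≤ T) (b : Set (IrrCharacter N)) :
    Set (IrrCharacter (N.subgroupOf T)) :=
  trB (Subgroup.subgroupOfEquivOfLe hNT).symm b

/-- Lying over, from `N` to an intermediate subgroup. -/
def OvT {T : Subgroup G} (hNT : N ≤ T) (φ : IrrCharacter T) (θ : IrrCharacter N) : Prop :=
  classInner (fun n : N => φ.1 ⟨(n : G), hNT n.2⟩) θ.1 ≠ 0

theorem mem_bT {T : Subgroup G} (hNT : N ≤ T) {b : Set (IrrCharacter N)}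
    {θ : IrrCharacter N} : trI (Subgroup.subgroupOfEquivOfLe hNT) θ ∈ bT hNT b ↔ θ ∈ b := by
  unfold bT
  rw [mem_trB, trI_symm_trI]

theorem over_iff_OvT {T : Subgroup G} (hNT : N ≤ T) [Fintype (N.subgroupOf T)]
    {φ : IrrCharacter T} {θ : IrrCharacter N} :
    Over (N := N.subgroupOf T) φ (trI (Subgroup.subgroupOfEquivOfLe hNT) θ) ↔ OvT hNT φ θ := by
  unfold Over OvT
  rw [← inner_subgroupOf hNT (fun n : N => φ.1 ⟨(n : G), hNT n.2⟩) θ.1]
  exact Iff.rfl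

theorem exists_OvT {T : Subgroup G} [Fintype T] (hNT : N ≤ T) (φ : IrrCharacter T) :
    ∃ θ : IrrCharacter N, OvT hNT φ θ := by
  haveI : Fintype (N.subgroupOf T) := Fintype.ofFinite _
  obtain ⟨θ', hθ'⟩ := exists_over_below (N := N.subgroupOf T) φ
  refine ⟨trI (Subgroup.subgroupOfEquivOfLe hNT).symm θ', ?_⟩
  rw [← over_iff_OvT hNT]
  rwa [trI_trI_symm]

theorem bT_gStab {T : Subgroup G} (hNT : N ≤ T) {b : Set (IrrCharacter N)}
    (hT : ∀ g : G, g ∈ T ↔ ∀ θ ∈ b, cjI g θ ∈ b) : GStab (G := T) (bT hNT b) := by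
  intro θ' hθ' x
  obtain ⟨θ, rfl⟩ : ∃ θ : IrrCharacter N, θ' = trI (Subgroup.subgroupOfEquivOfLe hNT) θ :=
    ⟨trI (Subgroup.subgroupOfEquivOfLe hNT).symm θ', (trI_trI_symm _ _).symm⟩
  rw [mem_bT] at hθ'
  have h1 := (hT (x : G)).1 x.2 θ hθ'
  have h2 : cjI x (trI (Subgroup.subgroupOfEquivOfLe hNT) θ) =
      trI (Subgroup.subgroupOfEquivOfLe hNT) (cjI (x : G) θ) := Subtype.ext (funext fun n => rfl)
  rw [h2, mem_bT]
  exact h1

theorem res_ext_bT {T : Subgroup G} (hNT : N ≤ T) (b : Set (IrrCharacter N)) :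
    resGA T (extGA N (eB b)) = extGA (N.subgroupOf T) (eB (bT hNT b)) := by
  ext t
  rw [resGA_apply]
  by_cases ht : (t : G) ∈ N
  · have ht' : t ∈ N.subgroupOf T := Subgroup.mem_subgroupOf.2 ht
    rw [extGA_pos ht, extGA_pos ht']
    have h1 := eB_trB (Subgroup.subgroupOfEquivOfLe hNT).symm b ⟨(t : G), ht⟩
    exact h1.symm
  · have ht' : t ∉ N.subgroupOf T := fun h => ht (Subgroup.mem_subgroupOf.1 h)
    rw [extGA_neg ht, extGA_neg ht']

theorem om_res_ext {T : Subgroup G} [Fintype T] (hNT : N ≤ T) {b : Set (IrrCharacter N)}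
    (hT : ∀ g : G, g ∈ T ↔ ∀ θ ∈ b, cjI g θ ∈ b) (φ : IrrCharacter T)
    [Decidable (∃ θ ∈ b, OvT hNT φ θ)] :
    om φ.1 (resGA T (extGA N (eB b))) = if ∃ θ ∈ b, OvT hNT φ θ then 1 else 0 := by
  classical
  haveI : Fintype (N.subgroupOf T) := Fintype.ofFinite _
  obtain ⟨θ, hθ⟩ := exists_OvT hNT φ
  have hθ' := (over_iff_OvT hNT).2 hθ
  rw [res_ext_bT hNT, om_ext_eB (bT_gStab hNT hT) hθ']
  have h1 : (∃ θ ∈ b, OvT hNT φ θ) ↔
      trI (Subgroup.subgroupOfEquivOfLe hNT) θ ∈ bT hNT b := by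
    constructor
    · rintro ⟨θ₁, h1, h2⟩
      obtain ⟨x, hx⟩ := exists_cjI_of_over ((over_iff_OvT hNT).2 h2) hθ'
      rw [hx]
      exact bT_gStab hNT hT _ ((mem_bT hNT).2 h1) x
    · intro h
      exact ⟨θ, (mem_bT hNT).1 h, hθ⟩
  by_cases h : ∃ θ ∈ b, OvT hNT φ θ
  · rw [if_pos h, if_pos (h1.1 h)]
  · rw [if_neg h, if_neg (fun h2 => h (h1.2 h2))]

theorem res_ext_isCl {T : Subgroup G} (hNT : N ≤ T) {b : Set (IrrCharacter N)}
    (hT : ∀ g : G, g ∈ T ↔ ∀ θ ∈ b, cjI g θ ∈ b) : IsCl (resGA T (extGA N (eB b))) := by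
  rw [res_ext_bT hNT]
  exact extGA_isCl (eB_gInv (bT_gStab hNT hT))

/-- The `b`-part of the restriction to `T`. -/
theorem Fz_res {T : Subgroup G} [Fintype T] (hNT : N ≤ T) {b : Set (IrrCharacter N)}
    (hT : ∀ g : G, g ∈ T ↔ ∀ θ ∈ b, cjI g θ ∈ b) {χ : G → ℂ} (hχ : IsCharacter G χ)
    [DecidablePred fun φ : IrrCharacter T => ∃ θ ∈ b, OvT hNT φ θ] :
    (fun t : T => Fz χ (extGA N (eB b)) (t : G)) =
      ∑ φ ∈ Finset.univ.filter (fun φ : IrrCharacter T => ∃ θ ∈ b, OvT hNT φ θ),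
        classInner (fun t : T => χ t) φ.1 • φ.1 := by
  classical
  have h0 := char_eq_sum_inner (isChar_res T hχ)
  funext t
  have h1 : Fz χ (extGA N (eB b)) (t : G) =
      ∑ h : T, (resGA T (extGA N (eB b))) h * χ ((h : G) * (t : G)) := by
    unfold Fz
    have h2 : extGA N (eB b) = extGA T (resGA T (extGA N (eB b))) := by
      rw [extGA_resGA]
      intro g hg
      exact hNT (extGA_supp g hg)
    conv_lhs => rw [h2]
    rw [extGA_sum T]
  rw [h1, Finset.sum_apply]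
  have h3 : ∀ h : T, χ ((h : G) * (t : G)) =
      ∑ φ : IrrCharacter T, classInner (fun t : T => χ t) φ.1 * φ.1 (h * t) := by
    intro h
    have := congrFun h0 (h * t)
    rw [Finset.sum_apply] at this
    exact this
  rw [Finset.sum_congr rfl (fun h _ => by rw [h3 h, Finset.mul_sum]), Finset.sum_comm,
    Finset.sum_filter]
  refine Finset.sum_congr rfl (fun φ _ => ?_)
  have h4 := sum_mul_central φ.2 t (1 : GA ℂ T) (res_ext_isCl hNT hT)
  rw [one_mul, om_res_ext hNT hT] at h4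
  have h5 : ∑ g : T, (1 : GA ℂ T) g * φ.1 (t * g) = φ.1 t := by
    rw [Finset.sum_eq_single (1 : T)]
    · rw [ga_one, if_pos rfl, one_mul, mul_one]
    · intro g _ hg
      rw [ga_one, if_neg hg, zero_mul]
    · intro h; exact absurd (Finset.mem_univ _) h
  rw [h5] at h4
  have h6 : ∑ h : T, (resGA T (extGA N (eB b))) h *
      (classInner (fun t : T => χ t) φ.1 * φ.1 (h * t)) =
      classInner (fun t : T => χ t) φ.1 *
      ∑ g : T, (resGA T (extGA N (eB b))) g * φ.1 (t * g) := by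
    rw [Finset.mul_sum]
    refine Finset.sum_congr rfl (fun h _ => ?_)
    have h7 : φ.1 (h * t) = φ.1 (t * h) := by
      have h8 := isChar_classFn (isChar_of_irr φ.2) (h * t) t
      rw [← h8]
      group
    rw [h7]; ring
  rw [h6, h4]
  split_ifs with h
  · rw [one_mul, Pi.smul_apply, smul_eq_mul]
  · rw [zero_mul, mul_zero]

/-- The Clifford correspondence for the stabilizer of a block. -/
theorem fr_clifford (hM : IsPModular p M) {T : Subgroup G} [Fintype T] (hNT : N ≤ T)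
    {b : Set (IrrCharacter N)} (hb : IsPBlock M b)
    (hT : ∀ g : G, g ∈ T ↔ ∀ θ ∈ b, cjI g θ ∈ b) {χ : IrrCharacter G} {θ : IrrCharacter N}
    (hθ : θ ∈ b) (hov : Over χ θ) :
    ∃ φ : IrrCharacter T, (∃ θ ∈ b, OvT hNT φ θ) ∧ indFun T φ.1 = χ.1 ∧
      ∀ φ' : IrrCharacter T, (∃ θ ∈ b, OvT hNT φ' θ) →
        classInner (fun t : T => χ.1 t) φ'.1 ≠ 0 → φ' = φ := by
  classical
  have hχc := isChar_of_irr χ.2
  have h1 := ind_Fz hM hb hT hθ hov
  rw [Fz_res hNT hT hχc] at h1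
  have hm : ∀ φ : IrrCharacter T, ∃ n : ℕ, classInner (fun t : T => χ.1 t) φ.1 = n :=
    fun φ => exists_nat_inner (isChar_res T hχc) φ.2
  choose m hm using hm
  set S := Finset.univ.filter (fun φ : IrrCharacter T => ∃ θ ∈ b, OvT hNT φ θ) with hS
  have h2 : ∑ φ ∈ S, (m φ : ℂ) • indFun T φ.1 = χ.1 := by
    rw [← h1, indFun_sum]
    refine Finset.sum_congr rfl (fun φ _ => ?_)
    rw [indFun_smul, hm]
  have h3 : (∑ φ ∈ S, (m φ : ℂ) * m φ) = 1 := by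
    have h3 : classInner (∑ φ ∈ S, (m φ : ℂ) • indFun T φ.1) χ.1 = 1 := by
      rw [h2]; exact irr_inner_self χ.2
    rw [← h3, classInner_sum_left]
    refine Finset.sum_congr rfl (fun φ _ => ?_)
    rw [classInner_smul_left, reciprocity T φ.1 χ.1 (isChar_classFn hχc),
      ← classInner_conj_symm, hm, Complex.conj_natCast]
  have h4 : (∑ φ ∈ S, m φ * m φ) = 1 := by exact_mod_cast h3
  have h5 : ∃ φ ∈ S, m φ ≠ 0 := by
    by_contra hcon
    push Not at hcon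
    rw [Finset.sum_eq_zero (fun φ hφ => by rw [hcon φ hφ, mul_zero])] at h4
    omega
  obtain ⟨φ, hφS, hφ⟩ := h5
  rw [← Finset.add_sum_erase _ _ hφS] at h4
  have h6 : 1 ≤ m φ * m φ := Nat.one_le_iff_ne_zero.2 (mul_ne_zero hφ hφ)
  have h7 : m φ * m φ = 1 := by omega
  have h8 : ∑ φ' ∈ S.erase φ, m φ' * m φ' = 0 := by omega
  have h9 : m φ = 1 := Nat.eq_one_of_mul_eq_one_right h7
  have h10 : ∀ φ' ∈ S, φ' ≠ φ → m φ' = 0 := by
    intro φ' hφ' hne
    have := (Finset.sum_eq_zero_iff.1 h8) φ' (Finset.mem_erase.2 ⟨hne, hφ'⟩)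
    exact mul_self_eq_zero.1 this
  refine ⟨φ, (Finset.mem_filter.1 hφS).2, ?_, ?_⟩
  · rw [← h2, ← Finset.add_sum_erase _ _ hφS, h9, Finset.sum_eq_zero, add_zero, Nat.cast_one,
      one_smul]
    intro φ' hφ'
    rw [h10 φ' (Finset.mem_of_mem_erase hφ') (Finset.ne_of_mem_erase hφ'), Nat.cast_zero,
      zero_smul]
  · intro φ' h11 h12
    by_contra hne
    apply h12
    rw [hm, h10 φ' (Finset.mem_filter.2 ⟨Finset.mem_univ _, h11⟩) hne, Nat.cast_zero]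

/-- Constituents of restrictions, in stages. -/
theorem over_of_stages {T : Subgroup G} [Fintype T] (hNT : N ≤ T) {χ : G → ℂ}
    (hχ : IsCharacter G χ) {φ : IrrCharacter T} {θ : IrrCharacter N}
    (h1 : classInner (fun t : T => χ t) φ.1 ≠ 0) (h2 : OvT hNT φ θ) :
    classInner (fun n : N => χ n) θ.1 ≠ 0 := by
  classical
  have h0 := char_eq_sum_inner (isChar_res T hχ)
  have hm : ∀ φ : IrrCharacter T, ∃ n : ℕ, classInner (fun t : T => χ t) φ.1 = n :=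
    fun φ => exists_nat_inner (isChar_res T hχ) φ.2
  choose m hm using hm
  have hk : ∀ φ : IrrCharacter T, ∃ n : ℕ,
      classInner (fun n : N => φ.1 ⟨(n : G), hNT n.2⟩) θ.1 = n :=
    fun φ => exists_nat_inner (res_isChar hNT (isChar_of_irr φ.2)) θ.2
  choose k hk using hk
  have h3 : (fun n : N => χ n) =
      ∑ φ : IrrCharacter T, (m φ : ℂ) • fun n : N => φ.1 ⟨(n : G), hNT n.2⟩ := by
    funext n
    have := congrFun h0 ⟨(n : G), hNT n.2⟩
    rw [Finset.sum_apply] at this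
    rw [Finset.sum_apply]
    refine this.trans (Finset.sum_congr rfl (fun φ _ => ?_))
    rw [hm]; rfl
  rw [h3, classInner_sum_left]
  have h4 : ∀ φ : IrrCharacter T, classInner ((m φ : ℂ) • fun n : N => φ.1 ⟨(n : G), hNT n.2⟩)
      θ.1 = ((m φ * k φ : ℕ) : ℂ) := by
    intro φ
    rw [classInner_smul_left, hk, Nat.cast_mul]
  rw [Finset.sum_congr rfl (fun φ _ => h4 φ), ← Nat.cast_sum, Nat.cast_ne_zero]
  intro h5
  have h6 := (Finset.sum_eq_zero_iff.1 h5) φ (Finset.mem_univ _)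
  rcases mul_eq_zero.1 h6 with h7 | h7
  · apply h1; rw [hm, h7, Nat.cast_zero]
  · apply h2; rw [hk, h7, Nat.cast_zero]

theorem fr_irr (hM : IsPModular p M) {T : Subgroup G} [Fintype T] (hNT : N ≤ T)
    {b : Set (IrrCharacter N)} (hb : IsPBlock M b)
    (hT : ∀ g : G, g ∈ T ↔ ∀ θ ∈ b, cjI g θ ∈ b) {φ : IrrCharacter T}
    {θ : IrrCharacter N} (hθ : θ ∈ b) (hov : OvT hNT φ θ) :
    ∃ χ : IrrCharacter G, χ.1 = indFun T φ.1 ∧ Over χ θ := by
  have hc := isChar_ind T (isChar_of_irr φ.2)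
  have hne : indFun T φ.1 ≠ 0 := by
    intro h
    have h1 := congrFun h 1
    rw [indFun_one] at h1
    rcases mul_eq_zero.1 h1 with h2 | h2
    · exact T.index_ne_zero_of_finite (Nat.cast_eq_zero.1 h2)
    · exact isIrr_one_ne_zero φ.2 h2
  obtain ⟨χ, hχ⟩ := char_ne_zero_exists_constituent hc hne
  rw [reciprocity T φ.1 χ.1 (isChar_classFn (isChar_of_irr χ.2)), ← classInner_conj_symm] at hχ
  have h1 : classInner (fun t : T => χ.1 t) φ.1 ≠ 0 := by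
    intro h
    rw [h, map_zero] at hχ
    exact hχ rfl
  have h2 : Over χ θ := over_of_stages hNT (isChar_of_irr χ.2) h1 hov
  obtain ⟨φ₁, -, h3, h4⟩ := fr_clifford hM hNT hb hT hθ h2
  have h5 := h4 φ ⟨θ, hθ, hov⟩ h1
  exact ⟨χ, by rw [h5, h3], h2⟩

theorem fr_inj (hM : IsPModular p M) {T : Subgroup G} [Fintype T] (hNT : N ≤ T)
    {b : Set (IrrCharacter N)} (hb : IsPBlock M b)
    (hT : ∀ g : G, g ∈ T ↔ ∀ θ ∈ b, cjI g θ ∈ b) {φ φ' : IrrCharacter T}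
    (hφ : ∃ θ ∈ b, OvT hNT φ θ) (hφ' : ∃ θ ∈ b, OvT hNT φ' θ)
    (h : indFun T φ.1 = indFun T φ'.1) : φ = φ' := by
  obtain ⟨θ, hθ, hov⟩ := hφ
  obtain ⟨χ, hχ, hov2⟩ := fr_irr hM hNT hb hT hθ hov
  obtain ⟨φ₁, -, h3, h4⟩ := fr_clifford hM hNT hb hT hθ hov2
  have key : ∀ ψ : IrrCharacter T, χ.1 = indFun T ψ.1 →
      classInner (fun t : T => χ.1 t) ψ.1 ≠ 0 := by
    intro ψ hψ
    rw [← classInner_conj_symm, ← reciprocity T ψ.1 χ.1 (isChar_classFn (isChar_of_irr χ.2)),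
      ← hψ, irr_inner_self χ.2, map_one]
    exact one_ne_zero
  rw [h4 φ ⟨θ, hθ, hov⟩ (key φ hχ), h4 φ' hφ' (key φ' (hχ.trans h))]

end FRb

end Cfsg.Agent.Lib.BlkH5R
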