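import Cfsg.Agent.Lib.BlockRey
import Cfsg.Agent.Lib.BlockKB
import Cfsg.Agent.Lib.BlockLar
import Cfsg.Agent.Lib.BlockMaxB
import Cfsg.Agent.Lib.BlockIndIn
import Cfsg.Agent.Lib.BlockBFM

import Cfsg.Agent.Lib.BlkH5R

/-!
Fong-Reynolds, III.
-/

set_option autoImplicit false
set_option linter.style.haveILetI false
set_option linter.unusedVariables false
set_option linter.unusedSectionVars false
set_option linter.unusedDecidableInType false
set_option linter.unusedFintypeInType false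
set_option linter.unusedSimpArgs false

namespace Cfsg.Agent.Lib.BlkH5S
open Cfsg Cfsg.Agent.Lib.BlockLoc Cfsg.Agent.Lib.BlockGA Cfsg.Agent.Lib.CharBasic
open Cfsg.Agent.Lib.BlockIdem Cfsg.Agent.Lib.BlockPP Cfsg.Agent.Lib.BlockOrth
open Cfsg.Agent.Lib.BlockRed Cfsg.Agent.Lib.BlockDef Cfsg.Agent.Lib.BlockDeg
open Cfsg.Agent.Lib.BlockNP Cfsg.Agent.Lib.BlockInd Cfsg.Agent.Lib.BlockSecond
open Cfsg.Agent.Lib.BlockFirst Cfsg.Agent.Lib.BlockHt Cfsg.Agent.Lib.BlockM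
open Cfsg.Agent.Lib.BlockCov Cfsg.Agent.Lib.BlockQuot Cfsg.Agent.Lib.CharKer
open Cfsg.Agent.Lib.BlockQuotB Cfsg.Agent.Lib.BlockMore Cfsg.Agent.Lib.BlockMoreB
open Cfsg.Agent.Lib.BlockTr Cfsg.Agent.Lib.CharNormal Cfsg.Agent.Lib.BlockCovB
open Cfsg.Agent.Lib.BlockBP Cfsg.Agent.Lib.BlockInt Cfsg.Agent.Lib.BlockSum Cfsg.Agent.Lib.BlockRk
open Cfsg.Agent.Lib.BlockFusB Cfsg.Agent.Lib.BlockMax Cfsg.Agent.Lib.CharSplit Cfsg.Agent.Lib.CharBrauer
open Cfsg.Agent.Lib.CharInd Cfsg.Agent.Lib.BlockPC Cfsg.Agent.Lib.BlockPair Cfsg.Agent.Lib.BlockPairB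
open Cfsg.Agent.Lib.BlockPairC Cfsg.Agent.Lib.BlockPairD Cfsg.Agent.Lib.BlockPairE
open Cfsg.Agent.Lib.BlockRey Cfsg.Agent.Lib.BlockPairF Cfsg.Agent.Lib.BlockFus Cfsg.Agent.Lib.BlockNilB Cfsg.Agent.Lib.BlockNil Cfsg.Agent.Lib.CharClifford
open Cfsg.Agent.Lib.BlockKB Cfsg.Agent.Lib.BlockLar Cfsg.Agent.Lib.BlockMaxB Cfsg.Agent.Lib.BlockIndIn Cfsg.Agent.Lib.BlockBFM
open Cfsg.Agent.Lib.BlkH5R
open scoped ComplexConjugate

section FRc

variable {G : Type*} [Group G] [Fintype G] {p : ℕ} {M : Ideal AlgInt}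

theorem sum_coset {H : Subgroup G} [Fintype (G ⧸ H)] (F : G → ℂ)
    (hF : ∀ x, ∀ h ∈ H, F (x * h) = F x) :
    ∑ x, F x = (Nat.card H : ℂ) * ∑ q : G ⧸ H, F (Quotient.out q) := by
  classical
  have h1 : ∀ x : G, F x = F (Quotient.out (QuotientGroup.mk x : G ⧸ H)) := by
    intro x
    have h2 : (QuotientGroup.mk (Quotient.out (QuotientGroup.mk x : G ⧸ H)) : G ⧸ H) =
        QuotientGroup.mk x := Quotient.out_eq _
    rw [QuotientGroup.eq] at h2
    have h3 := hF (Quotient.out (QuotientGroup.mk x : G ⧸ H)) _ h2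
    rw [mul_inv_cancel_left] at h3
    exact h3
  rw [Finset.sum_congr rfl (fun x _ => h1 x),
    ← Finset.sum_fiberwise Finset.univ (fun x : G => (QuotientGroup.mk x : G ⧸ H))
      (fun x => F (Quotient.out (QuotientGroup.mk x : G ⧸ H))), Finset.mul_sum]
  refine Finset.sum_congr rfl (fun q _ => ?_)
  have h4 : ∑ x ∈ Finset.univ.filter (fun x : G => (QuotientGroup.mk x : G ⧸ H) = q),
      F (Quotient.out (QuotientGroup.mk x : G ⧸ H)) =
      ∑ x ∈ Finset.univ.filter (fun x : G => (QuotientGroup.mk x : G ⧸ H) = q),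
        F (Quotient.out q) :=
    Finset.sum_congr rfl (fun x hx => by rw [(Finset.mem_filter.1 hx).2])
  rw [h4, Finset.sum_const, nsmul_eq_mul]
  congr 2
  have h5 : Finset.univ.filter (fun x : G => (QuotientGroup.mk x : G ⧸ H) = q) =
      (Finset.univ.filter (fun x : G => x ∈ H)).map (mulLeftEmbedding (Quotient.out q)) := by
    ext x
    rw [Finset.mem_filter, Finset.mem_map]
    constructor
    · rintro ⟨-, hx⟩
      refine ⟨(Quotient.out q)⁻¹ * x, ?_, mul_inv_cancel_left _ _⟩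
      rw [Finset.mem_filter]
      refine ⟨Finset.mem_univ _, ?_⟩
      rw [← QuotientGroup.eq, hx]
      exact Quotient.out_eq _
    · rintro ⟨y, hy, rfl⟩
      refine ⟨Finset.mem_univ _, ?_⟩
      rw [Finset.mem_filter] at hy
      have h6 : (QuotientGroup.mk (Quotient.out q) : G ⧸ H) = q := Quotient.out_eq _
      conv_rhs => rw [← h6]
      symm
      rw [QuotientGroup.eq]
      change (Quotient.out q)⁻¹ * (Quotient.out q * y) ∈ H
      rw [inv_mul_cancel_left]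
      exact hy.2
  rw [h5, Finset.card_map, Nat.card_eq_fintype_card, Fintype.card_subtype]

/-- Induced characters and central elements. -/
theorem om_ind {H : Subgroup G} [Fintype H] {ψ : H → ℂ} (hψ : ψ 1 ≠ 0) {c : GA ℂ G}
    (hc : IsCl c) : om (indFun H ψ) c = om ψ (resGA H c) := by
  have h1 := reciprocity H ψ (fun g => conj (c g)) (by
    intro g x
    exact congrArg conj (hc g x))
  rw [classInner_def, classInner_def] at h1
  simp only [Complex.conj_conj] at h1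
  have h2 : ∑ g, indFun H ψ g * c g = (H.index : ℂ) * ∑ h : H, ψ h * c (h : G) := by
    have h3 : (Nat.card G : ℂ) = (H.index : ℂ) * (Nat.card H : ℂ) := by
      exact_mod_cast (Subgroup.index_mul_card H).symm
    have hG := card_ne_zero' (G := G)
    have hH : (Nat.card H : ℂ) ≠ 0 := Nat.cast_ne_zero.2 Nat.card_pos.ne'
    have h4 : (Nat.card G : ℂ) * ((Nat.card G : ℂ)⁻¹ * ∑ g, indFun H ψ g * c g) =
        (Nat.card G : ℂ) * ((Nat.card H : ℂ)⁻¹ * ∑ h : H, ψ h * c (h : G)) := by rw [h1]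
    rw [mul_inv_cancel_left₀ hG, h3, mul_assoc, mul_inv_cancel_left₀ hH] at h4
    exact h4
  have hi : (H.index : ℂ) ≠ 0 := Nat.cast_ne_zero.2 H.index_ne_zero_of_finite
  rw [om_eq, om_eq, indFun_one]
  have h5 : ∑ g, c g * indFun H ψ g = (H.index : ℂ) * ∑ h : H, ψ h * c (h : G) := by
    rw [← h2]
    exact Finset.sum_congr rfl (fun g _ => mul_comm _ _)
  have h6 : ∑ h : H, (resGA H c) h * ψ h = ∑ h : H, ψ h * c (h : G) :=
    Finset.sum_congr rfl (fun h _ => by rw [resGA_apply, mul_comm])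
  rw [h5, h6, mul_div_mul_left _ _ hi]

theorem induced_of_ind (hM : IsPModular p M) {H : Subgroup G} [Fintype H]
    {b : Set (IrrCharacter H)} (hb : IsPBlock M b) {ψ : IrrCharacter H} (hψ : ψ ∈ b)
    {χ : IrrCharacter G} (hχ : χ.1 = indFun H ψ.1) {B : Set (IrrCharacter G)}
    (hB : IsPBlock M B) (hχB : χ ∈ B) : IsInducedBlock M H b B := by
  rw [isInducedBlock_iff hM hψ hχB]
  refine ⟨hb, hB, (forall_cl_iff hM ψ χ).1 (fun g => ?_)⟩
  rw [lam_resGA_cs hM ψ.2, lam_cs hM χ.2, inducedCentralChar_eq,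
    ← om_ind (isIrr_one_ne_zero ψ.2) (cs_isCl g), ← hχ,
    om_cs (isChar_classFn (isChar_of_irr χ.2))]

/-- The set of induced characters has a local idempotent. -/
theorem isLoc_ind_set (hM : IsPModular p M) {T : Subgroup G} [Fintype T]
    {B' : Set (IrrCharacter T)} (hB' : IsPBlock M B')
    (ch : ∀ ψ : IrrCharacter T, ψ ∈ B' → IrrCharacter G)
    (hch : ∀ ψ hψ, (ch ψ hψ).1 = indFun T ψ.1)
    (hinj : ∀ ψ ∈ B', ∀ ψ' ∈ B', indFun T ψ.1 = indFun T ψ'.1 → ψ = ψ') :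
    IsLoc M (eB {χ : IrrCharacter G | ∃ ψ ∈ B', χ.1 = indFun T ψ.1}) := by
  classical
  haveI : Fintype (G ⧸ T) := Fintype.ofFinite _
  set A : Set (IrrCharacter G) := {χ : IrrCharacter G | ∃ ψ ∈ B', χ.1 = indFun T ψ.1} with hA
  set f : GA ℂ G := extGA T (eB B') with hf
  have hfl : IsLoc M f := extGA_loc hM (isLoc_eB hM hB')
  have hfinv : ∀ t ∈ T, Inv t f := fun t ht => extGA_inv (eB_isCl B') ht
  intro g
  have hcard : (Nat.card G : ℂ) = (T.index : ℂ) * (Nat.card T : ℂ) := by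
    exact_mod_cast (Subgroup.index_mul_card T).symm
  have hi : (T.index : ℂ) ≠ 0 := Nat.cast_ne_zero.2 T.index_ne_zero_of_finite
  have hT0 : (Nat.card T : ℂ) ≠ 0 := Nat.cast_ne_zero.2 Nat.card_pos.ne'
  have h1 : (eB A) g = (Nat.card T : ℂ)⁻¹ * ∑ x : G, f (x⁻¹ * g * x) := by
    rw [eB_apply, blockCoeff_eq]
    have h2 : ∑ χ ∈ Finset.univ.filter (· ∈ A), χ.1 1 * χ.1 g⁻¹ =
        ∑ ψ ∈ Finset.univ.filter (· ∈ B'), indFun T ψ.1 1 * indFun T ψ.1 g⁻¹ := by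
      symm
      refine Finset.sum_bij (fun ψ hψ => ch ψ (Finset.mem_filter.1 hψ).2) ?_ ?_ ?_ ?_
      · intro ψ hψ
        rw [Finset.mem_filter]
        exact ⟨Finset.mem_univ _, ψ, (Finset.mem_filter.1 hψ).2, hch _ _⟩
      · intro ψ hψ ψ' hψ' h
        have h3 := congrArg Subtype.val h
        rw [hch, hch] at h3
        exact hinj ψ (Finset.mem_filter.1 hψ).2 ψ' (Finset.mem_filter.1 hψ').2 h3
      · intro χ hχ
        obtain ⟨ψ, hψ, h3⟩ := (Finset.mem_filter.1 hχ).2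
        refine ⟨ψ, Finset.mem_filter.2 ⟨Finset.mem_univ _, hψ⟩, Subtype.ext ?_⟩
        rw [hch, h3]
      · intro ψ hψ
        rw [hch]
    rw [h2]
    have h3 : ∀ x : G, f (x⁻¹ * g * x) = (Nat.card T : ℂ)⁻¹ *
        ∑ ψ ∈ Finset.univ.filter (· ∈ B'), ψ.1 1 * extendByZero T ψ.1 (x⁻¹ * g⁻¹ * x) := by
      intro x
      have hinv : x⁻¹ * g⁻¹ * x = (x⁻¹ * g * x)⁻¹ := by group
      by_cases hx : x⁻¹ * g * x ∈ T
      · rw [hf, extGA_pos hx, eB_apply, blockCoeff_eq]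
        congr 1
        refine Finset.sum_congr rfl (fun ψ _ => ?_)
        have hx' : x⁻¹ * g⁻¹ * x ∈ T := by rw [hinv]; exact T.inv_mem hx
        rw [ext_mem T _ hx']
        have h4 : (⟨x⁻¹ * g * x, hx⟩ : T)⁻¹ = ⟨x⁻¹ * g⁻¹ * x, hx'⟩ := Subtype.ext hinv.symm
        rw [h4]
      · rw [hf, extGA_neg hx]
        have hx' : x⁻¹ * g⁻¹ * x ∉ T := by
          rw [hinv]
          intro h
          apply hx
          have := T.inv_mem h
          rwa [inv_inv] at this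
        rw [Finset.sum_eq_zero, mul_zero]
        intro ψ _
        rw [ext_notMem T _ hx', mul_zero]
    rw [Finset.sum_congr rfl (fun x _ => h3 x), ← Finset.mul_sum, Finset.sum_comm, hcard,
      mul_inv]
    have h4 : ∀ ψ : IrrCharacter T, indFun T ψ.1 1 * indFun T ψ.1 g⁻¹ =
        (T.index : ℂ) * ((Nat.card T : ℂ)⁻¹ *
          ∑ x : G, ψ.1 1 * extendByZero T ψ.1 (x⁻¹ * g⁻¹ * x)) := by
      intro ψ
      rw [indFun_one, indFun_apply, ← Finset.mul_sum]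
      ring
    rw [Finset.sum_congr rfl (fun ψ _ => h4 ψ), ← Finset.mul_sum, ← Finset.mul_sum]
    field_simp
  rw [h1, sum_coset (H := T) (fun x => f (x⁻¹ * g * x)), inv_mul_cancel_left₀ hT0]
  · exact loc_sum hM _ _ (fun q _ => hfl _)
  · intro x h hh
    have h2 := hfinv h⁻¹ (T.inv_mem hh) (x⁻¹ * g * x)
    rw [inv_inv] at h2
    rw [← h2]
    congr 1
    group

/-- The block form of the Fong-Reynolds correspondence. -/
theorem fr_block (hM : IsPModular p M) {N : Subgroup G} [hN : N.Normal] [Fintype N]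
    {T : Subgroup G} [Fintype T] (hNT : N ≤ T)
    {b : Set (IrrCharacter N)} (hb : IsPBlock M b)
    (hT : ∀ g : G, g ∈ T ↔ ∀ θ ∈ b, cjI g θ ∈ b) {B' : Set (IrrCharacter T)}
    (hB' : IsPBlock M B') (hcov : ∃ ψ ∈ B', ∃ θ ∈ b, OvT hNT ψ θ) :
    (∀ ψ ∈ B', ∃ θ ∈ b, OvT hNT ψ θ) ∧
    ∃ B : Set (IrrCharacter G), IsInducedBlock M T B' B ∧
      ∀ χ : IrrCharacter G, χ ∈ B ↔ ∃ ψ ∈ B', χ.1 = indFun T ψ.1 := by
  classical
  haveI : Fintype (N.subgroupOf T) := Fintype.ofFinite _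
  have hall : ∀ ψ ∈ B', ∃ θ ∈ b, OvT hNT ψ θ := by
    intro ψ hψ
    have hbT : IsPBlock M (bT hNT b) := isPBlock_trB hM _ hb
    obtain ⟨ψ₀, hψ₀, θ₀, hθ₀, h0⟩ := hcov
    have hc : Cov B' (bT hNT b) :=
      ⟨ψ₀, hψ₀, _, (mem_bT hNT).2 hθ₀, (over_iff_OvT hNT).2 h0⟩
    obtain ⟨θ', hθ', hov⟩ := exists_over_of_cov hM hB' hbT hc hψ
    refine ⟨trI (Subgroup.subgroupOfEquivOfLe hNT).symm θ', ?_, ?_⟩
    · rw [← mem_bT hNT, trI_trI_symm]; exact hθ'
    · rw [← over_iff_OvT hNT, trI_trI_symm]; exact hov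
  refine ⟨hall, ?_⟩
  have hex : ∀ ψ : IrrCharacter T, ψ ∈ B' → ∃ χ : IrrCharacter G, χ.1 = indFun T ψ.1 := by
    intro ψ hψ
    obtain ⟨θ, hθ, hov⟩ := hall ψ hψ
    obtain ⟨χ, hχ, -⟩ := fr_irr hM hNT hb hT hθ hov
    exact ⟨χ, hχ⟩
  choose ch hch using hex
  have hinj : ∀ ψ ∈ B', ∀ ψ' ∈ B', indFun T ψ.1 = indFun T ψ'.1 → ψ = ψ' :=
    fun ψ hψ ψ' hψ' h => fr_inj hM hNT hb hT (hall ψ hψ) (hall ψ' hψ') h
  have hloc := isLoc_ind_set hM hB' ch hch hinj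
  obtain ⟨ψ₀, hψ₀⟩ := block_nonempty hM hB'
  have h1 := union_blocks_of_isLoc hM hloc (χ := ch ψ₀ hψ₀) ⟨ψ₀, hψ₀, hch ψ₀ hψ₀⟩
  have hB := isPBlock_blockOf M (ch ψ₀ hψ₀)
  have hind := induced_of_ind hM hB' hψ₀ (hch ψ₀ hψ₀) hB (self_mem_blockOf hM _)
  refine ⟨blockOf M (ch ψ₀ hψ₀).1, hind, fun χ => ⟨fun hχ => h1 hχ, ?_⟩⟩
  rintro ⟨ψ, hψ, hχ⟩
  have h2 := induced_of_ind hM hB' hψ hχ (isPBlock_blockOf M χ) (self_mem_blockOf hM _)
  rw [induced_unique hM hind h2]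
  exact self_mem_blockOf hM _

theorem fac_degree_ind {T : Subgroup G} [Fintype T] {ψ : IrrCharacter T} {χ : IrrCharacter G}
    (h : χ.1 = indFun T ψ.1) : (charDegree χ.1).factorization p =
      T.index.factorization p + (charDegree ψ.1).factorization p := by
  have h1 : charDegree χ.1 = T.index * charDegree ψ.1 := by
    have h2 : (charDegree χ.1 : ℂ) = ((T.index * charDegree ψ.1 : ℕ) : ℂ) := by
      rw [charDegree_cast (isChar_of_irr χ.2), h, indFun_one, Nat.cast_mul,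
        charDegree_cast (isChar_of_irr ψ.2)]
    exact_mod_cast h2
  rw [h1, Nat.factorization_mul T.index_ne_zero_of_finite (charDegree_ne_zero ψ.2),
    Finsupp.add_apply]

end FRc

end Cfsg.Agent.Lib.BlkH5S
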