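import Cfsg.Agent.Lib.BlockRey
import Cfsg.Agent.Lib.BlockKB
import Cfsg.Agent.Lib.BlockLar
import Cfsg.Agent.Lib.BlockMaxB
import Cfsg.Agent.Lib.BlockIndIn
import Cfsg.Agent.Lib.BlockBFM

import Cfsg.Agent.Lib.BlkH5Q
import Cfsg.Agent.Lib.BlkH5R
import Cfsg.Agent.Lib.BlkH5S
import Cfsg.Agent.Lib.BlockNilC
import Cfsg.Agent.Lib.BlockPairD
import Cfsg.Agent.Lib.BlockPairC
import Cfsg.Agent.Lib.BlockNP

/-!
Graded nilpotency.
-/

set_option autoImplicit false
set_option linter.style.haveILetI false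
set_option linter.unusedVariables false
set_option linter.unusedSectionVars false
set_option linter.unusedDecidableInType false
set_option linter.unusedFintypeInType false
set_option linter.unusedSimpArgs false

namespace Cfsg.Agent.Lib.BlkH5T
open Cfsg Cfsg.Agent.Lib.BlockLoc Cfsg.Agent.Lib.BlockGA Cfsg.Agent.Lib.CharBasic
open Cfsg.Agent.Lib.BlockIdem Cfsg.Agent.Lib.BlockPP Cfsg.Agent.Lib.BlockOrth
open Cfsg.Agent.Lib.BlockRed Cfsg.Agent.Lib.BlockDef Cfsg.Agent.Lib.BlockDeg
open Cfsg.Agent.Lib.BlockNP Cfsg.Agent.Lib.BlockInd Cfsg.Agent.Lib.BlockSecond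
open Cfsg.Agent.Lib.BlockFirst Cfsg.Agent.Lib.BlockHt Cfsg.Agent.Lib.BlockM
open Cfsg.Agent.Lib.BlockCov Cfsg.Agent.Lib.BlockQuot Cfsg.Agent.Lib.CharKer
open Cfsg.Agent.Lib.BlockQuotB Cfsg.Agent.Lib.BlockMore Cfsg.Agent.Lib.BlockMoreB
open Cfsg.Agent.Lib.BlockTr Cfsg.Agent.Lib.CharNormal Cfsg.Agent.Lib.BlockCovB
open Cfsg.Agent.Lib.BlockBP Cfsg.Agent.Lib.BlockInt Cfsg.Agent.Lib.BlockSum Cfsg.Agent.Lib.BlockRk
open Cfsg.Agent.Lib.BlockFusB Cfsg.Agent.Lib.BlockMax Cfsg.Agent.Lib.CharSplit Cfsg.Agent.Lib.CharBrauer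
open Cfsg.Agent.Lib.CharInd Cfsg.Agent.Lib.BlockPC Cfsg.Agent.Lib.BlockPair Cfsg.Agent.Lib.BlockPairB
open Cfsg.Agent.Lib.BlockPairC Cfsg.Agent.Lib.BlockPairD Cfsg.Agent.Lib.BlockPairE
open Cfsg.Agent.Lib.BlockRey Cfsg.Agent.Lib.BlockPairF Cfsg.Agent.Lib.BlockFus Cfsg.Agent.Lib.BlockNilB Cfsg.Agent.Lib.BlockNil Cfsg.Agent.Lib.CharClifford
open Cfsg.Agent.Lib.BlockKB Cfsg.Agent.Lib.BlockLar Cfsg.Agent.Lib.BlockMaxB Cfsg.Agent.Lib.BlockIndIn Cfsg.Agent.Lib.BlockBFM
open Cfsg.Agent.Lib.BlkH5Q Cfsg.Agent.Lib.BlkH5R Cfsg.Agent.Lib.BlkH5S Cfsg.Agent.Lib.BlockNilC Cfsg.Agent.Lib.BlockPairD Cfsg.Agent.Lib.BlockPairC Cfsg.Agent.Lib.BlockNP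
open scoped ComplexConjugate

section Gr

variable {G : Type*} [Group G] [Finite G] {k : Type*} [Field k] {N : Subgroup G} [hN : N.Normal]

/-- Homogeneous elements of the group algebra, graded by `G ⧸ N`. -/
def Hg (q : G ⧸ N) (a : GA k G) : Prop := ∀ g : G, a g ≠ 0 → (g : G ⧸ N) = q

/-- Elements commuting with `N`. -/
def NI (N : Subgroup G) (a : GA k G) : Prop := ∀ n ∈ N, Inv n a

/-- The homogeneous components. -/
noncomputable def cmp (q : G ⧸ N) (a : GA k G) : GA k G :=
  ⟨fun g => haveI := Classical.propDecidable ((g : G ⧸ N) = q); if (g : G ⧸ N) = q then a g else 0⟩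

theorem cmp_pos {q : G ⧸ N} {a : GA k G} {g : G} (h : (g : G ⧸ N) = q) : (cmp q a) g = a g := by
  unfold cmp
  rw [mk_apply, if_pos h]

theorem cmp_neg {q : G ⧸ N} {a : GA k G} {g : G} (h : (g : G ⧸ N) ≠ q) : (cmp q a) g = 0 := by
  unfold cmp
  rw [mk_apply, if_neg h]

theorem cmp_Hg (q : G ⧸ N) (a : GA k G) : Hg q (cmp q a) := by
  intro g hg
  by_contra h
  exact hg (cmp_neg h)

theorem sum_cmp [Fintype (G ⧸ N)] (a : GA k G) : ∑ q : G ⧸ N, cmp q a = a := by
  classical
  ext g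
  rw [ga_sum, Finset.sum_eq_single (g : G ⧸ N)]
  · exact cmp_pos rfl
  · intro q _ hq
    exact cmp_neg (Ne.symm hq)
  · intro h; exact absurd (Finset.mem_univ _) h

theorem Hg.mul {q r : G ⧸ N} {a b : GA k G} (ha : Hg q a) (hb : Hg r b) : Hg (q * r) (a * b) := by
  classical
  cases nonempty_fintype G
  intro g hg
  rw [ga_mul] at hg
  obtain ⟨h, -, hh⟩ := Finset.exists_ne_zero_of_sum_ne_zero hg
  have h1 := ha h (left_ne_zero_of_mul hh)
  have h2 := hb _ (right_ne_zero_of_mul hh)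
  rw [← h1, ← h2, ← QuotientGroup.mk_mul, mul_inv_cancel_left]

theorem mk_conj_eq {n : G} (hn : n ∈ N) (g : G) : ((n * g * n⁻¹ : G) : G ⧸ N) = (g : G ⧸ N) := by
  have h1 : (n : G ⧸ N) = 1 := (QuotientGroup.eq_one_iff n).2 hn
  rw [QuotientGroup.mk_mul, QuotientGroup.mk_mul, QuotientGroup.mk_inv, h1, one_mul, inv_one,
    mul_one]

theorem cmp_NI {q : G ⧸ N} {a : GA k G} (ha : NI N a) : NI N (cmp q a) := by
  intro n hn g
  by_cases h : (g : G ⧸ N) = q
  · rw [cmp_pos h, cmp_pos ((mk_conj_eq hn g).trans h)]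
    exact ha n hn g
  · rw [cmp_neg h, cmp_neg]
    rw [mk_conj_eq hn g]; exact h

theorem NI.mulN {a b : GA k G} (ha : NI N a) (hb : NI N b) : NI N (a * b) := fun n hn =>
  Inv.mulA (ha n hn) (hb n hn)

theorem NI.cl {a : GA k G} (ha : IsCl a) : NI N a := fun n _ g => ha g n

theorem NI.res {a : GA k G} (ha : NI N a) : IsCl (resGA N a) := fun g n => ha n n.2 g

theorem NI_one : NI N (1 : GA k G) := NI.cl IsCl.one

theorem Hg_one : Hg (1 : G ⧸ N) (1 : GA k G) := by
  classical
  intro g hg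
  rw [ga_one] at hg
  by_cases h : g = 1
  · rw [h]; rfl
  · rw [if_neg h] at hg; exact absurd rfl hg

theorem Hg.supp {a : GA k G} (ha : Hg (1 : G ⧸ N) a) : ∀ g, a g ≠ 0 → g ∈ N := fun g hg =>
  (QuotientGroup.eq_one_iff g).1 (ha g hg)

theorem Hg.of_supp {a : GA k G} (ha : ∀ g, a g ≠ 0 → g ∈ N) : Hg (1 : G ⧸ N) a := fun g hg =>
  (QuotientGroup.eq_one_iff g).2 (ha g hg)

theorem resGA_mul_supp {k : Type*} [CommRing k] {H : Subgroup G} {a b : GA k G}
    (hb : ∀ g, b g ≠ 0 → g ∈ H) : resGA H (a * b) = resGA H a * resGA H b := by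
  classical
  cases nonempty_fintype G
  haveI : Fintype H := Fintype.ofFinite _
  ext h
  rw [resGA_apply, ga_mul', ga_mul']
  have h1 := extGA_sum H (resGA H b) (fun x => a ((h : G) * x⁻¹))
  rw [extGA_resGA hb] at h1
  rw [Finset.sum_congr rfl (fun x _ => mul_comm _ _), h1]
  exact Finset.sum_congr rfl (fun x _ => mul_comm _ _)

end Gr

section GrB

variable {G : Type*} [Group G] [Finite G] {p : ℕ} {M : Ideal AlgInt} {N : Subgroup G}
  [hN : N.Normal] [Fintype N]

/-- A covered block multiplies nontrivially. -/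
theorem mul_ne_zero_of_cov (hM : IsPModular p M) {B : Set (IrrCharacter G)}
    {b : Set (IrrCharacter N)} (hB : IsPBlock M B) (hb : IsPBlock M b) (hcov : Cov B b) :
    eF hM B * eX hM N b ≠ 0 := by
  cases nonempty_fintype G
  obtain ⟨f, hf, hne⟩ := exists_cover_below hM N (eF_ne_zero hM hB)
  have hcf : Cov B f := cov_of_mul_ne_zero hM hne hB hf
  obtain ⟨χ, hχ, ψ, hψ, hov⟩ := hcf
  obtain ⟨x, hx⟩ := mem_orb_of_cov hM hB hb hcov hχ hov
  have h1 : f = bx x b := block_eq_of_mem_of_mem hM hf (bx_block hM x hb) hψ hx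
  have h2 : eX hM N f = cjGA x (eX hM N b) := by
    rw [h1, bx_eq, eX_trB]
  intro h0
  apply hne
  have h3 : cjGA x (eF hM B) = eF hM B := inv_iff_cjGA.1 (fun g => eF_isCl hM B g x)
  rw [h2, ← h3, ← cjGA_mul, h0]
  ext g
  rfl

/-- **The key lemma**: some homogeneous component of a covering block is invertible. -/
theorem exists_unit_comp (hM : IsPModular p M) {B : Set (IrrCharacter G)}
    {b : Set (IrrCharacter N)} (hB : IsPBlock M B) (hb : IsPBlock M b) (hcov : Cov B b)
    {θ : IrrCharacter N} (hθ : θ ∈ b) :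
    ∃ (q : G ⧸ N) (v : GA (ResF hM) G), Hg q⁻¹ v ∧ NI N v ∧
      lam hM θ.1 (resGA N (v * eF hM B)) ≠ 0 := by
  classical
  by_contra hcon
  push Not at hcon
  haveI : Fintype (G ⧸ N) := Fintype.ofFinite _
  set eb := eX hM N b with heb
  have hebs : ∀ g, eb g ≠ 0 → g ∈ N := fun g hg => eX_supp hM b g hg
  have hebN : NI N eb := fun n hn => extGA_inv (eF_isCl hM b) hn
  have hebeb : eb * eb = eb := by
    rw [heb, eX_mul hM (isLoc_eB hM hb) (isLoc_eB hM hb), Set.inter_self]
  have hebr : resGA N eb = eF hM b := resGA_extGA _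
  have hlb : lam hM θ.1 (eF hM b) = 1 := lam_eF_mem hM (isLoc_eB hM hb) hθ
  have hcomm : ∀ {a s : GA (ResF hM) G}, NI N a → (∀ g, s g ≠ 0 → g ∈ N) → a * s = s * a :=
    fun ha hs => comm_of_inv ha hs
  set c := eF hM B * eb with hc
  have hc0 : c ≠ 0 := mul_ne_zero_of_cov hM hB hb hcov
  have hBcl : IsCl (eF hM B) := eF_isCl hM B
  have hcN : NI N c := (NI.cl hBcl).mulN hebN
  have hcc : c * c = c := by
    calc c * c = (eF hM B * eb) * (eF hM B * eb) := rfl
      _ = eF hM B * (eb * eF hM B) * eb := by simp only [mul_assoc]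
      _ = eF hM B * (eF hM B * eb) * eb := by rw [hBcl.comm eb]
      _ = (eF hM B * eF hM B) * (eb * eb) := by simp only [mul_assoc]
      _ = c := by rw [eF_idem hM (isLoc_eB hM hB), hebeb]
  have hebc : eb * c = c := by
    rw [hc, ← mul_assoc, ← hBcl.comm eb, mul_assoc, hebeb]
  -- the nilpotent part
  let m : Set (GA (ResF hM) G) := {s | (∀ g, s g ≠ 0 → g ∈ N) ∧ NI N s ∧ eb * s = s ∧
    lam hM θ.1 (resGA N s) = 0}
  have hmnil : ∀ s ∈ m, IsNilpotent s := by
    rintro s ⟨hs1, hs2, hs3, hs4⟩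
    have h1 : IsNilpotent (resGA N s) := by
      apply isNilpotent_of_lam hM hs2.res
      intro χ
      by_cases hχ : χ ∈ b
      · rw [lam_eq_of_sameBlock hM χ.2 θ.2 (sameBlock_of_mem hM hb hχ hθ) hs2.res, hs4]
      · have h2 : resGA N s = eF hM b * resGA N s := by
          conv_lhs => rw [← hs3]
          rw [resGA_mul_supp hs1, hebr]
        rw [h2, lam_mul hM χ.2 (eF_isCl hM b) hs2.res, lam_eF_not_mem hM (isLoc_eB hM hb) hχ,
          zero_mul]
    obtain ⟨n, hn⟩ := h1
    have h3 : ∀ n : ℕ, s ^ (n + 1) = extGA N ((resGA N s) ^ (n + 1)) := by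
      intro n
      induction n with
      | zero => rw [zero_add, pow_one, pow_one, extGA_resGA hs1]
      | succ n ih =>
        rw [pow_succ, ih, pow_succ _ (n + 1), extGA_mul]
        congr 1
        exact (extGA_resGA hs1).symm
    refine ⟨n + 1, ?_⟩
    rw [h3, pow_succ, hn, zero_mul]
    ext g
    by_cases hg : g ∈ N
    · rw [extGA_pos hg]; rfl
    · rw [extGA_neg hg]; rfl
  -- a vector killed by the nilpotent part
  have hw : ∃ w : GA (ResF hM) G, w ≠ 0 ∧ c * w = w ∧ ∀ s ∈ m, s * w = 0 := by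
    haveI : Module.Finite (ResF hM) (GA (ResF hM) G) := finite_GA
    haveI : IsArtinian (ResF hM) (GA (ResF hM) G) := inferInstance
    let S : Set (Submodule (ResF hM) (GA (ResF hM) G)) :=
      {W | W ≠ ⊥ ∧ (∀ w ∈ W, c * w = w) ∧ ∀ s ∈ m, ∀ w ∈ W, s * w ∈ W}
    have hSne : S.Nonempty := by
      refine ⟨{ carrier := {w | c * w = w}
                add_mem' := fun {a b} ha hb => by
                  change c * (a + b) = a + b
                  rw [mul_add, ha, hb]
                zero_mem' := mul_zero c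
                smul_mem' := fun r a ha => by
                  change c * (r • a) = r • a
                  rw [mul_smul_comm, ha] }, ?_, fun w hw => hw, ?_⟩
      · intro h
        have h1 : c ∈ (⊥ : Submodule (ResF hM) (GA (ResF hM) G)) := by
          rw [← h]; exact hcc
        exact hc0 ((Submodule.mem_bot _).1 h1)
      · intro s hs w hw
        change c * (s * w) = s * w
        rw [← mul_assoc, hcomm hcN hs.1, mul_assoc]
        congr 1
    obtain ⟨W, hWS, hWmin⟩ := IsArtinian.set_has_minimal S hSne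
    obtain ⟨hW0, hWc, hWm⟩ := hWS
    obtain ⟨w, hwW, hw0⟩ := Submodule.exists_mem_ne_zero_of_ne_bot hW0
    refine ⟨w, hw0, hWc w hwW, ?_⟩
    intro s hs
    by_contra hne
    -- `sW` is stable
    let L : GA (ResF hM) G →ₗ[ResF hM] GA (ResF hM) G := LinearMap.mulLeft (ResF hM) s
    have hsW : W.map L ≤ W := by
      rintro _ ⟨u, hu, rfl⟩
      exact hWm s hs u hu
    have hmem : W.map L ∈ S := by
      refine ⟨?_, ?_, ?_⟩
      · intro h
        have h1 : s * w ∈ W.map L := ⟨w, hwW, rfl⟩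
        rw [h, Submodule.mem_bot] at h1
        exact hne h1
      · intro u hu
        exact hWc u (hsW hu)
      · rintro t ht _ ⟨u, hu, rfl⟩
        refine ⟨t * u, hWm t ht u hu, ?_⟩
        change s * (t * u) = t * (s * u)
        rw [← mul_assoc, ← mul_assoc, hcomm hs.2.1 ht.1]
    have heq : W.map L = W := by
      by_contra hne2
      exact hWmin _ hmem (lt_of_le_of_ne hsW hne2)
    have hpow : ∀ n : ℕ, ∀ u ∈ W, ∃ u' ∈ W, u = s ^ n * u' := by
      intro n
      induction n with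
      | zero => intro u hu; exact ⟨u, hu, by rw [pow_zero, one_mul]⟩
      | succ n ih =>
        intro u hu
        obtain ⟨u', hu', h1⟩ := ih u hu
        rw [← heq] at hu'
        obtain ⟨u'', hu'', h2⟩ := hu'
        refine ⟨u'', hu'', ?_⟩
        rw [h1, ← h2]
        change s ^ n * (s * u'') = s ^ (n + 1) * u''
        rw [← mul_assoc, ← pow_succ]
    obtain ⟨n, hn⟩ := hmnil s hs
    obtain ⟨u', -, h1⟩ := hpow n w hwW
    rw [hn, zero_mul] at h1
    exact hw0 h1
  obtain ⟨w, hw0, hcw, hwm⟩ := hw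
  -- the sets
  let H0 : Set (GA (ResF hM) G) := {h | ∃ q : G ⧸ N, Hg q h ∧ NI N h ∧ eb * h = h ∧
    ∀ v : GA (ResF hM) G, Hg q⁻¹ v → NI N v → lam hM θ.1 (resGA N (v * h)) = 0}
  let T : ℕ → Set (GA (ResF hM) G) := fun j => {u | (∀ s ∈ m, s * u = 0) ∧
    (u = 0 ∨ ∃ S : Finset (G ⧸ N), S.card = j ∧ ∀ σ ∈ S, ∀ y : GA (ResF hM) G, NI N y →
      Hg σ⁻¹ y → y * u = 0)}
  have hstep : ∀ j, ∀ h ∈ H0, ∀ u ∈ T j, h * u ∈ T (j + 1) := by
    rintro j h ⟨q, hq1, hq2, hq3, hq4⟩ u ⟨hu1, hu2⟩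
    refine ⟨?_, ?_⟩
    · intro s hs
      rw [← mul_assoc, ← hcomm hq2 hs.1, mul_assoc, hu1 s hs, mul_zero]
    · by_cases hu0 : u = 0
      · left; rw [hu0, mul_zero]
      rcases hu2 with hu2 | ⟨S, hS1, hS2⟩
      · exact absurd hu2 hu0
      right
      have h1S : (1 : G ⧸ N) ∉ S := by
        intro h1
        apply hu0
        have h2 := hS2 1 h1 1 NI_one (by rw [inv_one]; exact Hg_one)
        rwa [one_mul] at h2
      refine ⟨(insert 1 S).map (mulLeftEmbedding q), ?_, ?_⟩
      · rw [Finset.card_map, Finset.card_insert_of_notMem h1S, hS1]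
      · intro σ hσ y hy1 hy2
        rw [Finset.mem_map] at hσ
        obtain ⟨τ, hτ, hτσ⟩ := hσ
        have hτσ' : σ = q * τ := hτσ.symm
        rw [← mul_assoc]
        rw [Finset.mem_insert] at hτ
        rcases hτ with hτ | hτ
        · apply hu1
          have h3 : σ = q := by rw [hτσ', hτ, mul_one]
          rw [h3] at hy2
          refine ⟨?_, hy1.mulN hq2, ?_, hq4 y hy2 hy1⟩
          · have h4 := hy2.mul hq1
            rw [inv_mul_cancel] at h4
            exact h4.supp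
          · rw [← mul_assoc, ← hcomm hy1 hebs, mul_assoc, hq3]
        · apply hS2 τ hτ _ (hy1.mulN hq2)
          have h4 := hy2.mul hq1
          rw [hτσ', mul_inv_rev, inv_mul_cancel_right] at h4
          exact h4
  have hcH : ∀ q : G ⧸ N, cmp q c ∈ H0 := by
    intro q
    refine ⟨q, cmp_Hg q c, cmp_NI hcN, ?_, ?_⟩
    · -- `eb` commutes with components
      have h1 : ∀ q : G ⧸ N, Hg q (eb * cmp q c) := by
        intro q
        have h2 := (Hg.of_supp hebs).mul (cmp_Hg q c)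
        rwa [one_mul] at h2
      have h3 : ∑ q : G ⧸ N, eb * cmp q c = ∑ q : G ⧸ N, cmp q c := by
        rw [← Finset.mul_sum, sum_cmp, hebc]
      ext g
      have h4 : (∑ q : G ⧸ N, eb * cmp q c) g = (∑ q : G ⧸ N, cmp q c) g := by rw [h3]
      rw [ga_sum, ga_sum] at h4
      by_cases hg : (g : G ⧸ N) = q
      · rw [Finset.sum_eq_single q, Finset.sum_eq_single q] at h4
        · exact h4
        · intro r _ hr
          by_contra h5
          exact hr ((cmp_Hg r c g h5).symm.trans hg)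
        · intro h; exact absurd (Finset.mem_univ _) h
        · intro r _ hr
          by_contra h5
          exact hr ((h1 r g h5).symm.trans hg)
        · intro h; exact absurd (Finset.mem_univ _) h
      · rw [cmp_neg hg]
        by_contra h5
        exact hg (h1 q g h5)
    · intro v hv1 hv2
      have h1 : resGA N (v * cmp q c) = resGA N (v * c) := by
        ext n
        rw [resGA_apply, resGA_apply]
        conv_rhs => rw [← sum_cmp (N := N) c]
        rw [Finset.mul_sum, ga_sum, Finset.sum_eq_single q]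
        · intro r _ hr
          by_contra h5
          have h6 := (hv1.mul (cmp_Hg r c)) (n : G) h5
          have h7 : ((n : G) : G ⧸ N) = 1 := (QuotientGroup.eq_one_iff _).2 n.2
          rw [h7] at h6
          apply hr
          have h8 : q = r := by
            rw [← mul_one q, h6, mul_inv_cancel_left]
          exact h8.symm
        · intro h; exact absurd (Finset.mem_univ _) h
      rw [h1, hc, ← mul_assoc, resGA_mul_supp hebs, hebr,
        lam_mul hM θ.2 (hv2.mulN (NI.cl hBcl)).res (eF_isCl hM b), hlb, mul_one]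
      exact hcon q v hv1 hv2
  have hspan : ∀ j, w ∈ Submodule.span (ResF hM) (T j) := by
    intro j
    induction j with
    | zero =>
      apply Submodule.subset_span
      exact ⟨hwm, Or.inr ⟨∅, Finset.card_empty, fun σ hσ => absurd hσ (Finset.notMem_empty σ)⟩⟩
    | succ j ih =>
      have h1 : w = ∑ q : G ⧸ N, cmp q c * w := by
        rw [← Finset.sum_mul, sum_cmp, hcw]
      rw [h1]
      refine Submodule.sum_mem _ (fun q _ => ?_)
      have h2 : ∀ u ∈ Submodule.span (ResF hM) (T j),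
          cmp q c * u ∈ Submodule.span (ResF hM) (T (j + 1)) := by
        intro u hu
        induction hu using Submodule.span_induction with
        | mem u hu => exact Submodule.subset_span (hstep j _ (hcH q) u hu)
        | zero => rw [mul_zero]; exact Submodule.zero_mem _
        | add a b _ _ ha hb => rw [mul_add]; exact Submodule.add_mem _ ha hb
        | smul r a _ ha => rw [mul_smul_comm]; exact Submodule.smul_mem _ r ha
      exact h2 w ih
  have h1 := hspan (Fintype.card (G ⧸ N) + 1)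
  have h2 : T (Fintype.card (G ⧸ N) + 1) ⊆ {0} := by
    rintro u ⟨-, hu | ⟨S, hS, -⟩⟩
    · exact hu
    · have := Finset.card_le_univ S
      omega
  have h3 := Submodule.span_mono (R := ResF hM) h2 h1
  rw [Submodule.mem_span_singleton] at h3
  obtain ⟨r, hr⟩ := h3
  rw [smul_zero] at hr
  exact hw0 hr.symm

end GrB

end Cfsg.Agent.Lib.BlkH5T
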