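import Cfsg.Agent.Lib.BlockRey
import Cfsg.Agent.Lib.BlockKB
import Cfsg.Agent.Lib.BlockLar
import Cfsg.Agent.Lib.BlockMaxB
import Cfsg.Agent.Lib.BlockIndIn
import Cfsg.Agent.Lib.BlockBFM

import Cfsg.Agent.Lib.BlkH5L
import Cfsg.Agent.Lib.BlkH5Q
import Cfsg.Agent.Lib.BlkH5R
import Cfsg.Agent.Lib.BlkH5S
import Cfsg.Agent.Lib.BlkH5T
import Cfsg.Agent.Lib.BlockNilC
import Cfsg.Agent.Lib.BlockPairD
import Cfsg.Agent.Lib.BlockPairC
import Cfsg.Agent.Lib.BlockNP

/-!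
Knoerr's theorem.
-/

set_option autoImplicit false
set_option linter.style.haveILetI false
set_option linter.unusedVariables false
set_option linter.unusedSectionVars false
set_option linter.unusedDecidableInType false
set_option linter.unusedFintypeInType false
set_option linter.unusedSimpArgs false

namespace Cfsg.Agent.Lib.BlkH5U
open Cfsg Cfsg.Agent.Lib.BlockLoc Cfsg.Agent.Lib.BlockGA Cfsg.Agent.Lib.CharBasic
open Cfsg.Agent.Lib.BlockIdem Cfsg.Agent.Lib.BlockPP Cfsg.Agent.Lib.BlockOrth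
open Cfsg.Agent.Lib.BlockRed Cfsg.Agent.Lib.BlockDef Cfsg.Agent.Lib.BlockDeg
open Cfsg.Agent.Lib.BlockNP Cfsg.Agent.Lib.BlockInd Cfsg.Agent.Lib.BlockSecond
open Cfsg.Agent.Lib.BlockFirst Cfsg.Agent.Lib.BlockHt Cfsg.Agent.Lib.BlockM
open Cfsg.Agent.Lib.BlockCov Cfsg.Agent.Lib.BlockQuot Cfsg.Agent.Lib.CharKer
open Cfsg.Agent.Lib.BlockQuotB Cfsg.Agent.Lib.BlockMore Cfsg.Agent.Lib.BlockMoreB
open Cfsg.Agent.Lib.BlockTr Cfsg.Agent.Lib.CharNormal Cfsg.Agent.Lib.BlockCovB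
open Cfsg.Agent.Lib.BlockBP Cfsg.Agent.Lib.BlockInt Cfsg.Agent.Lib.BlockSum Cfsg.Agent.Lib.BlockRk
open Cfsg.Agent.Lib.BlockFusB Cfsg.Agent.Lib.BlockMax Cfsg.Agent.Lib.CharSplit Cfsg.Agent.Lib.CharBrauer
open Cfsg.Agent.Lib.CharInd Cfsg.Agent.Lib.BlockPC Cfsg.Agent.Lib.BlockPair Cfsg.Agent.Lib.BlockPairB
open Cfsg.Agent.Lib.BlockPairC Cfsg.Agent.Lib.BlockPairD Cfsg.Agent.Lib.BlockPairE
open Cfsg.Agent.Lib.BlockRey Cfsg.Agent.Lib.BlockPairF Cfsg.Agent.Lib.BlockFus Cfsg.Agent.Lib.BlockNilB Cfsg.Agent.Lib.BlockNil Cfsg.Agent.Lib.CharClifford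
open Cfsg.Agent.Lib.BlockKB Cfsg.Agent.Lib.BlockLar Cfsg.Agent.Lib.BlockMaxB Cfsg.Agent.Lib.BlockIndIn Cfsg.Agent.Lib.BlockBFM
open Cfsg.Agent.Lib.BlkH5L Cfsg.Agent.Lib.BlkH5Q Cfsg.Agent.Lib.BlkH5R Cfsg.Agent.Lib.BlkH5S Cfsg.Agent.Lib.BlkH5T Cfsg.Agent.Lib.BlockNilC Cfsg.Agent.Lib.BlockPairD Cfsg.Agent.Lib.BlockPairC Cfsg.Agent.Lib.BlockNP
open scoped ComplexConjugate

section Kn

variable {G : Type*} [Group G] [Fintype G] {p : ℕ} {M : Ideal AlgInt} {N : Subgroup G}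
  [hN : N.Normal] [Fintype N]

theorem exists_factor (hM : IsPModular p M) {Q : Subgroup G} (hQ : IsPGroup p Q)
    {a b : GA (ResF hM) G} (ha : ∀ q ∈ Q, Inv q a) (hb : ∀ q ∈ Q, Inv q b) {g : G}
    (hg : ∀ q ∈ Q, Commute q g) (hne : (a * b) g ≠ 0) :
    ∃ x : G, (∀ q ∈ Q, Commute q x) ∧ a x ≠ 0 ∧ b (x⁻¹ * g) ≠ 0 ∧
      ∀ q ∈ Q, Commute q (x⁻¹ * g) := by
  classical
  haveI := factP hM
  rw [mul_eq_sum_centralizer hQ ha hb hg] at hne
  obtain ⟨x, hx, hne⟩ := Finset.exists_ne_zero_of_sum_ne_zero hne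
  have hx' := (Finset.mem_filter.1 hx).2
  exact ⟨x, hx', left_ne_zero_of_mul hne, right_ne_zero_of_mul hne,
    fun q hq => ((hx' q hq).inv_right).mul_right (hg q hq)⟩

/-- **Knörr**: a defect group of a covered block is contained in a defect group of the
covering block. -/
theorem subConj_of_cov (hM : IsPModular p M) {B : Set (IrrCharacter G)}
    {b : Set (IrrCharacter N)} (hB : IsPBlock M B) (hb : IsPBlock M b) (hcov : Cov B b)
    {D : Subgroup N} (hD : IsDefectGroup p M b D) {P : Subgroup G}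
    (hP : IsDefectGroup p M B P) : SubConj (D.map N.subtype) P := by
  classical
  haveI : Fintype (ConjClasses N) := Fintype.ofFinite _
  obtain ⟨θ, hθ⟩ := block_nonempty hM hb
  obtain ⟨q, v, -, hv, hne⟩ := exists_unit_comp hM hB hb hcov hθ
  have hac : NI N (v * eF hM B) := hv.mulN (NI.cl (eF_isCl hM B))
  rw [lam_expand hM θ hac.res] at hne
  obtain ⟨C, -, hC⟩ := Finset.exists_ne_zero_of_sum_ne_zero hne
  have h1 := left_ne_zero_of_mul hC
  have h2 := right_ne_zero_of_mul hC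
  obtain ⟨n, hn1, hn2, -⟩ := exists_conj_of_lam_ne_zero hM hb hD hθ h2
  have h3 : (resGA N (v * eF hM B)) n ≠ 0 := by
    rw [← hac.res.eq_of_isConj hn1]; exact h1
  rw [resGA_apply] at h3
  have hDp : IsPGroup p (D.map N.subtype) := (isPGroup_of_isDefectGroup hM hD).map _
  obtain ⟨x, hx1, -, hx3, hx4⟩ := exists_factor hM hDp
    (fun q hq => by
      obtain ⟨d, hd, rfl⟩ := Subgroup.mem_map.1 hq
      exact hv d d.2)
    (fun q _ g => eF_isCl hM B g q)
    (fun q hq => by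
      obtain ⟨d, hd, rfl⟩ := Subgroup.mem_map.1 hq
      exact congrArg Subtype.val (hn2 d hd)) h3
  exact defLe_of_eF_ne_zero hM hB hP hx3 hDp hx4

/-- The upper bound for the defect group of a covered block. -/
theorem subConj_inf (hM : IsPModular p M) {c : Set (IrrCharacter N)} (hc : IsPBlock M c)
    {D : Subgroup N} (hD : IsDefectGroup p M c D) {P : Subgroup G} (hP : IsPGroup p P)
    {z : G} (hz : (eX hM N c) z ≠ 0) (hzP : ∀ x ∈ P, Commute x z) :
    SubConj ((P ⊓ N).subgroupOf N) D := by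
  have hzN : z ∈ N := eX_supp hM c z hz
  have h1 : (eF hM c) ⟨z, hzN⟩ ≠ 0 := by
    unfold eX at hz
    rwa [extGA_pos hzN] at hz
  refine defLe_of_eF_ne_zero hM hc hD h1 ?_ ?_
  · exact (hP.to_le inf_le_left).comap_of_injective _ (Subgroup.subtype_injective _)
  · intro q hq
    have h2 := Subgroup.mem_subgroupOf.1 hq
    exact Subtype.ext (hzP _ (Subgroup.mem_inf.1 h2).1)

/-- **Knörr's theorem**, from above. -/
theorem knorr_above (hM : IsPModular p M) {B : Set (IrrCharacter G)} (hB : IsPBlock M B)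
    {P : Subgroup G} (hP : IsDefectGroup p M B P) :
    ∃ c : Set (IrrCharacter N), IsPBlock M c ∧ (∀ x ∈ P, Inv x (eX hM N c)) ∧ Cov B c ∧
      IsDefectGroup p M c ((P ⊓ N).subgroupOf N) := by
  classical
  haveI := factP hM
  have hPp := isPGroup_of_isDefectGroup hM hP
  obtain ⟨χ, hχ⟩ := block_nonempty hM hB
  obtain ⟨y, hy, hyP⟩ := isDefectGroup_iff.1 hP
  have hyB : (eF hM B) y ≠ 0 := ((isDefectClass_iff hM hB hχ y).1 hy).1
  haveI : Fintype {f : Set (IrrCharacter N) // IsPBlock M f} := Fintype.ofFinite _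
  letI act : MulAction P {f : Set (IrrCharacter N) // IsPBlock M f} :=
    { smul := fun x f => ⟨bx (x : G) f.1, bx_block hM _ f.2⟩
      one_smul := fun f => by
        apply Subtype.ext
        change bx (1 : G) f.1 = f.1
        ext θ
        change cjI (1 : G) θ ∈ f.1 ↔ _
        rw [cjI_one]
      mul_smul := fun x y f => by
        apply Subtype.ext
        change bx ((x * y : P) : G) f.1 = bx (x : G) (bx (y : G) f.1)
        ext θ
        change cjI ((x * y : P) : G) θ ∈ f.1 ↔ cjI (y : G) (cjI (x : G) θ) ∈ f.1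
        rw [Subgroup.coe_mul, cjI_mul] }
  have hsm : ∀ (x : P) (f : {f : Set (IrrCharacter N) // IsPBlock M f}),
      (x • f).1 = bx (x : G) f.1 := fun _ _ => rfl
  let F : {f : Set (IrrCharacter N) // IsPBlock M f} → ResF hM :=
    fun f => (eF hM B * eX hM N f.1) y
  have hcj : ∀ (x : G) (f : Set (IrrCharacter N)), eX hM N (bx x f) = cjGA x (eX hM N f) := by
    intro x f
    rw [bx_eq, eX_trB]
  have hFinv : ∀ (x : P) (f : {f : Set (IrrCharacter N) // IsPBlock M f}), F (x • f) = F f := by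
    intro x f
    change (eF hM B * eX hM N (x • f).1) y = (eF hM B * eX hM N f.1) y
    have h3 : cjGA (x : G) (eF hM B) = eF hM B := inv_iff_cjGA.1 (fun g => eF_isCl hM B g x)
    rw [hsm, hcj]
    conv_lhs => rw [← h3]
    rw [← cjGA_mul, cjGA_apply]
    congr 1
    have h4 := (hyP.2.1 x x.2).eq
    calc (x : G)⁻¹ * y * x = (x : G)⁻¹ * (y * x) := by group
      _ = (x : G)⁻¹ * (x * y) := by rw [h4]
      _ = y := by group
  have hsum : ∑ f, F f = (eF hM B) y := by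
    change ∑ f : {f : Set (IrrCharacter N) // IsPBlock M f}, (eF hM B * eX hM N f.1) y = _
    rw [← ga_sum, ← Finset.mul_sum, sum_eX, mul_one]
  rw [sum_eq_sum_fixed (P := P) hPp F hFinv] at hsum
  rw [← hsum] at hyB
  obtain ⟨c, hcf, hcne⟩ := Finset.exists_ne_zero_of_sum_ne_zero hyB
  have hfix := (Finset.mem_filter.1 hcf).2
  have hinv : ∀ x ∈ P, Inv x (eX hM N c.1) := by
    intro x hx
    rw [inv_iff_cjGA, ← hcj]
    have := hfix ⟨x, hx⟩
    rw [← hsm ⟨x, hx⟩ c, this]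
  have hne0 : eF hM B * eX hM N c.1 ≠ 0 := by
    intro h
    apply hcne
    change (eF hM B * eX hM N c.1) y = 0
    rw [h]; rfl
  have hcov : Cov B c.1 := cov_of_mul_ne_zero hM hne0 hB c.2
  refine ⟨c.1, c.2, hinv, hcov, ?_⟩
  obtain ⟨D, hD⟩ := exists_defectGroup hM c.2
  obtain ⟨x, -, -, hx3, hx4⟩ := exists_factor hM hPp (fun q _ g => eF_isCl hM B g q) hinv
    hyP.2.1 hcne
  have h1 : SubConj ((P ⊓ N).subgroupOf N) D := subConj_inf hM c.2 hD hPp hx3 hx4
  obtain ⟨g, hg⟩ := subConj_of_cov hM hB c.2 hcov hD hP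
  have h2 : Nat.card D ≤ Nat.card ((P ⊓ N).subgroupOf N) := by
    have h3 : SubConj (D.map N.subtype) (P ⊓ N) :=
      ⟨g, fun d hd => Subgroup.mem_inf.2 ⟨hg d hd, by
        obtain ⟨d', hd', rfl⟩ := Subgroup.mem_map.1 hd
        exact hN.conj_mem _ d'.2 g⟩⟩
    have h4 := h3.card_le
    rw [Subgroup.card_map_of_injective (Subgroup.subtype_injective _)] at h4
    rwa [Nat.card_congr (Subgroup.subgroupOfEquivOfLe (inf_le_right : P ⊓ N ≤ N)).toEquiv]
  obtain ⟨n, hn⟩ := h1.eq_of_card h2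
  have h5 := isDefectGroup_map_conj hM c.2 hD n⁻¹
  have h6 : D.map (MulAut.conj n⁻¹).toMonoidHom = (P ⊓ N).subgroupOf N := by
    rw [hn, Subgroup.map_map]
    have h7 : ((MulAut.conj n⁻¹).toMonoidHom).comp (MulAut.conj n).toMonoidHom =
        MonoidHom.id N := by
      ext g
      change ((n⁻¹ * (n * g * n⁻¹) * n⁻¹⁻¹ : N) : G) = g
      congr 1
      group
    rw [h7, Subgroup.map_id]
  rwa [h6] at h5

/-- **Knörr's theorem**, from below. -/
theorem knorr_below (hM : IsPModular p M) {B : Set (IrrCharacter G)} (hB : IsPBlock M B)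
    {b : Set (IrrCharacter N)} (hb : IsPBlock M b) (hcov : Cov B b) {Q : Subgroup G}
    (hQN : Q ≤ N) (hQ : IsDefectGroup p M b (Q.subgroupOf N)) :
    ∃ P : Subgroup G, IsDefectGroup p M B P ∧ P ⊓ N = Q := by
  haveI := factP hM
  obtain ⟨P₀, hP₀⟩ := exists_defectGroup hM hB
  obtain ⟨c, hc, -, hcc, hcD⟩ := knorr_above (N := N) hM hB hP₀
  obtain ⟨χ, hχ, ψ, hψ, hov⟩ := hcc
  obtain ⟨x, hx⟩ := mem_orb_of_cov hM hB hb hcov hχ hov
  have h1 : c = bx x b := block_eq_of_mem_of_mem hM hc (bx_block hM x hb) hψ hx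
  have h2 : IsDefectGroup p M c ((Q.subgroupOf N).map
      (BlockPair.cjE (K := N) (K' := N) x (nrm_iff x)).toMonoidHom) := by
    rw [h1, bx_eq]
    exact isDefectGroup_trB hM _ hb hQ
  obtain ⟨n, hn⟩ := defectGroup_conj hM hc h2 hcD
  -- as subgroups of `G`
  have h3 : ∀ g : G, g ∈ P₀ ⊓ N ↔ ((n : G) * x)⁻¹ * g * ((n : G) * x) ∈ Q := by
    intro g
    constructor
    · intro hg
      have hgN := (Subgroup.mem_inf.1 hg).2
      have h4 : (⟨g, hgN⟩ : N) ∈ (P₀ ⊓ N).subgroupOf N := Subgroup.mem_subgroupOf.2 hg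
      rw [hn] at h4
      obtain ⟨u, hu, hug⟩ := Subgroup.mem_map.1 h4
      obtain ⟨w, hw, hwu⟩ := Subgroup.mem_map.1 hu
      have h5 : (w : G) ∈ Q := Subgroup.mem_subgroupOf.1 hw
      have h6 : g = (n : G) * (x * w * x⁻¹) * (n : G)⁻¹ := by
        have h7 := congrArg Subtype.val hug
        rw [← hwu] at h7
        exact h7.symm
      have h8 : ((n : G) * x)⁻¹ * g * ((n : G) * x) = w := by rw [h6]; group
      rw [h8]; exact h5
    · intro hg
      set w := ((n : G) * x)⁻¹ * g * ((n : G) * x) with hw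
      have hwN : w ∈ N := hQN hg
      have h6 : g = (n : G) * (x * w * x⁻¹) * (n : G)⁻¹ := by rw [hw]; group
      have h7 : (⟨w, hwN⟩ : N) ∈ Q.subgroupOf N := Subgroup.mem_subgroupOf.2 hg
      have h8 : (MulAut.conj n).toMonoidHom ((BlockPair.cjE (K := N) (K' := N) x
          (nrm_iff x)).toMonoidHom ⟨w, hwN⟩) ∈ (P₀ ⊓ N).subgroupOf N := by
        rw [hn]
        exact Subgroup.mem_map_of_mem _ (Subgroup.mem_map_of_mem _ h7)
      have h9 := Subgroup.mem_subgroupOf.1 h8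
      have h10 : (((MulAut.conj n).toMonoidHom ((BlockPair.cjE (K := N) (K' := N) x
          (nrm_iff x)).toMonoidHom ⟨w, hwN⟩) : N) : G) = g := by
        rw [h6]; rfl
      rwa [h10] at h9
  refine ⟨P₀.map (MulAut.conj ((n : G) * x)⁻¹).toMonoidHom,
    isDefectGroup_map_conj hM hB hP₀ _, ?_⟩
  ext w
  rw [Subgroup.mem_inf, Subgroup.mem_map]
  constructor
  · rintro ⟨⟨g, hg, hgw⟩, hwN⟩
    have hgw' : ((n : G) * x)⁻¹ * g * ((n : G) * x) = w := by
      rw [← hgw]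
      change _ = ((n : G) * x)⁻¹ * g * ((n : G) * x)⁻¹⁻¹
      rw [inv_inv]
    have hgN : g ∈ N := by
      have h4 : g = ((n : G) * x) * w * ((n : G) * x)⁻¹ := by rw [← hgw']; group
      rw [h4]
      exact hN.conj_mem w hwN _
    rw [← hgw']
    exact (h3 g).1 (Subgroup.mem_inf.2 ⟨hg, hgN⟩)
  · intro hw
    have h4 : ((n : G) * x) * w * ((n : G) * x)⁻¹ ∈ P₀ ⊓ N := by
      rw [h3]
      have h5 : ((n : G) * x)⁻¹ * (((n : G) * x) * w * ((n : G) * x)⁻¹) * ((n : G) * x) = w := by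
        group
      rw [h5]; exact hw
    refine ⟨⟨((n : G) * x) * w * ((n : G) * x)⁻¹, (Subgroup.mem_inf.1 h4).1, ?_⟩, hQN hw⟩
    change ((n : G) * x)⁻¹ * (((n : G) * x) * w * ((n : G) * x)⁻¹) * ((n : G) * x)⁻¹⁻¹ = w
    group

end Kn

end Cfsg.Agent.Lib.BlkH5U
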