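import Cfsg.Agent.Lib.BlockRey
import Cfsg.Agent.Lib.BlockKB
import Cfsg.Agent.Lib.BlockLar
import Cfsg.Agent.Lib.BlockMaxB
import Cfsg.Agent.Lib.BlockIndIn
import Cfsg.Agent.Lib.BlockBFM

import Cfsg.Agent.Lib.BlkH5L
import Cfsg.Agent.Lib.BlkH5P
import Cfsg.Agent.Lib.BlkH5Q
import Cfsg.Agent.Lib.BlkH5R
import Cfsg.Agent.Lib.BlkH5S
import Cfsg.Agent.Lib.BlkH5T
import Cfsg.Agent.Lib.BlkH5U
import Cfsg.Agent.Lib.BlockNilC
import Cfsg.Agent.Lib.BlockPairD
import Cfsg.Agent.Lib.BlockPairC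
import Cfsg.Agent.Lib.BlockNP

/-!
Fong's theorem.
-/

set_option autoImplicit false
set_option linter.style.haveILetI false
set_option linter.unusedVariables false
set_option linter.unusedSectionVars false
set_option linter.unusedDecidableInType false
set_option linter.unusedFintypeInType false
set_option linter.unusedSimpArgs false

namespace Cfsg.Agent.Lib.BlkH5V
open Cfsg Cfsg.Agent.Lib.BlockLoc Cfsg.Agent.Lib.BlockGA Cfsg.Agent.Lib.CharBasic
open Cfsg.Agent.Lib.BlockIdem Cfsg.Agent.Lib.BlockPP Cfsg.Agent.Lib.BlockOrth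
open Cfsg.Agent.Lib.BlockRed Cfsg.Agent.Lib.BlockDef Cfsg.Agent.Lib.BlockDeg
open Cfsg.Agent.Lib.BlockNP Cfsg.Agent.Lib.BlockInd Cfsg.Agent.Lib.BlockSecond
open Cfsg.Agent.Lib.BlockFirst Cfsg.Agent.Lib.BlockHt Cfsg.Agent.Lib.BlockM
open Cfsg.Agent.Lib.BlockCov Cfsg.Agent.Lib.BlockQuot Cfsg.Agent.Lib.CharKer
open Cfsg.Agent.Lib.BlockQuotB Cfsg.Agent.Lib.BlockMore Cfsg.Agent.Lib.BlockMoreB
open Cfsg.Agent.Lib.BlockTr Cfsg.Agent.Lib.CharNormal Cfsg.Agent.Lib.BlockCovB
open Cfsg.Agent.Lib.BlockBP Cfsg.Agent.Lib.BlockInt Cfsg.Agent.Lib.BlockSum Cfsg.Agent.Lib.BlockRk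
open Cfsg.Agent.Lib.BlockFusB Cfsg.Agent.Lib.BlockMax Cfsg.Agent.Lib.CharSplit Cfsg.Agent.Lib.CharBrauer
open Cfsg.Agent.Lib.CharInd Cfsg.Agent.Lib.BlockPC Cfsg.Agent.Lib.BlockPair Cfsg.Agent.Lib.BlockPairB
open Cfsg.Agent.Lib.BlockPairC Cfsg.Agent.Lib.BlockPairD Cfsg.Agent.Lib.BlockPairE
open Cfsg.Agent.Lib.BlockRey Cfsg.Agent.Lib.BlockPairF Cfsg.Agent.Lib.BlockFus Cfsg.Agent.Lib.BlockNilB Cfsg.Agent.Lib.BlockNil Cfsg.Agent.Lib.CharClifford
open Cfsg.Agent.Lib.BlockKB Cfsg.Agent.Lib.BlockLar Cfsg.Agent.Lib.BlockMaxB Cfsg.Agent.Lib.BlockIndIn Cfsg.Agent.Lib.BlockBFM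
open Cfsg.Agent.Lib.BlkH5L Cfsg.Agent.Lib.BlkH5P Cfsg.Agent.Lib.BlkH5Q Cfsg.Agent.Lib.BlkH5R Cfsg.Agent.Lib.BlkH5S Cfsg.Agent.Lib.BlkH5T Cfsg.Agent.Lib.BlkH5U Cfsg.Agent.Lib.BlockNilC Cfsg.Agent.Lib.BlockPairD Cfsg.Agent.Lib.BlockPairC Cfsg.Agent.Lib.BlockNP
open scoped ComplexConjugate

section Fg

variable {G : Type*} [Group G] [Fintype G] {p : ℕ} {M : Ideal AlgInt} {N : Subgroup G}
  [hN : N.Normal] [Fintype N]

theorem gStab_of_inv (hM : IsPModular p M) {b : Set (IrrCharacter N)} (hb : IsPBlock M b)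
    (h : ∀ x : G, Inv x (eX hM N b)) : GStab (G := G) b := by
  intro θ hθ x
  have h1 : eX hM N (bx x b) = eX hM N b := by
    rw [bx_eq, eX_trB, inv_iff_cjGA.1 (h x)]
  have h2 := eX_injective hM (isLoc_eB hM (bx_block hM x hb)) (isLoc_eB hM hb) h1
  change θ ∈ bx x b
  rw [h2]; exact hθ

theorem inv_of_gStab (hM : IsPModular p M) {b : Set (IrrCharacter N)}
    (h : GStab (G := G) b) (x : G) : Inv x (eX hM N b) := by
  have h1 : bx x b = b := by
    ext θ
    exact h.iff x θ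
  rw [inv_iff_cjGA, ← eX_trB hM x (nrm_iff x), ← bx_eq, h1]

/-- A stable block is the only one below its covering blocks. -/
theorem eq_of_cov_stab (hM : IsPModular p M) {b c : Set (IrrCharacter N)} (hb : IsPBlock M b)
    (hc : IsPBlock M c) (h : GStab (G := G) b) {B : Set (IrrCharacter G)} (hB : IsPBlock M B)
    (hbc : Cov B b) (hcc : Cov B c) : c = b := by
  obtain ⟨χ, hχ, ψ, hψ, hov⟩ := hcc
  obtain ⟨x, hx⟩ := mem_orb_of_cov hM hB hb hbc hχ hov
  exact block_eq_of_mem_of_mem hM hc hb hψ ((h.iff x ψ).1 hx)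

theorem mem_above_of_cov (hM : IsPModular p M) {b : Set (IrrCharacter N)} (hb : IsPBlock M b)
    (h : GStab (G := G) b) {B : Set (IrrCharacter G)} (hB : IsPBlock M B)
    (hbc : Cov B b) {χ : IrrCharacter G} (hχ : χ ∈ B) : χ ∈ above (G := G) b := by
  obtain ⟨θ, hθ, hov⟩ := exists_over_of_cov hM hB hb hbc hχ
  exact ⟨θ, hθ, hov⟩

theorem sq_above {b : Set (IrrCharacter N)} (h : GStab (G := G) b)
    [DecidablePred (· ∈ b)] [DecidablePred (· ∈ above (G := G) b)] :
    Nat.card N * ∑ χ ∈ Finset.univ.filter (· ∈ above (G := G) b), charDegree χ.1 ^ 2 =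
      Nat.card G * ∑ θ ∈ Finset.univ.filter (· ∈ b), charDegree θ.1 ^ 2 := by
  classical
  have h1 : (eB (above (G := G) b)) (1 : G) = (eB b) (1 : N) := by
    rw [eB_above h, extGA_pos (one_mem N)]
    rfl
  rw [eB_apply, eB_apply, blockCoeff_eq, blockCoeff_eq] at h1
  have h2 : ∀ {A : Type _} [Group A] [Fintype A] (χ : IrrCharacter A),
      χ.1 1 * χ.1 (1 : A)⁻¹ = ((charDegree χ.1 ^ 2 : ℕ) : ℂ) := by
    intro A _ _ χ
    rw [inv_one, Nat.cast_pow, charDegree_cast (isChar_of_irr χ.2), pow_two]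
  rw [Finset.sum_congr rfl (fun χ _ => h2 χ), Finset.sum_congr rfl (fun θ _ => h2 θ),
    ← Nat.cast_sum, ← Nat.cast_sum] at h1
  have hG := card_ne_zero' (G := G)
  have hN0 := card_ne_zero' (G := N)
  have h3 : (Nat.card N : ℂ) * ((∑ χ ∈ Finset.univ.filter (· ∈ above (G := G) b),
      charDegree χ.1 ^ 2 : ℕ) : ℂ) = (Nat.card G : ℂ) *
      ((∑ θ ∈ Finset.univ.filter (· ∈ b), charDegree θ.1 ^ 2 : ℕ) : ℂ) := by
    field_simp at h1
    linear_combination h1
  exact_mod_cast h3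

/-- The p-part computation for `P N`. -/
theorem fac_sup (hp : p.Prime) {P : Subgroup G} {d m : ℕ} (hP : Nat.card P = p ^ d)
    (hPN : Nat.card (P ⊓ N : Subgroup G) = p ^ m) :
    (Nat.card (P ⊔ N : Subgroup G)).factorization p + m = (Nat.card N).factorization p + d := by
  have h1 : Nat.card (P ⊔ N : Subgroup G) * Nat.card (P ⊓ N : Subgroup G) =
      Nat.card P * Nat.card N := by
    have h2 : P ≤ Subgroup.normalizer (N : Set G) := by
      rw [Subgroup.normalizer_eq_top]; exact le_top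
    have h3 := Basic.card_sup_mul_card_inf h2
    rw [sup_comm, inf_comm] at h3
    rw [h3, mul_comm]
  have h2 := congrArg (fun n => n.factorization p) h1
  rw [Nat.factorization_mul Nat.card_pos.ne' Nat.card_pos.ne',
    Nat.factorization_mul Nat.card_pos.ne' Nat.card_pos.ne', Finsupp.add_apply,
    Finsupp.add_apply, hP, hPN, hp.factorization_pow, hp.factorization_pow,
    Finsupp.single_eq_same, Finsupp.single_eq_same] at h2
  omega

/-- A stable block is covered by a block of the maximal possible defect. -/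
theorem fong_lower (hM : IsPModular p M) {b : Set (IrrCharacter N)} (hb : IsPBlock M b)
    (h : GStab (G := G) b) {d : ℕ}
    (hmax : ∀ B' : Set (IrrCharacter G), IsPBlock M B' → Cov B' b → blockDefect p B' ≤ d) :
    (Nat.card G).factorization p + blockDefect p b ≤ (Nat.card N).factorization p + d := by
  classical
  haveI : Fintype {B : Set (IrrCharacter G) // IsPBlock M B} := Fintype.ofFinite _
  have hp := hM.1
  set a := (Nat.card G).factorization p with ha
  obtain ⟨n, hn1, hn2⟩ := sum_sq_fac hM hb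
  have h1 := sq_above (G := G) h
  rw [hn2] at h1
  -- the left side is highly divisible
  have h2 : p ^ (a + (a - d)) ∣
      ∑ χ ∈ Finset.univ.filter (· ∈ above (G := G) b), charDegree χ.1 ^ 2 := by
    rw [Finset.sum_filter, sum_by_blocks hM]
    refine Finset.dvd_sum (fun B _ => ?_)
    by_cases hc : Cov B.1 b
    · have h3 : ∀ χ ∈ Finset.univ.filter (· ∈ B.1),
          (if χ ∈ above (G := G) b then charDegree χ.1 ^ 2 else 0) = charDegree χ.1 ^ 2 := by
        intro χ hχ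
        rw [if_pos (mem_above_of_cov hM hb h B.2 hc (Finset.mem_filter.1 hχ).2)]
      rw [Finset.sum_congr rfl h3]
      obtain ⟨m, -, hm⟩ := sum_sq_fac hM B.2
      have h4 := hmax B.1 B.2 hc
      have h5 : p ^ (a + (a - d)) ∣ p ^ (a + (a - blockDefect p B.1)) := pow_dvd_pow p (by omega)
      exact (h5.mul_right m).trans (dvd_of_eq hm.symm)
    · rw [Finset.sum_eq_zero]
      · exact dvd_zero _
      · intro χ hχ
        rw [if_neg]
        rintro ⟨θ, hθ, hov⟩
        exact hc ⟨χ, (Finset.mem_filter.1 hχ).2, θ, hθ, hov⟩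
  obtain ⟨r, hr⟩ := h2
  rw [hr] at h1
  have hr0 : r ≠ 0 := by
    rintro rfl
    rw [mul_zero, mul_zero] at h1
    have h3 : Nat.card G * (p ^ ((Nat.card N).factorization p +
        ((Nat.card N).factorization p - blockDefect p b)) * n) ≠ 0 := by
      refine mul_ne_zero Nat.card_pos.ne' (mul_ne_zero (pow_pos hp.pos _).ne' ?_)
      rintro rfl
      exact hn1 (dvd_zero p)
    exact h3 h1.symm
  have hn0 : n ≠ 0 := by
    rintro rfl
    exact hn1 (dvd_zero p)
  have h3 := congrArg (fun n => n.factorization p) h1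
  rw [Nat.factorization_mul Nat.card_pos.ne' (mul_ne_zero (pow_pos hp.pos _).ne' hr0),
    Nat.factorization_mul (pow_pos hp.pos _).ne' hr0,
    Nat.factorization_mul Nat.card_pos.ne' (mul_ne_zero (pow_pos hp.pos _).ne' hn0),
    Nat.factorization_mul (pow_pos hp.pos _).ne' hn0, Finsupp.add_apply, Finsupp.add_apply,
    Finsupp.add_apply, Finsupp.add_apply, hp.factorization_pow, hp.factorization_pow,
    Finsupp.single_eq_same, Finsupp.single_eq_same,
    Nat.factorization_eq_zero_of_not_dvd hn1, ← ha] at h3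
  have h4 := blockDefect_le (p := p) b
  omega

/-- **Fong's theorem**. -/
theorem fong (hM : IsPModular p M) {b : Set (IrrCharacter N)} (hb : IsPBlock M b)
    (h : GStab (G := G) b) {B : Set (IrrCharacter G)} (hB : IsPBlock M B) (hcov : Cov B b)
    (hmax : ∀ B' : Set (IrrCharacter G), IsPBlock M B' → Cov B' b →
      blockDefect p B' ≤ blockDefect p B) {P : Subgroup G} (hP : IsDefectGroup p M B P) :
    ¬ p ∣ (P ⊔ N).index ∧ IsDefectGroup p M b ((P ⊓ N).subgroupOf N) ∧
      blockDefect p B = blockDefect p b + N.index.factorization p := by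
  have hp := hM.1
  haveI := factP hM
  obtain ⟨c, hc, -, hcc, hcD⟩ := knorr_above (N := N) hM hB hP
  have h1 : c = b := eq_of_cov_stab hM hb hc h hB hcov hcc
  rw [h1] at hcD
  have h2 : Nat.card (P ⊓ N : Subgroup G) = p ^ blockDefect p b := by
    rw [← card_defectGroup hM hb hcD]
    exact (Nat.card_congr (Subgroup.subgroupOfEquivOfLe (inf_le_right : P ⊓ N ≤ N)).toEquiv).symm
  have h3 := fac_sup hp (card_defectGroup hM hB hP) h2
  have h4 := fong_lower hM hb h hmax
  have h5 : (Nat.card G).factorization p = (P ⊔ N).index.factorization p +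
      (Nat.card (P ⊔ N : Subgroup G)).factorization p := by
    rw [← Subgroup.index_mul_card (P ⊔ N), Nat.factorization_mul
      (P ⊔ N).index_ne_zero_of_finite Nat.card_pos.ne', Finsupp.add_apply]
  have h6 : (Nat.card G).factorization p = N.index.factorization p +
      (Nat.card N).factorization p := by
    rw [← Subgroup.index_mul_card N, Nat.factorization_mul
      N.index_ne_zero_of_finite Nat.card_pos.ne', Finsupp.add_apply]
  refine ⟨?_, hcD, by omega⟩
  intro h7
  have h8 := hp.factorization_pos_of_dvd (P ⊔ N).index_ne_zero_of_finite h7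
  omega

/-- A stable block of a normal subgroup of `p`-power index. -/
theorem above_eq_block (hM : IsPModular p M) (hidx : ∃ k : ℕ, N.index = p ^ k)
    {b : Set (IrrCharacter N)} (hb : IsPBlock M b) (h : GStab (G := G) b) :
    IsPBlock M (above (G := G) b) := by
  obtain ⟨B, hB, hcov⟩ := exists_cov_above (G := G) hM hb
  have h1 : above (G := G) b = B := by
    ext χ
    constructor
    · rintro ⟨θ, hθ, hov⟩
      have h2 : Cov (blockOf M χ.1) b := ⟨χ, self_mem_blockOf hM χ, θ, hθ, hov⟩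
      rw [cov_unique_of_index hM hidx hb hB (isPBlock_blockOf M χ) hcov h2]
      exact self_mem_blockOf hM χ
    · intro hχ
      exact mem_above_of_cov hM hb h hB hcov hχ
  rw [h1]; exact hB

theorem index_defect (hM : IsPModular p M) (hidx : ∃ k : ℕ, N.index = p ^ k)
    {b : Set (IrrCharacter N)} (hb : IsPBlock M b) (h : GStab (G := G) b)
    {B : Set (IrrCharacter G)} (hB : IsPBlock M B) (hcov : Cov B b) {P : Subgroup G}
    (hP : IsDefectGroup p M B P) : N ⊔ P = ⊤ ∧ IsDefectGroup p M b ((P ⊓ N).subgroupOf N) := by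
  have hp := hM.1
  haveI := factP hM
  have hmax : ∀ B' : Set (IrrCharacter G), IsPBlock M B' → Cov B' b →
      blockDefect p B' ≤ blockDefect p B := by
    intro B' hB' hc'
    rw [cov_unique_of_index hM hidx hb hB hB' hcov hc']
  obtain ⟨h1, h2, -⟩ := fong hM hb h hB hcov hmax hP
  refine ⟨?_, h2⟩
  rw [sup_comm, ← Subgroup.index_eq_one]
  obtain ⟨k, hk⟩ := hidx
  have h3 : (P ⊔ N).index ∣ p ^ k := hk ▸ Subgroup.index_dvd_of_le le_sup_right
  obtain ⟨j, -, hj⟩ := (Nat.dvd_prime_pow hp).1 h3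
  rw [hj] at h1 ⊢
  rcases Nat.eq_zero_or_pos j with h4 | h4
  · rw [h4, pow_zero]
  · exact absurd (dvd_pow_self p h4.ne') h1

end Fg

end Cfsg.Agent.Lib.BlkH5V
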