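import Cfsg.Agent.Lib.BlockRey
import Cfsg.Agent.Lib.BlockKB
import Cfsg.Agent.Lib.BlockLar
import Cfsg.Agent.Lib.BlockMaxB
import Cfsg.Agent.Lib.BlockIndIn
import Cfsg.Agent.Lib.BlockBFM

import Cfsg.Agent.Lib.BlkH5L
import Cfsg.Agent.Lib.BlkH5P
import Cfsg.Agent.Lib.BlkH5Q
import Cfsg.Agent.Lib.BlkH5R
import Cfsg.Agent.Lib.BlkH5S
import Cfsg.Agent.Lib.BlkH5T
import Cfsg.Agent.Lib.BlkH5U
import Cfsg.Agent.Lib.BlkH5V
import Cfsg.Agent.Lib.BlockNilC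
import Cfsg.Agent.Lib.BlockPairD
import Cfsg.Agent.Lib.BlockPairC
import Cfsg.Agent.Lib.BlockNP

/-!
Stabilizers and defect groups.
-/

set_option autoImplicit false
set_option linter.style.haveILetI false
set_option linter.unusedVariables false
set_option linter.unusedSectionVars false
set_option linter.unusedDecidableInType false
set_option linter.unusedFintypeInType false
set_option linter.unusedSimpArgs false

namespace Cfsg.Agent.Lib.BlkH5W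
open Cfsg Cfsg.Agent.Lib.BlockLoc Cfsg.Agent.Lib.BlockGA Cfsg.Agent.Lib.CharBasic
open Cfsg.Agent.Lib.BlockIdem Cfsg.Agent.Lib.BlockPP Cfsg.Agent.Lib.BlockOrth
open Cfsg.Agent.Lib.BlockRed Cfsg.Agent.Lib.BlockDef Cfsg.Agent.Lib.BlockDeg
open Cfsg.Agent.Lib.BlockNP Cfsg.Agent.Lib.BlockInd Cfsg.Agent.Lib.BlockSecond
open Cfsg.Agent.Lib.BlockFirst Cfsg.Agent.Lib.BlockHt Cfsg.Agent.Lib.BlockM
open Cfsg.Agent.Lib.BlockCov Cfsg.Agent.Lib.BlockQuot Cfsg.Agent.Lib.CharKer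
open Cfsg.Agent.Lib.BlockQuotB Cfsg.Agent.Lib.BlockMore Cfsg.Agent.Lib.BlockMoreB
open Cfsg.Agent.Lib.BlockTr Cfsg.Agent.Lib.CharNormal Cfsg.Agent.Lib.BlockCovB
open Cfsg.Agent.Lib.BlockBP Cfsg.Agent.Lib.BlockInt Cfsg.Agent.Lib.BlockSum Cfsg.Agent.Lib.BlockRk
open Cfsg.Agent.Lib.BlockFusB Cfsg.Agent.Lib.BlockMax Cfsg.Agent.Lib.CharSplit Cfsg.Agent.Lib.CharBrauer
open Cfsg.Agent.Lib.CharInd Cfsg.Agent.Lib.BlockPC Cfsg.Agent.Lib.BlockPair Cfsg.Agent.Lib.BlockPairB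
open Cfsg.Agent.Lib.BlockPairC Cfsg.Agent.Lib.BlockPairD Cfsg.Agent.Lib.BlockPairE
open Cfsg.Agent.Lib.BlockRey Cfsg.Agent.Lib.BlockPairF Cfsg.Agent.Lib.BlockFus Cfsg.Agent.Lib.BlockNilB Cfsg.Agent.Lib.BlockNil Cfsg.Agent.Lib.CharClifford
open Cfsg.Agent.Lib.BlockKB Cfsg.Agent.Lib.BlockLar Cfsg.Agent.Lib.BlockMaxB Cfsg.Agent.Lib.BlockIndIn Cfsg.Agent.Lib.BlockBFM
open Cfsg.Agent.Lib.BlkH5L Cfsg.Agent.Lib.BlkH5P Cfsg.Agent.Lib.BlkH5Q Cfsg.Agent.Lib.BlkH5R Cfsg.Agent.Lib.BlkH5S Cfsg.Agent.Lib.BlkH5T Cfsg.Agent.Lib.BlkH5U Cfsg.Agent.Lib.BlkH5V Cfsg.Agent.Lib.BlockNilC Cfsg.Agent.Lib.BlockPairD Cfsg.Agent.Lib.BlockPairC Cfsg.Agent.Lib.BlockNP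
open scoped ComplexConjugate

section Wd

variable {G : Type*} [Group G] [Fintype G] {p : ℕ} {M : Ideal AlgInt} {N : Subgroup G}
  [hN : N.Normal] [Fintype N]

theorem bT_gStab' {T : Subgroup G} (hNT : N ≤ T) {b : Set (IrrCharacter N)}
    (hT : ∀ g ∈ T, ∀ θ ∈ b, cjI g θ ∈ b) : GStab (G := T) (bT hNT b) := by
  intro θ' hθ' x
  obtain ⟨θ, rfl⟩ : ∃ θ : IrrCharacter N, θ' = trI (Subgroup.subgroupOfEquivOfLe hNT) θ :=
    ⟨trI (Subgroup.subgroupOfEquivOfLe hNT).symm θ', (trI_trI_symm _ _).symm⟩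
  rw [mem_bT] at hθ'
  have h1 := hT (x : G) x.2 θ hθ'
  have h2 : cjI x (trI (Subgroup.subgroupOfEquivOfLe hNT) θ) =
      trI (Subgroup.subgroupOfEquivOfLe hNT) (cjI (x : G) θ) := Subtype.ext (funext fun n => rfl)
  rw [h2, mem_bT]
  exact h1

/-- The stabilizer of a block, in terms of idempotents. -/
theorem stab_iff (hM : IsPModular p M) {b : Set (IrrCharacter N)} (hb : IsPBlock M b) (g : G) :
    Inv g (eX hM N b) ↔ ∀ θ ∈ b, cjI g θ ∈ b := by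
  constructor
  · intro h θ hθ
    have h1 : eX hM N (bx g b) = eX hM N b := by
      rw [bx_eq, eX_trB, inv_iff_cjGA.1 h]
    have h2 := eX_injective hM (isLoc_eB hM (bx_block hM g hb)) (isLoc_eB hM hb) h1
    rw [← h2] at hθ
    exact hθ
  · intro h
    obtain ⟨θ, hθ⟩ := block_nonempty hM hb
    have h1 := bx_eq_of_mem hM hb hθ (h θ hθ)
    rw [inv_iff_cjGA, ← eX_trB hM g (nrm_iff g), ← bx_eq, h1]

theorem stabilizes_normal_iff (hM : IsPModular p M) {b : Set (IrrCharacter N)}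
    (hb : IsPBlock M b) (g : G) : StabilizesBlock N b g ↔ ∀ θ ∈ b, cjI g θ ∈ b := by
  have hxN : g ∈ Subgroup.normalizer (N : Set G) := by
    rw [Subgroup.normalizer_eq_top]
    exact Subgroup.mem_top g
  rw [stabilizes_iff hM (isLoc_eB hM hb) hxN, stab_iff hM hb]

theorem eX_above (hM : IsPModular p M) {L : Subgroup G} (hNL : N ≤ L)
    {b : Set (IrrCharacter N)} (h : ∀ g ∈ L, ∀ θ ∈ b, cjI g θ ∈ b)
    [Fintype (N.subgroupOf L)] :
    eX hM L (above (G := L) (bT hNL b)) = eX hM N b := by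
  haveI : Fintype L := Fintype.ofFinite _
  rw [eX_eq, eX_eq, eB_above (bT_gStab' hNL h), ← res_ext_bT hNL, extGA_resGA]
  intro g hg
  exact hNL (extGA_supp g hg)

/-- If a defect group of a block covering a stable block `c` of `N` lies in `N`, then `N` is not
properly contained in normal subgroups with a quotient of `p`-power order. -/
theorem eq_of_defect_le (hM : IsPModular p M) {L : Subgroup G} [hL : L.Normal] (hNL : N ≤ L)
    (hidx : ∃ k : ℕ, (N.subgroupOf L).index = p ^ k) {c : Set (IrrCharacter N)}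
    (hc : IsPBlock M c) (hst : GStab (G := G) c) {B : Set (IrrCharacter G)}
    (hB : IsPBlock M B) (hcov : Cov B c) {D : Subgroup G} (hD : IsDefectGroup p M B D)
    (hDN : D ≤ N) : L ≤ N := by
  haveI : Fintype L := Fintype.ofFinite _
  haveI : Fintype (N.subgroupOf L) := Fintype.ofFinite _
  have hst' : ∀ g ∈ L, ∀ θ ∈ c, cjI g θ ∈ c := fun g _ θ hθ => hst θ hθ g
  have hcL : IsPBlock M (bT hNL c) := isPBlock_trB hM _ hc
  have hgs : GStab (G := L) (bT hNL c) := bT_gStab' hNL hst'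
  have hF := above_eq_block hM hidx hcL hgs
  set F := above (G := L) (bT hNL c) with hFdef
  have h1 : eX hM L F = eX hM N c := eX_above hM hNL hst'
  have h2 : Cov B F := by
    apply cov_of_mul_ne_zero hM _ hB hF
    change eF hM B * eX hM L F ≠ 0
    rw [h1]
    exact mul_ne_zero_of_cov hM hB hc hcov
  have h3 : Cov F (bT hNL c) := by
    obtain ⟨χ, hχ⟩ := block_nonempty hM hF
    obtain ⟨θ, hθ, hov⟩ := hχ
    exact ⟨χ, ⟨θ, hθ, hov⟩, θ, hθ, hov⟩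
  obtain ⟨P', hP'⟩ := exists_defectGroup hM hF
  have h4 := (index_defect hM hidx hcL hgs hF h3 hP').1
  obtain ⟨g, hg⟩ := subConj_of_cov hM hB hF h2 hP' hD
  have h5 : P' ≤ N.subgroupOf L := by
    intro x hx
    rw [Subgroup.mem_subgroupOf]
    have h6 := hDN (hg (x : G) (Subgroup.mem_map_of_mem _ hx))
    have h7 := hN.conj_mem _ h6 g⁻¹
    have h8 : g⁻¹ * (g * (x : G) * g⁻¹) * g⁻¹⁻¹ = x := by group
    rwa [h8] at h7
  rw [sup_eq_left.2 h5] at h4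
  intro x hx
  have h6 : (⟨x, hx⟩ : L) ∈ N.subgroupOf L := by rw [h4]; exact Subgroup.mem_top _
  exact Subgroup.mem_subgroupOf.1 h6

end Wd

end Cfsg.Agent.Lib.BlkH5W
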