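import Cfsg.Agent.Lib.BlockRey
import Cfsg.Agent.Lib.BlockKB
import Cfsg.Agent.Lib.BlockLar
import Cfsg.Agent.Lib.BlockMaxB
import Cfsg.Agent.Lib.BlockIndIn
import Cfsg.Agent.Lib.BlockBFM

import Cfsg.Agent.Lib.BlkH5L
import Cfsg.Agent.Lib.BlkH5P
import Cfsg.Agent.Lib.BlkH5Q
import Cfsg.Agent.Lib.BlkH5R
import Cfsg.Agent.Lib.BlkH5S
import Cfsg.Agent.Lib.BlkH5T
import Cfsg.Agent.Lib.BlkH5U
import Cfsg.Agent.Lib.BlkH5V
import Cfsg.Agent.Lib.BlkH5W
import Cfsg.Agent.Lib.BlockNilC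
import Cfsg.Agent.Lib.BlockNilB
import Cfsg.Agent.Lib.BlockPairD
import Cfsg.Agent.Lib.BlockPairC
import Cfsg.Agent.Lib.BlockNP
import Cfsg.Agent.Lib.BlockIndIn

/-!
Harris-Knoerr.
-/

set_option autoImplicit false
set_option linter.style.haveILetI false
set_option linter.unusedVariables false
set_option linter.unusedSectionVars false
set_option linter.unusedDecidableInType false
set_option linter.unusedFintypeInType false
set_option linter.unusedSimpArgs false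

namespace Cfsg.Agent.Lib.BlkH5X
open Cfsg Cfsg.Agent.Lib.BlockLoc Cfsg.Agent.Lib.BlockGA Cfsg.Agent.Lib.CharBasic
open Cfsg.Agent.Lib.BlockIdem Cfsg.Agent.Lib.BlockPP Cfsg.Agent.Lib.BlockOrth
open Cfsg.Agent.Lib.BlockRed Cfsg.Agent.Lib.BlockDef Cfsg.Agent.Lib.BlockDeg
open Cfsg.Agent.Lib.BlockNP Cfsg.Agent.Lib.BlockInd Cfsg.Agent.Lib.BlockSecond
open Cfsg.Agent.Lib.BlockFirst Cfsg.Agent.Lib.BlockHt Cfsg.Agent.Lib.BlockM
open Cfsg.Agent.Lib.BlockCov Cfsg.Agent.Lib.BlockQuot Cfsg.Agent.Lib.CharKer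
open Cfsg.Agent.Lib.BlockQuotB Cfsg.Agent.Lib.BlockMore Cfsg.Agent.Lib.BlockMoreB
open Cfsg.Agent.Lib.BlockTr Cfsg.Agent.Lib.CharNormal Cfsg.Agent.Lib.BlockCovB
open Cfsg.Agent.Lib.BlockBP Cfsg.Agent.Lib.BlockInt Cfsg.Agent.Lib.BlockSum Cfsg.Agent.Lib.BlockRk
open Cfsg.Agent.Lib.BlockFusB Cfsg.Agent.Lib.BlockMax Cfsg.Agent.Lib.CharSplit Cfsg.Agent.Lib.CharBrauer
open Cfsg.Agent.Lib.CharInd Cfsg.Agent.Lib.BlockPC Cfsg.Agent.Lib.BlockPair Cfsg.Agent.Lib.BlockPairB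
open Cfsg.Agent.Lib.BlockPairC Cfsg.Agent.Lib.BlockPairD Cfsg.Agent.Lib.BlockPairE
open Cfsg.Agent.Lib.BlockRey Cfsg.Agent.Lib.BlockPairF Cfsg.Agent.Lib.BlockFus Cfsg.Agent.Lib.BlockNilB Cfsg.Agent.Lib.BlockNil Cfsg.Agent.Lib.CharClifford
open Cfsg.Agent.Lib.BlockKB Cfsg.Agent.Lib.BlockLar Cfsg.Agent.Lib.BlockMaxB Cfsg.Agent.Lib.BlockIndIn Cfsg.Agent.Lib.BlockBFM
open Cfsg.Agent.Lib.BlkH5L Cfsg.Agent.Lib.BlkH5P Cfsg.Agent.Lib.BlkH5Q Cfsg.Agent.Lib.BlkH5R Cfsg.Agent.Lib.BlkH5S Cfsg.Agent.Lib.BlkH5T Cfsg.Agent.Lib.BlkH5U Cfsg.Agent.Lib.BlkH5V Cfsg.Agent.Lib.BlkH5W Cfsg.Agent.Lib.BlockNilC Cfsg.Agent.Lib.BlockNilB Cfsg.Agent.Lib.BlockPairD Cfsg.Agent.Lib.BlockPairC Cfsg.Agent.Lib.BlockNP Cfsg.Agent.Lib.BlockIndIn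
open scoped ComplexConjugate

section HKa

variable {G : Type*} [Group G] [Fintype G] {p : ℕ} {M : Ideal AlgInt}

theorem trunc_mulI (hM : IsPModular p M) {Q : Subgroup G} (hQ : IsPGroup p Q)
    {a b : GA (ResF hM) G} (ha : ∀ q ∈ Q, Inv q a) (hb : ∀ q ∈ Q, Inv q b) :
    trunc Q (a * b) = trunc Q a * trunc Q b := by
  haveI := factP hM
  rw [trunc, res_mul hQ ha hb, extGA_mul]
  rfl

theorem trunc_invI {k : Type*} [CommRing k] {Q : Subgroup G} {a : GA k G} {x : G}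
    (hx : x ∈ Subgroup.normalizer (Q : Set G)) (h : Inv x a) : Inv x (trunc Q a) := by
  intro g
  have h1 := norm_iff.1 (norm_cent hx) g
  by_cases hg : g ∈ Subgroup.centralizer (Q : Set G)
  · rw [trunc_pos hg, trunc_pos (h1.1 hg)]
    exact h g
  · rw [trunc_neg hg, trunc_neg (fun h => hg (h1.2 h))]

/-- Central characters of a subgroup, and truncation at a normal `p`-subgroup. -/
theorem lam_res_trunc (hM : IsPModular p M) {L Q : Subgroup G} (hQ : IsPGroup p Q) (hQL : Q ≤ L)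
    (hN : L ≤ Subgroup.normalizer (Q : Set G)) (ξ : IrrCharacter L) {A : GA (ResF hM) G}
    (hA : ∀ x ∈ L, Inv x A) :
    lam hM ξ.1 (resGA L A) = lam hM ξ.1 (resGA L (trunc Q A)) := by
  haveI : (Q.subgroupOf L).Normal := normal_subgroupOf (nrm_of_le_normalizer hN)
  have hA1 : IsCl (resGA L A) := fun g h => hA h h.2 g
  have hA2 : IsCl (resGA L (trunc Q A)) := fun g h => trunc_invI (hN h.2) (hA h h.2) g
  have hQp : IsPGroup p (Q.subgroupOf L) :=
    hQ.comap_of_injective _ (Subgroup.subtype_injective _)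
  have h1 := lam_eq_zero_of_supp hM ξ hQp (c := resGA L A - resGA L (trunc Q A))
    (hA1.sub hA2) (fun g hg => by
      have hg' : (g : G) ∈ Subgroup.centralizer (Q : Set G) := by
        rw [Subgroup.mem_centralizer_iff]
        intro q hq
        exact congrArg Subtype.val (hg ⟨q, hQL hq⟩ (Subgroup.mem_subgroupOf.2 hq)).eq
      rw [ga_sub, resGA_apply, resGA_apply, trunc_pos hg', sub_self])
  rw [lam_sub hM ξ.2 hA1 hA2] at h1
  exact sub_eq_zero.1 h1

/-- Transport of restricted elements. -/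
theorem mapGA_res {k : Type*} [CommRing k] {A B : Type*} [Group A] [Group B] [Finite A] [Finite B]
    (e : A ≃* B) (c : GA k A) (b : B) : (mapGA e.toMonoidHom c) b = c (e.symm b) := by
  classical
  cases nonempty_fintype A
  rw [mapGA_apply, Finset.sum_eq_single (e.symm b)]
  · rw [if_pos]
    exact e.apply_symm_apply b
  · intro a _ ha
    rw [if_neg]
    intro h
    apply ha
    rw [← h]
    exact (e.symm_apply_apply a).symm
  · intro h; exact absurd (Finset.mem_univ _) h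

theorem lam_trI_res (hM : IsPModular p M) {H K : Subgroup G} {K' : Subgroup H} (e : K' ≃* K)
    (he : ∀ x : K', ((e x : K) : G) = ((x : H) : G)) (ξ : IrrCharacter K) {A : GA (ResF hM) G}
    (hA : ∀ x ∈ K, Inv x A) :
    lam hM (trI e ξ).1 (resGA K' (resGA H A)) = lam hM ξ.1 (resGA K A) := by
  have h1 : IsCl (resGA K' (resGA H A)) := by
    intro g h
    have h2 := hA _ (e h).2 ((g : H) : G)
    rw [he h] at h2
    exact h2
  rw [lam_trI hM e ξ h1]
  congr 1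
  ext b
  rw [mapGA_res, resGA_apply, resGA_apply, resGA_apply, ← he, e.apply_symm_apply]

/-- Central characters and relative block induction. -/
theorem lam_inducedIn (hM : IsPModular p M) {H K : Subgroup G} (hKH : K ≤ H)
    {c : Set (IrrCharacter K)} {f : Set (IrrCharacter H)} (h : IsInducedBlockIn M H K c f)
    {ξ : IrrCharacter K} (hξ : ξ ∈ c) {θ : IrrCharacter H} (hθ : θ ∈ f) {A : GA (ResF hM) G}
    (hA : ∀ x ∈ H, Inv x A) :
    lam hM θ.1 (resGA H A) = lam hM ξ.1 (resGA K A) := by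
  have h1 := (inducedIn_iff hM (Subgroup.subgroupOfEquivOfLe hKH) (fun _ => rfl)).1 h
  have h2 : trI (Subgroup.subgroupOfEquivOfLe hKH) ξ ∈
      trB (Subgroup.subgroupOfEquivOfLe hKH).symm c := by
    rw [mem_trB, trI_symm_trI]; exact hξ
  have h3 : IsCl (resGA H A) := fun g x => hA x x.2 g
  have h4 := lam_of_induced hM h1 h2 hθ h3
  rw [← h4]
  exact lam_trI_res hM (Subgroup.subgroupOfEquivOfLe hKH) (fun _ => rfl) ξ (fun x hx => hA x (hKH hx))

theorem inner_trI {H L : Subgroup G} (hLH : L ≤ H) [Fintype L] [Fintype (L.subgroupOf H)]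
    (ψ : H → ℂ) (ξ : IrrCharacter L) :
    classInner (fun n : L.subgroupOf H => ψ n) (trI (Subgroup.subgroupOfEquivOfLe hLH) ξ).1 =
      classInner (fun l : L => ψ (Subgroup.inclusion hLH l)) ξ.1 := by
  rw [classInner_def, classInner_def, Nat.card_congr (Subgroup.subgroupOfEquivOfLe hLH).toEquiv]
  congr 1
  exact Fintype.sum_equiv (Subgroup.subgroupOfEquivOfLe hLH).toEquiv _ _ fun x => rfl

end HKa

end Cfsg.Agent.Lib.BlkH5X
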