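import Cfsg.Agent.Lib.BlockRey
import Cfsg.Agent.Lib.BlockKB
import Cfsg.Agent.Lib.BlockLar
import Cfsg.Agent.Lib.BlockMaxB
import Cfsg.Agent.Lib.BlockIndIn
import Cfsg.Agent.Lib.BlockBFM

import Cfsg.Agent.Lib.BlkH5L
import Cfsg.Agent.Lib.BlkH5P
import Cfsg.Agent.Lib.BlkH5Q
import Cfsg.Agent.Lib.BlkH5R
import Cfsg.Agent.Lib.BlkH5S
import Cfsg.Agent.Lib.BlkH5T
import Cfsg.Agent.Lib.BlkH5U
import Cfsg.Agent.Lib.BlkH5V
import Cfsg.Agent.Lib.BlkH5W
import Cfsg.Agent.Lib.BlkH5X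
import Cfsg.Agent.Lib.BlockNilC
import Cfsg.Agent.Lib.BlockNilB
import Cfsg.Agent.Lib.BlockPairD
import Cfsg.Agent.Lib.BlockPairC
import Cfsg.Agent.Lib.BlockNP
import Cfsg.Agent.Lib.BlockIndIn

/-!
Harris-Knoerr, II.
-/

set_option autoImplicit false
set_option linter.style.haveILetI false
set_option linter.unusedVariables false
set_option linter.unusedSectionVars false
set_option linter.unusedDecidableInType false
set_option linter.unusedFintypeInType false
set_option linter.unusedSimpArgs false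

namespace Cfsg.Agent.Lib.BlkH5Y
open Cfsg Cfsg.Agent.Lib.BlockLoc Cfsg.Agent.Lib.BlockGA Cfsg.Agent.Lib.CharBasic
open Cfsg.Agent.Lib.BlockIdem Cfsg.Agent.Lib.BlockPP Cfsg.Agent.Lib.BlockOrth
open Cfsg.Agent.Lib.BlockRed Cfsg.Agent.Lib.BlockDef Cfsg.Agent.Lib.BlockDeg
open Cfsg.Agent.Lib.BlockNP Cfsg.Agent.Lib.BlockInd Cfsg.Agent.Lib.BlockSecond
open Cfsg.Agent.Lib.BlockFirst Cfsg.Agent.Lib.BlockHt Cfsg.Agent.Lib.BlockM
open Cfsg.Agent.Lib.BlockCov Cfsg.Agent.Lib.BlockQuot Cfsg.Agent.Lib.CharKer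
open Cfsg.Agent.Lib.BlockQuotB Cfsg.Agent.Lib.BlockMore Cfsg.Agent.Lib.BlockMoreB
open Cfsg.Agent.Lib.BlockTr Cfsg.Agent.Lib.CharNormal Cfsg.Agent.Lib.BlockCovB
open Cfsg.Agent.Lib.BlockBP Cfsg.Agent.Lib.BlockInt Cfsg.Agent.Lib.BlockSum Cfsg.Agent.Lib.BlockRk
open Cfsg.Agent.Lib.BlockFusB Cfsg.Agent.Lib.BlockMax Cfsg.Agent.Lib.CharSplit Cfsg.Agent.Lib.CharBrauer
open Cfsg.Agent.Lib.CharInd Cfsg.Agent.Lib.BlockPC Cfsg.Agent.Lib.BlockPair Cfsg.Agent.Lib.BlockPairB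
open Cfsg.Agent.Lib.BlockPairC Cfsg.Agent.Lib.BlockPairD Cfsg.Agent.Lib.BlockPairE
open Cfsg.Agent.Lib.BlockRey Cfsg.Agent.Lib.BlockPairF Cfsg.Agent.Lib.BlockFus Cfsg.Agent.Lib.BlockNilB Cfsg.Agent.Lib.BlockNil Cfsg.Agent.Lib.CharClifford
open Cfsg.Agent.Lib.BlockKB Cfsg.Agent.Lib.BlockLar Cfsg.Agent.Lib.BlockMaxB Cfsg.Agent.Lib.BlockIndIn Cfsg.Agent.Lib.BlockBFM
open Cfsg.Agent.Lib.BlkH5L Cfsg.Agent.Lib.BlkH5P Cfsg.Agent.Lib.BlkH5Q Cfsg.Agent.Lib.BlkH5R Cfsg.Agent.Lib.BlkH5S Cfsg.Agent.Lib.BlkH5T Cfsg.Agent.Lib.BlkH5U Cfsg.Agent.Lib.BlkH5V Cfsg.Agent.Lib.BlkH5W Cfsg.Agent.Lib.BlkH5X Cfsg.Agent.Lib.BlockNilC Cfsg.Agent.Lib.BlockNilB Cfsg.Agent.Lib.BlockPairD Cfsg.Agent.Lib.BlockPairC Cfsg.Agent.Lib.BlockNP Cfsg.Agent.Lib.BlockIndIn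
open scoped ComplexConjugate

section Fus

variable {G : Type*} [Group G] [Finite G] {p : ℕ}

open scoped Pointwise in
theorem sylow_fusion [Fact p.Prime] {X Q : Subgroup G} {n : ℕ} (hQ : Nat.card Q = p ^ n)
    (hQX : Q ≤ X) (hR : ∀ R : Subgroup G, Nat.card R = p ^ (n + 1) → R ≤ X →
      R ≤ Subgroup.normalizer (Q : Set G) → False) {Q' : Subgroup G} (hQ' : Q' ≤ X)
    (hc : Nat.card Q' = p ^ n) : ∃ x ∈ X, ∀ g, g ∈ Q ↔ x * g * x⁻¹ ∈ Q' := by
  have hp := (Fact.out : p.Prime)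
  have h1 : Nat.card (Q.subgroupOf X) = p ^ n := by
    rw [Nat.card_congr (Subgroup.subgroupOfEquivOfLe hQX).toEquiv, hQ]
  have h1' : Nat.card (Q'.subgroupOf X) = p ^ n := by
    rw [Nat.card_congr (Subgroup.subgroupOfEquivOfLe hQ').toEquiv, hc]
  have h2 : ¬ p ^ (n + 1) ∣ Nat.card X := by
    intro hd
    have h3 := Sylow.card_normalizer_modEq_card h1
    have h4 : p ^ (n + 1) ∣
        Nat.card (Subgroup.normalizer ((Q.subgroupOf X : Subgroup X) : Set X)) :=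
      Nat.modEq_zero_iff_dvd.1 (h3.trans (Nat.modEq_zero_iff_dvd.2 hd))
    obtain ⟨K, hK⟩ := Sylow.exists_subgroup_card_pow_prime p h4
    set K₁ : Subgroup X := K.map (Subgroup.subtype _) with hK₁
    have hK₁c : Nat.card K₁ = p ^ (n + 1) := by
      rw [hK₁, Subgroup.card_map_of_injective (Subgroup.subtype_injective _), hK]
    refine hR (K₁.map X.subtype) ?_ ?_ ?_
    · rw [Subgroup.card_map_of_injective (Subgroup.subtype_injective _), hK₁c]
    · intro g hg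
      obtain ⟨k, -, rfl⟩ := Subgroup.mem_map.1 hg
      exact k.2
    · intro g hg
      obtain ⟨k, hk, rfl⟩ := Subgroup.mem_map.1 hg
      obtain ⟨m, -, hmk⟩ := Subgroup.mem_map.1 hk
      have hm := m.2
      rw [Subgroup.mem_normalizer_iff] at hm
      rw [Subgroup.mem_normalizer_iff]
      intro h
      have hmk' : (m : X) = k := hmk
      change h ∈ Q ↔ (k : G) * h * (k : G)⁻¹ ∈ Q
      constructor
      · intro hh
        have h5 := (hm ⟨h, hQX hh⟩).1 (Subgroup.mem_subgroupOf.2 hh)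
        have h6 := Subgroup.mem_subgroupOf.1 h5
        rw [hmk'] at h6
        exact h6
      · intro hh
        have hhX : h ∈ X := by
          have h7 := X.mul_mem (X.mul_mem (X.inv_mem k.2) (hQX hh)) k.2
          have h8 : (k : G)⁻¹ * ((k : G) * h * (k : G)⁻¹) * k = h := by group
          rwa [h8] at h7
        have h5 : (⟨h, hhX⟩ : X) ∈ Q.subgroupOf X := by
          rw [hm ⟨h, hhX⟩, hmk']
          exact Subgroup.mem_subgroupOf.2 hh
        exact Subgroup.mem_subgroupOf.1 h5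
  have h3 : (Nat.card X).factorization p = n := by
    have h4 : p ^ n ∣ Nat.card X := h1 ▸ Subgroup.card_subgroup_dvd_card _
    have h5 := (hp.pow_dvd_iff_le_factorization Nat.card_pos.ne').1 h4
    have h6 : ¬ (n + 1 ≤ (Nat.card X).factorization p) := fun h =>
      h2 ((hp.pow_dvd_iff_le_factorization Nat.card_pos.ne').2 h)
    omega
  let P : Sylow p X := Sylow.ofCard (Q.subgroupOf X) (by rw [h1, h3])
  let P' : Sylow p X := Sylow.ofCard (Q'.subgroupOf X) (by rw [h1', h3])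
  obtain ⟨x, hx⟩ := MulAction.exists_smul_eq X P P'
  have h4 : (x • P : Sylow p X).toSubgroup = P'.toSubgroup := by rw [hx]
  have h5 : ∀ g : X, g ∈ Q.subgroupOf X ↔ x * g * x⁻¹ ∈ Q'.subgroupOf X := by
    intro g
    have h6 : P'.toSubgroup = Q'.subgroupOf X := rfl
    rw [← h6, ← h4, Sylow.coe_subgroup_smul]
    constructor
    · intro hg
      exact ⟨g, hg, rfl⟩
    · rintro ⟨g', hg', h7⟩
      have h8 : x * g' * x⁻¹ = x * g * x⁻¹ := h7
      have h9 : g' = g := by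
        have := congrArg (fun z => x⁻¹ * z * x) h8
        have e1 : x⁻¹ * (x * g' * x⁻¹) * x = g' := by group
        have e2 : x⁻¹ * (x * g * x⁻¹) * x = g := by group
        rwa [e1, e2] at this
      rw [← h9]; exact hg'
  refine ⟨x, x.2, fun g => ?_⟩
  constructor
  · intro hg
    exact Subgroup.mem_subgroupOf.1 ((h5 ⟨g, hQX hg⟩).1 (Subgroup.mem_subgroupOf.2 hg))
  · intro hg
    have hgX : g ∈ X := by
      have h7 := X.mul_mem (X.mul_mem (X.inv_mem x.2) (hQ' hg)) x.2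
      have h8 : (x : G)⁻¹ * ((x : G) * g * (x : G)⁻¹) * x = g := by group
      rwa [h8] at h7
    exact Subgroup.mem_subgroupOf.1 ((h5 ⟨g, hgX⟩).2 (Subgroup.mem_subgroupOf.2 hg))

end Fus

section HKb

variable {G : Type*} [Group G] [Fintype G] {p : ℕ} {M : Ideal AlgInt} {N : Subgroup G}
  [hN : N.Normal] [Fintype N] {Q : Subgroup G}

/-- The transported block of `N_N(Q)`. -/
def eH (e : Set (IrrCharacter ↥(Subgroup.normalizer (Q : Set G) ⊓ N))) :
    Set (IrrCharacter ((Subgroup.normalizer (Q : Set G) ⊓ N).subgroupOf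
      (Subgroup.normalizer (Q : Set G)))) :=
  trB (Subgroup.subgroupOfEquivOfLe (inf_le_left :
    Subgroup.normalizer (Q : Set G) ⊓ N ≤ Subgroup.normalizer (Q : Set G))).symm e

instance normal_L : ((Subgroup.normalizer (Q : Set G) ⊓ N).subgroupOf
    (Subgroup.normalizer (Q : Set G))).Normal := by
  rw [inf_comm, Subgroup.inf_subgroupOf_right]
  infer_instance

theorem mem_eH {e : Set (IrrCharacter ↥(Subgroup.normalizer (Q : Set G) ⊓ N))}
    {ξ : IrrCharacter ↥(Subgroup.normalizer (Q : Set G) ⊓ N)} :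
    trI (Subgroup.subgroupOfEquivOfLe (inf_le_left :
      Subgroup.normalizer (Q : Set G) ⊓ N ≤ Subgroup.normalizer (Q : Set G))) ξ ∈ eH e ↔
      ξ ∈ e := by
  unfold eH
  rw [mem_trB, trI_symm_trI]

theorem cov_eH [Fintype ↥(Subgroup.normalizer (Q : Set G) ⊓ N)]
    [Fintype ((Subgroup.normalizer (Q : Set G) ⊓ N).subgroupOf
      (Subgroup.normalizer (Q : Set G)))]
    (e : Set (IrrCharacter ↥(Subgroup.normalizer (Q : Set G) ⊓ N)))
    (c : Set (IrrCharacter ↥(Subgroup.normalizer (Q : Set G)))) :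
    Cov c (eH e) ↔ ∃ ψ ∈ c, ∃ ξ ∈ e, classInner
      (fun l : ↥(Subgroup.normalizer (Q : Set G) ⊓ N) =>
        (ψ : ↥(Subgroup.normalizer (Q : Set G)) → ℂ) (Subgroup.inclusion inf_le_left l))
      (ξ : ↥(Subgroup.normalizer (Q : Set G) ⊓ N) → ℂ) ≠ 0 := by
  constructor
  · rintro ⟨ψ, hψ, ξ', hξ', hov⟩
    obtain ⟨ξ, rfl⟩ : ∃ ξ : IrrCharacter ↥(Subgroup.normalizer (Q : Set G) ⊓ N),
        ξ' = trI (Subgroup.subgroupOfEquivOfLe inf_le_left) ξ :=
      ⟨trI (Subgroup.subgroupOfEquivOfLe inf_le_left).symm ξ', (trI_trI_symm _ _).symm⟩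
    refine ⟨ψ, hψ, ξ, mem_eH.1 hξ', ?_⟩
    rw [← inner_trI]
    exact hov
  · rintro ⟨ψ, hψ, ξ, hξ, hov⟩
    refine ⟨ψ, hψ, _, mem_eH.2 hξ, ?_⟩
    unfold Over
    rw [inner_trI]
    exact hov

theorem res_eX_eH (hM : IsPModular p M)
    (e : Set (IrrCharacter ↥(Subgroup.normalizer (Q : Set G) ⊓ N))) :
    resGA (Subgroup.normalizer (Q : Set G)) (eX hM (Subgroup.normalizer (Q : Set G) ⊓ N) e) =
      extGA ((Subgroup.normalizer (Q : Set G) ⊓ N).subgroupOf
        (Subgroup.normalizer (Q : Set G))) (eF hM (eH e)) := by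
  ext t
  rw [resGA_apply]
  unfold eX
  by_cases ht : (t : G) ∈ Subgroup.normalizer (Q : Set G) ⊓ N
  · have ht' : t ∈ (Subgroup.normalizer (Q : Set G) ⊓ N).subgroupOf
        (Subgroup.normalizer (Q : Set G)) := Subgroup.mem_subgroupOf.2 ht
    rw [extGA_pos ht, extGA_pos ht', eF_apply, eF_apply]
    have h1 := eB_trB (Subgroup.subgroupOfEquivOfLe (inf_le_left :
      Subgroup.normalizer (Q : Set G) ⊓ N ≤ Subgroup.normalizer (Q : Set G))).symm e
      ⟨(t : G), ht⟩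
    exact congrArg (red hM) h1.symm
  · have ht' : t ∉ (Subgroup.normalizer (Q : Set G) ⊓ N).subgroupOf
        (Subgroup.normalizer (Q : Set G)) := fun h => ht (Subgroup.mem_subgroupOf.1 h)
    rw [extGA_neg ht, extGA_neg ht']

/-- Induction preserves covering. -/
theorem hk_up (hM : IsPModular p M) (hQN : Q ≤ N)
    [Fintype ((Subgroup.normalizer (Q : Set G) ⊓ N).subgroupOf
      (Subgroup.normalizer (Q : Set G)))]
    {d : Set (IrrCharacter N)} (hd : IsPBlock M d)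
    {e : Set (IrrCharacter ↥(Subgroup.normalizer (Q : Set G) ⊓ N))} (he : IsPBlock M e)
    (hed : IsInducedBlockIn M N (Subgroup.normalizer (Q : Set G) ⊓ N) e d)
    {c : Set (IrrCharacter ↥(Subgroup.normalizer (Q : Set G)))} (hc : IsPBlock M c)
    (hce : Cov c (eH e)) {B : Set (IrrCharacter G)}
    (hB : IsInducedBlock M (Subgroup.normalizer (Q : Set G)) c B) : Cov B d := by
  obtain ⟨ψ, hψ⟩ := block_nonempty hM hc
  obtain ⟨χ, hχ⟩ := block_nonempty hM hB.2.1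
  obtain ⟨θ, hθ⟩ := block_nonempty hM hd
  obtain ⟨ξ, hξ⟩ := block_nonempty hM he
  have heH : IsPBlock M (eH e) := isPBlock_trB hM _ he
  rw [cov_iff hM hB.2.1 hd hχ hθ]
  intro n
  rw [← lam_of_induced hM hB hψ hχ (cs_isCl _),
    lam_inducedIn hM inf_le_right hed hξ hθ (fun x _ g => cs_isCl _ g x)]
  have h1 : IsCl (resGA (Subgroup.normalizer (Q : Set G)) (cs (ResF hM) (n : G))) :=
    resGA_isCl _ (cs_isCl _)
  have h2 := lam_of_cov hM hc heH hce hψ (mem_eH.2 hξ) h1 (fun g hg => by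
    have h3 := cs_supp_normal (k := ResF hM) n.2 (g : G) hg
    exact Subgroup.mem_subgroupOf.2 (Subgroup.mem_inf.2 ⟨g.2, h3⟩))
  rw [h2]
  exact lam_trI_res hM (Subgroup.subgroupOfEquivOfLe inf_le_left) (fun _ => rfl) ξ
    (fun x _ g => cs_isCl _ g x)

/-- Existence in the Harris-Knörr correspondence. -/
theorem hk_down (hM : IsPModular p M) (hQ : IsPGroup p Q) (hQN : Q ≤ N)
    [Fintype ((Subgroup.normalizer (Q : Set G) ⊓ N).subgroupOf
      (Subgroup.normalizer (Q : Set G)))]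
    {d : Set (IrrCharacter N)} (hd : IsPBlock M d)
    {e : Set (IrrCharacter ↥(Subgroup.normalizer (Q : Set G) ⊓ N))} (he : IsPBlock M e)
    (hed : IsInducedBlockIn M N (Subgroup.normalizer (Q : Set G) ⊓ N) e d)
    {B : Set (IrrCharacter G)} (hB : IsPBlock M B) (hcov : Cov B d) :
    ∃ c : Set (IrrCharacter ↥(Subgroup.normalizer (Q : Set G))), IsPBlock M c ∧
      Cov c (eH e) ∧ IsInducedBlock M (Subgroup.normalizer (Q : Set G)) c B := by
  classical
  haveI : Fintype (Subgroup.normalizer (Q : Set G)) := Fintype.ofFinite _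
  haveI : Fintype {f : Set (IrrCharacter (Subgroup.normalizer (Q : Set G))) // IsPBlock M f} := Fintype.ofFinite _
  have hQH : Q ≤ (Subgroup.normalizer (Q : Set G)) := Subgroup.le_normalizer
  have hCH : Subgroup.centralizer (Q : Set G) ≤ (Subgroup.normalizer (Q : Set G)) := by
    intro x hx
    rw [Subgroup.mem_normalizer_iff]
    intro q
    rw [Subgroup.mem_centralizer_iff] at hx
    constructor
    · intro hq
      have h1 := hx q hq
      have h2 : x * q * x⁻¹ = q := by rw [← h1]; group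
      rw [h2]; exact hq
    · intro hq
      have h1 := hx _ hq
      have h2 : x * q * x⁻¹ = q := by
        have h3 : x⁻¹ * (x * q * x⁻¹ * x) * x⁻¹ = x⁻¹ * (x * (x * q * x⁻¹)) * x⁻¹ := by rw [h1]
        have h4 : x⁻¹ * (x * q * x⁻¹ * x) * x⁻¹ = q * x⁻¹ := by group
        have h5 : x⁻¹ * (x * (x * q * x⁻¹)) * x⁻¹ = x * q * x⁻¹ * x⁻¹ := by group
        rw [h4, h5] at h3
        exact (mul_right_cancel h3).symm
      rwa [h2] at hq
  obtain ⟨θ, hθ⟩ := block_nonempty hM hd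
  obtain ⟨ξ, hξ⟩ := block_nonempty hM he
  obtain ⟨q, v, -, hv, hne⟩ := exists_unit_comp hM hB hd hcov hθ
  have hA : NI N (v * eF hM B) := hv.mulN (NI.cl (eF_isCl hM B))
  rw [lam_inducedIn hM inf_le_right hed hξ hθ hA,
    lam_res_trunc hM hQ (le_inf hQH hQN) inf_le_left ξ
      (fun x hx => hA x (Subgroup.mem_inf.1 hx).2),
    trunc_mulI hM hQ (fun x hx => hv x (hQN hx)) (fun x _ g => eF_isCl hM B g x)] at hne
  set tv := trunc Q v with htv
  set tB := trunc Q (eF hM B) with htB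
  obtain ⟨htB1, htB2⟩ := trunc_props hM hB hQ
  have htBs : ∀ g, tB g ≠ 0 → g ∈ (Subgroup.normalizer (Q : Set G)) := by
    intro g hg
    by_contra h
    apply hg
    exact trunc_neg (fun h2 => h (hCH h2))
  have hsum : tv * tB = ∑ c : {f : Set (IrrCharacter (Subgroup.normalizer (Q : Set G))) // IsPBlock M f},
      tv * tB * eX hM (Subgroup.normalizer (Q : Set G)) c.1 := by
    rw [← Finset.mul_sum, sum_eX, mul_one]
  have htvi : ∀ x ∈ (Subgroup.normalizer (Q : Set G)) ⊓ N, Inv x tv := fun x hx =>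
    trunc_invI (Subgroup.mem_inf.1 hx).1 (hv x (Subgroup.mem_inf.1 hx).2)
  have hcl : ∀ c : {f : Set (IrrCharacter (Subgroup.normalizer (Q : Set G))) // IsPBlock M f},
      IsCl (resGA ((Subgroup.normalizer (Q : Set G)) ⊓ N) (tv * tB * eX hM (Subgroup.normalizer (Q : Set G)) c.1)) := by
    intro c g h
    have hh := Subgroup.mem_inf.1 h.2
    exact (Inv.mulA (Inv.mulA (htvi h h.2) (htB1 h hh.1)) (eX_inv hM c.1 h hh.1)) g
  rw [hsum, resGA_sum, lam_sum hM ξ.2 _ _ (fun c _ => hcl c)] at hne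
  obtain ⟨c, -, hcne⟩ := Finset.exists_ne_zero_of_sum_ne_zero hne
  have hlz : lam hM ξ.1 (resGA ((Subgroup.normalizer (Q : Set G)) ⊓ N) (0 : GA (ResF hM) G)) = 0 := by
    rw [resGA_zero, lam_zero hM ξ.2]
  have h1 : tB * eX hM (Subgroup.normalizer (Q : Set G)) c.1 ≠ 0 := by
    intro h
    apply hcne
    rw [mul_assoc, h, mul_zero, hlz]
  have h2 : tB * eX hM (Subgroup.normalizer (Q : Set G)) c.1 = eX hM (Subgroup.normalizer (Q : Set G)) c.1 :=
    (idem_mul_eX hM htBs (fun x hx => htB1 x hx) htB2 c.2).resolve_right h1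
  obtain ⟨B₁, hB₁⟩ := exists_induced hM hQ hQH hCH (nrm_of_le_normalizer le_rfl) c.2
  obtain ⟨ψ, hψ⟩ := block_nonempty hM c.2
  obtain ⟨χ₁, hχ₁⟩ := block_nonempty hM hB₁.2.1
  have h3 : lam hM χ₁.1 (eF hM B) = 1 := by
    rw [← lam_of_induced hM hB₁ hψ hχ₁ (eF_isCl hM B),
      lam_res_trunc hM hQ hQH le_rfl ψ (fun x _ g => eF_isCl hM B g x)]
    have h4 : IsCl (resGA (Subgroup.normalizer (Q : Set G)) tB) := fun g h => htB1 h h.2 g
    rw [lam_one_iff hM h4 _ c.2 hψ]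
    · have h5 : resGA (Subgroup.normalizer (Q : Set G)) (tB * eX hM (Subgroup.normalizer (Q : Set G)) c.1) = resGA (Subgroup.normalizer (Q : Set G)) (eX hM (Subgroup.normalizer (Q : Set G)) c.1) := by rw [h2]
      rw [resGA_mul_supp (eX_supp hM c.1)] at h5
      have h6 : resGA (Subgroup.normalizer (Q : Set G)) (eX hM (Subgroup.normalizer (Q : Set G)) c.1) = eF hM c.1 := resGA_extGA _
      rw [h6] at h5
      exact h5
    · rw [← resGA_mul_supp htBs, htB2]
  have h4 : B₁ = B := by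
    have h5 : χ₁ ∈ B := by
      by_contra h
      rw [lam_eF_not_mem hM (isLoc_eB hM hB) h] at h3
      exact zero_ne_one h3
    exact block_eq_of_mem_of_mem hM hB₁.2.1 hB hχ₁ h5
  rw [h4] at hB₁
  refine ⟨c.1, c.2, ?_, hB₁⟩
  have heH : IsPBlock M (eH e) := isPBlock_trB hM _ he
  apply cov_of_mul_ne_zero hM _ c.2 heH
  intro h0
  apply hcne
  have h5 : eX hM (Subgroup.normalizer (Q : Set G)) c.1 * eX hM ((Subgroup.normalizer (Q : Set G)) ⊓ N) e = 0 := by
    have hes : ∀ g, (eX hM ((Subgroup.normalizer (Q : Set G)) ⊓ N) e) g ≠ 0 → g ∈ (Subgroup.normalizer (Q : Set G)) := fun g hg =>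
      (Subgroup.mem_inf.1 (eX_supp hM e g hg)).1
    have h6 : resGA (Subgroup.normalizer (Q : Set G)) (eX hM (Subgroup.normalizer (Q : Set G)) c.1 * eX hM ((Subgroup.normalizer (Q : Set G)) ⊓ N) e) = 0 := by
      rw [resGA_mul_supp hes, res_eX_eH]
      have h7 : resGA (Subgroup.normalizer (Q : Set G)) (eX hM (Subgroup.normalizer (Q : Set G)) c.1) = eF hM c.1 := resGA_extGA _
      rw [h7]
      exact h0
    have h8 : ∀ g, (eX hM (Subgroup.normalizer (Q : Set G)) c.1 * eX hM ((Subgroup.normalizer (Q : Set G)) ⊓ N) e) g ≠ 0 → g ∈ (Subgroup.normalizer (Q : Set G)) := by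
      intro g hg
      rw [ga_mul] at hg
      obtain ⟨h, -, hh⟩ := Finset.exists_ne_zero_of_sum_ne_zero hg
      have e1 := eX_supp hM c.1 h (left_ne_zero_of_mul hh)
      have e2 := hes _ (right_ne_zero_of_mul hh)
      have := (Subgroup.normalizer (Q : Set G)).mul_mem e1 e2
      rwa [mul_inv_cancel_left] at this
    rw [← extGA_resGA h8, h6]
    ext g
    by_cases hg : g ∈ (Subgroup.normalizer (Q : Set G))
    · rw [extGA_pos hg]; rfl
    · rw [extGA_neg hg]; rfl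
  have h6 : lam hM ξ.1 (resGA ((Subgroup.normalizer (Q : Set G)) ⊓ N) (tv * tB * eX hM (Subgroup.normalizer (Q : Set G)) c.1 * eX hM ((Subgroup.normalizer (Q : Set G)) ⊓ N) e)) = 0 := by
    rw [mul_assoc, h5, mul_zero, hlz]
  rw [resGA_mul_supp (eX_supp hM e)] at h6
  have h7 : resGA ((Subgroup.normalizer (Q : Set G)) ⊓ N) (eX hM ((Subgroup.normalizer (Q : Set G)) ⊓ N) e) = eF hM e := resGA_extGA _
  rw [h7, lam_mul hM ξ.2 (hcl c) (eF_isCl hM e), lam_eF_mem hM (isLoc_eB hM he) hξ, mul_one] at h6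
  exact h6

end HKb

end Cfsg.Agent.Lib.BlkH5Y
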