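import Cfsg.Agent.Lib.BlockRey
import Cfsg.Agent.Lib.BlockKB
import Cfsg.Agent.Lib.BlockLar
import Cfsg.Agent.Lib.BlockMaxB
import Cfsg.Agent.Lib.BlockIndIn
import Cfsg.Agent.Lib.BlockBFM

import Cfsg.Agent.Lib.BlkH5T
import Cfsg.Agent.Lib.BlkH5X
import Cfsg.Agent.Lib.BlkH5Y
import Cfsg.Agent.Lib.BlockMaxB
import Cfsg.Agent.Lib.BlockNilC
import Cfsg.Agent.Lib.BlockNilB
import Cfsg.Agent.Lib.BlockPairF
import Cfsg.Agent.Lib.BlockPairE
import Cfsg.Agent.Lib.BlockPairD
import Cfsg.Agent.Lib.BlockPairC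
import Cfsg.Agent.Lib.BlockPairB
import Cfsg.Agent.Lib.BlockPair
import Cfsg.Agent.Lib.BlockQuot
import Cfsg.Agent.Lib.BlockQuotB
import Cfsg.Agent.Lib.BlockNP
import Cfsg.Agent.Lib.BlockIndIn

/-!
Kernels of blocks and Brauer pairs.
-/

set_option autoImplicit false
set_option linter.style.haveILetI false
set_option linter.unusedVariables false
set_option linter.unusedSectionVars false
set_option linter.unusedDecidableInType false
set_option linter.unusedFintypeInType false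
set_option linter.unusedSimpArgs false

namespace Cfsg.Agent.Lib.BlkH6A
open Cfsg Cfsg.Agent.Lib.BlockLoc Cfsg.Agent.Lib.BlockGA Cfsg.Agent.Lib.CharBasic
open Cfsg.Agent.Lib.BlockIdem Cfsg.Agent.Lib.BlockPP Cfsg.Agent.Lib.BlockOrth
open Cfsg.Agent.Lib.BlockRed Cfsg.Agent.Lib.BlockDef Cfsg.Agent.Lib.BlockDeg
open Cfsg.Agent.Lib.BlockNP Cfsg.Agent.Lib.BlockInd Cfsg.Agent.Lib.BlockSecond
open Cfsg.Agent.Lib.BlockFirst Cfsg.Agent.Lib.BlockHt Cfsg.Agent.Lib.BlockM
open Cfsg.Agent.Lib.BlockCov Cfsg.Agent.Lib.BlockQuot Cfsg.Agent.Lib.CharKer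
open Cfsg.Agent.Lib.BlockQuotB Cfsg.Agent.Lib.BlockMore Cfsg.Agent.Lib.BlockMoreB
open Cfsg.Agent.Lib.BlockTr Cfsg.Agent.Lib.CharNormal Cfsg.Agent.Lib.BlockCovB
open Cfsg.Agent.Lib.BlockBP Cfsg.Agent.Lib.BlockInt Cfsg.Agent.Lib.BlockSum Cfsg.Agent.Lib.BlockRk
open Cfsg.Agent.Lib.BlockFusB Cfsg.Agent.Lib.BlockMax Cfsg.Agent.Lib.CharSplit Cfsg.Agent.Lib.CharBrauer
open Cfsg.Agent.Lib.CharInd Cfsg.Agent.Lib.BlockPC Cfsg.Agent.Lib.BlockPair Cfsg.Agent.Lib.BlockPairB
open Cfsg.Agent.Lib.BlockPairC Cfsg.Agent.Lib.BlockPairD Cfsg.Agent.Lib.BlockPairE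
open Cfsg.Agent.Lib.BlockRey Cfsg.Agent.Lib.BlockPairF Cfsg.Agent.Lib.BlockFus Cfsg.Agent.Lib.BlockNilB Cfsg.Agent.Lib.BlockNil Cfsg.Agent.Lib.CharClifford
open Cfsg.Agent.Lib.BlockKB Cfsg.Agent.Lib.BlockLar Cfsg.Agent.Lib.BlockMaxB Cfsg.Agent.Lib.BlockIndIn Cfsg.Agent.Lib.BlockBFM
open Cfsg.Agent.Lib.BlkH5T Cfsg.Agent.Lib.BlkH5X Cfsg.Agent.Lib.BlkH5Y Cfsg.Agent.Lib.BlockMaxB Cfsg.Agent.Lib.BlockNilC Cfsg.Agent.Lib.BlockNilB Cfsg.Agent.Lib.BlockPairF Cfsg.Agent.Lib.BlockPairE Cfsg.Agent.Lib.BlockPairD Cfsg.Agent.Lib.BlockPairC Cfsg.Agent.Lib.BlockPairB Cfsg.Agent.Lib.BlockPair Cfsg.Agent.Lib.BlockQuot Cfsg.Agent.Lib.BlockQuotB Cfsg.Agent.Lib.BlockNP Cfsg.Agent.Lib.BlockIndIn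
open scoped ComplexConjugate


section Card

variable {G : Type*} [Group G] [Finite G] {p : ℕ}

theorem card_cent_modEq [Fact p.Prime] {P O : Subgroup G} (hP : IsPGroup p P)
    (hPO : P ≤ Subgroup.normalizer (O : Set G)) :
    Nat.card O ≡ Nat.card (O ⊓ Subgroup.centralizer (P : Set G) : Subgroup G) [MOD p] := by
  classical
  letI : MulAction P O :=
    MulAction.compHom O ((O.normalizerMonoidHom).comp (Subgroup.inclusion hPO))
  have h := hP.card_modEq_card_fixedPoints O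
  have hact : ∀ (x : P) (o : O), ((x • o : O) : G) = x * o * (x : G)⁻¹ := fun _ _ => rfl
  have h2 : Nat.card (MulAction.fixedPoints P O) =
      Nat.card (O ⊓ Subgroup.centralizer (P : Set G) : Subgroup G) := by
    refine Nat.card_congr
      { toFun := fun o => ⟨(o.1 : G), ?_⟩
        invFun := fun o => ⟨⟨(o : G), (Subgroup.mem_inf.1 o.2).1⟩, ?_⟩
        left_inv := fun o => rfl
        right_inv := fun o => rfl }
    · refine Subgroup.mem_inf.2 ⟨o.1.2, ?_⟩
      rw [Subgroup.mem_centralizer_iff]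
      intro x hx
      have h3 := o.2 ⟨x, hx⟩
      have h4 : x * (o.1 : G) * x⁻¹ = o.1 := by
        have := congrArg (Subtype.val) h3
        rw [hact] at this
        exact this
      exact (mul_inv_eq_iff_eq_mul.1 h4)
    · intro x
      apply Subtype.ext
      rw [hact]
      have h3 := (Subgroup.mem_centralizer_iff.1 (Subgroup.mem_inf.1 o.2).2) x x.2
      change (x : G) * (o : G) * (x : G)⁻¹ = o
      rw [h3, mul_inv_cancel_right]
  rw [← h2]
  exact h

end Card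

section Ker

variable {G : Type*} [Group G] [Finite G] {p : ℕ} {M : Ideal AlgInt}

theorem eN_eq_eB (N : Subgroup G) [N.Normal] : eN N = eB {χ : IrrCharacter G | Triv N χ.1} := by
  classical
  refine cl_ext (eN_isCl N) (eB_isCl _) (fun χ => ?_)
  rw [om_eN, om_eB]
  rfl

theorem eN_idem (N : Subgroup G) [N.Normal] : eN N * eN N = eN N := by
  rw [eN_eq_eB, eB_idem]

noncomputable def jN (hM : IsPModular p M) (N : Subgroup G) : GA (ResF hM) G := rd hM (eN N)

theorem ext_eN {K O : Subgroup G} (hOK : O ≤ K) : extGA K (eN (O.subgroupOf K)) = eN O := by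
  ext g
  by_cases hg : g ∈ K
  · rw [extGA_pos hg]
    by_cases hO : g ∈ O
    · rw [eN_pos hO, eN_pos (Subgroup.mem_subgroupOf.2 hO)]
      have : Nat.card (O.subgroupOf K) = Nat.card O :=
        Nat.card_congr (Subgroup.subgroupOfEquivOfLe hOK).toEquiv
      rw [this]
    · rw [eN_neg hO, eN_neg (fun h => hO (Subgroup.mem_subgroupOf.1 h))]
  · rw [extGA_neg hg, eN_neg (fun h => hg (hOK h))]

theorem jN_ext (hM : IsPModular p M) {K O : Subgroup G} (hOK : O ≤ K) :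
    jN hM O = extGA K (jN hM (O.subgroupOf K)) := by
  unfold jN
  rw [← rd_extGA, ext_eN hOK]

theorem jN_isCl (hM : IsPModular p M) (N : Subgroup G) [N.Normal] : IsCl (jN hM N) :=
  rd_isCl hM (eN_isCl N)

theorem jN_idem (hM : IsPModular p M) {N : Subgroup G} [N.Normal] (hN : ¬ p ∣ Nat.card N) :
    jN hM N * jN hM N = jN hM N := by
  unfold jN
  rw [← rd_mul hM (eN_loc hM hN) (eN_loc hM hN), eN_idem]

theorem lam_jN (hM : IsPModular p M) {N : Subgroup G} [N.Normal] (hN : ¬ p ∣ Nat.card N)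
    (χ : IrrCharacter G) [Decidable (Triv N χ.1)] :
    lam hM χ.1 (jN hM N) = if Triv N χ.1 then 1 else 0 := by
  unfold jN
  rw [lam_rd hM χ.2 (eN_isCl N) (eN_loc hM hN), om_eN]
  split_ifs
  · exact red_one hM
  · exact red_zero hM

/-- the kernel criterion for a block -/
theorem jN_mul_eF (hM : IsPModular p M) {N : Subgroup G} [N.Normal] (hN : ¬ p ∣ Nat.card N)
    {B : Set (IrrCharacter G)} (hB : IsPBlock M B) :
    (jN hM N * eF hM B = eF hM B ∧ ∀ χ ∈ B, Triv N χ.1) ∨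
      (jN hM N * eF hM B = 0 ∧ ∀ χ ∈ B, ¬ Triv N χ.1) := by
  classical
  obtain ⟨χ, hχ⟩ := block_nonempty hM hB
  have h1 := mul_eF_eq hM (jN_isCl hM N) (jN_idem hM hN) hB hχ
  rw [lam_jN hM hN] at h1
  by_cases ht : Triv N χ.1
  · left
    rw [if_pos ht, one_smul] at h1
    exact ⟨h1, fun ψ hψ => triv_of_sameBlock hM N hN (sameBlock_of_mem hM hB hχ hψ) ht⟩
  · right
    rw [if_neg ht, zero_smul] at h1
    exact ⟨h1, fun ψ hψ h => ht (triv_of_sameBlock hM N hN (sameBlock_of_mem hM hB hψ hχ) h)⟩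

theorem jN_mul_eF_iff (hM : IsPModular p M) {N : Subgroup G} [N.Normal] (hN : ¬ p ∣ Nat.card N)
    {B : Set (IrrCharacter G)} (hB : IsPBlock M B) :
    jN hM N * eF hM B = eF hM B ↔ ∀ χ ∈ B, Triv N χ.1 := by
  rcases jN_mul_eF hM hN hB with h | h
  · exact ⟨fun _ => h.2, fun _ => h.1⟩
  · constructor
    · intro h'
      rw [h.1] at h'
      exact absurd h'.symm (eF_ne_zero hM hB)
    · intro h'
      obtain ⟨χ, hχ⟩ := block_nonempty hM hB
      exact absurd (h' χ hχ) (h.2 χ hχ)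

/-- the version for a block of a subgroup -/
theorem jN_mul_eX (hM : IsPModular p M) {K O : Subgroup G} (hOK : O ≤ K)
    (hn : (O.subgroupOf K).Normal) (hO : ¬ p ∣ Nat.card O) {f : Set (IrrCharacter K)}
    (hf : IsPBlock M f) :
    (jN hM O * eX hM K f = eX hM K f ∧ ∀ χ ∈ f, Triv (O.subgroupOf K) χ.1) ∨
      (jN hM O * eX hM K f = 0 ∧ ∀ χ ∈ f, ¬ Triv (O.subgroupOf K) χ.1) := by
  have hO' : ¬ p ∣ Nat.card (O.subgroupOf K) := by
    rwa [Nat.card_congr (Subgroup.subgroupOfEquivOfLe hOK).toEquiv]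
  rw [jN_ext hM hOK]
  unfold eX
  rw [← extGA_mul]
  rcases jN_mul_eF hM hO' hf with h | h
  · left; rw [h.1]; exact ⟨rfl, h.2⟩
  · right; rw [h.1]
    refine ⟨?_, h.2⟩
    ext g
    by_cases hg : g ∈ K
    · rw [extGA_pos hg]; rfl
    · rw [extGA_neg hg]; rfl

theorem jN_mul_eX_iff (hM : IsPModular p M) {K O : Subgroup G} (hOK : O ≤ K)
    (hn : (O.subgroupOf K).Normal) (hO : ¬ p ∣ Nat.card O) {f : Set (IrrCharacter K)}
    (hf : IsPBlock M f) :
    jN hM O * eX hM K f = eX hM K f ↔ ∀ χ ∈ f, Triv (O.subgroupOf K) χ.1 := by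
  have hne : eX hM K f ≠ 0 := by
    intro h
    apply eF_ne_zero hM hf
    apply extGA_inj (H := K)
    have h0 : extGA K (0 : GA (ResF hM) K) = 0 := by
      ext g
      by_cases hg : g ∈ K
      · rw [extGA_pos hg]; rfl
      · rw [extGA_neg hg]; rfl
    rw [h0]
    exact h
  rcases jN_mul_eX hM hOK hn hO hf with h | h
  · exact ⟨fun _ => h.2, fun _ => h.1⟩
  · constructor
    · intro h'
      rw [h.1] at h'
      exact absurd h'.symm hne
    · intro h'
      obtain ⟨χ, hχ⟩ := block_nonempty hM hf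
      exact absurd (h' χ hχ) (h.2 χ hχ)

theorem jN_inv (hM : IsPModular p M) {O : Subgroup G} {x : G}
    (hx : x ∈ Subgroup.normalizer (O : Set G)) : Inv x (jN hM O) := by
  intro g
  unfold jN
  rw [rd_apply, rd_apply]
  congr 1
  have h1 : g ∈ O ↔ x * g * x⁻¹ ∈ O := norm_iff.1 hx g
  by_cases hg : g ∈ O
  · rw [eN_pos hg, eN_pos (h1.1 hg)]
  · rw [eN_neg hg, eN_neg (fun h => hg (h1.2 h))]

/-- Brauer homomorphism of the trivial idempotent of a `p'`-group. -/
theorem trunc_jN (hM : IsPModular p M) {P O : Subgroup G} (hP : IsPGroup p P)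
    (hPO : P ≤ Subgroup.normalizer (O : Set G)) (hO : ¬ p ∣ Nat.card O) :
    trunc P (jN hM O) = jN hM (O ⊓ Subgroup.centralizer (P : Set G)) := by
  haveI := factP hM
  have hO' : ¬ p ∣ Nat.card (O ⊓ Subgroup.centralizer (P : Set G) : Subgroup G) :=
    fun h => hO (h.trans (Subgroup.card_dvd_of_le inf_le_left))
  ext g
  by_cases hg : g ∈ Subgroup.centralizer (P : Set G)
  · rw [trunc_pos hg]
    unfold jN
    rw [rd_apply, rd_apply]
    by_cases hgO : g ∈ O
    · rw [eN_pos hgO, eN_pos (Subgroup.mem_inf.2 ⟨hgO, hg⟩)]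
      have key : ∀ n : ℕ, ¬ p ∣ n → MemLocalRing M ((n : ℂ)⁻¹) →
          red hM ((n : ℂ)⁻¹) = ((n : ResF hM))⁻¹ := by
        intro n hn hl2
        have hn0 : (n : ℂ) ≠ 0 := by
          intro h
          apply hn
          rw [Nat.cast_eq_zero.1 h]
          exact dvd_zero _
        have hl1 : MemLocalRing M (n : ℂ) := loc_natCast hM n
        have h1 : red hM ((n : ℂ)⁻¹) * red hM (n : ℂ) = 1 := by
          rw [← red_mul hM hl2 hl1, inv_mul_cancel₀ hn0, red_one]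
        rw [red_natCast] at h1
        exact eq_inv_of_mul_eq_one_left h1
      have e1 : MemLocalRing M ((Nat.card O : ℂ)⁻¹) := by
        have := eN_loc hM hO g
        rwa [eN_pos hgO] at this
      have e2 : MemLocalRing M
          ((Nat.card (O ⊓ Subgroup.centralizer (P : Set G) : Subgroup G) : ℂ)⁻¹) := by
        have := eN_loc hM hO' g
        rwa [eN_pos (Subgroup.mem_inf.2 ⟨hgO, hg⟩)] at this
      rw [key _ hO e1, key _ hO' e2]
      congr 1
      have h2 := card_cent_modEq (p := p) hP hPO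
      exact (CharP.natCast_eq_natCast (ResF hM) p).2 h2
    · rw [eN_neg hgO, eN_neg (fun h => hgO (Subgroup.mem_inf.1 h).1)]
  · rw [trunc_neg hg]
    unfold jN
    rw [rd_apply, eN_neg (fun h => hg (Subgroup.mem_inf.1 h).2), red_zero]

/-- One step in a chain of Brauer pairs. -/
theorem ker_NS (hM : IsPModular p M) {a b : BrauerPairIdx G} (h : NS p M a b) {O : Subgroup G}
    (hOC : O ≤ Subgroup.centralizer (a.1 : Set G))
    (hn : (O.subgroupOf (Subgroup.centralizer (a.1 : Set G))).Normal)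
    (hbO : b.1 ≤ Subgroup.normalizer (O : Set G)) (hO : ¬ p ∣ Nat.card O) :
    jN hM O * rd hM (pe a) = rd hM (pe a) ↔
      jN hM (O ⊓ Subgroup.centralizer (b.1 : Set G)) * rd hM (pe b) = rd hM (pe b) := by
  haveI := factP hM
  cases nonempty_fintype G
  obtain ⟨ha, hb, hle, hnorm, hinv, heq⟩ := (NS_iff hM).1 h
  have hbp : IsPGroup p b.1 := hb.1
  have hj : ∀ x ∈ b.1, Inv x (jN hM O) := fun x hx => jN_inv hM (hbO hx)
  have h1 : trunc b.1 (jN hM O * rd hM (pe a)) =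
      jN hM (O ⊓ Subgroup.centralizer (b.1 : Set G)) * trunc b.1 (rd hM (pe a)) := by
    rw [trunc_mulI hM hbp hj hinv, trunc_jN hM hbp hbO hO]
  have h2 : trunc b.1 (jN hM O * rd hM (pe a)) * rd hM (pe b) =
      jN hM (O ⊓ Subgroup.centralizer (b.1 : Set G)) * rd hM (pe b) := by
    rw [h1, mul_assoc, heq]
  have hab : rd hM (pe a) = eX hM (Subgroup.centralizer (a.1 : Set G)) a.2 := rd_pe hM a
  have hb0 : rd hM (pe b) ≠ 0 := by
    rw [rd_pe hM b]
    intro h0
    apply eF_ne_zero hM hb.2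
    apply extGA_inj (H := Subgroup.centralizer (b.1 : Set G))
    have h00 : extGA (Subgroup.centralizer (b.1 : Set G))
        (0 : GA (ResF hM) (Subgroup.centralizer (b.1 : Set G))) = 0 := by
      ext g
      by_cases hg : g ∈ Subgroup.centralizer (b.1 : Set G)
      · rw [extGA_pos hg]; rfl
      · rw [extGA_neg hg]; rfl
    rw [h00]
    exact h0
  constructor
  · intro h3
    rw [h3, heq] at h2
    exact h2.symm
  · intro h3
    rcases jN_mul_eX hM hOC hn hO ha.2 with h4 | h4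
    · rw [hab]; exact h4.1
    · exfalso
      rw [hab, h4.1, h3] at h2
      apply hb0
      rw [← h2]
      have h5 : trunc b.1 (0 : GA (ResF hM) G) = 0 := by
        ext g
        by_cases hg : g ∈ Subgroup.centralizer (b.1 : Set G)
        · rw [trunc_pos hg]
        · rw [trunc_neg hg]; rfl
      rw [h5, zero_mul]

end Ker

end Cfsg.Agent.Lib.BlkH6A
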