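import Cfsg.Agent.Lib.BlockRey
import Cfsg.Agent.Lib.BlockKB
import Cfsg.Agent.Lib.BlockLar
import Cfsg.Agent.Lib.BlockMaxB
import Cfsg.Agent.Lib.BlockIndIn
import Cfsg.Agent.Lib.BlockBFM

import Cfsg.Agent.Lib.BlkH6A
import Cfsg.Agent.Lib.BlkH5T
import Cfsg.Agent.Lib.BlkH5X
import Cfsg.Agent.Lib.BlkH5Y
import Cfsg.Agent.Lib.BlockMaxB
import Cfsg.Agent.Lib.BlockMax
import Cfsg.Agent.Lib.BlockNilC
import Cfsg.Agent.Lib.BlockNilB
import Cfsg.Agent.Lib.BlockNil
import Cfsg.Agent.Lib.BlockPairF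
import Cfsg.Agent.Lib.BlockPairE
import Cfsg.Agent.Lib.BlockPairD
import Cfsg.Agent.Lib.BlockPairC
import Cfsg.Agent.Lib.BlockPairB
import Cfsg.Agent.Lib.BlockPair
import Cfsg.Agent.Lib.BlockQuot
import Cfsg.Agent.Lib.BlockQuotB
import Cfsg.Agent.Lib.BlockNP
import Cfsg.Agent.Lib.BlockIndIn
import Cfsg.Agent.Lib.BlockInd
import Cfsg.Agent.Lib.BlockFus
import Cfsg.Agent.Lib.PiCore

/-!
Kernels of blocks and Brauer pairs, II.
-/

set_option autoImplicit false
set_option linter.style.haveILetI false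
set_option linter.unusedVariables false
set_option linter.unusedSectionVars false
set_option linter.unusedDecidableInType false
set_option linter.unusedFintypeInType false
set_option linter.unusedSimpArgs false

namespace Cfsg.Agent.Lib.BlkH6B
open Cfsg Cfsg.Agent.Lib.BlockLoc Cfsg.Agent.Lib.BlockGA Cfsg.Agent.Lib.CharBasic
open Cfsg.Agent.Lib.BlockIdem Cfsg.Agent.Lib.BlockPP Cfsg.Agent.Lib.BlockOrth
open Cfsg.Agent.Lib.BlockRed Cfsg.Agent.Lib.BlockDef Cfsg.Agent.Lib.BlockDeg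
open Cfsg.Agent.Lib.BlockNP Cfsg.Agent.Lib.BlockInd Cfsg.Agent.Lib.BlockSecond
open Cfsg.Agent.Lib.BlockFirst Cfsg.Agent.Lib.BlockHt Cfsg.Agent.Lib.BlockM
open Cfsg.Agent.Lib.BlockCov Cfsg.Agent.Lib.BlockQuot Cfsg.Agent.Lib.CharKer
open Cfsg.Agent.Lib.BlockQuotB Cfsg.Agent.Lib.BlockMore Cfsg.Agent.Lib.BlockMoreB
open Cfsg.Agent.Lib.BlockTr Cfsg.Agent.Lib.CharNormal Cfsg.Agent.Lib.BlockCovB
open Cfsg.Agent.Lib.BlockBP Cfsg.Agent.Lib.BlockInt Cfsg.Agent.Lib.BlockSum Cfsg.Agent.Lib.BlockRk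
open Cfsg.Agent.Lib.BlockFusB Cfsg.Agent.Lib.BlockMax Cfsg.Agent.Lib.CharSplit Cfsg.Agent.Lib.CharBrauer
open Cfsg.Agent.Lib.CharInd Cfsg.Agent.Lib.BlockPC Cfsg.Agent.Lib.BlockPair Cfsg.Agent.Lib.BlockPairB
open Cfsg.Agent.Lib.BlockPairC Cfsg.Agent.Lib.BlockPairD Cfsg.Agent.Lib.BlockPairE
open Cfsg.Agent.Lib.BlockRey Cfsg.Agent.Lib.BlockPairF Cfsg.Agent.Lib.BlockFus Cfsg.Agent.Lib.BlockNilB Cfsg.Agent.Lib.BlockNil Cfsg.Agent.Lib.CharClifford
open Cfsg.Agent.Lib.BlockKB Cfsg.Agent.Lib.BlockLar Cfsg.Agent.Lib.BlockMaxB Cfsg.Agent.Lib.BlockIndIn Cfsg.Agent.Lib.BlockBFM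
open Cfsg.Agent.Lib.BlkH6A Cfsg.Agent.Lib.BlkH5T Cfsg.Agent.Lib.BlkH5X Cfsg.Agent.Lib.BlkH5Y Cfsg.Agent.Lib.BlockMaxB Cfsg.Agent.Lib.BlockMax Cfsg.Agent.Lib.BlockNilC Cfsg.Agent.Lib.BlockNilB Cfsg.Agent.Lib.BlockNil Cfsg.Agent.Lib.BlockPairF Cfsg.Agent.Lib.BlockPairE Cfsg.Agent.Lib.BlockPairD Cfsg.Agent.Lib.BlockPairC Cfsg.Agent.Lib.BlockPairB Cfsg.Agent.Lib.BlockPair Cfsg.Agent.Lib.BlockQuot Cfsg.Agent.Lib.BlockQuotB Cfsg.Agent.Lib.BlockNP Cfsg.Agent.Lib.BlockIndIn Cfsg.Agent.Lib.BlockInd Cfsg.Agent.Lib.BlockFus Cfsg.Agent.Lib.PiCore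
open scoped ComplexConjugate


section KerB

variable {G : Type*} [Group G] [Finite G] {p : ℕ} {M : Ideal AlgInt}

theorem trunc_zero' {k : Type*} [CommRing k] (P : Subgroup G) : trunc P (0 : GA k G) = 0 := by
  ext g
  by_cases hg : g ∈ Subgroup.centralizer (P : Set G)
  · rw [trunc_pos hg]
  · rw [trunc_neg hg]; rfl

theorem rd_pe_ne_zero (hM : IsPModular p M) {a : BrauerPairIdx G} (ha : IsPBlock M a.2) :
    rd hM (pe a) ≠ 0 := by
  rw [rd_pe hM a]
  exact eX_ne_zero hM ha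

theorem ker_BPO (hM : IsPModular p M) {B : Set (IrrCharacter G)} {a : BrauerPairIdx G}
    (h : IsBPO p M B a) {K : Subgroup G} [K.Normal] (hK : ¬ p ∣ Nat.card K) :
    jN hM K * eF hM B = eF hM B ↔
      jN hM (K ⊓ Subgroup.centralizer (a.1 : Set G)) * rd hM (pe a) = rd hM (pe a) := by
  haveI := factP hM
  cases nonempty_fintype G
  obtain ⟨ha, hB, heq⟩ := (BPO_iff hM).1 h
  have haK : a.1 ≤ Subgroup.normalizer (K : Set G) := by
    rw [Subgroup.normalizer_eq_top]; exact le_top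
  have h1 : trunc a.1 (jN hM K * eF hM B) =
      jN hM (K ⊓ Subgroup.centralizer (a.1 : Set G)) * trunc a.1 (eF hM B) := by
    rw [trunc_mulI hM ha.1 (fun x hx => jN_inv hM (haK hx)) (fun x _ g => eF_isCl hM B g x),
      trunc_jN hM ha.1 haK hK]
  have h2 : trunc a.1 (jN hM K * eF hM B) * rd hM (pe a) =
      jN hM (K ⊓ Subgroup.centralizer (a.1 : Set G)) * rd hM (pe a) := by
    rw [h1, mul_assoc, heq]
  constructor
  · intro h3
    rw [h3, heq] at h2
    exact h2.symm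
  · intro h3
    rcases jN_mul_eF hM hK hB with h4 | h4
    · exact h4.1
    · exfalso
      rw [h4.1, h3, trunc_zero', zero_mul] at h2
      exact rd_pe_ne_zero hM ha.2 h2.symm

theorem bpo_up (hM : IsPModular p M) {H : Subgroup G} {b : Set (IrrCharacter H)}
    {B : Set (IrrCharacter G)} (hB : IsInducedBlock M H b B) {a' : BrauerPairIdx H}
    {a : BrauerPairIdx G} (h : Rel a' a) (hC : Subgroup.centralizer (a.1 : Set G) ≤ H)
    (hb : IsBPO p M b a') : IsBPO p M B a := by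
  cases nonempty_fintype G
  have hC' : Subgroup.centralizer ((a'.1.map H.subtype : Subgroup G) : Set G) ≤ H := by
    rw [← h.1]; exact hC
  have hbp : IsBP p M a := (rel_isBP hM h hC).1 ((BPO_iff hM).1 hb).1
  have e0 := rel_eq a' h hC'
  subst e0
  refine (isBrauerPairOf_iff_lam hM).2 ⟨hbp.1, hbp.2, hB.2.1, ?_⟩
  intro ξ hξ
  obtain ⟨hp', hi⟩ := (isBrauerPairOf_iff hM).1 hb
  obtain ⟨ψ, hψ⟩ := block_nonempty hM hi.2.1
  obtain ⟨χ, hχ⟩ := block_nonempty hM hB.2.1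
  have h1 := lam_trI_res hM (ce a'.1 hC') (fun _ => rfl) ξ (A := eF hM B)
    (fun x _ g => eF_isCl hM B g x)
  change lam hM ξ.1 (resGA (Subgroup.centralizer ((a'.1.map H.subtype : Subgroup G) : Set G))
    (eF hM B)) = 1
  rw [← h1]
  have h2 := lam_of_induced hM hi (ξ := trI (ce a'.1 hC') ξ) hξ hψ
    (c := resGA H (eF hM B)) (resGA_isCl _ (eF_isCl hM B))
  rw [h2, lam_of_induced hM hB hψ hχ (eF_isCl hM B)]
  exact lam_eF_mem hM (isLoc_eB hM hB.2.1) hχ

end KerB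

section PK

variable {G : Type*} [Group G] [Finite G] {p : ℕ} {M : Ideal AlgInt} {π : Set ℕ}

/-- `O_{π'}(C_G(Q))` as a subgroup of `G`. -/
def OC (π : Set ℕ) (Q : Subgroup G) : Subgroup G :=
  (piCore {q | q ∉ π} (Subgroup.centralizer (Q : Set G))).map
    (Subgroup.centralizer (Q : Set G)).subtype

theorem OC_le (Q : Subgroup G) : OC π Q ≤ Subgroup.centralizer (Q : Set G) :=
  Subgroup.map_subtype_le _

theorem OC_pi (Q : Subgroup G) : Cfsg.Agent.Lib.PiCore.Pi {q | q ∉ π} (Nat.card (OC π Q)) := by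
  unfold OC
  rw [Subgroup.card_map_of_injective (Subgroup.subtype_injective _)]
  exact Cfsg.Agent.Lib.PiCore.piCore_pi _

theorem OC_norm {Q : Subgroup G} {x : G}
    (hx : x ∈ Subgroup.normalizer ((Subgroup.centralizer (Q : Set G) : Subgroup G) : Set G)) :
    x ∈ Subgroup.normalizer (OC π Q : Set G) := by
  rw [norm_iff] at hx ⊢
  intro g
  have hch := Cfsg.Agent.Lib.PiCore.piCore_characteristic
    (G := Subgroup.centralizer (Q : Set G)) {q | q ∉ π}
  have hfix := hch.fixed (BlockPair.cjE x hx)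
  have key : ∀ c : Subgroup.centralizer (Q : Set G),
      c ∈ piCore {q | q ∉ π} (Subgroup.centralizer (Q : Set G)) ↔
        BlockPair.cjE x hx c ∈ piCore {q | q ∉ π} (Subgroup.centralizer (Q : Set G)) := by
    intro c
    conv_lhs => rw [← hfix]
    rfl
  unfold OC
  constructor
  · rintro ⟨c, hc, rfl⟩
    exact ⟨BlockPair.cjE x hx c, (key c).1 hc, rfl⟩
  · rintro ⟨c, hc, hcx⟩
    have hcx' : (c : G) = x * g * x⁻¹ := hcx
    have hgC : g ∈ Subgroup.centralizer (Q : Set G) := (hx g).2 (hcx' ▸ c.2)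
    refine ⟨⟨g, hgC⟩, (key _).2 ?_, rfl⟩
    have : BlockPair.cjE x hx ⟨g, hgC⟩ = c := Subtype.ext hcx'.symm
    rw [this]
    exact hc

theorem cent_le_norm_OC (Q : Subgroup G) :
    Subgroup.centralizer (Q : Set G) ≤ Subgroup.normalizer (OC π Q : Set G) :=
  fun _ hx => OC_norm (Subgroup.le_normalizer hx)

theorem norm_le_norm_OC (Q : Subgroup G) :
    Subgroup.normalizer (Q : Set G) ≤ Subgroup.normalizer (OC π Q : Set G) :=
  fun _ hx => OC_norm (norm_cent hx)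

theorem sub_normal {O K : Subgroup G} (hOK : O ≤ K)
    (hn : K ≤ Subgroup.normalizer (O : Set G)) : (O.subgroupOf K).Normal :=
  (Subgroup.normal_subgroupOf_iff_le_normalizer hOK).2 hn

theorem le_OC {Q O : Subgroup G} (hO : O ≤ Subgroup.centralizer (Q : Set G))
    (hn : Subgroup.centralizer (Q : Set G) ≤ Subgroup.normalizer (O : Set G))
    (hp : Cfsg.Agent.Lib.PiCore.Pi {q | q ∉ π} (Nat.card O)) : O ≤ OC π Q := by
  intro x hx
  have h1 : O.subgroupOf (Subgroup.centralizer (Q : Set G)) ≤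
      piCore {q | q ∉ π} (Subgroup.centralizer (Q : Set G)) := by
    refine Cfsg.Agent.Lib.PiCore.le_piCore (sub_normal hO hn) ?_
    rwa [Nat.card_congr (Subgroup.subgroupOfEquivOfLe hO).toEquiv]
  exact ⟨⟨x, hO hx⟩, h1 (Subgroup.mem_subgroupOf.2 hx), rfl⟩

theorem not_dvd_of_pi (hp : p.Prime) (hpπ : p ∈ π) {n : ℕ}
    (h : Cfsg.Agent.Lib.PiCore.Pi {q | q ∉ π} n) : ¬ p ∣ n := fun hd => h p hp hd hpπ

/-- `O_{π'}(C_G(Q))` lies in the kernel of the block of the pair. -/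
def PK (hM : IsPModular p M) (π : Set ℕ) (a : BrauerPairIdx G) : Prop :=
  jN hM (OC π a.1) * rd hM (pe a) = rd hM (pe a)

theorem pk_iff (hM : IsPModular p M) (hpπ : p ∈ π) {a : BrauerPairIdx G} (ha : IsPBlock M a.2) :
    PK hM π a ↔ ∀ χ ∈ a.2,
      Triv ((OC π a.1).subgroupOf (Subgroup.centralizer (a.1 : Set G))) χ.1 := by
  unfold PK
  rw [rd_pe]
  exact jN_mul_eX_iff hM (OC_le _) (sub_normal (OC_le _) (cent_le_norm_OC _))
    (not_dvd_of_pi hM.1 hpπ (OC_pi _)) ha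

theorem pk_of_le (hM : IsPModular p M) (hpπ : p ∈ π) {a : BrauerPairIdx G} (ha : IsPBlock M a.2)
    (h : PK hM π a) {O : Subgroup G} (hO : O ≤ Subgroup.centralizer (a.1 : Set G))
    (hn : Subgroup.centralizer (a.1 : Set G) ≤ Subgroup.normalizer (O : Set G))
    (hp : Cfsg.Agent.Lib.PiCore.Pi {q | q ∉ π} (Nat.card O)) :
    jN hM O * rd hM (pe a) = rd hM (pe a) := by
  rw [rd_pe]
  refine (jN_mul_eX_iff hM hO (sub_normal hO hn) (not_dvd_of_pi hM.1 hpπ hp) ha).2 ?_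
  intro χ hχ x hx
  refine (pk_iff hM hpπ ha).1 h χ hχ x ?_
  exact Subgroup.mem_subgroupOf.2 (le_OC hO hn hp (Subgroup.mem_subgroupOf.1 hx))

theorem cent_anti {Q R : Subgroup G} (h : Q ≤ R) :
    Subgroup.centralizer (R : Set G) ≤ Subgroup.centralizer (Q : Set G) := cent_le_of_le h

theorem inf_cent_facts {Q R : Subgroup G} (h : Q ≤ R) :
    Subgroup.centralizer (R : Set G) ≤ Subgroup.normalizer
      ((OC π Q ⊓ Subgroup.centralizer (R : Set G) : Subgroup G) : Set G) ∧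
    Cfsg.Agent.Lib.PiCore.Pi {q | q ∉ π}
      (Nat.card (OC π Q ⊓ Subgroup.centralizer (R : Set G) : Subgroup G)) := by
  constructor
  · intro x hx
    rw [norm_iff]
    intro g
    have h1 := norm_iff.1 (cent_le_norm_OC (π := π) Q (cent_anti h hx)) g
    have h2 := norm_iff.1 (Subgroup.le_normalizer hx) g
    rw [Subgroup.mem_inf, Subgroup.mem_inf]
    exact and_congr h1 h2
  · exact Cfsg.Agent.Lib.PiCore.pi_card_le inf_le_left (OC_pi Q)

theorem pk_down_NS (hM : IsPModular p M) (hpπ : p ∈ π) {a b : BrauerPairIdx G}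
    (h : NS p M a b) (hb : PK hM π b) : PK hM π a := by
  have ha' := NS.left h
  have hb' := NS.right h
  unfold PK
  rw [ker_NS hM h (OC_le _) (sub_normal (OC_le _) (cent_le_norm_OC _))
    ((NS.norm h).trans (norm_le_norm_OC _)) (not_dvd_of_pi hM.1 hpπ (OC_pi _))]
  exact pk_of_le hM hpπ hb'.2 hb inf_le_right (inf_cent_facts (NS.le h)).1
    (inf_cent_facts (NS.le h)).2

theorem pk_down (hM : IsPModular p M) (hpπ : p ∈ π) {a b : BrauerPairIdx G}
    (h : LE' p M a b) (hb : PK hM π b) : PK hM π a := by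
  induction h using Relation.ReflTransGen.head_induction_on with
  | refl => exact hb
  | head h _ ih => exact pk_down_NS hM hpπ h ih

/-- The centralizer has a normal Hall `π'`-subgroup (elementwise). -/
def HallC (π : Set ℕ) (Q : Subgroup G) : Prop :=
  ∀ x : G, x ∈ Subgroup.centralizer (Q : Set G) →
    (∀ q : ℕ, q.Prime → q ∣ orderOf x → q ∉ π) → x ∈ OC π Q

theorem pi_elt_of_mem {Q : Subgroup G} {x : G} (h : x ∈ OC π Q) :
    ∀ q : ℕ, q.Prime → q ∣ orderOf x → q ∉ π := by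
  intro q hq hd
  refine OC_pi Q q hq (hd.trans ?_)
  have := Subgroup.orderOf_dvd_natCard (OC π Q) h
  exact this

theorem hall_up {Q R : Subgroup G} (hQR : Q ≤ R) (h : HallC π Q) :
    HallC π R ∧ OC π Q ⊓ Subgroup.centralizer (R : Set G) = OC π R := by
  have h1 : OC π Q ⊓ Subgroup.centralizer (R : Set G) ≤ OC π R :=
    le_OC inf_le_right (inf_cent_facts hQR).1 (inf_cent_facts hQR).2
  have h2 : HallC π R := fun x hx hxp => h1 (Subgroup.mem_inf.2 ⟨h x (cent_anti hQR hx) hxp, hx⟩)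
  refine ⟨h2, le_antisymm h1 ?_⟩
  intro x hx
  refine Subgroup.mem_inf.2 ⟨h x (cent_anti hQR (OC_le _ hx)) (pi_elt_of_mem hx), OC_le _ hx⟩

theorem pk_up_NS (hM : IsPModular p M) (hpπ : p ∈ π) {a b : BrauerPairIdx G}
    (h : NS p M a b) (hH : HallC π a.1) (ha : PK hM π a) : HallC π b.1 ∧ PK hM π b := by
  obtain ⟨h1, h2⟩ := hall_up (NS.le h) hH
  refine ⟨h1, ?_⟩
  unfold PK at ha ⊢
  rw [ker_NS hM h (OC_le _) (sub_normal (OC_le _) (cent_le_norm_OC _))
    ((NS.norm h).trans (norm_le_norm_OC _)) (not_dvd_of_pi hM.1 hpπ (OC_pi _)), h2] at ha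
  exact ha

theorem pk_up (hM : IsPModular p M) (hpπ : p ∈ π) {a b : BrauerPairIdx G}
    (h : LE' p M a b) (hH : HallC π a.1) (ha : PK hM π a) : HallC π b.1 ∧ PK hM π b := by
  induction h with
  | refl => exact ⟨hH, ha⟩
  | tail _ h ih => exact pk_up_NS hM hpπ h ih.1 ih.2

theorem jN_map (hM : IsPModular p M) (O : Subgroup G) (x : G) :
    jN hM (O.map (MulAut.conj x).toMonoidHom) = cjGA x (jN hM O) := by
  ext g
  rw [cjGA_apply]
  unfold jN
  rw [rd_apply, rd_apply]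
  congr 1
  by_cases hg : g ∈ O.map (MulAut.conj x).toMonoidHom
  · rw [eN_pos hg, eN_pos (mem_map_conj.1 hg), BlockDef.card_map_conj]
  · rw [eN_neg hg, eN_neg (fun h => hg (mem_map_conj.2 h))]

theorem norm_map_le {O K : Subgroup G} {x : G} (h : K ≤ Subgroup.normalizer (O : Set G)) :
    K.map (MulAut.conj x).toMonoidHom ≤ Subgroup.normalizer
      ((O.map (MulAut.conj x).toMonoidHom : Subgroup G) : Set G) := by
  intro y hy
  rw [norm_map_conj]
  exact h (mem_map_conj.1 hy)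

theorem cent_map_eq (Q : Subgroup G) (x : G) :
    Subgroup.centralizer ((Q.map (MulAut.conj x).toMonoidHom : Subgroup G) : Set G) =
      (Subgroup.centralizer (Q : Set G)).map (MulAut.conj x).toMonoidHom := by
  ext g
  rw [mem_map_conj]
  have h1 := cent_map_iff (Q := Q) x (x⁻¹ * g * x)
  have h2 : x * (x⁻¹ * g * x) * x⁻¹ = g := by group
  rw [h2] at h1
  exact h1.symm

theorem OC_map (Q : Subgroup G) (x : G) :
    (OC π Q).map (MulAut.conj x).toMonoidHom ≤ OC π (Q.map (MulAut.conj x).toMonoidHom) := by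
  refine le_OC ?_ ?_ ?_
  · rw [cent_map_eq]
    exact Subgroup.map_mono (OC_le Q)
  · rw [cent_map_eq]
    exact norm_map_le (cent_le_norm_OC Q)
  · rw [BlockDef.card_map_conj]
    exact OC_pi Q

theorem map_inv_map (Q : Subgroup G) (x : G) :
    (Q.map (MulAut.conj x).toMonoidHom).map (MulAut.conj x⁻¹).toMonoidHom = Q := by
  ext g
  rw [mem_map_conj, mem_map_conj]
  have : x⁻¹ * ((x⁻¹)⁻¹ * g * x⁻¹) * x = g := by group
  rw [this]

theorem map_map_inv (Q : Subgroup G) (x : G) :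
    (Q.map (MulAut.conj x⁻¹).toMonoidHom).map (MulAut.conj x).toMonoidHom = Q := by
  ext g
  rw [mem_map_conj, mem_map_conj]
  have : (x⁻¹)⁻¹ * (x⁻¹ * g * x) * x⁻¹ = g := by group
  rw [this]

theorem OC_map_eq (Q : Subgroup G) (x : G) :
    OC π (Q.map (MulAut.conj x).toMonoidHom) = (OC π Q).map (MulAut.conj x).toMonoidHom := by
  refine le_antisymm ?_ (OC_map Q x)
  have h1 := OC_map (π := π) (Q.map (MulAut.conj x).toMonoidHom) x⁻¹
  rw [map_inv_map] at h1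
  have h2 := Subgroup.map_mono (f := (MulAut.conj x).toMonoidHom) h1
  rwa [map_map_inv] at h2

theorem pk_cjP (hM : IsPModular p M) {a : BrauerPairIdx G} (x : G) :
    PK hM π (cjP x a) ↔ PK hM π a := by
  unfold PK
  have h1 : rd hM (pe (cjP x a)) = cjGA x (rd hM (pe a)) := by
    rw [pe_cjP]; rfl
  have h2 : jN hM (OC π (cjP x a).1) = cjGA x (jN hM (OC π a.1)) := by
    rw [← jN_map]
    congr 1
    exact OC_map_eq a.1 x
  rw [h1, h2, ← cjGA_mul]
  exact ⟨fun h => cjGA_inj h, fun h => by rw [h]⟩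

theorem hall_cjP {Q : Subgroup G} (x : G) (h : HallC π Q) :
    HallC π (Q.map (MulAut.conj x).toMonoidHom) := by
  intro y hy hyp
  rw [OC_map_eq, mem_map_conj]
  refine h _ ?_ ?_
  · rw [cent_map_eq, mem_map_conj] at hy
    exact hy
  · intro q hq hd
    refine hyp q hq ?_
    have : orderOf (x⁻¹ * y * (x⁻¹)⁻¹) = orderOf y := orderOf_conj' _ _
    rw [inv_inv] at this
    rwa [this] at hd

/-- From the kernel of a block of `H` to the pair. -/
theorem pk_of_block (hM : IsPModular p M) (hpπ : p ∈ π) {H : Subgroup G}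
    {b : Set (IrrCharacter H)} {a' : BrauerPairIdx H} {a : BrauerPairIdx G} (h : Rel a' a)
    (hb : IsBPO p M b a') (hCH : Subgroup.centralizer (a.1 : Set G) ≤ H)
    (hHN : H ≤ Subgroup.normalizer (a.1 : Set G))
    (hker : ∀ n : H, n ∈ piCore {q | q ∉ π} H → n ∈ blockKer b) : PK hM π a := by
  have hbb : IsPBlock M b := ((BPO_iff hM).1 hb).2.1
  have hOH : OC π a.1 ≤ H := (OC_le _).trans hCH
  haveI hn : ((OC π a.1).subgroupOf H).Normal :=
    sub_normal hOH (hHN.trans (norm_le_norm_OC _))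
  have hpi : Cfsg.Agent.Lib.PiCore.Pi {q | q ∉ π} (Nat.card ((OC π a.1).subgroupOf H)) := by
    rw [Nat.card_congr (Subgroup.subgroupOfEquivOfLe hOH).toEquiv]
    exact OC_pi _
  have hle : (OC π a.1).subgroupOf H ≤ piCore {q | q ∉ π} H :=
    Cfsg.Agent.Lib.PiCore.le_piCore hn hpi
  have hK := not_dvd_of_pi hM.1 hpπ hpi
  have h1 : jN hM ((OC π a.1).subgroupOf H) * eF hM b = eF hM b :=
    (jN_mul_eF_iff hM hK hbb).2 (fun χ hχ n hn' => hker n (hle hn') χ hχ)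
  rw [ker_BPO hM hb hK] at h1
  have h2 : (OC π a.1).subgroupOf H ⊓ Subgroup.centralizer (a'.1 : Set H) =
      (OC π a.1).subgroupOf H := by
    refine inf_eq_left.2 ?_
    intro x hx
    rw [mem_cent_up, ← h.1]
    exact OC_le _ (Subgroup.mem_subgroupOf.1 hx)
  rw [h2] at h1
  have h3 := congrArg (extGA H) h1
  rw [extGA_mul, ← rd_pe_rel hM h, ← jN_ext hM hOH] at h3
  exact h3

/-- From the pair to the kernel of a block of `H`. -/
theorem pk_to_block (hM : IsPModular p M) (hpπ : p ∈ π) {H : Subgroup G}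
    {b : Set (IrrCharacter H)} {a' : BrauerPairIdx H} {a : BrauerPairIdx G} (h : Rel a' a)
    (hb : IsBPO p M b a') (hCH : Subgroup.centralizer (a.1 : Set G) ≤ H)
    (hPK : PK hM π a) : ∀ n : H, n ∈ piCore {q | q ∉ π} H → n ∈ blockKer b := by
  have hbb : IsPBlock M b := ((BPO_iff hM).1 hb).2.1
  have hbp : IsBP p M a := (rel_isBP hM h hCH).1 ((BPO_iff hM).1 hb).1
  have hpi : Cfsg.Agent.Lib.PiCore.Pi {q | q ∉ π} (Nat.card (piCore {q | q ∉ π} H)) :=
    Cfsg.Agent.Lib.PiCore.piCore_pi _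
  have hK := not_dvd_of_pi hM.1 hpπ hpi
  suffices hs : jN hM (piCore {q | q ∉ π} H) * eF hM b = eF hM b by
    intro n hn χ hχ
    exact (jN_mul_eF_iff hM hK hbb).1 hs χ hχ n hn
  rw [ker_BPO hM hb hK]
  set O' : Subgroup H := piCore {q | q ∉ π} H ⊓ Subgroup.centralizer (a'.1 : Set H) with hO'
  have e1 : (O'.map H.subtype).subgroupOf H = O' := by
    ext x
    rw [Subgroup.mem_subgroupOf, Subgroup.mem_map]
    constructor
    · rintro ⟨y, hy, hyx⟩
      have : y = x := Subtype.ext hyx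
      rwa [← this]
    · intro hx
      exact ⟨x, hx, rfl⟩
  have hO1 : O'.map H.subtype ≤ Subgroup.centralizer (a.1 : Set G) := by
    rintro _ ⟨y, hy, rfl⟩
    have := (Subgroup.mem_inf.1 hy).2
    rw [mem_cent_up, ← h.1] at this
    exact this
  have hO2 : Subgroup.centralizer (a.1 : Set G) ≤
      Subgroup.normalizer ((O'.map H.subtype : Subgroup G) : Set G) := by
    intro x hx
    rw [norm_iff]
    intro g
    have hn1 : (piCore {q | q ∉ π} H).Normal := inferInstance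
    have hxH : x ∈ H := hCH hx
    have hxC : (⟨x, hxH⟩ : H) ∈ Subgroup.centralizer (a'.1 : Set H) := by
      rw [mem_cent_up, ← h.1]; exact hx
    constructor
    · rintro ⟨y, hy, rfl⟩
      refine ⟨⟨x, hxH⟩ * y * ⟨x, hxH⟩⁻¹, ?_, rfl⟩
      refine Subgroup.mem_inf.2 ⟨hn1.conj_mem _ (Subgroup.mem_inf.1 hy).1 _, ?_⟩
      exact Subgroup.mul_mem _ (Subgroup.mul_mem _ hxC (Subgroup.mem_inf.1 hy).2)
        (Subgroup.inv_mem _ hxC)
    · rintro ⟨y, hy, hyx⟩
      have hyx' : (y : G) = x * g * x⁻¹ := hyx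
      refine ⟨⟨x, hxH⟩⁻¹ * y * ⟨x, hxH⟩, ?_, ?_⟩
      · refine Subgroup.mem_inf.2 ⟨?_, ?_⟩
        · have := hn1.conj_mem _ (Subgroup.mem_inf.1 hy).1 (⟨x, hxH⟩⁻¹ : H)
          rwa [inv_inv] at this
        · exact Subgroup.mul_mem _ (Subgroup.mul_mem _ (Subgroup.inv_mem _ hxC)
            (Subgroup.mem_inf.1 hy).2) hxC
      · change x⁻¹ * (y : G) * x = g
        rw [hyx']; group
  have hO3 : Cfsg.Agent.Lib.PiCore.Pi {q | q ∉ π} (Nat.card (O'.map H.subtype)) := by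
    rw [Subgroup.card_map_of_injective (Subgroup.subtype_injective _)]
    exact Cfsg.Agent.Lib.PiCore.pi_card_le inf_le_left hpi
  have h1 := pk_of_le hM hpπ hbp.2 hPK hO1 hO2 hO3
  rw [jN_ext hM (Subgroup.map_subtype_le O'), e1, rd_pe_rel hM h, ← extGA_mul] at h1
  exact extGA_inj h1

end PK

end Cfsg.Agent.Lib.BlkH6B
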