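import Cfsg.Agent.Lib.BlockRey
import Cfsg.Agent.Lib.BlockKB
import Cfsg.Agent.Lib.BlockLar
import Cfsg.Agent.Lib.BlockMaxB
import Cfsg.Agent.Lib.BlockIndIn
import Cfsg.Agent.Lib.BlockBFM

import Cfsg.Agent.Lib.BlkH6B
import Cfsg.Agent.Lib.BlkH6A
import Cfsg.Agent.Lib.BlkH5T
import Cfsg.Agent.Lib.BlkH5X
import Cfsg.Agent.Lib.BlkH5Y
import Cfsg.Agent.Lib.BlockMaxB
import Cfsg.Agent.Lib.BlockMax
import Cfsg.Agent.Lib.BlockNilC
import Cfsg.Agent.Lib.BlockNilB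
import Cfsg.Agent.Lib.BlockNil
import Cfsg.Agent.Lib.BlockPairF
import Cfsg.Agent.Lib.BlockPairE
import Cfsg.Agent.Lib.BlockPairD
import Cfsg.Agent.Lib.BlockPairC
import Cfsg.Agent.Lib.BlockPairB
import Cfsg.Agent.Lib.BlockPair
import Cfsg.Agent.Lib.BlockQuot
import Cfsg.Agent.Lib.BlockQuotB
import Cfsg.Agent.Lib.BlockNP
import Cfsg.Agent.Lib.BlockIndIn
import Cfsg.Agent.Lib.BlockInd
import Cfsg.Agent.Lib.BlockFus
import Cfsg.Agent.Lib.BlockSecond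
import Cfsg.Agent.Lib.PiCore

/-!
Kernels of blocks and Brauer pairs, III.
-/

set_option autoImplicit false
set_option linter.style.haveILetI false
set_option linter.unusedVariables false
set_option linter.unusedSectionVars false
set_option linter.unusedDecidableInType false
set_option linter.unusedFintypeInType false
set_option linter.unusedSimpArgs false

namespace Cfsg.Agent.Lib.BlkH6C
open Cfsg Cfsg.Agent.Lib.BlockLoc Cfsg.Agent.Lib.BlockGA Cfsg.Agent.Lib.CharBasic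
open Cfsg.Agent.Lib.BlockIdem Cfsg.Agent.Lib.BlockPP Cfsg.Agent.Lib.BlockOrth
open Cfsg.Agent.Lib.BlockRed Cfsg.Agent.Lib.BlockDef Cfsg.Agent.Lib.BlockDeg
open Cfsg.Agent.Lib.BlockNP Cfsg.Agent.Lib.BlockInd Cfsg.Agent.Lib.BlockSecond
open Cfsg.Agent.Lib.BlockFirst Cfsg.Agent.Lib.BlockHt Cfsg.Agent.Lib.BlockM
open Cfsg.Agent.Lib.BlockCov Cfsg.Agent.Lib.BlockQuot Cfsg.Agent.Lib.CharKer
open Cfsg.Agent.Lib.BlockQuotB Cfsg.Agent.Lib.BlockMore Cfsg.Agent.Lib.BlockMoreB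
open Cfsg.Agent.Lib.BlockTr Cfsg.Agent.Lib.CharNormal Cfsg.Agent.Lib.BlockCovB
open Cfsg.Agent.Lib.BlockBP Cfsg.Agent.Lib.BlockInt Cfsg.Agent.Lib.BlockSum Cfsg.Agent.Lib.BlockRk
open Cfsg.Agent.Lib.BlockFusB Cfsg.Agent.Lib.BlockMax Cfsg.Agent.Lib.CharSplit Cfsg.Agent.Lib.CharBrauer
open Cfsg.Agent.Lib.CharInd Cfsg.Agent.Lib.BlockPC Cfsg.Agent.Lib.BlockPair Cfsg.Agent.Lib.BlockPairB
open Cfsg.Agent.Lib.BlockPairC Cfsg.Agent.Lib.BlockPairD Cfsg.Agent.Lib.BlockPairE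
open Cfsg.Agent.Lib.BlockRey Cfsg.Agent.Lib.BlockPairF Cfsg.Agent.Lib.BlockFus Cfsg.Agent.Lib.BlockNilB Cfsg.Agent.Lib.BlockNil Cfsg.Agent.Lib.CharClifford
open Cfsg.Agent.Lib.BlockKB Cfsg.Agent.Lib.BlockLar Cfsg.Agent.Lib.BlockMaxB Cfsg.Agent.Lib.BlockIndIn Cfsg.Agent.Lib.BlockBFM
open Cfsg.Agent.Lib.BlkH6B Cfsg.Agent.Lib.BlkH6A Cfsg.Agent.Lib.BlkH5T Cfsg.Agent.Lib.BlkH5X Cfsg.Agent.Lib.BlkH5Y Cfsg.Agent.Lib.BlockMaxB Cfsg.Agent.Lib.BlockMax Cfsg.Agent.Lib.BlockNilC Cfsg.Agent.Lib.BlockNilB Cfsg.Agent.Lib.BlockNil Cfsg.Agent.Lib.BlockPairF Cfsg.Agent.Lib.BlockPairE Cfsg.Agent.Lib.BlockPairD Cfsg.Agent.Lib.BlockPairC Cfsg.Agent.Lib.BlockPairB Cfsg.Agent.Lib.BlockPair Cfsg.Agent.Lib.BlockQuot Cfsg.Agent.Lib.BlockQuotB Cfsg.Agent.Lib.BlockNP Cfsg.Agent.Lib.BlockIndIn Cfsg.Agent.Lib.BlockInd Cfsg.Agent.Lib.BlockFus Cfsg.Agent.Lib.BlockSecond Cfsg.Agent.Lib.PiCore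
open scoped ComplexConjugate


section Corr

variable {G : Type*} [Group G] [Finite G] {p : ℕ} {M : Ideal AlgInt} {π : Set ℕ}

theorem max_of_corr (hM : IsPModular p M) {B : Set (IrrCharacter G)} {D : Subgroup G}
    (hBD : IsDefectGroup p M B D) {B₁ : Set (IrrCharacter ↥(Subgroup.normalizer (D : Set G)))}
    (hB₁ : IsInducedBlock M (Subgroup.normalizer (D : Set G)) B₁ B)
    (hB₁D : IsDefectGroup p M B₁ (D.subgroupOf (Subgroup.normalizer (D : Set G)))) :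
    ∃ (a' : BrauerPairIdx ↥(Subgroup.normalizer (D : Set G))) (a : BrauerPairIdx G), Rel a' a ∧
      IsBPO p M B₁ a' ∧ a.1 = D ∧ IsMaximalBrauerPair p M B a.1 a.2 := by
  obtain ⟨f, hf⟩ := exists_max_of_defect hM hB₁.1 hB₁D
  have e1 : (D.subgroupOf (Subgroup.normalizer (D : Set G))).map
      (Subgroup.normalizer (D : Set G)).subtype = D := map_subgroupOf Subgroup.le_normalizer
  have hC : Subgroup.centralizer (((D.subgroupOf (Subgroup.normalizer (D : Set G))).map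
      (Subgroup.normalizer (D : Set G)).subtype : Subgroup G) : Set G) ≤
      Subgroup.normalizer (D : Set G) := by
    rw [e1]; exact cent_le_norm D
  obtain ⟨a, ha⟩ := rel_exists_up ⟨D.subgroupOf (Subgroup.normalizer (D : Set G)), f⟩ hC
  have ha1 : a.1 = D := ha.1.trans e1
  have hbpo : IsBPO p M B a := bpo_up hM hB₁ ha (by rw [ha1]; exact cent_le_norm D) hf.1
  refine ⟨_, a, ha, hf.1, ha1, ?_⟩
  exact maximal_of_defect hM hbpo (by rw [ha1]; exact hBD)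

/-- `PK` for one maximal pair gives `PK` for all pairs of the block. -/
theorem pk_all (hM : IsPModular p M) (hpπ : p ∈ π) {B : Set (IrrCharacter G)}
    {a : BrauerPairIdx G} (hmax : IsMaximalBrauerPair p M B a.1 a.2) (h : PK hM π a)
    {c : BrauerPairIdx G} (hc : IsBPO p M B c) : PK hM π c := by
  obtain ⟨x, hx⟩ := conj_into_maximal hM hmax hc
  exact (pk_cjP hM x).1 (pk_down hM hpπ hx h)

theorem pk_of_corr (hM : IsPModular p M) (hpπ : p ∈ π) {B : Set (IrrCharacter G)}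
    {D : Subgroup G}
    (hBD : IsDefectGroup p M B D) {B₁ : Set (IrrCharacter ↥(Subgroup.normalizer (D : Set G)))}
    (hB₁ : IsInducedBlock M (Subgroup.normalizer (D : Set G)) B₁ B)
    (hB₁D : IsDefectGroup p M B₁ (D.subgroupOf (Subgroup.normalizer (D : Set G))))
    (hker : ∀ n : ↥(Subgroup.normalizer (D : Set G)),
      n ∈ piCore {q | q ∉ π} ↥(Subgroup.normalizer (D : Set G)) → n ∈ blockKer B₁)
    {c : BrauerPairIdx G} (hc : IsBPO p M B c) : PK hM π c := by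
  obtain ⟨a', a, hr, hb, ha1, hmax⟩ := max_of_corr hM hBD hB₁ hB₁D
  refine pk_all hM hpπ hmax ?_ hc
  exact pk_of_block hM hpπ hr hb (by rw [ha1]; exact cent_le_norm D) (by rw [ha1]) hker

/-- The kernel of local blocks. -/
theorem ker_local (hM : IsPModular p M) (hpπ : p ∈ π) {B : Set (IrrCharacter G)}
    (hall : ∀ c : BrauerPairIdx G, IsBPO p M B c → PK hM π c)
    {G₀ : Subgroup G} {B₀ : Set (IrrCharacter ↥G₀)} (hB₀ : IsInducedBlock M G₀ B₀ B)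
    {D₀ : Subgroup ↥G₀} (hD₀ : IsDefectGroup p M B₀ D₀)
    (hC : Subgroup.centralizer ((D₀.map G₀.subtype : Subgroup G) : Set G) ≤ G₀) :
    ∀ x : ↥G₀, x ∈ piCore {q | q ∉ π} ↥G₀ → x ∈ blockKer B₀ := by
  obtain ⟨f, hf⟩ := exists_max_of_defect hM hB₀.1 hD₀
  obtain ⟨a, ha⟩ := rel_exists_up ⟨D₀, f⟩ hC
  have hCa : Subgroup.centralizer (a.1 : Set G) ≤ G₀ := by
    rw [ha.1]; exact hC
  have hbpo : IsBPO p M B a := bpo_up hM hB₀ ha hCa hf.1
  exact pk_to_block hM hpπ ha hf.1 hCa (hall a hbpo)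

end Corr

end Cfsg.Agent.Lib.BlkH6C
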