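import Cfsg.Agent.Lib.BlockRey
import Cfsg.Agent.Lib.BlockKB
import Cfsg.Agent.Lib.BlockLar
import Cfsg.Agent.Lib.BlockMaxB
import Cfsg.Agent.Lib.BlockIndIn
import Cfsg.Agent.Lib.BlockBFM

import Cfsg.Agent.Lib.BlkH6C
import Cfsg.Agent.Lib.BlkH6B
import Cfsg.Agent.Lib.BlkH6A
import Cfsg.Agent.Lib.BlockSum
import Cfsg.Agent.Lib.BlockOrth
import Cfsg.Agent.Lib.BlockPP
import Cfsg.Agent.Lib.BlockHt
import Cfsg.Agent.Lib.BlockQuotB
import Cfsg.Agent.Lib.BlockSecond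
import Cfsg.Agent.Lib.BlockIdem
import Cfsg.Agent.Lib.BlockDeg

/-!
Principal block columns.
-/

set_option autoImplicit false
set_option linter.style.haveILetI false
set_option linter.unusedVariables false
set_option linter.unusedSectionVars false
set_option linter.unusedDecidableInType false
set_option linter.unusedFintypeInType false
set_option linter.unusedSimpArgs false

namespace Cfsg.Agent.Lib.BlkH6D
open Cfsg Cfsg.Agent.Lib.BlockLoc Cfsg.Agent.Lib.BlockGA Cfsg.Agent.Lib.CharBasic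
open Cfsg.Agent.Lib.BlockIdem Cfsg.Agent.Lib.BlockPP Cfsg.Agent.Lib.BlockOrth
open Cfsg.Agent.Lib.BlockRed Cfsg.Agent.Lib.BlockDef Cfsg.Agent.Lib.BlockDeg
open Cfsg.Agent.Lib.BlockNP Cfsg.Agent.Lib.BlockInd Cfsg.Agent.Lib.BlockSecond
open Cfsg.Agent.Lib.BlockFirst Cfsg.Agent.Lib.BlockHt Cfsg.Agent.Lib.BlockM
open Cfsg.Agent.Lib.BlockCov Cfsg.Agent.Lib.BlockQuot Cfsg.Agent.Lib.CharKer
open Cfsg.Agent.Lib.BlockQuotB Cfsg.Agent.Lib.BlockMore Cfsg.Agent.Lib.BlockMoreB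
open Cfsg.Agent.Lib.BlockTr Cfsg.Agent.Lib.CharNormal Cfsg.Agent.Lib.BlockCovB
open Cfsg.Agent.Lib.BlockBP Cfsg.Agent.Lib.BlockInt Cfsg.Agent.Lib.BlockSum Cfsg.Agent.Lib.BlockRk
open Cfsg.Agent.Lib.BlockFusB Cfsg.Agent.Lib.BlockMax Cfsg.Agent.Lib.CharSplit Cfsg.Agent.Lib.CharBrauer
open Cfsg.Agent.Lib.CharInd Cfsg.Agent.Lib.BlockPC Cfsg.Agent.Lib.BlockPair Cfsg.Agent.Lib.BlockPairB
open Cfsg.Agent.Lib.BlockPairC Cfsg.Agent.Lib.BlockPairD Cfsg.Agent.Lib.BlockPairE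
open Cfsg.Agent.Lib.BlockRey Cfsg.Agent.Lib.BlockPairF Cfsg.Agent.Lib.BlockFus Cfsg.Agent.Lib.BlockNilB Cfsg.Agent.Lib.BlockNil Cfsg.Agent.Lib.CharClifford
open Cfsg.Agent.Lib.BlockKB Cfsg.Agent.Lib.BlockLar Cfsg.Agent.Lib.BlockMaxB Cfsg.Agent.Lib.BlockIndIn Cfsg.Agent.Lib.BlockBFM
open Cfsg.Agent.Lib.BlkH6C Cfsg.Agent.Lib.BlkH6B Cfsg.Agent.Lib.BlkH6A Cfsg.Agent.Lib.BlockSum Cfsg.Agent.Lib.BlockOrth Cfsg.Agent.Lib.BlockPP Cfsg.Agent.Lib.BlockHt Cfsg.Agent.Lib.BlockQuotB Cfsg.Agent.Lib.BlockSecond Cfsg.Agent.Lib.BlockIdem Cfsg.Agent.Lib.BlockDeg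
open scoped ComplexConjugate


section PG

variable {G : Type*} [Group G] [Finite G] {p : ℕ} {M : Ideal AlgInt}

theorem principal_ind_cent (hM : IsPModular p M) {y : G} (hy : ∃ k, orderOf y = p ^ k) :
    IsInducedBlock M (Subgroup.centralizer ({y} : Set G))
      (principalBlock M (Subgroup.centralizer ({y} : Set G))) (principalBlock M G) := by
  obtain ⟨B, hB⟩ := exists_induced_centralizer hM hy
    (principal_isPBlock M (Subgroup.centralizer ({y} : Set G)))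
  have h := (third_main hM hB).2 rfl
  rwa [h] at hB

theorem irr_one_eq (χ : IrrCharacter G) : χ.1 1 = (charDegree χ.1 : ℂ) :=
  (charDegree_cast (isChar_of_irr χ.2)).symm

theorem principal_gram (hM : IsPModular p M) {y : G} (hy : ∃ k, orderOf y = p ^ k)
    [DecidablePred (· ∈ principalBlock M G)]
    [DecidablePred (· ∈ principalBlock M (Subgroup.centralizer ({y} : Set G)))] :
    ∑ χ ∈ Finset.univ.filter (· ∈ principalBlock M G), χ.1 y * χ.1 y⁻¹ =
      ∑ ξ ∈ Finset.univ.filter (· ∈ principalBlock M (Subgroup.centralizer ({y} : Set G))),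
        ((charDegree ξ.1 : ℂ)) ^ 2 := by
  have h1 : ¬ p ∣ orderOf (1 : Subgroup.centralizer ({y} : Set G)) := by
    rw [orderOf_one]; exact hM.1.not_dvd_one
  have h := gram_block hM hy (principal_ind_cent hM hy) h1 h1
  have h2 : ∀ χ ∈ Finset.univ.filter (· ∈ principalBlock M G),
      χ.1 y * χ.1 y⁻¹ = blockPart (principalBlock M (Subgroup.centralizer ({y} : Set G)))
        (fun c : Subgroup.centralizer ({y} : Set G) => χ.1 (y * (c : G))) 1 *
      conj (blockPart (principalBlock M (Subgroup.centralizer ({y} : Set G)))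
        (fun c : Subgroup.centralizer ({y} : Set G) => χ.1 (y * (c : G))) 1) := by
    intro χ hχ
    have h3 := principal_second hM hy (Finset.mem_filter.1 hχ).2 h1
    rw [← h3, Subgroup.coe_one, mul_one, conj_irr]
  rw [Finset.sum_congr rfl h2, h]
  refine Finset.sum_congr rfl (fun ξ _ => ?_)
  rw [irr_one_eq, sq]
  congr 1
  exact Complex.conj_natCast _

theorem principal_T (hM : IsPModular p M) {u z : G} (hu : ∃ k, orderOf u = p ^ k)
    (hz : ∃ k, orderOf z = p ^ k) [DecidablePred (· ∈ principalBlock M G)]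
    [DecidablePred (· ∈ principalBlock M (Subgroup.centralizer ({u} : Set G)))]
    [Decidable (IsConj u z)] :
    ∑ χ ∈ Finset.univ.filter (· ∈ principalBlock M G), χ.1 z * χ.1 u⁻¹ =
      if IsConj u z then
        ∑ ξ ∈ Finset.univ.filter (· ∈ principalBlock M (Subgroup.centralizer ({u} : Set G))),
        ((charDegree ξ.1 : ℂ)) ^ 2 else 0 := by
  split_ifs with h
  · rw [← principal_gram hM hu]
    refine Finset.sum_congr rfl (fun χ _ => ?_)
    obtain ⟨g, hg⟩ := isConj_iff.1 h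
    have := irr_cl χ u g
    rw [← hg, this]
  · refine block_orth hM (isLoc_eB hM (principal_isPBlock M G)) ?_
    rw [pp_eq_self hM.1 hz, pp_eq_self hM.1 hu]
    exact fun h' => h h'.symm

theorem card_conj_eq {N : Subgroup G} {u z x₀ : G} (hx₀ : x₀ ∈ N) (h : x₀ * u * x₀⁻¹ = z) :
    Nat.card {x : N // (x : G) * u * (x : G)⁻¹ = z} =
      Nat.card (N ⊓ Subgroup.centralizer ({u} : Set G) : Subgroup G) := by
  refine Nat.card_congr
    { toFun := fun x => ⟨x₀⁻¹ * (x.1 : G), ?_⟩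
      invFun := fun c => ⟨⟨x₀ * (c : G), N.mul_mem hx₀ (Subgroup.mem_inf.1 c.2).1⟩, ?_⟩
      left_inv := fun x => Subtype.ext (Subtype.ext (mul_inv_cancel_left _ _))
      right_inv := fun c => Subtype.ext (inv_mul_cancel_left _ _) }
  · refine Subgroup.mem_inf.2 ⟨N.mul_mem (N.inv_mem hx₀) x.1.2, ?_⟩
    rw [Subgroup.mem_centralizer_singleton_iff]
    have h1 : (x.1 : G) * u * (x.1 : G)⁻¹ = x₀ * u * x₀⁻¹ := x.2.trans h.symm
    have h2 : (x.1 : G) * u = x₀ * u * x₀⁻¹ * x.1 := mul_inv_eq_iff_eq_mul.1 h1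
    calc x₀⁻¹ * (x.1 : G) * u = x₀⁻¹ * ((x.1 : G) * u) := by group
      _ = x₀⁻¹ * (x₀ * u * x₀⁻¹ * x.1) := by rw [h2]
      _ = u * (x₀⁻¹ * x.1) := by group
  · change x₀ * (c : G) * u * (x₀ * (c : G))⁻¹ = z
    have h3 := Subgroup.mem_centralizer_singleton_iff.1 (Subgroup.mem_inf.1 c.2).2
    rw [mul_assoc x₀, h3, ← h]
    group

end PG

end Cfsg.Agent.Lib.BlkH6D
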