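import Cfsg.Agent.Lib.BlockRey
import Cfsg.Agent.Lib.BlockKB
import Cfsg.Agent.Lib.BlockLar
import Cfsg.Agent.Lib.BlockMaxB
import Cfsg.Agent.Lib.BlockIndIn
import Cfsg.Agent.Lib.BlockBFM

import Cfsg.Agent.Lib.BlockIdem
import Cfsg.Agent.Lib.BlockBFM
import Cfsg.Agent.Lib.BlockHt
import Cfsg.Agent.Lib.CharBasic

/-!
Landau's theorem.
-/

set_option autoImplicit false
set_option linter.style.haveILetI false
set_option linter.unusedVariables false
set_option linter.unusedSectionVars false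
set_option linter.unusedDecidableInType false
set_option linter.unusedFintypeInType false
set_option linter.unusedSimpArgs false

namespace Cfsg.Agent.Lib.BlkH6F
open Cfsg Cfsg.Agent.Lib.BlockLoc Cfsg.Agent.Lib.BlockGA Cfsg.Agent.Lib.CharBasic
open Cfsg.Agent.Lib.BlockIdem Cfsg.Agent.Lib.BlockPP Cfsg.Agent.Lib.BlockOrth
open Cfsg.Agent.Lib.BlockRed Cfsg.Agent.Lib.BlockDef Cfsg.Agent.Lib.BlockDeg
open Cfsg.Agent.Lib.BlockNP Cfsg.Agent.Lib.BlockInd Cfsg.Agent.Lib.BlockSecond
open Cfsg.Agent.Lib.BlockFirst Cfsg.Agent.Lib.BlockHt Cfsg.Agent.Lib.BlockM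
open Cfsg.Agent.Lib.BlockCov Cfsg.Agent.Lib.BlockQuot Cfsg.Agent.Lib.CharKer
open Cfsg.Agent.Lib.BlockQuotB Cfsg.Agent.Lib.BlockMore Cfsg.Agent.Lib.BlockMoreB
open Cfsg.Agent.Lib.BlockTr Cfsg.Agent.Lib.CharNormal Cfsg.Agent.Lib.BlockCovB
open Cfsg.Agent.Lib.BlockBP Cfsg.Agent.Lib.BlockInt Cfsg.Agent.Lib.BlockSum Cfsg.Agent.Lib.BlockRk
open Cfsg.Agent.Lib.BlockFusB Cfsg.Agent.Lib.BlockMax Cfsg.Agent.Lib.CharSplit Cfsg.Agent.Lib.CharBrauer
open Cfsg.Agent.Lib.CharInd Cfsg.Agent.Lib.BlockPC Cfsg.Agent.Lib.BlockPair Cfsg.Agent.Lib.BlockPairB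
open Cfsg.Agent.Lib.BlockPairC Cfsg.Agent.Lib.BlockPairD Cfsg.Agent.Lib.BlockPairE
open Cfsg.Agent.Lib.BlockRey Cfsg.Agent.Lib.BlockPairF Cfsg.Agent.Lib.BlockFus Cfsg.Agent.Lib.BlockNilB Cfsg.Agent.Lib.BlockNil Cfsg.Agent.Lib.CharClifford
open Cfsg.Agent.Lib.BlockKB Cfsg.Agent.Lib.BlockLar Cfsg.Agent.Lib.BlockMaxB Cfsg.Agent.Lib.BlockIndIn Cfsg.Agent.Lib.BlockBFM
open Cfsg.Agent.Lib.BlockIdem Cfsg.Agent.Lib.BlockBFM Cfsg.Agent.Lib.BlockHt Cfsg.Agent.Lib.CharBasic
open scoped ComplexConjugate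


section Landau

theorem landau_mult (k : ℕ) : ∀ q : ℚ, ∃ N : ℕ, ∀ s : Multiset ℕ, Multiset.card s = k →
    (∀ c ∈ s, 0 < c) → (s.map (fun c : ℕ => (1 / (c : ℚ)))).sum = q → ∀ c ∈ s, c ≤ N := by
  induction k with
  | zero =>
    intro q
    refine ⟨0, fun s hs _ _ c hc => ?_⟩
    rw [Multiset.card_eq_zero.1 hs] at hc
    exact absurd hc (Multiset.notMem_zero c)
  | succ k ih =>
    intro q
    by_cases hq : 0 < q
    · choose f hf using ih
      set K := ⌊((k + 1 : ℕ) : ℚ) / q⌋₊ with hK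
      refine ⟨max K ((Finset.range (K + 1)).sup (fun c₀ => f (q - 1 / (c₀ : ℚ)))), ?_⟩
      intro s hs hpos hsum c hc
      obtain ⟨c₀, hc₀, hle⟩ : ∃ c₀ ∈ s, c₀ ≤ K := by
        by_contra hcon
        push Not at hcon
        have h1 : ∀ c ∈ s, (1 / (c : ℚ)) < q / ((k + 1 : ℕ) : ℚ) := by
          intro c hc
          have h2 := hcon c hc
          have h3 : ((k + 1 : ℕ) : ℚ) / q < c := (Nat.floor_lt (by positivity)).1 h2
          have h4 : (0 : ℚ) < ((k + 1 : ℕ) : ℚ) := by positivity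
          have h5 : (0 : ℚ) < c := lt_trans (by positivity) h3
          rw [div_lt_div_iff₀ h5 h4]
          rw [div_lt_iff₀ hq] at h3
          linarith
        have h2 : (s.map (fun c : ℕ => (1 / (c : ℚ)))).sum < q := by
          have hne : s ≠ 0 := by
            intro h; rw [h, Multiset.card_zero] at hs; omega
          have h3 : (s.map (fun c : ℕ => (1 / (c : ℚ)))).sum <
              (s.map (fun _ : ℕ => q / ((k + 1 : ℕ) : ℚ))).sum :=
            Multiset.sum_lt_sum_of_nonempty hne h1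
          rw [Multiset.map_const', Multiset.sum_replicate, hs, nsmul_eq_mul,
            mul_div_cancel₀ _ (by positivity : ((k + 1 : ℕ) : ℚ) ≠ 0)] at h3
          exact h3
        rw [hsum] at h2
        exact lt_irrefl _ h2
      obtain ⟨s', hs'⟩ := Multiset.exists_cons_of_mem hc₀
      rw [hs'] at hs hsum hc hpos
      rw [Multiset.card_cons] at hs
      rw [Multiset.map_cons, Multiset.sum_cons] at hsum
      rcases Multiset.mem_cons.1 hc with h | h
      · rw [h]; exact le_max_of_le_left hle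
      · refine le_max_of_le_right ?_
        have h1 := hf (q - 1 / (c₀ : ℚ)) s' (by omega)
          (fun c hc => hpos c (Multiset.mem_cons_of_mem hc)) (by linarith) c h
        exact h1.trans (Finset.le_sup (f := fun c₀ : ℕ => f (q - 1 / (c₀ : ℚ)))
          (Finset.mem_range.2 (by omega)))
    · refine ⟨0, fun s hs hpos hsum c hc => ?_⟩
      exfalso
      apply hq
      rw [← hsum]
      have h1 : ∀ x ∈ s.map (fun c : ℕ => (1 / (c : ℚ))), 0 ≤ x := by
        intro x hx
        obtain ⟨c, hc, rfl⟩ := Multiset.mem_map.1 hx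
        positivity
      have h2 := Multiset.single_le_sum h1 _ (Multiset.mem_map_of_mem _ hc)
      refine lt_of_lt_of_le ?_ h2
      have := hpos c hc
      positivity

theorem landau (k : ℕ) : ∃ N : ℕ, ∀ (G : Type*) [Group G] [Finite G],
    Nat.card (ConjClasses G) = k → Nat.card G ≤ N := by
  classical
  obtain ⟨N, hN⟩ := landau_mult k 1
  refine ⟨N, ?_⟩
  intro G _ _ hk
  cases nonempty_fintype G
  haveI : Fintype (ConjClasses G) := Fintype.ofFinite _
  set s : Multiset ℕ := (Finset.univ : Finset (ConjClasses G)).val.map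
    (fun C : ConjClasses G => Nat.card (Subgroup.centralizer ({Quotient.out C} : Set G))) with hs
  have hcard : Multiset.card s = k := by
    rw [hs, Multiset.card_map, Finset.card_val, Finset.card_univ, ← Nat.card_eq_fintype_card, hk]
  have hsum : (s.map (fun c : ℕ => (1 / (c : ℚ)))).sum = 1 := by
    rw [hs, Multiset.map_map]
    change ∑ C : ConjClasses G,
      (1 / ((Nat.card (Subgroup.centralizer ({Quotient.out C} : Set G)) : ℕ) : ℚ)) = 1
    have h1 := sum_classes (A := ℚ) (fun _ : G => (1 : ℚ)) (fun _ _ => rfl)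
    simp only [Finset.sum_const, Finset.card_univ, nsmul_eq_mul, mul_one] at h1
    have h2 : ∀ C : ConjClasses G,
        (1 / ((Nat.card (Subgroup.centralizer ({Quotient.out C} : Set G)) : ℕ) : ℚ)) =
        ((Nat.card G : ℕ) : ℚ)⁻¹ *
          ((Subgroup.centralizer ({Quotient.out C} : Set G)).index : ℚ) := by
      intro C
      have h3 := Subgroup.card_mul_index (Subgroup.centralizer ({Quotient.out C} : Set G))
      have h4 : ((Nat.card (Subgroup.centralizer ({Quotient.out C} : Set G)) : ℕ) : ℚ) ≠ 0 :=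
        Nat.cast_ne_zero.2 Nat.card_pos.ne'
      have h5 : ((Nat.card G : ℕ) : ℚ) ≠ 0 := Nat.cast_ne_zero.2 Nat.card_pos.ne'
      have h6 : ((Nat.card (Subgroup.centralizer ({Quotient.out C} : Set G)) : ℕ) : ℚ) *
        ((Subgroup.centralizer ({Quotient.out C} : Set G)).index : ℚ) = (Nat.card G : ℕ) := by
        exact_mod_cast h3
      field_simp
      linarith
    rw [Finset.sum_congr rfl (fun C _ => h2 C), ← Finset.mul_sum, ← h1, Nat.card_eq_fintype_card]
    exact inv_mul_cancel₀ (Nat.cast_ne_zero.2 Fintype.card_pos.ne')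
  have hmem : Nat.card G ∈ s := by
    rw [hs, Multiset.mem_map]
    refine ⟨ConjClasses.mk 1, Finset.mem_univ _, ?_⟩
    have h1 : Quotient.out (ConjClasses.mk (1 : G)) = 1 := by
      have h2 : ConjClasses.mk (Quotient.out (ConjClasses.mk (1 : G))) = ConjClasses.mk 1 :=
        Quotient.out_eq _
      exact isConj_one_left.1 (ConjClasses.mk_eq_mk_iff_isConj.1 h2)
    rw [h1]
    have h2 : Subgroup.centralizer ({(1 : G)} : Set G) = ⊤ := by
      rw [eq_top_iff]
      intro x _
      rw [Subgroup.mem_centralizer_singleton_iff]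
      simp
    rw [h2]
    exact Subgroup.card_top
  exact hN s hcard (by
    intro c hc
    obtain ⟨C, _, rfl⟩ := Multiset.mem_map.1 hc
    exact Nat.card_pos) hsum _ hmem

theorem landau_le (k : ℕ) : ∃ N : ℕ, ∀ (G : Type*) [Group G] [Finite G],
    Nat.card (ConjClasses G) ≤ k → Nat.card G ≤ N := by
  choose f hf using landau
  refine ⟨(Finset.range (k + 1)).sup f, ?_⟩
  intro G _ _ hk
  exact (hf _ G rfl).trans (Finset.le_sup (f := f) (Finset.mem_range.2 (by omega)))

end Landau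

end Cfsg.Agent.Lib.BlkH6F
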