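import Cfsg.Agent.Lib.BlockRey
import Cfsg.Agent.Lib.BlockKB
import Cfsg.Agent.Lib.BlockLar
import Cfsg.Agent.Lib.BlockMaxB
import Cfsg.Agent.Lib.BlockIndIn
import Cfsg.Agent.Lib.BlockBFM

import Cfsg.Agent.Lib.BlkH5T
import Cfsg.Agent.Lib.BlkH5U
import Cfsg.Agent.Lib.BlkH5V
import Cfsg.Agent.Lib.BlkH5W
import Cfsg.Agent.Lib.BlkH5X
import Cfsg.Agent.Lib.BlkH5Q
import Cfsg.Agent.Lib.BlkH5R
import Cfsg.Agent.Lib.BlkH5S
import Cfsg.Agent.Lib.BlockCov
import Cfsg.Agent.Lib.BlockCovB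
import Cfsg.Agent.Lib.BlockNilC
import Cfsg.Agent.Lib.BlockNilB
import Cfsg.Agent.Lib.BlockDef
import Cfsg.Agent.Lib.BlockDeg
import Cfsg.Agent.Lib.BlockRed
import Cfsg.Agent.Lib.BlockIdem
import Cfsg.Agent.Lib.BlockTr
import Cfsg.Agent.Lib.BlockInd
import Cfsg.Agent.Lib.BlockSecond
import Cfsg.Agent.Lib.BlockPair

/-!
Blocks over an invariant character of a normal p'-subgroup.
-/

set_option autoImplicit false
set_option linter.style.haveILetI false
set_option linter.unusedVariables false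
set_option linter.unusedSectionVars false
set_option linter.unusedDecidableInType false
set_option linter.unusedFintypeInType false
set_option linter.unusedSimpArgs false

namespace Cfsg.Agent.Lib.BlkH6G
open Cfsg Cfsg.Agent.Lib.BlockLoc Cfsg.Agent.Lib.BlockGA Cfsg.Agent.Lib.CharBasic
open Cfsg.Agent.Lib.BlockIdem Cfsg.Agent.Lib.BlockPP Cfsg.Agent.Lib.BlockOrth
open Cfsg.Agent.Lib.BlockRed Cfsg.Agent.Lib.BlockDef Cfsg.Agent.Lib.BlockDeg
open Cfsg.Agent.Lib.BlockNP Cfsg.Agent.Lib.BlockInd Cfsg.Agent.Lib.BlockSecond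
open Cfsg.Agent.Lib.BlockFirst Cfsg.Agent.Lib.BlockHt Cfsg.Agent.Lib.BlockM
open Cfsg.Agent.Lib.BlockCov Cfsg.Agent.Lib.BlockQuot Cfsg.Agent.Lib.CharKer
open Cfsg.Agent.Lib.BlockQuotB Cfsg.Agent.Lib.BlockMore Cfsg.Agent.Lib.BlockMoreB
open Cfsg.Agent.Lib.BlockTr Cfsg.Agent.Lib.CharNormal Cfsg.Agent.Lib.BlockCovB
open Cfsg.Agent.Lib.BlockBP Cfsg.Agent.Lib.BlockInt Cfsg.Agent.Lib.BlockSum Cfsg.Agent.Lib.BlockRk
open Cfsg.Agent.Lib.BlockFusB Cfsg.Agent.Lib.BlockMax Cfsg.Agent.Lib.CharSplit Cfsg.Agent.Lib.CharBrauer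
open Cfsg.Agent.Lib.CharInd Cfsg.Agent.Lib.BlockPC Cfsg.Agent.Lib.BlockPair Cfsg.Agent.Lib.BlockPairB
open Cfsg.Agent.Lib.BlockPairC Cfsg.Agent.Lib.BlockPairD Cfsg.Agent.Lib.BlockPairE
open Cfsg.Agent.Lib.BlockRey Cfsg.Agent.Lib.BlockPairF Cfsg.Agent.Lib.BlockFus Cfsg.Agent.Lib.BlockNilB Cfsg.Agent.Lib.BlockNil Cfsg.Agent.Lib.CharClifford
open Cfsg.Agent.Lib.BlockKB Cfsg.Agent.Lib.BlockLar Cfsg.Agent.Lib.BlockMaxB Cfsg.Agent.Lib.BlockIndIn Cfsg.Agent.Lib.BlockBFM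
open Cfsg.Agent.Lib.BlkH5T Cfsg.Agent.Lib.BlkH5U Cfsg.Agent.Lib.BlkH5V Cfsg.Agent.Lib.BlkH5W Cfsg.Agent.Lib.BlkH5X Cfsg.Agent.Lib.BlkH5Q Cfsg.Agent.Lib.BlkH5R Cfsg.Agent.Lib.BlkH5S Cfsg.Agent.Lib.BlockCov Cfsg.Agent.Lib.BlockCovB Cfsg.Agent.Lib.BlockNilC Cfsg.Agent.Lib.BlockNilB Cfsg.Agent.Lib.BlockDef Cfsg.Agent.Lib.BlockDeg Cfsg.Agent.Lib.BlockRed Cfsg.Agent.Lib.BlockIdem Cfsg.Agent.Lib.BlockTr Cfsg.Agent.Lib.BlockInd Cfsg.Agent.Lib.BlockSecond Cfsg.Agent.Lib.BlockPair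
open scoped ComplexConjugate


section InvBlock

open scoped Pointwise

variable {G : Type*} [Group G] [Fintype G] {p : ℕ} {M : Ideal AlgInt} {N : Subgroup G}
  [hN : N.Normal] [Fintype N]

theorem single_block (hM : IsPModular p M) (hNp : ¬ p ∣ Nat.card N) (θ : IrrCharacter N) :
    IsPBlock M ({θ} : Set (IrrCharacter N)) := by
  rw [← blockOf_of_not_dvd hM hNp θ]
  exact isPBlock_blockOf M θ

theorem mem_N_of_lam (hM : IsPModular p M) {L : Subgroup G} [hL : L.Normal] (hNL : N ≤ L)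
    (hNp : ¬ p ∣ Nat.card N) (hidx : ∃ k : ℕ, (N.subgroupOf L).index = p ^ k) {Q : Subgroup G}
    (hQ : IsPGroup p Q) (hQL : Q ≤ L) (hQS : ¬ p ∣ Q.relIndex L)
    (hCQ : ∀ y ∈ Subgroup.centralizer (Q : Set G), ¬ p ∣ orderOf y → y ∈ L) {θ : IrrCharacter N}
    (hθ : GStab (G := G) ({θ} : Set (IrrCharacter N))) {B : Set (IrrCharacter G)}
    (hB : IsPBlock M B) (hcov : Cov B ({θ} : Set (IrrCharacter N))) {χ : IrrCharacter G}
    (hχ : χ ∈ B) {g : G} (hg : lam hM χ.1 (cs (ResF hM) g) ≠ 0) (hgp : ¬ p ∣ orderOf g) :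
    g ∈ N := by
  haveI := factP hM
  haveI : Fintype L := Fintype.ofFinite _
  haveI : Fintype (N.subgroupOf L) := Fintype.ofFinite _
  have hc := single_block hM hNp θ
  have hst' : ∀ g ∈ L, ∀ ψ ∈ ({θ} : Set (IrrCharacter N)), cjI g ψ ∈ ({θ} : Set (IrrCharacter N)) :=
    fun g _ ψ hψ => hθ ψ hψ g
  have hcL : IsPBlock M (bT hNL ({θ} : Set (IrrCharacter N))) := isPBlock_trB hM _ hc
  have hgs : GStab (G := L) (bT hNL ({θ} : Set (IrrCharacter N))) := bT_gStab' hNL hst'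
  have hF := above_eq_block hM hidx hcL hgs
  set F := above (G := L) (bT hNL ({θ} : Set (IrrCharacter N))) with hFdef
  have h1 : eX hM L F = eX hM N ({θ} : Set (IrrCharacter N)) := eX_above hM hNL hst'
  have h2 : Cov B F := by
    apply cov_of_mul_ne_zero hM _ hB hF
    change eF hM B * eX hM L F ≠ 0
    rw [h1]
    exact mul_ne_zero_of_cov hM hB hc hcov
  obtain ⟨DL, hDL⟩ := exists_defectGroup hM hF
  obtain ⟨DB, hDB⟩ := exists_defectGroup hM hB
  have h3 : SubConj (DL.map L.subtype) DB := subConj_of_cov hM hB hF h2 hDL hDB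
  obtain ⟨P, hP⟩ := exists_isSyl p g
  have h4 : SubConj DB P := subConj_of_cs hM hB hχ hg hP.2.2 hDB
  obtain ⟨x, hx⟩ := h3.trans h4
  -- `DL` is a Sylow subgroup of `L`
  have hFcov : Cov F (bT hNL ({θ} : Set (IrrCharacter N))) := by
    obtain ⟨φ, hφ⟩ := block_nonempty hM hF
    obtain ⟨ψ, hψ, hov⟩ := hφ
    exact ⟨φ, ⟨ψ, hψ, hov⟩, ψ, hψ, hov⟩
  have h5 := (index_defect hM hidx hcL hgs hF hFcov hDL).1
  have hDLp := isPGroup_of_isDefectGroup hM hDL
  obtain ⟨d, hd⟩ := IsPGroup.iff_card.1 hDLp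
  have hN' : ¬ p ∣ Nat.card (N.subgroupOf L) := by
    rwa [Nat.card_congr (Subgroup.subgroupOfEquivOfLe hNL).toEquiv]
  have hinf : Nat.card (DL ⊓ N.subgroupOf L : Subgroup L) = p ^ 0 := by
    have h6 : IsPGroup p (DL ⊓ N.subgroupOf L : Subgroup L) := hDLp.to_le inf_le_left
    obtain ⟨m, hm⟩ := IsPGroup.iff_card.1 h6
    have h7 : Nat.card (DL ⊓ N.subgroupOf L : Subgroup L) ∣ Nat.card (N.subgroupOf L) :=
      Subgroup.card_dvd_of_le inf_le_right
    rcases Nat.eq_zero_or_pos m with h0 | h0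
    · rw [hm, h0]
    · exfalso
      apply hN'
      refine dvd_trans ?_ h7
      rw [hm]
      exact dvd_pow_self p h0.ne'
  have h8 := fac_sup (G := L) (N := N.subgroupOf L) hM.1 hd hinf
  rw [sup_comm, h5, Subgroup.card_top, Nat.factorization_eq_zero_of_not_dvd hN', zero_add,
    add_zero] at h8
  let S1 : Sylow p L := Sylow.ofCard DL (by rw [hd, h8])
  have hQ' : IsPGroup p (Q.subgroupOf L) := hQ.comap_of_injective _ (Subgroup.subtype_injective _)
  let S2 : Sylow p L := hQ'.toSylow hQS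
  obtain ⟨y, hy⟩ := MulAction.exists_smul_eq L S1 S2
  have hy2 : ∀ q ∈ Q, (y : G)⁻¹ * q * y ∈ DL.map L.subtype := by
    intro q hq
    have h9 : (⟨q, hQL hq⟩ : L) ∈ (y • S1 : Sylow p L) := by
      rw [hy]
      exact Subgroup.mem_subgroupOf.2 hq
    have h10 : (⟨q, hQL hq⟩ : L) ∈ (MulAut.conj y • (S1 : Subgroup L) : Subgroup L) := h9
    rw [Subgroup.mem_pointwise_smul_iff_inv_smul_mem] at h10
    refine ⟨_, h10, ?_⟩
    simp [MulAut.smul_def]
  have hcomm : ∀ q ∈ Q, Commute ((x * (y : G)⁻¹) * q * (x * (y : G)⁻¹)⁻¹) g := by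
    intro q hq
    have h11 := hP.2.1 _ (hx _ (hy2 q hq))
    have h12 : x * ((y : G)⁻¹ * q * y) * x⁻¹ = (x * (y : G)⁻¹) * q * (x * (y : G)⁻¹)⁻¹ := by group
    rwa [h12] at h11
  have hgL : g ∈ L := by
    set z := x * (y : G)⁻¹ with hz
    have h13 : z⁻¹ * g * z ∈ Subgroup.centralizer (Q : Set G) := by
      rw [Subgroup.mem_centralizer_iff]
      intro q hq
      have h14 := (hcomm q hq).eq
      calc q * (z⁻¹ * g * z) = z⁻¹ * ((z * q * z⁻¹) * g) * z := by group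
        _ = z⁻¹ * (g * (z * q * z⁻¹)) * z := by rw [h14]
        _ = z⁻¹ * g * z * q := by group
    have hord : orderOf (z⁻¹ * g * z) = orderOf g := by
      have h17 := orderOf_injective (MulAut.conj z⁻¹).toMonoidHom (MulAut.conj z⁻¹).injective g
      have h18 : (MulAut.conj z⁻¹).toMonoidHom g = z⁻¹ * g * z := by simp [MulAut.conj_apply]
      rwa [h18] at h17
    have h15 := hL.conj_mem _ (hCQ _ h13 (by rw [hord]; exact hgp)) z
    have h16 : z * (z⁻¹ * g * z) * z⁻¹ = g := by group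
    rwa [h16] at h15
  have h17 := mem_of_index (N := N.subgroupOf L) hidx (x := (⟨g, hgL⟩ : L)) (by
    rw [Subgroup.orderOf_mk]; exact hgp)
  exact Subgroup.mem_subgroupOf.1 h17

theorem inv_unique (hM : IsPModular p M) {L : Subgroup G} [hL : L.Normal] (hNL : N ≤ L)
    (hNp : ¬ p ∣ Nat.card N) (hidx : ∃ k : ℕ, (N.subgroupOf L).index = p ^ k) {Q : Subgroup G}
    (hQ : IsPGroup p Q) (hQL : Q ≤ L) (hQS : ¬ p ∣ Q.relIndex L)
    (hCQ : ∀ y ∈ Subgroup.centralizer (Q : Set G), ¬ p ∣ orderOf y → y ∈ L) {θ : IrrCharacter N}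
    (hθ : GStab (G := G) ({θ} : Set (IrrCharacter N))) {B B' : Set (IrrCharacter G)}
    (hB : IsPBlock M B) (hcov : Cov B ({θ} : Set (IrrCharacter N)))
    (hB' : IsPBlock M B') (hcov' : Cov B' ({θ} : Set (IrrCharacter N))) : B = B' := by
  haveI := factP hM
  obtain ⟨χ, hχ⟩ := block_nonempty hM hB
  obtain ⟨χ', hχ'⟩ := block_nonempty hM hB'
  have hc := single_block hM hNp θ
  set c := eF hM B' with hcdef
  have hccl : IsCl c := eF_isCl hM B'
  set cN := extGA N (resGA N c) with hcN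
  have hcNcl : IsCl cN := by
    intro g h
    by_cases hg : g ∈ N
    · have hg' : h * g * h⁻¹ ∈ N := hN.conj_mem g hg h
      rw [hcN, extGA_pos hg, extGA_pos hg']
      exact hccl g h
    · have hg' : h * g * h⁻¹ ∉ N := by
        intro h'
        apply hg
        have := hN.conj_mem _ h' h⁻¹
        have e : h⁻¹ * (h * g * h⁻¹) * h⁻¹⁻¹ = g := by group
        rwa [e] at this
      rw [hcN, extGA_neg hg, extGA_neg hg']
  have key : ∀ {B₁ : Set (IrrCharacter G)} {χ₁ : IrrCharacter G}, IsPBlock M B₁ →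
      Cov B₁ ({θ} : Set (IrrCharacter N)) → χ₁ ∈ B₁ →
      lam hM χ₁.1 c = lam hM θ.1 (resGA N c) := by
    intro B₁ χ₁ hB₁ hcov₁ hχ₁
    have e1 : lam hM χ₁.1 (c - cN) = 0 := by
      by_contra hne
      obtain ⟨g, hg1, hg2⟩ := exists_class_of_lam_ne_zero hM (IsCl.sub hccl hcNcl) hne
      have hgN : g ∉ N := by
        intro h
        apply hg1
        rw [ga_sub, hcN, extGA_pos h]
        exact sub_self _
      have hcg : c g ≠ 0 := by
        intro h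
        apply hg1
        rw [ga_sub, hcN, extGA_neg hgN, h, sub_zero]
      exact hgN (mem_N_of_lam hM hNL hNp hidx hQ hQL hQS hCQ hθ hB₁ hcov₁ hχ₁ hg2
        (not_dvd_orderOf_of_eF hM (isLoc_eB hM hB') hcg))
    have e2 : lam hM χ₁.1 c = lam hM χ₁.1 cN := by
      have e3 : c = (c - cN) + cN := (sub_add_cancel c cN).symm
      calc lam hM χ₁.1 c = lam hM χ₁.1 ((c - cN) + cN) := by rw [← e3]
        _ = lam hM χ₁.1 cN := by
          rw [lam_add hM χ₁.2 (IsCl.sub hccl hcNcl) hcNcl, e1, zero_add]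
    rw [e2, lam_of_cov hM hB₁ hc hcov₁ hχ₁ rfl hcNcl (fun g hg => by
      by_contra h; exact hg (extGA_neg h))]
    rw [hcN, resGA_extGA]
  have h1 := key hB hcov hχ
  have h2 := key hB' hcov' hχ'
  rw [← h2, hcdef, lam_eF_mem hM (isLoc_eB hM hB') hχ'] at h1
  by_contra hne
  have h3 : χ ∉ B' := fun h => hne (block_eq_of_mem_of_mem hM hB hB' hχ h)
  rw [lam_eF_not_mem hM (isLoc_eB hM hB') h3] at h1
  exact zero_ne_one h1

/-- All characters over an invariant character of `N` form one block of full defect. -/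
theorem inv_block (hM : IsPModular p M) {L : Subgroup G} [hL : L.Normal] (hNL : N ≤ L)
    (hNp : ¬ p ∣ Nat.card N) (hidx : ∃ k : ℕ, (N.subgroupOf L).index = p ^ k) {Q : Subgroup G}
    (hQ : IsPGroup p Q) (hQL : Q ≤ L) (hQS : ¬ p ∣ Q.relIndex L)
    (hCQ : ∀ y ∈ Subgroup.centralizer (Q : Set G), ¬ p ∣ orderOf y → y ∈ L) {θ : IrrCharacter N}
    (hθ : GStab (G := G) ({θ} : Set (IrrCharacter N))) :
    IsPBlock M {χ : IrrCharacter G | Over χ θ} ∧
      (∀ D : Subgroup G, IsDefectGroup p M {χ : IrrCharacter G | Over χ θ} D →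
        Nat.card D = p ^ (Nat.card G).factorization p) := by
  haveI := factP hM
  have hc := single_block hM hNp θ
  obtain ⟨χ₀, hχ₀⟩ := exists_over_above (G := G) θ
  set B := blockOf M (χ₀ : G → ℂ) with hBdef
  have hB : IsPBlock M B := isPBlock_blockOf M χ₀
  have hχB : χ₀ ∈ B := self_mem_blockOf hM χ₀
  have hcov : Cov B ({θ} : Set (IrrCharacter N)) := ⟨χ₀, hχB, θ, rfl, hχ₀⟩
  have hEq : {χ : IrrCharacter G | Over χ θ} = B := by
    ext χ
    constructor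
    · intro h
      have h1 : IsPBlock M (blockOf M (χ : G → ℂ)) := isPBlock_blockOf M χ
      have h2 : χ ∈ blockOf M (χ : G → ℂ) := self_mem_blockOf hM χ
      have h3 : Cov (blockOf M (χ : G → ℂ)) ({θ} : Set (IrrCharacter N)) := ⟨χ, h2, θ, rfl, h⟩
      rw [inv_unique hM hNL hNp hidx hQ hQL hQS hCQ hθ hB hcov h1 h3]
      exact h2
    · intro h
      obtain ⟨ψ, hψ, hov⟩ := mem_above_of_cov hM hc hθ hB hcov h
      rw [Set.mem_singleton_iff] at hψ
      rw [← hψ]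
      exact hov
  rw [hEq]
  refine ⟨hB, fun D hD => ?_⟩
  have h4 := (fong hM hc hθ hB hcov (fun B' hB' hcov' => by
    rw [inv_unique hM hNL hNp hidx hQ hQL hQS hCQ hθ hB' hcov' hB hcov]) hD).2.2
  rw [card_defectGroup hM hB hD, h4]
  congr 1
  have h5 : blockDefect p ({θ} : Set (IrrCharacter N)) = 0 := by
    have := blockDefect_le (p := p) ({θ} : Set (IrrCharacter N))
    rw [Nat.factorization_eq_zero_of_not_dvd hNp] at this
    omega
  rw [h5, zero_add, ← Subgroup.card_mul_index N,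
    Nat.factorization_mul Nat.card_pos.ne' (Subgroup.index_ne_zero_of_finite), Finsupp.add_apply,
    Nat.factorization_eq_zero_of_not_dvd hNp, zero_add]

end InvBlock

end Cfsg.Agent.Lib.BlkH6G
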