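import Cfsg.Agent.Lib.BlockRey
import Cfsg.Agent.Lib.BlockKB
import Cfsg.Agent.Lib.BlockLar
import Cfsg.Agent.Lib.BlockMaxB
import Cfsg.Agent.Lib.BlockIndIn
import Cfsg.Agent.Lib.BlockBFM

import Cfsg.Agent.Lib.BlkH6G
import Cfsg.Agent.Lib.BlkH6F
import Cfsg.Agent.Lib.BlkH5T
import Cfsg.Agent.Lib.BlkH5U
import Cfsg.Agent.Lib.BlkH5V
import Cfsg.Agent.Lib.BlkH5W
import Cfsg.Agent.Lib.BlkH5X
import Cfsg.Agent.Lib.BlkH5Q
import Cfsg.Agent.Lib.BlkH5R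
import Cfsg.Agent.Lib.BlkH5S
import Cfsg.Agent.Lib.BlockCov
import Cfsg.Agent.Lib.BlockCovB
import Cfsg.Agent.Lib.BlockNilC
import Cfsg.Agent.Lib.BlockNilB
import Cfsg.Agent.Lib.BlockDef
import Cfsg.Agent.Lib.BlockDeg
import Cfsg.Agent.Lib.BlockRed
import Cfsg.Agent.Lib.BlockIdem
import Cfsg.Agent.Lib.BlockTr
import Cfsg.Agent.Lib.BlockInd
import Cfsg.Agent.Lib.BlockSecond
import Cfsg.Agent.Lib.BlockPair
import Cfsg.Agent.Lib.BlockBP
import Cfsg.Agent.Lib.PCon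
import Cfsg.Agent.Lib.PConB
import Cfsg.Agent.Lib.HallHigman

/-!
Facts on the p'-p-core; the block over an invariant character.
-/

set_option autoImplicit false
set_option linter.style.haveILetI false
set_option linter.unusedVariables false
set_option linter.unusedSectionVars false
set_option linter.unusedDecidableInType false
set_option linter.unusedFintypeInType false
set_option linter.unusedSimpArgs false

namespace Cfsg.Agent.Lib.BlkH6H
open Cfsg Cfsg.Agent.Lib.BlockLoc Cfsg.Agent.Lib.BlockGA Cfsg.Agent.Lib.CharBasic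
open Cfsg.Agent.Lib.BlockIdem Cfsg.Agent.Lib.BlockPP Cfsg.Agent.Lib.BlockOrth
open Cfsg.Agent.Lib.BlockRed Cfsg.Agent.Lib.BlockDef Cfsg.Agent.Lib.BlockDeg
open Cfsg.Agent.Lib.BlockNP Cfsg.Agent.Lib.BlockInd Cfsg.Agent.Lib.BlockSecond
open Cfsg.Agent.Lib.BlockFirst Cfsg.Agent.Lib.BlockHt Cfsg.Agent.Lib.BlockM
open Cfsg.Agent.Lib.BlockCov Cfsg.Agent.Lib.BlockQuot Cfsg.Agent.Lib.CharKer
open Cfsg.Agent.Lib.BlockQuotB Cfsg.Agent.Lib.BlockMore Cfsg.Agent.Lib.BlockMoreB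
open Cfsg.Agent.Lib.BlockTr Cfsg.Agent.Lib.CharNormal Cfsg.Agent.Lib.BlockCovB
open Cfsg.Agent.Lib.BlockBP Cfsg.Agent.Lib.BlockInt Cfsg.Agent.Lib.BlockSum Cfsg.Agent.Lib.BlockRk
open Cfsg.Agent.Lib.BlockFusB Cfsg.Agent.Lib.BlockMax Cfsg.Agent.Lib.CharSplit Cfsg.Agent.Lib.CharBrauer
open Cfsg.Agent.Lib.CharInd Cfsg.Agent.Lib.BlockPC Cfsg.Agent.Lib.BlockPair Cfsg.Agent.Lib.BlockPairB
open Cfsg.Agent.Lib.BlockPairC Cfsg.Agent.Lib.BlockPairD Cfsg.Agent.Lib.BlockPairE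
open Cfsg.Agent.Lib.BlockRey Cfsg.Agent.Lib.BlockPairF Cfsg.Agent.Lib.BlockFus Cfsg.Agent.Lib.BlockNilB Cfsg.Agent.Lib.BlockNil Cfsg.Agent.Lib.CharClifford
open Cfsg.Agent.Lib.BlockKB Cfsg.Agent.Lib.BlockLar Cfsg.Agent.Lib.BlockMaxB Cfsg.Agent.Lib.BlockIndIn Cfsg.Agent.Lib.BlockBFM
open Cfsg.Agent.Lib.BlkH6G Cfsg.Agent.Lib.BlkH6F Cfsg.Agent.Lib.BlkH5T Cfsg.Agent.Lib.BlkH5U Cfsg.Agent.Lib.BlkH5V Cfsg.Agent.Lib.BlkH5W Cfsg.Agent.Lib.BlkH5X Cfsg.Agent.Lib.BlkH5Q Cfsg.Agent.Lib.BlkH5R Cfsg.Agent.Lib.BlkH5S Cfsg.Agent.Lib.BlockCov Cfsg.Agent.Lib.BlockCovB Cfsg.Agent.Lib.BlockNilC Cfsg.Agent.Lib.BlockNilB Cfsg.Agent.Lib.BlockDef Cfsg.Agent.Lib.BlockDeg Cfsg.Agent.Lib.BlockRed Cfsg.Agent.Lib.BlockIdem Cfsg.Agent.Lib.BlockTr Cfsg.Agent.Lib.BlockInd Cfsg.Agent.Lib.BlockSecond Cfsg.Agent.Lib.BlockPair Cfsg.Agent.Lib.BlockBP Cfsg.Agent.Lib.PCon Cfsg.Agent.Lib.PConB Cfsg.Agent.Lib.HallHigman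
open scoped ComplexConjugate


section PCoreFacts

variable {G : Type*} [Group G] [Finite G] {p : ℕ}

theorem pp_normal : (pPrimePCore p G).Normal := by
  haveI := Cfsg.Agent.Lib.Cores.pPrimeCore_normal (G := G) p
  haveI := Cfsg.Agent.Lib.Cores.pCore_normal (G := G ⧸ pPrimeCore p G) p
  unfold pPrimePCore
  infer_instance

theorem pp_index [Fact p.Prime] {N L : Subgroup G} (hN : N = pPrimeCore p G) (hL : L = pPrimePCore p G) :
    ∃ k : ℕ, (N.subgroupOf L).index = p ^ k := by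
  subst hN; subst hL
  haveI := Cfsg.Agent.Lib.Cores.pPrimeCore_normal (G := G) p
  change ∃ k : ℕ, (pPrimeCore p G).relIndex (pPrimePCore p G) = p ^ k
  have h := Subgroup.relIndex_ker (pPrimePCore p G) (QuotientGroup.mk' (pPrimeCore p G))
  rw [QuotientGroup.ker_mk'] at h
  rw [h, Cfsg.Agent.Lib.PCon.pPrimePCore_map]
  exact IsPGroup.iff_card.1 (Cfsg.Agent.Lib.Cores.pCore_isPGroup p)

/-- A `p'`-element centralizing `L / N` lies in `N`, when `C_G(Q) ≤ L`. -/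
theorem mem_of_cent_quot [Fact p.Prime] {N L : Subgroup G} [N.Normal] [L.Normal] (hNL : N ≤ L)
    (hNp : ¬ p ∣ Nat.card N) (hidx : ∃ k : ℕ, (N.subgroupOf L).index = p ^ k) {Q : Subgroup G}
    (hQ : IsPGroup p Q) (hCQ : ∀ y ∈ Subgroup.centralizer (Q : Set G), ¬ p ∣ orderOf y → y ∈ L)
    {x : G} (hx : ¬ p ∣ orderOf x) (hc : ∀ q ∈ Q, x * q * x⁻¹ * q⁻¹ ∈ N) : x ∈ N := by
  have hcop : (Nat.card N).Coprime p := by
    rw [Nat.coprime_comm]; exact ((Fact.out : p.Prime).coprime_iff_not_dvd).2 hNp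
  have h1 : QuotientGroup.mk' N x ∈ Subgroup.centralizer ((Q.map (QuotientGroup.mk' N) : Subgroup _) : Set _) := by
    rw [Subgroup.mem_centralizer_iff]
    rintro _ ⟨q, hq, rfl⟩
    have h2 : (QuotientGroup.mk' N) (x * q * x⁻¹ * q⁻¹) = 1 := (QuotientGroup.eq_one_iff _).2 (hc q hq)
    simp only [map_mul, map_inv] at h2
    have h3 := mul_inv_eq_one.1 h2
    have h4 := mul_inv_eq_iff_eq_mul.1 h3
    exact h4.symm
  obtain ⟨y, hy, hyx⟩ := Cfsg.Agent.Lib.ThompsonP.centralizer_map_le (X := Q) (O := N) hQ hcop h1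
  -- the `p'`-part of `y`
  have h5 : y⁻¹ * x ∈ N := by
    rw [← QuotientGroup.eq_one_iff (N := N)]
    have : (QuotientGroup.mk' N) (y⁻¹ * x) = 1 := by rw [map_mul, map_inv, hyx, inv_mul_cancel]
    exact this
  obtain ⟨k, m, hm, he⟩ := Nat.exists_eq_pow_mul_and_not_dvd (orderOf_pos y).ne' p (Fact.out : p.Prime).ne_one
  have hL1 : y ^ p ^ k ∈ L := by
    apply hCQ _ (Subgroup.pow_mem _ hy _)
    intro h
    apply hm
    refine dvd_trans h ?_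
    rw [orderOf_dvd_iff_pow_eq_one, ← pow_mul, ← he, pow_orderOf_eq_one]
  have hL2 : x ^ p ^ k ∈ L := by
    have h6 : (QuotientGroup.mk' L) x = (QuotientGroup.mk' L) y := by
      have h7 : (QuotientGroup.mk' L) (y⁻¹ * x) = 1 := (QuotientGroup.eq_one_iff _).2 (hNL h5)
      rw [map_mul, map_inv] at h7
      exact (inv_mul_eq_one.1 h7).symm
    rw [← QuotientGroup.eq_one_iff (N := L)]
    have h8 : (QuotientGroup.mk' L) (y ^ p ^ k) = 1 := (QuotientGroup.eq_one_iff _).2 hL1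
    have h9 : (QuotientGroup.mk' L) (x ^ p ^ k) = 1 := by rw [map_pow, h6, ← map_pow, h8]
    exact h9
  obtain ⟨j, hj⟩ := hidx
  have hN3 : x ^ (p ^ k * p ^ j) ∈ N := by
    rw [pow_mul]
    have h11 : (⟨x ^ p ^ k, hL2⟩ : L) ^ (N.subgroupOf L).index ∈ N.subgroupOf L :=
      Subgroup.pow_index_mem _ _
    rw [hj] at h11
    exact Subgroup.mem_subgroupOf.1 h11
  have hcop2 : (p ^ k * p ^ j).Coprime (orderOf x) := by
    rw [← pow_add]
    exact Nat.Coprime.pow_left _ (((Fact.out : p.Prime).coprime_iff_not_dvd).2 hx)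
  obtain ⟨m, hm⟩ := exists_pow_eq_self_of_coprime hcop2
  rw [← hm]
  exact Subgroup.pow_mem _ hN3 _

end PCoreFacts

section PPBlock

variable {G : Type*} [Group G] [Fintype G] {p : ℕ} {M : Ideal AlgInt} {N : Subgroup G}
  [hN : N.Normal] [Fintype N]

theorem inv_block_sylow (hM : IsPModular p M) {L : Subgroup G} [hL : L.Normal] (hNL : N ≤ L)
    (hNp : ¬ p ∣ Nat.card N) (hidx : ∃ k : ℕ, (N.subgroupOf L).index = p ^ k) {Q : Subgroup G}
    (hQ : IsPGroup p Q) (hQL : Q ≤ L) (hQS : ¬ p ∣ Q.relIndex L)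
    (hCQ : ∀ y ∈ Subgroup.centralizer (Q : Set G), ¬ p ∣ orderOf y → y ∈ L) {θ : IrrCharacter N}
    (hθ : GStab (G := G) ({θ} : Set (IrrCharacter N))) :
    IsPBlock M {χ : IrrCharacter G | Over χ θ} ∧
      blockDefect p {χ : IrrCharacter G | Over χ θ} = (Nat.card G).factorization p ∧
      (∀ D : Subgroup G, IsDefectGroup p M {χ : IrrCharacter G | Over χ θ} D ↔
        ∃ S : Sylow p G, (S : Subgroup G) = D) := by
  haveI := factP hM
  obtain ⟨h1, h2⟩ := inv_block hM hNL hNp hidx hQ hQL hQS hCQ hθ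
  obtain ⟨D, hD⟩ := exists_defectGroup hM h1
  have h3 := h2 D hD
  rw [card_defectGroup hM h1 hD] at h3
  have h4 := Nat.pow_right_injective hM.1.two_le h3
  exact ⟨h1, h4, fun D => isDefectGroup_iff_sylow hM h1 h4 D⟩

theorem pSolv_setup (hM : IsPModular p M) (hsolv : IsPSolvable p G) :
    ∃ L Q : Subgroup G, L = pPrimePCore p G ∧ IsPGroup p Q ∧ Q ≤ L ∧ ¬ p ∣ Q.relIndex L ∧
      Subgroup.centralizer (Q : Set G) ≤ L := by
  haveI := factP hM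
  obtain ⟨P⟩ : Nonempty (Sylow p (pPrimePCore p G)) := inferInstance
  have hc := Cfsg.Agent.Lib.PConB.isPConstrained_of_isPSolvable hsolv P
  refine ⟨pPrimePCore p G, (P : Subgroup (pPrimePCore p G)).map (pPrimePCore p G).subtype, rfl,
    P.2.map _, Subgroup.map_subtype_le _, ?_, hc⟩
  have h1 : ((P : Subgroup (pPrimePCore p G)).map (pPrimePCore p G).subtype).relIndex (pPrimePCore p G) =
      (P : Subgroup (pPrimePCore p G)).index := by
    unfold Subgroup.relIndex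
    congr 1
    exact Subgroup.comap_map_eq_self_of_injective (Subgroup.subtype_injective _) _
  rw [h1]
  exact P.not_dvd_index

end PPBlock

end Cfsg.Agent.Lib.BlkH6H
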