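import Cfsg.Agent.Lib.CharGlaub2
import Cfsg.Agent.Lib.Nilp
import Cfsg.Agent.Lib.CharTable

set_option autoImplicit false

/-!
# Glauberman correspondence: p-group case
-/

namespace Cfsg.Agent.Lib.CharGC

open Cfsg Cfsg.Agent.Lib.CharBasic Cfsg.Agent.Lib.CharNormal Cfsg.Agent.Lib.CharClifford
open Cfsg.Agent.Lib.CharExt Cfsg.Agent.Lib.CharLin Cfsg.Agent.Lib.CharRatio
open Cfsg.Agent.Lib.CharInd Cfsg.Agent.Lib.CharGal Cfsg.Agent.Lib.CharExc
open Cfsg.Agent.Lib.CharGlaub Cfsg.Agent.Lib.CharMod Cfsg.Agent.Lib.CharGlaub2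
open scoped ComplexConjugate

noncomputable section

/-- The abstract form of the correspondence. -/
structure GCP (p : ℕ) {G C : Type*} [Group G] [Group C] [Fintype C] (i : C →* G)
    (P : (G → ℂ) → Prop) : Prop where
  exu : ∀ χ : IrrCharacter G, P χ.1 → ∃! β : IrrCharacter C, ∃ m : ℕ,
    classInner (fun c => χ.1 (i c)) β.1 = m ∧ ¬ p ∣ m
  pm : ∀ χ : IrrCharacter G, P χ.1 → ∀ β : IrrCharacter C, ∀ m : ℕ,
    classInner (fun c => χ.1 (i c)) β.1 = m → ¬ p ∣ m →
      ((m : ℤ) ≡ 1 [ZMOD p] ∨ (m : ℤ) ≡ -1 [ZMOD p])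
  inj : ∀ χ χ' : IrrCharacter G, P χ.1 → P χ'.1 → ∀ β : IrrCharacter C, ∀ m m' : ℕ,
    classInner (fun c => χ.1 (i c)) β.1 = m → ¬ p ∣ m →
    classInner (fun c => χ'.1 (i c)) β.1 = m' → ¬ p ∣ m' → χ = χ'
  surj : ∀ β : IrrCharacter C, ∃ χ : IrrCharacter G, P χ.1 ∧ ∃ m : ℕ,
    classInner (fun c => χ.1 (i c)) β.1 = m ∧ ¬ p ∣ m

/-- The equivalence of irreducible characters induced by an isomorphism. -/
def irrEquiv {A B : Type*} [Group A] [Group B] (e : A ≃* B) : IrrCharacter B ≃ IrrCharacter A where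
  toFun χ := ⟨fun a => χ.1 (e a), isIrr_comp_surjective e.toMonoidHom e.surjective χ.2⟩
  invFun χ := ⟨fun b => χ.1 (e.symm b),
    isIrr_comp_surjective e.symm.toMonoidHom e.symm.surjective χ.2⟩
  left_inv χ := by ext b; simp
  right_inv χ := by ext a; simp

theorem irrEquiv_apply {A B : Type*} [Group A] [Group B] (e : A ≃* B) (χ : IrrCharacter B) (a : A) :
    (irrEquiv e χ).1 a = χ.1 (e a) := rfl

theorem irrEquiv_symm_apply {A B : Type*} [Group A] [Group B] (e : A ≃* B) (χ : IrrCharacter A)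
    (b : B) : ((irrEquiv e).symm χ).1 b = χ.1 (e.symm b) := rfl

theorem inner_equiv {A B : Type*} [Group A] [Group B] [Fintype A] [Fintype B] (e : A ≃* B)
    (f g : B → ℂ) : classInner (fun a => f (e a)) (fun a => g (e a)) = classInner f g := by
  rw [classInner_def, classInner_def, Nat.card_congr e.toEquiv]
  congr 1
  exact Fintype.sum_equiv e.toEquiv _ _ fun _ => rfl

/-- Transfer of correspondences along isomorphisms. -/
theorem GCP.transfer {p : ℕ} {G C G₁ C₁ : Type*} [Group G] [Group C] [Fintype C] [Group G₁]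
    [Group C₁] [Fintype C₁] {i : C →* G} {i₁ : C₁ →* G₁} {P : (G → ℂ) → Prop}
    {P₁ : (G₁ → ℂ) → Prop} (eG : G₁ ≃* G) (eC : C₁ ≃* C) (hi : ∀ c, i (eC c) = eG (i₁ c))
    (hP : ∀ χ : G → ℂ, P₁ (fun g => χ (eG g)) ↔ P χ) (h : GCP p i₁ P₁) : GCP p i P := by
  have key : ∀ (χ : IrrCharacter G) (β : IrrCharacter C),
      classInner (fun c => χ.1 (i c)) β.1 =
        classInner (fun c => (irrEquiv eG χ).1 (i₁ c)) (irrEquiv eC β).1 := by
    intro χ β
    rw [← inner_equiv eC]
    congr 1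
    funext c
    rw [hi]
    rfl
  have hP' : ∀ χ : IrrCharacter G, P₁ (irrEquiv eG χ).1 ↔ P χ.1 := fun χ => hP χ.1
  constructor
  · intro χ hχ
    obtain ⟨β, hβ, huniq⟩ := h.exu (irrEquiv eG χ) ((hP' χ).mpr hχ)
    refine ⟨(irrEquiv eC).symm β, ?_, ?_⟩
    · simp only [key, Equiv.apply_symm_apply]
      exact hβ
    · intro β' hβ'
      simp only [key] at hβ'
      rw [Equiv.eq_symm_apply]
      exact huniq _ hβ'
  · intro χ hχ β m hm
    rw [key] at hm
    exact h.pm _ ((hP' χ).mpr hχ) _ m hm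
  · intro χ χ' hχ hχ' β m m' hm hpm hm' hpm'
    rw [key] at hm hm'
    exact (irrEquiv eG).injective (h.inj _ _ ((hP' χ).mpr hχ) ((hP' χ').mpr hχ') _ m m' hm hpm
      hm' hpm')
  · intro β
    obtain ⟨χ, hχ, m, hm, hpm⟩ := h.surj (irrEquiv eC β)
    refine ⟨(irrEquiv eG).symm χ, ?_, m, ?_, hpm⟩
    · rw [← hP', Equiv.apply_symm_apply]
      exact hχ
    · rw [key, Equiv.apply_symm_apply]
      exact hm

/-- Congruence for a composition. -/
theorem comp_modEq {p : ℕ} {G D C : Type*} [Group G] [Group D] [Group C] [Fintype C]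
    [Fintype D] {i : D →* G} {j : C →* D} {χ : G → ℂ}
    (hχ : IsCharacter G χ) (θ : IrrCharacter D) (n : ℕ)
    (hn : classInner (fun d => χ (i d)) θ.1 = n)
    (hother : ∀ θ' : IrrCharacter D, θ' ≠ θ → ∀ m : ℕ,
      classInner (fun d => χ (i d)) θ'.1 = m → p ∣ m) (β : IrrCharacter C) {m k : ℕ}
    (hm : classInner (fun c => χ (i (j c))) β.1 = m)
    (hk : classInner (fun c => θ.1 (j c)) β.1 = k) : (m : ℤ) ≡ n * k [ZMOD p] := by
  classical
  have h1 : ∀ θ' : IrrCharacter D, ∃ a : ℕ, classInner (fun d => χ (i d)) θ'.1 = a := fun θ' =>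
    exists_nat_inner (isChar_comp i hχ) θ'.2
  have h2 : ∀ θ' : IrrCharacter D, ∃ a : ℕ, classInner (fun c => θ'.1 (j c)) β.1 = a := fun θ' =>
    exists_nat_inner (isChar_comp j (isChar_of_irr θ'.2)) β.2
  choose a ha using h1
  choose b hb using h2
  have h3 : (fun c => χ (i (j c))) = ∑ θ' : IrrCharacter D, (a θ' : ℂ) • fun c => θ'.1 (j c) := by
    funext c
    have := congrFun (char_eq_sum_inner (isChar_comp i hχ)) (j c)
    simp only [Finset.sum_apply, Pi.smul_apply, ha] at this ⊢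
    exact this
  have h4 : ∀ (u : Finset (IrrCharacter D)), classInner (∑ θ' ∈ u, (a θ' : ℂ) • fun c => θ'.1 (j c))
      β.1 = ((∑ θ' ∈ u, a θ' * b θ' : ℕ) : ℂ) := by
    intro u
    induction u using Finset.induction_on with
    | empty => simp [classInner_def]
    | insert x u hx ih =>
      rw [Finset.sum_insert hx, classInner_add_left, ih, classInner_smul_left, hb,
        Finset.sum_insert hx]
      push_cast; ring
  rw [h3, h4] at hm
  have h5 : m = ∑ θ', a θ' * b θ' := by exact_mod_cast hm.symm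
  rw [h5, ← Finset.add_sum_erase _ _ (Finset.mem_univ θ)]
  have h6 : a θ = n := by
    have := ha θ
    rw [hn] at this
    exact_mod_cast this.symm
  have h7 : b θ = k := by
    have := hb θ
    rw [hk] at this
    exact_mod_cast this.symm
  rw [h6, h7]
  push_cast
  have h8 : (p : ℤ) ∣ ∑ x ∈ Finset.univ.erase θ, (a x : ℤ) * b x := by
    apply Finset.dvd_sum
    intro x hx
    have h9 := hother x (Finset.ne_of_mem_erase hx) (a x) (ha x)
    exact Dvd.dvd.mul_right (by exact_mod_cast h9) _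
  have h10 := (Int.modEq_zero_iff_dvd).mpr h8
  calc ((n : ℤ) * k + ∑ x ∈ Finset.univ.erase θ, (a x : ℤ) * b x) ≡ n * k + 0 [ZMOD p] :=
        Int.ModEq.add_left _ h10
    _ = n * k := by rw [add_zero]

/-- Composition of correspondences. -/
theorem GCP.comp {p : ℕ} (hp : p.Prime) {G D C : Type*} [Group G] [Group D] [Group C] [Fintype C]
    [Fintype D] {i : D →* G} {j : C →* D} {P : (G → ℂ) → Prop} {Q : (D → ℂ) → Prop}
    (R : (G → ℂ) → Prop) (h1 : GCP p i P) (h2 : GCP p j Q) (hR : ∀ χ, R χ → P χ)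
    (hRQ : ∀ χ : IrrCharacter G, P χ.1 → ∀ θ : IrrCharacter D,
      (∃ m : ℕ, classInner (fun d => χ.1 (i d)) θ.1 = m ∧ ¬ p ∣ m) → (R χ.1 ↔ Q θ.1)) :
    GCP p (i.comp j) R := by
  have hpi : Prime (p : ℤ) := Nat.prime_iff_prime_int.mp hp
  -- the basic computation
  have key : ∀ χ : IrrCharacter G, P χ.1 → ∀ θ : IrrCharacter D, ∀ n : ℕ,
      classInner (fun d => χ.1 (i d)) θ.1 = n → ¬ p ∣ n → ∀ (β : IrrCharacter C) (m k : ℕ),
      classInner (fun c => χ.1 ((i.comp j) c)) β.1 = m →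
      classInner (fun c => θ.1 (j c)) β.1 = k → (m : ℤ) ≡ n * k [ZMOD p] := by
    intro χ hχ θ n hn hpn β m k hm hk
    refine comp_modEq (i := i) (j := j) (isChar_of_irr χ.2) θ n hn ?_ β hm hk
    intro θ' hne m' hm'
    by_contra hpm
    apply hne
    exact (h1.exu χ hχ).unique ⟨m', hm', hpm⟩ ⟨n, hn, hpn⟩
  have hdvd : ∀ {m n k : ℕ}, (m : ℤ) ≡ n * k [ZMOD p] → ¬ p ∣ n → (p ∣ m ↔ p ∣ k) := by
    intro m n k h hn
    have e1 : (p : ℤ) ∣ m ↔ (p : ℤ) ∣ n * k := by
      rw [← Int.modEq_zero_iff_dvd, ← Int.modEq_zero_iff_dvd]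
      exact ⟨fun h' => h.symm.trans h', fun h' => h.trans h'⟩
    have e2 : (p : ℤ) ∣ n * k ↔ (p : ℤ) ∣ k := by
      constructor
      · intro h'
        rcases hpi.dvd_or_dvd h' with h3 | h3
        · exact absurd (by exact_mod_cast h3) hn
        · exact h3
      · intro h'
        exact Dvd.dvd.mul_left h' _
    rw [← Int.natCast_dvd_natCast, e1, e2, Int.natCast_dvd_natCast]
  have hmid : ∀ χ : IrrCharacter G, R χ.1 → ∃ θ : IrrCharacter D, ∃ n : ℕ,
      classInner (fun d => χ.1 (i d)) θ.1 = n ∧ ¬ p ∣ n ∧ Q θ.1 ∧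
      ∀ (β : IrrCharacter C) (m : ℕ), classInner (fun c => χ.1 ((i.comp j) c)) β.1 = m →
        ¬ p ∣ m → ∃ k : ℕ, classInner (fun c => θ.1 (j c)) β.1 = k ∧ ¬ p ∣ k ∧
          (m : ℤ) ≡ n * k [ZMOD p] := by
    intro χ hχ
    obtain ⟨θ, ⟨n, hn, hpn⟩, -⟩ := h1.exu χ (hR _ hχ)
    refine ⟨θ, n, hn, hpn, (hRQ χ (hR _ hχ) θ ⟨n, hn, hpn⟩).mp hχ, ?_⟩
    intro β m hm hpm
    obtain ⟨k, hk⟩ := exists_nat_inner (isChar_comp j (isChar_of_irr θ.2)) β.2
    have h3 := key χ (hR _ hχ) θ n hn hpn β m k hm hk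
    exact ⟨k, hk, fun h => hpm ((hdvd h3 hpn).mpr h), h3⟩
  constructor
  · intro χ hχ
    obtain ⟨θ, n, hn, hpn, hQ, h3⟩ := hmid χ hχ
    obtain ⟨β, ⟨k, hk, hpk⟩, huniq⟩ := h2.exu θ hQ
    refine ⟨β, ?_, ?_⟩
    · obtain ⟨m, hm⟩ := exists_nat_inner (isChar_comp (i.comp j) (isChar_of_irr χ.2)) β.2
      have h4 := key χ (hR _ hχ) θ n hn hpn β m k hm hk
      exact ⟨m, hm, fun h => hpk ((hdvd h4 hpn).mp h)⟩
    · rintro β' ⟨m, hm, hpm⟩
      obtain ⟨k', hk', hpk', -⟩ := h3 β' m hm hpm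
      exact huniq β' ⟨k', hk', hpk'⟩
  · intro χ hχ β m hm hpm
    obtain ⟨θ, n, hn, hpn, hQ, h3⟩ := hmid χ hχ
    obtain ⟨k, hk, hpk, hmod⟩ := h3 β m hm hpm
    have h4 := h1.pm χ (hR _ hχ) θ n hn hpn
    have h5 := h2.pm θ hQ β k hk hpk
    rcases h4 with h4 | h4 <;> rcases h5 with h5 | h5
    · left
      simpa using hmod.trans (h4.mul h5)
    · right
      simpa using hmod.trans (h4.mul h5)
    · right
      simpa using hmod.trans (h4.mul h5)
    · left
      simpa using hmod.trans (h4.mul h5)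
  · intro χ χ' hχ hχ' β m m' hm hpm hm' hpm'
    obtain ⟨θ, n, hn, hpn, hQ, h3⟩ := hmid χ hχ
    obtain ⟨θ', n', hn', hpn', hQ', h3'⟩ := hmid χ' hχ'
    obtain ⟨k, hk, hpk, -⟩ := h3 β m hm hpm
    obtain ⟨k', hk', hpk', -⟩ := h3' β m' hm' hpm'
    have h4 := h2.inj θ θ' hQ hQ' β k k' hk hpk hk' hpk'
    subst h4
    exact h1.inj χ χ' (hR _ hχ) (hR _ hχ') θ n n' hn hpn hn' hpn'
  · intro β
    obtain ⟨θ, hQ, k, hk, hpk⟩ := h2.surj β
    obtain ⟨χ, hχ, n, hn, hpn⟩ := h1.surj θ
    refine ⟨χ, (hRQ χ hχ θ ⟨n, hn, hpn⟩).mpr hQ, ?_⟩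
    obtain ⟨m, hm⟩ := exists_nat_inner (isChar_comp (i.comp j) (isChar_of_irr χ.2)) β.2
    have h4 := key χ hχ θ n hn hpn β m k hm hk
    exact ⟨m, hm, fun h => hpk ((hdvd h4 hpn).mp h)⟩

section Sub

variable {Γ : Type*} [Group Γ]

/-- Invariance under conjugation by `S`. -/
def InvF (G S : Subgroup Γ) (χ : G → ℂ) : Prop :=
  ∀ s ∈ S, ∀ g g' : G, (g' : Γ) = s * g * s⁻¹ → χ g' = χ g

/-- Conjugation as an automorphism. -/
def cE (G : Subgroup Γ) {s : Γ} (hs : s ∈ Subgroup.normalizer (G : Set Γ)) : G ≃* G where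
  toFun g := ⟨s * g * s⁻¹, (Subgroup.mem_normalizer_iff.mp hs g).mp g.2⟩
  invFun g := ⟨s⁻¹ * g * s, by
    have := (Subgroup.mem_normalizer_iff.mp (inv_mem hs) g).mp g.2
    rwa [inv_inv] at this⟩
  left_inv g := by ext; simp [mul_assoc]
  right_inv g := by ext; simp [mul_assoc]
  map_mul' g h := by ext; simp [mul_assoc]

theorem cE_coe {G : Subgroup Γ} {s : Γ} (hs : s ∈ Subgroup.normalizer (G : Set Γ)) (g : G) :
    ((cE G hs g : G) : Γ) = s * g * s⁻¹ := rfl

theorem invF_iff {G S : Subgroup Γ} (hSG : S ≤ Subgroup.normalizer (G : Set Γ)) {χ : G → ℂ} :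
    InvF G S χ ↔ ∀ s (hs : s ∈ S), (fun g => χ (cE G (hSG hs) g)) = χ := by
  constructor
  · intro h s hs
    funext g
    exact h s hs g _ rfl
  · intro h s hs g g' hg
    have := congrFun (h s hs) g
    rw [← this]
    congr 1
    exact Subtype.ext hg

theorem le_normalizer_of {G S : Subgroup Γ} (h : ∀ s ∈ S, ∀ g ∈ G, s * g * s⁻¹ ∈ G) :
    S ≤ Subgroup.normalizer (G : Set Γ) := by
  intro t ht
  rw [Subgroup.mem_normalizer_iff]
  intro g
  refine ⟨h t ht g, fun h' => ?_⟩
  have := h t⁻¹ (inv_mem ht) _ h'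
  have e : t⁻¹ * (t * g * t⁻¹) * t⁻¹⁻¹ = g := by group
  rwa [e] at this

/-- The cyclic `p`-power case, top version. -/
theorem gc_top [Fintype Γ] {p : ℕ} (hp : p.Prime) {G C : Subgroup Γ} [hG : G.Normal] {s : Γ}
    (hcop : Nat.Coprime (Nat.card G) (orderOf s)) (htop : G ⊔ Subgroup.zpowers s = ⊤)
    (hs : ∃ k, orderOf s = p ^ k) [Fintype C]
    (hC : ∀ x, x ∈ C ↔ x ∈ G ∧ x * s = s * x) (hCG : C ≤ G) :
    GCP p (Subgroup.inclusion hCG) (InvF G (Subgroup.zpowers s)) := by
  classical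
  have hcan : ∀ χ : IrrCharacter G, InvF G (Subgroup.zpowers s) χ.1 →
      ∃ χh : Γ → ℂ, Canon G s χh ∧ (∀ n : G, χh n = χ.1 n) := by
    intro χ hχ
    obtain ⟨χh, h1, h2, -⟩ := exists_canon hcop htop χ.2 (by
      have h3 : (⊤ : Subgroup Γ) ≤ inertia χ.1 := by
        rw [← htop, sup_le_iff]
        refine ⟨le_inertia (isChar_classFn (isChar_of_irr χ.2)), ?_⟩
        intro t ht
        rw [mem_inertia]
        funext g
        exact hχ t ht g _ rfl
      intro g
      exact mem_inertia.mp (h3 (Subgroup.mem_top g)))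
    exact ⟨χh, h1, h2⟩
  -- congruences
  have hmod : ∀ (χh : Γ → ℂ), Canon G s χh → ∀ (β₀ : IrrCharacter C) (ε₀ : ℤ),
      (∀ c : C, χh (c * s) = ε₀ * β₀.1 c) → ∀ (β : IrrCharacter C) (m : ℕ),
      classInner (fun c : C => χh c) β.1 = m →
      (m : ℤ) ≡ if β = β₀ then ε₀ else 0 [ZMOD p] := by
    intro χh hχ β₀ ε₀ h β m hm
    have hA := isChar_A hC (isChar_of_irr hχ.irr) (isChar_of_irr β.2)
    have h1 : (fun z : Subgroup.zpowers s => (Nat.card C : ℂ)⁻¹ * ∑ c : C, χh (c * z) *
        conj (β.1 c)) ⟨s, Subgroup.mem_zpowers s⟩ = ((if β = β₀ then ε₀ else 0 : ℤ) : ℂ) := by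
      simp only [h]
      have h2 : (Nat.card C : ℂ)⁻¹ * ∑ c : C, (ε₀ : ℂ) * β₀.1 c * conj (β.1 c) =
          ε₀ * classInner β₀.1 β.1 := by
        rw [classInner_def, mul_left_comm, Finset.mul_sum, Finset.mul_sum, Finset.mul_sum]
        refine Finset.sum_congr rfl fun c _ => ?_
        ring
      rw [h2, irr_inner' β₀ β]
      by_cases h3 : β = β₀
      · rw [if_pos h3, if_pos h3.symm, mul_one]
      · rw [if_neg h3, if_neg (fun h => h3 h.symm), mul_zero, Int.cast_zero]
    have h2 : (fun z : Subgroup.zpowers s => (Nat.card C : ℂ)⁻¹ * ∑ c : C, χh (c * z) *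
        conj (β.1 c)) 1 = ((m : ℤ) : ℂ) := by
      simp only [Subgroup.coe_one, mul_one]
      rw [classInner_def] at hm
      rw [hm]; simp
    have h3 := int_dvd_sub hp hA (g := ⟨s, Subgroup.mem_zpowers s⟩) (by
      rw [Subgroup.orderOf_mk]; exact hs) h1 h2
    exact (Int.modEq_iff_dvd).mpr h3
  have hnd : ∀ {ε : ℤ}, (ε = 1 ∨ ε = -1) → ∀ {m : ℕ}, (m : ℤ) ≡ ε [ZMOD p] → ¬ p ∣ m := by
    intro ε hε m h hpm
    have h1 : (p : ℤ) ∣ m := by exact_mod_cast hpm
    have h2 : (p : ℤ) ∣ ε := by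
      rw [← Int.modEq_zero_iff_dvd] at h1 ⊢
      exact h.symm.trans h1
    have h3 : (p : ℤ) ∣ 1 := by
      rcases hε with e | e <;> rw [e] at h2
      · exact h2
      · exact (dvd_neg).mp h2
    have := Int.le_of_dvd (by norm_num) h3
    have := hp.two_le
    omega
  have hconv : ∀ (χ : IrrCharacter G) (χh : Γ → ℂ), (∀ n : G, χh n = χ.1 n) →
      (fun c : C => χ.1 (Subgroup.inclusion hCG c)) = fun c : C => χh c := by
    intro χ χh h
    funext c
    exact (h _).symm
  -- description of the correspondence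
  have hdesc : ∀ (χh : Γ → ℂ), Canon G s χh → ∀ (β₀ : IrrCharacter C) (ε₀ : ℤ),
      (ε₀ = 1 ∨ ε₀ = -1) → (∀ c : C, χh (c * s) = ε₀ * β₀.1 c) → ∀ (β : IrrCharacter C) (m : ℕ),
      classInner (fun c : C => χh c) β.1 = m → ¬ p ∣ m → β = β₀ ∧ (m : ℤ) ≡ ε₀ [ZMOD p] := by
    intro χh hχ β₀ ε₀ hε₀ h β m hm hpm
    have h1 := hmod χh hχ β₀ ε₀ h β m hm
    by_cases h2 : β = β₀
    · rw [if_pos h2] at h1
      exact ⟨h2, h1⟩
    · rw [if_neg h2, Int.modEq_zero_iff_dvd] at h1
      exact absurd (by exact_mod_cast h1) hpm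
  constructor
  · intro χ hχ
    obtain ⟨χh, hχh, hres⟩ := hcan χ hχ
    obtain ⟨β₀, ε₀, hε₀, h0⟩ := exists_corr hcop htop hC hχh
    rw [hconv χ χh hres]
    refine ⟨β₀, ?_, ?_⟩
    · obtain ⟨m, hm⟩ := exists_nat_inner (isChar_comp C.subtype (isChar_of_irr hχh.irr)) β₀.2
      refine ⟨m, hm, ?_⟩
      have := hmod χh hχh β₀ ε₀ h0 β₀ m hm
      rw [if_pos rfl] at this
      exact hnd hε₀ this
    · rintro β ⟨m, hm, hpm⟩
      exact (hdesc χh hχh β₀ ε₀ hε₀ h0 β m hm hpm).1
  · intro χ hχ β m hm hpm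
    obtain ⟨χh, hχh, hres⟩ := hcan χ hχ
    obtain ⟨β₀, ε₀, hε₀, h0⟩ := exists_corr hcop htop hC hχh
    rw [hconv χ χh hres] at hm
    have h1 := (hdesc χh hχh β₀ ε₀ hε₀ h0 β m hm hpm).2
    rcases hε₀ with e | e <;> rw [e] at h1
    · exact Or.inl h1
    · exact Or.inr h1
  · intro χ χ' hχ hχ' β m m' hm hpm hm' hpm'
    obtain ⟨χh, hχh, hres⟩ := hcan χ hχ
    obtain ⟨β₀, ε₀, hε₀, h0⟩ := exists_corr hcop htop hC hχh
    obtain ⟨χh', hχh', hres'⟩ := hcan χ' hχ'
    obtain ⟨β₀', ε₀', hε₀', h0'⟩ := exists_corr hcop htop hC hχh'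
    rw [hconv χ χh hres] at hm
    rw [hconv χ' χh' hres'] at hm'
    have h1 := (hdesc χh hχh β₀ ε₀ hε₀ h0 β m hm hpm).1
    have h2 := (hdesc χh' hχh' β₀' ε₀' hε₀' h0' β m' hm' hpm').1
    subst h1
    subst h2
    have h3 := corr_inj hcop hC hχh.irr hχh'.irr hχh.res hχh'.res β.2 hε₀ hε₀' h0 h0'
    apply Subtype.ext
    funext g
    have := congrFun h3 g
    exact (hres g).symm.trans (this.trans (hres' g))
  · intro β
    obtain ⟨χh, hχ, -, ε, hε, hβ⟩ := corr_surj hcop htop hC β
    refine ⟨⟨_, hχ.res⟩, ?_, ?_⟩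
    · intro t _ g g' hg
      simp only [hg]
      exact isChar_classFn (isChar_of_irr hχ.irr) _ _
    · obtain ⟨m, hm⟩ := exists_nat_inner (isChar_comp C.subtype (isChar_of_irr hχ.irr)) β.2
      refine ⟨m, hm, ?_⟩
      have := hmod χh hχ β ε hβ β m hm
      rw [if_pos rfl] at this
      exact hnd hε this

/-- The cyclic `p`-power case. -/
theorem gc_cyclic [Finite Γ] {p : ℕ} (hp : p.Prime) {G C : Subgroup Γ} {s : Γ}
    (hsG : s ∈ Subgroup.normalizer (G : Set Γ))
    (hcop : Nat.Coprime (Nat.card G) (orderOf s))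
    (hs : ∃ k, orderOf s = p ^ k) [Fintype C]
    (hC : ∀ x, x ∈ C ↔ x ∈ G ∧ x * s = s * x) (hCG : C ≤ G) :
    GCP p (Subgroup.inclusion hCG) (InvF G (Subgroup.zpowers s)) := by
  set K := G ⊔ Subgroup.zpowers s with hK
  have : Fintype K := Fintype.ofFinite _
  have hGK : G ≤ K := le_sup_left
  have hsK : s ∈ K := le_sup_right (a := G) (Subgroup.mem_zpowers s)
  have hCK : C ≤ K := hCG.trans hGK
  set G₁ := G.subgroupOf K with hG₁
  set C₁ := C.subgroupOf K with hC₁
  have : Fintype C₁ := Fintype.ofFinite _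
  set s₁ : K := ⟨s, hsK⟩ with hs₁
  have hG₁n : G₁.Normal := by
    rw [hG₁, Subgroup.normal_subgroupOf_iff_le_normalizer hGK, hK, sup_le_iff]
    exact ⟨Subgroup.le_normalizer, by rw [Subgroup.zpowers_le]; exact hsG⟩
  have hcard : Nat.card G₁ = Nat.card G := Nat.card_congr (Subgroup.subgroupOfEquivOfLe hGK).toEquiv
  have hord : orderOf s₁ = orderOf s := Subgroup.orderOf_mk _ _
  have hz : Subgroup.zpowers s₁ = (Subgroup.zpowers s).subgroupOf K := by
    ext x
    rw [Subgroup.mem_subgroupOf]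
    constructor
    · rintro ⟨i, rfl⟩
      exact ⟨i, rfl⟩
    · rintro ⟨i, hi⟩
      exact ⟨i, Subtype.ext hi⟩
  have htop : G₁ ⊔ Subgroup.zpowers s₁ = ⊤ := by
    rw [hz, hG₁, ← Subgroup.subgroupOf_sup hGK le_sup_right, Subgroup.subgroupOf_self]
  have hC' : ∀ x, x ∈ C₁ ↔ x ∈ G₁ ∧ x * s₁ = s₁ * x := by
    intro x
    rw [Subgroup.mem_subgroupOf, hC, Subgroup.mem_subgroupOf]
    refine and_congr_right fun _ => ?_
    rw [Subtype.ext_iff]
    rfl
  have hCG₁ : C₁ ≤ G₁ := fun x hx => ((hC' x).mp hx).1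
  have h := gc_top hp (G := G₁) (C := C₁) (s := s₁) (by rw [hcard, hord]; exact hcop) htop
    (by rw [hord]; exact hs) hC' hCG₁
  refine GCP.transfer (Subgroup.subgroupOfEquivOfLe hGK) (Subgroup.subgroupOfEquivOfLe hCK)
    (fun c => rfl) ?_ h
  intro χ
  constructor
  · intro h t ht g g' hg
    have htK : t ∈ K := le_sup_right (a := G) ht
    have := h ⟨t, htK⟩ (by rw [hz]; exact ht) ⟨⟨g, hGK g.2⟩, g.2⟩ ⟨⟨g', hGK g'.2⟩, g'.2⟩
      (Subtype.ext hg)
    exact this
  · intro h t ht g g' hg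
    rw [hz] at ht
    exact h t ht _ _ (congrArg Subtype.val hg)

/-- Equivariance of the multiplicities. -/
theorem inner_conj [Finite Γ] {G D : Subgroup Γ} [Fintype D] (hDG : D ≤ G) {s : Γ}
    (hsG : s ∈ Subgroup.normalizer (G : Set Γ)) (hsD : s ∈ Subgroup.normalizer (D : Set Γ))
    (χ : G → ℂ) (θ : D → ℂ) :
    classInner (fun d : D => χ (cE G hsG (Subgroup.inclusion hDG d))) (fun d => θ (cE D hsD d)) =
      classInner (fun d : D => χ (Subgroup.inclusion hDG d)) θ := by
  exact inner_equiv (cE D hsD) (fun d : D => χ (Subgroup.inclusion hDG d)) θ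

/-- Glauberman correspondence for `p`-groups. -/
theorem gc [Finite Γ] {p : ℕ} (hp : p.Prime) (G : Subgroup Γ) : ∀ (n : ℕ) (S C : Subgroup Γ)
    [Fintype C], Nat.card S = n → IsPGroup p S → S ≤ Subgroup.normalizer (G : Set Γ) →
    Nat.Coprime (Nat.card G) (Nat.card S) →
    (∀ x, x ∈ C ↔ x ∈ G ∧ ∀ s ∈ S, x * s = s * x) → ∀ (hCG : C ≤ G),
    GCP p (Subgroup.inclusion hCG) (InvF G S) := by
  classical
  intro n
  haveI := Fact.mk hp
  induction n using Nat.strong_induction_on with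
  | _ n ih =>
    intro S C _ hn hS hSG hcop hC hCG
    by_cases hS1 : Nat.card S = 1
    · -- trivial group
      have hSbot : S = ⊥ := Subgroup.card_eq_one.mp hS1
      subst hSbot
      have hCG' : C = G := by
        ext x
        rw [hC]
        simp
      subst hCG'
      have hi : ∀ (χ β : IrrCharacter C), classInner (fun c => χ.1 (Subgroup.inclusion hCG c)) β.1 =
          if χ = β then 1 else 0 := fun χ β => irr_inner' χ β
      constructor
      · intro χ _
        refine ⟨χ, ⟨1, by rw [hi, if_pos rfl, Nat.cast_one], hp.one_lt.ne' ∘ Nat.dvd_one.mp⟩, ?_⟩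
        rintro β ⟨m, hm, hpm⟩
        rw [hi] at hm
        by_contra hne
        rw [if_neg (fun h => hne h.symm)] at hm
        have : m = 0 := by exact_mod_cast hm.symm
        exact hpm (this ▸ dvd_zero p)
      · intro χ _ β m hm hpm
        rw [hi] at hm
        split_ifs at hm with h
        · left
          have : m = 1 := by exact_mod_cast hm.symm
          rw [this]; rfl
        · have : m = 0 := by exact_mod_cast hm.symm
          exact absurd (this ▸ dvd_zero p) hpm
      · intro χ χ' _ _ β m m' hm hpm hm' hpm'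
        have aux : ∀ (ψ : IrrCharacter C) (k : ℕ),
            classInner (fun c => ψ.1 (Subgroup.inclusion hCG c)) β.1 = k → ¬ p ∣ k → ψ = β := by
          intro ψ k hk hpk
          rw [hi] at hk
          by_contra hne
          rw [if_neg hne] at hk
          have : k = 0 := by exact_mod_cast hk.symm
          exact hpk (this ▸ dvd_zero p)
        rw [aux χ m hm hpm, aux χ' m' hm' hpm']
      · intro β
        refine ⟨β, ?_, 1, by rw [hi, if_pos rfl, Nat.cast_one], hp.one_lt.ne' ∘ Nat.dvd_one.mp⟩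
        intro s hs g g' hg
        rw [Subgroup.mem_bot] at hs
        subst hs
        have e : g' = g := Subtype.ext (by rw [hg]; group)
        rw [e]
    · -- a maximal subgroup `T`
      haveI : Nontrivial S := by
        rw [← Finite.one_lt_card_iff_nontrivial]
        have := Nat.card_pos (α := S)
        omega
      obtain ⟨T₀, hT₀⟩ := IsCoatomic.exists_coatom (α := Subgroup S)
      have hnil : Group.IsNilpotent S := hS.isNilpotent
      have hT₀n : T₀.Normal := Nilp.coatom_normal_of_nilpotent hT₀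
      obtain ⟨⟨t, htS⟩, htT⟩ : ∃ t : S, t ∉ T₀ := by
        by_contra h
        push Not at h
        exact hT₀.1 ((Subgroup.eq_top_iff' _).mpr h)
      set T := T₀.map S.subtype with hT
      have hTS : T ≤ S := Subgroup.map_subtype_le T₀
      have htT' : t ∉ T := by
        rintro ⟨x, hx, hxt⟩
        apply htT
        have : x = ⟨t, htS⟩ := Subtype.ext hxt
        rwa [← this]
      have hST : S ≤ Subgroup.normalizer (T : Set Γ) := by
        apply le_normalizer_of
        rintro s hs _ ⟨x, hx, rfl⟩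
        exact ⟨⟨s, hs⟩ * x * ⟨s, hs⟩⁻¹, hT₀n.conj_mem x hx _, rfl⟩
      have hSgen : S = T ⊔ Subgroup.zpowers t := by
        apply le_antisymm
        · have h1 : T₀ ⊔ Subgroup.zpowers (⟨t, htS⟩ : S) = ⊤ := by
            apply hT₀.2
            refine lt_of_le_of_ne le_sup_left ?_
            intro h
            apply htT
            rw [h]
            exact Subgroup.mem_sup_right (Subgroup.mem_zpowers _)
          have h2 := congrArg (Subgroup.map S.subtype) h1
          rw [Subgroup.map_sup, MonoidHom.map_zpowers, ← MonoidHom.range_eq_map,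
            Subgroup.range_subtype] at h2
          rw [← h2]
          rfl
        · rw [sup_le_iff, Subgroup.zpowers_le]
          exact ⟨hTS, htS⟩
      have hTcard : Nat.card T < n := by
        rw [← hn]
        by_contra hcon
        exact htT' ((Subgroup.eq_of_le_of_card_ge hTS (not_lt.mp hcon)) ▸ htS)
      -- the fixed points of `T`
      set D : Subgroup Γ := G ⊓ Subgroup.centralizer (T : Set Γ) with hD
      have : Fintype D := Fintype.ofFinite _
      have hDmem : ∀ x, x ∈ D ↔ x ∈ G ∧ ∀ s ∈ T, x * s = s * x := by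
        intro x
        rw [hD, Subgroup.mem_inf, Subgroup.mem_centralizer_iff]
        exact and_congr_right fun _ => forall₂_congr fun s _ => eq_comm
      have hDG : D ≤ G := inf_le_left
      have hSD : S ≤ Subgroup.normalizer (D : Set Γ) := by
        apply le_normalizer_of
        intro s hs g hg
        rw [hDmem] at hg ⊢
        refine ⟨(Subgroup.mem_normalizer_iff.mp (hSG hs) g).mp hg.1, fun x hx => ?_⟩
        have h1 : s⁻¹ * x * s ∈ T := by
          have := (Subgroup.mem_normalizer_iff.mp (inv_mem (hST hs)) x).mp hx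
          rwa [inv_inv] at this
        have h2 := hg.2 _ h1
        calc s * g * s⁻¹ * x = s * (g * (s⁻¹ * x * s)) * s⁻¹ := by group
          _ = s * ((s⁻¹ * x * s) * g) * s⁻¹ := by rw [h2]
          _ = x * (s * g * s⁻¹) := by group
      have hCD : C ≤ D := by
        intro x hx
        rw [hDmem]
        exact ⟨((hC x).mp hx).1, fun s hs => ((hC x).mp hx).2 s (hTS hs)⟩
      have hC' : ∀ x, x ∈ C ↔ x ∈ D ∧ x * t = t * x := by
        intro x
        constructor
        · intro hx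
          exact ⟨hCD hx, ((hC x).mp hx).2 t htS⟩
        · rintro ⟨hx, hxt⟩
          rw [hDmem] at hx
          rw [hC]
          refine ⟨hx.1, ?_⟩
          have h1 : S ≤ Subgroup.centralizer ({x} : Set Γ) := by
            rw [hSgen, sup_le_iff, Subgroup.zpowers_le]
            constructor
            · intro s hs
              rw [Subgroup.mem_centralizer_iff]
              intro y hy
              rw [Set.mem_singleton_iff.mp hy]
              exact hx.2 s hs
            · rw [Subgroup.mem_centralizer_iff]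
              intro y hy
              rw [Set.mem_singleton_iff.mp hy]
              exact hxt
          intro s hs
          exact (Subgroup.mem_centralizer_iff.mp (h1 hs)) x rfl
      have hcopT : Nat.Coprime (Nat.card G) (Nat.card T) :=
        hcop.coprime_dvd_right (Subgroup.card_dvd_of_le hTS)
      have hcopt : Nat.Coprime (Nat.card D) (orderOf t) := by
        apply (hcop.coprime_dvd_left (Subgroup.card_dvd_of_le hDG)).coprime_dvd_right
        rw [← Nat.card_zpowers]
        exact Subgroup.card_dvd_of_le (by rw [Subgroup.zpowers_le]; exact htS)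
      have htp : ∃ k, orderOf t = p ^ k := by
        have h1 := (IsPGroup.iff_orderOf.mp hS) ⟨t, htS⟩
        rwa [Subgroup.orderOf_mk] at h1
      have h1 := ih (Nat.card T) hTcard T D rfl (hS.to_le hTS) (hTS.trans hSG) hcopT hDmem hDG
      have h2 := gc_cyclic hp (hSD htS) hcopt htp hC' hCD
      have hcomp : Subgroup.inclusion hCG = (Subgroup.inclusion hDG).comp
          (Subgroup.inclusion hCD) := rfl
      rw [hcomp]
      refine GCP.comp hp (InvF G S) h1 h2 ?_ ?_
      · intro χ hχ s hs g g' hg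
        exact hχ s (hTS hs) g g' hg
      · rintro χ hχT θ ⟨m, hm, hpm⟩
        have hconjm : ∀ (s : Γ) (hs : s ∈ S) (k : ℕ) (χ' : IrrCharacter G) (θ' : IrrCharacter D),
            classInner (fun d => χ'.1 (Subgroup.inclusion hDG d)) θ'.1 = k →
            classInner (fun d => (irrEquiv (cE G (hSG hs)) χ').1 (Subgroup.inclusion hDG d))
              (irrEquiv (cE D (hSD hs)) θ').1 = k := by
          intro s hs k χ' θ' hk
          exact (inner_conj hDG (hSG hs) (hSD hs) χ'.1 θ'.1).trans hk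
        constructor
        · intro hχ
          have h3 : InvF D S θ.1 := by
            rw [invF_iff hSD]
            intro s hs
            have h4 := hconjm s hs m χ θ hm
            have h5 : irrEquiv (cE G (hSG hs)) χ = χ :=
              Subtype.ext ((invF_iff hSG).mp hχ s hs)
            rw [h5] at h4
            have h6 := (h1.exu χ hχT).unique ⟨m, h4, hpm⟩ ⟨m, hm, hpm⟩
            exact congrArg Subtype.val h6
          intro s hs g g' hg
          exact h3 s (by
            have : Subgroup.zpowers t ≤ S := by rw [Subgroup.zpowers_le]; exact htS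
            exact this hs) g g' hg
        · intro hθ
          -- `θ` is `S`-invariant
          have h3 : ∀ s (hs : s ∈ S), irrEquiv (cE D (hSD hs)) θ = θ := by
            have h4 : ∀ s ∈ S, ∀ g g' : D, (g' : Γ) = s * g * s⁻¹ → θ.1 g' = θ.1 g := by
              intro s hs g g' hg
              have h7 : (⟨s, hs⟩ : S) ∈ T₀ ⊔ Subgroup.zpowers (⟨t, htS⟩ : S) := by
                have : T₀ ⊔ Subgroup.zpowers (⟨t, htS⟩ : S) = ⊤ := by
                  apply hT₀.2
                  refine lt_of_le_of_ne le_sup_left ?_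
                  intro h
                  apply htT
                  rw [h]
                  exact Subgroup.mem_sup_right (Subgroup.mem_zpowers _)
                rw [this]
                exact Subgroup.mem_top _
              rw [Subgroup.mem_sup_of_normal_left] at h7
              obtain ⟨x, hx, _, ⟨i, rfl⟩, hxi⟩ := h7
              have h8 : s = (x : Γ) * t ^ i := by
                have := congrArg Subtype.val hxi
                simpa using this.symm
              have h9 : (x : Γ) ∈ T := ⟨x, hx, rfl⟩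
              have hti : t ^ i ∈ S := zpow_mem htS i
              have h10 : (g' : Γ) = t ^ i * g * (t ^ i)⁻¹ := by
                have h11 := ((hDmem _).mp (cE D (hSD hti) g).2).2 x h9
                rw [cE_coe] at h11
                rw [hg, h8]
                calc (x : Γ) * t ^ i * g * ((x : Γ) * t ^ i)⁻¹
                    = x * (t ^ i * g * (t ^ i)⁻¹) * (x : Γ)⁻¹ := by group
                  _ = (t ^ i * g * (t ^ i)⁻¹) * x * (x : Γ)⁻¹ := by rw [h11]
                  _ = _ := by group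
              exact hθ (t ^ i) ⟨i, rfl⟩ g g' h10
            intro s hs
            apply Subtype.ext
            exact (invF_iff hSD).mp h4 s hs
          rw [invF_iff hSG]
          intro s hs
          have h4 := hconjm s hs m χ θ hm
          rw [h3 s hs] at h4
          have h5 : InvF G T (irrEquiv (cE G (hSG hs)) χ).1 := by
            intro x hx g g' hg
            rw [irrEquiv_apply, irrEquiv_apply]
            apply hχT (s * x * s⁻¹) ((Subgroup.mem_normalizer_iff.mp (hST hs) x).mp hx)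
            rw [cE_coe, cE_coe, hg]
            group
          have h6 := h1.inj _ χ h5 hχT θ m m h4 hpm hm hpm
          exact congrArg Subtype.val h6

end Sub

end

end Cfsg.Agent.Lib.CharGC
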