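import Cfsg.Agent.Lib.BlockRey
import Cfsg.Agent.Lib.BlockKB
import Cfsg.Agent.Lib.BlockLar
import Cfsg.Agent.Lib.BlockMaxB
import Cfsg.Agent.Lib.BlockIndIn
import Cfsg.Agent.Lib.BlockBFM

import Cfsg.Agent.Lib.BlkH6H
import Cfsg.Agent.S4444
import Cfsg.Agent.Lib.BlkH6G
import Cfsg.Agent.Lib.BlkH6F
import Cfsg.Agent.Lib.BlkH5T
import Cfsg.Agent.Lib.BlkH5U
import Cfsg.Agent.Lib.BlkH5V
import Cfsg.Agent.Lib.BlkH5W
import Cfsg.Agent.Lib.BlkH5X
import Cfsg.Agent.Lib.BlkH5Q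
import Cfsg.Agent.Lib.BlkH5R
import Cfsg.Agent.Lib.BlkH5S
import Cfsg.Agent.Lib.BlockLoc
import Cfsg.Agent.Lib.BlockGA
import Cfsg.Agent.Lib.BlockOrth
import Cfsg.Agent.Lib.BlockFirst
import Cfsg.Agent.Lib.BlockCov
import Cfsg.Agent.Lib.BlockCovB
import Cfsg.Agent.Lib.BlockNilC
import Cfsg.Agent.Lib.BlockNilB
import Cfsg.Agent.Lib.BlockDef
import Cfsg.Agent.Lib.BlockDeg
import Cfsg.Agent.Lib.BlockRed
import Cfsg.Agent.Lib.BlockIdem
import Cfsg.Agent.Lib.BlockTr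
import Cfsg.Agent.Lib.BlockInd
import Cfsg.Agent.Lib.BlockSecond
import Cfsg.Agent.Lib.BlockPair
import Cfsg.Agent.Lib.BlockPairB
import Cfsg.Agent.Lib.BlockPairC
import Cfsg.Agent.Lib.BlockPairD
import Cfsg.Agent.Lib.BlockPairE
import Cfsg.Agent.Lib.BlockBP
import Cfsg.Agent.Lib.BlockMaxB
import Cfsg.Agent.Lib.BlockMax
import Cfsg.Agent.Lib.PCon
import Cfsg.Agent.Lib.PConB
import Cfsg.Agent.Lib.HallHigman
import Cfsg.Agent.Lib.CharBasic

/-!
Glauberman correspondence and Brauer pairs of blocks over invariant characters.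
-/

set_option autoImplicit false
set_option linter.style.haveILetI false
set_option linter.unusedVariables false
set_option linter.unusedSectionVars false
set_option linter.unusedDecidableInType false
set_option linter.unusedFintypeInType false
set_option linter.unusedSimpArgs false

namespace Cfsg.Agent.Lib.BlkH6I
open Cfsg Cfsg.Agent.Lib.BlockLoc Cfsg.Agent.Lib.BlockGA Cfsg.Agent.Lib.CharBasic
open Cfsg.Agent.Lib.BlockIdem Cfsg.Agent.Lib.BlockPP Cfsg.Agent.Lib.BlockOrth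
open Cfsg.Agent.Lib.BlockRed Cfsg.Agent.Lib.BlockDef Cfsg.Agent.Lib.BlockDeg
open Cfsg.Agent.Lib.BlockNP Cfsg.Agent.Lib.BlockInd Cfsg.Agent.Lib.BlockSecond
open Cfsg.Agent.Lib.BlockFirst Cfsg.Agent.Lib.BlockHt Cfsg.Agent.Lib.BlockM
open Cfsg.Agent.Lib.BlockCov Cfsg.Agent.Lib.BlockQuot Cfsg.Agent.Lib.CharKer
open Cfsg.Agent.Lib.BlockQuotB Cfsg.Agent.Lib.BlockMore Cfsg.Agent.Lib.BlockMoreB
open Cfsg.Agent.Lib.BlockTr Cfsg.Agent.Lib.CharNormal Cfsg.Agent.Lib.BlockCovB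
open Cfsg.Agent.Lib.BlockBP Cfsg.Agent.Lib.BlockInt Cfsg.Agent.Lib.BlockSum Cfsg.Agent.Lib.BlockRk
open Cfsg.Agent.Lib.BlockFusB Cfsg.Agent.Lib.BlockMax Cfsg.Agent.Lib.CharSplit Cfsg.Agent.Lib.CharBrauer
open Cfsg.Agent.Lib.CharInd Cfsg.Agent.Lib.BlockPC Cfsg.Agent.Lib.BlockPair Cfsg.Agent.Lib.BlockPairB
open Cfsg.Agent.Lib.BlockPairC Cfsg.Agent.Lib.BlockPairD Cfsg.Agent.Lib.BlockPairE
open Cfsg.Agent.Lib.BlockRey Cfsg.Agent.Lib.BlockPairF Cfsg.Agent.Lib.BlockFus Cfsg.Agent.Lib.BlockNilB Cfsg.Agent.Lib.BlockNil Cfsg.Agent.Lib.CharClifford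
open Cfsg.Agent.Lib.BlockKB Cfsg.Agent.Lib.BlockLar Cfsg.Agent.Lib.BlockMaxB Cfsg.Agent.Lib.BlockIndIn Cfsg.Agent.Lib.BlockBFM
open Cfsg.Agent.Lib.BlkH6H Cfsg.Agent.Lib.BlkH6G Cfsg.Agent.Lib.BlkH6F Cfsg.Agent.Lib.BlkH5T Cfsg.Agent.Lib.BlkH5U Cfsg.Agent.Lib.BlkH5V Cfsg.Agent.Lib.BlkH5W Cfsg.Agent.Lib.BlkH5X Cfsg.Agent.Lib.BlkH5Q Cfsg.Agent.Lib.BlkH5R Cfsg.Agent.Lib.BlkH5S Cfsg.Agent.Lib.BlockLoc Cfsg.Agent.Lib.BlockGA Cfsg.Agent.Lib.BlockOrth Cfsg.Agent.Lib.BlockFirst Cfsg.Agent.Lib.BlockCov Cfsg.Agent.Lib.BlockCovB Cfsg.Agent.Lib.BlockNilC Cfsg.Agent.Lib.BlockNilB Cfsg.Agent.Lib.BlockDef Cfsg.Agent.Lib.BlockDeg Cfsg.Agent.Lib.BlockRed Cfsg.Agent.Lib.BlockIdem Cfsg.Agent.Lib.BlockTr Cfsg.Agent.Lib.BlockInd Cfsg.Agent.Lib.BlockSecond Cfsg.Agent.Lib.BlockPair Cfsg.Agent.Lib.BlockPairB Cfsg.Agent.Lib.BlockPairC Cfsg.Agent.Lib.BlockPairD Cfsg.Agent.Lib.BlockPairE Cfsg.Agent.Lib.BlockBP Cfsg.Agent.Lib.BlockMaxB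 Cfsg.Agent.Lib.BlockMax Cfsg.Agent.Lib.PCon Cfsg.Agent.Lib.PConB Cfsg.Agent.Lib.HallHigman Cfsg.Agent.Lib.CharBasic
open scoped ComplexConjugate


section GlaubMult

variable {G : Type*} [Group G] [Fintype G] {p : ℕ} {M : Ideal AlgInt} {N : Subgroup G}
  [hN : N.Normal] [Fintype N]

theorem eX_loc_single (hM : IsPModular p M) (hNp : ¬ p ∣ Nat.card N) (θ : IrrCharacter N) :
    IsLoc M (eB ({θ} : Set (IrrCharacter N))) :=
  isLoc_eB hM (single_block hM hNp θ)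

theorem om_res_single (θ : IrrCharacter N) {T : Subgroup G} [Fintype T] (hTN : T ≤ N)
    (β : IrrCharacter T) :
    om β.1 (resGA T (extGA N (eB ({θ} : Set (IrrCharacter N))))) =
      (Nat.card N : ℂ)⁻¹ * θ.1 1 * (Nat.card T : ℂ) / β.1 1 *
        conj (classInner (fun c : T => θ.1 ⟨c, hTN c.2⟩) β.1) := by
  classical
  rw [om_eq]
  unfold classInner
  rw [map_mul, map_inv₀, map_sum, Complex.conj_natCast]
  have hT : (Nat.card T : ℂ) ≠ 0 := Nat.cast_ne_zero.2 Nat.card_pos.ne'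
  have h1 : ∀ c : T, (resGA T (extGA N (eB ({θ} : Set (IrrCharacter N))))) c =
      (Nat.card N : ℂ)⁻¹ * (θ.1 1 * conj (θ.1 ⟨c, hTN c.2⟩)) := by
    intro c
    change (extGA N (eB ({θ} : Set (IrrCharacter N)))) (c : G) = _
    rw [extGA_pos (hTN c.2), eB_apply, blockCoeff_eq]
    congr 1
    rw [show Finset.univ.filter (· ∈ ({θ} : Set (IrrCharacter N))) = {θ} by
      ext χ; simp]
    rw [Finset.sum_singleton]
    congr 1
    exact char_inv (isChar_of_irr θ.2) _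
  simp only [map_mul, Complex.conj_conj]
  have h2 : β.1 1 ≠ 0 := isIrr_one_ne_zero β.2
  rw [Finset.mul_sum, Finset.sum_div, Finset.mul_sum]
  refine Finset.sum_congr rfl fun c _ => ?_
  rw [h1]
  field_simp

theorem gStab_single {θ : IrrCharacter N} (hθ : GStab (G := G) ({θ} : Set (IrrCharacter N))) (s : G)
    (g g' : N) (h : (g' : G) = s * g * s⁻¹) : θ.1 g' = θ.1 g := by
  have h1 := hθ θ rfl s
  rw [Set.mem_singleton_iff] at h1
  have h2 := congrFun (congrArg Subtype.val h1) g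
  rw [cjI_coe] at h2
  rw [← h2]
  change θ.1 g' = θ.1 ⟨s * g * s⁻¹, hN.conj_mem _ g.2 s⟩
  have h3 : g' = ⟨s * g * s⁻¹, hN.conj_mem _ g.2 s⟩ := Subtype.ext h
  rw [h3]

theorem glaub_mult (hM : IsPModular p M) (hNp : ¬ p ∣ Nat.card N) {θ : IrrCharacter N}
    (hθ : GStab (G := G) ({θ} : Set (IrrCharacter N))) {T : Subgroup G} [Fintype T] (hTN : T ≤ N)
    {β : IrrCharacter T} (h : lam hM β.1 (resGA T (eX hM N ({θ} : Set (IrrCharacter N)))) ≠ 0) :
    ∃ m : ℕ, classInner (fun c : T => θ.1 ⟨c, hTN c.2⟩) β.1 = (m : ℂ) ∧ ¬ p ∣ m := by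
  haveI := factP hM
  have hchar : IsCharacter T (fun c : T => θ.1 ⟨c, hTN c.2⟩) :=
    isChar_comp (Subgroup.inclusion hTN) (isChar_of_irr θ.2)
  obtain ⟨m, hm⟩ := Cfsg.Agent.Lib.CharBasic.exists_nat_inner hchar β.2
  refine ⟨m, hm, fun hpm => h ?_⟩
  have hl : IsLoc M (extGA N (eB ({θ} : Set (IrrCharacter N)))) := by
    intro g
    by_cases hg : g ∈ N
    · rw [extGA_pos hg]; exact eX_loc_single hM hNp θ _
    · rw [extGA_neg hg]; exact loc_zero hM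
  have hcl : IsCl (extGA N (eB ({θ} : Set (IrrCharacter N)))) := extGA_isCl (eB_gInv hθ)
  rw [eX_eq, ← rd_resGA, lam_rd hM β.2 (fun g n => hcl g n) (fun g => hl g), om_res_single θ hTN β, hm,
    Complex.conj_natCast]
  have hTp : ¬ p ∣ Nat.card T := fun h => hNp (h.trans (Subgroup.card_dvd_of_le hTN))
  have hβp : ¬ p ∣ charDegree β.1 := fun h => hTp (h.trans (charDegree_dvd β.2))
  have hl1 : MemLocalRing M ((Nat.card N : ℂ)⁻¹ * θ.1 1 * (Nat.card T : ℂ) / β.1 1) := by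
    rw [← charDegree_cast (isChar_of_irr β.2), ← charDegree_cast (isChar_of_irr θ.2)]
    refine loc_div hM (loc_mul hM (loc_mul hM (loc_inv hM (loc_natCast hM _) ?_) (loc_natCast hM _))
      (loc_natCast hM _)) (loc_natCast hM _) ?_
    · rw [max_natCast_iff hM]; exact hNp
    · rw [max_natCast_iff hM]; exact hβp
  have hmx : MemLocalIdeal M ((Nat.card N : ℂ)⁻¹ * θ.1 1 * (Nat.card T : ℂ) / β.1 1 * (m : ℂ)) :=
    max_mul_left hM hl1 ((max_natCast_iff hM m).2 hpm)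
  exact (red_eq_zero_iff hM (loc_of_max hmx)).2 hmx

theorem glaub_unique (hM : IsPModular p M) (hNp : ¬ p ∣ Nat.card N) {θ : IrrCharacter N}
    (hθ : GStab (G := G) ({θ} : Set (IrrCharacter N))) {R : Subgroup G} (hR : IsPGroup p R)
    {T : Subgroup G} [Fintype T] (hT : T = N ⊓ Subgroup.centralizer (R : Set G))
    {β β' : IrrCharacter T} (h : lam hM β.1 (resGA T (eX hM N ({θ} : Set (IrrCharacter N)))) ≠ 0)
    (h' : lam hM β'.1 (resGA T (eX hM N ({θ} : Set (IrrCharacter N)))) ≠ 0) : β = β' := by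
  haveI := factP hM
  have hTN : T ≤ N := by rw [hT]; exact inf_le_left
  have hcop : (Nat.card N).Coprime (Nat.card R) := by
    obtain ⟨k, hk⟩ := IsPGroup.iff_card.1 hR
    rw [hk]
    exact (Nat.Coprime.pow_left k ((Nat.Prime.coprime_iff_not_dvd hM.1).2 hNp)).symm
  have hg := (Cfsg.Agent.S4444.result N R (fun s _ g hg => hN.conj_mem g hg s) hcop p hM.1 hR T hT hTN).1
    θ (fun s _ g g' h => gStab_single hθ s g g' h)
  obtain ⟨b, _, hu⟩ := hg
  rw [hu β (glaub_mult hM hNp hθ hTN h), hu β' (glaub_mult hM hNp hθ hTN h')]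

end GlaubMult

section LocalSylow

variable {G : Type*} [Group G] [Fintype G] {p : ℕ}

theorem not_dvd_relIndex_of_fac (hp : p.Prime) {Q L : Subgroup G} (hQL : Q ≤ L)
    (h : (Nat.card L).factorization p ≤ (Nat.card Q).factorization p) : ¬ p ∣ Q.relIndex L := by
  have h1 : Q.relIndex L * Nat.card Q = Nat.card L := by
    have h0 := Subgroup.card_mul_index (Q.subgroupOf L)
    rw [Nat.card_congr (Subgroup.subgroupOfEquivOfLe hQL).toEquiv, mul_comm] at h0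
    exact h0
  have h2 : Q.relIndex L ≠ 0 := by
    intro h0
    rw [h0, zero_mul] at h1
    exact Nat.card_pos.ne h1
  intro hd
  have h3 := (hp.dvd_iff_one_le_factorization h2).1 hd
  rw [← h1, Nat.factorization_mul h2 Nat.card_pos.ne', Finsupp.add_apply] at h
  omega

theorem exists_local_sylow (hp : p.Prime) {L R : Subgroup G} [hL : L.Normal] (hR : IsPGroup p R) :
    ∃ Q : Subgroup G, IsPGroup p Q ∧ Q ≤ L ∧ ¬ p ∣ Q.relIndex L ∧
      (∀ r ∈ R, ∀ q ∈ Q, r * q * r⁻¹ ∈ Q) ∧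
      ¬ p ∣ (Q ⊓ Subgroup.centralizer (R : Set G)).relIndex (L ⊓ Subgroup.centralizer (R : Set G)) := by
  haveI := Fact.mk hp
  set C := Subgroup.centralizer (R : Set G) with hC
  obtain ⟨S⟩ : Nonempty (Sylow p ((L ⊓ C : Subgroup G))) := inferInstance
  set Q₁ : Subgroup G := (S : Subgroup (L ⊓ C : Subgroup G)).map (L ⊓ C : Subgroup G).subtype with hQ₁
  have hQ₁p : IsPGroup p Q₁ := S.2.map _
  have hQ₁le : Q₁ ≤ L ⊓ C := Subgroup.map_subtype_le _
  have hQ₁i : ¬ p ∣ Q₁.relIndex (L ⊓ C) := by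
    have h1 : Q₁.relIndex (L ⊓ C) = (S : Subgroup (L ⊓ C : Subgroup G)).index := by
      unfold Subgroup.relIndex
      congr 1
      exact Subgroup.comap_map_eq_self_of_injective (Subgroup.subtype_injective _) _
    rw [h1]
    exact S.not_dvd_index
  have hsup : IsPGroup p (R ⊔ Q₁ : Subgroup G) := by
    apply IsPGroup.to_sup_of_normal_left' hR hQ₁p
    intro q hq
    exact Subgroup.centralizer_le_normalizer _ (hQ₁le hq).2
  obtain ⟨P₁, hP₁⟩ := hsup.exists_le_sylow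
  refine ⟨(P₁ : Subgroup G) ⊓ L, P₁.2.to_le inf_le_left, inf_le_right, ?_, ?_, ?_⟩
  · obtain ⟨d, hd⟩ := IsPGroup.iff_card.1 P₁.2
    obtain ⟨m, hm⟩ := IsPGroup.iff_card.1 (P₁.2.to_le (inf_le_left : (P₁ : Subgroup G) ⊓ L ≤ P₁))
    haveI : Fintype L := Fintype.ofFinite _
    have h1 := fac_sup (N := L) hp hd hm
    have h2 : (Nat.card (P₁ ⊔ L : Subgroup G)).factorization p ≤ d := by
      have h3 : (Nat.card (P₁ ⊔ L : Subgroup G)).factorization p ≤ (Nat.card G).factorization p :=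
        (Nat.factorization_le_iff_dvd Nat.card_pos.ne' Nat.card_pos.ne').2
          (Subgroup.card_subgroup_dvd_card _) p
      have h4 := P₁.card_eq_multiplicity
      rw [hd] at h4
      have h5 := Nat.pow_right_injective hp.two_le h4
      omega
    apply not_dvd_relIndex_of_fac hp inf_le_right
    rw [hm, hp.factorization_pow, Finsupp.single_eq_same]
    omega
  · intro r hr q hq
    refine ⟨?_, hL.conj_mem _ hq.2 r⟩
    have hrP : r ∈ (P₁ : Subgroup G) := hP₁ (Subgroup.mem_sup_left hr)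
    exact (P₁ : Subgroup G).mul_mem ((P₁ : Subgroup G).mul_mem hrP hq.1) ((P₁ : Subgroup G).inv_mem hrP)
  · intro hd
    apply hQ₁i
    refine hd.trans ?_
    apply Subgroup.relIndex_dvd_of_le_left
    refine le_inf (le_inf ?_ (hQ₁le.trans inf_le_left)) (hQ₁le.trans inf_le_right)
    exact le_sup_right.trans hP₁

theorem sup_eq_of_sylow (hp : p.Prime) {N L Q : Subgroup G} [N.Normal] (hNL : N ≤ L)
    (hidx : ∃ k : ℕ, (N.subgroupOf L).index = p ^ k) (hQL : Q ≤ L) (hQS : ¬ p ∣ Q.relIndex L) :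
    Q ⊔ N = L := by
  apply le_antisymm (sup_le hQL hNL)
  obtain ⟨k, hk⟩ := hidx
  have h1 : (Q ⊔ N).relIndex L ∣ p ^ k := by
    rw [← hk]; exact Subgroup.relIndex_dvd_of_le_left L le_sup_right
  have h2 : (Q ⊔ N).relIndex L ∣ Q.relIndex L := Subgroup.relIndex_dvd_of_le_left L le_sup_left
  rw [← Subgroup.relIndex_eq_one]
  have h3 : Nat.Coprime (p ^ k) (Q.relIndex L) :=
    Nat.Coprime.pow_left k ((Nat.Prime.coprime_iff_not_dvd hp).2 hQS)
  exact Nat.eq_one_of_dvd_coprimes h3 h1 h2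

theorem local_constr (hp : p.Prime) {N L : Subgroup G} [hN : N.Normal] [hL : L.Normal] (hNL : N ≤ L)
    (hNp : ¬ p ∣ Nat.card N) (hidx : ∃ k : ℕ, (N.subgroupOf L).index = p ^ k) {Q₀ : Subgroup G}
    (hQ₀ : IsPGroup p Q₀) (hQ₀L : Q₀ ≤ L)
    (hCQ : ∀ y ∈ Subgroup.centralizer (Q₀ : Set G), ¬ p ∣ orderOf y → y ∈ L)
    {R Q : Subgroup G} (hR : IsPGroup p R) (hQ : IsPGroup p Q) (hQL : Q ≤ L)
    (hQS : ¬ p ∣ Q.relIndex L) (hQR : ∀ r ∈ R, ∀ q ∈ Q, r * q * r⁻¹ ∈ Q) {y : G}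
    (hy : ¬ p ∣ orderOf y) (hyR : y ∈ Subgroup.centralizer (R : Set G))
    (hyQ : ∀ q ∈ Q, q ∈ Subgroup.centralizer (R : Set G) → y * q = q * y) : y ∈ N := by
  haveI := Fact.mk hp
  apply mem_of_cent_quot hNL hNp hidx hQ₀ hCQ hy
  set π := QuotientGroup.mk' N with hπ
  have hsup := sup_eq_of_sylow hp hNL hidx hQL hQS
  have hQN : Q ⊓ N = ⊥ := by
    rw [← Subgroup.card_eq_one]
    obtain ⟨k, hk⟩ := IsPGroup.iff_card.1 (hQ.to_le (inf_le_left : Q ⊓ N ≤ Q))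
    rcases Nat.eq_zero_or_pos k with h0 | h0
    · rw [hk, h0, pow_zero]
    · exfalso
      apply hNp
      refine dvd_trans ?_ (Subgroup.card_dvd_of_le (inf_le_right : Q ⊓ N ≤ N))
      rw [hk]
      exact dvd_pow_self p h0.ne'
  have hV : IsPGroup p (L.map π) := by
    have h1 : L.map π = Q.map π := by
      rw [← hsup, Subgroup.map_sup]
      have : N.map π = ⊥ := by
        rw [Subgroup.map_eq_bot_iff, QuotientGroup.ker_mk']
      rw [this, sup_bot_eq]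
    rw [h1]
    exact hQ.map _
  haveI : (L.map π).Normal := hL.map _ (QuotientGroup.mk'_surjective N)
  have hn : ∀ Y : Subgroup (G ⧸ N), Y ≤ Subgroup.normalizer ((L.map π : Subgroup (G ⧸ N)) : Set (G ⧸ N)) :=
    fun Y => le_top.trans (Subgroup.normalizer_eq_top_iff.mpr inferInstance).ge
  have hAB : Subgroup.zpowers (π y) ≤ Subgroup.centralizer ((L.map π : Subgroup (G ⧸ N)) : Set (G ⧸ N)) := by
    refine Cfsg.Agent.Lib.CoprimeB.thompson_PxQ (p := p) (P := R.map π) (hR.map _) ?_ hV ?_ (hn _) (hn _) ?_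
    · rw [Nat.card_zpowers, Nat.coprime_comm, Nat.Prime.coprime_iff_not_dvd hp]
      exact fun h => hy (h.trans (orderOf_map_dvd π y))
    · rw [Subgroup.le_centralizer_iff, Subgroup.zpowers_le, Subgroup.mem_centralizer_iff]
      rintro _ ⟨r, hr, rfl⟩
      have := Subgroup.mem_centralizer_iff.1 hyR r hr
      rw [← map_mul, this, map_mul]
    · rw [Subgroup.le_centralizer_iff, Subgroup.zpowers_le, Subgroup.mem_centralizer_iff]
      rintro v ⟨⟨l, hl, rfl⟩, hv⟩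
      rw [← hsup] at hl
      obtain ⟨q, hq, n, hn', rfl⟩ := Subgroup.mem_sup_of_normal_right.1 hl
      have hπn : π n = 1 := (QuotientGroup.eq_one_iff n).2 hn'
      have hql : π (q * n) = π q := by rw [map_mul, hπn, mul_one]
      rw [hql] at hv ⊢
      have hqC : q ∈ Subgroup.centralizer (R : Set G) := by
        rw [Subgroup.mem_centralizer_iff]
        intro r hr
        have h1 := Subgroup.mem_centralizer_iff.1 hv (π r) (Subgroup.mem_map_of_mem _ hr)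
        have h2 : r * q * r⁻¹ * q⁻¹ ∈ Q ⊓ N := by
          refine ⟨Q.mul_mem (hQR r hr q hq) (Q.inv_mem hq), ?_⟩
          change _ ∈ N
          rw [← QuotientGroup.eq_one_iff (N := N)]
          have : π (r * q * r⁻¹ * q⁻¹) = 1 := by
            simp only [map_mul, map_inv]
            rw [h1]; group
          exact this
        rw [hQN, Subgroup.mem_bot] at h2
        have h3 := mul_inv_eq_one.1 h2
        exact mul_inv_eq_iff_eq_mul.1 h3
      rw [← map_mul, ← map_mul, hyQ q hq hqC]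
  intro q hq
  have h1 := Subgroup.mem_centralizer_iff.1 (hAB (Subgroup.mem_zpowers _)) (π q)
    (Subgroup.mem_map_of_mem _ (hQ₀L hq))
  rw [← QuotientGroup.eq_one_iff (N := N)]
  have : π (y * q * y⁻¹ * q⁻¹) = 1 := by
    simp only [map_mul, map_inv]
    rw [← h1]; group
  exact this

end LocalSylow

section PType

variable {G : Type*} [Group G] [Fintype G] {p : ℕ} {M : Ideal AlgInt} {N : Subgroup G}
  [hN : N.Normal] [Fintype N]

theorem eF_over (hM : IsPModular p M) {θ : IrrCharacter N}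
    (hθ : GStab (G := G) ({θ} : Set (IrrCharacter N))) :
    eF hM {χ : IrrCharacter G | Over χ θ} = eX hM N ({θ} : Set (IrrCharacter N)) := by
  have h1 : {χ : IrrCharacter G | Over χ θ} = above (G := G) ({θ} : Set (IrrCharacter N)) := by
    ext χ
    simp [above]
  rw [h1, eX_eq]
  unfold eF
  rw [eB_above hθ]

theorem corr_below (hM : IsPModular p M) (hNp : ¬ p ∣ Nat.card N) {θ : IrrCharacter N}
    (hθ : GStab (G := G) ({θ} : Set (IrrCharacter N))) {Z : Subgroup G} [Fintype Z]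
    {f : Set (IrrCharacter Z)} (hfB : IsPBlock M f) {ξ : IrrCharacter Z} (hξ : ξ ∈ f)
    (h2 : lam hM ξ.1 (resGA Z (eX hM N ({θ} : Set (IrrCharacter N)))) = 1)
    {T : Subgroup G} (hT : T = N ⊓ Z) [Fintype T] (hTZ : T ≤ Z)
    [hW : (T.subgroupOf Z).Normal] [Fintype (T.subgroupOf Z)]
    {θ₁ : IrrCharacter (T.subgroupOf Z)} (hov : Over ξ θ₁) :
    lam hM (trI (Subgroup.subgroupOfEquivOfLe hTZ).symm θ₁).1
      (resGA T (eX hM N ({θ} : Set (IrrCharacter N)))) ≠ 0 := by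
  haveI := factP hM
  have hWp : ¬ p ∣ Nat.card (T.subgroupOf Z) := by
    rw [Nat.card_congr (Subgroup.subgroupOfEquivOfLe hTZ).toEquiv]
    intro h
    exact hNp (h.trans (Subgroup.card_dvd_of_le (by rw [hT]; exact inf_le_left)))
  have hinv : ∀ x : G, Inv x (eX hM N ({θ} : Set (IrrCharacter N))) := inv_of_gStab hM hθ
  have h3 := lam_of_cov hM hfB (single_block hM hWp θ₁) ⟨ξ, hξ, θ₁, rfl, hov⟩ hξ rfl
    (c := resGA Z (eX hM N ({θ} : Set (IrrCharacter N))))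
    (res_isCl (fun x _ => hinv x)) (by
      intro g hg
      rw [Subgroup.mem_subgroupOf, hT]
      refine ⟨?_, g.2⟩
      by_contra h
      exact hg (extGA_neg h))
  rw [h3] at h2
  have h4 := lam_trI_res hM (Subgroup.subgroupOfEquivOfLe hTZ) (fun x => rfl)
    (trI (Subgroup.subgroupOfEquivOfLe hTZ).symm θ₁) (A := eX hM N ({θ} : Set (IrrCharacter N)))
    (fun x _ => hinv x)
  rw [trI_trI_symm] at h4
  rw [← h4, h2]
  exact one_ne_zero

theorem inv_ptype (hM : IsPModular p M) {L : Subgroup G} [hL : L.Normal] (hNL : N ≤ L)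
    (hNp : ¬ p ∣ Nat.card N) (hidx : ∃ k : ℕ, (N.subgroupOf L).index = p ^ k) {Q : Subgroup G}
    (hQ : IsPGroup p Q) (hQL : Q ≤ L) (hQS : ¬ p ∣ Q.relIndex L)
    (hCQ : ∀ y ∈ Subgroup.centralizer (Q : Set G), ¬ p ∣ orderOf y → y ∈ L) {θ : IrrCharacter N}
    (hθ : GStab (G := G) ({θ} : Set (IrrCharacter N))) {R : Subgroup G} (hR : IsPGroup p R) :
    ∃! f : Set (IrrCharacter (Subgroup.centralizer (R : Set G))),
      IsInducedBlock M (Subgroup.centralizer (R : Set G)) f {χ : IrrCharacter G | Over χ θ} := by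
  haveI := factP hM
  obtain ⟨hB, hdef, hDG⟩ := inv_block_sylow hM hNL hNp hidx hQ hQL hQS hCQ hθ
  obtain ⟨S, hS⟩ := hR.exists_le_sylow
  obtain ⟨e, he⟩ := exists_max_of_defect hM hB ((hDG S).2 ⟨S, rfl⟩)
  have heB : IsBPO p M {χ : IrrCharacter G | Over χ θ} (⟨(S : Subgroup G), e⟩ : BrauerPairIdx G) := he.1
  obtain ⟨f₀, hf₀⟩ := exists_sub hM _ le_rfl (b := (⟨(S : Subgroup G), e⟩ : BrauerPairIdx G))
    heB.1 hS
  have hf₀B : IsBPO p M {χ : IrrCharacter G | Over χ θ} (⟨R, f₀⟩ : BrauerPairIdx G) :=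
    (isBPO_LE hM hB hf₀).2 heB
  refine ⟨f₀, ((isBrauerPairOf_iff hM).1 hf₀B).2, fun f hf => ?_⟩
  have hfB : IsBPO p M {χ : IrrCharacter G | Over χ θ} (⟨R, f⟩ : BrauerPairIdx G) :=
    (isBrauerPairOf_iff hM).2 ⟨hR, hf⟩
  have h1 := (isBrauerPairOf_iff_lam hM).1 hfB
  have h1₀ := (isBrauerPairOf_iff_lam hM).1 hf₀B
  rw [eF_over hM hθ] at h1 h1₀
  haveI : Fintype (Subgroup.centralizer (R : Set G)) := Fintype.ofFinite _
  obtain ⟨T, hT⟩ : ∃ T : Subgroup G, T = N ⊓ Subgroup.centralizer (R : Set G) := ⟨_, rfl⟩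
  have hTZ : T ≤ Subgroup.centralizer (R : Set G) := by rw [hT]; exact inf_le_right
  haveI : Fintype T := Fintype.ofFinite _
  haveI : Fintype (T.subgroupOf (Subgroup.centralizer (R : Set G))) := Fintype.ofFinite _
  haveI hW : (T.subgroupOf (Subgroup.centralizer (R : Set G))).Normal := by
    rw [hT, Subgroup.inf_subgroupOf_right]
    infer_instance
  have key : ∀ {f₁ f₂ : Set (IrrCharacter (Subgroup.centralizer (R : Set G)))}
      {ξ₁ ξ₂ : IrrCharacter (Subgroup.centralizer (R : Set G))}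
      {θ₁ θ₂ : IrrCharacter (T.subgroupOf (Subgroup.centralizer (R : Set G)))},
      IsPBlock M f₁ → IsPBlock M f₂ → ξ₁ ∈ f₁ → ξ₂ ∈ f₂ →
      lam hM ξ₁.1 (resGA (Subgroup.centralizer (R : Set G)) (eX hM N ({θ} : Set (IrrCharacter N)))) = 1 →
      lam hM ξ₂.1 (resGA (Subgroup.centralizer (R : Set G)) (eX hM N ({θ} : Set (IrrCharacter N)))) = 1 →
      Over ξ₁ θ₁ → Over ξ₂ θ₂ → θ₁ = θ₂ := by
    intro f₁ f₂ ξ₁ ξ₂ θ₁ θ₂ hf₁ hf₂ hξ₁ hξ₂ hl₁ hl₂ ho₁ ho₂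
    have e1 := corr_below hM hNp hθ hf₁ hξ₁ hl₁ hT hTZ ho₁
    have e2 := corr_below hM hNp hθ hf₂ hξ₂ hl₂ hT hTZ ho₂
    have e3 := glaub_unique hM hNp hθ hR hT e1 e2
    have e4 := congrArg (trI (Subgroup.subgroupOfEquivOfLe hTZ)) e3
    rwa [trI_trI_symm, trI_trI_symm] at e4
  obtain ⟨ξ, hξ⟩ := block_nonempty hM h1.2.1
  obtain ⟨ξ₀, hξ₀⟩ := block_nonempty hM h1₀.2.1
  obtain ⟨θ₁, ho⟩ := exists_over_below (N := T.subgroupOf (Subgroup.centralizer (R : Set G))) ξ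
  obtain ⟨θ₀, ho₀⟩ := exists_over_below (N := T.subgroupOf (Subgroup.centralizer (R : Set G))) ξ₀
  have h3 : θ₁ = θ₀ := key h1.2.1 h1₀.2.1 hξ hξ₀ (h1.2.2.2 ξ hξ) (h1₀.2.2.2 ξ₀ hξ₀) ho ho₀
  have hst : GStab (G := Subgroup.centralizer (R : Set G)) ({θ₁} : Set (IrrCharacter _)) := by
    intro ψ hψ x
    rw [Set.mem_singleton_iff] at hψ ⊢
    subst hψ
    exact key h1.2.1 h1.2.1 hξ hξ (h1.2.2.2 ξ hξ) (h1.2.2.2 ξ hξ) ((over_cjI x).2 ho) ho
  obtain ⟨Q₁, hQ₁, hQ₁L, hQ₁S, hQ₁R, hQ₁C⟩ := exists_local_sylow (L := L) hM.1 hR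
  subst h3
  have hWp : ¬ p ∣ Nat.card (T.subgroupOf (Subgroup.centralizer (R : Set G))) := by
    rw [Nat.card_congr (Subgroup.subgroupOfEquivOfLe hTZ).toEquiv]
    intro h
    exact hNp (h.trans (Subgroup.card_dvd_of_le (by rw [hT]; exact inf_le_left)))
  refine inv_unique hM (L := L.subgroupOf (Subgroup.centralizer (R : Set G)))
    (Q := (Q₁ ⊓ Subgroup.centralizer (R : Set G)).subgroupOf (Subgroup.centralizer (R : Set G)))
    ?_ hWp ?_ ?_ ?_ ?_ ?_ hst h1.2.1 ⟨ξ, hξ, θ₁, rfl, ho⟩ h1₀.2.1 ⟨ξ₀, hξ₀, θ₁, rfl, ho₀⟩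
  · intro g hg
    rw [Subgroup.mem_subgroupOf] at hg ⊢
    rw [hT] at hg
    exact hNL hg.1
  · obtain ⟨k, hk⟩ := hidx
    have h4 : (T.subgroupOf (Subgroup.centralizer (R : Set G))).relIndex
        (L.subgroupOf (Subgroup.centralizer (R : Set G))) = N.relIndex (L ⊓ Subgroup.centralizer (R : Set G)) := by
      rw [← Subgroup.inf_subgroupOf_right L, Subgroup.relIndex_subgroupOf inf_le_right, hT]
      rw [← Subgroup.inf_relIndex_right, ← Subgroup.inf_relIndex_right N]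
      congr 1
      ext g
      simp only [Subgroup.mem_inf]
      tauto
    have h5 : N.relIndex (L ⊓ Subgroup.centralizer (R : Set G)) ∣ p ^ k := by
      rw [← hk]
      exact Cfsg.Agent.Lib.HallHigman.relIndex_dvd_of_normal inf_le_left
    obtain ⟨j, _, hj⟩ := (Nat.dvd_prime_pow hM.1).1 h5
    refine ⟨j, ?_⟩
    change (T.subgroupOf (Subgroup.centralizer (R : Set G))).relIndex
        (L.subgroupOf (Subgroup.centralizer (R : Set G))) = _
    rw [h4, hj]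
  · exact (hQ₁.to_le inf_le_left).comap_of_injective _ (Subgroup.subtype_injective _)
  · intro g hg
    rw [Subgroup.mem_subgroupOf] at hg ⊢
    exact hQ₁L hg.1
  · rw [← Subgroup.inf_subgroupOf_right L, Subgroup.relIndex_subgroupOf inf_le_right]
    exact hQ₁C
  · intro y hy hyp
    rw [Subgroup.mem_subgroupOf]
    apply hNL
    refine local_constr hM.1 hNL hNp hidx hQ hQL hCQ hR hQ₁ hQ₁L hQ₁S hQ₁R
      (by rwa [Subgroup.orderOf_coe]) y.2 ?_
    intro q hq hqC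
    have h6 := Subgroup.mem_centralizer_iff.1 hy (⟨q, hqC⟩ : Subgroup.centralizer (R : Set G))
      (by rw [SetLike.mem_coe, Subgroup.mem_subgroupOf]; exact ⟨hq, hqC⟩)
    exact (congrArg Subtype.val h6).symm

end PType

end Cfsg.Agent.Lib.BlkH6I
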