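import Cfsg.Agent.Lib.CharRatio
import Cfsg.Agent.Lib.CharGal
import Cfsg.Agent.Lib.CharExc
import Cfsg.Agent.S0868
import Cfsg.Agent.Lib.Basic
import Cfsg.Agent.Lib.CharMono

set_option autoImplicit false

/-!
# Glauberman correspondence: cyclic case
-/

namespace Cfsg.Agent.Lib.CharGlaub

open Cfsg Cfsg.Agent.Lib.CharBasic Cfsg.Agent.Lib.CharNormal Cfsg.Agent.Lib.CharClifford
open Cfsg.Agent.Lib.CharExt Cfsg.Agent.Lib.CharLin Cfsg.Agent.Lib.CharRatio
open Cfsg.Agent.Lib.CharInd Cfsg.Agent.Lib.CharGal Cfsg.Agent.Lib.CharExc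
open scoped ComplexConjugate

noncomputable section

/-! ### Sections of characters of direct products -/

section Prod

variable {A B : Type*} [Group A] [Group B] [Fintype A] [Fintype B]

theorem isChar_prod {β : A → ℂ} {γ : B → ℂ} (hβ : IsCharacter A β) (hγ : IsCharacter B γ) :
    IsCharacter (A × B) (fun p => β p.1 * γ p.2) :=
  isChar_mul (isChar_comp (MonoidHom.fst A B) hβ) (isChar_comp (MonoidHom.snd A B) hγ)

/-- `z ↦ |A|⁻¹ Σ_a X(a, z) conj β(a)` is a character. -/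
theorem isChar_section {X : A × B → ℂ} (hX : IsCharacter (A × B) X) {β : A → ℂ}
    (hβ : IsCharacter A β) :
    IsCharacter B (fun z => (Nat.card A : ℂ)⁻¹ * ∑ a : A, X (a, z) * conj (β a)) := by
  apply isChar_of_nat_inner
  · intro g h
    change (Nat.card A : ℂ)⁻¹ * ∑ a : A, X (a, h * g * h⁻¹) * conj (β a) =
      (Nat.card A : ℂ)⁻¹ * ∑ a : A, X (a, g) * conj (β a)
    congr 1
    refine Finset.sum_congr rfl fun a _ => ?_
    have := isChar_classFn hX (a, g) (1, h)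
    simp only [Prod.mk_mul_mk, Prod.inv_mk, one_mul, inv_one, mul_one] at this
    rw [this]
  · intro ψ
    obtain ⟨n, hn⟩ := exists_nat_inner' hX (isChar_prod hβ (isChar_of_irr ψ.2))
    refine ⟨n, ?_⟩
    rw [← hn, classInner_def, classInner_def, Fintype.sum_prod_type, Finset.sum_comm,
      Nat.card_prod]
    push_cast
    rw [mul_inv, mul_comm ((Nat.card A : ℂ)⁻¹), mul_assoc]
    congr 1
    rw [Finset.mul_sum]
    refine Finset.sum_congr rfl fun z _ => ?_
    rw [mul_assoc]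
    congr 1
    rw [Finset.sum_mul]
    refine Finset.sum_congr rfl fun a _ => ?_
    rw [map_mul]
    ring

end Prod

/-! ### The coset `G s` -/

section Coset

variable {Γ : Type*} [Group Γ] [Fintype Γ] {G C : Subgroup Γ} [hG : G.Normal] {s : Γ}

/-- Exponent extracting `s`. -/
theorem exists_exp (hcop : Nat.Coprime (Nat.card G) (orderOf s)) :
    ∃ k : ℕ, ∀ c ∈ G, c * s = s * c → (c * s) ^ k = s := by
  obtain ⟨k, hk1, hk0⟩ := Nat.chineseRemainder hcop.symm 1 0
  refine ⟨k, fun c hc hcs => ?_⟩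
  have h1 : Commute c s := hcs
  rw [h1.mul_pow]
  have h2 : c ^ k = 1 := by
    obtain ⟨j, hj⟩ := (Nat.modEq_zero_iff_dvd).mp hk0
    rw [hj, pow_mul]
    have : c ^ Nat.card G = 1 := by
      have := pow_card_eq_one' (x := (⟨c, hc⟩ : G))
      exact congrArg Subtype.val this
    rw [this, one_pow]
  have h3 : s ^ k = s ^ 1 := by
    rw [pow_eq_pow_iff_modEq]
    exact hk1
  rw [h2, h3, pow_one, one_mul]

theorem conj_eq (hcop : Nat.Coprime (Nat.card G) (orderOf s))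
    (hC : ∀ x, x ∈ C ↔ x ∈ G ∧ x * s = s * x) {g c c' : Γ} (hg : g ∈ G) (hc : c ∈ C)
    (hc' : c' ∈ C) (h : g * (c * s) * g⁻¹ = c' * s) : g ∈ C ∧ g * c * g⁻¹ = c' := by
  obtain ⟨k, hk⟩ := exists_exp hcop
  have h1 := hk c ((hC c).mp hc).1 ((hC c).mp hc).2
  have h2 := hk c' ((hC c').mp hc').1 ((hC c').mp hc').2
  have h3 : g * s * g⁻¹ = s := by
    calc g * s * g⁻¹ = g * (c * s) ^ k * g⁻¹ := by rw [h1]
      _ = (g * (c * s) * g⁻¹) ^ k := (conj_pow).symm
      _ = s := by rw [h, h2]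
  have h4 : g * s = s * g := mul_inv_eq_iff_eq_mul.mp h3
  refine ⟨(hC g).mpr ⟨hg, h4⟩, ?_⟩
  have h5 : g * c * g⁻¹ * s = c' * s := by
    rw [← h]
    have : g⁻¹ * s = s * g⁻¹ := by
      rw [eq_mul_inv_iff_mul_eq, mul_assoc, ← h4]; group
    simp only [mul_assoc, this]
  exact mul_right_cancel h5

/-- The map `(g, c) ↦ g c s g⁻¹ s⁻¹`. -/
def cmap (hC : ∀ x, x ∈ C ↔ x ∈ G ∧ x * s = s * x) (p : G × C) : G :=
  ⟨p.1 * ((p.2 : Γ) * s) * (p.1 : Γ)⁻¹ * s⁻¹, by
    have h1 : (p.1 : Γ) * ((p.2 : Γ) * s) * (p.1 : Γ)⁻¹ * s⁻¹ =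
        (p.1 : Γ) * p.2 * (s * (p.1 : Γ)⁻¹ * s⁻¹) := by group
    rw [h1]
    exact G.mul_mem (G.mul_mem p.1.2 ((hC _).mp p.2.2).1)
      (hG.conj_mem _ (G.inv_mem p.1.2) s)⟩

theorem cmap_mul (hC : ∀ x, x ∈ C ↔ x ∈ G ∧ x * s = s * x) (p : G × C) :
    ((cmap hC p : G) : Γ) * s = p.1 * ((p.2 : Γ) * s) * (p.1 : Γ)⁻¹ := by
  simp [cmap]

theorem cmap_fiber [Fintype C] [DecidableEq G] (hcop : Nat.Coprime (Nat.card G) (orderOf s))
    (hC : ∀ x, x ∈ C ↔ x ∈ G ∧ x * s = s * x) [Fintype G] (p₀ : G × C) :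
    (Finset.univ.filter (fun p : G × C => cmap hC p = cmap hC p₀)).card = Nat.card C := by
  classical
  rw [← Fintype.card_subtype, ← Nat.card_eq_fintype_card]
  have hCG : ∀ x ∈ C, x ∈ G := fun x hx => ((hC x).mp hx).1
  refine (Nat.card_congr (Equiv.ofBijective (fun d : C =>
    (⟨(p₀.1 * ⟨d, hCG d d.2⟩, d⁻¹ * p₀.2 * d), ?_⟩ : {p : G × C // cmap hC p = cmap hC p₀}))
    ⟨?_, ?_⟩)).symm
  · apply Subtype.ext
    apply mul_right_cancel (b := s)
    rw [cmap_mul, cmap_mul]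
    have hd : (d : Γ) * s = s * d := ((hC d).mp d.2).2
    simp only [Subgroup.coe_mul, Subgroup.coe_inv]
    calc (p₀.1 : Γ) * d * ((d : Γ)⁻¹ * p₀.2 * d * s) * ((p₀.1 : Γ) * d)⁻¹
        = (p₀.1 : Γ) * p₀.2 * (d * s) * (d : Γ)⁻¹ * (p₀.1 : Γ)⁻¹ := by group
      _ = _ := by rw [hd]; group
  · intro a b hab
    have h1 := congrArg (fun z : {p : G × C // cmap hC p = cmap hC p₀} => ((z.1.1 : G) : Γ)) hab
    simp only [Subgroup.coe_mul, mul_right_inj] at h1
    exact Subtype.ext h1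
  · rintro ⟨⟨g, c⟩, hp⟩
    have h1 : ((cmap hC (g, c) : G) : Γ) * s = (cmap hC p₀ : G) * s := by rw [hp]
    rw [cmap_mul, cmap_mul] at h1
    simp only at h1
    have h2 : ((p₀.1 : Γ)⁻¹ * g) * ((c : Γ) * s) * ((p₀.1 : Γ)⁻¹ * g)⁻¹ = p₀.2 * s := by
      calc _ = (p₀.1 : Γ)⁻¹ * (g * ((c : Γ) * s) * (g : Γ)⁻¹) * p₀.1 := by group
        _ = _ := by rw [h1]; group
    obtain ⟨h3, h4⟩ := conj_eq hcop hC (G.mul_mem (G.inv_mem p₀.1.2) g.2) c.2 p₀.2.2 h2
    refine ⟨⟨_, h3⟩, ?_⟩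
    apply Subtype.ext
    apply Prod.ext
    · apply Subtype.ext
      simp
    · apply Subtype.ext
      simp only [Subgroup.coe_mul, Subgroup.coe_inv]
      rw [← h4]
      group

theorem cmap_surjective [Fintype C] [Fintype G] (hcop : Nat.Coprime (Nat.card G) (orderOf s))
    (hC : ∀ x, x ∈ C ↔ x ∈ G ∧ x * s = s * x) : Function.Surjective (cmap hC) := by
  classical
  have h1 := Finset.card_eq_sum_card_image (cmap hC) (Finset.univ : Finset (G × C))
  have h2 : ∀ b ∈ Finset.univ.image (cmap hC),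
      (Finset.univ.filter (fun p : G × C => cmap hC p = b)).card = Nat.card C := by
    intro b hb
    obtain ⟨p₀, -, rfl⟩ := Finset.mem_image.mp hb
    exact cmap_fiber hcop hC p₀
  rw [Finset.sum_congr rfl h2, Finset.sum_const, smul_eq_mul, Finset.card_univ,
    Fintype.card_prod, ← Nat.card_eq_fintype_card (α := C)] at h1
  have h3 : Fintype.card G = (Finset.univ.image (cmap hC)).card :=
    Nat.eq_of_mul_eq_mul_right Nat.card_pos h1
  have h4 : Finset.univ.image (cmap hC) = Finset.univ := by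
    rw [← Finset.card_eq_iff_eq_univ, h3]
  intro y
  have h5 : y ∈ Finset.univ.image (cmap hC) := by rw [h4]; exact Finset.mem_univ y
  obtain ⟨p, -, hp⟩ := Finset.mem_image.mp h5
  exact ⟨p, hp⟩

theorem sum_cmap [Fintype C] [Fintype G] (hcop : Nat.Coprime (Nat.card G) (orderOf s))
    (hC : ∀ x, x ∈ C ↔ x ∈ G ∧ x * s = s * x) (F : G → ℂ) :
    ∑ p : G × C, F (cmap hC p) = (Nat.card C : ℂ) * ∑ x : G, F x := by
  classical
  rw [← Finset.sum_fiberwise (s := Finset.univ) (g := cmap hC), Finset.mul_sum]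
  refine Finset.sum_congr rfl fun y _ => ?_
  obtain ⟨p₀, rfl⟩ := cmap_surjective hcop hC y
  rw [Finset.sum_congr rfl (fun p hp => by rw [(Finset.mem_filter.mp hp).2]), Finset.sum_const,
    cmap_fiber hcop hC p₀, nsmul_eq_mul]

/-- Sums of class functions over the coset `G s`. -/
theorem sum_coset [Fintype C] [Fintype G] (hcop : Nat.Coprime (Nat.card G) (orderOf s))
    (hC : ∀ x, x ∈ C ↔ x ∈ G ∧ x * s = s * x) {F : Γ → ℂ} (hF : IsClassFunction Γ F) :
    (Nat.card G : ℂ)⁻¹ * ∑ x : G, F (x * s) = (Nat.card C : ℂ)⁻¹ * ∑ c : C, F (c * s) := by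
  have h1 := sum_cmap hcop hC (fun x : G => F (x * s))
  have hF' : ∀ g h, F (h * g * h⁻¹) = F g := hF
  simp only [cmap_mul, hF'] at h1
  rw [Fintype.sum_prod_type] at h1
  simp only [Finset.sum_const, Finset.card_univ, nsmul_eq_mul, ← Nat.card_eq_fintype_card] at h1
  have h2 : (Nat.card G : ℂ) ≠ 0 := Nat.cast_ne_zero.mpr Nat.card_pos.ne'
  have h3 : (Nat.card C : ℂ) ≠ 0 := Nat.cast_ne_zero.mpr Nat.card_pos.ne'
  field_simp
  linear_combination -h1

end Coset

/-! ### Galois conjugation and determinants -/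

section Gal

variable {G : Type*} [Group G] [Finite G]

theorem det_galRep {n : ℕ} (σ : ℂ ≃+* ℂ) (ρ : Representation ℂ G (Fin n → ℂ)) (g : G) :
    LinearMap.det (galRep σ ρ g) = σ (LinearMap.det (ρ g)) := by
  have h1 : LinearMap.det (galRep σ ρ g) = ((LinearMap.toMatrix' (ρ g)).map σ).det := by
    change LinearMap.det (Matrix.toLin' ((LinearMap.toMatrix' (ρ g)).map σ)) = _
    rw [LinearMap.det_toLin']
  have h2 : LinearMap.det (ρ g) = (LinearMap.toMatrix' (ρ g)).det := by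
    rw [LinearMap.det_toMatrix']
  rw [h1, h2]
  have h3 := RingHom.map_det (σ : ℂ →+* ℂ) (LinearMap.toMatrix' (ρ g))
  exact h3.symm

theorem detOrder_galois (σ : ℂ ≃+* ℂ) {χ : G → ℂ} (h : IsCharacter G χ) :
    detOrder (fun g => σ (χ g)) = detOrder χ := by
  obtain ⟨n, ρ, rfl⟩ := h
  have h1 : (galRep σ ρ).character = fun g => σ (ρ.character g) := by
    funext g
    exact char_galRep σ ρ g
  rw [detOrder, detOrder, detChar_eq _ h1, detChar_eq ρ rfl]
  have h2 : ∀ k : ℕ, linFn (detHom (galRep σ ρ)) ^ k = 1 ↔ linFn (detHom ρ) ^ k = 1 := by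
    intro k
    constructor
    · intro h
      funext g
      have := congrFun h g
      simp only [Pi.pow_apply, Pi.one_apply, linFn_apply, detHom_apply, det_galRep] at this ⊢
      rw [← map_pow] at this
      exact (map_eq_one_iff σ σ.injective).mp this
    · intro h
      funext g
      have := congrFun h g
      simp only [Pi.pow_apply, Pi.one_apply, linFn_apply, detHom_apply, det_galRep] at this ⊢
      rw [← map_pow, this, map_one]
  apply Nat.dvd_antisymm
  · exact orderOf_dvd_of_pow_eq_one ((h2 _).mpr (pow_orderOf_eq_one _))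
  · exact orderOf_dvd_of_pow_eq_one ((h2 _).mp (pow_orderOf_eq_one _))

end Gal

/-! ### The main argument -/

section Main

variable {Γ : Type*} [Group Γ] [Fintype Γ] {G C : Subgroup Γ} [hG : G.Normal] {s : Γ}

theorem quot_cyclic (htop : G ⊔ Subgroup.zpowers s = ⊤) : IsCyclic (Γ ⧸ G) := by
  refine ⟨(s : Γ ⧸ G), fun q => ?_⟩
  obtain ⟨x, rfl⟩ := QuotientGroup.mk_surjective q
  have hx : x ∈ G ⊔ Subgroup.zpowers s := by rw [htop]; exact Subgroup.mem_top x
  rw [Subgroup.mem_sup_of_normal_left] at hx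
  obtain ⟨g, hg, _, ⟨i, rfl⟩, rfl⟩ := hx
  refine ⟨i, ?_⟩
  simp only
  rw [QuotientGroup.mk_mul, (QuotientGroup.eq_one_iff g).mpr hg, one_mul, QuotientGroup.mk_zpow]

theorem comm_mem (htop : G ⊔ Subgroup.zpowers s = ⊤) (a b : Γ) : a * b * a⁻¹ * b⁻¹ ∈ G := by
  have := quot_cyclic htop
  rw [← QuotientGroup.eq_one_iff]
  simp only [QuotientGroup.mk_mul, QuotientGroup.mk_inv]
  have h : (a : Γ ⧸ G) * b = b * a := (IsCyclic.commGroup (α := Γ ⧸ G)).mul_comm _ _
  rw [h]; group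

theorem vanish_coset (htop : G ⊔ Subgroup.zpowers s = ⊤) {χ : Γ → ℂ} (hχ : IsIrrCharacter Γ χ)
    (hred : ¬ IsIrrCharacter G (fun x : G => χ x)) (x : G) : χ (x * s) = 0 := by
  classical
  have : Fintype G := Fintype.ofFinite _
  have hres := isChar_res G (isChar_of_irr hχ)
  have hne : (fun n : G => χ n) ≠ 0 := by
    intro h
    exact isIrr_one_ne_zero hχ (congrFun h 1)
  obtain ⟨θ, hθ⟩ := char_ne_zero_exists_constituent hres hne
  have hGT : G ≤ inertia θ.1 := le_inertia (isChar_classFn (isChar_of_irr θ.2))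
  by_cases hT : inertia θ.1 = ⊤
  · exfalso
    have hinv : ∀ g : Γ, cj g θ.1 = θ.1 := fun g =>
      mem_inertia.mp (hT ▸ Subgroup.mem_top g)
    obtain ⟨χ₀, hχ₀, hext⟩ := ext_of_cyclic (quot_cyclic htop) θ.2 hinv
    obtain ⟨β, ⟨hβ, hβN⟩, hβχ⟩ := (gallagher θ.2 hχ₀ hext).surjOn ⟨hχ, hθ⟩
    obtain ⟨l, hl⟩ := CharMono.linear_of_commutator_le hβ (fun a b =>
      hβN _ (comm_mem htop a b))
    apply hred
    have h1 : (fun x : G => χ x) = θ.1 := by
      funext x
      rw [← hβχ]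
      simp only [Pi.mul_apply]
      rw [hβN x x.2, hl, linFn_apply_one, one_mul, hext]
    rw [h1]
    exact θ.2
  · have hs : s ∉ inertia θ.1 := by
      intro hs
      apply hT
      rw [eq_top_iff, ← htop]
      exact sup_le hGT (Subgroup.zpowers_le.mpr hs)
    have : Fintype (inertia θ.1) := Fintype.ofFinite _
    obtain ⟨ψ, -, hind, -, -⟩ := exists_clifford (T := inertia θ.1) θ.2 (fun g => mem_inertia)
      hGT hχ hθ
    have hTn : (inertia θ.1).Normal := by
      constructor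
      intro n hn g
      have h1 : g * n * g⁻¹ = (g * n * g⁻¹ * n⁻¹) * n := by group
      rw [h1]
      exact Subgroup.mul_mem _ (hGT (comm_mem htop g n)) hn
    rw [← hind]
    apply indFun_normal_notMem
    intro h
    apply hs
    have : s = (x : Γ)⁻¹ * (x * s) := by group
    rw [this]
    exact Subgroup.mul_mem _ (Subgroup.inv_mem _ (hGT x.2)) h

theorem sum_coset_eq (F : Γ → ℂ) [Fintype G] [DecidablePred (fun y : Γ => y * s⁻¹ ∈ G)] :
    ∑ y : Γ, (if y * s⁻¹ ∈ G then F y else 0) = ∑ x : G, F (x * s) := by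
  classical
  rw [← Equiv.sum_comp (Equiv.mulRight s)]
  simp only [Equiv.coe_mulRight, mul_inv_cancel_right]
  rw [← Finset.sum_filter]
  exact (Finset.sum_subtype (Finset.univ.filter (fun x : Γ => x ∈ G)) (by simp)
    (fun x => F (x * s)))

theorem coset_span [Fintype G] (htop : G ⊔ Subgroup.zpowers s = ⊤) {F : Γ → ℂ}
    (hF : IsClassFunction Γ F)
    (h : ∀ χ : IrrCharacter Γ, IsIrrCharacter G (fun x : G => χ.1 x) →
      ∑ x : G, F (x * s) * conj (χ.1 (x * s)) = 0) (x : G) : F (x * s) = 0 := by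
  classical
  let F' : Γ → ℂ := fun y => if y * s⁻¹ ∈ G then F y else 0
  have hF' : IsClassFunction Γ F' := by
    intro y g
    have h1 : g * y * g⁻¹ * s⁻¹ ∈ G ↔ y * s⁻¹ ∈ G := by
      have h2 : g * y * g⁻¹ * s⁻¹ = (g * y * g⁻¹ * y⁻¹) * (y * s⁻¹) := by group
      rw [h2]
      exact G.mul_mem_cancel_left (comm_mem htop g y)
    change (if g * y * g⁻¹ * s⁻¹ ∈ G then F (g * y * g⁻¹) else 0) = if y * s⁻¹ ∈ G then F y else 0
    simp only [h1]
    rw [hF y g]
  have h0 : F' = 0 := by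
    apply classFn_eq_zero_of_orth F' hF'
    intro χ
    rw [classInner_def]
    have h1 : ∑ y : Γ, F' y * conj (χ.1 y) = ∑ x : G, F (x * s) * conj (χ.1 (x * s)) := by
      rw [← sum_coset_eq (s := s) (G := G) (fun y => F y * conj (χ.1 y))]
      refine Finset.sum_congr rfl fun y _ => ?_
      simp only [F']
      split_ifs <;> simp
    rw [h1]
    by_cases hirr : IsIrrCharacter G (fun x : G => χ.1 x)
    · rw [h χ hirr, mul_zero]
    · simp only [vanish_coset htop χ.2 hirr, map_zero, mul_zero, Finset.sum_const_zero]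
  have h2 := congrFun h0 (x * s)
  simp only [F', mul_inv_cancel_right, x.2, if_true, Pi.zero_apply] at h2
  exact h2

/-- Galois stable extensions. -/
structure Canon (G : Subgroup Γ) (s : Γ) (χh : Γ → ℂ) : Prop where
  irr : IsIrrCharacter Γ χh
  res : IsIrrCharacter G (fun x : G => χh x)
  gal : ∀ (k : ℕ) (τ : ℂ ≃+* ℂ), (∀ z : ℂ, z ^ (Nat.card G * orderOf s) = 1 → τ z = z ^ k) →
    k ≡ 1 [MOD Nat.card G] → ∀ y, τ (χh y) = χh y

theorem orderOf_dvd_card (htop : G ⊔ Subgroup.zpowers s = ⊤) (y : Γ) :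
    orderOf y ∣ Nat.card G * orderOf s := by
  have h1 : Nat.card Γ ∣ Nat.card G * orderOf s := by
    have h2 := Basic.card_sup_mul_card_inf (N := G) (H := Subgroup.zpowers s)
      (by rw [Subgroup.normalizer_eq_top]; exact le_top)
    rw [htop, Subgroup.card_top, Nat.card_zpowers] at h2
    exact Dvd.intro _ h2
  exact (orderOf_dvd_natCard y).trans h1

/-- The canonical extension is Galois stable. -/
theorem canon_of_det (hcop : Nat.Coprime (Nat.card G) (orderOf s))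
    (htop : G ⊔ Subgroup.zpowers s = ⊤) {χh : Γ → ℂ}
    (hirr : IsIrrCharacter Γ χh) (hres : IsIrrCharacter G (fun x : G => χh x))
    (hdet : Nat.Coprime (detOrder χh) (orderOf s)) : Canon G s χh := by
  refine ⟨hirr, hres, fun k τ hτ hk y => ?_⟩
  have hGidx : G.index ∣ orderOf s := by
    have := quot_cyclic htop
    have h1 : ∀ q : Γ ⧸ G, q ^ orderOf s = 1 := by
      intro q
      obtain ⟨x, rfl⟩ := QuotientGroup.mk_surjective q
      have hx : x ∈ G ⊔ Subgroup.zpowers s := by rw [htop]; exact Subgroup.mem_top x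
      rw [Subgroup.mem_sup_of_normal_left] at hx
      obtain ⟨g, hg, _, ⟨i, rfl⟩, rfl⟩ := hx
      simp only
      rw [QuotientGroup.mk_mul, (QuotientGroup.eq_one_iff g).mpr hg, one_mul, QuotientGroup.mk_zpow,
        ← zpow_natCast, ← zpow_mul, mul_comm, zpow_mul, zpow_natCast, ← QuotientGroup.mk_pow,
        pow_orderOf_eq_one, QuotientGroup.mk_one, one_zpow]
    obtain ⟨q, hq⟩ := IsCyclic.exists_ofOrder_eq_natCard (α := Γ ⧸ G)
    rw [Subgroup.index_eq_card, ← hq]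
    exact orderOf_dvd_of_pow_eq_one (h1 q)
  obtain ⟨d, hd0, hd⟩ := isIrr_one_eq hres
  have hdG : d ∣ Nat.card G := by
    obtain ⟨n, ρ, hρ, hρθ⟩ := hres
    have : Fintype G := Fintype.ofFinite _
    have h5 := CharInt.degree_dvd_card ρ
    rw [Module.finrank_fin_fun] at h5
    have h6 : n = d := by
      have hd' : (fun x : G => χh x) 1 = (d : ℂ) := hd
      rw [← hρθ, Representation.char_one, Module.finrank_fin_fun] at hd'
      exact_mod_cast hd'
    rwa [h6] at h5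
  have hdetG : detOrder (fun x : G => χh x) ∣ Nat.card G := by
    obtain ⟨l, hl⟩ := detChar_lin (isChar_of_irr hres)
    rw [detOrder, hl, orderOf_linFn]
    apply orderOf_dvd_of_pow_eq_one
    ext x
    rw [MonoidHom.pow_apply, ← map_pow, pow_card_eq_one', map_one]
    rfl
  have hcop2 : Nat.Coprime G.index (detOrder (fun x : G => χh x) * d) := by
    apply Nat.Coprime.coprime_dvd_left hGidx
    exact Nat.Coprime.mul_right (Nat.Coprime.coprime_dvd_right hdetG hcop.symm)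
      (Nat.Coprime.coprime_dvd_right hdG hcop.symm)
  obtain ⟨χ₀, -, huniq⟩ := ext_of_coprime_det (G := Γ) (N := G) hres
    (fun g => cj_res g (isChar_classFn (isChar_of_irr hirr))) hd hcop2
  have e1 := huniq χh hirr (fun _ => rfl) (hdet.symm.coprime_dvd_left hGidx)
  have e2 := huniq (fun g => τ (χh g)) (isIrr_galois τ hirr) (by
    intro n
    rw [galois_pow τ k (isChar_of_irr hirr) (n : Γ) (fun z hz => hτ z (by
      obtain ⟨j, hj⟩ := orderOf_dvd_card htop (n : Γ)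
      rw [hj, pow_mul, hz, one_pow]))]
    congr 1
    have h7 : (n : Γ) ^ k = (n : Γ) ^ 1 := by
      rw [pow_eq_pow_iff_modEq]
      refine hk.of_dvd ?_
      rw [Subgroup.orderOf_coe]
      exact orderOf_dvd_natCard n
    rw [h7, pow_one]) (by
    rw [detOrder_galois τ (isChar_of_irr hirr)]
    exact hdet.symm.coprime_dvd_left hGidx)
  exact (congrFun (e2.trans e1.symm) y)

/-- The restriction to `C × ⟨s⟩`. -/
def cz (hC : ∀ x, x ∈ C ↔ x ∈ G ∧ x * s = s * x) : C × Subgroup.zpowers s →* Γ where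
  toFun p := p.1 * p.2
  map_one' := by simp
  map_mul' := by
    rintro ⟨a, z⟩ ⟨b, w⟩
    simp only [Prod.mk_mul_mk, Subgroup.coe_mul]
    have h1 : Commute (b : Γ) (z : Γ) := by
      obtain ⟨i, hi⟩ := z.2
      have h2 : Commute (b : Γ) s := ((hC b).mp b.2).2
      rw [← hi]
      exact h2.zpow_right i
    calc (a : Γ) * b * (z * w) = a * (b * z) * w := by group
      _ = a * (z * b) * w := by rw [h1.eq]
      _ = _ := by group

theorem cz_apply (hC : ∀ x, x ∈ C ↔ x ∈ G ∧ x * s = s * x) (p : C × Subgroup.zpowers s) :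
    cz hC p = p.1 * p.2 := rfl

/-- The character `A(z) = [χh(· z), β]` of `⟨s⟩`. -/
theorem isChar_A [Fintype C] (hC : ∀ x, x ∈ C ↔ x ∈ G ∧ x * s = s * x) {χh : Γ → ℂ}
    (hχ : IsCharacter Γ χh) {β : C → ℂ} (hβ : IsCharacter C β) :
    IsCharacter (Subgroup.zpowers s)
      (fun z => (Nat.card C : ℂ)⁻¹ * ∑ c : C, χh (c * z) * conj (β c)) := by
  have : Fintype (Subgroup.zpowers s) := Fintype.ofFinite _
  exact isChar_section (isChar_comp (cz hC) hχ) hβ

theorem exists_k (hcop : Nat.Coprime (Nat.card G) (orderOf s)) {k : ℕ}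
    (hk : Nat.Coprime k (orderOf s)) : ∃ (k' : ℕ) (τ : ℂ ≃+* ℂ), k' ≡ k [MOD orderOf s] ∧
      k' ≡ 1 [MOD Nat.card G] ∧
      ∀ z : ℂ, z ^ (Nat.card G * orderOf s) = 1 → τ z = z ^ k' := by
  obtain ⟨k', h1, h2⟩ := Nat.chineseRemainder hcop.symm k 1
  have h3 : Nat.Coprime k' (Nat.card G * orderOf s) := by
    apply Nat.Coprime.mul_right
    · rw [Nat.coprime_iff_gcd_eq_one, h2.gcd_eq]; simp
    · rw [Nat.coprime_iff_gcd_eq_one, h1.gcd_eq]; exact hk
  obtain ⟨τ, hτ⟩ := exists_aut_pow (Nat.card G * orderOf s) k'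
    (mul_ne_zero Nat.card_pos.ne' (orderOf_pos s).ne') h3
  exact ⟨k', τ, h1, h2, hτ⟩

theorem canon_pow (hcop : Nat.Coprime (Nat.card G) (orderOf s))
    (htop : G ⊔ Subgroup.zpowers s = ⊤) (hC : ∀ x, x ∈ C ↔ x ∈ G ∧ x * s = s * x)
    {χh : Γ → ℂ} (hχ : Canon G s χh) {j : ℕ} (hj : Nat.Coprime j (orderOf s)) {c : Γ}
    (hc : c ∈ C) : χh (c * s ^ j) = χh (c * s) := by
  obtain ⟨k', τ, h1, h2, hτ⟩ := exists_k hcop hj
  have h3 := hχ.gal k' τ hτ h2 (c * s)
  rw [galois_pow τ k' (isChar_of_irr hχ.irr) (c * s) (fun z hz => hτ z (by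
      obtain ⟨j, hj⟩ := orderOf_dvd_card htop (c * s)
      rw [hj, pow_mul, hz, one_pow]))] at h3
  rw [← h3]
  congr 1
  have h4 : Commute c s := ((hC c).mp hc).2
  rw [h4.mul_pow]
  have h5 : c ^ k' = c ^ 1 := by
    rw [pow_eq_pow_iff_modEq]
    refine h2.of_dvd ?_
    rw [← Subgroup.orderOf_mk c ((hC c).mp hc).1]
    exact orderOf_dvd_natCard _
  have h6 : s ^ k' = s ^ j := by
    rw [pow_eq_pow_iff_modEq]
    exact h1
  rw [h5, h6, pow_one]

/-- `[χh(· s), β]` is an integer. -/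
theorem exists_int (hcop : Nat.Coprime (Nat.card G) (orderOf s))
    (htop : G ⊔ Subgroup.zpowers s = ⊤) [Fintype C]
    (hC : ∀ x, x ∈ C ↔ x ∈ G ∧ x * s = s * x)
    {χh : Γ → ℂ} (hχ : Canon G s χh) {β : C → ℂ} (hβ : IsCharacter C β) :
    ∃ n : ℤ, (Nat.card C : ℂ)⁻¹ * ∑ c : C, χh (c * s) * conj (β c) = n := by
  have hA := isChar_A hC (isChar_of_irr hχ.irr) hβ
  set A : Subgroup.zpowers s → ℂ := fun z => (Nat.card C : ℂ)⁻¹ * ∑ c : C, χh (c * z) * conj (β c)
    with hAdef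
  have hAs : (Nat.card C : ℂ)⁻¹ * ∑ c : C, χh (c * s) * conj (β c) =
      A ⟨s, Subgroup.mem_zpowers s⟩ := rfl
  rw [hAs]
  apply isInt_of_fixed
  · exact char_isIntegral hA _
  · intro σ
    have hn0 : Nat.card G * orderOf s ≠ 0 := mul_ne_zero Nat.card_pos.ne' (orderOf_pos s).ne'
    obtain ⟨k, hk, hσ⟩ := exists_pow_of_aut _ hn0 σ
    have hks : Nat.Coprime k (orderOf s) := hk.coprime_dvd_right (dvd_mul_left _ _)
    obtain ⟨k', τ, h1, h2, hτ⟩ := exists_k hcop hks
    have hos : orderOf (⟨s, Subgroup.mem_zpowers s⟩ : Subgroup.zpowers s) = orderOf s :=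
      Subgroup.orderOf_mk _ _
    have h3 : σ (A ⟨s, Subgroup.mem_zpowers s⟩) = τ (A ⟨s, Subgroup.mem_zpowers s⟩) := by
      rw [galois_pow σ k hA _ (fun z hz => hσ z (by
        rw [hos] at hz
        rw [mul_comm, pow_mul, hz, one_pow])),
        galois_pow τ k' hA _ (fun z hz => hτ z (by
        rw [hos] at hz
        rw [mul_comm, pow_mul, hz, one_pow]))]
      congr 1
      rw [pow_eq_pow_iff_modEq, hos]
      exact h1.symm
    rw [h3]
    -- compute `τ (A s)`
    change τ ((Nat.card C : ℂ)⁻¹ * ∑ c : C, χh (c * s) * conj (β c)) =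
      (Nat.card C : ℂ)⁻¹ * ∑ c : C, χh (c * s) * conj (β c)
    rw [map_mul, map_inv₀, map_natCast, map_sum]
    congr 1
    refine Finset.sum_congr rfl fun c _ => ?_
    rw [map_mul, hχ.gal k' τ hτ h2]
    congr 1
    rw [← char_inv hβ, galois_pow τ k' hβ]
    · congr 1
      have h5 : c⁻¹ ^ k' = c⁻¹ ^ 1 := by
        rw [pow_eq_pow_iff_modEq]
        refine h2.of_dvd ?_
        have h6 : orderOf (c⁻¹) ∣ Nat.card C := orderOf_dvd_natCard _
        have h7 : Nat.card C ∣ Nat.card G :=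
          Subgroup.card_dvd_of_le (fun x hx => ((hC x).mp hx).1)
        exact h6.trans h7
      rw [h5, pow_one]
    · intro z hz
      apply hτ
      have h6 : orderOf (c⁻¹) ∣ Nat.card C := orderOf_dvd_natCard _
      have h7 : Nat.card C ∣ Nat.card G :=
        Subgroup.card_dvd_of_le (fun x hx => ((hC x).mp hx).1)
      obtain ⟨j, hj⟩ := (h6.trans h7).trans (dvd_mul_right _ (orderOf s))
      rw [hj, pow_mul, hz, one_pow]

/-- The functions `c ↦ χh(c s)` are orthonormal. -/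
theorem coset_orth (hcop : Nat.Coprime (Nat.card G) (orderOf s)) [Fintype C]
    (hC : ∀ x, x ∈ C ↔ x ∈ G ∧ x * s = s * x) {χ ψ : Γ → ℂ} (hχ : IsIrrCharacter Γ χ)
    (hψ : IsIrrCharacter Γ ψ) (hχG : IsIrrCharacter G (fun x : G => χ x))
    (hψG : IsIrrCharacter G (fun x : G => ψ x)) :
    (χ = ψ → classInner (fun c : C => χ (c * s)) (fun c : C => ψ (c * s)) = 1) ∧
    ((fun x : G => χ x) ≠ (fun x : G => ψ x) →
      classInner (fun c : C => χ (c * s)) (fun c : C => ψ (c * s)) = 0) := by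
  classical
  have : Fintype G := Fintype.ofFinite _
  have h1 : classInner (fun c : C => χ (c * s)) (fun c : C => ψ (c * s)) =
      (Nat.card G : ℂ)⁻¹ * ∑ n : G, χ ((n : Γ) * s) * conj (ψ ((n : Γ) * s)) := by
    rw [classInner_def]
    exact (sum_coset hcop hC (F := fun y => χ y * conj (ψ y)) (by
      intro g h
      simp only
      rw [isChar_classFn (isChar_of_irr hχ) g h, isChar_classFn (isChar_of_irr hψ) g h])).symm
  obtain ⟨-, h3, h4⟩ := Cfsg.Agent.S0868.result G ψ hψ hψG χ hχ _ rfl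
  constructor
  · intro h
    rw [h1]
    exact congrFun (h4 h) s
  · intro h
    rw [h1]
    exact congrFun (h3 (irr_inner_ne hχG hψG h)) s

/-- The Glauberman correspondent in the cyclic case. -/
theorem exists_corr (hcop : Nat.Coprime (Nat.card G) (orderOf s))
    (htop : G ⊔ Subgroup.zpowers s = ⊤) [Fintype C]
    (hC : ∀ x, x ∈ C ↔ x ∈ G ∧ x * s = s * x)
    {χh : Γ → ℂ} (hχ : Canon G s χh) : ∃ β : IrrCharacter C, ∃ ε : ℤ, (ε = 1 ∨ ε = -1) ∧
      ∀ c : C, χh (c * s) = ε * β.1 c := by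
  have hcl : IsClassFunction C (fun c : C => χh (c * s)) := by
    intro c d
    change χh (((d * c * d⁻¹ : C) : Γ) * s) = χh (c * s)
    have h1 : ((d * c * d⁻¹ : C) : Γ) * s = d * (c * s) * (d : Γ)⁻¹ := by
      have h2 : (d : Γ) * s = s * d := ((hC d).mp d.2).2
      have h3 : (d : Γ)⁻¹ * s = s * (d : Γ)⁻¹ := by
        rw [eq_mul_inv_iff_mul_eq, mul_assoc, ← h2]; group
      simp only [Subgroup.coe_mul, Subgroup.coe_inv, mul_assoc, h3]
    rw [h1]
    exact isChar_classFn (isChar_of_irr hχ.irr) _ _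
  have hgen : IsGeneralizedCharacter C (fun c : C => χh (c * s)) := by
    apply isGen_of_int_inner hcl
    intro β
    obtain ⟨n, hn⟩ := exists_int hcop htop hC hχ (isChar_of_irr β.2)
    exact ⟨n, by rw [classInner_def]; exact hn⟩
  obtain ⟨β, hβ⟩ := norm_one hgen ((coset_orth hcop hC hχ.irr hχ.irr hχ.res hχ.res).1 rfl)
  rcases hβ with h | h
  · exact ⟨β, 1, Or.inl rfl, fun c => by rw [Int.cast_one, one_mul]; exact congrFun h c⟩
  · exact ⟨β, -1, Or.inr rfl, fun c => by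
      rw [Int.cast_neg, Int.cast_one, neg_one_mul]; exact congrFun h c⟩

/-- Spanning. -/
theorem exists_not_orth (hcop : Nat.Coprime (Nat.card G) (orderOf s))
    (htop : G ⊔ Subgroup.zpowers s = ⊤) [Fintype C]
    (hC : ∀ x, x ∈ C ↔ x ∈ G ∧ x * s = s * x) {f : C → ℂ} (hf : IsClassFunction C f)
    (hf0 : f ≠ 0) : ∃ χ : IrrCharacter Γ, IsIrrCharacter G (fun x : G => χ.1 x) ∧
      classInner f (fun c : C => χ.1 (c * s)) ≠ 0 := by
  classical
  have : Fintype G := Fintype.ofFinite _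
  by_contra hcon
  push Not at hcon
  apply hf0
  -- the class function extending `f`
  let F : Γ → ℂ := fun y => if h : ∃ p : C × Γ, y = p.2 * ((p.1 : Γ) * s) * p.2⁻¹ then f h.choose.1
    else 0
  have hwd : ∀ (c c' : C) (g : Γ), g * ((c : Γ) * s) * g⁻¹ = (c' : Γ) * s → f c' = f c := by
    intro c c' g hg
    have hgt : g ∈ G ⊔ Subgroup.zpowers s := by rw [htop]; exact Subgroup.mem_top g
    rw [Subgroup.mem_sup_of_normal_left] at hgt
    obtain ⟨x, hx, _, ⟨i, rfl⟩, rfl⟩ := hgt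
    have h1 : Commute (s ^ i) ((c : Γ) * s) := by
      have h2 : Commute s (c : Γ) := (((hC c).mp c.2).2).symm
      exact (h2.mul_right (Commute.refl s)).zpow_left i
    have h2 : x * ((c : Γ) * s) * x⁻¹ = (c' : Γ) * s := by
      rw [← hg]
      simp only
      calc x * ((c : Γ) * s) * x⁻¹ = x * ((c : Γ) * s * s ^ i * (s ^ i)⁻¹) * x⁻¹ := by group
        _ = x * (s ^ i * ((c : Γ) * s) * (s ^ i)⁻¹) * x⁻¹ := by rw [h1.eq]
        _ = _ := by group
    obtain ⟨h3, h4⟩ := conj_eq hcop hC hx c.2 c'.2 h2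
    have h5 : c' = ⟨x, h3⟩ * c * ⟨x, h3⟩⁻¹ := Subtype.ext h4.symm
    rw [h5]
    exact hf c ⟨x, h3⟩
  have hFc : ∀ (c : C) (g : Γ), F (g * ((c : Γ) * s) * g⁻¹) = f c := by
    intro c g
    have hex : ∃ p : C × Γ, g * ((c : Γ) * s) * g⁻¹ = p.2 * ((p.1 : Γ) * s) * p.2⁻¹ := ⟨(c, g), rfl⟩
    simp only [F]
    rw [dif_pos hex]
    have h1 := hex.choose_spec
    generalize hex.choose = q at h1 ⊢
    apply (hwd _ _ (q.2⁻¹ * g) _).symm.symm
    calc q.2⁻¹ * g * ((c : Γ) * s) * (q.2⁻¹ * g)⁻¹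
        = q.2⁻¹ * (g * ((c : Γ) * s) * g⁻¹) * q.2 := by group
      _ = _ := by rw [h1]; group
  have hFcl : IsClassFunction Γ F := by
    intro y g
    by_cases h : ∃ p : C × Γ, y = p.2 * ((p.1 : Γ) * s) * p.2⁻¹
    · obtain ⟨⟨c, x⟩, rfl⟩ := h
      simp only
      rw [hFc c x]
      have : g * (x * ((c : Γ) * s) * x⁻¹) * g⁻¹ = (g * x) * ((c : Γ) * s) * (g * x)⁻¹ := by group
      rw [this, hFc]
    · have h' : ¬ ∃ p : C × Γ, g * y * g⁻¹ = p.2 * ((p.1 : Γ) * s) * p.2⁻¹ := by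
        rintro ⟨⟨c, x⟩, hx⟩
        apply h
        refine ⟨⟨c, g⁻¹ * x⟩, ?_⟩
        simp only at hx ⊢
        calc y = g⁻¹ * (g * y * g⁻¹) * g := by group
          _ = _ := by rw [hx]; group
      simp only [F]
      rw [dif_neg h, dif_neg h']
  have hF0 := coset_span (G := G) (s := s) htop hFcl (by
    intro χ hχ
    have h1 := sum_coset (G := G) hcop hC (F := fun y => F y * conj (χ.1 y)) (by
      intro g h
      simp only
      rw [hFcl g h, isChar_classFn (isChar_of_irr χ.2) g h])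
    have h2 := hcon χ hχ
    rw [classInner_def] at h2
    have h3 : ∀ c : C, F (c * s) = f c := by
      intro c
      have := hFc c 1
      simpa using this
    simp only [h3] at h1
    rw [h2] at h1
    rcases mul_eq_zero.mp h1 with h4 | h4
    · exact absurd h4 (inv_ne_zero (Nat.cast_ne_zero.mpr Nat.card_pos.ne'))
    · exact h4)
  funext c
  have h3 := hFc c 1
  simp only [one_mul, inv_one, mul_one] at h3
  rw [← h3]
  exact hF0 ⟨c, ((hC c).mp c.2).1⟩

end Main


section Main2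

variable {Γ : Type*} [Group Γ] [Fintype Γ] {G C : Subgroup Γ} [hG : G.Normal] {s : Γ}

theorem sq_one {ε : ℤ} (h : ε = 1 ∨ ε = -1) : (ε : ℂ) * ε = 1 := by
  rcases h with h | h <;> subst h <;> norm_num

theorem conj_sgn {ε : ℤ} : conj (ε : ℂ) = ε := by simp

theorem sgn_ne {ε : ℤ} (h : ε = 1 ∨ ε = -1) : (ε : ℂ) ≠ 0 := by
  rcases h with h | h <;> subst h <;> norm_num

theorem isChar_eq_zero_of_one {A : Type*} [Group A] {χ : A → ℂ} (h : IsCharacter A χ)
    (h1 : χ 1 = 0) : χ = 0 := by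
  obtain ⟨n, ρ, hρ⟩ := h
  rw [← hρ, Representation.char_one, Module.finrank_fin_fun] at h1
  have hn : n = 0 := by exact_mod_cast h1
  subst hn
  rw [← hρ]
  funext g
  change LinearMap.trace ℂ _ (ρ g) = 0
  have : ρ g = 0 := Subsingleton.elim _ _
  rw [this, map_zero]

/-- Signed irreducible characters are unique. -/
theorem sgn_irr_unique [Fintype C] {ε ε' : ℤ} (hε : ε = 1 ∨ ε = -1) (hε' : ε' = 1 ∨ ε' = -1)
    {β β' : IrrCharacter C} (h : ∀ c : C, (ε : ℂ) * β.1 c = ε' * β'.1 c) : β = β' ∧ ε = ε' := by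
  classical
  have h1 : (ε : ℂ) • β.1 = (ε' : ℂ) • β'.1 := funext h
  have h2 : classInner ((ε : ℂ) • β.1) ((ε' : ℂ) • β'.1) = 1 := by
    rw [← h1, classInner_smul_left, classInner_smul_right, irr_inner_self β.2, conj_sgn, mul_one,
      sq_one hε]
  rw [classInner_smul_left, classInner_smul_right, irr_inner' β β'] at h2
  have h3 : β = β' := by
    by_contra hne
    rw [if_neg hne] at h2
    simp at h2
  subst h3
  refine ⟨rfl, ?_⟩
  obtain ⟨n, hn, hn1⟩ := isIrr_one_eq β.2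
  have h4 := h 1
  have h5 : β.1 1 ≠ 0 := by rw [hn1]; exact Nat.cast_ne_zero.mpr hn.ne'
  exact_mod_cast mul_right_cancel₀ h5 h4

theorem corr_constituent [Fintype C] (hC : ∀ x, x ∈ C ↔ x ∈ G ∧ x * s = s * x)
    {χh : Γ → ℂ} (hχ : IsIrrCharacter Γ χh) {β : C → ℂ} (hβ : IsIrrCharacter C β) {ε : ℤ}
    (hε : ε = 1 ∨ ε = -1) (h : ∀ c : C, χh (c * s) = ε * β c) :
    classInner (fun c : C => χh c) β ≠ 0 := by
  intro h0
  have hA := isChar_A hC (isChar_of_irr hχ) (isChar_of_irr hβ)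
  have h1 : (fun z : Subgroup.zpowers s => (Nat.card C : ℂ)⁻¹ * ∑ c : C, χh (c * z) * conj (β c)) 1
      = 0 := by
    simp only [Subgroup.coe_one, mul_one]
    rw [classInner_def] at h0
    exact h0
  have h2 := isChar_eq_zero_of_one hA h1
  have h3 := congrFun h2 ⟨s, Subgroup.mem_zpowers s⟩
  simp only [h, Pi.zero_apply] at h3
  have h4 : (Nat.card C : ℂ)⁻¹ * ∑ c : C, (ε : ℂ) * β c * conj (β c) = ε := by
    have h5 := irr_inner_self hβ
    rw [classInner_def] at h5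
    have : ∑ c : C, (ε : ℂ) * β c * conj (β c) = ε * ∑ c : C, β c * conj (β c) := by
      rw [Finset.mul_sum]
      exact Finset.sum_congr rfl fun c _ => by ring
    rw [this, mul_left_comm, h5, mul_one]
  rw [h4] at h3
  exact sgn_ne hε h3

theorem corr_inj (hcop : Nat.Coprime (Nat.card G) (orderOf s)) [Fintype C]
    (hC : ∀ x, x ∈ C ↔ x ∈ G ∧ x * s = s * x) {χ ψ : Γ → ℂ} (hχ : IsIrrCharacter Γ χ)
    (hψ : IsIrrCharacter Γ ψ) (hχG : IsIrrCharacter G (fun x : G => χ x))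
    (hψG : IsIrrCharacter G (fun x : G => ψ x)) {β : C → ℂ} (hβ : IsIrrCharacter C β) {ε ε' : ℤ}
    (hε : ε = 1 ∨ ε = -1) (hε' : ε' = 1 ∨ ε' = -1)
    (h : ∀ c : C, χ (c * s) = ε * β c) (h' : ∀ c : C, ψ (c * s) = ε' * β c) :
    (fun x : G => χ x) = (fun x : G => ψ x) := by
  by_contra hne
  have h1 := (coset_orth hcop hC hχ hψ hχG hψG).2 hne
  have h2 : (fun c : C => χ (c * s)) = (ε : ℂ) • β := funext h
  have h3 : (fun c : C => ψ (c * s)) = (ε' : ℂ) • β := funext h'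
  rw [h2, h3, classInner_smul_left, classInner_smul_right, irr_inner_self hβ, conj_sgn, mul_one]
    at h1
  rcases mul_eq_zero.mp h1 with h4 | h4
  · exact sgn_ne hε h4
  · exact sgn_ne hε' h4

theorem index_dvd (htop : G ⊔ Subgroup.zpowers s = ⊤) : G.index ∣ orderOf s := by
  have := quot_cyclic htop
  have h1 : ∀ q : Γ ⧸ G, q ^ orderOf s = 1 := by
    intro q
    obtain ⟨x, rfl⟩ := QuotientGroup.mk_surjective q
    have hx : x ∈ G ⊔ Subgroup.zpowers s := by rw [htop]; exact Subgroup.mem_top x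
    rw [Subgroup.mem_sup_of_normal_left] at hx
    obtain ⟨g, hg, _, ⟨i, rfl⟩, rfl⟩ := hx
    simp only
    rw [QuotientGroup.mk_mul, (QuotientGroup.eq_one_iff g).mpr hg, one_mul, QuotientGroup.mk_zpow,
      ← zpow_natCast, ← zpow_mul, mul_comm, zpow_mul, zpow_natCast, ← QuotientGroup.mk_pow,
      pow_orderOf_eq_one, QuotientGroup.mk_one, one_zpow]
  obtain ⟨q, hq⟩ := IsCyclic.exists_ofOrder_eq_natCard (α := Γ ⧸ G)
  rw [Subgroup.index_eq_card, ← hq]
  exact orderOf_dvd_of_pow_eq_one (h1 q)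

theorem coprime_det_deg {θ : G → ℂ} (hθ : IsIrrCharacter G θ) {d : ℕ} (hd : θ 1 = d) :
    detOrder θ ∣ Nat.card G ∧ d ∣ Nat.card G := by
  constructor
  · obtain ⟨l, hl⟩ := detChar_lin (isChar_of_irr hθ)
    rw [detOrder, hl, orderOf_linFn]
    apply orderOf_dvd_of_pow_eq_one
    ext x
    rw [MonoidHom.pow_apply, ← map_pow, pow_card_eq_one', map_one]
    rfl
  · obtain ⟨n, ρ, hρ, hρθ⟩ := hθ
    have : Fintype G := Fintype.ofFinite _
    have h5 := CharInt.degree_dvd_card ρ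
    rw [Module.finrank_fin_fun] at h5
    have h6 : n = d := by
      rw [← hρθ, Representation.char_one, Module.finrank_fin_fun] at hd
      exact_mod_cast hd
    rwa [h6] at h5

/-- The canonical extension of an invariant character. -/
theorem exists_canon (hcop : Nat.Coprime (Nat.card G) (orderOf s))
    (htop : G ⊔ Subgroup.zpowers s = ⊤) {θ : G → ℂ} (hθ : IsIrrCharacter G θ)
    (hinv : ∀ g : Γ, cj g θ = θ) : ∃ χ : Γ → ℂ, Canon G s χ ∧ (∀ n : G, χ n = θ n) ∧
      Nat.Coprime (detOrder χ) (orderOf s) := by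
  obtain ⟨d, -, hd⟩ := isIrr_one_eq hθ
  obtain ⟨h1, h2⟩ := coprime_det_deg hθ hd
  have h3 : Nat.Coprime (orderOf s) (detOrder θ * d) :=
    Nat.Coprime.mul_right (hcop.symm.coprime_dvd_right h1) (hcop.symm.coprime_dvd_right h2)
  obtain ⟨χ, ⟨hχ, hres, hdet⟩, -⟩ := ext_of_coprime_det (G := Γ) (N := G) hθ hinv hd
    (h3.coprime_dvd_left (index_dvd htop))
  have h4 : Nat.Coprime (detOrder χ) (orderOf s) := by
    rw [hdet]; exact hcop.coprime_dvd_left h1
  have h5 : (fun x : G => χ x) = θ := funext hres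
  exact ⟨χ, canon_of_det hcop htop hχ (by rw [h5]; exact hθ) h4, hres, h4⟩

/-- Surjectivity. -/
theorem corr_surj (hcop : Nat.Coprime (Nat.card G) (orderOf s))
    (htop : G ⊔ Subgroup.zpowers s = ⊤) [Fintype C]
    (hC : ∀ x, x ∈ C ↔ x ∈ G ∧ x * s = s * x) (β : IrrCharacter C) :
    ∃ χ : Γ → ℂ, Canon G s χ ∧ Nat.Coprime (detOrder χ) (orderOf s) ∧ ∃ ε : ℤ,
      (ε = 1 ∨ ε = -1) ∧ ∀ c : C, χ (c * s) = ε * β.1 c := by
  have hβ0 : β.1 ≠ 0 := by
    intro h
    have := irr_inner_self β.2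
    rw [h, classInner_def] at this
    simp at this
  obtain ⟨χ₀, hres, hne⟩ := exists_not_orth hcop htop hC (isChar_classFn (isChar_of_irr β.2)) hβ0
  obtain ⟨χ, hχ, hχres, hdet⟩ := exists_canon hcop htop hres
    (fun g => cj_res g (isChar_classFn (isChar_of_irr χ₀.2)))
  obtain ⟨β', ε, hε, hβ'⟩ := exists_corr hcop htop hC hχ
  obtain ⟨l, hl, hmul⟩ := exists_lin_of_ext hres hχ.irr χ₀.2 hχres (fun _ => rfl)
  refine ⟨χ, hχ, hdet, ε, hε, ?_⟩
  have h1 : (fun c : C => χ₀.1 (c * s)) = ((l s : ℂ) * ε) • β'.1 := by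
    funext c
    rw [hmul]
    change linFn l (c * s) * χ (c * s) = (l s : ℂ) * ε * β'.1 c
    rw [hβ' c, linFn_apply, map_mul, hl c ((hC c).mp c.2).1, one_mul]
    ring
  rw [h1, classInner_smul_right] at hne
  have h2 : β = β' := by
    classical
    by_contra h
    rw [irr_inner' β β', if_neg h, mul_zero] at hne
    exact hne rfl
  rw [h2]
  exact hβ'

theorem zpowers_eq_pow {t : Γ} (h : Subgroup.zpowers t = Subgroup.zpowers s) :
    ∃ j : ℕ, Nat.Coprime j (orderOf s) ∧ t = s ^ j := by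
  have h1 : t ∈ Subgroup.zpowers s := h ▸ Subgroup.mem_zpowers t
  rw [← mem_powers_iff_mem_zpowers] at h1
  obtain ⟨j, hj⟩ := h1
  simp only at hj
  refine ⟨j, ?_, hj.symm⟩
  have h2 : orderOf (s ^ j) = orderOf s := by
    rw [hj, ← Nat.card_zpowers, ← Nat.card_zpowers, h]
  rw [orderOf_pow] at h2
  have hpos := orderOf_pos s
  have h3 := Nat.div_mul_cancel (Nat.gcd_dvd_left (orderOf s) j)
  rw [h2] at h3
  have h4 : (orderOf s).gcd j = 1 := Nat.eq_of_mul_eq_mul_left hpos (by rw [h3, mul_one])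
  rw [Nat.coprime_comm]
  exact h4

end Main2

end

end Cfsg.Agent.Lib.CharGlaub
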