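import Cfsg.Agent.Lib.BlockRey
import Cfsg.Agent.Lib.BlockKB
import Cfsg.Agent.Lib.BlockLar
import Cfsg.Agent.Lib.BlockMaxB
import Cfsg.Agent.Lib.BlockIndIn
import Cfsg.Agent.Lib.BlockBFM

import Cfsg.Agent.Lib.BlkH6I
import Cfsg.Agent.Lib.BlkH6H
import Cfsg.Agent.S4435
import Cfsg.Agent.S4436
import Cfsg.Agent.Lib.BlkH6G
import Cfsg.Agent.Lib.BlkH6F
import Cfsg.Agent.Lib.BlkH5T
import Cfsg.Agent.Lib.BlkH5U
import Cfsg.Agent.Lib.BlkH5V
import Cfsg.Agent.Lib.BlkH5W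
import Cfsg.Agent.Lib.BlkH5X
import Cfsg.Agent.Lib.BlkH5Q
import Cfsg.Agent.Lib.BlkH5R
import Cfsg.Agent.Lib.BlkH5S
import Cfsg.Agent.Lib.BlockLoc
import Cfsg.Agent.Lib.BlockGA
import Cfsg.Agent.Lib.BlockOrth
import Cfsg.Agent.Lib.BlockFirst
import Cfsg.Agent.Lib.BlockCov
import Cfsg.Agent.Lib.BlockCovB
import Cfsg.Agent.Lib.BlockNilC
import Cfsg.Agent.Lib.BlockNilB
import Cfsg.Agent.Lib.BlockDef
import Cfsg.Agent.Lib.BlockDeg
import Cfsg.Agent.Lib.BlockRed
import Cfsg.Agent.Lib.BlockIdem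
import Cfsg.Agent.Lib.BlockTr
import Cfsg.Agent.Lib.BlockInd
import Cfsg.Agent.Lib.BlockSecond
import Cfsg.Agent.Lib.BlockPair
import Cfsg.Agent.Lib.BlockPairB
import Cfsg.Agent.Lib.BlockPairC
import Cfsg.Agent.Lib.BlockPairD
import Cfsg.Agent.Lib.BlockPairE
import Cfsg.Agent.Lib.BlockBP
import Cfsg.Agent.Lib.BlockMaxB
import Cfsg.Agent.Lib.BlockMax
import Cfsg.Agent.Lib.PCon
import Cfsg.Agent.Lib.PConB
import Cfsg.Agent.Lib.HallHigman
import Cfsg.Agent.Lib.CharBasic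
import Cfsg.Agent.Lib.CharKer
import Cfsg.Agent.Lib.CharClifford
import Cfsg.Agent.Lib.CharExt
import Cfsg.Agent.Lib.CharRatio
import Cfsg.Agent.Lib.CharNormal
import Cfsg.Agent.Lib.CharInd
import Cfsg.Agent.Lib.CharGlaub

/-!
Heights in p-solvable groups.
-/

set_option autoImplicit false
set_option linter.style.haveILetI false
set_option linter.unusedVariables false
set_option linter.unusedSectionVars false
set_option linter.unusedDecidableInType false
set_option linter.unusedFintypeInType false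
set_option linter.unusedSimpArgs false

namespace Cfsg.Agent.Lib.BlkH6J
open Cfsg Cfsg.Agent.Lib.BlockLoc Cfsg.Agent.Lib.BlockGA Cfsg.Agent.Lib.CharBasic
open Cfsg.Agent.Lib.BlockIdem Cfsg.Agent.Lib.BlockPP Cfsg.Agent.Lib.BlockOrth
open Cfsg.Agent.Lib.BlockRed Cfsg.Agent.Lib.BlockDef Cfsg.Agent.Lib.BlockDeg
open Cfsg.Agent.Lib.BlockNP Cfsg.Agent.Lib.BlockInd Cfsg.Agent.Lib.BlockSecond
open Cfsg.Agent.Lib.BlockFirst Cfsg.Agent.Lib.BlockHt Cfsg.Agent.Lib.BlockM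
open Cfsg.Agent.Lib.BlockCov Cfsg.Agent.Lib.BlockQuot Cfsg.Agent.Lib.CharKer
open Cfsg.Agent.Lib.BlockQuotB Cfsg.Agent.Lib.BlockMore Cfsg.Agent.Lib.BlockMoreB
open Cfsg.Agent.Lib.BlockTr Cfsg.Agent.Lib.CharNormal Cfsg.Agent.Lib.BlockCovB
open Cfsg.Agent.Lib.BlockBP Cfsg.Agent.Lib.BlockInt Cfsg.Agent.Lib.BlockSum Cfsg.Agent.Lib.BlockRk
open Cfsg.Agent.Lib.BlockFusB Cfsg.Agent.Lib.BlockMax Cfsg.Agent.Lib.CharSplit Cfsg.Agent.Lib.CharBrauer
open Cfsg.Agent.Lib.CharInd Cfsg.Agent.Lib.BlockPC Cfsg.Agent.Lib.BlockPair Cfsg.Agent.Lib.BlockPairB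
open Cfsg.Agent.Lib.BlockPairC Cfsg.Agent.Lib.BlockPairD Cfsg.Agent.Lib.BlockPairE
open Cfsg.Agent.Lib.BlockRey Cfsg.Agent.Lib.BlockPairF Cfsg.Agent.Lib.BlockFus Cfsg.Agent.Lib.BlockNilB Cfsg.Agent.Lib.BlockNil Cfsg.Agent.Lib.CharClifford
open Cfsg.Agent.Lib.BlockKB Cfsg.Agent.Lib.BlockLar Cfsg.Agent.Lib.BlockMaxB Cfsg.Agent.Lib.BlockIndIn Cfsg.Agent.Lib.BlockBFM
open Cfsg.Agent.Lib.BlkH6I Cfsg.Agent.Lib.BlkH6H Cfsg.Agent.Lib.BlkH6G Cfsg.Agent.Lib.BlkH6F Cfsg.Agent.Lib.BlkH5T Cfsg.Agent.Lib.BlkH5U Cfsg.Agent.Lib.BlkH5V Cfsg.Agent.Lib.BlkH5W Cfsg.Agent.Lib.BlkH5X Cfsg.Agent.Lib.BlkH5Q Cfsg.Agent.Lib.BlkH5R Cfsg.Agent.Lib.BlkH5S Cfsg.Agent.Lib.BlockLoc Cfsg.Agent.Lib.BlockGA Cfsg.Agent.Lib.BlockOrth Cfsg.Agent.Lib.BlockFirst Cfsg.Agent.Lib.BlockCov Cfsg.Agent.Lib.BlockCovB Cfsg.Agent.Lib.BlockNilC Cfsg.Agent.Lib.BlockNilB Cfsg.Agent.Lib.BlockDef Cfsg.Agent.Lib.BlockDeg Cfsg.Agent.Lib.BlockRed Cfsg.Agent.Lib.BlockIdem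 Cfsg.Agent.Lib.BlockTr Cfsg.Agent.Lib.BlockInd Cfsg.Agent.Lib.BlockSecond Cfsg.Agent.Lib.BlockPair Cfsg.Agent.Lib.BlockPairB Cfsg.Agent.Lib.BlockPairC Cfsg.Agent.Lib.BlockPairD Cfsg.Agent.Lib.BlockPairE Cfsg.Agent.Lib.BlockBP Cfsg.Agent.Lib.BlockMaxB Cfsg.Agent.Lib.BlockMax Cfsg.Agent.Lib.PCon Cfsg.Agent.Lib.PConB Cfsg.Agent.Lib.HallHigman Cfsg.Agent.Lib.CharBasic Cfsg.Agent.Lib.CharKer Cfsg.Agent.Lib.CharClifford Cfsg.Agent.Lib.CharExt Cfsg.Agent.Lib.CharRatio Cfsg.Agent.Lib.CharNormal Cfsg.Agent.Lib.CharInd Cfsg.Agent.Lib.CharGlaub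
open scoped ComplexConjugate


section AbelQuot

variable {X : Type*} [Group X] [Fintype X] {N : Subgroup X} [hN : N.Normal] [Fintype N]

theorem deg_over_trivial (hab : ∀ a b : X, a * b * a⁻¹ * b⁻¹ ∈ N) {β : X → ℂ}
    (hβ : IsIrrCharacter X β) (h : classInner (fun n : N => β n) (fun _ => 1) ≠ 0) : β 1 = 1 := by
  have h1 := ker_of_trivial_constituent hβ h
  obtain ⟨ψ, hψ, he, hi⟩ := exists_quot (isChar_of_irr hβ) h1
  obtain ⟨l, hl⟩ := irr_lin_of_comm (G := X ⧸ N) (by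
    intro a b
    obtain ⟨a, rfl⟩ := QuotientGroup.mk_surjective a
    obtain ⟨b, rfl⟩ := QuotientGroup.mk_surjective b
    have h2 : ((a * b * a⁻¹ * b⁻¹ : X) : X ⧸ N) = 1 := (QuotientGroup.eq_one_iff _).2 (hab a b)
    simp only [QuotientGroup.mk_mul, QuotientGroup.mk_inv] at h2
    have h3 := mul_inv_eq_one.1 h2
    exact mul_inv_eq_iff_eq_mul.1 h3) (hi hβ)
  rw [he, hl]
  simp

theorem deg_over_coprime (hab : ∀ a b : X, a * b * a⁻¹ * b⁻¹ ∈ N)
    (hcop : Nat.Coprime N.index (Nat.card N)) {θ : N → ℂ} (hθ : IsIrrCharacter N θ)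
    (hinv : ∀ g : X, cj g θ = θ) {φ : X → ℂ} (hφ : IsIrrCharacter X φ)
    (h : classInner (fun n : N => φ n) θ ≠ 0) : φ 1 = θ 1 := by
  obtain ⟨d, hd⟩ := isChar_one_eq (isChar_of_irr hθ)
  obtain ⟨h1, h2⟩ := Cfsg.Agent.Lib.CharGlaub.coprime_det_deg hθ hd
  have hd1 : Nat.Coprime N.index (detOrder θ) := hcop.coprime_dvd_right h1
  have hd2 : Nat.Coprime N.index d := hcop.coprime_dvd_right h2
  obtain ⟨χ, ⟨hχ, hext, -⟩, -⟩ := ext_of_coprime_det hθ hinv hd (hd1.mul_right hd2)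
  have htriv : IsIrrCharacter N (fun _ : N => (1 : ℂ)) := isIrr_trivial
  have hmul : (fun _ : N => (1 : ℂ)) * θ = θ := by
    funext n
    simp
  have hb := gallagher_bij (N := N) htriv (fun g => rfl) hinv (by rw [hmul]; exact hθ) hχ hext
  have h3 : φ ∈ {ψ : X → ℂ | IsIrrCharacter X ψ ∧
      classInner (indFun N ((fun _ : N => (1 : ℂ)) * θ)) ψ ≠ 0} := by
    refine ⟨hφ, ?_⟩
    rw [hmul]
    intro h0
    apply h
    have h4 := Cfsg.Agent.Lib.CharInd.reciprocity' N θ φ (isChar_classFn (isChar_of_irr hφ))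
    rw [← h4, ← classInner_conj_symm, h0, map_zero]
  obtain ⟨β, hβ, hβφ⟩ := hb.surjOn h3
  have h5 : classInner (fun n : N => β n) (fun _ => 1) ≠ 0 := by
    intro h0
    apply hβ.2
    have h4 := Cfsg.Agent.Lib.CharInd.reciprocity' N (fun _ => 1) β (isChar_classFn (isChar_of_irr hβ.1))
    rw [← classInner_conj_symm, h4, h0, map_zero]
  have h6 := deg_over_trivial hab hβ.1 h5
  rw [← hβφ]
  change β 1 * χ 1 = θ 1
  rw [h6, one_mul]
  exact hext 1

end AbelQuot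

section CenterIdx

variable {G : Type*} [Group G] [Finite G] {p : ℕ}

theorem center_index_equiv {A B : Type*} [Group A] [Group B] (e : A ≃* B) :
    (Subgroup.center A).index = (Subgroup.center B).index := by
  have h1 : (Subgroup.center B).comap e.toMonoidHom = Subgroup.center A := by
    ext a
    rw [Subgroup.mem_comap, Subgroup.mem_center_iff, Subgroup.mem_center_iff]
    constructor
    · intro h g
      have := h (e g)
      apply e.injective
      rw [map_mul, map_mul]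
      exact this
    · intro h g
      have := h (e.symm g)
      have h2 := congrArg e this
      rw [map_mul, map_mul, e.apply_symm_apply] at h2
      exact h2
  rw [← h1, Subgroup.index_comap_of_surjective _ e.surjective]

/-- The preimage of the centre of `O_p(G / N)`. -/
def ZM (p : ℕ) (G : Type*) [Group G] : Subgroup G :=
  ((Subgroup.center (pCore p (G ⧸ pPrimeCore p G))).map
    (pCore p (G ⧸ pPrimeCore p G)).subtype).comap (QuotientGroup.mk' (pPrimeCore p G))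

theorem ZM_normal : (ZM p G).Normal := by
  haveI := Cfsg.Agent.Lib.Cores.pPrimeCore_normal (G := G) p
  haveI := Cfsg.Agent.Lib.Cores.pCore_normal (G := G ⧸ pPrimeCore p G) p
  unfold ZM
  have h1 : ((Subgroup.center (pCore p (G ⧸ pPrimeCore p G))).map
    (pCore p (G ⧸ pPrimeCore p G)).subtype).Normal := inferInstance
  exact h1.comap _

theorem le_ZM : pPrimeCore p G ≤ ZM p G := by
  haveI := Cfsg.Agent.Lib.Cores.pPrimeCore_normal (G := G) p
  intro x hx
  have h1 : QuotientGroup.mk' (pPrimeCore p G) x = 1 := (QuotientGroup.eq_one_iff x).mpr hx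
  unfold ZM
  rw [Subgroup.mem_comap, h1]
  exact Subgroup.one_mem _

theorem ZM_comm (a b : ZM p G) : (a : G) * b * (a : G)⁻¹ * (b : G)⁻¹ ∈ pPrimeCore p G := by
  haveI := Cfsg.Agent.Lib.Cores.pPrimeCore_normal (G := G) p
  rw [← QuotientGroup.eq_one_iff (N := pPrimeCore p G)]
  obtain ⟨x, hx, hxa⟩ := a.2
  obtain ⟨y, hy, hyb⟩ := b.2
  have h1 : (QuotientGroup.mk' (pPrimeCore p G)) ((a : G) * b * (a : G)⁻¹ * (b : G)⁻¹) = 1 := by
    simp only [map_mul, map_inv]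
    rw [← hxa, ← hyb]
    have h2 := Subgroup.mem_center_iff.1 hy x
    have h3 : ((x * y : pCore p (G ⧸ pPrimeCore p G)) : G ⧸ pPrimeCore p G) = ((y * x : pCore p (G ⧸ pPrimeCore p G)) : G ⧸ pPrimeCore p G) := by rw [h2]
    change (x : G ⧸ pPrimeCore p G) * y * (x : G ⧸ pPrimeCore p G)⁻¹ * (y : G ⧸ pPrimeCore p G)⁻¹ = 1
    have h4 : (x : G ⧸ pPrimeCore p G) * y = y * x := h3
    rw [h4]
    group
  exact h1

theorem ZM_index [Fact p.Prime] : ∃ k, ((pPrimeCore p G).subgroupOf (ZM p G)).index = p ^ k ∧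
    Nat.card ((Subgroup.center (pCore p (G ⧸ pPrimeCore p G))).map
    (pCore p (G ⧸ pPrimeCore p G)).subtype) = p ^ k := by
  haveI := Cfsg.Agent.Lib.Cores.pPrimeCore_normal (G := G) p
  have h := Subgroup.relIndex_ker (ZM p G) (QuotientGroup.mk' (pPrimeCore p G))
  rw [QuotientGroup.ker_mk'] at h
  have h2 : (ZM p G).map (QuotientGroup.mk' (pPrimeCore p G)) =
      (Subgroup.center (pCore p (G ⧸ pPrimeCore p G))).map (pCore p (G ⧸ pPrimeCore p G)).subtype := by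
    unfold ZM
    exact Subgroup.map_comap_eq_self_of_surjective (QuotientGroup.mk'_surjective _) _
  rw [h2] at h
  have h3 : IsPGroup p ((Subgroup.center (pCore p (G ⧸ pPrimeCore p G))).map
    (pCore p (G ⧸ pPrimeCore p G)).subtype) :=
    (Cfsg.Agent.Lib.Cores.pCore_isPGroup p).to_le (Subgroup.map_subtype_le _)
  obtain ⟨k, hk⟩ := IsPGroup.iff_card.1 h3
  exact ⟨k, h.trans hk, hk⟩

theorem center_sylow_le [Fact p.Prime] (hsolv : IsPSolvable p G) (P : Sylow p G) :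
    Nat.card (Subgroup.center P) ≤ Nat.card ((Subgroup.center (pCore p (G ⧸ pPrimeCore p G))).map
    (pCore p (G ⧸ pPrimeCore p G)).subtype) := by
  haveI := Cfsg.Agent.Lib.Cores.pPrimeCore_normal (G := G) p
  haveI := Cfsg.Agent.Lib.Cores.pCore_normal (G := G ⧸ pPrimeCore p G) p
  set π := QuotientGroup.mk' (pPrimeCore p G) with hπ
  have hO : pCore p (G ⧸ pPrimeCore p G) ≤ (P : Subgroup G).map π := by
    have h1 := Cfsg.Agent.Lib.Cores.pCore_le_sylow
      (P.mapSurjective (QuotientGroup.mk'_surjective (pPrimeCore p G)))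
    exact h1
  have hcst := Cfsg.Agent.Lib.PConB.cst_of_isPSolvable hsolv
  have hmem : ∀ z : Subgroup.center P, π ((z : P) : G) ∈
      (Subgroup.center (pCore p (G ⧸ pPrimeCore p G))).map (pCore p (G ⧸ pPrimeCore p G)).subtype := by
    intro z
    have hc : ∀ q ∈ pCore p (G ⧸ pPrimeCore p G), q * π ((z : P) : G) = π ((z : P) : G) * q := by
      intro q hq
      obtain ⟨x, hx, rfl⟩ := hO hq
      have h2 := Subgroup.mem_center_iff.1 z.2 ⟨x, hx⟩
      have h3 : x * ((z : P) : G) = ((z : P) : G) * x := congrArg Subtype.val h2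
      rw [← map_mul, h3, map_mul]
    have h4 : π ((z : P) : G) ∈ pCore p (G ⧸ pPrimeCore p G) := by
      apply hcst
      rw [Subgroup.mem_centralizer_iff]
      exact fun q hq => hc q hq
    refine ⟨⟨_, h4⟩, ?_, rfl⟩
    rw [SetLike.mem_coe, Subgroup.mem_center_iff]
    intro q
    apply Subtype.ext
    exact hc q q.2
  refine Nat.card_le_card_of_injective (fun z : Subgroup.center P => (⟨_, hmem z⟩ :
    ((Subgroup.center (pCore p (G ⧸ pPrimeCore p G))).map (pCore p (G ⧸ pPrimeCore p G)).subtype))) ?_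
  intro z w h
  have h5 : π ((z : P) : G) = π ((w : P) : G) := congrArg Subtype.val h
  have h6 : ((z : P) : G)⁻¹ * ((w : P) : G) ∈ pPrimeCore p G := by
    rw [← QuotientGroup.eq_one_iff (N := pPrimeCore p G)]
    have : π (((z : P) : G)⁻¹ * ((w : P) : G)) = 1 := by rw [map_mul, map_inv, h5, inv_mul_cancel]
    exact this
  have h7 : ((z : P) : G)⁻¹ * ((w : P) : G) ∈ (P : Subgroup G) := mul_mem (inv_mem (z : P).2) (w : P).2
  have h8 : (P : Subgroup G) ⊓ pPrimeCore p G = ⊥ := by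
    rw [← Subgroup.card_eq_one]
    obtain ⟨k, hk⟩ := IsPGroup.iff_card.1 (P.2.to_le (inf_le_left : (P : Subgroup G) ⊓ pPrimeCore p G ≤ P))
    rcases Nat.eq_zero_or_pos k with h0 | h0
    · rw [hk, h0, pow_zero]
    · exfalso
      apply Cfsg.Agent.Lib.Cores.pPrimeCore_not_dvd (G := G) p
      refine dvd_trans ?_ (Subgroup.card_dvd_of_le (inf_le_right : (P : Subgroup G) ⊓ pPrimeCore p G ≤ pPrimeCore p G))
      rw [hk]
      exact dvd_pow_self p h0.ne'
  have h9 : ((z : P) : G)⁻¹ * ((w : P) : G) ∈ (P : Subgroup G) ⊓ pPrimeCore p G := ⟨h7, h6⟩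
  rw [h8, Subgroup.mem_bot] at h9
  apply Subtype.ext
  apply Subtype.ext
  exact inv_mul_eq_one.1 h9

end CenterIdx

section HtInv

variable {G : Type*} [Group G] [Fintype G] {p : ℕ} {M : Ideal AlgInt}

theorem fac_deg_of_inv (hM : IsPModular p M) {N : Subgroup G} [hN : N.Normal] [Fintype N]
    (hNe : N = pPrimeCore p G) {θ : IrrCharacter N}
    (hθ : GStab (G := G) ({θ} : Set (IrrCharacter N))) {χ : IrrCharacter G} (hχ : Over χ θ) :
    (charDegree χ.1).factorization p ≤ (ZM p G).index.factorization p := by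
  haveI := factP hM
  haveI hZ : (ZM p G).Normal := ZM_normal
  haveI : Fintype (ZM p G) := Fintype.ofFinite _
  have hNZ : N ≤ ZM p G := by rw [hNe]; exact le_ZM
  have hNp : ¬ p ∣ Nat.card N := by
    rw [hNe]; exact Cfsg.Agent.Lib.Cores.pPrimeCore_not_dvd p
  haveI : Fintype (N.subgroupOf (ZM p G)) := Fintype.ofFinite _
  obtain ⟨φ, hφ⟩ := exists_over_below (N := ZM p G) χ
  obtain ⟨ψ, hψ⟩ := exists_OvT hNZ φ
  have h1 : Over χ ψ := over_of_stages hNZ (isChar_of_irr χ.2) hφ hψ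
  obtain ⟨x, hx⟩ := exists_cjI_of_over hχ h1
  have h2 : ψ = θ := by
    rw [hx]; exact hθ θ rfl x
  subst h2
  have h3 := (over_iff_OvT hNZ).2 hψ
  have hcop : Nat.Coprime (N.subgroupOf (ZM p G)).index (Nat.card (N.subgroupOf (ZM p G))) := by
    obtain ⟨k, hk, -⟩ := ZM_index (G := G) (p := p)
    rw [← hNe] at hk
    rw [hk, Nat.card_congr (Subgroup.subgroupOfEquivOfLe hNZ).toEquiv]
    exact Nat.Coprime.pow_left k ((Nat.Prime.coprime_iff_not_dvd hM.1).2 hNp)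
  have h4 := deg_over_coprime (X := ZM p G) (N := N.subgroupOf (ZM p G)) (by
    intro a b
    rw [Subgroup.mem_subgroupOf, hNe]
    exact ZM_comm a b) hcop (trI (Subgroup.subgroupOfEquivOfLe hNZ) ψ).2 (by
      intro g
      funext n
      exact gStab_single hθ (g : G) (Subgroup.subgroupOfEquivOfLe hNZ n)
        (Subgroup.subgroupOfEquivOfLe hNZ ⟨g * n * g⁻¹, (inferInstance :
          (N.subgroupOf (ZM p G)).Normal).conj_mem n n.2 g⟩) rfl) φ.2 h3
  have h5 : φ.1 1 = ψ.1 1 := by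
    rw [h4]
    change ψ.1 (Subgroup.subgroupOfEquivOfLe hNZ 1) = _
    rw [map_one]
  obtain ⟨b, hb, hbd⟩ := Cfsg.Agent.Lib.CharRatio.ratio (N := ZM p G) φ.2 χ.2 hφ
  have h6 : charDegree χ.1 = b * charDegree ψ.1 := by
    apply charDegree_eq
    rw [hb, h5, Nat.cast_mul, charDegree_cast (isChar_of_irr ψ.2)]
  have h7 : ¬ p ∣ charDegree ψ.1 := fun h => hNp (h.trans (charDegree_dvd ψ.2))
  have hb0 : b ≠ 0 := by
    rintro rfl
    rw [zero_mul] at h6
    exact charDegree_ne_zero χ.2 h6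
  rw [h6, Nat.factorization_mul hb0 (charDegree_ne_zero ψ.2), Finsupp.add_apply,
    Nat.factorization_eq_zero_of_not_dvd h7, add_zero]
  exact (Nat.factorization_le_iff_dvd hb0 Subgroup.index_ne_zero_of_finite).2 hbd p

theorem height_inv (hM : IsPModular p M) (hsolv : IsPSolvable p G) {N : Subgroup G} [hN : N.Normal]
    [Fintype N] (hNe : N = pPrimeCore p G) {θ : IrrCharacter N}
    (hθ : GStab (G := G) ({θ} : Set (IrrCharacter N))) {B : Set (IrrCharacter G)}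
    (hB : IsPBlock M B) (hcov : Cov B ({θ} : Set (IrrCharacter N))) {P : Subgroup G}
    (hP : IsDefectGroup p M B P) {χ : IrrCharacter G} (hχ : χ ∈ B) :
    blockHeight p B χ.1 ≤ (Subgroup.center P).index.factorization p := by
  haveI := factP hM
  have hL := pp_normal (G := G) (p := p)
  obtain ⟨L, Q, hLe, hQ, hQL, hQS, hCQ⟩ := pSolv_setup hM hsolv
  haveI hLn : L.Normal := hLe ▸ hL
  have hNL : N ≤ L := by rw [hNe, hLe]; exact Cfsg.Agent.Lib.PCon.pPrimeCore_le_pPrimePCore p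
  have hNp : ¬ p ∣ Nat.card N := by
    rw [hNe]; exact Cfsg.Agent.Lib.Cores.pPrimeCore_not_dvd p
  have hov : ∀ ψ ∈ B, Over ψ θ := by
    intro ψ hψ
    obtain ⟨η, hη, h⟩ := mem_above_of_cov hM (single_block hM hNp θ) hθ hB hcov hψ
    rw [Set.mem_singleton_iff] at hη
    rwa [hη] at h
  obtain ⟨h1, h2, h3⟩ := inv_block_sylow hM hNL hNp (pp_index hNe hLe) hQ hQL hQS
    (fun y hy _ => hCQ hy) hθ
  have hBe : B = {χ : IrrCharacter G | Over χ θ} :=
    block_eq_of_mem_of_mem hM hB h1 hχ (hov χ hχ)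
  obtain ⟨S, hS⟩ := (h3 P).1 (hBe ▸ hP)
  have h4 : blockHeight p B χ.1 ≤ (charDegree χ.1).factorization p := by
    unfold blockHeight; exact Nat.sub_le _ _
  refine h4.trans ((fac_deg_of_inv hM hNe hθ (hov χ hχ)).trans ?_)
  -- compare indices
  obtain ⟨k, hk, hkc⟩ := ZM_index (G := G) (p := p)
  have h5 := center_sylow_le hsolv S
  rw [hkc] at h5
  have hSp := S.2
  obtain ⟨c, hc⟩ := IsPGroup.iff_card.1 (hSp.to_subgroup (Subgroup.center S))
  rw [hc] at h5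
  have h6 : c ≤ k := (Nat.pow_le_pow_iff_right hM.1.one_lt).1 h5
  subst hS
  have h7 := Subgroup.card_mul_index (Subgroup.center (S : Subgroup G))
  have h8 := congrArg (fun n => Nat.factorization n p) h7
  beta_reduce at h8
  rw [Nat.factorization_mul Nat.card_pos.ne' Subgroup.index_ne_zero_of_finite, Finsupp.add_apply, hc,
    hM.1.factorization_pow, Finsupp.single_eq_same, S.card_eq_multiplicity, hM.1.factorization_pow,
    Finsupp.single_eq_same] at h8
  have h9 : (ZM p G).index.factorization p + k = (Nat.card G).factorization p := by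
    have e1 := Subgroup.card_mul_index (ZM p G)
    have e2 : Nat.card (ZM p G) = Nat.card (pPrimeCore p G) * p ^ k := by
      have e3 := Subgroup.card_mul_index ((pPrimeCore p G).subgroupOf (ZM p G))
      rw [hk, Nat.card_congr (Subgroup.subgroupOfEquivOfLe le_ZM).toEquiv] at e3
      exact e3.symm
    rw [← e1, e2, Nat.factorization_mul (mul_ne_zero Nat.card_pos.ne' (pow_ne_zero _ hM.1.ne_zero))
      Subgroup.index_ne_zero_of_finite, Nat.factorization_mul Nat.card_pos.ne' (pow_ne_zero _ hM.1.ne_zero)]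
    simp only [Finsupp.add_apply]
    rw [Nat.factorization_eq_zero_of_not_dvd (Cfsg.Agent.Lib.Cores.pPrimeCore_not_dvd p),
      hM.1.factorization_pow, Finsupp.single_eq_same]
    omega
  omega

end HtInv

end Cfsg.Agent.Lib.BlkH6J
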