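import Cfsg.Agent.Lib.BlockRey
import Cfsg.Agent.Lib.BlockKB
import Cfsg.Agent.Lib.BlockLar
import Cfsg.Agent.Lib.BlockMaxB
import Cfsg.Agent.Lib.BlockIndIn
import Cfsg.Agent.Lib.BlockBFM

import Cfsg.Agent.Lib.BlkH6J

/-!
Coherence for lattices with Gram matrix mJ+I.
-/

set_option autoImplicit false
set_option linter.style.haveILetI false
set_option linter.unusedVariables false
set_option linter.unusedSectionVars false
set_option linter.unusedDecidableInType false
set_option linter.unusedFintypeInType false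
set_option linter.unusedSimpArgs false

namespace Cfsg.Agent.Lib.BlkH6K
open Cfsg Cfsg.Agent.Lib.BlockLoc Cfsg.Agent.Lib.BlockGA Cfsg.Agent.Lib.CharBasic
open Cfsg.Agent.Lib.BlockIdem Cfsg.Agent.Lib.BlockPP Cfsg.Agent.Lib.BlockOrth
open Cfsg.Agent.Lib.BlockRed Cfsg.Agent.Lib.BlockDef Cfsg.Agent.Lib.BlockDeg
open Cfsg.Agent.Lib.BlockNP Cfsg.Agent.Lib.BlockInd Cfsg.Agent.Lib.BlockSecond
open Cfsg.Agent.Lib.BlockFirst Cfsg.Agent.Lib.BlockHt Cfsg.Agent.Lib.BlockM
open Cfsg.Agent.Lib.BlockCov Cfsg.Agent.Lib.BlockQuot Cfsg.Agent.Lib.CharKer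
open Cfsg.Agent.Lib.BlockQuotB Cfsg.Agent.Lib.BlockMore Cfsg.Agent.Lib.BlockMoreB
open Cfsg.Agent.Lib.BlockTr Cfsg.Agent.Lib.CharNormal Cfsg.Agent.Lib.BlockCovB
open Cfsg.Agent.Lib.BlockBP Cfsg.Agent.Lib.BlockInt Cfsg.Agent.Lib.BlockSum Cfsg.Agent.Lib.BlockRk
open Cfsg.Agent.Lib.BlockFusB Cfsg.Agent.Lib.BlockMax Cfsg.Agent.Lib.CharSplit Cfsg.Agent.Lib.CharBrauer
open Cfsg.Agent.Lib.CharInd Cfsg.Agent.Lib.BlockPC Cfsg.Agent.Lib.BlockPair Cfsg.Agent.Lib.BlockPairB
open Cfsg.Agent.Lib.BlockPairC Cfsg.Agent.Lib.BlockPairD Cfsg.Agent.Lib.BlockPairE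
open Cfsg.Agent.Lib.BlockRey Cfsg.Agent.Lib.BlockPairF Cfsg.Agent.Lib.BlockFus Cfsg.Agent.Lib.BlockNilB Cfsg.Agent.Lib.BlockNil Cfsg.Agent.Lib.CharClifford
open Cfsg.Agent.Lib.BlockKB Cfsg.Agent.Lib.BlockLar Cfsg.Agent.Lib.BlockMaxB Cfsg.Agent.Lib.BlockIndIn Cfsg.Agent.Lib.BlockBFM
open Cfsg.Agent.Lib.BlkH6J
open scoped ComplexConjugate


section Coh

theorem two_sq {B : Type*} [Fintype B] [DecidableEq B] (v deg : B → ℤ) (hdeg : ∀ χ, 0 < deg χ)
    (h2 : ∑ χ, v χ ^ 2 = 2) (h0 : ∑ χ, v χ * deg χ = 0) :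
    ∃ a b, a ≠ b ∧ ∀ χ, v χ = (if χ = a then 1 else 0) - (if χ = b then 1 else 0) := by
  have key : ∀ w : B → ℤ, ∑ χ, w χ ^ 2 = 2 → ∑ χ, w χ * deg χ = 0 → ∃ a, 0 < w a := by
    intro w hw2 hw0
    by_contra hn
    push Not at hn
    have h1 : ∀ χ ∈ Finset.univ, w χ * deg χ ≤ 0 := fun χ _ =>
      mul_nonpos_of_nonpos_of_nonneg (hn χ) (hdeg χ).le
    have h3 := (Finset.sum_eq_zero_iff_of_nonpos h1).1 hw0
    have h4 : ∑ χ, w χ ^ 2 = 0 := Finset.sum_eq_zero (fun χ hχ => by
      rcases mul_eq_zero.1 (h3 χ hχ) with h | h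
      · rw [h]; rfl
      · exact absurd h (hdeg χ).ne')
    omega
  obtain ⟨a, ha⟩ := key v h2 h0
  obtain ⟨b, hb⟩ := key (fun χ => - v χ) (by simpa using h2) (by simpa using h0)
  have hb' : v b < 0 := by simpa using hb
  have hab : a ≠ b := by rintro rfl; omega
  have e1 := Finset.add_sum_erase Finset.univ (fun χ => v χ ^ 2) (Finset.mem_univ a)
  have hb2 : b ∈ Finset.univ.erase a := Finset.mem_erase.2 ⟨hab.symm, Finset.mem_univ _⟩
  have e2 := Finset.add_sum_erase (Finset.univ.erase a) (fun χ => v χ ^ 2) hb2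
  have e3 : 0 ≤ ∑ χ ∈ (Finset.univ.erase a).erase b, v χ ^ 2 :=
    Finset.sum_nonneg (fun _ _ => sq_nonneg _)
  have e4 : 1 ≤ v a ^ 2 := by nlinarith
  have e5 : 1 ≤ v b ^ 2 := by nlinarith
  have e6 : ∑ χ ∈ (Finset.univ.erase a).erase b, v χ ^ 2 = 0 := by
    linarith
  have e7 : v a ^ 2 = 1 := by linarith
  have e8 : v b ^ 2 = 1 := by linarith
  refine ⟨a, b, hab, fun χ => ?_⟩
  by_cases h : χ = a
  · subst h
    rw [if_pos rfl, if_neg hab]
    nlinarith
  · by_cases h' : χ = b
    · subst h'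
      rw [if_neg h, if_pos rfl]
      nlinarith
    · rw [if_neg h, if_neg h']
      have := (Finset.sum_eq_zero_iff_of_nonneg (fun _ _ => sq_nonneg _)).1 e6 χ
        (Finset.mem_erase.2 ⟨h', Finset.mem_erase.2 ⟨h, Finset.mem_univ _⟩⟩)
      simpa using this

theorem coherence {ι B : Type*} [DecidableEq ι] [Fintype B] [DecidableEq B]
    (A : ι → B → ℤ) (m : ℤ) (hA : ∀ i j, ∑ χ, A i χ * A j χ = m + if i = j then 1 else 0)
    (deg : B → ℤ) (hdeg : ∀ χ, 0 < deg χ) (hrel : ∀ i, ∑ χ, A i χ * deg χ = 0)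
    {i₀ j₀ : ι} (hne : j₀ ≠ i₀) :
    ∃ (ε : ℤ) (x : ι → B) (C : B → ℤ), (ε = 1 ∨ ε = -1) ∧ Function.Injective x ∧
      ∀ i χ, A i χ = C χ + ε * if χ = x i then 1 else 0 := by
  have hd : ∀ i j : ι, i ≠ j → ∃ a b, a ≠ b ∧
      ∀ χ, A i χ - A j χ = (if χ = a then 1 else 0) - (if χ = b then 1 else 0) := by
    intro i j hij
    refine two_sq (fun χ => A i χ - A j χ) deg hdeg ?_ ?_
    · have h1 : ∀ χ, (A i χ - A j χ) ^ 2 = A i χ * A i χ - 2 * (A i χ * A j χ) +
          A j χ * A j χ := fun χ => by ring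
      simp only [h1]
      rw [Finset.sum_add_distrib, Finset.sum_sub_distrib, ← Finset.mul_sum, hA, hA, hA,
        if_pos rfl, if_pos rfl, if_neg hij]
      ring
    · simp only [sub_mul]
      rw [Finset.sum_sub_distrib, hrel, hrel, sub_zero]
  have hd' : ∀ j : ι, ∃ a b, j ≠ i₀ → a ≠ b ∧
      ∀ χ, A i₀ χ - A j χ = (if χ = a then 1 else 0) - (if χ = b then 1 else 0) := by
    intro j
    by_cases h : j = i₀
    · obtain ⟨a, -⟩ := hd i₀ j₀ hne.symm
      exact ⟨a, a, fun h' => absurd h h'⟩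
    · obtain ⟨a, b, h1⟩ := hd i₀ j (Ne.symm h)
      exact ⟨a, b, fun _ => h1⟩
  choose α β hαβ using hd'
  -- exactly one of the two coincidences
  have key : ∀ j k : ι, j ≠ i₀ → k ≠ i₀ → j ≠ k →
      (α j = α k ∧ β j ≠ β k) ∨ (α j ≠ α k ∧ β j = β k) := by
    intro j k hj hk hjk
    obtain ⟨h1, h2⟩ := hαβ j hj
    obtain ⟨h3, h4⟩ := hαβ k hk
    have h5 : ∑ χ, (A i₀ χ - A j χ) * (A i₀ χ - A k χ) = 1 := by
      have h6 : ∀ χ, (A i₀ χ - A j χ) * (A i₀ χ - A k χ) = A i₀ χ * A i₀ χ - A i₀ χ * A k χ -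
          A j χ * A i₀ χ + A j χ * A k χ := fun χ => by ring
      simp only [h6]
      rw [Finset.sum_add_distrib, Finset.sum_sub_distrib, Finset.sum_sub_distrib, hA, hA, hA, hA,
        if_pos rfl, if_neg hk.symm, if_neg hj, if_neg hjk]
      ring
    simp only [h2, h4] at h5
    have h7 : ∀ χ, ((if χ = α j then (1 : ℤ) else 0) - (if χ = β j then 1 else 0)) *
        ((if χ = α k then 1 else 0) - (if χ = β k then 1 else 0)) =
        (if χ = α j then (if α j = α k then 1 else 0) - (if α j = β k then 1 else 0) else 0) -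
        (if χ = β j then (if β j = α k then 1 else 0) - (if β j = β k then 1 else 0) else 0) := by
      intro χ
      by_cases e1 : χ = α j
      · subst e1
        by_cases e2 : α j = β j
        · exact absurd e2 h1
        · simp [e2]
      · by_cases e2 : χ = β j
        · subst e2
          simp [e1]
        · simp [e1, e2]
    simp only [h7] at h5
    rw [Finset.sum_sub_distrib, Finset.sum_ite_eq', Finset.sum_ite_eq',
      if_pos (Finset.mem_univ _), if_pos (Finset.mem_univ _)] at h5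
    by_cases e1 : α j = α k
    · by_cases e2 : β j = β k
      · rw [if_pos e1, if_neg (by rw [e1]; exact h3), if_neg (by rw [e2]; exact h3.symm),
          if_pos e2] at h5
        omega
      · exact Or.inl ⟨e1, e2⟩
    · by_cases e2 : β j = β k
      · exact Or.inr ⟨e1, e2⟩
      · rw [if_neg e1, if_neg e2] at h5
        split_ifs at h5 <;> omega
  have hval : ∀ j, j ≠ i₀ → ∀ χ, A j χ = A i₀ χ - (if χ = α j then 1 else 0) +
      (if χ = β j then 1 else 0) := by
    intro j hj χ
    have := (hαβ j hj).2 χ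
    linarith
  by_cases hall : ∀ j k, j ≠ i₀ → k ≠ i₀ → α j = α k
  · refine ⟨1, fun i => if i = i₀ then α j₀ else β i,
      fun χ => A i₀ χ - (if χ = α j₀ then 1 else 0), Or.inl rfl, ?_, ?_⟩
    · intro i j hij
      simp only at hij
      by_cases hi : i = i₀
      · by_cases hj : j = i₀
        · rw [hi, hj]
        · rw [if_pos hi, if_neg hj, hall j₀ j hne hj] at hij
          exact absurd hij (hαβ j hj).1
      · by_cases hj : j = i₀
        · rw [if_neg hi, if_pos hj, hall j₀ i hne hi] at hij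
          exact absurd hij.symm (hαβ i hi).1
        · rw [if_neg hi, if_neg hj] at hij
          by_contra hne'
          rcases key i j hi hj hne' with h | h
          · exact h.2 hij
          · exact h.1 (hall i j hi hj)
    · intro i χ
      by_cases hi : i = i₀
      · subst hi
        simp only [if_pos]
        ring
      · simp only [if_neg hi]
        rw [hval i hi, hall i j₀ hi hne]
        ring
  · push Not at hall
    obtain ⟨j, k, hj, hk, hjk⟩ := hall
    have hjk' : j ≠ k := fun h => hjk (by rw [h])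
    have hβ : β j = β k := by
      rcases key j k hj hk hjk' with h | h
      · exact absurd h.1 hjk
      · exact h.2
    have hall2 : ∀ l, l ≠ i₀ → β l = β j := by
      intro l hl
      by_contra hn
      have hlj : l ≠ j := fun h => hn (by rw [h])
      have hlk : l ≠ k := fun h => hn (by rw [h, hβ])
      have h1 : α l = α j := by
        rcases key l j hl hj hlj with h | h
        · exact h.1
        · exact absurd h.2 hn
      have h2 : α l = α k := by
        rcases key l k hl hk hlk with h | h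
        · exact h.1
        · exact absurd (h.2.trans hβ.symm) hn
      exact hjk (h1.symm.trans h2)
    refine ⟨-1, fun i => if i = i₀ then β j else α i,
      fun χ => A i₀ χ + (if χ = β j then 1 else 0), Or.inr rfl, ?_, ?_⟩
    · intro i l hil
      simp only at hil
      by_cases hi : i = i₀
      · by_cases hl : l = i₀
        · rw [hi, hl]
        · rw [if_pos hi, if_neg hl, ← hall2 l hl] at hil
          exact absurd hil.symm (hαβ l hl).1
      · by_cases hl : l = i₀
        · rw [if_neg hi, if_pos hl, ← hall2 i hi] at hil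
          exact absurd hil (hαβ i hi).1
        · rw [if_neg hi, if_neg hl] at hil
          by_contra hne'
          rcases key i l hi hl hne' with h | h
          · exact h.2 ((hall2 i hi).trans (hall2 l hl).symm)
          · exact h.1 hil
    · intro i χ
      by_cases hi : i = i₀
      · subst hi
        simp only [if_pos]
        ring
      · simp only [if_neg hi]
        rw [hval i hi, hall2 i hi]
        ring

end Coh

end Cfsg.Agent.Lib.BlkH6K
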