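import Cfsg.Agent.Lib.BlockRey
import Cfsg.Agent.Lib.BlockKB
import Cfsg.Agent.Lib.BlockLar
import Cfsg.Agent.Lib.BlockMaxB
import Cfsg.Agent.Lib.BlockIndIn
import Cfsg.Agent.Lib.BlockBFM

import Cfsg.Agent.Lib.BlkH6K

/-!
Families of generalized characters of an abelian group with free action.
-/

set_option autoImplicit false
set_option linter.style.haveILetI false
set_option linter.unusedVariables false
set_option linter.unusedSectionVars false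
set_option linter.unusedDecidableInType false
set_option linter.unusedFintypeInType false
set_option linter.unusedSimpArgs false

namespace Cfsg.Agent.Lib.BlkH6L
open Cfsg Cfsg.Agent.Lib.BlockLoc Cfsg.Agent.Lib.BlockGA Cfsg.Agent.Lib.CharBasic
open Cfsg.Agent.Lib.BlockIdem Cfsg.Agent.Lib.BlockPP Cfsg.Agent.Lib.BlockOrth
open Cfsg.Agent.Lib.BlockRed Cfsg.Agent.Lib.BlockDef Cfsg.Agent.Lib.BlockDeg
open Cfsg.Agent.Lib.BlockNP Cfsg.Agent.Lib.BlockInd Cfsg.Agent.Lib.BlockSecond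
open Cfsg.Agent.Lib.BlockFirst Cfsg.Agent.Lib.BlockHt Cfsg.Agent.Lib.BlockM
open Cfsg.Agent.Lib.BlockCov Cfsg.Agent.Lib.BlockQuot Cfsg.Agent.Lib.CharKer
open Cfsg.Agent.Lib.BlockQuotB Cfsg.Agent.Lib.BlockMore Cfsg.Agent.Lib.BlockMoreB
open Cfsg.Agent.Lib.BlockTr Cfsg.Agent.Lib.CharNormal Cfsg.Agent.Lib.BlockCovB
open Cfsg.Agent.Lib.BlockBP Cfsg.Agent.Lib.BlockInt Cfsg.Agent.Lib.BlockSum Cfsg.Agent.Lib.BlockRk
open Cfsg.Agent.Lib.BlockFusB Cfsg.Agent.Lib.BlockMax Cfsg.Agent.Lib.CharSplit Cfsg.Agent.Lib.CharBrauer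
open Cfsg.Agent.Lib.CharInd Cfsg.Agent.Lib.BlockPC Cfsg.Agent.Lib.BlockPair Cfsg.Agent.Lib.BlockPairB
open Cfsg.Agent.Lib.BlockPairC Cfsg.Agent.Lib.BlockPairD Cfsg.Agent.Lib.BlockPairE
open Cfsg.Agent.Lib.BlockRey Cfsg.Agent.Lib.BlockPairF Cfsg.Agent.Lib.BlockFus Cfsg.Agent.Lib.BlockNilB Cfsg.Agent.Lib.BlockNil Cfsg.Agent.Lib.CharClifford
open Cfsg.Agent.Lib.BlockKB Cfsg.Agent.Lib.BlockLar Cfsg.Agent.Lib.BlockMaxB Cfsg.Agent.Lib.BlockIndIn Cfsg.Agent.Lib.BlockBFM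
open Cfsg.Agent.Lib.BlkH6K
open scoped ComplexConjugate


section Dual

variable {P : Type*} [CommGroup P] [Fintype P]

theorem sum_units (ψ : P →* ℂˣ) [Decidable (ψ = 1)] :
    ∑ u, ((ψ u : ℂˣ) : ℂ) = if ψ = 1 then (Nat.card P : ℂ) else 0 := by
  split_ifs with h
  · subst h
    simp [Nat.card_eq_fintype_card]
  · have h1 : (Units.coeHom ℂ).comp ψ ≠ 1 := by
      intro h'
      apply h
      ext u
      have := DFunLike.congr_fun h' u
      simpa using this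
    exact sum_hom_units_eq_zero _ h1

instance : Finite (P →* ℂˣ) := inferInstance

theorem card_dual : Nat.card (P →* ℂˣ) = Nat.card P :=
  CommGroup.card_monoidHom_of_hasEnoughRootsOfUnity P ℂ

theorem sum_dual [Fintype (P →* ℂˣ)] (u : P) [Decidable (u = 1)] :
    ∑ ψ : P →* ℂˣ, ((ψ u : ℂˣ) : ℂ) = if u = 1 then (Nat.card P : ℂ) else 0 := by
  split_ifs with h
  · subst h
    simp only [map_one, Units.val_one]
    rw [← card_dual, Nat.card_eq_fintype_card]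
    simp
  · obtain ⟨φ, hφ⟩ := CommGroup.exists_apply_ne_one_of_hasEnoughRootsOfUnity P ℂ h
    have h1 : (Units.coeHom ℂ).comp (MonoidHom.eval u : (P →* ℂˣ) →* ℂˣ) ≠ 1 := by
      intro h'
      apply hφ
      have := DFunLike.congr_fun h' φ
      simpa using this
    exact sum_hom_units_eq_zero _ h1

/-- The relation "conjugate under `H`" on linear characters. -/
def Rel (H : Subgroup (MulAut P)) (ψ ψ' : P →* ℂˣ) : Prop :=
  ∃ h ∈ H, ψ'.comp (h : MulAut P).toMonoidHom = ψ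

theorem Rel.refl (H : Subgroup (MulAut P)) (ψ : P →* ℂˣ) : Rel H ψ ψ :=
  ⟨1, H.one_mem, by ext; rfl⟩

theorem Rel.symm {H : Subgroup (MulAut P)} {ψ ψ' : P →* ℂˣ} (h : Rel H ψ ψ') : Rel H ψ' ψ := by
  obtain ⟨g, hg, rfl⟩ := h
  refine ⟨g⁻¹, H.inv_mem hg, ?_⟩
  ext u
  change ((ψ' (g (g⁻¹ u)) : ℂˣ) : ℂ) = ψ' u
  rw [MulAut.apply_inv_self]

theorem Rel.trans {H : Subgroup (MulAut P)} {ψ ψ' ψ'' : P →* ℂˣ} (h : Rel H ψ ψ')
    (h' : Rel H ψ' ψ'') : Rel H ψ ψ'' := by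
  obtain ⟨g, hg, rfl⟩ := h
  obtain ⟨k, hk, rfl⟩ := h'
  exact ⟨k * g, H.mul_mem hk hg, by ext; rfl⟩

def relSetoid (H : Subgroup (MulAut P)) : Setoid (P →* ℂˣ) :=
  ⟨Rel H, Rel.refl H, fun h => h.symm, fun h h' => h.trans h'⟩

noncomputable def rep (H : Subgroup (MulAut P)) (ψ : P →* ℂˣ) : P →* ℂˣ :=
  Quotient.out (Quotient.mk (relSetoid H) ψ)

theorem rel_rep (H : Subgroup (MulAut P)) (ψ : P →* ℂˣ) : Rel H (rep H ψ) ψ :=
  Quotient.exact (s := relSetoid H) (Quotient.out_eq _)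

theorem rep_eq_iff {H : Subgroup (MulAut P)} {ψ ψ' : P →* ℂˣ} :
    rep H ψ = rep H ψ' ↔ Rel H ψ ψ' := by
  constructor
  · intro h
    have h1 := (rel_rep H ψ).symm
    rw [h] at h1
    exact h1.trans (rel_rep H ψ')
  · intro h
    unfold rep
    congr 1
    exact Quotient.sound (s := relSetoid H) h

theorem rep_rep (H : Subgroup (MulAut P)) (ψ : P →* ℂˣ) : rep H (rep H ψ) = rep H ψ :=
  rep_eq_iff.2 (rel_rep H ψ)

theorem Rel.ne_one {H : Subgroup (MulAut P)} {ψ ψ' : P →* ℂˣ} (h : Rel H ψ ψ') (h1 : ψ' ≠ 1) :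
    ψ ≠ 1 := by
  rintro rfl
  apply h1
  obtain ⟨g, hg, h⟩ := h.symm
  rw [← h]
  ext; rfl

/-- Freeness passes to the dual. -/
theorem dual_free {h : MulAut P} (hf : ∀ u : P, h u = u → u = 1) {ψ : P →* ℂˣ}
    (hψ : ψ.comp (h : MulAut P).toMonoidHom = ψ) : ψ = 1 := by
  let f : P →* P := ⟨⟨fun u => u⁻¹ * h u, by simp⟩, fun u v => by
    simp only [map_mul, mul_inv]
    exact mul_mul_mul_comm _ _ _ _⟩
  have hf1 : Function.Injective f := by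
    rw [injective_iff_map_eq_one]
    intro u hu
    exact hf u (inv_mul_eq_one.1 hu).symm
  have hf2 := Finite.surjective_of_injective hf1
  ext u
  obtain ⟨v, rfl⟩ := hf2 u
  change ((ψ (v⁻¹ * h v) : ℂˣ) : ℂ) = 1
  have : ψ (h v) = ψ v := DFunLike.congr_fun hψ v
  rw [map_mul, this, ← map_mul, inv_mul_cancel, map_one]
  rfl

end Dual

section Datum

variable {P : Type*} [CommGroup P] [Fintype P] {H : Subgroup (MulAut P)}
  {B : Type*} [Fintype B]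

theorem comp_inj (hfree : ∀ h ∈ H, h ≠ 1 → ∀ u : P, h u = u → u = 1) {ψ : P →* ℂˣ} (hψ : ψ ≠ 1)
    {h h' : MulAut P} (hh : h ∈ H) (hh' : h' ∈ H)
    (he : ψ.comp h.toMonoidHom = ψ.comp h'.toMonoidHom) : h = h' := by
  by_contra hne
  apply hψ
  refine dual_free (h := h * h'⁻¹) (hfree _ (H.mul_mem hh (H.inv_mem hh')) ?_) ?_
  · intro h1
    exact hne (mul_inv_eq_one.1 h1)
  · ext u
    have h2 := DFunLike.congr_fun he (h'⁻¹ u)
    change ψ (h (h'⁻¹ u)) = ψ (h' (h'⁻¹ u)) at h2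
    change ((ψ (h (h'⁻¹ u)) : ℂˣ) : ℂ) = ψ u
    rw [h2, MulAut.apply_inv_self]

theorem apply_inj (hfree : ∀ h ∈ H, h ≠ 1 → ∀ u : P, h u = u → u = 1) {u : P} (hu : u ≠ 1)
    {h h' : MulAut P} (hh : h ∈ H) (hh' : h' ∈ H) (he : h u = h' u) : h = h' := by
  by_contra hne
  apply hu
  refine hfree (h'⁻¹ * h) (H.mul_mem (H.inv_mem hh') hh) (fun h1 => hne ?_) u ?_
  · exact (inv_mul_eq_one.1 h1).symm
  · change h'⁻¹ (h u) = u
    rw [he, MulAut.inv_apply_self]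

theorem sum_twist [Fintype (P →* ℂˣ)] (ψ ψ' : P →* ℂˣ) (hψ : ψ ≠ 1) (hψ' : ψ' ≠ 1)
    [Decidable (ψ' = ψ)] :
    ∑ u, (((ψ u⁻¹ : ℂˣ) : ℂ) - 1) * (((ψ' u : ℂˣ) : ℂ) - 1) =
      (Nat.card P : ℂ) * ((if ψ' = ψ then 1 else 0) + 1) := by
  classical
  have h1 : ∀ u, (((ψ u⁻¹ : ℂˣ) : ℂ) - 1) * (((ψ' u : ℂˣ) : ℂ) - 1) =
      (((ψ⁻¹ * ψ') u : ℂˣ) : ℂ) - ((ψ⁻¹ u : ℂˣ) : ℂ) - ((ψ' u : ℂˣ) : ℂ) + 1 := by
    intro u
    rw [map_inv, MonoidHom.mul_apply, MonoidHom.inv_apply]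
    push_cast
    ring
  simp only [h1]
  have hn : ψ⁻¹ ≠ 1 := by
    intro h'
    apply hψ
    refine MonoidHom.ext (fun u => ?_)
    have h3 := DFunLike.congr_fun h' u
    rw [MonoidHom.inv_apply, MonoidHom.one_apply, inv_eq_one] at h3
    exact h3
  rw [Finset.sum_add_distrib, Finset.sum_sub_distrib, Finset.sum_sub_distrib, sum_units, sum_units,
    sum_units, if_neg hψ', if_neg hn]
  have h2 : (ψ⁻¹ * ψ' = 1) ↔ ψ' = ψ := by
    constructor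
    · intro h'
      refine MonoidHom.ext (fun u => ?_)
      have h3 := DFunLike.congr_fun h' u
      rw [MonoidHom.mul_apply, MonoidHom.inv_apply, MonoidHom.one_apply, inv_mul_eq_one] at h3
      exact h3.symm
    · rintro rfl
      refine MonoidHom.ext (fun u => ?_)
      rw [MonoidHom.mul_apply, MonoidHom.inv_apply, MonoidHom.one_apply, inv_mul_cancel]
  rw [if_congr h2 rfl rfl]
  simp only [Finset.sum_const, Finset.card_univ, nsmul_eq_mul, mul_one]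
  rw [← Nat.card_eq_fintype_card]
  split_ifs <;> ring

theorem mult_eq [Fintype (P →* ℂˣ)] (mult : (P →* ℂˣ) → ℤ) (ψ : P →* ℂˣ) :
    (Nat.card P : ℂ) * (mult ψ : ℂ) =
      ∑ u, (∑ φ, (mult φ : ℂ) * ((φ u : ℂˣ) : ℂ)) * ((ψ u⁻¹ : ℂˣ) : ℂ) := by
  classical
  simp only [Finset.sum_mul]
  rw [Finset.sum_comm]
  have h1 : ∀ φ : P →* ℂˣ, ∑ u, (mult φ : ℂ) * ((φ u : ℂˣ) : ℂ) * ((ψ u⁻¹ : ℂˣ) : ℂ) =
      (mult φ : ℂ) * if φ * ψ⁻¹ = 1 then (Nat.card P : ℂ) else 0 := by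
    intro φ
    rw [← sum_units, Finset.mul_sum]
    refine Finset.sum_congr rfl (fun u _ => ?_)
    rw [map_inv, MonoidHom.mul_apply, MonoidHom.inv_apply]
    push_cast
    ring
  simp only [h1]
  have h2 : ∀ φ : P →* ℂˣ, φ * ψ⁻¹ = 1 → φ = ψ := fun φ h => mul_inv_eq_one.1 h
  rw [Finset.sum_eq_single ψ]
  · rw [if_pos (mul_inv_cancel ψ)]; ring
  · intro φ _ h
    rw [if_neg (fun h' => h (h2 φ h')), mul_zero]
  · intro h; exact absurd (Finset.mem_univ _) h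

/-- The hypotheses: a family of generalized characters of `P` with prescribed Gram columns. -/
structure Dat (H : Subgroup (MulAut P)) (mult : B → (P →* ℂˣ) → ℤ) (D : B → P → ℂ) : Prop where
  free : ∀ h ∈ H, h ≠ 1 → ∀ u : P, h u = u → u = 1
  D_eq : ∀ [Fintype (P →* ℂˣ)], ∀ χ u, D χ u = ∑ ψ : P →* ℂˣ, (mult χ ψ : ℂ) * ((ψ u : ℂˣ) : ℂ)
  inv : ∀ χ, ∀ h ∈ H, ∀ u, D χ (h u) = D χ u
  gram : ∀ u v : P, u ≠ 1 → v ≠ 1 → ∑ χ, D χ u * D χ v⁻¹ =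
    (Nat.card P : ℂ) * (Set.ncard {h : MulAut P | h ∈ H ∧ h u = v} : ℂ)

variable {mult : B → (P →* ℂˣ) → ℤ} {D : B → P → ℂ}

theorem Dat.mult_inv (h : Dat H mult D) (χ : B) {ψ ψ' : P →* ℂˣ} (hr : Rel H ψ ψ') :
    mult χ ψ = mult χ ψ' := by
  classical
  haveI : Fintype (P →* ℂˣ) := Fintype.ofFinite _
  obtain ⟨g, hg, rfl⟩ := hr
  have h1 := mult_eq (mult χ) ψ'
  have h2 := mult_eq (mult χ) (ψ'.comp g.toMonoidHom)
  simp only [← h.D_eq] at h1 h2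
  have h3 : ∑ u, D χ u * (((ψ'.comp g.toMonoidHom) u⁻¹ : ℂˣ) : ℂ) =
      ∑ u, D χ u * ((ψ' u⁻¹ : ℂˣ) : ℂ) := by
    rw [← Equiv.sum_comp g.toEquiv (fun u => D χ u * ((ψ' u⁻¹ : ℂˣ) : ℂ))]
    refine Finset.sum_congr rfl (fun u _ => ?_)
    change D χ u * ((ψ' (g u⁻¹) : ℂˣ) : ℂ) = D χ (g u) * ((ψ' (g u)⁻¹ : ℂˣ) : ℂ)
    rw [h.inv χ g hg u, map_inv g]
  rw [h3, ← h1] at h2
  have h4 : (Nat.card P : ℂ) ≠ 0 := Nat.cast_ne_zero.2 Nat.card_pos.ne'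
  exact_mod_cast mul_left_cancel₀ h4 h2

theorem Dat.a_eq (h : Dat H mult D) (χ : B) (ψ : P →* ℂˣ) :
    (Nat.card P : ℂ) * ((mult χ ψ - mult χ 1 : ℤ) : ℂ) =
      ∑ u, D χ u * (((ψ u⁻¹ : ℂˣ) : ℂ) - 1) := by
  classical
  haveI : Fintype (P →* ℂˣ) := Fintype.ofFinite _
  push_cast
  rw [mul_sub, mult_eq (mult χ) ψ, mult_eq (mult χ) 1, ← Finset.sum_sub_distrib]
  refine Finset.sum_congr rfl (fun u _ => ?_)
  rw [h.D_eq]
  simp only [MonoidHom.one_apply, Units.val_one]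
  ring

theorem Dat.gram_a [Fintype H] (h : Dat H mult D) {ψ ψ' : P →* ℂˣ} (hψ : ψ ≠ 1) (hψ' : ψ' ≠ 1)
    [Decidable (Rel H ψ ψ')] :
    ∑ χ, (mult χ ψ - mult χ 1) * (mult χ ψ' - mult χ 1) =
      (Nat.card H : ℤ) + if Rel H ψ ψ' then 1 else 0 := by
  classical
  haveI : Fintype (P →* ℂˣ) := Fintype.ofFinite _
  have hq : (Nat.card P : ℂ) ≠ 0 := Nat.cast_ne_zero.2 Nat.card_pos.ne'
  have hcount : ∀ u v : P, (Set.ncard {k : MulAut P | k ∈ H ∧ k u = v} : ℂ) =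
      ∑ k : H, if (k : MulAut P) u = v then 1 else 0 := by
    intro u v
    rw [Finset.sum_boole]
    congr 1
    have : {k : MulAut P | k ∈ H ∧ k u = v} =
        (Subtype.val : H → MulAut P) '' {k : H | (k : MulAut P) u = v} := by
      ext k
      constructor
      · rintro ⟨h1, h2⟩
        exact ⟨⟨k, h1⟩, h2, rfl⟩
      · rintro ⟨k, h1, rfl⟩
        exact ⟨k.2, h1⟩
    rw [this, Set.ncard_image_of_injective _ Subtype.val_injective, Set.ncard_eq_toFinset_card']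
    congr 1
    ext k
    simp
  have h1 : (Nat.card P : ℂ) ^ 2 * ∑ χ, ((mult χ ψ - mult χ 1 : ℤ) : ℂ) *
      ((mult χ ψ' - mult χ 1 : ℤ) : ℂ) =
      ∑ u, ∑ v, (((ψ u⁻¹ : ℂˣ) : ℂ) - 1) * (((ψ' v : ℂˣ) : ℂ) - 1) *
        ∑ χ, D χ u * D χ v⁻¹ := by
    rw [Finset.mul_sum]
    have h2 : ∀ χ, (Nat.card P : ℂ) ^ 2 * (((mult χ ψ - mult χ 1 : ℤ) : ℂ) *
        ((mult χ ψ' - mult χ 1 : ℤ) : ℂ)) =
        ∑ u, ∑ v, (((ψ u⁻¹ : ℂˣ) : ℂ) - 1) * (((ψ' v : ℂˣ) : ℂ) - 1) * (D χ u * D χ v⁻¹) := by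
      intro χ
      calc (Nat.card P : ℂ) ^ 2 * (((mult χ ψ - mult χ 1 : ℤ) : ℂ) *
          ((mult χ ψ' - mult χ 1 : ℤ) : ℂ)) =
          ((Nat.card P : ℂ) * ((mult χ ψ - mult χ 1 : ℤ) : ℂ)) *
          ((Nat.card P : ℂ) * ((mult χ ψ' - mult χ 1 : ℤ) : ℂ)) := by ring
        _ = (∑ u, D χ u * (((ψ u⁻¹ : ℂˣ) : ℂ) - 1)) *
            (∑ v, D χ v⁻¹ * (((ψ' v : ℂˣ) : ℂ) - 1)) := by
          rw [h.a_eq, h.a_eq]
          congr 1
          rw [← Equiv.sum_comp (Equiv.inv P)]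
          refine Finset.sum_congr rfl (fun v _ => ?_)
          simp
        _ = _ := by
          rw [Finset.sum_mul_sum]
          refine Finset.sum_congr rfl (fun u _ => Finset.sum_congr rfl (fun v _ => ?_))
          ring
    rw [Finset.sum_congr rfl (fun χ _ => h2 χ), Finset.sum_comm]
    refine Finset.sum_congr rfl (fun u _ => ?_)
    rw [Finset.sum_comm]
    refine Finset.sum_congr rfl (fun v _ => ?_)
    rw [Finset.mul_sum]
  have h3 : ∀ u v : P, (((ψ u⁻¹ : ℂˣ) : ℂ) - 1) * (((ψ' v : ℂˣ) : ℂ) - 1) *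
        ∑ χ, D χ u * D χ v⁻¹ =
      (Nat.card P : ℂ) * ∑ k : H, if (k : MulAut P) u = v then
        (((ψ u⁻¹ : ℂˣ) : ℂ) - 1) * (((ψ' v : ℂˣ) : ℂ) - 1) else 0 := by
    intro u v
    by_cases hu : u = 1
    · subst hu
      simp
    · by_cases hv : v = 1
      · subst hv
        simp
      · rw [h.gram u v hu hv, hcount, Finset.mul_sum, Finset.mul_sum, Finset.mul_sum]
        refine Finset.sum_congr rfl (fun k _ => ?_)
        split_ifs <;> ring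
  simp only [h3] at h1
  have h4 : ∑ u, ∑ v, (Nat.card P : ℂ) * ∑ k : H, (if (k : MulAut P) u = v then
        (((ψ u⁻¹ : ℂˣ) : ℂ) - 1) * (((ψ' v : ℂˣ) : ℂ) - 1) else 0) =
      (Nat.card P : ℂ) * ∑ k : H, ∑ u, (((ψ u⁻¹ : ℂˣ) : ℂ) - 1) *
        (((ψ' ((k : MulAut P) u) : ℂˣ) : ℂ) - 1) := by
    rw [Finset.sum_comm (s := (Finset.univ : Finset H)), Finset.mul_sum]
    refine Finset.sum_congr rfl (fun u _ => ?_)
    rw [← Finset.mul_sum, Finset.sum_comm]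
    congr 1
    refine Finset.sum_congr rfl (fun k _ => ?_)
    rw [Finset.sum_ite_eq, if_pos (Finset.mem_univ _)]
  rw [h4] at h1
  have h5 : ∀ k : H, ∑ u, (((ψ u⁻¹ : ℂˣ) : ℂ) - 1) *
        (((ψ' ((k : MulAut P) u) : ℂˣ) : ℂ) - 1) =
      (Nat.card P : ℂ) * ((if ψ'.comp (k : MulAut P).toMonoidHom = ψ then 1 else 0) + 1) := by
    intro k
    refine sum_twist ψ (ψ'.comp (k : MulAut P).toMonoidHom) hψ ?_
    exact (Rel.ne_one ⟨k, k.2, rfl⟩ hψ')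
  simp only [h5] at h1
  rw [← Finset.mul_sum, ← mul_assoc, ← sq] at h1
  have h6 := mul_left_cancel₀ (pow_ne_zero 2 hq) h1
  rw [Finset.sum_add_distrib, Finset.sum_const, Finset.card_univ, nsmul_eq_mul, mul_one,
    ← Nat.card_eq_fintype_card] at h6
  have h7 : ∑ k : H, (if ψ'.comp (k : MulAut P).toMonoidHom = ψ then (1 : ℂ) else 0) =
      if Rel H ψ ψ' then 1 else 0 := by
    split_ifs with hr
    · obtain ⟨g, hg, hg'⟩ := hr
      rw [Finset.sum_eq_single (⟨g, hg⟩ : H)]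
      · rw [if_pos hg']
      · intro k _ hk
        rw [if_neg]
        intro h'
        apply hk
        exact Subtype.ext (comp_inj h.free hψ' k.2 hg (h'.trans hg'.symm))
      · intro h'; exact absurd (Finset.mem_univ _) h'
    · refine Finset.sum_eq_zero (fun k _ => ?_)
      rw [if_neg]
      intro h'
      exact hr ⟨k, k.2, h'⟩
  rw [h7] at h6
  have h8 : ((∑ χ, (mult χ ψ - mult χ 1) * (mult χ ψ' - mult χ 1) : ℤ) : ℂ) =
      (((Nat.card H : ℤ) + if Rel H ψ ψ' then 1 else 0 : ℤ) : ℂ) := by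
    push_cast at h6 ⊢
    rw [h6]
    split_ifs <;> push_cast <;> ring
  exact_mod_cast h8

end Datum

end Cfsg.Agent.Lib.BlkH6L
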