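import Cfsg.Agent.Lib.BlockRey
import Cfsg.Agent.Lib.BlockKB
import Cfsg.Agent.Lib.BlockLar
import Cfsg.Agent.Lib.BlockMaxB
import Cfsg.Agent.Lib.BlockIndIn
import Cfsg.Agent.Lib.BlockBFM

import Cfsg.Agent.Lib.BlkH6K
import Cfsg.Agent.Lib.BlkH6L

/-!
Coherence for families of generalized characters.
-/

set_option autoImplicit false
set_option linter.style.haveILetI false
set_option linter.unusedVariables false
set_option linter.unusedSectionVars false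
set_option linter.unusedDecidableInType false
set_option linter.unusedFintypeInType false
set_option linter.unusedSimpArgs false

namespace Cfsg.Agent.Lib.BlkH6M
open Cfsg Cfsg.Agent.Lib.BlockLoc Cfsg.Agent.Lib.BlockGA Cfsg.Agent.Lib.CharBasic
open Cfsg.Agent.Lib.BlockIdem Cfsg.Agent.Lib.BlockPP Cfsg.Agent.Lib.BlockOrth
open Cfsg.Agent.Lib.BlockRed Cfsg.Agent.Lib.BlockDef Cfsg.Agent.Lib.BlockDeg
open Cfsg.Agent.Lib.BlockNP Cfsg.Agent.Lib.BlockInd Cfsg.Agent.Lib.BlockSecond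
open Cfsg.Agent.Lib.BlockFirst Cfsg.Agent.Lib.BlockHt Cfsg.Agent.Lib.BlockM
open Cfsg.Agent.Lib.BlockCov Cfsg.Agent.Lib.BlockQuot Cfsg.Agent.Lib.CharKer
open Cfsg.Agent.Lib.BlockQuotB Cfsg.Agent.Lib.BlockMore Cfsg.Agent.Lib.BlockMoreB
open Cfsg.Agent.Lib.BlockTr Cfsg.Agent.Lib.CharNormal Cfsg.Agent.Lib.BlockCovB
open Cfsg.Agent.Lib.BlockBP Cfsg.Agent.Lib.BlockInt Cfsg.Agent.Lib.BlockSum Cfsg.Agent.Lib.BlockRk
open Cfsg.Agent.Lib.BlockFusB Cfsg.Agent.Lib.BlockMax Cfsg.Agent.Lib.CharSplit Cfsg.Agent.Lib.CharBrauer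
open Cfsg.Agent.Lib.CharInd Cfsg.Agent.Lib.BlockPC Cfsg.Agent.Lib.BlockPair Cfsg.Agent.Lib.BlockPairB
open Cfsg.Agent.Lib.BlockPairC Cfsg.Agent.Lib.BlockPairD Cfsg.Agent.Lib.BlockPairE
open Cfsg.Agent.Lib.BlockRey Cfsg.Agent.Lib.BlockPairF Cfsg.Agent.Lib.BlockFus Cfsg.Agent.Lib.BlockNilB Cfsg.Agent.Lib.BlockNil Cfsg.Agent.Lib.CharClifford
open Cfsg.Agent.Lib.BlockKB Cfsg.Agent.Lib.BlockLar Cfsg.Agent.Lib.BlockMaxB Cfsg.Agent.Lib.BlockIndIn Cfsg.Agent.Lib.BlockBFM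
open Cfsg.Agent.Lib.BlkH6K Cfsg.Agent.Lib.BlkH6L
open scoped ComplexConjugate


section Main

variable {P : Type*} [CommGroup P] [Fintype P] {H : Subgroup (MulAut P)}
  {B : Type*} [Fintype B] {mult : B → (P →* ℂˣ) → ℤ} {D : B → P → ℂ}

theorem card_reps (hfree : ∀ h ∈ H, h ≠ 1 → ∀ u : P, h u = u → u = 1) :
    Nat.card {ψ : P →* ℂˣ // ψ ≠ 1 ∧ rep H ψ = ψ} * Nat.card H = Nat.card P - 1 := by
  have h1 : Nat.card {ψ : P →* ℂˣ // ψ ≠ 1} = Nat.card P - 1 := by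
    rw [← card_dual (P := P)]
    classical
    haveI : Fintype (P →* ℂˣ) := Fintype.ofFinite _
    rw [Nat.card_eq_fintype_card, Nat.card_eq_fintype_card]
    exact Set.card_ne_eq (1 : P →* ℂˣ)
  rw [← h1, ← Nat.card_prod]
  refine Nat.card_congr (Equiv.ofBijective (fun x : {ψ : P →* ℂˣ // ψ ≠ 1 ∧ rep H ψ = ψ} × H =>
    (⟨x.1.1.comp (x.2 : MulAut P).toMonoidHom, Rel.ne_one ⟨x.2, x.2.2, rfl⟩ x.1.2.1⟩ :
      {ψ : P →* ℂˣ // ψ ≠ 1})) ⟨?_, ?_⟩)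
  · rintro ⟨⟨ψ, h2, h3⟩, k, hk⟩ ⟨⟨ψ', h4, h5⟩, k', hk'⟩ he
    have he' : ψ.comp k.toMonoidHom = ψ'.comp k'.toMonoidHom := congrArg Subtype.val he
    have h6 : Rel H ψ ψ' := by
      have h7 : Rel H (ψ.comp k.toMonoidHom) ψ := ⟨k, hk, rfl⟩
      have h8 : Rel H (ψ'.comp k'.toMonoidHom) ψ' := ⟨k', hk', rfl⟩
      rw [← he'] at h8
      exact h7.symm.trans h8
    have h7 : ψ = ψ' := by rw [← h3, ← h5]; exact rep_eq_iff.2 h6
    subst h7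
    have h8 : k = k' := comp_inj hfree h2 hk hk' he'
    subst h8
    rfl
  · rintro ⟨ψ, hψ⟩
    obtain ⟨g, hg, hg'⟩ := (rel_rep H ψ).symm
    exact ⟨⟨⟨rep H ψ, Rel.ne_one (rel_rep H ψ) hψ, rep_rep H ψ⟩, ⟨g, hg⟩⟩, Subtype.ext hg'⟩

/-- The output of the coherence argument. -/
structure Out (H : Subgroup (MulAut P)) (mult : B → (P →* ℂˣ) → ℤ) (a : B → ℤ) (d δ : ℤ)
    (ζ : (P →* ℂˣ) → B) : Prop where
  sign : δ = 1 ∨ δ = -1
  inj : ∀ ψ ψ' : P →* ℂˣ, ψ ≠ 1 → ψ' ≠ 1 → (ζ ψ = ζ ψ' ↔ Rel H ψ ψ')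
  a_eq : ∀ ψ : P →* ℂˣ, ψ ≠ 1 → a (ζ ψ) = d
  m_eq : ∀ [DecidableEq B], ∀ (χ : B) (ψ : P →* ℂˣ), ψ ≠ 1 →
    mult χ ψ - mult χ 1 = -a χ + δ * if χ = ζ ψ then 1 else 0
  norm : ∑ χ, a χ ^ 2 - 2 * δ * d = (Nat.card H : ℤ)
  two : ∃ ψ ψ' : P →* ℂˣ, ψ ≠ 1 ∧ ψ' ≠ 1 ∧ ¬ Rel H ψ ψ'

theorem Dat.main (h : Dat H mult D) (hcard : Nat.card H + 1 < Nat.card P)
    (deg : B → ℤ) (hdeg : ∀ χ, 0 < deg χ)
    (hrel : ∀ u : P, u ≠ 1 → ∑ χ, D χ u * (deg χ : ℂ) = 0) :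
    ∃ (a : B → ℤ) (d δ : ℤ) (ζ : (P →* ℂˣ) → B), Out H mult a d δ ζ := by
  classical
  haveI : Fintype H := Fintype.ofFinite _
  haveI : Fintype (P →* ℂˣ) := Fintype.ofFinite _
  let ι := {ψ : P →* ℂˣ // ψ ≠ 1 ∧ rep H ψ = ψ}
  have hcr := card_reps h.free
  have hH : 0 < Nat.card H := Nat.card_pos
  have h2 : 1 < Nat.card ι := by
    by_contra hn
    have h3 : Nat.card ι ≤ 1 := by omega
    have h4 : Nat.card ι * Nat.card H ≤ 1 * Nat.card H := Nat.mul_le_mul_right _ h3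
    have h5 : Nat.card ι * Nat.card H = Nat.card P - 1 := hcr
    omega
  haveI : Nontrivial ι := Finite.one_lt_card_iff_nontrivial.1 h2
  obtain ⟨i₀, j₀, hij⟩ := exists_pair_ne ι
  have hRel : ∀ i j : ι, Rel H i.1 j.1 ↔ i = j := by
    intro i j
    rw [← rep_eq_iff, i.2.2, j.2.2]
    exact Subtype.ext_iff.symm
  have hA : ∀ i j : ι, ∑ χ, (mult χ i.1 - mult χ 1) * (mult χ j.1 - mult χ 1) =
      (Nat.card H : ℤ) + if i = j then 1 else 0 := by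
    intro i j
    rw [h.gram_a i.2.1 j.2.1]
    congr 1
    exact if_congr (hRel i j) rfl rfl
  have hr : ∀ i : ι, ∑ χ, (mult χ i.1 - mult χ 1) * deg χ = 0 := by
    intro i
    have h3 : (Nat.card P : ℂ) * ((∑ χ, (mult χ i.1 - mult χ 1) * deg χ : ℤ) : ℂ) = 0 := by
      push_cast
      rw [Finset.mul_sum]
      have h4 : ∀ χ, (Nat.card P : ℂ) * (((mult χ i.1 : ℂ) - mult χ 1) * (deg χ : ℂ)) =
          ∑ u, (((i.1 u⁻¹ : ℂˣ) : ℂ) - 1) * (D χ u * (deg χ : ℂ)) := by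
        intro χ
        have := h.a_eq χ i.1
        push_cast at this
        rw [← mul_assoc, this, Finset.sum_mul]
        refine Finset.sum_congr rfl (fun u _ => ?_)
        ring
      rw [Finset.sum_congr rfl (fun χ _ => h4 χ), Finset.sum_comm]
      refine Finset.sum_eq_zero (fun u _ => ?_)
      rw [← Finset.mul_sum]
      by_cases hu : u = 1
      · subst hu; simp
      · rw [hrel u hu, mul_zero]
    have hq : (Nat.card P : ℂ) ≠ 0 := Nat.cast_ne_zero.2 Nat.card_pos.ne'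
    have h5 := (mul_eq_zero.1 h3).resolve_left hq
    exact_mod_cast h5
  obtain ⟨ε, x, C, hε, hx, hAC⟩ := coherence (fun (i : ι) χ => mult χ i.1 - mult χ 1)
    (Nat.card H : ℤ) hA deg hdeg hr hij.symm
  have hε2 : ε * ε = 1 := by rcases hε with rfl | rfl <;> rfl
  let toι : (P →* ℂˣ) → ι := fun ψ => if hψ : ψ = 1 then i₀ else
    ⟨rep H ψ, Rel.ne_one (rel_rep H ψ) hψ, rep_rep H ψ⟩
  have htoι : ∀ ψ : P →* ℂˣ, ψ ≠ 1 → (toι ψ).1 = rep H ψ := by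
    intro ψ hψ
    simp only [toι, dif_neg hψ]
  have hC : ∀ i : ι, ∑ χ, C χ ^ 2 + 2 * ε * C (x i) = (Nat.card H : ℤ) := by
    intro i
    have h3 := hA i i
    rw [if_pos rfl] at h3
    have h4 : ∀ χ, (mult χ i.1 - mult χ 1) * (mult χ i.1 - mult χ 1) = C χ ^ 2 +
        (if χ = x i then 2 * ε * C χ + 1 else 0) := by
      intro χ
      rw [hAC i χ]
      split_ifs
      · linear_combination hε2
      · ring
    rw [Finset.sum_congr rfl (fun χ _ => h4 χ), Finset.sum_add_distrib, Finset.sum_ite_eq',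
      if_pos (Finset.mem_univ _)] at h3
    linarith
  have hconst : ∀ i j : ι, C (x i) = C (x j) := by
    intro i j
    have h3 := hC i
    have h4 := hC j
    rcases hε with h5 | h5 <;> · rw [h5] at h3 h4; linarith
  refine ⟨fun χ => - C χ, - C (x i₀), ε, fun ψ => x (toι ψ), hε, ?_, ?_, ?_, ?_, ?_⟩
  · intro ψ ψ' hψ hψ'
    rw [hx.eq_iff, ← rep_eq_iff, ← htoι ψ hψ, ← htoι ψ' hψ']
    exact Subtype.ext_iff
  · intro ψ hψ
    rw [hconst (toι ψ) i₀]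
  · intro _ χ ψ hψ
    have h3 := hAC (toι ψ) χ
    rw [htoι ψ hψ] at h3
    rw [← h.mult_inv χ (rel_rep H ψ), h3, neg_neg]
    by_cases h4 : χ = x (toι ψ)
    · rw [if_pos h4, if_pos h4]
    · rw [if_neg h4, if_neg h4]
  · have h3 := hC i₀
    have h4 : ∀ χ, (- C χ) ^ 2 = C χ ^ 2 := fun χ => by ring
    simp only [h4]
    linarith
  · refine ⟨i₀.1, j₀.1, i₀.2.1, j₀.2.1, ?_⟩
    rw [hRel]
    exact hij

variable {a : B → ℤ} {d δ : ℤ} {ζ : (P →* ℂˣ) → B}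

theorem Out.sq (h : Out H mult a d δ ζ) : δ * δ = 1 := by
  rcases h.sign with h | h <;> rw [h] <;> rfl

theorem Out.D_eq (h : Out H mult a d δ ζ) (hD : Dat H mult D) (χ : B) {u : P} (hu : u ≠ 1) :
    D χ u = (a χ : ℂ) + (δ : ℂ) * ∑ᶠ ψ ∈ {ψ : P →* ℂˣ | ψ ≠ 1 ∧ χ = ζ ψ}, ((ψ u : ℂˣ) : ℂ) := by
  classical
  haveI : Fintype (P →* ℂˣ) := Fintype.ofFinite _
  have h1 : D χ u = ∑ ψ : P →* ℂˣ, ((mult χ ψ - mult χ 1 : ℤ) : ℂ) * ((ψ u : ℂˣ) : ℂ) := by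
    push_cast
    simp only [sub_mul]
    rw [Finset.sum_sub_distrib, ← hD.D_eq, ← Finset.mul_sum, sum_dual, if_neg hu, mul_zero,
      sub_zero]
  have h2 : ∀ ψ : P →* ℂˣ, ((mult χ ψ - mult χ 1 : ℤ) : ℂ) * ((ψ u : ℂˣ) : ℂ) =
      -(a χ : ℂ) * ((ψ u : ℂˣ) : ℂ) + (if ψ = 1 then (a χ : ℂ) else 0) +
      (δ : ℂ) * (if ψ ≠ 1 ∧ χ = ζ ψ then ((ψ u : ℂˣ) : ℂ) else 0) := by
    intro ψ
    by_cases hψ : ψ = 1
    · subst hψ
      simp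
    · rw [h.m_eq χ ψ hψ, if_neg hψ]
      by_cases h3 : χ = ζ ψ
      · rw [if_pos h3, if_pos ⟨hψ, h3⟩]
        push_cast
        ring
      · rw [if_neg h3, if_neg (fun h' => h3 h'.2)]
        push_cast
        ring
  rw [h1, Finset.sum_congr rfl (fun ψ _ => h2 ψ), Finset.sum_add_distrib, Finset.sum_add_distrib,
    ← Finset.mul_sum, sum_dual, if_neg hu, mul_zero, Finset.sum_ite_eq',
    if_pos (Finset.mem_univ _), zero_add, ← Finset.mul_sum, ← Finset.sum_filter]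
  congr 2
  rw [← finsum_mem_coe_finset]
  simp only [Finset.coe_filter, Finset.mem_univ, true_and]

theorem Out.D_of_not (h : Out H mult a d δ ζ) (hD : Dat H mult D) {χ : B}
    (hχ : ∀ ψ : P →* ℂˣ, ψ ≠ 1 → χ ≠ ζ ψ) {u : P} (hu : u ≠ 1) : D χ u = (a χ : ℂ) := by
  rw [h.D_eq hD χ hu]
  have : {ψ : P →* ℂˣ | ψ ≠ 1 ∧ χ = ζ ψ} = ∅ := by
    ext ψ
    simp only [Set.mem_ofPred_eq, Set.mem_empty_iff_false, iff_false]
    rintro ⟨h1, h2⟩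
    exact hχ ψ h1 h2
  rw [this, finsum_mem_empty, mul_zero, add_zero]

theorem Out.D_of_zeta (h : Out H mult a d δ ζ) (hD : Dat H mult D) {ψ : P →* ℂˣ}
    (hψ : ψ ≠ 1) {u : P} (hu : u ≠ 1) :
    D (ζ ψ) u = (d : ℂ) + (δ : ℂ) * ∑ᶠ ψ' ∈ {ψ' : P →* ℂˣ | Rel H ψ ψ'}, ((ψ' u : ℂˣ) : ℂ) := by
  rw [h.D_eq hD _ hu, h.a_eq ψ hψ]
  congr 3
  ext ψ'
  refine finsum_congr_Prop ?_ (fun _ => rfl)
  simp only [Set.mem_ofPred_eq, eq_iff_iff]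
  constructor
  · rintro ⟨h1, h2⟩
    exact (h.inj ψ ψ' hψ h1).1 h2
  · intro h1
    have h2 : ψ' ≠ 1 := Rel.ne_one h1.symm hψ
    exact ⟨h2, (h.inj ψ ψ' hψ h2).2 h1⟩

theorem Out.rel (h : Out H mult a d δ ζ) (hD : Dat H mult D) (f : B → ℂ)
    (hf : ∀ u : P, u ≠ 1 → ∑ χ, D χ u * f χ = 0) {ψ : P →* ℂˣ} (hψ : ψ ≠ 1) :
    (δ : ℂ) * f (ζ ψ) = ∑ χ, (a χ : ℂ) * f χ := by
  classical
  have hq : (Nat.card P : ℂ) ≠ 0 := Nat.cast_ne_zero.2 Nat.card_pos.ne'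
  have h3 : (Nat.card P : ℂ) * ∑ χ, ((mult χ ψ - mult χ 1 : ℤ) : ℂ) * f χ = 0 := by
    rw [Finset.mul_sum]
    have h4 : ∀ χ, (Nat.card P : ℂ) * (((mult χ ψ - mult χ 1 : ℤ) : ℂ) * f χ) =
        ∑ u, (((ψ u⁻¹ : ℂˣ) : ℂ) - 1) * (D χ u * f χ) := by
      intro χ
      rw [← mul_assoc, hD.a_eq χ ψ, Finset.sum_mul]
      refine Finset.sum_congr rfl (fun u _ => ?_)
      ring
    rw [Finset.sum_congr rfl (fun χ _ => h4 χ), Finset.sum_comm]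
    refine Finset.sum_eq_zero (fun u _ => ?_)
    rw [← Finset.mul_sum]
    by_cases hu : u = 1
    · subst hu; simp
    · rw [hf u hu, mul_zero]
  have h5 := (mul_eq_zero.1 h3).resolve_left hq
  have h6 : ∀ χ, ((mult χ ψ - mult χ 1 : ℤ) : ℂ) * f χ = -((a χ : ℂ) * f χ) +
      if χ = ζ ψ then (δ : ℂ) * f χ else 0 := by
    intro χ
    rw [h.m_eq χ ψ hψ]
    split_ifs
    · push_cast; ring
    · push_cast; ring
  rw [Finset.sum_congr rfl (fun χ _ => h6 χ), Finset.sum_add_distrib, Finset.sum_neg_distrib,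
    Finset.sum_ite_eq', if_pos (Finset.mem_univ _)] at h5
  linear_combination h5

/-- A character outside the family has `a = 0` and is not a value of `ζ`. -/
theorem Out.zero_of (h : Out H mult a d δ ζ) {χ : B} (h0 : ∀ ψ, mult χ ψ = 0) :
    a χ = 0 ∧ ∀ ψ : P →* ℂˣ, ψ ≠ 1 → χ ≠ ζ ψ := by
  classical
  have hδ : δ ≠ 0 := by rcases h.sign with h | h <;> rw [h] <;> decide
  obtain ⟨ψ₁, ψ₂, h1, h2, h3⟩ := h.two
  have h4 : ∀ ψ : P →* ℂˣ, ψ ≠ 1 → (a χ = δ * if χ = ζ ψ then 1 else 0) := by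
    intro ψ hψ
    have := h.m_eq χ ψ hψ
    rw [h0, h0] at this
    linarith
  have h5 : a χ = 0 := by
    by_contra hn
    have e1 : χ = ζ ψ₁ := by
      by_contra h'
      have := h4 ψ₁ h1
      rw [if_neg h', mul_zero] at this
      exact hn this
    have e2 : χ = ζ ψ₂ := by
      by_contra h'
      have := h4 ψ₂ h2
      rw [if_neg h', mul_zero] at this
      exact hn this
    exact h3 ((h.inj ψ₁ ψ₂ h1 h2).1 (e1.symm.trans e2))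
  refine ⟨h5, fun ψ hψ h' => ?_⟩
  have := h4 ψ hψ
  rw [if_pos h', h5, mul_one] at this
  exact hδ this.symm

/-- The number of values of `ζ`. -/
theorem Out.card_range (h : Out H mult a d δ ζ) (hD : Dat H mult D) :
    Nat.card {χ : B | ∃ ψ : P →* ℂˣ, ψ ≠ 1 ∧ ζ ψ = χ} * Nat.card H = Nat.card P - 1 := by
  rw [← card_reps hD.free]
  congr 1
  refine (Nat.card_congr (Equiv.ofBijective (fun i : {ψ : P →* ℂˣ // ψ ≠ 1 ∧ rep H ψ = ψ} =>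
    (⟨ζ i.1, i.1, i.2.1, rfl⟩ : {χ : B | ∃ ψ : P →* ℂˣ, ψ ≠ 1 ∧ ζ ψ = χ})) ⟨?_, ?_⟩)).symm
  · intro i j hij
    have h1 : ζ i.1 = ζ j.1 := congrArg Subtype.val hij
    have h2 := (h.inj _ _ i.2.1 j.2.1).1 h1
    rw [← rep_eq_iff, i.2.2, j.2.2] at h2
    exact Subtype.ext h2
  · rintro ⟨χ, ψ, hψ, rfl⟩
    refine ⟨⟨rep H ψ, Rel.ne_one (rel_rep H ψ) hψ, rep_rep H ψ⟩, Subtype.ext ?_⟩
    exact (h.inj _ _ (Rel.ne_one (rel_rep H ψ) hψ) hψ).2 (rel_rep H ψ)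

end Main

end Cfsg.Agent.Lib.BlkH6M
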