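import Cfsg.Agent.Lib.BlockRey
import Cfsg.Agent.Lib.BlockKB
import Cfsg.Agent.Lib.BlockLar
import Cfsg.Agent.Lib.BlockMaxB
import Cfsg.Agent.Lib.BlockIndIn
import Cfsg.Agent.Lib.BlockBFM

import Cfsg.Agent.Lib.BlkH6L
import Cfsg.Agent.Lib.BlkH6M
import Cfsg.Agent.Lib.BlkH6D
import Cfsg.Agent.Lib.BlkH5D
import Cfsg.Agent.Lib.BlkH5E

/-!
Principal block data for abelian Sylow subgroups with Frobenius normalizer.
-/

set_option autoImplicit false
set_option linter.style.haveILetI false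
set_option linter.unusedVariables false
set_option linter.unusedSectionVars false
set_option linter.unusedDecidableInType false
set_option linter.unusedFintypeInType false
set_option linter.unusedSimpArgs false

namespace Cfsg.Agent.Lib.BlkH6N
open Cfsg Cfsg.Agent.Lib.BlockLoc Cfsg.Agent.Lib.BlockGA Cfsg.Agent.Lib.CharBasic
open Cfsg.Agent.Lib.BlockIdem Cfsg.Agent.Lib.BlockPP Cfsg.Agent.Lib.BlockOrth
open Cfsg.Agent.Lib.BlockRed Cfsg.Agent.Lib.BlockDef Cfsg.Agent.Lib.BlockDeg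
open Cfsg.Agent.Lib.BlockNP Cfsg.Agent.Lib.BlockInd Cfsg.Agent.Lib.BlockSecond
open Cfsg.Agent.Lib.BlockFirst Cfsg.Agent.Lib.BlockHt Cfsg.Agent.Lib.BlockM
open Cfsg.Agent.Lib.BlockCov Cfsg.Agent.Lib.BlockQuot Cfsg.Agent.Lib.CharKer
open Cfsg.Agent.Lib.BlockQuotB Cfsg.Agent.Lib.BlockMore Cfsg.Agent.Lib.BlockMoreB
open Cfsg.Agent.Lib.BlockTr Cfsg.Agent.Lib.CharNormal Cfsg.Agent.Lib.BlockCovB
open Cfsg.Agent.Lib.BlockBP Cfsg.Agent.Lib.BlockInt Cfsg.Agent.Lib.BlockSum Cfsg.Agent.Lib.BlockRk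
open Cfsg.Agent.Lib.BlockFusB Cfsg.Agent.Lib.BlockMax Cfsg.Agent.Lib.CharSplit Cfsg.Agent.Lib.CharBrauer
open Cfsg.Agent.Lib.CharInd Cfsg.Agent.Lib.BlockPC Cfsg.Agent.Lib.BlockPair Cfsg.Agent.Lib.BlockPairB
open Cfsg.Agent.Lib.BlockPairC Cfsg.Agent.Lib.BlockPairD Cfsg.Agent.Lib.BlockPairE
open Cfsg.Agent.Lib.BlockRey Cfsg.Agent.Lib.BlockPairF Cfsg.Agent.Lib.BlockFus Cfsg.Agent.Lib.BlockNilB Cfsg.Agent.Lib.BlockNil Cfsg.Agent.Lib.CharClifford
open Cfsg.Agent.Lib.BlockKB Cfsg.Agent.Lib.BlockLar Cfsg.Agent.Lib.BlockMaxB Cfsg.Agent.Lib.BlockIndIn Cfsg.Agent.Lib.BlockBFM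
open Cfsg.Agent.Lib.BlkH6L Cfsg.Agent.Lib.BlkH6M Cfsg.Agent.Lib.BlkH6D Cfsg.Agent.Lib.BlkH5D Cfsg.Agent.Lib.BlkH5E
open scoped ComplexConjugate


section PNil

variable {G : Type*} [Group G] [Finite G] {p : ℕ} {M : Ideal AlgInt}

theorem mem_of_index_pow (hp : p.Prime) (K : Subgroup G) [K.Normal] {k : ℕ}
    (hK : K.index = p ^ k) {g : G} (hg : ¬ p ∣ orderOf g) : g ∈ K := by
  have h1 : g ^ (p ^ k) ∈ K := hK ▸ Subgroup.pow_index_mem K g
  have h2 : Nat.Coprime (orderOf g) (p ^ k) :=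
    Nat.Coprime.pow_right k ((hp.coprime_iff_not_dvd.2 hg).symm)
  obtain ⟨n, hn⟩ := exists_pow_eq_self_of_coprime h2.symm
  rw [← hn]
  exact K.pow_mem h1 n

/-- Rank one for the principal block of a group with a normal `p`-complement. -/
theorem rank_of_compl (hM : IsPModular p M) (K : Subgroup G) [K.Normal] (hK : ¬ p ∣ Nat.card K)
    {k : ℕ} (hi : K.index = p ^ k) : blockRank p (principalBlock M G) = 1 := by
  refine rank_one_of_prop hM.1 (triv_mem hM) (fun ψ hψ => ⟨ψ.1 1, fun g hg => ?_⟩)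
  have h1 : Triv K (triv G).1 := fun n _ => rfl
  have h2 : Triv K ψ.1 := triv_of_sameBlock hM K hK (χ := triv G) hψ h1
  rw [h2 g (mem_of_index_pow hM.1 K hi hg)]
  change ψ.1 1 = ψ.1 1 * 1
  rw [mul_one]

theorem burnside_rank (hM : IsPModular p M) [Fact p.Prime] (P : Sylow p G)
    (hP : Subgroup.normalizer ((P : Subgroup G) : Set G) ≤
      Subgroup.centralizer ((P : Subgroup G) : Set G)) : blockRank p (principalBlock M G) = 1 := by
  have h1 := MonoidHom.ker_transferSylow_isComplement' P hP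
  have h2 := MonoidHom.not_dvd_card_ker_transferSylow P hP
  have h3 : (MonoidHom.transferSylow P hP).ker.index = Nat.card P := h1.symm.index_eq_card
  obtain ⟨k, hk⟩ := IsPGroup.iff_card.1 P.isPGroup'
  exact rank_of_compl hM _ h2 (h3.trans hk)

theorem cent_rank (hM : IsPModular p M) [Fact p.Prime] (P : Sylow p G)
    (hab : ∀ x ∈ (P : Subgroup G), ∀ y ∈ (P : Subgroup G), x * y = y * x) {y : G}
    (hy : y ∈ (P : Subgroup G))
    (hfrob : Subgroup.centralizer ({y} : Set G) ⊓ Subgroup.normalizer ((P : Subgroup G) : Set G) ≤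
      Subgroup.centralizer ((P : Subgroup G) : Set G)) :
    blockRank p (principalBlock M (Subgroup.centralizer ({y} : Set G))) = 1 ∧
      p ^ (Nat.card (Subgroup.centralizer ({y} : Set G))).factorization p = Nat.card P := by
  have hle : (P : Subgroup G) ≤ Subgroup.centralizer ({y} : Set G) := by
    intro x hx
    rw [Subgroup.mem_centralizer_singleton_iff]
    exact hab x hx y hy
  constructor
  · refine burnside_rank hM (P.subtype hle) ?_
    intro n hn
    rw [Sylow.coe_subtype] at hn ⊢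
    have h1 : (n : G) ∈ Subgroup.normalizer ((P : Subgroup G) : Set G) := by
      rw [Subgroup.mem_normalizer_iff] at hn ⊢
      intro x
      constructor
      · intro hx
        have := (hn ⟨x, hle hx⟩).1 (Subgroup.mem_subgroupOf.2 hx)
        exact Subgroup.mem_subgroupOf.1 this
      · intro hx
        have h2 : x ∈ Subgroup.centralizer ({y} : Set G) := by
          have h3 := hle hx
          have h4 := (Subgroup.centralizer ({y} : Set G)).mul_mem
            ((Subgroup.centralizer ({y} : Set G)).mul_mem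
              ((Subgroup.centralizer ({y} : Set G)).inv_mem n.2) h3) n.2
          have h5 : (n : G)⁻¹ * ((n : G) * x * (n : G)⁻¹) * n = x := by group
          rwa [h5] at h4
        have := (hn ⟨x, h2⟩).2 (Subgroup.mem_subgroupOf.2 hx)
        exact Subgroup.mem_subgroupOf.1 this
    have h2 := hfrob ⟨n.2, h1⟩
    rw [Subgroup.mem_centralizer_iff] at h2 ⊢
    intro x hx
    exact Subtype.ext (h2 _ (Subgroup.mem_subgroupOf.1 hx))
  · have h1 := (P.subtype hle).card_eq_multiplicity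
    rw [← h1]
    have h2 : ((P.subtype hle : Sylow p (Subgroup.centralizer ({y} : Set G))) :
        Subgroup (Subgroup.centralizer ({y} : Set G))) =
        (P : Subgroup G).subgroupOf (Subgroup.centralizer ({y} : Set G)) := Sylow.coe_subtype P hle
    rw [h2]
    exact Nat.card_congr (Subgroup.subgroupOfEquivOfLe hle).toEquiv

/-- Conjugation on `P`. -/
theorem nh_apply (P : Subgroup G) (n : Subgroup.normalizer (P : Set G)) (w : P) :
    ((P.normalizerMonoidHom n w : P) : G) = n * w * (n : G)⁻¹ := rfl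

theorem card_nh (P : Subgroup G) : Nat.card (P.normalizerMonoidHom.range) =
    (Subgroup.centralizer (P : Set G)).relIndex (Subgroup.normalizer (P : Set G)) := by
  rw [Subgroup.relIndex, ← Subgroup.normalizerMonoidHom_ker, Subgroup.index_ker]

theorem nh_free (P : Subgroup G)
    (hfrob : ∀ y : G, y ∈ P → y ≠ 1 →
      Subgroup.centralizer ({y} : Set G) ⊓ Subgroup.normalizer (P : Set G) ≤
      Subgroup.centralizer (P : Set G)) :
    ∀ h ∈ P.normalizerMonoidHom.range, h ≠ 1 → ∀ u : P, h u = u → u = 1 := by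
  rintro _ ⟨n, rfl⟩ h1 u hu
  by_contra hne
  apply h1
  have h2 : (n : G) * u * (n : G)⁻¹ = u := by rw [← nh_apply, hu]
  have h3 : (n : G) ∈ Subgroup.centralizer (P : Set G) := by
    refine hfrob u u.2 (fun h => hne (Subtype.ext h)) (Subgroup.mem_inf.2 ⟨?_, n.2⟩)
    rw [Subgroup.mem_centralizer_singleton_iff]
    exact mul_inv_eq_iff_eq_mul.1 h2
  have h4 : n ∈ P.normalizerMonoidHom.ker := by
    rw [Subgroup.normalizerMonoidHom_ker]
    exact Subgroup.mem_subgroupOf.2 h3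
  exact h4

theorem sylow_fusion [Fact p.Prime] (P : Sylow p G)
    (hab : ∀ x ∈ (P : Subgroup G), ∀ y ∈ (P : Subgroup G), x * y = y * x) {u v : G}
    (hu : u ∈ (P : Subgroup G)) (hv : v ∈ (P : Subgroup G)) (h : IsConj u v) :
    ∃ n ∈ Subgroup.normalizer ((P : Subgroup G) : Set G), n * u * n⁻¹ = v := by
  haveI : IsMulCommutative ((P : Subgroup G)) := ⟨⟨fun a b => Subtype.ext (hab a a.2 b b.2)⟩⟩
  obtain ⟨g, hg⟩ := isConj_iff.1 h
  obtain ⟨n, hn, h1⟩ := P.conj_eq_normalizer_conj_of_mem u g⁻¹ hu (by rw [inv_inv, hg]; exact hv)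
  refine ⟨n⁻¹, Subgroup.inv_mem _ hn, ?_⟩
  rw [inv_inv, ← h1, inv_inv, hg]

end PNil

section LinDec

variable {P : Type*} [CommGroup P] [Finite P]

theorem lin_decomp {χ : P → ℂ} (h : IsCharacter P χ) :
    ∃ m : (P →* ℂˣ) → ℤ, ∀ [Fintype (P →* ℂˣ)] (u : P),
      χ u = ∑ ψ, (m ψ : ℂ) * ((ψ u : ℂˣ) : ℂ) := by
  classical
  cases nonempty_fintype P
  obtain ⟨n, hn⟩ := exists_mult h
  let f : (P →* ℂˣ) → IrrCharacter P := fun ψ => ⟨fun g => (ψ g : ℂ), isIrr_lin ψ⟩
  have hf : Function.Bijective f := by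
    constructor
    · intro ψ ψ' hh
      ext g
      exact congrFun (congrArg Subtype.val hh) g
    · rintro ⟨ξ, hξ⟩
      obtain ⟨l, hl⟩ := irr_lin_of_comm (fun a b => mul_comm a b) hξ
      exact ⟨l, Subtype.ext hl.symm⟩
  refine ⟨fun ψ => (n (f ψ) : ℤ), fun {_} u => ?_⟩
  rw [hn, Finset.sum_apply]
  rw [← (Equiv.ofBijective f hf).sum_comp]
  refine Finset.sum_congr rfl (fun ψ _ => ?_)
  simp [f]

end LinDec

section PDat

variable {G : Type*} [Group G] [Finite G] {p : ℕ} {M : Ideal AlgInt}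

/-- The commutative group structure. -/
@[reducible] def cg (P : Subgroup G) (hab : ∀ x ∈ P, ∀ y ∈ P, x * y = y * x) : CommGroup P :=
  { (inferInstance : Group P) with mul_comm := fun a b => Subtype.ext (hab a a.2 b b.2) }

theorem ncard_nh [Fact p.Prime] (P : Sylow p G)
    (hab : ∀ x ∈ (P : Subgroup G), ∀ y ∈ (P : Subgroup G), x * y = y * x)
    (hfrob : ∀ y : G, y ∈ (P : Subgroup G) → y ≠ 1 →
      Subgroup.centralizer ({y} : Set G) ⊓ Subgroup.normalizer ((P : Subgroup G) : Set G) ≤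
      Subgroup.centralizer ((P : Subgroup G) : Set G)) (u v : (P : Subgroup G)) (hu : u ≠ 1)
    [Decidable (IsConj (u : G) (v : G))] :
    Set.ncard {h : MulAut (P : Subgroup G) | h ∈ (P : Subgroup G).normalizerMonoidHom.range ∧
      h u = v} = if IsConj (u : G) (v : G) then 1 else 0 := by
  split_ifs with h
  · obtain ⟨n, hn, hnu⟩ := sylow_fusion P hab u.2 v.2 h
    rw [Set.ncard_eq_one]
    refine ⟨(P : Subgroup G).normalizerMonoidHom ⟨n, hn⟩, ?_⟩
    ext k
    simp only [Set.mem_ofPred_eq, Set.mem_singleton_iff]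
    have h1 : (P : Subgroup G).normalizerMonoidHom ⟨n, hn⟩ u = v := Subtype.ext hnu
    constructor
    · rintro ⟨hk, hkv⟩
      by_contra hne
      apply hu
      refine nh_free (P : Subgroup G) hfrob
        (((P : Subgroup G).normalizerMonoidHom ⟨n, hn⟩)⁻¹ * k)
        (Subgroup.mul_mem _ (Subgroup.inv_mem _ ⟨_, rfl⟩) hk)
        (fun h2 => hne (inv_mul_eq_one.1 h2).symm) u ?_
      change ((P : Subgroup G).normalizerMonoidHom ⟨n, hn⟩)⁻¹ (k u) = u
      rw [hkv, ← h1, MulAut.inv_apply_self]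
    · rintro rfl
      exact ⟨⟨_, rfl⟩, h1⟩
  · rw [Set.ncard_eq_zero]
    ext k
    simp only [Set.mem_ofPred_eq, Set.mem_empty_iff_false, iff_false]
    rintro ⟨⟨n, rfl⟩, hk⟩
    apply h
    rw [isConj_iff]
    exact ⟨n, by rw [← nh_apply, hk]⟩

theorem pow_of_mem (hp : p.Prime) (P : Sylow p G) {y : G} (hy : y ∈ (P : Subgroup G)) :
    ∃ k : ℕ, orderOf y = p ^ k := exists_orderOf_of_mem hp P.isPGroup' hy

theorem pr_gram (hM : IsPModular p M) [Fact p.Prime] (P : Sylow p G)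
    (hab : ∀ x ∈ (P : Subgroup G), ∀ y ∈ (P : Subgroup G), x * y = y * x)
    (hfrob : ∀ y : G, y ∈ (P : Subgroup G) → y ≠ 1 →
      Subgroup.centralizer ({y} : Set G) ⊓ Subgroup.normalizer ((P : Subgroup G) : Set G) ≤
      Subgroup.centralizer ((P : Subgroup G) : Set G)) [DecidablePred (· ∈ principalBlock M G)]
      {u v : G} (hu : u ∈ (P : Subgroup G)) (hv : v ∈ (P : Subgroup G)) (hu1 : u ≠ 1)
      (hv1 : v ≠ 1) [Decidable (IsConj u v)] :
    ∑ χ ∈ Finset.univ.filter (· ∈ principalBlock M G), χ.1 u * χ.1 v⁻¹ =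
      if IsConj u v then (Nat.card P : ℂ) else 0 := by
  classical
  have h1 := principal_T hM (u := v) (z := u) (pow_of_mem hM.1 P hv) (pow_of_mem hM.1 P hu)
  rw [h1]
  have h2 : (∑ ξ ∈ Finset.univ.filter (· ∈ principalBlock M (Subgroup.centralizer ({v} : Set G))),
        ((charDegree ξ.1 : ℂ)) ^ 2) = (Nat.card P : ℂ) := by
    rw [← principal_gram hM (pow_of_mem hM.1 P hv)]
    obtain ⟨h3, h4⟩ := cent_rank hM P hab hv (hfrob v hv hv1)
    rw [← h4]
    have h5 := (principal_section hM (pow_of_mem hM.1 P hv) h3).2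
    rw [← h5]
    refine Finset.sum_congr rfl (fun χ _ => ?_)
    rw [conj_irr]
  rw [h2]
  exact if_congr ⟨fun h => h.symm, fun h => h.symm⟩ rfl rfl

theorem pr_value (hM : IsPModular p M) [Fact p.Prime] (P : Sylow p G)
    (hab : ∀ x ∈ (P : Subgroup G), ∀ y ∈ (P : Subgroup G), x * y = y * x)
    (hfrob : ∀ y : G, y ∈ (P : Subgroup G) → y ≠ 1 →
      Subgroup.centralizer ({y} : Set G) ⊓ Subgroup.normalizer ((P : Subgroup G) : Set G) ≤
      Subgroup.centralizer ((P : Subgroup G) : Set G)) {χ : IrrCharacter G}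
    (hχ : χ ∈ principalBlock M G) {z y : G} (hzy : IsPPart p z y) (hy : y ∈ (P : Subgroup G))
    (hy1 : y ≠ 1) : χ.1 z = χ.1 y := by
  obtain ⟨c, rfl, hc, -, hcp⟩ := hzy
  have hcm : c ∈ Subgroup.centralizer ({y} : Set G) := by
    rw [Subgroup.mem_centralizer_singleton_iff]
    exact hc.symm.eq
  have h1 := (principal_section hM (pow_of_mem hM.1 P hy) (cent_rank hM P hab hy
    (hfrob y hy hy1)).1).1 χ hχ ⟨c, hcm⟩ (by rwa [Subgroup.orderOf_mk])
  exact h1

/-- The principal block gives a datum. -/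
theorem pr_dat (hM : IsPModular p M) [Fact p.Prime] (P : Sylow p G)
    (hab : ∀ x ∈ (P : Subgroup G), ∀ y ∈ (P : Subgroup G), x * y = y * x)
    (hfrob : ∀ y : G, y ∈ (P : Subgroup G) → y ≠ 1 →
      Subgroup.centralizer ({y} : Set G) ⊓ Subgroup.normalizer ((P : Subgroup G) : Set G) ≤
      Subgroup.centralizer ((P : Subgroup G) : Set G)) [DecidablePred (· ∈ principalBlock M G)] 
      [Fintype (P : Subgroup G)] :
    letI := cg (P : Subgroup G) hab
    ∃ mult : IrrCharacter G → ((P : Subgroup G) →* ℂˣ) → ℤ,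
      Dat (P : Subgroup G).normalizerMonoidHom.range mult
        (fun χ (u : (P : Subgroup G)) => if χ ∈ principalBlock M G then χ.1 (u : G) else 0) ∧
      ∀ χ, χ ∉ principalBlock M G → ∀ ψ, mult χ ψ = 0 := by
  classical
  letI := cg (P : Subgroup G) hab
  have h1 : ∀ χ : IrrCharacter G, ∃ m : ((P : Subgroup G) →* ℂˣ) → ℤ,
      ∀ [Fintype ((P : Subgroup G) →* ℂˣ)] (u : (P : Subgroup G)),
      χ.1 (u : G) = ∑ ψ, (m ψ : ℂ) * ((ψ u : ℂˣ) : ℂ) := fun χ =>
    lin_decomp (isChar_comp (P : Subgroup G).subtype (isChar_of_irr χ.2))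
  choose m hm using h1
  refine ⟨fun χ ψ => if χ ∈ principalBlock M G then m χ ψ else 0, ⟨nh_free _ hfrob, ?_, ?_, ?_⟩,
    fun χ hχ ψ => if_neg hχ⟩
  · intro _ χ u
    by_cases hχ : χ ∈ principalBlock M G
    · simp only [if_pos hχ]
      exact hm χ u
    · simp only [if_neg hχ, Int.cast_zero, zero_mul, Finset.sum_const_zero]
  · rintro χ _ ⟨n, rfl⟩ u
    simp only [nh_apply]
    rw [irr_cl χ]
  · intro u v hu hv
    rw [ncard_nh P hab hfrob u v hu]
    have h2 : ∀ χ : IrrCharacter G, (if χ ∈ principalBlock M G then χ.1 (u : G) else 0) *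
        (if χ ∈ principalBlock M G then χ.1 ((v⁻¹ : (P : Subgroup G)) : G) else 0) =
        if χ ∈ principalBlock M G then χ.1 (u : G) * χ.1 (v : G)⁻¹ else 0 := by
      intro χ
      split_ifs
      · rfl
      · ring
    rw [Finset.sum_congr rfl (fun χ _ => h2 χ), ← Finset.sum_filter,
      pr_gram hM P hab hfrob u.2 v.2 (fun h => hu (Subtype.ext h)) (fun h => hv (Subtype.ext h))]
    split_ifs <;> simp

end PDat

end Cfsg.Agent.Lib.BlkH6N
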