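import Cfsg.Agent.Lib.BlockRey
import Cfsg.Agent.Lib.BlockKB
import Cfsg.Agent.Lib.BlockLar
import Cfsg.Agent.Lib.BlockMaxB
import Cfsg.Agent.Lib.BlockIndIn
import Cfsg.Agent.Lib.BlockBFM

import Cfsg.Agent.Lib.BlkH6L
import Cfsg.Agent.Lib.BlkH6M
import Cfsg.Agent.Lib.BlkH6N
import Cfsg.Agent.Lib.BlkH6D
import Cfsg.Agent.Lib.BlkH5D
import Cfsg.Agent.Lib.BlkH5E

/-!
Principal blocks with abelian Sylow subgroup and Frobenius normalizer.
-/

set_option autoImplicit false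
set_option linter.style.haveILetI false
set_option linter.unusedVariables false
set_option linter.unusedSectionVars false
set_option linter.unusedDecidableInType false
set_option linter.unusedFintypeInType false
set_option linter.unusedSimpArgs false

namespace Cfsg.Agent.Lib.BlkH6O
open Cfsg Cfsg.Agent.Lib.BlockLoc Cfsg.Agent.Lib.BlockGA Cfsg.Agent.Lib.CharBasic
open Cfsg.Agent.Lib.BlockIdem Cfsg.Agent.Lib.BlockPP Cfsg.Agent.Lib.BlockOrth
open Cfsg.Agent.Lib.BlockRed Cfsg.Agent.Lib.BlockDef Cfsg.Agent.Lib.BlockDeg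
open Cfsg.Agent.Lib.BlockNP Cfsg.Agent.Lib.BlockInd Cfsg.Agent.Lib.BlockSecond
open Cfsg.Agent.Lib.BlockFirst Cfsg.Agent.Lib.BlockHt Cfsg.Agent.Lib.BlockM
open Cfsg.Agent.Lib.BlockCov Cfsg.Agent.Lib.BlockQuot Cfsg.Agent.Lib.CharKer
open Cfsg.Agent.Lib.BlockQuotB Cfsg.Agent.Lib.BlockMore Cfsg.Agent.Lib.BlockMoreB
open Cfsg.Agent.Lib.BlockTr Cfsg.Agent.Lib.CharNormal Cfsg.Agent.Lib.BlockCovB
open Cfsg.Agent.Lib.BlockBP Cfsg.Agent.Lib.BlockInt Cfsg.Agent.Lib.BlockSum Cfsg.Agent.Lib.BlockRk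
open Cfsg.Agent.Lib.BlockFusB Cfsg.Agent.Lib.BlockMax Cfsg.Agent.Lib.CharSplit Cfsg.Agent.Lib.CharBrauer
open Cfsg.Agent.Lib.CharInd Cfsg.Agent.Lib.BlockPC Cfsg.Agent.Lib.BlockPair Cfsg.Agent.Lib.BlockPairB
open Cfsg.Agent.Lib.BlockPairC Cfsg.Agent.Lib.BlockPairD Cfsg.Agent.Lib.BlockPairE
open Cfsg.Agent.Lib.BlockRey Cfsg.Agent.Lib.BlockPairF Cfsg.Agent.Lib.BlockFus Cfsg.Agent.Lib.BlockNilB Cfsg.Agent.Lib.BlockNil Cfsg.Agent.Lib.CharClifford
open Cfsg.Agent.Lib.BlockKB Cfsg.Agent.Lib.BlockLar Cfsg.Agent.Lib.BlockMaxB Cfsg.Agent.Lib.BlockIndIn Cfsg.Agent.Lib.BlockBFM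
open Cfsg.Agent.Lib.BlkH6L Cfsg.Agent.Lib.BlkH6M Cfsg.Agent.Lib.BlkH6N Cfsg.Agent.Lib.BlkH6D Cfsg.Agent.Lib.BlkH5D Cfsg.Agent.Lib.BlkH5E
open scoped ComplexConjugate


section PF

variable {G : Type*} [Group G] [Finite G] {p : ℕ} {M : Ideal AlgInt}

/-- The relation of being conjugate in the normalizer. -/
def NRel (P : Subgroup G) (ψ ψ' : P →* ℂˣ) : Prop :=
  ∃ n : G, n ∈ Subgroup.normalizer (P : Set G) ∧
    ∀ w w' : P, (w' : G) = n * w * n⁻¹ → ψ' w' = ψ w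

theorem nrel_iff (P : Subgroup G) (hab : ∀ x ∈ P, ∀ y ∈ P, x * y = y * x) (ψ ψ' : P →* ℂˣ) :
    letI := cg P hab
    NRel P ψ ψ' ↔ Rel P.normalizerMonoidHom.range ψ ψ' := by
  letI := cg P hab
  constructor
  · rintro ⟨n, hn, h⟩
    refine ⟨P.normalizerMonoidHom ⟨n, hn⟩, ⟨_, rfl⟩, ?_⟩
    refine MonoidHom.ext (fun w => ?_)
    exact h w (P.normalizerMonoidHom ⟨n, hn⟩ w) rfl
  · rintro ⟨_, ⟨n, rfl⟩, h⟩
    refine ⟨n, n.2, fun w w' hw => ?_⟩
    rw [← h]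
    have : w' = P.normalizerMonoidHom n w := Subtype.ext hw
    rw [this]
    rfl

theorem pr_orth (hM : IsPModular p M) [Fact p.Prime] (P : Sylow p G)
    [DecidablePred (· ∈ principalBlock M G)] {u g : G} (hu : u ∈ (P : Subgroup G)) (hu1 : u ≠ 1)
    (hg : ¬ p ∣ orderOf g) :
    ∑ χ ∈ Finset.univ.filter (· ∈ principalBlock M G), χ.1 u * χ.1 g = 0 := by
  have h := block_orth hM (isLoc_eB hM (principal_isPBlock M G)) (g := u) (h := g⁻¹) ?_
  · rw [inv_inv] at h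
    exact h
  · rw [pp_eq_self hM.1 (pow_of_mem hM.1 P hu), pp_inv hM.1, (pp_eq_one_iff hM.1 g).2 hg, inv_one]
    intro hc
    exact hu1 (isConj_one_left.1 hc)

theorem pr_full_of (hM : IsPModular p M) [Fact p.Prime] (P : Sylow p G)
    (hab : ∀ x ∈ (P : Subgroup G), ∀ y ∈ (P : Subgroup G), x * y = y * x) (m : ℕ)
    (hm : 0 < m) (hm2 : m + 1 < Nat.card P)
    (hCN : (Subgroup.centralizer ((P : Subgroup G) : Set G)).relIndex
      (Subgroup.normalizer ((P : Subgroup G) : Set G)) = m)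
    (hfrob : ∀ y : G, y ∈ (P : Subgroup G) → y ≠ 1 →
      Subgroup.centralizer ({y} : Set G) ⊓ Subgroup.normalizer ((P : Subgroup G) : Set G) ≤
      Subgroup.centralizer ((P : Subgroup G) : Set G)) [Fintype (P : Subgroup G)]
    [DecidablePred (· ∈ principalBlock M G)] :
    letI := cg (P : Subgroup G) hab
    ∀ (mult : IrrCharacter G → ((P : Subgroup G) →* ℂˣ) → ℤ)
      (_hD : Dat (P : Subgroup G).normalizerMonoidHom.range mult
        (fun χ (u : (P : Subgroup G)) => if χ ∈ principalBlock M G then χ.1 (u : G) else 0))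
      (_h0 : ∀ χ, χ ∉ principalBlock M G → ∀ ψ, mult χ ψ = 0)
      (a : IrrCharacter G → ℤ) (d δ : ℤ) (ζ : ((P : Subgroup G) →* ℂˣ) → IrrCharacter G)
      (_hO : BlkH6M.Out (P : Subgroup G).normalizerMonoidHom.range mult a d δ ζ),
    ∃ (X Y : Set (IrrCharacter G)) (r : ℕ), r * m = Nat.card P - 1 ∧ 2 ≤ r ∧ (δ = 1 ∨ δ = -1) ∧
      principalBlock M G = X ∪ Y ∧ Disjoint X Y ∧ Nat.card Y = r ∧ triv G ∈ X ∧ a (triv G) = 1 ∧
      (∀ χ ∈ X, a χ ≠ 0 ∧ ∀ z y : G, IsPPart p z y → y ∈ (P : Subgroup G) → y ≠ 1 →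
        χ.1 z = (a χ : ℂ)) ∧
      (∀ ψ : (P : Subgroup G) →* ℂˣ, ψ ≠ 1 → ζ ψ ∈ Y) ∧
      (∀ η ∈ Y, ∃ ψ : (P : Subgroup G) →* ℂˣ, ψ ≠ 1 ∧ ζ ψ = η) ∧
      (∀ ψ ψ' : (P : Subgroup G) →* ℂˣ, ψ ≠ 1 → ψ' ≠ 1 → (ζ ψ = ζ ψ' ↔ NRel (P : Subgroup G) ψ ψ')) ∧
      (∀ ψ : (P : Subgroup G) →* ℂˣ, ψ ≠ 1 → ∀ (z : G) (y : (P : Subgroup G)),
        IsPPart p z (y : G) → (y : G) ≠ 1 → (ζ ψ).1 z = (d : ℂ) + (δ : ℂ) *
          ∑ᶠ ψ' ∈ {ψ' : (P : Subgroup G) →* ℂˣ | NRel (P : Subgroup G) ψ ψ'}, ((ψ' y : ℂˣ) : ℂ)) ∧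
      ((∑ᶠ χ ∈ X, a χ ^ 2) + (r : ℤ) * d ^ 2 - 2 * δ * d = m) ∧
      (∀ f : IrrCharacter G → ℂ, (∀ u ∈ (P : Subgroup G), u ≠ 1 →
        ∑ᶠ χ ∈ principalBlock M G, χ.1 u * f χ = 0) → ∀ η ∈ Y,
          (δ : ℂ) * f η = ∑ᶠ χ ∈ X, (a χ : ℂ) * f χ + (d : ℂ) * ∑ᶠ χ ∈ Y, f χ) := by
  classical
  cases nonempty_fintype G
  letI := cg (P : Subgroup G) hab
  intro mult hD h0 a d δ ζ hO
  have hH : Nat.card (P : Subgroup G).normalizerMonoidHom.range = m := by rw [card_nh, hCN]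
  have hsum : ∀ (f : IrrCharacter G → ℂ) (u : G), ∑ χ : IrrCharacter G,
      (if χ ∈ principalBlock M G then χ.1 u else 0) * f χ =
      ∑ χ ∈ Finset.univ.filter (· ∈ principalBlock M G), χ.1 u * f χ := by
    intro f u
    rw [Finset.sum_filter]
    refine Finset.sum_congr rfl (fun χ _ => ?_)
    split_ifs
    · rfl
    · rw [zero_mul]
  set Y : Set (IrrCharacter G) := {χ | ∃ ψ : (P : Subgroup G) →* ℂˣ, ψ ≠ 1 ∧ ζ ψ = χ} with hY
  set X : Set (IrrCharacter G) := {χ | χ ∈ principalBlock M G ∧ χ ∉ Y} with hX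
  have hYB : Y ⊆ principalBlock M G := by
    rintro χ ⟨ψ, hψ, rfl⟩
    by_contra hn
    exact (hO.zero_of (h0 _ hn)).2 ψ hψ rfl
  have hXU : principalBlock M G = X ∪ Y := by
    ext χ
    constructor
    · intro h
      by_cases hy : χ ∈ Y
      · exact Or.inr hy
      · exact Or.inl ⟨h, hy⟩
    · rintro (h | h)
      · exact h.1
      · exact hYB h
  have hdis : Disjoint X Y := Set.disjoint_left.2 (fun χ h => h.2)
  have hcY := hO.card_range hD
  rw [hH] at hcY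
  have hr2 : 2 ≤ Nat.card Y := by
    by_contra hn
    have h3 : Nat.card Y ≤ 1 := by omega
    have h4 : Nat.card Y * m ≤ 1 * m := Nat.mul_le_mul_right _ h3
    have h5 : Nat.card Y * m = Nat.card P - 1 := hcY
    omega
  have hXval : ∀ χ ∈ X, ∀ z y : G, IsPPart p z y → y ∈ (P : Subgroup G) → y ≠ 1 →
        χ.1 z = (a χ : ℂ) := by
    intro χ hχ z y hzy hy hy1
    rw [pr_value hM P hab hfrob hχ.1 hzy hy hy1]
    have h1 := hO.D_of_not hD (χ := χ) (fun ψ hψ h => hχ.2 ⟨ψ, hψ, h.symm⟩) (u := ⟨y, hy⟩)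
      (fun h => hy1 (congrArg Subtype.val h))
    simp only [if_pos hχ.1] at h1
    exact h1
  have hP1 : ∃ y ∈ (P : Subgroup G), y ≠ 1 := by
    by_contra hn
    push Not at hn
    have : Nat.card P ≤ 1 := by
      rw [Finite.card_le_one_iff_subsingleton]
      exact ⟨fun x y => Subtype.ext ((hn x x.2).trans (hn y y.2).symm)⟩
    omega
  obtain ⟨y₀, hy₀, hy₀1⟩ := hP1
  have hpp₀ : IsPPart p y₀ y₀ := ⟨1, mul_one _, Commute.one_right _, pow_of_mem hM.1 P hy₀,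
    by rw [orderOf_one]; exact hM.1.not_dvd_one⟩
  have htX : triv G ∈ X := by
    refine ⟨triv_mem hM, ?_⟩
    rintro ⟨ψ, hψ, hζ⟩
    obtain ⟨ψ₁, ψ₂, h1, h2, h3⟩ := hO.two
    -- the multiplicities of the trivial character
    have hmt : ∀ φ : (P : Subgroup G) →* ℂˣ, φ ≠ 1 → mult (triv G) φ - mult (triv G) 1 = -1 := by
      intro φ hφ
      have h4 := hD.a_eq (triv G) φ
      have h5 : ∀ u : (P : Subgroup G), (if triv G ∈ principalBlock M G then (triv G).1 (u : G) else 0) *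
          (((φ u⁻¹ : ℂˣ) : ℂ) - 1) = (((φ⁻¹ u : ℂˣ) : ℂ)) - 1 := by
        intro u
        rw [if_pos (triv_mem hM)]
        change (1 : ℂ) * _ = _
        rw [one_mul, map_inv, MonoidHom.inv_apply]
      rw [Finset.sum_congr rfl (fun u _ => h5 u), Finset.sum_sub_distrib, sum_units] at h4
      rw [if_neg (by
        intro h'
        apply hφ
        refine MonoidHom.ext (fun u => ?_)
        have h3 := DFunLike.congr_fun h' u
        rw [MonoidHom.inv_apply, MonoidHom.one_apply, inv_eq_one] at h3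
        exact h3)] at h4
      simp only [Finset.sum_const, Finset.card_univ, nsmul_eq_mul, mul_one, zero_sub] at h4
      rw [← Nat.card_eq_fintype_card] at h4
      have hq : (Nat.card (P : Subgroup G) : ℂ) ≠ 0 := Nat.cast_ne_zero.2 Nat.card_pos.ne'
      have h6 : ((mult (triv G) φ - mult (triv G) 1 : ℤ) : ℂ) = ((-1 : ℤ) : ℂ) := by
        apply mul_left_cancel₀ hq
        rw [h4]
        push_cast
        ring
      exact_mod_cast h6
    have e : ∀ φ : (P : Subgroup G) →* ℂˣ, φ ≠ 1 → Rel (P : Subgroup G).normalizerMonoidHom.range φ ψ := by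
      intro φ hφ
      by_contra hn
      have e1 := hO.m_eq (triv G) φ hφ
      have e2 := hO.m_eq (triv G) ψ hψ
      rw [hmt φ hφ, if_neg (by rw [← hζ]; exact fun h => hn ((hO.inj ψ φ hψ hφ).1 h).symm)] at e1
      rw [hmt ψ hψ, if_pos hζ.symm] at e2
      rcases hO.sign with h | h <;> rw [h] at e1 e2 <;> omega
    exact h3 ((e ψ₁ h1).trans (e ψ₂ h2).symm)
  have hat : a (triv G) = 1 := by
    have := hXval _ htX y₀ y₀ hpp₀ hy₀ hy₀1
    have h1 : (triv G).1 y₀ = 1 := rfl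
    rw [h1] at this
    exact_mod_cast this.symm
  have hconv : ∀ (R : Type) [CommRing R] (f : IrrCharacter G → R),
      ∑ χ : IrrCharacter G, (a χ : R) * f χ =
      ∑ᶠ χ ∈ X, (a χ : R) * f χ + (d : R) * ∑ᶠ χ ∈ Y, f χ := by
    intro R _ f
    rw [finsum_blk X, finsum_blk Y, Finset.mul_sum]
    rw [← Finset.sum_filter_add_sum_filter_not Finset.univ (fun χ => χ ∈ X) (fun χ => (a χ : R) * f χ)]
    congr 1
    rw [← Finset.sum_filter_add_sum_filter_not (Finset.univ.filter (fun χ => ¬ χ ∈ X))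
      (fun χ => χ ∈ Y) (fun χ => (a χ : R) * f χ)]
    have h1 : ∑ χ ∈ (Finset.univ.filter (fun χ => ¬ χ ∈ X)).filter (fun χ => ¬ χ ∈ Y),
        (a χ : R) * f χ = 0 := by
      refine Finset.sum_eq_zero (fun χ hχ => ?_)
      obtain ⟨h2, h3⟩ := Finset.mem_filter.1 hχ
      have h4 := (Finset.mem_filter.1 h2).2
      have h5 : χ ∉ principalBlock M G := by
        rw [hXU]
        rintro (h | h)
        · exact h4 h
        · exact h3 h
      rw [(hO.zero_of (h0 _ h5)).1, Int.cast_zero, zero_mul]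
    rw [h1, add_zero, Finset.filter_filter]
    have h2 : Finset.univ.filter (fun χ => ¬ χ ∈ X ∧ χ ∈ Y) = Finset.univ.filter (fun χ => χ ∈ Y) := by
      ext χ
      simp only [Finset.mem_filter, Finset.mem_univ, true_and]
      exact ⟨fun h => h.2, fun h => ⟨fun h' => h'.2 h, h⟩⟩
    rw [h2]
    refine Finset.sum_congr rfl (fun χ hχ => ?_)
    obtain ⟨ψ, hψ, rfl⟩ := (Finset.mem_filter.1 hχ).2
    rw [hO.a_eq ψ hψ]
  refine ⟨X, Y, Nat.card Y, hcY, hr2, hO.sign, hXU, hdis, rfl, htX, hat, ?_, ?_,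
    fun η hη => hη, ?_, ?_, ?_, ?_⟩
  · intro χ hχ
    refine ⟨?_, hXval χ hχ⟩
    intro ha
    -- defect zero
    have h1 : ∀ g : G, p ∣ orderOf g → χ.1 g = 0 := by
      intro g hg
      have h2 := isPPart_pp hM.1 g
      have h3 : pp p g ≠ 1 := fun h => ((pp_eq_one_iff hM.1 g).1 h) hg
      obtain ⟨k, hk⟩ : ∃ k : ℕ, orderOf (pp p g) = p ^ k := by
        obtain ⟨_, _, _, h4, _⟩ := h2
        exact h4
      have h4 : IsPGroup p (Subgroup.zpowers (pp p g)) := (isPGroup_zpowers_iff hM.1 _).2 ⟨k, hk⟩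
      obtain ⟨S, hS⟩ := h4.exists_le_sylow
      obtain ⟨x, hx⟩ := MulAction.exists_smul_eq G S P
      have h5 : x * pp p g * x⁻¹ ∈ (P : Subgroup G) := by
        rw [← hx]
        exact ⟨pp p g, hS (Subgroup.mem_zpowers _), rfl⟩
      have h6 : IsPPart p (x * g * x⁻¹) (x * pp p g * x⁻¹) := by
        rw [← pp_conj]
        exact isPPart_pp hM.1 _
      have h7 := hXval χ hχ _ _ h6 h5 (fun h => h3 (by
        have := conj_eq_one_iff.1 h
        exact this))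
      rw [irr_cl χ] at h7
      rw [h7, ha, Int.cast_zero]
    have h2 := fac_card_le_of_vanish hM h1
    have h3 : (charDegree χ.1).factorization p = (Nat.card G).factorization p := by
      refine le_antisymm ?_ h2
      exact (Nat.factorization_le_iff_dvd (by
        have := isIrr_one_ne_zero χ.2
        rw [irr_one_eq] at this
        exact fun h => this (by rw [h]; exact Nat.cast_zero)) Nat.card_pos.ne').2 (charDegree_dvd χ.2) p
    have h4 := singleton_of_defect_zero hM h3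
    have h5 : principalBlock M G = blockOf M χ.1 :=
      block_eq_of_mem_of_mem hM (principal_isPBlock M G) ⟨χ, rfl⟩ hχ.1 (by rw [h4]; rfl)
    have h6 : triv G ∈ ({χ} : Set (IrrCharacter G)) := by
      rw [← h4, ← h5]; exact triv_mem hM
    have h7 : triv G = χ := h6
    rw [← h7, hat] at ha
    exact one_ne_zero ha
  · intro ψ hψ
    exact ⟨ψ, hψ, rfl⟩
  · intro ψ ψ' hψ hψ'
    rw [hO.inj ψ ψ' hψ hψ']
    exact (nrel_iff (P : Subgroup G) hab ψ ψ').symm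
  · intro ψ hψ z y hzy hy1
    have h1 : ζ ψ ∈ principalBlock M G := hYB ⟨ψ, hψ, rfl⟩
    rw [pr_value hM P hab hfrob h1 hzy y.2 hy1]
    have h2 := hO.D_of_zeta hD hψ (u := y) (fun h => hy1 (by rw [h]; rfl))
    simp only [if_pos h1] at h2
    rw [h2]
    congr 3
    ext ψ'
    refine finsum_congr_Prop ?_ (fun _ => rfl)
    simp only [Set.mem_ofPred_eq, eq_iff_iff]
    exact (nrel_iff (P : Subgroup G) hab ψ ψ').symm
  · have h1 := hO.norm
    have h2 := hconv ℤ a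
    simp only [Int.cast_id] at h2
    have h3 : ∀ χ, a χ * a χ = a χ ^ 2 := fun χ => (sq _).symm
    simp only [h3] at h2
    rw [h2, hH] at h1
    have h4 : ∑ᶠ χ ∈ Y, a χ = (Nat.card Y : ℤ) * d := by
      rw [finsum_blk Y]
      have h5 : ∀ χ ∈ Finset.univ.filter (· ∈ Y), a χ = d := by
        intro χ hχ
        obtain ⟨ψ, hψ, rfl⟩ := (Finset.mem_filter.1 hχ).2
        exact hO.a_eq ψ hψ
      rw [Finset.sum_congr rfl h5, Finset.sum_const, nsmul_eq_mul]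
      congr 2
      rw [Nat.card_eq_fintype_card, Fintype.card_subtype]
    rw [h4] at h1
    linear_combination h1
  · rintro f hf _ ⟨ψ, hψ, rfl⟩
    rw [← hconv ℂ f]
    refine hO.rel hD f ?_ hψ
    intro u hu
    have h1 := hf u u.2 (fun h => hu (Subtype.ext h))
    rw [finsum_blk] at h1
    rw [hsum f u, h1]


theorem pr_full (hM : IsPModular p M) [Fact p.Prime] (P : Sylow p G)
    (hab : ∀ x ∈ (P : Subgroup G), ∀ y ∈ (P : Subgroup G), x * y = y * x) (m : ℕ)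
    (hm : 0 < m) (hm2 : m + 1 < Nat.card P)
    (hCN : (Subgroup.centralizer ((P : Subgroup G) : Set G)).relIndex
      (Subgroup.normalizer ((P : Subgroup G) : Set G)) = m)
    (hfrob : ∀ y : G, y ∈ (P : Subgroup G) → y ≠ 1 →
      Subgroup.centralizer ({y} : Set G) ⊓ Subgroup.normalizer ((P : Subgroup G) : Set G) ≤
      Subgroup.centralizer ((P : Subgroup G) : Set G)) :
    ∃ (a : IrrCharacter G → ℤ) (d δ : ℤ) (ζ : ((P : Subgroup G) →* ℂˣ) → IrrCharacter G)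
      (X Y : Set (IrrCharacter G)) (r : ℕ), r * m = Nat.card P - 1 ∧ 2 ≤ r ∧ (δ = 1 ∨ δ = -1) ∧
      principalBlock M G = X ∪ Y ∧ Disjoint X Y ∧ Nat.card Y = r ∧ triv G ∈ X ∧ a (triv G) = 1 ∧
      (∀ χ ∈ X, a χ ≠ 0 ∧ ∀ z y : G, IsPPart p z y → y ∈ (P : Subgroup G) → y ≠ 1 →
        χ.1 z = (a χ : ℂ)) ∧
      (∀ ψ : (P : Subgroup G) →* ℂˣ, ψ ≠ 1 → ζ ψ ∈ Y) ∧
      (∀ η ∈ Y, ∃ ψ : (P : Subgroup G) →* ℂˣ, ψ ≠ 1 ∧ ζ ψ = η) ∧
      (∀ ψ ψ' : (P : Subgroup G) →* ℂˣ, ψ ≠ 1 → ψ' ≠ 1 → (ζ ψ = ζ ψ' ↔ NRel (P : Subgroup G) ψ ψ')) ∧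
      (∀ ψ : (P : Subgroup G) →* ℂˣ, ψ ≠ 1 → ∀ (z : G) (y : (P : Subgroup G)),
        IsPPart p z (y : G) → (y : G) ≠ 1 → (ζ ψ).1 z = (d : ℂ) + (δ : ℂ) *
          ∑ᶠ ψ' ∈ {ψ' : (P : Subgroup G) →* ℂˣ | NRel (P : Subgroup G) ψ ψ'}, ((ψ' y : ℂˣ) : ℂ)) ∧
      ((∑ᶠ χ ∈ X, a χ ^ 2) + (r : ℤ) * d ^ 2 - 2 * δ * d = m) ∧
      (∀ f : IrrCharacter G → ℂ, (∀ u ∈ (P : Subgroup G), u ≠ 1 →
        ∑ᶠ χ ∈ principalBlock M G, χ.1 u * f χ = 0) → ∀ η ∈ Y,
          (δ : ℂ) * f η = ∑ᶠ χ ∈ X, (a χ : ℂ) * f χ + (d : ℂ) * ∑ᶠ χ ∈ Y, f χ) := by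
  classical
  cases nonempty_fintype G
  letI := cg (P : Subgroup G) hab
  haveI : Fintype (P : Subgroup G) := Fintype.ofFinite _
  obtain ⟨mult, hD, h0⟩ := pr_dat hM P hab hfrob
  have hH : Nat.card (P : Subgroup G).normalizerMonoidHom.range = m := by rw [card_nh, hCN]
  have hDu : ∀ χ ∈ principalBlock M G, ∀ u : (P : Subgroup G),
      (if χ ∈ principalBlock M G then χ.1 (u : G) else 0) = χ.1 (u : G) := fun χ hχ u => if_pos hχ
  have hsum : ∀ (f : IrrCharacter G → ℂ) (u : G), ∑ χ : IrrCharacter G,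
      (if χ ∈ principalBlock M G then χ.1 u else 0) * f χ =
      ∑ χ ∈ Finset.univ.filter (· ∈ principalBlock M G), χ.1 u * f χ := by
    intro f u
    rw [Finset.sum_filter]
    refine Finset.sum_congr rfl (fun χ _ => ?_)
    split_ifs
    · rfl
    · rw [zero_mul]
  obtain ⟨a, d, δ, ζ, hO⟩ := Dat.main hD (by rw [hH]; exact hm2) (fun χ => (charDegree χ.1 : ℤ))
    (fun χ => by
      have := isIrr_one_ne_zero χ.2
      rw [irr_one_eq] at this
      exact_mod_cast Nat.pos_of_ne_zero (fun h => this (by rw [h]; exact Nat.cast_zero)))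
    (fun u hu => by
      have h1 : ∀ χ : IrrCharacter G, (((charDegree χ.1 : ℤ)) : ℂ) = χ.1 1 := fun χ => by
        rw [irr_one_eq]; push_cast; rfl
      simp only [h1]
      rw [hsum (fun χ => χ.1 1) u]
      exact pr_orth hM P u.2 (fun h => hu (Subtype.ext h)) (by rw [orderOf_one]; exact hM.1.not_dvd_one))
  exact ⟨a, d, δ, ζ, pr_full_of hM P hab m hm hm2 hCN hfrob mult hD h0 a d δ ζ hO⟩

theorem pr_out (hM : IsPModular p M) [Fact p.Prime] (P : Sylow p G)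
    (hab : ∀ x ∈ (P : Subgroup G), ∀ y ∈ (P : Subgroup G), x * y = y * x)
    (hm2 : Nat.card (P : Subgroup G).normalizerMonoidHom.range + 1 < Nat.card P)
    [Fintype (P : Subgroup G)]
    [DecidablePred (· ∈ principalBlock M G)] :
    letI := cg (P : Subgroup G) hab
    ∀ (mult : IrrCharacter G → ((P : Subgroup G) →* ℂˣ) → ℤ)
      (_hD : Dat (P : Subgroup G).normalizerMonoidHom.range mult
        (fun χ (u : (P : Subgroup G)) => if χ ∈ principalBlock M G then χ.1 (u : G) else 0)),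
    ∃ (a : IrrCharacter G → ℤ) (d δ : ℤ) (ζ : ((P : Subgroup G) →* ℂˣ) → IrrCharacter G),
      BlkH6M.Out (P : Subgroup G).normalizerMonoidHom.range mult a d δ ζ := by
  classical
  cases nonempty_fintype G
  letI := cg (P : Subgroup G) hab
  intro mult hD
  refine Dat.main hD hm2 (fun χ => (charDegree χ.1 : ℤ))
    (fun χ => by exact_mod_cast charDegree_pos χ.2) (fun u hu => ?_)
  have h1 : ∀ χ : IrrCharacter G, (((charDegree χ.1 : ℤ)) : ℂ) = χ.1 1 := fun χ => by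
    rw [irr_one_eq]; push_cast; rfl
  simp only [h1]
  have h2 := pr_orth hM P u.2 (fun h => hu (Subtype.ext h))
    (by rw [orderOf_one]; exact hM.1.not_dvd_one : ¬ p ∣ orderOf (1 : G))
  rw [Finset.sum_filter] at h2
  refine Eq.trans (Finset.sum_congr rfl (fun χ _ => ?_)) h2
  split_ifs
  · rfl
  · rw [zero_mul]

end PF

end Cfsg.Agent.Lib.BlkH6O
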