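import Cfsg.Agent.Lib.BlockRey
import Cfsg.Agent.Lib.BlockKB
import Cfsg.Agent.Lib.BlockLar
import Cfsg.Agent.Lib.BlockMaxB
import Cfsg.Agent.Lib.BlockIndIn
import Cfsg.Agent.Lib.BlockBFM

import Cfsg.Agent.Lib.BlkH6L
import Cfsg.Agent.Lib.BlkH6M
import Cfsg.Agent.Lib.BlkH6N
import Cfsg.Agent.Lib.BlkH6O
import Cfsg.Agent.Lib.BlkH6D
import Cfsg.Agent.Lib.BlkH5D
import Cfsg.Agent.Lib.BlkH5E
import Cfsg.Agent.Lib.BlkH5F
import Cfsg.Agent.Lib.CharFS

/-!
Index three: swap and the involution analysis.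
-/

set_option autoImplicit false
set_option linter.style.haveILetI false
set_option linter.unusedVariables false
set_option linter.unusedSectionVars false
set_option linter.unusedDecidableInType false
set_option linter.unusedFintypeInType false
set_option linter.unusedSimpArgs false

namespace Cfsg.Agent.Lib.BlkH6P
open Cfsg Cfsg.Agent.Lib.BlockLoc Cfsg.Agent.Lib.BlockGA Cfsg.Agent.Lib.CharBasic
open Cfsg.Agent.Lib.BlockIdem Cfsg.Agent.Lib.BlockPP Cfsg.Agent.Lib.BlockOrth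
open Cfsg.Agent.Lib.BlockRed Cfsg.Agent.Lib.BlockDef Cfsg.Agent.Lib.BlockDeg
open Cfsg.Agent.Lib.BlockNP Cfsg.Agent.Lib.BlockInd Cfsg.Agent.Lib.BlockSecond
open Cfsg.Agent.Lib.BlockFirst Cfsg.Agent.Lib.BlockHt Cfsg.Agent.Lib.BlockM
open Cfsg.Agent.Lib.BlockCov Cfsg.Agent.Lib.BlockQuot Cfsg.Agent.Lib.CharKer
open Cfsg.Agent.Lib.BlockQuotB Cfsg.Agent.Lib.BlockMore Cfsg.Agent.Lib.BlockMoreB
open Cfsg.Agent.Lib.BlockTr Cfsg.Agent.Lib.CharNormal Cfsg.Agent.Lib.BlockCovB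
open Cfsg.Agent.Lib.BlockBP Cfsg.Agent.Lib.BlockInt Cfsg.Agent.Lib.BlockSum Cfsg.Agent.Lib.BlockRk
open Cfsg.Agent.Lib.BlockFusB Cfsg.Agent.Lib.BlockMax Cfsg.Agent.Lib.CharSplit Cfsg.Agent.Lib.CharBrauer
open Cfsg.Agent.Lib.CharInd Cfsg.Agent.Lib.BlockPC Cfsg.Agent.Lib.BlockPair Cfsg.Agent.Lib.BlockPairB
open Cfsg.Agent.Lib.BlockPairC Cfsg.Agent.Lib.BlockPairD Cfsg.Agent.Lib.BlockPairE
open Cfsg.Agent.Lib.BlockRey Cfsg.Agent.Lib.BlockPairF Cfsg.Agent.Lib.BlockFus Cfsg.Agent.Lib.BlockNilB Cfsg.Agent.Lib.BlockNil Cfsg.Agent.Lib.CharClifford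
open Cfsg.Agent.Lib.BlockKB Cfsg.Agent.Lib.BlockLar Cfsg.Agent.Lib.BlockMaxB Cfsg.Agent.Lib.BlockIndIn Cfsg.Agent.Lib.BlockBFM
open Cfsg.Agent.Lib.BlkH6L Cfsg.Agent.Lib.BlkH6M Cfsg.Agent.Lib.BlkH6N Cfsg.Agent.Lib.BlkH6O Cfsg.Agent.Lib.BlkH6D Cfsg.Agent.Lib.BlkH5D Cfsg.Agent.Lib.BlkH5E Cfsg.Agent.Lib.BlkH5F Cfsg.Agent.Lib.CharFS
open scoped ComplexConjugate


section Swap

variable {P : Type*} [CommGroup P] [Fintype P] {H : Subgroup (MulAut P)}
  {B : Type*} [Fintype B] {mult : B → (P →* ℂˣ) → ℤ} {D : B → P → ℂ}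
  {a : B → ℤ} {d δ : ℤ} {ζ : (P →* ℂˣ) → B}

theorem out_swap (h : BlkH6M.Out H mult a d δ ζ) (hdδ : d = δ)
    (hY : Nat.card {χ : B | ∃ ψ : P →* ℂˣ, ψ ≠ 1 ∧ ζ ψ = χ} = 2) :
    ∃ (a' : B → ℤ) (ζ' : (P →* ℂˣ) → B), BlkH6M.Out H mult a' 0 (-δ) ζ' := by
  classical
  subst hdδ
  obtain ⟨ψ₁, ψ₂, h1, h2, h3⟩ := h.two
  have hne : ζ ψ₁ ≠ ζ ψ₂ := fun h' => h3 ((h.inj _ _ h1 h2).1 h')
  have hcov : ∀ ψ : P →* ℂˣ, ψ ≠ 1 → ζ ψ = ζ ψ₁ ∨ ζ ψ = ζ ψ₂ := by
    intro ψ hψ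
    by_contra hn
    push Not at hn
    have h4 : ({ζ ψ, ζ ψ₁, ζ ψ₂} : Set B) ⊆ {χ : B | ∃ ψ : P →* ℂˣ, ψ ≠ 1 ∧ ζ ψ = χ} := by
      rintro χ (rfl | rfl | rfl)
      · exact ⟨ψ, hψ, rfl⟩
      · exact ⟨ψ₁, h1, rfl⟩
      · exact ⟨ψ₂, h2, rfl⟩
    have h5 := Set.ncard_le_ncard h4 (Set.toFinite _)
    have h6 : Set.ncard ({ζ ψ, ζ ψ₁, ζ ψ₂} : Set B) = 3 :=
      Set.ncard_eq_three.2 ⟨_, _, _, hn.1, hn.2, hne, rfl⟩
    rw [h6] at h5
    have h7 : Set.ncard {χ : B | ∃ ψ : P →* ℂˣ, ψ ≠ 1 ∧ ζ ψ = χ} = 2 := hY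
    omega
  have ha1 := h.a_eq ψ₁ h1
  have ha2 := h.a_eq ψ₂ h2
  have hδ := h.sq
  refine ⟨fun χ => if χ = ζ ψ₁ ∨ χ = ζ ψ₂ then 0 else a χ,
    fun ψ => if ζ ψ = ζ ψ₁ then ζ ψ₂ else ζ ψ₁, ?_, ?_, ?_, ?_, ?_, ?_⟩
  · rcases h.sign with h' | h' <;> rw [h'] <;> simp
  · intro ψ ψ' hψ hψ'
    rw [← h.inj ψ ψ' hψ hψ']
    rcases hcov ψ hψ with e | e <;> rcases hcov ψ' hψ' with e' | e' <;>
      simp [e, e', hne, hne.symm]
  · intro ψ hψ
    rcases hcov ψ hψ with e | e <;> simp [e, hne, hne.symm]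
  · intro _ χ ψ hψ
    rw [h.m_eq χ ψ hψ]
    by_cases e1 : χ = ζ ψ₁
    · subst e1
      rcases hcov ψ hψ with e | e
      · simp [e, hne, ha1]
      · simp [e, hne, hne.symm, ha1]
    · by_cases e2 : χ = ζ ψ₂
      · subst e2
        rcases hcov ψ hψ with e | e
        · simp [e, hne.symm, ha2]
        · simp [e, hne, hne.symm, ha2]
      · rcases hcov ψ hψ with e | e
        · simp [e, e1, e2]
        · simp [e, e1, e2, hne.symm]
  · have h4 : ∀ χ, (if χ = ζ ψ₁ ∨ χ = ζ ψ₂ then (0 : ℤ) else a χ) ^ 2 = a χ ^ 2 -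
        ((if χ = ζ ψ₁ then d ^ 2 else 0) + (if χ = ζ ψ₂ then d ^ 2 else 0)) := by
      intro χ
      by_cases e1 : χ = ζ ψ₁
      · subst e1; simp [hne, ha1]
      · by_cases e2 : χ = ζ ψ₂
        · subst e2; simp [hne.symm, ha2]
        · simp [e1, e2]
    rw [Finset.sum_congr rfl (fun χ _ => h4 χ), Finset.sum_sub_distrib, Finset.sum_add_distrib,
      Finset.sum_ite_eq', Finset.sum_ite_eq', if_pos (Finset.mem_univ _), if_pos (Finset.mem_univ _)]
    have h5 := h.norm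
    linear_combination h5
  · exact ⟨ψ₁, ψ₂, h1, h2, h3⟩

theorem rel_sum [Fintype H] (hfree : ∀ h ∈ H, h ≠ 1 → ∀ u : P, h u = u → u = 1) {ψ : P →* ℂˣ}
    (hψ : ψ ≠ 1) (f : (P →* ℂˣ) → ℂ) :
    ∑ᶠ ψ' ∈ {ψ' : P →* ℂˣ | Rel H ψ ψ'}, f ψ' = ∑ h : H, f (ψ.comp (h : MulAut P).toMonoidHom) := by
  classical
  have h1 : {ψ' : P →* ℂˣ | Rel H ψ ψ'} =
      (fun h : H => ψ.comp (h : MulAut P).toMonoidHom) '' Set.univ := by
    ext ψ'
    simp only [Set.mem_ofPred_eq, Set.image_univ, Set.mem_range]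
    constructor
    · intro h
      obtain ⟨g, hg, hg'⟩ := h.symm
      exact ⟨⟨g, hg⟩, hg'⟩
    · rintro ⟨g, rfl⟩
      exact Rel.symm ⟨g, g.2, rfl⟩
  rw [h1, finsum_mem_image, finsum_mem_univ, finsum_eq_sum_of_fintype]
  intro h _ h' _ he
  exact Subtype.ext (comp_inj hfree hψ h.2 h'.2 he)

end Swap

section SZero

variable {G : Type*} [Group G] [Finite G] {p : ℕ} {M : Ideal AlgInt}

theorem S_zero (hM : IsPModular p M) {t u : G} (ht : t * t = 1) (hu : ∃ k, orderOf u = p ^ k)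
    (hr1 : blockRank p (principalBlock M (Subgroup.centralizer ({u} : Set G))) = 1)
    (hno : ∀ c : G, Commute u c → ¬ p ∣ orderOf c → ∀ x y : G, IsConj t x → IsConj t y →
      x * y ≠ u * c) [DecidablePred (· ∈ principalBlock M G)] :
    ∑ χ ∈ Finset.univ.filter (· ∈ principalBlock M G), χ.1 u * (χ.1 t ^ 2 / χ.1 1) = 0 := by
  classical
  cases nonempty_fintype G
  haveI : Fintype (Subgroup.centralizer ({u} : Set G)) := Fintype.ofFinite _
  set N : G → ℂ := fun g =>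
    (Nat.card {p : G × G // IsConj t p.1 ∧ IsConj t p.2 ∧ p.1 * p.2 = g} : ℂ) with hN
  set K : ℂ := (Nat.card {x : G // IsConj t x} : ℂ) with hK
  have hJr : ∀ χ : IrrCharacter G, conj (χ.1 t) = χ.1 t := by
    intro χ
    rw [conj_irr, inv_eq_of_mul_eq_one_left ht]
  have hNex : N = ∑ χ : IrrCharacter G, (K * K / (Nat.card G : ℂ) * (χ.1 t ^ 2 / χ.1 1)) • χ.1 := by
    ext g
    have h1 : N g = conj (N g) := (Complex.conj_natCast _).symm
    rw [h1, hN]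
    dsimp only
    rw [CharFS.card_class_mul, Finset.sum_apply, map_mul, map_sum, Finset.mul_sum]
    refine Finset.sum_congr rfl (fun χ _ => ?_)
    rw [map_div₀, map_div₀, map_mul, map_mul, map_mul, Complex.conj_conj, hJr, Complex.conj_natCast,
      Complex.conj_natCast, Pi.smul_apply, smul_eq_mul]
    have h2 : conj (χ.1 1) = χ.1 1 := by rw [conj_irr, inv_one]
    rw [h2]
    ring
  have hNcl : IsClassFunction G N := by
    rw [hNex]
    intro g x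
    rw [Finset.sum_apply, Finset.sum_apply]
    refine Finset.sum_congr rfl (fun χ _ => ?_)
    rw [Pi.smul_apply, Pi.smul_apply, isChar_classFn (isChar_of_irr χ.2) g x]
  have hkey := BlkH5F.key_formula hM (x := u) hu hr1 hNcl
  rw [blockPart_eq] at hkey
  have e1 : ∀ χ : IrrCharacter G, classInner N χ.1 = K * K / (Nat.card G : ℂ) * (χ.1 t ^ 2 / χ.1 1) := by
    intro χ
    rw [hNex, inner_sum_irr]
  simp_rw [e1] at hkey
  have hz : ∑ c ∈ Finset.univ.filter (fun c : Subgroup.centralizer ({u} : Set G) =>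
      ¬ p ∣ orderOf c), N (u * (c : G)) = 0 := by
    refine Finset.sum_eq_zero (fun c hc => ?_)
    have hc2 := (Finset.mem_filter.1 hc).2
    have hcomm : Commute u (c : G) := (Subgroup.mem_centralizer_singleton_iff.1 c.2).symm
    rw [hN]
    dsimp only
    rw [Nat.cast_eq_zero, Nat.card_eq_zero]
    left
    constructor
    rintro ⟨⟨x, y⟩, hx, hy, hxy⟩
    exact hno c hcomm (by rwa [Subgroup.orderOf_coe]) x y hx hy hxy
  rw [hz, mul_zero, mul_zero] at hkey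
  have hKne : K ≠ 0 := by
    rw [hK, Nat.cast_ne_zero]
    haveI : Nonempty {x : G // IsConj t x} := ⟨⟨t, IsConj.refl t⟩⟩
    exact Nat.card_pos.ne'
  have hGne : (Nat.card G : ℂ) ≠ 0 := card_ne_zero'
  have hc : K * K / (Nat.card G : ℂ) ≠ 0 := div_ne_zero (mul_ne_zero hKne hKne) hGne
  apply mul_left_cancel₀ hc
  rw [mul_zero, ← hkey, Finset.mul_sum]
  refine Finset.sum_congr rfl (fun χ _ => ?_)
  ring

theorem inv_int {t : G} (ht : t * t = 1) (χ : IrrCharacter G) :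
    ∃ n : ℤ, χ.1 t = n ∧ n ≤ (charDegree χ.1 : ℤ) := by
  obtain ⟨s, hs1, hs2, hs3⟩ := exists_eigenvalues (isChar_of_irr χ.2) t
  have h1 : ∀ z ∈ s, (z : ℂ) = 1 ∨ (z : ℂ) = -1 := by
    intro z hz
    have h2 := hs1 z hz
    have h3 : orderOf t ∣ 2 := orderOf_dvd_of_pow_eq_one (by rw [sq]; exact ht)
    obtain ⟨k, hk⟩ := h3
    have h4 : z ^ 2 = 1 := by rw [hk, pow_mul, h2, one_pow]
    have h5 : (z : ℂ) * (z : ℂ) = 1 := by
      rw [← sq, ← Units.val_pow_eq_pow_val, h4, Units.val_one]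
    exact mul_self_eq_one_iff.1 h5
  have h6 : ∀ s : Multiset ℂˣ, (∀ z ∈ s, (z : ℂ) = 1 ∨ (z : ℂ) = -1) →
      ∃ n : ℤ, (s.map (fun z : ℂˣ => (z : ℂ))).sum = n ∧ n ≤ (Multiset.card s : ℤ) := by
    intro s
    induction s using Multiset.induction_on with
    | empty => intro _; exact ⟨0, by simp⟩
    | cons z s ih =>
      intro hz
      obtain ⟨n, hn1, hn2⟩ := ih (fun w hw => hz w (Multiset.mem_cons_of_mem hw))
      rcases hz z (Multiset.mem_cons_self z s) with h | h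
      · refine ⟨n + 1, ?_, ?_⟩
        · rw [Multiset.map_cons, Multiset.sum_cons, hn1, h]; push_cast; ring
        · rw [Multiset.card_cons]; push_cast; omega
      · refine ⟨n - 1, ?_, ?_⟩
        · rw [Multiset.map_cons, Multiset.sum_cons, hn1, h]; push_cast; ring
        · rw [Multiset.card_cons]; push_cast; omega
  obtain ⟨n, hn1, hn2⟩ := h6 s h1
  refine ⟨n, ?_, ?_⟩
  · have := hs2 1
    simp only [zpow_one] at this
    rw [this, hn1]
  · have h7 : charDegree χ.1 = Multiset.card s := charDegree_eq hs3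
    rw [h7]
    exact hn2

theorem inv_lt {t : G} (ht : t * t = 1) (hgen : ∀ K : Subgroup G, K.Normal → t ∈ K → K = ⊤)
    {χ : IrrCharacter G} (hχ : χ.1 ≠ fun _ => 1) {n : ℤ} (hn : χ.1 t = n) :
    n < (charDegree χ.1 : ℤ) := by
  cases nonempty_fintype G
  obtain ⟨k, hk1, hk2⟩ := inv_int ht χ
  have h1 : k = n := by exact_mod_cast hk1.symm.trans hn
  subst h1
  refine lt_of_le_of_ne hk2 (fun h => hχ ?_)
  have h2 : t ∈ kerChar χ.1 (isChar_of_irr χ.2) := by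
    rw [mem_kerChar, hk1, h, irr_one_eq]
    push_cast
    rfl
  have h3 := hgen _ (kerChar_normal (isChar_of_irr χ.2)) h2
  have h4 : ∀ g, χ.1 g = χ.1 1 := fun g => (mem_kerChar (isChar_of_irr χ.2)).1 (by rw [h3]; trivial)
  -- the principal character is a constituent
  have h5 : χ = triv G := by
    by_contra hne
    have h6 : classInner χ.1 (triv G).1 = 0 := irr_inner_ne χ.2 (triv G).2 (fun h => hne (Subtype.ext h))
    have h7 : χ.1 = (χ.1 1) • (triv G).1 := by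
      funext g
      rw [h4 g, Pi.smul_apply, smul_eq_mul]
      change _ = _ * (1 : ℂ)
      rw [mul_one]
    rw [h7, classInner_smul_left, irr_inner_self (triv G).2, mul_one] at h6
    exact isIrr_one_ne_zero χ.2 h6
  rw [h5]
  rfl

end SZero

section Alg

/-- The quadratic analysis. -/
theorem three_weights {x y z u v w : ℤ} {α β γ : ℤ} (hx : 0 < x) (hy : 0 < y) (hz : 0 < z)
    (hα : α = 1 ∨ α = -1) (hβ : β = 1 ∨ β = -1) (hγ : γ = 1 ∨ γ = -1)
    (hu : u < x) (hv : v < y) (hw : w < z)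
    (h1 : 1 + α * x + β * y + γ * z = 0)
    (h2 : 1 + α * u + β * v + γ * w = 0)
    (h3 : (1 : ℚ) + α * ((u : ℚ) ^ 2 / x) + β * ((v : ℚ) ^ 2 / y) + γ * ((w : ℚ) ^ 2 / z) = 0) :
    α * β * γ = 1 ∧ (α = -1 ∨ β = -1 ∨ γ = -1) ∧ IsSquare (z * (x * y)) := by
  have hx' : (x : ℚ) ≠ 0 := by exact_mod_cast hx.ne'
  have hy' : (y : ℚ) ≠ 0 := by exact_mod_cast hy.ne'
  have hz' : (z : ℚ) ≠ 0 := by exact_mod_cast hz.ne'
  have hxp : (0 : ℚ) < x := by exact_mod_cast hx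
  have hyp : (0 : ℚ) < y := by exact_mod_cast hy
  have hzp : (0 : ℚ) < z := by exact_mod_cast hz
  have h1' : (1 : ℚ) + α * x + β * y + γ * z = 0 := by exact_mod_cast h1
  have h2' : (1 : ℚ) + α * u + β * v + γ * w = 0 := by exact_mod_cast h2
  obtain ⟨r, hr⟩ : ∃ r : ℚ, r = 1 - u / x := ⟨_, rfl⟩
  obtain ⟨s, hs⟩ : ∃ s : ℚ, s = 1 - v / y := ⟨_, rfl⟩
  obtain ⟨t, ht⟩ : ∃ t : ℚ, t = 1 - w / z := ⟨_, rfl⟩
  have hr0 : 0 < r := by
    rw [hr, sub_pos, div_lt_one hxp]; exact_mod_cast hu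
  have hs0 : 0 < s := by
    rw [hs, sub_pos, div_lt_one hyp]; exact_mod_cast hv
  have ht0 : 0 < t := by
    rw [ht, sub_pos, div_lt_one hzp]; exact_mod_cast hw
  have hu' : (u : ℚ) = x * (1 - r) := by rw [hr]; field_simp; ring
  have hv' : (v : ℚ) = y * (1 - s) := by rw [hs]; field_simp; ring
  have hw' : (w : ℚ) = z * (1 - t) := by rw [ht]; field_simp; ring
  set A : ℚ := α * x with hA
  set B : ℚ := β * y with hB
  set C : ℚ := γ * z with hC
  have e0 : A + B + C = -1 := by rw [hA, hB, hC]; linarith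
  have e1 : A * r + B * s + C * t = 0 := by
    rw [hu', hv', hw'] at h2'
    rw [hA, hB, hC]
    linarith
  have e2 : A * r ^ 2 + B * s ^ 2 + C * t ^ 2 = 0 := by
    rw [hu', hv', hw'] at h3
    have f1 : (↑x * (1 - r)) ^ 2 / (x : ℚ) = x * (1 - r) ^ 2 := by field_simp
    have f2 : (↑y * (1 - s)) ^ 2 / (y : ℚ) = y * (1 - s) ^ 2 := by field_simp
    have f3 : (↑z * (1 - t)) ^ 2 / (z : ℚ) = z * (1 - t) ^ 2 := by field_simp
    rw [f1, f2, f3] at h3
    have e1' : α * x * r + β * y * s + γ * z * t = 0 := e1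
    rw [hA, hB, hC]
    linear_combination h3 - h1' + 2 * e1'
  have k1 : A * ((r - s) * (r - t)) = -(s * t) := by
    linear_combination e2 - (s + t) * e1 + s * t * e0
  have k2 : B * ((s - r) * (s - t)) = -(r * t) := by
    linear_combination e2 - (r + t) * e1 + r * t * e0
  have k3 : C * ((t - r) * (t - s)) = -(r * s) := by
    linear_combination e2 - (r + s) * e1 + r * s * e0
  have k4 : A * B * C * ((r - s) * (r - t) * (s - t)) ^ 2 = (r * s * t) ^ 2 := by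
    have : (A * ((r - s) * (r - t))) * (B * ((s - r) * (s - t))) * (C * ((t - r) * (t - s))) =
      (-(s * t)) * (-(r * t)) * (-(r * s)) := by rw [k1, k2, k3]
    linear_combination -this
  have hpos : 0 < r * s * t := by positivity
  have hΔ : (r - s) * (r - t) * (s - t) ≠ 0 := by
    intro h0
    rw [h0] at k4
    have : (r * s * t) ^ 2 = 0 := by rw [← k4]; ring
    exact (pow_ne_zero 2 hpos.ne') this
  have hABC : A * B * C = (r * s * t / ((r - s) * (r - t) * (s - t))) ^ 2 := by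
    rw [div_pow, eq_div_iff (pow_ne_zero 2 hΔ), k4]
  have hABCpos : 0 < A * B * C := by
    rw [hABC]
    have : r * s * t / ((r - s) * (r - t) * (s - t)) ≠ 0 := div_ne_zero hpos.ne' hΔ
    positivity
  have hprod : A * B * C = ((α * β * γ : ℤ) : ℚ) * (x * y * z) := by
    rw [hA, hB, hC]; push_cast; ring
  have hxyz : (0 : ℚ) < x * y * z := by positivity
  have hsgn : α * β * γ = 1 := by
    rcases hα with rfl | rfl <;> rcases hβ with rfl | rfl <;> rcases hγ with rfl | rfl <;>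
      first
      | rfl
      | (exfalso; rw [hprod] at hABCpos; norm_num at hABCpos; linarith)
  refine ⟨hsgn, ?_, ?_⟩
  · by_contra hn
    push Not at hn
    have hα1 : α = 1 := hα.resolve_right hn.1
    have hβ1 : β = 1 := hβ.resolve_right hn.2.1
    have hγ1 : γ = 1 := hγ.resolve_right hn.2.2
    rw [hα1, hβ1, hγ1] at h1
    omega
  · have h5 : IsSquare ((z * (x * y) : ℤ) : ℚ) := by
      refine ⟨r * s * t / ((r - s) * (r - t) * (s - t)), ?_⟩
      rw [← sq, ← hABC, hprod, hsgn]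
      push_cast
      ring
    exact Rat.isSquare_intCast_iff.1 h5

end Alg

end Cfsg.Agent.Lib.BlkH6P
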