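import Cfsg.Agent.Lib.BlockRey
import Cfsg.Agent.Lib.BlockKB
import Cfsg.Agent.Lib.BlockLar
import Cfsg.Agent.Lib.BlockMaxB
import Cfsg.Agent.Lib.BlockIndIn
import Cfsg.Agent.Lib.BlockBFM

import Cfsg.Agent.Lib.BlkH6J

/-!
Modules over the group algebra: fixed points and norms.
-/

set_option autoImplicit false
set_option linter.style.haveILetI false
set_option linter.unusedVariables false
set_option linter.unusedSectionVars false
set_option linter.unusedDecidableInType false
set_option linter.unusedFintypeInType false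
set_option linter.unusedSimpArgs false

namespace Cfsg.Agent.Lib.BlkH7A
open Cfsg Cfsg.Agent.Lib.BlockLoc Cfsg.Agent.Lib.BlockGA Cfsg.Agent.Lib.CharBasic
open Cfsg.Agent.Lib.BlockIdem Cfsg.Agent.Lib.BlockPP Cfsg.Agent.Lib.BlockOrth
open Cfsg.Agent.Lib.BlockRed Cfsg.Agent.Lib.BlockDef Cfsg.Agent.Lib.BlockDeg
open Cfsg.Agent.Lib.BlockNP Cfsg.Agent.Lib.BlockInd Cfsg.Agent.Lib.BlockSecond
open Cfsg.Agent.Lib.BlockFirst Cfsg.Agent.Lib.BlockHt Cfsg.Agent.Lib.BlockM
open Cfsg.Agent.Lib.BlockCov Cfsg.Agent.Lib.BlockQuot Cfsg.Agent.Lib.CharKer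
open Cfsg.Agent.Lib.BlockQuotB Cfsg.Agent.Lib.BlockMore Cfsg.Agent.Lib.BlockMoreB
open Cfsg.Agent.Lib.BlockTr Cfsg.Agent.Lib.CharNormal Cfsg.Agent.Lib.BlockCovB
open Cfsg.Agent.Lib.BlockBP Cfsg.Agent.Lib.BlockInt Cfsg.Agent.Lib.BlockSum Cfsg.Agent.Lib.BlockRk
open Cfsg.Agent.Lib.BlockFusB Cfsg.Agent.Lib.BlockMax Cfsg.Agent.Lib.CharSplit Cfsg.Agent.Lib.CharBrauer
open Cfsg.Agent.Lib.CharInd Cfsg.Agent.Lib.BlockPC Cfsg.Agent.Lib.BlockPair Cfsg.Agent.Lib.BlockPairB
open Cfsg.Agent.Lib.BlockPairC Cfsg.Agent.Lib.BlockPairD Cfsg.Agent.Lib.BlockPairE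
open Cfsg.Agent.Lib.BlockRey Cfsg.Agent.Lib.BlockPairF Cfsg.Agent.Lib.BlockFus Cfsg.Agent.Lib.BlockNilB Cfsg.Agent.Lib.BlockNil Cfsg.Agent.Lib.CharClifford
open Cfsg.Agent.Lib.BlockKB Cfsg.Agent.Lib.BlockLar Cfsg.Agent.Lib.BlockMaxB Cfsg.Agent.Lib.BlockIndIn Cfsg.Agent.Lib.BlockBFM
open Cfsg.Agent.Lib.BlkH6J
open scoped ComplexConjugate


section Orb

theorem sum_free_mem {P X V : Type*} [Group P] [Fintype P] [AddCommGroup V] (T : AddSubgroup V)
    [MulAction P X] [DecidableEq X] (Ψ : X → V) (n : ℕ) :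
    ∀ (S : Finset X), S.card = n → (∀ u : P, ∀ q ∈ S, u • q ∈ S) →
    (∀ q ∈ S, ∀ u : P, u • q = q → u = 1) →
    (∀ q ∈ S, ∑ u : P, Ψ (u • q) ∈ T) → ∑ q ∈ S, Ψ q ∈ T := by
  induction n using Nat.strong_induction_on with
  | _ n ih =>
    intro S hn hS hfree hΨ
    by_cases hne : S.Nonempty
    · obtain ⟨q₀, hq₀⟩ := hne
      have hO : Finset.univ.image (fun u : P => u • q₀) ⊆ S := by
        intro q hq
        obtain ⟨u, -, rfl⟩ := Finset.mem_image.1 hq
        exact hS u q₀ hq₀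
      rw [← Finset.sum_sdiff hO]
      refine T.add_mem ?_ ?_
      · refine ih _ ?_ (S \ Finset.univ.image (fun u : P => u • q₀)) rfl ?_ ?_ ?_
        · rw [← hn]
          refine Finset.card_lt_card (Finset.ssubset_iff_subset_ne.2 ⟨Finset.sdiff_subset, ?_⟩)
          intro h
          have h1 : q₀ ∈ S \ Finset.univ.image (fun u : P => u • q₀) := by rw [h]; exact hq₀
          exact (Finset.mem_sdiff.1 h1).2 (Finset.mem_image.2 ⟨1, Finset.mem_univ _, one_smul _ _⟩)
        · intro u q hq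
          obtain ⟨h1, h2⟩ := Finset.mem_sdiff.1 hq
          refine Finset.mem_sdiff.2 ⟨hS u q h1, fun h3 => h2 ?_⟩
          obtain ⟨v, -, hv⟩ := Finset.mem_image.1 h3
          refine Finset.mem_image.2 ⟨u⁻¹ * v, Finset.mem_univ _, ?_⟩
          rw [mul_smul, hv, inv_smul_smul]
        · exact fun q hq => hfree q (Finset.mem_sdiff.1 hq).1
        · exact fun q hq => hΨ q (Finset.mem_sdiff.1 hq).1
      · rw [Finset.sum_image]
        · exact hΨ q₀ hq₀
        · intro u _ v _ huv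
          have : v⁻¹ * u = 1 := hfree q₀ hq₀ _ (by
            rw [mul_smul]
            change v⁻¹ • (u • q₀) = q₀
            rw [show u • q₀ = v • q₀ from huv, inv_smul_smul])
          exact (inv_mul_eq_one.1 this).symm
    · rw [Finset.not_nonempty_iff_eq_empty.1 hne, Finset.sum_empty]
      exact T.zero_mem

end Orb

section Basic

variable (k : Type*) [Field k] {G : Type*} [Group G] [Finite G]
  {V : Type*} [AddCommGroup V] [Module k V] [Module (GA k G) V] [IsScalarTower k (GA k G) V]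

/-- The action of a group element. -/
noncomputable def gl (g : G) : V →ₗ[k] V where
  toFun v := (sg g : GA k G) • v
  map_add' := smul_add _
  map_smul' c v := smul_algebra_smul_comm c _ v

theorem gl_apply (g : G) (v : V) : gl k g v = (sg g : GA k G) • v := rfl

theorem gl_one (v : V) : gl k (1 : G) v = v := by
  rw [gl_apply, sg_one, one_smul]

theorem gl_mul (g h : G) (v : V) : gl k (g * h) v = gl k g (gl k h v) := by
  rw [gl_apply, gl_apply, gl_apply, ← mul_smul, sg_mul_sg]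

theorem gl_inv_self (g : G) (v : V) : gl k g⁻¹ (gl k g v) = v := by
  rw [← gl_mul, inv_mul_cancel, gl_one]

theorem gl_self_inv (g : G) (v : V) : gl k g (gl k g⁻¹ v) = v := by
  rw [← gl_mul, mul_inv_cancel, gl_one]

theorem smul_eq_sum [Fintype G] (a : GA k G) (v : V) : a • v = ∑ g, a g • gl k g v := by
  conv_lhs => rw [eq_sum_sg a, Finset.sum_smul]
  refine Finset.sum_congr rfl (fun g _ => ?_)
  rw [smul_assoc]
  rfl

variable {k}

/-- A `k`-linear map commuting with the group is linear over the group algebra. -/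
noncomputable def toA {W : Type*} [AddCommGroup W] [Module k W] [Module (GA k G) W]
    [IsScalarTower k (GA k G) W] (f : V →ₗ[k] W) (hf : ∀ (g : G) (v : V), f (gl k g v) = gl k g (f v)) :
    V →ₗ[GA k G] W where
  toFun := f
  map_add' := f.map_add
  map_smul' a v := by
    cases nonempty_fintype G
    rw [smul_eq_sum k, smul_eq_sum k, map_sum]
    refine Finset.sum_congr rfl (fun g _ => ?_)
    rw [map_smul, hf]
    rfl

theorem A_gl {W : Type*} [AddCommGroup W] [Module k W] [Module (GA k G) W]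
    [IsScalarTower k (GA k G) W] (f : V →ₗ[GA k G] W) (g : G) (v : V) :
    f (gl k g v) = gl k g (f v) := by
  rw [gl_apply, gl_apply, map_smul]

variable (k)

/-- Fixed points of a subgroup. -/
noncomputable def fx (V : Type*) [AddCommGroup V] [Module k V] [Module (GA k G) V]
    [IsScalarTower k (GA k G) V] (P : Subgroup G) : Submodule k V where
  carrier := {v | ∀ x ∈ P, gl k x v = v}
  add_mem' := fun {a b} ha hb x hx => by rw [map_add, ha x hx, hb x hx]
  zero_mem' := fun x _ => map_zero _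
  smul_mem' := fun c v hv x hx => by rw [map_smul, hv x hx]

theorem mem_fx {P : Subgroup G} {v : V} : v ∈ fx k V P ↔ ∀ x ∈ P, gl k x v = v := Iff.rfl

/-- The norm map of a subgroup. -/
noncomputable def nm (P : Subgroup G) [Fintype P] : V →ₗ[k] V := ∑ x : P, gl k (x : G)

theorem nm_apply (P : Subgroup G) [Fintype P] (v : V) : nm k P v = ∑ x : P, gl k (x : G) v := by
  rw [nm, LinearMap.sum_apply]

theorem nm_mem (P : Subgroup G) [Fintype P] (v : V) : nm k P v ∈ fx k V P := by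
  intro x hx
  rw [nm_apply, map_sum]
  refine Fintype.sum_equiv (Equiv.mulLeft ⟨x, hx⟩) _ _ (fun y => ?_)
  rw [← gl_mul]
  rfl

/-- The image of the norm map. -/
noncomputable def tm (V : Type*) [AddCommGroup V] [Module k V] [Module (GA k G) V]
    [IsScalarTower k (GA k G) V] (P : Subgroup G) [Fintype P] : Submodule k V :=
  LinearMap.range (nm k P : V →ₗ[k] V)

theorem tm_le_fx (P : Subgroup G) [Fintype P] : tm k V P ≤ fx k V P := by
  rintro _ ⟨v, rfl⟩
  exact nm_mem k P v

theorem gl_fx {P : Subgroup G} {n : G} (hn : n ∈ Subgroup.normalizer (P : Set G)) {v : V}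
    (hv : v ∈ fx k V P) : gl k n v ∈ fx k V P := by
  intro x hx
  have h1 : n⁻¹ * x * n ∈ P := by
    have := (norm_iff.1 (Subgroup.inv_mem _ hn) x).1 hx
    rwa [inv_inv] at this
  have h2 := hv _ h1
  calc gl k x (gl k n v) = gl k n (gl k (n⁻¹ * x * n) v) := by
        rw [← gl_mul, ← gl_mul]
        congr 1
        congr 1
        group
    _ = gl k n v := by rw [h2]

theorem gl_nm {P : Subgroup G} [Fintype P] {n : G} (hn : n ∈ Subgroup.normalizer (P : Set G))
    (v : V) : gl k n (nm k P v) = nm k P (gl k n v) := by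
  rw [nm_apply, nm_apply, map_sum]
  have hmem : ∀ x : P, n * x * n⁻¹ ∈ P := fun x => (norm_iff.1 hn x).1 x.2
  have hmem' : ∀ x : P, n⁻¹ * x * n ∈ P := fun x => by
    have := (norm_iff.1 (Subgroup.inv_mem _ hn) x).1 x.2
    rwa [inv_inv] at this
  refine Fintype.sum_equiv ⟨fun x => ⟨n * x * n⁻¹, hmem x⟩, fun x => ⟨n⁻¹ * x * n, hmem' x⟩,
    fun x => Subtype.ext (by simp [mul_assoc]), fun x => Subtype.ext (by simp [mul_assoc])⟩ _ _
    (fun x => ?_)
  change gl k n (gl k (x : G) v) = gl k (n * x * n⁻¹) (gl k n v)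
  rw [← gl_mul, ← gl_mul]
  congr 1
  congr 1
  group

theorem gl_tm {P : Subgroup G} [Fintype P] {n : G} (hn : n ∈ Subgroup.normalizer (P : Set G))
    {v : V} (hv : v ∈ tm k V P) : gl k n v ∈ tm k V P := by
  obtain ⟨w, rfl⟩ := hv
  rw [gl_nm k hn]
  exact ⟨_, rfl⟩

end Basic

end Cfsg.Agent.Lib.BlkH7A
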