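import Cfsg.Agent.Lib.BlockRey
import Cfsg.Agent.Lib.BlockKB
import Cfsg.Agent.Lib.BlockLar
import Cfsg.Agent.Lib.BlockMaxB
import Cfsg.Agent.Lib.BlockIndIn
import Cfsg.Agent.Lib.BlockBFM

import Cfsg.Agent.Lib.BlkH7A

/-!
Modules over the group algebra: cyclic Sylow subgroup of order p.
-/

set_option autoImplicit false
set_option linter.style.haveILetI false
set_option linter.unusedVariables false
set_option linter.unusedSectionVars false
set_option linter.unusedDecidableInType false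
set_option linter.unusedFintypeInType false
set_option linter.unusedSimpArgs false

namespace Cfsg.Agent.Lib.BlkH7B
open Cfsg Cfsg.Agent.Lib.BlockLoc Cfsg.Agent.Lib.BlockGA Cfsg.Agent.Lib.CharBasic
open Cfsg.Agent.Lib.BlockIdem Cfsg.Agent.Lib.BlockPP Cfsg.Agent.Lib.BlockOrth
open Cfsg.Agent.Lib.BlockRed Cfsg.Agent.Lib.BlockDef Cfsg.Agent.Lib.BlockDeg
open Cfsg.Agent.Lib.BlockNP Cfsg.Agent.Lib.BlockInd Cfsg.Agent.Lib.BlockSecond
open Cfsg.Agent.Lib.BlockFirst Cfsg.Agent.Lib.BlockHt Cfsg.Agent.Lib.BlockM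
open Cfsg.Agent.Lib.BlockCov Cfsg.Agent.Lib.BlockQuot Cfsg.Agent.Lib.CharKer
open Cfsg.Agent.Lib.BlockQuotB Cfsg.Agent.Lib.BlockMore Cfsg.Agent.Lib.BlockMoreB
open Cfsg.Agent.Lib.BlockTr Cfsg.Agent.Lib.CharNormal Cfsg.Agent.Lib.BlockCovB
open Cfsg.Agent.Lib.BlockBP Cfsg.Agent.Lib.BlockInt Cfsg.Agent.Lib.BlockSum Cfsg.Agent.Lib.BlockRk
open Cfsg.Agent.Lib.BlockFusB Cfsg.Agent.Lib.BlockMax Cfsg.Agent.Lib.CharSplit Cfsg.Agent.Lib.CharBrauer
open Cfsg.Agent.Lib.CharInd Cfsg.Agent.Lib.BlockPC Cfsg.Agent.Lib.BlockPair Cfsg.Agent.Lib.BlockPairB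
open Cfsg.Agent.Lib.BlockPairC Cfsg.Agent.Lib.BlockPairD Cfsg.Agent.Lib.BlockPairE
open Cfsg.Agent.Lib.BlockRey Cfsg.Agent.Lib.BlockPairF Cfsg.Agent.Lib.BlockFus Cfsg.Agent.Lib.BlockNilB Cfsg.Agent.Lib.BlockNil Cfsg.Agent.Lib.CharClifford
open Cfsg.Agent.Lib.BlockKB Cfsg.Agent.Lib.BlockLar Cfsg.Agent.Lib.BlockMaxB Cfsg.Agent.Lib.BlockIndIn Cfsg.Agent.Lib.BlockBFM
open Cfsg.Agent.Lib.BlkH7A
open scoped ComplexConjugate


section Lin

variable {k : Type*} [Field k] {V : Type*} [AddCommGroup V] [Module k V]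

/-- A projection onto `U` killing `E`. -/
theorem exists_proj {U E : Submodule k V} (h : Disjoint U E) :
    ∃ Φ : V →ₗ[k] V, (∀ u ∈ U, Φ u = u) ∧ (∀ e ∈ E, Φ e = 0) ∧ ∀ v, Φ v ∈ U := by
  obtain ⟨E', hE, hc⟩ := h.symm.exists_isCompl
  refine ⟨U.subtype ∘ₗ U.projectionOnto E' hc.symm, fun u hu => ?_, fun e he => ?_, fun v => ?_⟩
  · rw [LinearMap.comp_apply, Submodule.projectionOnto_apply_of_mem_left hc.symm hu]
    rfl
  · rw [LinearMap.comp_apply, (Submodule.projectionOnto_apply_eq_zero_iff hc.symm).2 (hE he)]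
    rfl
  · exact (U.projectionOnto E' hc.symm v).2

theorem exists_section (f : V →ₗ[k] V) : ∃ ψ : V →ₗ[k] V, ∀ u ∈ LinearMap.range f, f (ψ u) = u := by
  obtain ⟨s, hs⟩ := LinearMap.exists_rightInverse_of_surjective f.rangeRestrict
    (LinearMap.range_rangeRestrict f)
  obtain ⟨ψ, hψ⟩ := LinearMap.exists_extend s
  refine ⟨ψ, fun u hu => ?_⟩
  have h1 : ψ u = s ⟨u, hu⟩ := by
    have := LinearMap.congr_fun hψ (⟨u, hu⟩ : LinearMap.range f)
    exact this
  rw [h1]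
  have h2 := LinearMap.congr_fun hs (⟨u, hu⟩ : LinearMap.range f)
  exact congrArg Subtype.val h2

/-- The commuting lift. -/
theorem exists_lift (y ψ Φ : V →ₗ[k] V) (j : ℕ) (h1 : ∀ v, (y ^ (j + 1)) (ψ (Φ v)) = 0)
    (h2 : ∀ v, Φ ((y ^ (j + 1)) v) = 0) :
    ∃ f : V →ₗ[k] V, (∀ v, f (y v) = y (f v)) ∧ ∀ v, y v = 0 → f v = (y ^ j) (ψ (Φ v)) := by
  have hsucc : ∀ (n : ℕ) (v : V), (y ^ (n + 1)) v = y ((y ^ n) v) := fun n v => by
    rw [pow_succ']; rfl
  have hsucc' : ∀ (n : ℕ) (v : V), (y ^ (n + 1)) v = (y ^ n) (y v) := fun n v => by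
    rw [pow_succ]; rfl
  refine ⟨∑ i ∈ Finset.range (j + 1), (y ^ i) ∘ₗ ψ ∘ₗ Φ ∘ₗ (y ^ (j - i)), fun v => ?_, fun v hv => ?_⟩
  · rw [LinearMap.sum_apply, LinearMap.sum_apply, map_sum]
    simp only [LinearMap.comp_apply]
    have e1 : ∀ i ∈ Finset.range (j + 1), (y ^ i) (ψ (Φ ((y ^ (j - i)) (y v)))) =
        (y ^ i) (ψ (Φ ((y ^ (j + 1 - i)) v))) := by
      intro i hi
      rw [← hsucc', show j - i + 1 = j + 1 - i by have := Finset.mem_range.1 hi; omega]
    have e2 : ∀ i ∈ Finset.range (j + 1), y ((y ^ i) (ψ (Φ ((y ^ (j - i)) v)))) =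
        (y ^ (i + 1)) (ψ (Φ ((y ^ (j + 1 - (i + 1))) v))) := by
      intro i hi
      rw [hsucc, show j + 1 - (i + 1) = j - i by omega]
    rw [Finset.sum_congr rfl e1, Finset.sum_congr rfl e2]
    have e3 := Finset.sum_range_succ (fun i => (y ^ i) (ψ (Φ ((y ^ (j + 1 - i)) v)))) (j + 1)
    have e4 := Finset.sum_range_succ' (fun i => (y ^ i) (ψ (Φ ((y ^ (j + 1 - i)) v)))) (j + 1)
    have e5 : (y ^ (j + 1)) (ψ (Φ ((y ^ (j + 1 - (j + 1))) v))) = 0 := h1 _
    have e6 : (y ^ 0) (ψ (Φ ((y ^ (j + 1 - 0)) v))) = 0 := by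
      rw [Nat.sub_zero, h2, map_zero, map_zero]
    rw [e5, add_zero] at e3
    rw [e6, add_zero] at e4
    rw [← e3, ← e4]
  · rw [LinearMap.sum_apply, Finset.sum_range_succ]
    rw [Finset.sum_eq_zero, zero_add]
    · simp only [LinearMap.comp_apply, Nat.sub_self, pow_zero, Module.End.one_apply]
    · intro i hi
      have hi' := Finset.mem_range.1 hi
      simp only [LinearMap.comp_apply]
      have : (y ^ (j - i)) v = 0 := by
        obtain ⟨n, hn⟩ : ∃ n, j - i = n + 1 := ⟨j - i - 1, by omega⟩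
        rw [hn, hsucc', hv, map_zero]
      rw [this, map_zero, map_zero, map_zero]

end Lin

section Cyc

variable {k : Type*} [Field k] {p : ℕ} [Fact p.Prime] [CharP k p] {G : Type*} [Group G] [Finite G]
  {V : Type*} [AddCommGroup V] [Module k V] [Module (GA k G) V] [IsScalarTower k (GA k G) V]

theorem gl_pow (g : G) (n : ℕ) (v : V) : gl k (g ^ n) v = ((gl k g : V →ₗ[k] V) ^ n) v := by
  induction n generalizing v with
  | zero => rw [pow_zero, pow_zero, gl_one]; rfl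
  | succ n ih => rw [pow_succ, gl_mul, ih, pow_succ]; rfl

open Polynomial in
theorem poly_id : ((X : k[X]) - 1) ^ (p - 1) = ∑ i ∈ Finset.range p, X ^ i := by
  have hp := (Fact.out : p.Prime)
  have h1 : (X - 1 : k[X]) ≠ 0 := X_sub_C_ne_zero (1 : k)
  apply mul_left_cancel₀ h1
  rw [← pow_succ', Nat.sub_add_cancel hp.one_le, mul_geom_sum, sub_pow_char, one_pow]

variable (k)

/-- The nilpotent operator `g - 1`. -/
noncomputable def ny (g : G) : V →ₗ[k] V := gl k g - LinearMap.id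

variable {k}

theorem ny_apply (g : G) (v : V) : ny k g v = gl k g v - v := rfl

theorem ny_pow (g : G) : ((ny k g : V →ₗ[k] V)) ^ (p - 1) =
    ∑ i ∈ Finset.range p, (gl k g : V →ₗ[k] V) ^ i := by
  have h := congrArg (Polynomial.aeval (gl k g : Module.End k V)) (poly_id (k := k) (p := p))
  rw [map_pow, map_sub, Polynomial.aeval_X, map_one, map_sum] at h
  simp only [map_pow, Polynomial.aeval_X] at h
  exact h

theorem sum_zpowers {g : G} (hg : orderOf g = p) {P : Subgroup G} (hP : P = Subgroup.zpowers g)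
    [Fintype P] (v : V) : nm k P v = ((ny k g : V →ₗ[k] V) ^ (p - 1)) v := by
  classical
  subst hP
  rw [ny_pow, nm_apply, LinearMap.sum_apply]
  simp only [← gl_pow]
  symm
  refine Finset.sum_bij (fun i _ => (⟨g ^ i, Subgroup.npow_mem_zpowers g i⟩ : Subgroup.zpowers g))
    (fun _ _ => Finset.mem_univ _) ?_ ?_ (fun _ _ => rfl)
  · intro i hi i' hi' he
    have h1 : g ^ i = g ^ i' := congrArg Subtype.val he
    have h2 := pow_injOn_Iio_orderOf (x := g) (by rw [hg]; exact Finset.mem_range.1 hi)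
      (by rw [hg]; exact Finset.mem_range.1 hi') h1
    exact h2
  · rintro ⟨x, hx⟩ -
    have h1 := (mem_zpowers_iff_mem_range_orderOf (x := g) (y := x)).1 hx
    obtain ⟨i, hi, hix⟩ := Finset.mem_image.1 h1
    rw [hg] at hi
    exact ⟨i, hi, Subtype.ext hix⟩

theorem fx_iff {g : G} {P : Subgroup G} (hP : P = Subgroup.zpowers g) {v : V} :
    v ∈ fx k V P ↔ ny k g v = 0 := by
  rw [ny_apply, sub_eq_zero]
  constructor
  · intro h
    exact h g (by rw [hP]; exact Subgroup.mem_zpowers g)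
  · intro h x hx
    rw [hP] at hx
    have h1 : ∀ n : ℕ, gl k (g ^ n) v = v := by
      intro n
      induction n with
      | zero => rw [pow_zero, gl_one]
      | succ n ih => rw [pow_succ, gl_mul, h, ih]
    obtain ⟨n, rfl⟩ := (Submonoid.mem_powers_iff _ _).1 (mem_powers_iff_mem_zpowers.2 hx)
    exact h1 n

theorem commute_P {g : G} {P : Subgroup G} (hP : P = Subgroup.zpowers g) {f : V →ₗ[k] V}
    (hf : ∀ v, f (ny k g v) = ny k g (f v)) {x : G} (hx : x ∈ P) (v : V) :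
    f (gl k x v) = gl k x (f v) := by
  have h1 : ∀ v, f (gl k g v) = gl k g (f v) := by
    intro v
    have := hf v
    rw [ny_apply, ny_apply, map_sub, sub_left_inj] at this
    exact this
  have h2 : ∀ (n : ℕ) v, f (gl k (g ^ n) v) = gl k (g ^ n) (f v) := by
    intro n
    induction n with
    | zero => intro v; rw [pow_zero, gl_one, gl_one]
    | succ n ih => intro v; rw [pow_succ, gl_mul, ih, h1, gl_mul]
  rw [hP] at hx
  obtain ⟨n, rfl⟩ := (Submonoid.mem_powers_iff _ _).1 (mem_powers_iff_mem_zpowers.2 hx)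
  exact h2 n v

/-- The images of the powers of `g - 1` are stable under the normalizer. -/
theorem range_stable {g : G} {P : Subgroup G} (hP : P = Subgroup.zpowers g) {n : G}
    (hn : n ∈ Subgroup.normalizer (P : Set G)) (j : ℕ) {v : V}
    (hv : v ∈ LinearMap.range ((ny k g : V →ₗ[k] V) ^ j)) :
    gl k n v ∈ LinearMap.range ((ny k g : V →ₗ[k] V) ^ j) := by
  have h1 : n * g * n⁻¹ ∈ P := (norm_iff.1 hn g).1 (by rw [hP]; exact Subgroup.mem_zpowers g)
  rw [hP] at h1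
  obtain ⟨a, ha⟩ := (Submonoid.mem_powers_iff _ _).1 (mem_powers_iff_mem_zpowers.2 h1)
  -- `g ^ a - 1 = (g - 1) * s`
  have h2 : ∀ w : V, gl k n (ny k g w) = ny k (g ^ a) (gl k n w) := by
    intro w
    rw [ny_apply, ny_apply, map_sub, ha, ← gl_mul, ← gl_mul]
    congr 2
    congr 1
    group
  have h3 : ∀ (i : ℕ) (w : V), gl k n (((ny k g : V →ₗ[k] V) ^ i) w) =
      ((ny k (g ^ a) : V →ₗ[k] V) ^ i) (gl k n w) := by
    intro i
    induction i with
    | zero => intro w; rfl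
    | succ i ih =>
      intro w
      have e1 : ((ny k g : V →ₗ[k] V) ^ (i + 1)) w = ((ny k g : V →ₗ[k] V) ^ i) (ny k g w) := by
        rw [pow_succ]; rfl
      have e2 : ((ny k (g ^ a) : V →ₗ[k] V) ^ (i + 1)) (gl k n w) =
          ((ny k (g ^ a) : V →ₗ[k] V) ^ i) (ny k (g ^ a) (gl k n w)) := by
        rw [pow_succ]; rfl
      rw [e1, e2, ih, h2]
  have h4 : (ny k (g ^ a) : V →ₗ[k] V) = (ny k g : V →ₗ[k] V) * ∑ i ∈ Finset.range a,
      (gl k g : V →ₗ[k] V) ^ i := by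
    have e1 : (ny k g : V →ₗ[k] V) = (gl k g : Module.End k V) - 1 := rfl
    rw [e1, mul_geom_sum]
    ext w
    rw [ny_apply, gl_pow]
    rfl
  have h5 : Commute (ny k g : Module.End k V) (∑ i ∈ Finset.range a, (gl k g : V →ₗ[k] V) ^ i) := by
    refine Commute.sum_right _ _ _ (fun i _ => ?_)
    have e1 : (ny k g : V →ₗ[k] V) = (gl k g : Module.End k V) - 1 := rfl
    rw [e1]
    exact (((Commute.refl (gl k g : Module.End k V)).sub_left (Commute.one_left _)).pow_right i)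
  obtain ⟨w, rfl⟩ := hv
  rw [h3, h4, h5.mul_pow]
  exact ⟨_, rfl⟩

end Cyc

end Cfsg.Agent.Lib.BlkH7B
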