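import Cfsg.Agent.Lib.BlockRey
import Cfsg.Agent.Lib.BlockKB
import Cfsg.Agent.Lib.BlockLar
import Cfsg.Agent.Lib.BlockMaxB
import Cfsg.Agent.Lib.BlockIndIn
import Cfsg.Agent.Lib.BlockBFM

import Cfsg.Agent.Lib.BlkH7A
import Cfsg.Agent.Lib.BlkH7B

/-!
Simple modules and Tate cohomology of the Sylow subgroup of order p.
-/

set_option autoImplicit false
set_option linter.style.haveILetI false
set_option linter.unusedVariables false
set_option linter.unusedSectionVars false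
set_option linter.unusedDecidableInType false
set_option linter.unusedFintypeInType false
set_option linter.unusedSimpArgs false

namespace Cfsg.Agent.Lib.BlkH7C
open Cfsg Cfsg.Agent.Lib.BlockLoc Cfsg.Agent.Lib.BlockGA Cfsg.Agent.Lib.CharBasic
open Cfsg.Agent.Lib.BlockIdem Cfsg.Agent.Lib.BlockPP Cfsg.Agent.Lib.BlockOrth
open Cfsg.Agent.Lib.BlockRed Cfsg.Agent.Lib.BlockDef Cfsg.Agent.Lib.BlockDeg
open Cfsg.Agent.Lib.BlockNP Cfsg.Agent.Lib.BlockInd Cfsg.Agent.Lib.BlockSecond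
open Cfsg.Agent.Lib.BlockFirst Cfsg.Agent.Lib.BlockHt Cfsg.Agent.Lib.BlockM
open Cfsg.Agent.Lib.BlockCov Cfsg.Agent.Lib.BlockQuot Cfsg.Agent.Lib.CharKer
open Cfsg.Agent.Lib.BlockQuotB Cfsg.Agent.Lib.BlockMore Cfsg.Agent.Lib.BlockMoreB
open Cfsg.Agent.Lib.BlockTr Cfsg.Agent.Lib.CharNormal Cfsg.Agent.Lib.BlockCovB
open Cfsg.Agent.Lib.BlockBP Cfsg.Agent.Lib.BlockInt Cfsg.Agent.Lib.BlockSum Cfsg.Agent.Lib.BlockRk
open Cfsg.Agent.Lib.BlockFusB Cfsg.Agent.Lib.BlockMax Cfsg.Agent.Lib.CharSplit Cfsg.Agent.Lib.CharBrauer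
open Cfsg.Agent.Lib.CharInd Cfsg.Agent.Lib.BlockPC Cfsg.Agent.Lib.BlockPair Cfsg.Agent.Lib.BlockPairB
open Cfsg.Agent.Lib.BlockPairC Cfsg.Agent.Lib.BlockPairD Cfsg.Agent.Lib.BlockPairE
open Cfsg.Agent.Lib.BlockRey Cfsg.Agent.Lib.BlockPairF Cfsg.Agent.Lib.BlockFus Cfsg.Agent.Lib.BlockNilB Cfsg.Agent.Lib.BlockNil Cfsg.Agent.Lib.CharClifford
open Cfsg.Agent.Lib.BlockKB Cfsg.Agent.Lib.BlockLar Cfsg.Agent.Lib.BlockMaxB Cfsg.Agent.Lib.BlockIndIn Cfsg.Agent.Lib.BlockBFM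
open Cfsg.Agent.Lib.BlkH7A Cfsg.Agent.Lib.BlkH7B
open scoped ComplexConjugate


section Avg

variable (k : Type*) [Field k] {G : Type*} [Group G] [Finite G]
  {V : Type*} [AddCommGroup V] [Module k V] [Module (GA k G) V] [IsScalarTower k (GA k G) V]

/-- Averaging over a subgroup. -/
noncomputable def av (H : Subgroup G) [Fintype H] (f : V →ₗ[k] V) : V →ₗ[k] V :=
  (Nat.card H : k)⁻¹ • ∑ h : H, gl k (h : G) ∘ₗ f ∘ₗ gl k ((h : G)⁻¹)

variable {k}

theorem av_apply (H : Subgroup G) [Fintype H] (f : V →ₗ[k] V) (v : V) :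
    av k H f v = (Nat.card H : k)⁻¹ • ∑ h : H, gl k (h : G) (f (gl k ((h : G)⁻¹) v)) := by
  rw [av, LinearMap.smul_apply, LinearMap.sum_apply]
  rfl

theorem av_comm (H : Subgroup G) [Fintype H] (f : V →ₗ[k] V) {x : G} (hx : x ∈ H) (v : V) :
    av k H f (gl k x v) = gl k x (av k H f v) := by
  rw [av_apply, av_apply, map_smul, map_sum]
  congr 1
  refine Fintype.sum_equiv (Equiv.mulLeft (⟨x, hx⟩⁻¹ : H)) _ _ (fun h => ?_)
  change gl k (h : G) (f (gl k ((h : G)⁻¹) (gl k x v))) =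
    gl k x (gl k (x⁻¹ * (h : G)) (f (gl k ((x⁻¹ * (h : G))⁻¹) v)))
  rw [← gl_mul, ← gl_mul, mul_inv_cancel_left, mul_inv_rev, inv_inv]

theorem av_comm' (H : Subgroup G) [Fintype H] {P : Subgroup G} {f : V →ₗ[k] V}
    (hf : ∀ x ∈ P, ∀ v, f (gl k x v) = gl k x (f v))
    (hH : ∀ h ∈ H, h ∈ Subgroup.normalizer (P : Set G)) {x : G} (hx : x ∈ P) (v : V) :
    av k H f (gl k x v) = gl k x (av k H f v) := by
  rw [av_apply, av_apply, map_smul, map_sum]
  congr 1
  refine Finset.sum_congr rfl (fun h _ => ?_)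
  have h1 : (h : G)⁻¹ * x * h ∈ P := by
    have := (norm_iff.1 (Subgroup.inv_mem _ (hH h h.2)) x).1 hx
    rwa [inv_inv] at this
  have e1 : gl k ((h : G)⁻¹) (gl k x v) = gl k ((h : G)⁻¹ * x * h) (gl k ((h : G)⁻¹) v) := by
    rw [← gl_mul, ← gl_mul, mul_inv_cancel_right]
  have e2 : (h : G) * ((h : G)⁻¹ * x * h) = x * h := by group
  rw [e1, hf _ h1, ← gl_mul, ← gl_mul, e2]

/-- Averaging a map that is the identity modulo `T` on `U`. -/
theorem av_id_mod (H : Subgroup G) [Fintype H] (hc : (Nat.card H : k) ≠ 0) {f : V →ₗ[k] V}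
    {U T : Submodule k V} (hU : ∀ h ∈ H, ∀ u ∈ U, gl k h u ∈ U) (hT : ∀ h ∈ H, ∀ u ∈ T, gl k h u ∈ T)
    (hf : ∀ u ∈ U, f u - u ∈ T) {u : V} (hu : u ∈ U) : av k H f u - u ∈ T := by
  have h1 : av k H f u - u = (Nat.card H : k)⁻¹ • ∑ h : H,
      gl k (h : G) (f (gl k ((h : G)⁻¹) u) - gl k ((h : G)⁻¹) u) := by
    rw [av_apply]
    simp only [map_sub, gl_self_inv]
    rw [Finset.sum_sub_distrib, smul_sub]
    congr 1
    rw [Finset.sum_const, Finset.card_univ, ← Nat.card_eq_fintype_card, ← Nat.cast_smul_eq_nsmul k,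
      smul_smul, inv_mul_cancel₀ hc, one_smul]
  rw [h1]
  refine T.smul_mem _ (T.sum_mem (fun h _ => hT h h.2 _ (hf _ (hU _ (H.inv_mem h.2) _ hu))))

theorem av_zero (H : Subgroup G) [Fintype H] {f : V →ₗ[k] V}
    {C : Submodule k V} (hC : ∀ h ∈ H, ∀ u ∈ C, gl k h u ∈ C)
    (hf : ∀ u ∈ C, f u = 0) {u : V} (hu : u ∈ C) : av k H f u = 0 := by
  rw [av_apply, Finset.sum_eq_zero, smul_zero]
  intro h _
  rw [hf _ (hC _ (H.inv_mem h.2) _ hu), map_zero]

theorem av_mem (H : Subgroup G) [Fintype H] {f : V →ₗ[k] V}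
    {U : Submodule k V} (hU : ∀ h ∈ H, ∀ u ∈ U, gl k h u ∈ U)
    (hf : ∀ u, f u ∈ U) (u : V) : av k H f u ∈ U := by
  rw [av_apply]
  exact U.smul_mem _ (U.sum_mem (fun h _ => hU h h.2 _ (hf _)))

end Avg

section Tr

variable {k : Type*} [Field k] {G : Type*} [Group G] [Finite G]
  {V : Type*} [AddCommGroup V] [Module k V] [Module (GA k G) V] [IsScalarTower k (GA k G) V]

/-- The transfer of a map commuting with `N`. -/
theorem exists_F {P N : Subgroup G} [Fintype P] (hPN : P ≤ N)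
    (hTI : ∀ x, x ∉ N → ∀ u ∈ P, x⁻¹ * u * x ∈ N → u = 1) (f : V →ₗ[k] V)
    (hf : ∀ n ∈ N, ∀ v, f (gl k n v) = gl k n (f v)) :
    ∃ F : V →ₗ[k] V, (∀ (g : G) v, F (gl k g v) = gl k g (F v)) ∧
      ∀ v ∈ fx k V P, F v - f v ∈ tm k V P := by
  classical
  haveI : Fintype (G ⧸ N) := Fintype.ofFinite _
  let φ : G ⧸ N → (V →ₗ[k] V) := fun q => gl k q.out ∘ₗ f ∘ₗ gl k (q.out)⁻¹
  have hφ : ∀ (x : G) (v : V), φ (x : G ⧸ N) v = gl k x (f (gl k x⁻¹ v)) := by
    intro x v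
    obtain ⟨n, hn⟩ := QuotientGroup.mk_out_eq_mul N x
    change gl k ((x : G ⧸ N).out) (f (gl k ((x : G ⧸ N).out)⁻¹ v)) = _
    rw [hn, gl_mul, mul_inv_rev, gl_mul, hf _ (N.inv_mem n.2), gl_self_inv]
  refine ⟨∑ q : G ⧸ N, φ q, ?_, ?_⟩
  · intro g v
    rw [LinearMap.sum_apply, LinearMap.sum_apply, map_sum]
    symm
    refine Fintype.sum_equiv (MulAction.toPerm g) _ _ (fun q => ?_)
    obtain ⟨x, rfl⟩ := QuotientGroup.mk_surjective q
    change gl k g (φ (x : G ⧸ N) v) = φ ((g * x : G) : G ⧸ N) (gl k g v)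
    rw [hφ, hφ, ← gl_mul, ← gl_mul, mul_inv_rev, inv_mul_cancel_right]
  · intro v hv
    rw [LinearMap.sum_apply, ← Finset.add_sum_erase _ _ (Finset.mem_univ ((1 : G) : G ⧸ N))]
    have h1 : φ ((1 : G) : G ⧸ N) v = f v := by
      rw [hφ, inv_one, gl_one, gl_one]
    rw [h1, add_sub_cancel_left]
    refine sum_free_mem (P := P) (tm k V P).toAddSubgroup (fun q => φ q v) _
      (Finset.univ.erase ((1 : G) : G ⧸ N)) rfl ?_ ?_ ?_
    · intro u q hq
      refine Finset.mem_erase.2 ⟨fun h => Finset.ne_of_mem_erase hq ?_, Finset.mem_univ _⟩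
      have h2 : q = u⁻¹ • ((1 : G) : G ⧸ N) := by rw [← h, inv_smul_smul]
      rw [h2]
      change (((u : G)⁻¹ * 1 : G) : G ⧸ N) = _
      rw [QuotientGroup.eq]
      have h3 : ((u : G)⁻¹ * 1)⁻¹ * 1 = u := by group
      rw [h3]
      exact hPN u.2
    · intro q hq u hu
      obtain ⟨x, rfl⟩ := QuotientGroup.mk_surjective q
      have hx : x ∉ N := by
        intro hx
        apply Finset.ne_of_mem_erase hq
        change ((x : G) : G ⧸ N) = _
        rw [QuotientGroup.eq, mul_one]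
        exact N.inv_mem hx
      have h2 : (((u : G) * x : G) : G ⧸ N) = (x : G ⧸ N) := hu
      rw [QuotientGroup.eq] at h2
      refine Subtype.ext (hTI x hx u u.2 ?_)
      have h3 : ((u : G) * x)⁻¹ * x = (x⁻¹ * u * x)⁻¹ := by group
      rw [h3] at h2
      exact (Subgroup.inv_mem_iff N).1 h2
    · intro q _
      obtain ⟨x, rfl⟩ := QuotientGroup.mk_surjective q
      refine ⟨φ (x : G ⧸ N) v, ?_⟩
      rw [nm_apply]
      refine Finset.sum_congr rfl (fun u _ => ?_)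
      have h2 : u • (x : G ⧸ N) = (((u : G) * x : G) : G ⧸ N) := rfl
      change _ = φ (u • (x : G ⧸ N)) v
      rw [h2, hφ, hφ, gl_mul]
      congr 3
      rw [mul_inv_rev, gl_mul]
      congr 1
      exact (hv _ (P.inv_mem u.2)).symm

end Tr

section LemA

variable {k : Type*} [Field k] {p : ℕ} [Fact p.Prime] [CharP k p] {G : Type*} [Group G] [Finite G]
  {V : Type*} [AddCommGroup V] [Module k V] [Module (GA k G) V] [IsScalarTower k (GA k G) V]

/-- The local configuration. -/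
structure Cfg (p : ℕ) (P N H : Subgroup G) (g : G) : Prop where
  ord : orderOf g = p
  gen : P = Subgroup.zpowers g
  nrm : N = Subgroup.normalizer (P : Set G)
  HN : H ≤ N
  Hp : ¬ p ∣ Nat.card H
  fac : ∀ n ∈ N, ∃ h ∈ H, ∃ x ∈ P, n = h * x
  TI : ∀ x, x ∉ N → ∀ u ∈ P, x⁻¹ * u * x ∈ N → u = 1

variable {P N H : Subgroup G} [Fintype P] {g : G}

theorem core_step (c : Cfg p P N H g) [IsSimpleModule (GA k G) V] (j : ℕ)
    (hj : fx k V P ⊓ LinearMap.range ((ny k g : V →ₗ[k] V) ^ (j + 1)) ≤ tm k V P)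
    (U : Submodule k V) (hTU : tm k V P ≤ U) (hne : ¬ U ≤ tm k V P) (hUf : U ≤ fx k V P)
    (hUr : U ≤ LinearMap.range ((ny k g : V →ₗ[k] V) ^ j))
    (hst : ∀ n ∈ N, ∀ u ∈ U, gl k n u ∈ U) : fx k V P ≤ U := by
  classical
  haveI : Fintype H := Fintype.ofFinite _
  have hHn : ∀ h ∈ H, h ∈ Subgroup.normalizer (P : Set G) := fun h hh => c.nrm ▸ c.HN hh
  have hPN : P ≤ N := by rw [c.nrm]; exact Subgroup.le_normalizer
  have hcH : (Nat.card H : k) ≠ 0 := by
    intro h0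
    exact c.Hp ((CharP.cast_eq_zero_iff k p _).1 h0)
  have hTst : ∀ n ∈ N, ∀ u ∈ tm k V P, gl k n u ∈ tm k V P := fun n hn u hu =>
    gl_tm k (c.nrm ▸ hn) hu
  have hFst : ∀ n ∈ N, ∀ u ∈ fx k V P, gl k n u ∈ fx k V P := fun n hn u hu =>
    gl_fx k (c.nrm ▸ hn) hu
  set T := tm k V P with hT
  set D := LinearMap.range ((ny k g : V →ₗ[k] V) ^ (j + 1)) with hD
  -- the complement `U₀`
  obtain ⟨T', hT'⟩ := Submodule.exists_isCompl T
  have hU₀ : T ⊔ (U ⊓ T') = U := by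
    rw [inf_comm, ← sup_inf_assoc_of_le T' hTU, hT'.sup_eq_top, top_inf_eq]
  set U₀ := U ⊓ T' with hU₀d
  have hTU₀ : ∀ v, v ∈ T → v ∈ U₀ → v = 0 := fun v h1 h2 =>
    (Submodule.disjoint_def.1 hT'.disjoint) v h1 h2.2
  -- the projection onto `U`
  obtain ⟨π, hπ1, -, hπ2⟩ := exists_proj (U := U) (E := ⊥) disjoint_bot_right
  set ρ := av k H π with hρ
  have hρU : ∀ v, ρ v ∈ U := av_mem H (fun h hh => hst h (c.HN hh)) hπ2
  have hρid : ∀ u ∈ U, ρ u = u := by
    intro u hu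
    have := av_id_mod H hcH (T := ⊥) (fun h hh => hst h (c.HN hh)) (fun h _ u hu => by
      rw [Submodule.mem_bot] at hu ⊢; rw [hu, map_zero]) (fun u hu => by
      rw [Submodule.mem_bot, hπ1 u hu, sub_self]) hu
    rw [Submodule.mem_bot, sub_eq_zero] at this
    exact this
  have hρc : ∀ h ∈ H, ∀ v, ρ (gl k h v) = gl k h (ρ v) := fun h hh v => av_comm H π hh v
  set C := fx k V P ⊓ LinearMap.ker ρ with hC
  have hCst : ∀ h ∈ H, ∀ u ∈ C, gl k h u ∈ C := by
    intro h hh u hu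
    refine Submodule.mem_inf.2 ⟨hFst h (c.HN hh) u hu.1, LinearMap.mem_ker.2 ?_⟩
    rw [hρc h hh, LinearMap.mem_ker.1 hu.2, map_zero]
  have hUC : ∀ v, v ∈ U → v ∈ C → v = 0 := by
    intro v h1 h2
    rw [← hρid v h1]
    exact LinearMap.mem_ker.1 h2.2
  have hdec : ∀ v ∈ fx k V P, ρ v ∈ U ∧ v - ρ v ∈ C := by
    intro v hv
    refine ⟨hρU v, Submodule.mem_inf.2 ⟨Submodule.sub_mem _ hv (hUf (hρU v)),
      LinearMap.mem_ker.2 ?_⟩⟩
    rw [map_sub, hρid _ (hρU v), sub_self]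
  have hdis : Disjoint U₀ (D ⊔ C) := by
    rw [Submodule.disjoint_def]
    intro u hu hdc
    obtain ⟨d, hd, c', hc', rfl⟩ := Submodule.mem_sup.1 hdc
    have hdU : d ∈ fx k V P := by
      have : d = (d + c') - c' := (add_sub_cancel_right d c').symm
      rw [this]
      exact Submodule.sub_mem _ (hUf hu.1) hc'.1
    have hdT : d ∈ T := hj ⟨hdU, hd⟩
    have hc0 : c' = 0 := by
      refine hUC c' ?_ hc'
      have : c' = (d + c') - d := (add_sub_cancel_left d c').symm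
      rw [this]
      exact Submodule.sub_mem _ hu.1 (hTU hdT)
    rw [hc0, add_zero] at hu ⊢
    exact hTU₀ d hdT hu
  obtain ⟨Φ, hΦ1, hΦ2, hΦ3⟩ := exists_proj hdis
  obtain ⟨ψ, hψ⟩ := exists_section ((ny k g : V →ₗ[k] V) ^ j)
  have hyj : ∀ u ∈ U₀, ((ny k g : V →ₗ[k] V) ^ j) (ψ u) = u := fun u hu => hψ u (hUr hu.1)
  obtain ⟨f, hf1, hf2⟩ := exists_lift (ny k g : V →ₗ[k] V) ψ Φ j (fun v => by
    rw [pow_succ']
    change ny k g (((ny k g : V →ₗ[k] V) ^ j) (ψ (Φ v))) = 0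
    rw [hyj _ (hΦ3 v)]
    exact (fx_iff c.gen).1 (hUf (hΦ3 v).1)) (fun v => hΦ2 _ (Submodule.mem_sup_left ⟨v, rfl⟩))
  have hfv : ∀ v ∈ fx k V P, f v = Φ v := by
    intro v hv
    rw [hf2 v ((fx_iff c.gen).1 hv), hyj _ (hΦ3 v)]
  have hfP : ∀ x ∈ P, ∀ v, f (gl k x v) = gl k x (f v) := fun x hx v => commute_P c.gen hf1 hx v
  -- the average
  set f' := av k H f with hf'
  have hf'N : ∀ n ∈ N, ∀ v, f' (gl k n v) = gl k n (f' v) := by
    intro n hn v
    obtain ⟨h, hh, x, hx, rfl⟩ := c.fac n hn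
    rw [gl_mul, av_comm H f hh, av_comm' H hfP hHn hx, gl_mul]
  have hf'U : ∀ u ∈ U, f' u - u ∈ T := by
    intro u hu
    refine av_id_mod H hcH (fun h hh => hst h (c.HN hh)) (fun h hh => hTst h (c.HN hh)) ?_ hu
    intro u hu
    rw [hfv u (hUf hu)]
    rw [← hU₀] at hu
    obtain ⟨t, ht, u₀, hu₀, rfl⟩ := Submodule.mem_sup.1 hu
    rw [map_add, hΦ1 u₀ hu₀]
    have h1 : Φ t = 0 := by
      -- `t ∈ T` is in the range of `y ^ (j+1)` or `T = 0`
      have ht2 : t ∈ D ⊔ C := by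
        by_cases hjp : j + 1 ≤ p - 1
        · refine Submodule.mem_sup_left ?_
          obtain ⟨w, rfl⟩ := ht
          rw [sum_zpowers c.ord c.gen]
          obtain ⟨e, he⟩ := Nat.exists_eq_add_of_le hjp
          rw [he, pow_add]
          exact ⟨_, rfl⟩
        · exfalso
          apply hne
          intro u hu'
          obtain ⟨w, hw⟩ := hUr hu'
          have hjp' : p - 1 ≤ j := by omega
          obtain ⟨e, he⟩ := Nat.exists_eq_add_of_le hjp'
          refine ⟨((ny k g : V →ₗ[k] V) ^ e) w, ?_⟩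
          rw [sum_zpowers c.ord c.gen, ← hw, he, pow_add]
          rfl
      exact hΦ2 t ht2
    rw [h1, zero_add]
    have : u₀ - (t + u₀) = -t := by abel
    rw [this]
    exact T.neg_mem ht
  have hf'C : ∀ u ∈ C, f' u = 0 := by
    intro u hu
    refine av_zero H hCst ?_ hu
    intro u hu
    rw [hfv u hu.1]
    exact hΦ2 u (Submodule.mem_sup_right hu)
  obtain ⟨F, hF1, hF2⟩ := exists_F hPN c.TI f' hf'N
  have hFfx : ∀ v ∈ fx k V P, F v ∈ fx k V P := by
    intro v hv x hx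
    rw [← hF1, hv x hx]
  have hFT : ∀ v ∈ T, F v ∈ T := by
    rintro _ ⟨w, rfl⟩
    refine ⟨F w, ?_⟩
    rw [nm_apply, nm_apply, map_sum]
    exact Finset.sum_congr rfl (fun x _ => (hF1 _ _).symm)
  have hFU : ∀ u ∈ U, F u - u ∈ T := by
    intro u hu
    have : F u - u = (F u - f' u) + (f' u - u) := by abel
    rw [this]
    exact T.add_mem (hF2 u (hUf hu)) (hf'U u hu)
  have hFC : ∀ u ∈ C, F u ∈ T := by
    intro u hu
    have := hF2 u hu.1
    rwa [hf'C u hu, sub_zero] at this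
  -- `F² - F` maps the fixed points into `T`
  have hidem : ∀ v ∈ fx k V P, F (F v) - F v ∈ T := by
    intro v hv
    obtain ⟨h1, h2⟩ := hdec v hv
    have e1 : F (F v) - F v = (F (F (ρ v) - ρ v)) + (F (F (v - ρ v)) - F (v - ρ v)) := by
      simp only [map_sub]; abel
    rw [e1]
    exact T.add_mem (hFT _ (hFU _ h1)) (T.sub_mem (hFT _ (hFC _ h2)) (hFC _ h2))
  have hTne : ¬ fx k V P ≤ T := fun h => hne (hUf.trans h)
  -- Schur
  have hbij : ∀ E : V →ₗ[k] V, (∀ (g : G) v, E (gl k g v) = gl k g (E v)) →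
      (∀ v ∈ fx k V P, E v ∈ T) → ∀ v, E v = 0 := by
    intro E hE hET
    rcases (toA E hE).bijective_or_eq_zero with h | h
    · exfalso
      apply hTne
      intro v hv
      obtain ⟨w, hw⟩ := h.2 v
      have hw' : E w = v := hw
      have h1 : w ∈ fx k V P := by
        intro x hx
        apply h.1
        change E (gl k x w) = E w
        rw [hE, hw', hv x hx]
      rw [← hw']
      exact hET w h1
    · intro v
      exact LinearMap.congr_fun h v
  have hFF : ∀ v, F (F v) - F v = 0 := by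
    intro v
    have := hbij (F ∘ₗ F - F) (fun g v => by
      simp only [LinearMap.sub_apply, LinearMap.comp_apply, hF1, map_sub]) (fun v hv => hidem v hv) v
    exact this
  rcases (toA F hF1).bijective_or_eq_zero with hb | hz
  · -- `F = 1`
    have hF1' : ∀ v, F v = v := by
      intro v
      apply hb.1
      change F (F v) = F v
      exact sub_eq_zero.1 (hFF v)
    intro v hv
    obtain ⟨h1, h2⟩ := hdec v hv
    have h3 : v - ρ v = 0 := by
      refine hUC _ (hTU ?_) h2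
      have := hFC _ h2
      rwa [hF1'] at this
    rw [sub_eq_zero.1 h3]
    exact h1
  · exfalso
    apply hne
    intro u hu
    have h1 := hFU u hu
    have h2 : F u = 0 := LinearMap.congr_fun hz u
    rw [h2, zero_sub] at h1
    exact (T.neg_mem_iff).1 h1

/-- For a simple module, the Tate cohomology in degree zero has no proper `N`-submodule. -/
theorem lemma_A (c : Cfg p P N H g) [IsSimpleModule (GA k G) V]
    (U : Submodule k V) (hTU : tm k V P ≤ U) (hne : ¬ U ≤ tm k V P) (hUf : U ≤ fx k V P)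
    (hst : ∀ n ∈ N, ∀ u ∈ U, gl k n u ∈ U) : fx k V P ≤ U := by
  classical
  -- the largest `j` with `K j ≰ T`
  have hex : ∃ j, fx k V P ⊓ LinearMap.range ((ny k g : V →ₗ[k] V) ^ (j + 1)) ≤ tm k V P := by
    refine ⟨p, ?_⟩
    rintro v ⟨-, w, rfl⟩
    refine ⟨((ny k g : V →ₗ[k] V) ^ 2) w, ?_⟩
    rw [sum_zpowers c.ord c.gen]
    have hp : p + 1 = (p - 1) + 2 := by have := (Fact.out : p.Prime).one_le; omega
    rw [hp, pow_add]
    rfl
  have hmin := Nat.find_spec hex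
  set j := Nat.find hex with hjd
  have hK : ¬ fx k V P ⊓ LinearMap.range ((ny k g : V →ₗ[k] V) ^ j) ≤ tm k V P := by
    rcases Nat.eq_zero_or_pos j with h0 | h0
    · rw [h0, pow_zero]
      intro h
      apply hne
      refine hUf.trans ?_
      intro v hv
      exact h ⟨hv, v, rfl⟩
    · have := Nat.find_min hex (m := j - 1) (by omega)
      rwa [Nat.sub_add_cancel h0] at this
  have hstK : ∀ n ∈ N, ∀ u ∈ fx k V P ⊓ LinearMap.range ((ny k g : V →ₗ[k] V) ^ j),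
      gl k n u ∈ fx k V P ⊓ LinearMap.range ((ny k g : V →ₗ[k] V) ^ j) := by
    intro n hn u hu
    exact ⟨gl_fx k (c.nrm ▸ hn) hu.1, range_stable c.gen (c.nrm ▸ hn) j hu.2⟩
  have hTK : tm k V P ≤ fx k V P ⊓ LinearMap.range ((ny k g : V →ₗ[k] V) ^ j) := by
    refine le_inf (tm_le_fx k P) ?_
    rintro _ ⟨w, rfl⟩
    by_cases hjp : j ≤ p - 1
    · rw [sum_zpowers c.ord c.gen]
      obtain ⟨e, he⟩ := Nat.exists_eq_add_of_le hjp
      rw [he, pow_add]
      exact ⟨_, rfl⟩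
    · exfalso
      apply hK
      rintro u ⟨-, w, rfl⟩
      have hjp' : p - 1 ≤ j := by omega
      obtain ⟨e, he⟩ := Nat.exists_eq_add_of_le hjp'
      refine ⟨((ny k g : V →ₗ[k] V) ^ e) w, ?_⟩
      rw [sum_zpowers c.ord c.gen, he, pow_add]
      rfl
  have h1 := core_step c j hmin _ hTK hK inf_le_left inf_le_right hstK
  refine core_step c j hmin U hTU hne hUf (fun u hu => (h1 (hUf hu)).2) hst

end LemA

end Cfsg.Agent.Lib.BlkH7C
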