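import Cfsg.Agent.Lib.BlockRey
import Cfsg.Agent.Lib.BlockKB
import Cfsg.Agent.Lib.BlockLar
import Cfsg.Agent.Lib.BlockMaxB
import Cfsg.Agent.Lib.BlockIndIn
import Cfsg.Agent.Lib.BlockBFM

import Cfsg.Agent.Lib.BlkH7A
import Cfsg.Agent.Lib.BlkH7B
import Cfsg.Agent.Lib.BlkH7C

/-!
Existence of simple modules with prescribed Tate cohomology.
-/

set_option autoImplicit false
set_option linter.style.haveILetI false
set_option linter.unusedVariables false
set_option linter.unusedSectionVars false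
set_option linter.unusedDecidableInType false
set_option linter.unusedFintypeInType false
set_option linter.unusedSimpArgs false

namespace Cfsg.Agent.Lib.BlkH7D
open Cfsg Cfsg.Agent.Lib.BlockLoc Cfsg.Agent.Lib.BlockGA Cfsg.Agent.Lib.CharBasic
open Cfsg.Agent.Lib.BlockIdem Cfsg.Agent.Lib.BlockPP Cfsg.Agent.Lib.BlockOrth
open Cfsg.Agent.Lib.BlockRed Cfsg.Agent.Lib.BlockDef Cfsg.Agent.Lib.BlockDeg
open Cfsg.Agent.Lib.BlockNP Cfsg.Agent.Lib.BlockInd Cfsg.Agent.Lib.BlockSecond
open Cfsg.Agent.Lib.BlockFirst Cfsg.Agent.Lib.BlockHt Cfsg.Agent.Lib.BlockM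
open Cfsg.Agent.Lib.BlockCov Cfsg.Agent.Lib.BlockQuot Cfsg.Agent.Lib.CharKer
open Cfsg.Agent.Lib.BlockQuotB Cfsg.Agent.Lib.BlockMore Cfsg.Agent.Lib.BlockMoreB
open Cfsg.Agent.Lib.BlockTr Cfsg.Agent.Lib.CharNormal Cfsg.Agent.Lib.BlockCovB
open Cfsg.Agent.Lib.BlockBP Cfsg.Agent.Lib.BlockInt Cfsg.Agent.Lib.BlockSum Cfsg.Agent.Lib.BlockRk
open Cfsg.Agent.Lib.BlockFusB Cfsg.Agent.Lib.BlockMax Cfsg.Agent.Lib.CharSplit Cfsg.Agent.Lib.CharBrauer
open Cfsg.Agent.Lib.CharInd Cfsg.Agent.Lib.BlockPC Cfsg.Agent.Lib.BlockPair Cfsg.Agent.Lib.BlockPairB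
open Cfsg.Agent.Lib.BlockPairC Cfsg.Agent.Lib.BlockPairD Cfsg.Agent.Lib.BlockPairE
open Cfsg.Agent.Lib.BlockRey Cfsg.Agent.Lib.BlockPairF Cfsg.Agent.Lib.BlockFus Cfsg.Agent.Lib.BlockNilB Cfsg.Agent.Lib.BlockNil Cfsg.Agent.Lib.CharClifford
open Cfsg.Agent.Lib.BlockKB Cfsg.Agent.Lib.BlockLar Cfsg.Agent.Lib.BlockMaxB Cfsg.Agent.Lib.BlockIndIn Cfsg.Agent.Lib.BlockBFM
open Cfsg.Agent.Lib.BlkH7A Cfsg.Agent.Lib.BlkH7B Cfsg.Agent.Lib.BlkH7C
open scoped ComplexConjugate


section FM

universe u v w

variable (k : Type u) [Field k] (G : Type v) [Group G] [Finite G]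

/-- Bundled finite-dimensional modules over the group algebra. -/
structure FMod where
  V : Type w
  [i1 : AddCommGroup V]
  [i2 : Module k V]
  [i3 : Module (GA k G) V]
  [i4 : IsScalarTower k (GA k G) V]
  [i5 : FiniteDimensional k V]

attribute [instance] FMod.i1 FMod.i2 FMod.i3 FMod.i4 FMod.i5

variable {k G}

/-- A submodule. -/
noncomputable abbrev FMod.sub (V : FMod.{u, v, w} k G) (W : Submodule (GA k G) V.V) :
    FMod.{u, v, w} k G :=
  haveI : FiniteDimensional k W :=
    FiniteDimensional.of_injective (W.subtype.restrictScalars k) Subtype.val_injective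
  { V := W }

/-- A quotient. -/
noncomputable abbrev FMod.quo (V : FMod.{u, v, w} k G) (W : Submodule (GA k G) V.V) :
    FMod.{u, v, w} k G :=
  haveI : FiniteDimensional k (V.V ⧸ W) :=
    Module.Finite.of_surjective (W.mkQ.restrictScalars k) (Submodule.mkQ_surjective W)
  { V := V.V ⧸ W }

theorem exists_simple (Q : FMod.{u, v, w} k G → Prop)
    (hQ : ∀ (V : FMod.{u, v, w} k G) (W : Submodule (GA k G) V.V), Q V → Q (V.sub W) ∨ Q (V.quo W))
    (h0 : ∀ V : FMod.{u, v, w} k G, Q V → Nontrivial V.V) (n : ℕ) :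
    ∀ V : FMod.{u, v, w} k G, Module.finrank k V.V = n → Q V → ∃ S : FMod.{u, v, w} k G,
      IsSimpleModule (GA k G) S.V ∧ Q S := by
  induction n using Nat.strong_induction_on with
  | _ n ih =>
    intro V hn hV
    by_cases hs : IsSimpleModule (GA k G) V.V
    · exact ⟨V, hs, hV⟩
    · haveI := h0 V hV
      obtain ⟨W, hWb, hWt⟩ : ∃ W : Submodule (GA k G) V.V, W ≠ ⊥ ∧ W ≠ ⊤ := by
        by_contra hcon
        push Not at hcon
        apply hs
        rw [isSimpleModule_iff]
        exact { eq_bot_or_eq_top := fun W => by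
                  by_cases h : W = ⊥
                  · exact Or.inl h
                  · exact Or.inr (hcon W h) }
      have h1 : Module.finrank k (V.sub W).V < n := by
        rw [← hn]
        have : (W.restrictScalars k) < ⊤ := by
          rw [lt_top_iff_ne_top]
          intro h
          apply hWt
          rw [eq_top_iff]
          intro x _
          have hx : x ∈ W.restrictScalars k := by rw [h]; trivial
          exact hx
        exact Submodule.finrank_lt this.ne
      have h2 : Module.finrank k (V.quo W).V < n := by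
        rw [← hn]
        have e1 : Module.finrank k (V.V ⧸ (W.restrictScalars k)) +
            Module.finrank k (W.restrictScalars k) = Module.finrank k V.V :=
          Submodule.finrank_quotient_add_finrank _
        have e2 : 0 < Module.finrank k (W.restrictScalars k) := by
          rw [Module.finrank_pos_iff, Submodule.nontrivial_iff_ne_bot]
          intro h
          apply hWb
          rw [eq_bot_iff]
          intro x hx
          have hx' : x ∈ W.restrictScalars k := hx
          rw [h] at hx'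
          exact hx'
        have e3 : Module.finrank k (V.quo W).V = Module.finrank k (V.V ⧸ (W.restrictScalars k)) :=
          rfl
        omega
      rcases hQ V W hV with h | h
      · exact ih _ h1 _ rfl h
      · exact ih _ h2 _ rfl h

end FM

section Qe

universe u v w

variable {k : Type u} [Field k] {p : ℕ} [Fact p.Prime] [CharP k p] {G : Type v} [Group G] [Finite G]
  {P N H : Subgroup G} [Fintype P] {g : G}

/-- An element acts nontrivially on the Tate cohomology. -/
def Qe (P : Subgroup G) [Fintype P] (e : GA k G) (V : Type w) [AddCommGroup V] [Module k V]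
    [Module (GA k G) V] [IsScalarTower k (GA k G) V] : Prop :=
  ∃ v ∈ fx k V P, e • v ∉ tm k V P

/-- Elements supported on `H`. -/
noncomputable def iH (H : Subgroup G) [Fintype H] (c : GA k H) : GA k G :=
  ∑ h : H, c h • (sg (h : G) : GA k G)

theorem iH_smul [Fintype H] (c : GA k H) {V : Type*} [AddCommGroup V] [Module k V]
    [Module (GA k G) V] [IsScalarTower k (GA k G) V] (v : V) :
    iH H c • v = ∑ h : H, c h • gl k (h : G) v := by
  rw [iH, Finset.sum_smul]
  refine Finset.sum_congr rfl (fun h _ => ?_)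
  rw [smul_assoc]
  rfl

theorem iH_mul [Fintype H] (a b : GA k H) : iH H (a * b) = iH H a * iH H b := by
  classical
  rw [iH, iH, iH, Finset.sum_mul_sum]
  have h1 : ∀ x y : H, (a x • (sg (x : G) : GA k G)) * (b y • sg (y : G)) =
      (a x * b y) • sg ((x * y : H) : G) := by
    intro x y
    rw [smul_mul_smul_comm, sg_mul_sg]
    rfl
  simp only [h1, ga_mul, Finset.sum_smul]
  rw [Finset.sum_comm]
  refine Finset.sum_congr rfl (fun x _ => ?_)
  exact Fintype.sum_equiv (Equiv.mulLeft x⁻¹) _ _ (fun y => by simp)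

theorem iH_stable [Fintype H] (c : GA k H) {V : Type*} [AddCommGroup V] [Module k V]
    [Module (GA k G) V] [IsScalarTower k (GA k G) V] {U : Submodule k V}
    (hU : ∀ h ∈ H, ∀ u ∈ U, gl k h u ∈ U) {u : V} (hu : u ∈ U) : iH H c • u ∈ U := by
  rw [iH_smul]
  exact U.sum_mem (fun h _ => U.smul_mem _ (hU h h.2 u hu))

theorem iH_comm [Fintype H] {c : GA k H} (hc : IsCl c) {V : Type*} [AddCommGroup V] [Module k V]
    [Module (GA k G) V] [IsScalarTower k (GA k G) V] {x : G} (hx : x ∈ H) (v : V) :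
    gl k x (iH H c • v) = iH H c • gl k x v := by
  rw [iH_smul, iH_smul, map_sum]
  refine Fintype.sum_equiv (MulAut.conj (⟨x, hx⟩ : H)).toEquiv _ _ (fun h => ?_)
  change gl k x (c h • gl k (h : G) v) = c (⟨x, hx⟩ * h * ⟨x, hx⟩⁻¹) • gl k (x * h * x⁻¹) (gl k x v)
  rw [hc h ⟨x, hx⟩, map_smul, ← gl_mul, ← gl_mul, inv_mul_cancel_right]

/-- Half exactness. -/
theorem Qe_half (c : Cfg p P N H g) [Fintype H] {e : GA k H} (he : e * e = e)
    {V : Type w} [AddCommGroup V] [Module k V] [Module (GA k G) V] [IsScalarTower k (GA k G) V]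
    (W : Submodule (GA k G) V) (hV : Qe P (iH H e) V) :
    Qe P (iH H e) W ∨ Qe P (iH H e) (V ⧸ W) := by
  by_contra hn
  rw [not_or] at hn
  obtain ⟨h1, h2⟩ := hn
  unfold Qe at h1 h2
  push Not at h1 h2
  obtain ⟨v, hv, hev⟩ := hV
  apply hev
  have hEE : iH H e * iH H e = iH H e := by rw [← iH_mul, he]
  have hq : W.mkQ v ∈ fx k (V ⧸ W) P := by
    intro x hx
    rw [← A_gl W.mkQ, hv x hx]
  obtain ⟨zq, hz⟩ := h2 _ hq
  obtain ⟨z, rfl⟩ := Submodule.mkQ_surjective W zq
  have h3 : W.mkQ (iH H e • v - nm k P z) = 0 := by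
    rw [map_sub, map_smul, sub_eq_zero, ← hz, nm_apply, nm_apply, map_sum]
    exact Finset.sum_congr rfl (fun x _ => (A_gl W.mkQ _ _).symm)
  have h4 : iH H e • v - nm k P z ∈ W := (Submodule.Quotient.mk_eq_zero W).1 h3
  have hHfx : ∀ h ∈ H, ∀ u ∈ fx k V P, gl k h u ∈ fx k V P := fun h hh u hu =>
    gl_fx k (c.nrm ▸ c.HN hh) hu
  have hHtm : ∀ h ∈ H, ∀ u ∈ tm k V P, gl k h u ∈ tm k V P := fun h hh u hu =>
    gl_tm k (c.nrm ▸ c.HN hh) hu
  have h5 : iH H e • v - nm k P z ∈ fx k V P :=
    Submodule.sub_mem _ (iH_stable e hHfx hv) (nm_mem k P z)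
  have h6 : (⟨iH H e • v - nm k P z, h4⟩ : W) ∈ fx k W P := by
    intro x hx
    exact Subtype.ext (h5 x hx)
  obtain ⟨w, hw⟩ := h1 _ h6
  have h7 : iH H e • (iH H e • v - nm k P z) ∈ tm k V P := by
    refine ⟨(w : V), ?_⟩
    have := congrArg (fun y : W => (W.subtype y : V)) hw
    refine Eq.trans ?_ this
    change nm k P (W.subtype w) = W.subtype (nm k P w)
    rw [nm_apply, nm_apply, map_sum]
    exact Finset.sum_congr rfl (fun x _ => (A_gl W.subtype _ _).symm)
  have h8 : iH H e • v = iH H e • (iH H e • v - nm k P z) + iH H e • nm k P z := by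
    rw [smul_sub, smul_smul, hEE, sub_add_cancel]
  rw [h8]
  exact Submodule.add_mem _ h7 (iH_stable e hHtm ⟨z, rfl⟩)

/-- A simple module carries at most one idempotent. -/
theorem Qe_unique (c : Cfg p P N H g) [Fintype H] {e e' : GA k H} (hec : IsCl e)
    (hee : e' * e = 0) {V : Type w} [AddCommGroup V] [Module k V] [Module (GA k G) V]
    [IsScalarTower k (GA k G) V] [IsSimpleModule (GA k G) V]
    (h1 : Qe P (iH H e) V) (h2 : Qe P (iH H e') V) : False := by
  have hHfx : ∀ h ∈ H, ∀ u ∈ fx k V P, gl k h u ∈ fx k V P := fun h hh u hu =>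
    gl_fx k (c.nrm ▸ c.HN hh) hu
  have hHtm : ∀ h ∈ H, ∀ u ∈ tm k V P, gl k h u ∈ tm k V P := fun h hh u hu =>
    gl_tm k (c.nrm ▸ c.HN hh) hu
  let E : V →ₗ[k] V :=
    { toFun := fun v => iH H e • v
      map_add' := smul_add _
      map_smul' := fun a v => smul_algebra_smul_comm a _ v }
  have hE : ∀ v, E v = iH H e • v := fun _ => rfl
  set U := tm k V P ⊔ (fx k V P).map E with hU
  obtain ⟨v, hv, hev⟩ := h1
  obtain ⟨v', hv', hev'⟩ := h2
  have hUf : U ≤ fx k V P := by
    refine sup_le (tm_le_fx k P) ?_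
    rintro _ ⟨w, hw, rfl⟩
    exact iH_stable e hHfx hw
  have h3 : fx k V P ≤ U := by
    refine lemma_A c U le_sup_left ?_ hUf ?_
    · intro h
      exact hev (h (Submodule.mem_sup_right ⟨v, hv, rfl⟩))
    · intro n hn u hu
      obtain ⟨h, hh, x, hx, rfl⟩ := c.fac n hn
      rw [gl_mul, (hUf hu) x hx]
      obtain ⟨t, ht, s, ⟨w, hw, rfl⟩, rfl⟩ := Submodule.mem_sup.1 hu
      rw [map_add]
      refine Submodule.add_mem_sup (hHtm h hh t ht) ⟨gl k h w, hHfx h hh w hw, ?_⟩
      rw [hE, hE, iH_comm hec hh]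
  apply hev'
  obtain ⟨t, ht, s, ⟨w, hw, rfl⟩, hts⟩ := Submodule.mem_sup.1 (h3 hv')
  rw [← hts, smul_add, hE, smul_smul, ← iH_mul, hee]
  have h4 : iH H (0 : GA k H) = 0 := by
    rw [iH]
    exact Finset.sum_eq_zero (fun h _ => by rw [ga_zero, zero_smul])
  rw [h4, zero_smul, add_zero]
  exact iH_stable e' hHtm ht

/-- Transport along a bijective linear map. -/
theorem Qe_transport {e : GA k G} {V : Type w} [AddCommGroup V] [Module k V] [Module (GA k G) V]
    [IsScalarTower k (GA k G) V] {W : Type w} [AddCommGroup W] [Module k W] [Module (GA k G) W]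
    [IsScalarTower k (GA k G) W] (φ : V →ₗ[GA k G] W)
    (hφ : Function.Bijective φ) (h : Qe P e V) : Qe P e W := by
  obtain ⟨v, hv, hev⟩ := h
  refine ⟨φ v, fun x hx => ?_, ?_⟩
  · rw [← A_gl φ, hv x hx]
  · rintro ⟨w, hw⟩
    obtain ⟨u, rfl⟩ := hφ.2 w
    apply hev
    refine ⟨u, hφ.1 ?_⟩
    rw [map_smul, ← hw, nm_apply, nm_apply, map_sum]
    exact Finset.sum_congr rfl (fun x _ => A_gl φ _ _)

variable (k) in
/-- The permutation module on the cosets of `P`. -/
noncomputable def perm (P : Subgroup G) : Submodule (GA k G) (GA k G) where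
  carrier := {a | ∀ x ∈ P, a * sg x = a}
  add_mem' := fun {a b} ha hb x hx => by rw [add_mul, ha x hx, hb x hx]
  zero_mem' := fun x _ => zero_mul _
  smul_mem' := fun c a ha x hx => by rw [smul_eq_mul, mul_assoc, ha x hx]

instance : FiniteDimensional k (GA k G) :=
  FiniteDimensional.of_injective
    ({ toFun := fun a => a.fn, map_add' := fun _ _ => rfl, map_smul' := fun _ _ => rfl } :
      GA k G →ₗ[k] (G → k)) (fun a b h => GA.ext (fun g => congrFun h g))

variable (k) in
/-- The permutation module, bundled. -/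
noncomputable def permM (P : Subgroup G) : FMod.{u, v, max u v} k G :=
  haveI : FiniteDimensional k (perm k P) :=
    FiniteDimensional.of_injective ((perm k P).subtype.restrictScalars k) Subtype.val_injective
  { V := perm k P }

theorem Qe_perm (c : Cfg p P N H g) [Fintype H] {e : GA k H} (he : e ≠ 0) :
    Qe P (iH H e) (perm k P) := by
  classical
  cases nonempty_fintype G
  obtain ⟨h₁, hh₁⟩ : ∃ h : H, e h ≠ 0 := by
    by_contra hn
    push Not at hn
    exact he (GA.ext hn)
  -- disjointness of `H` and `P`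
  have hHP : ∀ x ∈ H, x ∈ P → x = 1 := by
    intro x hx hxP
    have h1 : orderOf x ∣ Nat.card H := by
      have := orderOf_dvd_natCard (⟨x, hx⟩ : H)
      rwa [Subgroup.orderOf_mk] at this
    have h2 : orderOf x ∣ Nat.card P := by
      have := orderOf_dvd_natCard (⟨x, hxP⟩ : P)
      rwa [Subgroup.orderOf_mk] at this
    have h3 : Nat.card P = p := by rw [c.gen, Nat.card_zpowers, c.ord]
    rw [h3] at h2
    rcases (Nat.dvd_prime (Fact.out : p.Prime)).1 h2 with h4 | h4
    · exact orderOf_eq_one_iff.1 h4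
    · exact absurd (h4 ▸ h1) c.Hp
  set σ : GA k G := ⟨fun x => if x ∈ P then 1 else 0⟩ with hσ
  have hσv : ∀ x, σ x = if x ∈ P then 1 else 0 := fun _ => rfl
  have hσm : σ ∈ perm k P := by
    intro x hx
    ext y
    rw [mul_sg_apply, hσv, hσv]
    refine if_congr ?_ rfl rfl
    rw [P.mul_mem_cancel_right (P.inv_mem hx)]
  refine ⟨⟨σ, hσm⟩, ?_, ?_⟩
  · intro x hx
    refine Subtype.ext ?_
    change (sg x : GA k G) * σ = σ
    ext y
    rw [sg_mul_apply, hσv, hσv]
    refine if_congr ?_ rfl rfl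
    rw [P.mul_mem_cancel_left (P.inv_mem hx)]
  · rintro ⟨⟨a, ha⟩, hw⟩
    have h1 : (∑ x : P, (sg (x : G) : GA k G) * a) = iH H e * σ := by
      have h2 := congrArg (fun y : perm k P => (y.1 : GA k G)) hw
      refine Eq.trans ?_ h2
      change _ = ((nm k P (⟨a, ha⟩ : perm k P)).1 : GA k G)
      rw [nm_apply]
      have h3 : ∀ s : Finset P, ((∑ x ∈ s, gl k (x : G) (⟨a, ha⟩ : perm k P) : perm k P).1 :
          GA k G) = ∑ x ∈ s, (sg (x : G) : GA k G) * a := by
        intro s
        induction s using Finset.induction_on with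
        | empty => rfl
        | insert x s hx ih =>
          rw [Finset.sum_insert hx, Finset.sum_insert hx, ← ih]
          rfl
      exact (h3 Finset.univ).symm
    have h2 : (∑ x : P, (sg (x : G) : GA k G) * a) (h₁ : G) = (iH H e * σ) (h₁ : G) := by rw [h1]
    -- the left side vanishes
    have hL : (∑ x : P, (sg (x : G) : GA k G) * a) (h₁ : G) = 0 := by
      rw [ga_sum]
      have h3 : ∀ x : P, ((sg (x : G) : GA k G) * a) (h₁ : G) = a (h₁ : G) := by
        intro x
        rw [sg_mul_apply]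
        have hn : (h₁ : G) ∈ Subgroup.normalizer (P : Set G) := c.nrm ▸ c.HN h₁.2
        have hm : (h₁ : G)⁻¹ * (x : G) * h₁ ∈ P := by
          have := (norm_iff.1 (Subgroup.inv_mem _ hn) x).1 x.2
          rwa [inv_inv] at this
        have h4 := ha _ hm
        have h5 : (a * sg ((h₁ : G)⁻¹ * (x : G) * h₁) : GA k G) (h₁ : G) = a (h₁ : G) := by rw [h4]
        rw [mul_sg_apply] at h5
        rw [← h5]
        congr 1
        group
      rw [Finset.sum_congr rfl (fun x _ => h3 x), Finset.sum_const, Finset.card_univ,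
        ← Nat.card_eq_fintype_card, c.gen, Nat.card_zpowers, c.ord, ← Nat.cast_smul_eq_nsmul k,
        CharP.cast_eq_zero, zero_smul]
    have hR : (iH H e * σ) (h₁ : G) = e h₁ := by
      rw [iH, Finset.sum_mul, ga_sum, Finset.sum_eq_single h₁]
      · rw [smul_mul_assoc, ga_smul, sg_mul_apply, hσv, inv_mul_cancel, if_pos P.one_mem, mul_one]
      · intro h _ hne
        rw [smul_mul_assoc, ga_smul, sg_mul_apply, hσv, if_neg, mul_zero]
        intro hm
        apply hne
        have h5 := hHP ((h : G)⁻¹ * h₁) (H.mul_mem (H.inv_mem h.2) h₁.2) hm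
        exact Subtype.ext (inv_mul_eq_one.1 h5)
      · intro h; exact absurd (Finset.mem_univ _) h
    rw [hL, hR] at h2
    exact hh₁ h2.symm

/-- Every nonzero central idempotent of the complement occurs on a simple module. -/
theorem exists_Qe (c : Cfg p P N H g) [Fintype H] {e : GA k H} (he : e ≠ 0) (hee : e * e = e) :
    ∃ S : FMod.{u, v, max u v} k G, IsSimpleModule (GA k G) S.V ∧ Qe P (iH H e) S.V := by
  refine exists_simple (fun V : FMod.{u, v, max u v} k G => Qe P (iH H e) V.V)
    (fun V W hV => Qe_half c hee W hV) ?_ _ (permM k P) rfl (Qe_perm c he)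
  rintro V ⟨v, hv, hev⟩
  by_contra hn
  rw [not_nontrivial_iff_subsingleton] at hn
  apply hev
  rw [Subsingleton.elim (iH H e • v) 0]
  exact Submodule.zero_mem _

end Qe

end Cfsg.Agent.Lib.BlkH7D
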