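import Cfsg.Agent.Lib.BlockRey
import Cfsg.Agent.Lib.BlockKB
import Cfsg.Agent.Lib.BlockLar
import Cfsg.Agent.Lib.BlockMaxB
import Cfsg.Agent.Lib.BlockIndIn
import Cfsg.Agent.Lib.BlockBFM

import Cfsg.Agent.Lib.BlkH7A
import Cfsg.Agent.Lib.BlkH7B
import Cfsg.Agent.Lib.BlkH7C
import Cfsg.Agent.Lib.BlkH7D

/-!
Traces of simple modules.
-/

set_option autoImplicit false
set_option linter.style.haveILetI false
set_option linter.unusedVariables false
set_option linter.unusedSectionVars false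
set_option linter.unusedDecidableInType false
set_option linter.unusedFintypeInType false
set_option linter.unusedSimpArgs false

namespace Cfsg.Agent.Lib.BlkH7E
open Cfsg Cfsg.Agent.Lib.BlockLoc Cfsg.Agent.Lib.BlockGA Cfsg.Agent.Lib.CharBasic
open Cfsg.Agent.Lib.BlockIdem Cfsg.Agent.Lib.BlockPP Cfsg.Agent.Lib.BlockOrth
open Cfsg.Agent.Lib.BlockRed Cfsg.Agent.Lib.BlockDef Cfsg.Agent.Lib.BlockDeg
open Cfsg.Agent.Lib.BlockNP Cfsg.Agent.Lib.BlockInd Cfsg.Agent.Lib.BlockSecond
open Cfsg.Agent.Lib.BlockFirst Cfsg.Agent.Lib.BlockHt Cfsg.Agent.Lib.BlockM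
open Cfsg.Agent.Lib.BlockCov Cfsg.Agent.Lib.BlockQuot Cfsg.Agent.Lib.CharKer
open Cfsg.Agent.Lib.BlockQuotB Cfsg.Agent.Lib.BlockMore Cfsg.Agent.Lib.BlockMoreB
open Cfsg.Agent.Lib.BlockTr Cfsg.Agent.Lib.CharNormal Cfsg.Agent.Lib.BlockCovB
open Cfsg.Agent.Lib.BlockBP Cfsg.Agent.Lib.BlockInt Cfsg.Agent.Lib.BlockSum Cfsg.Agent.Lib.BlockRk
open Cfsg.Agent.Lib.BlockFusB Cfsg.Agent.Lib.BlockMax Cfsg.Agent.Lib.CharSplit Cfsg.Agent.Lib.CharBrauer
open Cfsg.Agent.Lib.CharInd Cfsg.Agent.Lib.BlockPC Cfsg.Agent.Lib.BlockPair Cfsg.Agent.Lib.BlockPairB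
open Cfsg.Agent.Lib.BlockPairC Cfsg.Agent.Lib.BlockPairD Cfsg.Agent.Lib.BlockPairE
open Cfsg.Agent.Lib.BlockRey Cfsg.Agent.Lib.BlockPairF Cfsg.Agent.Lib.BlockFus Cfsg.Agent.Lib.BlockNilB Cfsg.Agent.Lib.BlockNil Cfsg.Agent.Lib.CharClifford
open Cfsg.Agent.Lib.BlockKB Cfsg.Agent.Lib.BlockLar Cfsg.Agent.Lib.BlockMaxB Cfsg.Agent.Lib.BlockIndIn Cfsg.Agent.Lib.BlockBFM
open Cfsg.Agent.Lib.BlkH7A Cfsg.Agent.Lib.BlkH7B Cfsg.Agent.Lib.BlkH7C Cfsg.Agent.Lib.BlkH7D
open scoped ComplexConjugate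


section AC

variable {p : ℕ} {M : Ideal AlgInt}

/-- The reduction map on algebraic integers. -/
noncomputable def phiA (hM : IsPModular p M) : AlgInt →+* ResF hM :=
  (Ideal.Quotient.mk (locMax hM)).comp
    { toFun := fun a => ⟨(a : ℂ), loc_of_algInt hM a⟩
      map_one' := rfl
      map_mul' := fun _ _ => rfl
      map_zero' := rfl
      map_add' := fun _ _ => rfl }

theorem phiA_surj (hM : IsPModular p M) : Function.Surjective (phiA hM) := by
  intro x
  obtain ⟨⟨z, a, b, hb, rfl⟩, rfl⟩ := Ideal.Quotient.mk_surjective x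
  obtain ⟨c, i, hi, hc⟩ := hM.2.1.exists_inv hb
  refine ⟨a * c, ?_⟩
  have hb0 : (b : ℂ) ≠ 0 := coe_ne_zero_of_not_mem b hb
  have h1 : ((c : ℂ) * b + i) = 1 := by
    have := congrArg (fun y : AlgInt => (y : ℂ)) hc
    simpa using this
  change Ideal.Quotient.mk (locMax hM) _ = _
  rw [Ideal.Quotient.eq, mem_locMax]
  refine ⟨-(a * i), b, M.neg_mem (M.mul_mem_left _ hi), hb, ?_⟩
  change ((-(a * i) : AlgInt) : ℂ) / (b : ℂ) = ((a * c : AlgInt) : ℂ) - (a : ℂ) / (b : ℂ)
  push_cast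
  field_simp
  linear_combination (-(a : ℂ)) * h1

instance instACResF (hM : IsPModular p M) : IsAlgClosed (ResF hM) := by
  refine IsAlgClosed.of_exists_root _ (fun f hf hirr => ?_)
  have h1 : f ∈ Polynomial.lifts (phiA hM) := by
    rw [Polynomial.lifts_iff_coeff_lifts]
    exact fun n => phiA_surj hM _
  obtain ⟨q, hq1, hq2, hq3⟩ := Polynomial.lifts_and_natDegree_eq_and_monic h1 hf
  have hdeg : (q.map (algebraMap AlgInt ℂ)).degree ≠ 0 := by
    rw [hq3.degree_map, Polynomial.degree_eq_natDegree hq3.ne_zero, hq2]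
    have := hirr.natDegree_pos
    exact_mod_cast this.ne'
  obtain ⟨z, hz⟩ := IsAlgClosed.exists_root _ hdeg
  have hz' : Polynomial.eval₂ (algebraMap AlgInt ℂ) z q = 0 := by
    rw [Polynomial.eval₂_eq_eval_map]; exact hz
  have hint : IsIntegral AlgInt z := ⟨q, hq3, hz'⟩
  have hint2 : IsIntegral ℤ z := isIntegral_trans (R := ℤ) (A := AlgInt) z hint
  let w : AlgInt := ⟨z, hint2⟩
  have hw : Polynomial.eval w q = 0 := by
    apply Subtype.val_injective
    have h2 : ((Polynomial.eval w q : AlgInt) : ℂ) = Polynomial.eval₂ (algebraMap AlgInt ℂ) z q := by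
      exact (Polynomial.hom_eval₂ q (RingHom.id AlgInt) (algebraMap AlgInt ℂ) w)
    rw [h2, hz']
    rfl
  refine ⟨phiA hM w, ?_⟩
  rw [← hq1, Polynomial.eval_map, Polynomial.eval₂_at_apply, hw, map_zero]

end AC

section Trc

universe u v w

variable {k : Type u} [Field k] {p : ℕ} [Fact p.Prime] [CharP k p] {G : Type v} [Group G] [Finite G]

/-- The trace function of a module. -/
noncomputable def trc (V : Type w) [AddCommGroup V] [Module k V] [Module (GA k G) V]
    [IsScalarTower k (GA k G) V] (g : G) : k := LinearMap.trace k V (gl k g)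

variable {V : Type w} [AddCommGroup V] [Module k V] [Module (GA k G) V]
    [IsScalarTower k (GA k G) V]

theorem gl_mul' (g h : G) : (gl k (g * h) : V →ₗ[k] V) = gl k g * gl k h :=
  LinearMap.ext (fun v => gl_mul k g h v)

theorem gl_one' : (gl k (1 : G) : V →ₗ[k] V) = 1 := LinearMap.ext (fun v => gl_one k v)

theorem trc_conj (g x : G) : trc (k := k) V (x * g * x⁻¹) = trc (k := k) V g := by
  rw [trc, trc, gl_mul', LinearMap.trace_mul_comm, ← gl_mul', inv_mul_cancel_left]

theorem gl_pow' (g : G) (n : ℕ) : (gl k (g ^ n) : V →ₗ[k] V) = (gl k g) ^ n :=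
  LinearMap.ext (fun v => gl_pow g n v)

theorem trc_pq (g : G) : trc (k := k) V g = trc (k := k) V (pq p g) := by
  have hp := (Fact.out : p.Prime)
  obtain ⟨n, hn⟩ : ∃ n : ℕ, orderOf (pp p g) = p ^ n := by
    obtain ⟨_, _, _, h4, _⟩ := isPPart_pp hp g
    exact h4
  have h1 : ((gl k (pp p g) : V →ₗ[k] V) - 1) ^ (p ^ n) = 0 := by
    have h2 : ((Polynomial.X - 1 : Polynomial k)) ^ (p ^ n) = Polynomial.X ^ (p ^ n) - 1 := by
      rw [sub_pow_char_pow, one_pow]
    have h3 := congrArg (Polynomial.aeval (gl k (pp p g) : Module.End k V)) h2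
    rw [map_pow, map_sub, Polynomial.aeval_X, map_one, map_sub, map_pow, Polynomial.aeval_X,
      map_one, ← gl_pow', ← hn, pow_orderOf_eq_one, gl_one', sub_self, hn] at h3
    exact h3
  have hc : Commute ((gl k (pp p g) : V →ₗ[k] V) - 1) (gl k (pq p g)) := by
    refine Commute.sub_left ?_ (Commute.one_left _)
    change gl k (pp p g) * gl k (pq p g) = gl k (pq p g) * gl k (pp p g)
    rw [← gl_mul', ← gl_mul', (pp_commute_pq p g).eq]
  have h4 : IsNilpotent (((gl k (pp p g) : V →ₗ[k] V) - 1) * gl k (pq p g)) :=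
    hc.isNilpotent_mul_right ⟨_, h1⟩
  have h5 : (gl k g : V →ₗ[k] V) = ((gl k (pp p g) : V →ₗ[k] V) - 1) * gl k (pq p g) +
      gl k (pq p g) := by
    rw [sub_mul, one_mul, sub_add_cancel, ← gl_mul', pp_mul_pq]
  have h6 := LinearMap.isNilpotent_trace_of_isNilpotent (R := k) (M := V) h4
  rw [trc, trc, h5, map_add, h6.eq_zero, zero_add]

/-- Density: an element acting with prescribed traces. -/
theorem exists_trc [IsAlgClosed k] {ι : Type*} [Fintype ι] [DecidableEq ι] (S : ι → FMod.{u, v, w} k G)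
    [∀ i, IsSimpleModule (GA k G) (S i).V]
    (hne : ∀ i j, i ≠ j → ∀ φ : (S i).V →ₗ[GA k G] (S j).V, φ = 0) (i₀ : ι) [Fintype G] :
    ∃ r : GA k G, ∀ i, ∑ g, r g * trc (k := k) (S i).V g = if i = i₀ then 1 else 0 := by
  classical
  -- a map of trace one on `S i₀`
  haveI : Nontrivial (S i₀).V := IsSimpleModule.nontrivial (GA k G) (S i₀).V
  obtain ⟨x₀, hx₀⟩ := exists_ne (0 : (S i₀).V)
  obtain ⟨φ₀, hφ₀⟩ : ∃ φ : Module.Dual k (S i₀).V, φ x₀ = 1 := by
    have h1 : ¬ ∀ φ : Module.Dual k (S i₀).V, φ x₀ = 0 := fun h =>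
      hx₀ ((Module.forall_dual_apply_eq_zero_iff k x₀).1 h)
    push Not at h1
    obtain ⟨φ, hφ⟩ := h1
    exact ⟨(φ x₀)⁻¹ • φ, by rw [LinearMap.smul_apply, smul_eq_mul, inv_mul_cancel₀ hφ]⟩
  let E : (S i₀).V →ₗ[k] (S i₀).V := φ₀.smulRight x₀
  have hE : LinearMap.trace k (S i₀).V E = 1 := by
    rw [LinearMap.trace_smulRight, hφ₀]
  -- the structure of endomorphisms of the sum
  have hend : ∀ Ψ : Module.End (GA k G) (∀ i, (S i).V), ∃ c : ι → k, ∀ m i, Ψ m i = c i • m i := by
    intro Ψ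
    have h1 : ∀ i, ∃ c : k, ∀ x : (S i).V, Ψ (Pi.single i x) i = c • x := by
      intro i
      let ψ : Module.End (GA k G) (S i).V :=
        (LinearMap.proj i) ∘ₗ Ψ ∘ₗ (LinearMap.single (GA k G) (fun i => (S i).V) i)
      obtain ⟨c, hc⟩ := (IsSimpleModule.algebraMap_end_bijective_of_isAlgClosed
        (A := GA k G) (V := (S i).V) k).2 ψ
      refine ⟨c, fun x => ?_⟩
      have h2 := LinearMap.congr_fun hc x
      exact h2.symm
    choose c hc using h1
    refine ⟨c, fun m i => ?_⟩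
    have h3 : m = ∑ j, Pi.single j (m j) := (Finset.univ_sum_single m).symm
    conv_lhs => rw [h3]
    rw [map_sum, Finset.sum_apply, Finset.sum_eq_single i]
    · exact hc i (m i)
    · intro j _ hji
      let ψ : (S j).V →ₗ[GA k G] (S i).V :=
        (LinearMap.proj i) ∘ₗ Ψ ∘ₗ (LinearMap.single (GA k G) (fun i => (S i).V) j)
      have h4 := hne j i hji ψ
      exact LinearMap.congr_fun h4 (m j)
    · intro h; exact absurd (Finset.mem_univ _) h
  let f : Module.End (Module.End (GA k G) (∀ i, (S i).V)) (∀ i, (S i).V) :=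
    { toFun := fun m => Pi.single i₀ (E (m i₀))
      map_add' := fun a b => by
        rw [Pi.add_apply, map_add, Pi.single_add]
      map_smul' := fun Ψ m => by
        obtain ⟨c, hc⟩ := hend Ψ
        change Pi.single i₀ (E (Ψ m i₀)) = Ψ (Pi.single i₀ (E (m i₀)))
        funext i
        rw [hc, hc]
        by_cases h : i = i₀
        · subst h
          rw [Pi.single_eq_same, Pi.single_eq_same, map_smul]
        · rw [Pi.single_eq_of_ne h, Pi.single_eq_of_ne h, smul_zero] }
  obtain ⟨s, hs⟩ := (Module.Finite.fg_top : (⊤ : Submodule k (∀ i, (S i).V)).FG)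
  obtain ⟨r, hr⟩ := jacobson_density f s
  have hall : ∀ m : ∀ i, (S i).V, r • m = Pi.single i₀ (E (m i₀)) := by
    intro m
    have hm : m ∈ Submodule.span k (s : Set (∀ i, (S i).V)) := by rw [hs]; trivial
    induction hm using Submodule.span_induction with
    | mem x hx => exact (hr x hx).symm
    | zero => rw [smul_zero, Pi.zero_apply, map_zero, Pi.single_zero]
    | add x y _ _ hx hy => rw [smul_add, hx, hy, Pi.add_apply, map_add, Pi.single_add]
    | smul a x _ hx =>
      rw [smul_algebra_smul_comm, hx, Pi.smul_apply, map_smul, Pi.single_smul]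
  have hact : ∀ i (x : (S i).V), r • x = (Pi.single i₀ (E ((Pi.single i x : ∀ i, (S i).V) i₀)) :
      ∀ i, (S i).V) i := by
    intro i x
    have h1 := congrFun (hall (Pi.single i x)) i
    rw [Pi.smul_apply, Pi.single_eq_same] at h1
    exact h1
  refine ⟨r, fun i => ?_⟩
  have h2 : ∑ g, r g * trc (k := k) (S i).V g =
      LinearMap.trace k (S i).V (∑ g, r g • (gl k g : (S i).V →ₗ[k] (S i).V)) := by
    rw [map_sum]
    refine Finset.sum_congr rfl (fun g _ => ?_)
    rw [map_smul, smul_eq_mul]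
    rfl
  rw [h2]
  have h3 : ∀ x : (S i).V, (∑ g, r g • (gl k g : (S i).V →ₗ[k] (S i).V)) x = r • x := by
    intro x
    rw [LinearMap.sum_apply, smul_eq_sum k]
    rfl
  split_ifs with h
  · subst h
    rw [← hE]
    congr 1
    ext x
    rw [h3, hact, Pi.single_eq_same, Pi.single_eq_same]
  · have h4 : (∑ g, r g • (gl k g : (S i).V →ₗ[k] (S i).V)) = 0 := by
      ext x
      rw [h3, hact, Pi.single_eq_of_ne h, LinearMap.zero_apply]
    rw [h4, map_zero]

/-- The classes of `p`-regular elements. -/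
def PRC (p : ℕ) (G : Type v) [Group G] : Type v :=
  {c : ConjClasses G // ∃ g, ConjClasses.mk g = c ∧ ¬ p ∣ orderOf g}

instance : Finite (PRC p G) := by
  unfold PRC; infer_instance

/-- The number of simple modules is at most the number of classes of `p`-regular elements. -/
theorem card_simple_le [IsAlgClosed k] {ι : Type*} [Finite ι] (S : ι → FMod.{u, v, w} k G)
    (hs : ∀ i, IsSimpleModule (GA k G) (S i).V)
    (hne : ∀ i j, i ≠ j → ∀ φ : (S i).V →ₗ[GA k G] (S j).V, φ = 0) :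
    Nat.card ι ≤ Nat.card (PRC p G) := by
  classical
  cases nonempty_fintype G
  haveI : Fintype ι := Fintype.ofFinite _
  haveI : Fintype (PRC p G) := Fintype.ofFinite _
  haveI := hs
  have hp := (Fact.out : p.Prime)
  have hli : LinearIndependent k (fun i : ι => fun c : PRC p G => trc (k := k) (S i).V c.2.choose) := by
    rw [Fintype.linearIndependent_iff]
    intro a ha i₀
    obtain ⟨r, hr⟩ := exists_trc S hne i₀
    have h1 : ∀ g : G, ∑ i, a i * trc (k := k) (S i).V g = 0 := by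
      intro g
      have hreg : ¬ p ∣ orderOf (pq p g) := not_dvd_orderOf_pq hp g
      let c : PRC p G := ⟨ConjClasses.mk (pq p g), pq p g, rfl, hreg⟩
      have h2 : IsConj (pq p g) c.2.choose := by
        rw [← ConjClasses.mk_eq_mk_iff_isConj]
        exact (c.2.choose_spec.1).symm
      obtain ⟨x, hx⟩ := isConj_iff.1 h2
      have h3 := congrFun ha c
      rw [Finset.sum_apply] at h3
      rw [Pi.zero_apply] at h3
      rw [← h3]
      refine Finset.sum_congr rfl (fun i _ => ?_)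
      rw [Pi.smul_apply, smul_eq_mul, ← hx, trc_conj, trc_pq (p := p) g]
    have h2 : ∑ i, a i * ∑ g, r g * trc (k := k) (S i).V g = 0 := by
      have h3 : ∑ i, a i * ∑ g, r g * trc (k := k) (S i).V g =
          ∑ g, r g * ∑ i, a i * trc (k := k) (S i).V g := by
        simp only [Finset.mul_sum]
        rw [Finset.sum_comm]
        refine Finset.sum_congr rfl (fun g _ => Finset.sum_congr rfl (fun i _ => ?_))
        ring
      rw [h3]
      exact Finset.sum_eq_zero (fun g _ => by rw [h1, mul_zero])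
    simp only [hr, mul_ite, mul_one, mul_zero] at h2
    rwa [Finset.sum_ite_eq', if_pos (Finset.mem_univ _)] at h2
  have h1 := hli.fintype_card_le_finrank
  rw [Module.finrank_fintype_fun_eq_card] at h1
  rw [Nat.card_eq_fintype_card, Nat.card_eq_fintype_card]
  exact h1

end Trc

end Cfsg.Agent.Lib.BlkH7E
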