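import Cfsg.Agent.Lib.BlockRey
import Cfsg.Agent.Lib.BlockKB
import Cfsg.Agent.Lib.BlockLar
import Cfsg.Agent.Lib.BlockMaxB
import Cfsg.Agent.Lib.BlockIndIn
import Cfsg.Agent.Lib.BlockBFM

import Cfsg.Agent.Lib.BlkH7A
import Cfsg.Agent.Lib.BlkH7B
import Cfsg.Agent.Lib.BlkH7C
import Cfsg.Agent.Lib.BlkH7D
import Cfsg.Agent.Lib.BlkH7E

/-!
Counting simple modules.
-/

set_option autoImplicit false
set_option linter.style.haveILetI false
set_option linter.unusedVariables false
set_option linter.unusedSectionVars false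
set_option linter.unusedDecidableInType false
set_option linter.unusedFintypeInType false
set_option linter.unusedSimpArgs false

namespace Cfsg.Agent.Lib.BlkH7F
open Cfsg Cfsg.Agent.Lib.BlockLoc Cfsg.Agent.Lib.BlockGA Cfsg.Agent.Lib.CharBasic
open Cfsg.Agent.Lib.BlockIdem Cfsg.Agent.Lib.BlockPP Cfsg.Agent.Lib.BlockOrth
open Cfsg.Agent.Lib.BlockRed Cfsg.Agent.Lib.BlockDef Cfsg.Agent.Lib.BlockDeg
open Cfsg.Agent.Lib.BlockNP Cfsg.Agent.Lib.BlockInd Cfsg.Agent.Lib.BlockSecond
open Cfsg.Agent.Lib.BlockFirst Cfsg.Agent.Lib.BlockHt Cfsg.Agent.Lib.BlockM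
open Cfsg.Agent.Lib.BlockCov Cfsg.Agent.Lib.BlockQuot Cfsg.Agent.Lib.CharKer
open Cfsg.Agent.Lib.BlockQuotB Cfsg.Agent.Lib.BlockMore Cfsg.Agent.Lib.BlockMoreB
open Cfsg.Agent.Lib.BlockTr Cfsg.Agent.Lib.CharNormal Cfsg.Agent.Lib.BlockCovB
open Cfsg.Agent.Lib.BlockBP Cfsg.Agent.Lib.BlockInt Cfsg.Agent.Lib.BlockSum Cfsg.Agent.Lib.BlockRk
open Cfsg.Agent.Lib.BlockFusB Cfsg.Agent.Lib.BlockMax Cfsg.Agent.Lib.CharSplit Cfsg.Agent.Lib.CharBrauer
open Cfsg.Agent.Lib.CharInd Cfsg.Agent.Lib.BlockPC Cfsg.Agent.Lib.BlockPair Cfsg.Agent.Lib.BlockPairB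
open Cfsg.Agent.Lib.BlockPairC Cfsg.Agent.Lib.BlockPairD Cfsg.Agent.Lib.BlockPairE
open Cfsg.Agent.Lib.BlockRey Cfsg.Agent.Lib.BlockPairF Cfsg.Agent.Lib.BlockFus Cfsg.Agent.Lib.BlockNilB Cfsg.Agent.Lib.BlockNil Cfsg.Agent.Lib.CharClifford
open Cfsg.Agent.Lib.BlockKB Cfsg.Agent.Lib.BlockLar Cfsg.Agent.Lib.BlockMaxB Cfsg.Agent.Lib.BlockIndIn Cfsg.Agent.Lib.BlockBFM
open Cfsg.Agent.Lib.BlkH7A Cfsg.Agent.Lib.BlkH7B Cfsg.Agent.Lib.BlkH7C Cfsg.Agent.Lib.BlkH7D Cfsg.Agent.Lib.BlkH7E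
open scoped ComplexConjugate


section DZ

universe v w

variable {p : ℕ} {M : Ideal AlgInt} {G : Type v} [Group G] [Finite G]

/-- Characters of defect zero. -/
def DZ (p : ℕ) (G : Type v) [Group G] [Finite G] : Type v :=
  {χ : IrrCharacter G // (charDegree χ.1).factorization p = (Nat.card G).factorization p}

instance : Finite (DZ p G) := by unfold DZ; infer_instance

theorem dz_block (hM : IsPModular p M) (χ : DZ p G) : IsPBlock M ({χ.1} : Set (IrrCharacter G)) :=
  ⟨χ.1, (singleton_of_defect_zero hM χ.2).symm⟩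

theorem eF_ne_zero' (hM : IsPModular p M) {B : Set (IrrCharacter G)} (hB : IsPBlock M B) :
    eF hM B ≠ 0 := by
  intro h
  obtain ⟨χ, hχ⟩ := block_nonempty hM hB
  have h1 := lam_eF_mem hM (isLoc_eB hM hB) hχ
  rw [h, lam_zero hM χ.2] at h1
  exact zero_ne_one h1

theorem eF_orth (hM : IsPModular p M) {B B' : Set (IrrCharacter G)} (hB : IsPBlock M B)
    (hB' : IsPBlock M B') (hd : Disjoint B B') : eF hM B * eF hM B' = 0 := by
  rw [eF_mul_eF hM (isLoc_eB hM hB) (isLoc_eB hM hB'), Set.disjoint_iff_inter_eq_empty.1 hd, eF,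
    eB_empty, rd_zero]

theorem dz_defect (hM : IsPModular p M) (χ : DZ p G) :
    blockDefect p ({χ.1} : Set (IrrCharacter G)) = 0 := by
  rw [blockDefect, Set.image_singleton, csInf_singleton, χ.2, Nat.sub_self]

theorem dz_supp (hM : IsPModular p M) (χ : DZ p G) {g : G} (hg : (eF hM {χ.1}) g ≠ 0)
    {u : G} (hu : orderOf u = p) (hc : Commute u g) : False := by
  obtain ⟨D, hD⟩ := exists_defectGroup hM (dz_block hM χ)
  have h1 := card_defectGroup hM (dz_block hM χ) hD
  rw [dz_defect hM χ, pow_zero] at h1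
  have h2 : IsPGroup p (Subgroup.zpowers u) :=
    (isPGroup_zpowers_iff hM.1 u).2 ⟨1, by rw [hu, pow_one]⟩
  obtain ⟨x, hx⟩ := defLe_of_eF_ne_zero hM (dz_block hM χ) hD hg h2 (by
    rintro _ ⟨n, rfl⟩
    exact hc.zpow_left n)
  have h3 := hx u (Subgroup.mem_zpowers u)
  have h4 : D = ⊥ := Subgroup.card_eq_one.1 h1
  rw [h4, Subgroup.mem_bot] at h3
  have h5 : u = 1 := conj_eq_one_iff.1 h3
  rw [h5, orderOf_one] at hu
  exact hM.1.one_lt.ne hu

/-- A simple module in a block of defect zero. -/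
theorem dz_simple (hM : IsPModular p M) (χ : DZ p G) :
    ∃ S : FMod.{0, v, v} (ResF hM) G, IsSimpleModule (GA (ResF hM) G) S.V ∧
      ∀ s : S.V, eF hM {χ.1} • s = s := by
  set e := eF hM ({χ.1} : Set (IrrCharacter G)) with he
  have hee : e * e = e := eF_idem hM (isLoc_eB hM (dz_block hM χ))
  have hcl : IsCl e := eF_isCl hM _
  have hne : e ≠ 0 := eF_ne_zero' hM (dz_block hM χ)
  obtain ⟨S, hS, v, hv⟩ := exists_simple (fun V : FMod.{0, v, v} (ResF hM) G =>
    ∃ v : V.V, e • v ≠ 0) (fun V W hV => by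
      by_contra hn
      rw [not_or] at hn
      obtain ⟨h1, h2⟩ := hn
      push Not at h1 h2
      obtain ⟨v, hv⟩ := hV
      apply hv
      have h3 : e • v ∈ W := by
        have := h2 (W.mkQ v)
        have h4 : W.mkQ (e • v) = 0 := by rw [map_smul]; exact this
        exact (Submodule.Quotient.mk_eq_zero W).1 h4
      have h5 := h1 ⟨e • v, h3⟩
      have h6 : e • (e • v) = 0 := congrArg Subtype.val h5
      rwa [smul_smul, hee] at h6) (fun V hV => by
      obtain ⟨v, hv⟩ := hV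
      exact ⟨⟨_, _, hv⟩⟩) _ ({ V := GA (ResF hM) G } : FMod.{0, v, v} (ResF hM) G) rfl
      ⟨(1 : GA (ResF hM) G), by
        change e * 1 ≠ 0
        rw [mul_one]; exact hne⟩
  refine ⟨S, hS, ?_⟩
  let f : S.V →ₗ[GA (ResF hM) G] S.V :=
    { toFun := fun s => e • s
      map_add' := smul_add _
      map_smul' := fun a s => by
        rw [RingHom.id_apply, smul_smul, smul_smul, hcl.comm a] }
  haveI := hS
  rcases f.bijective_or_eq_zero with hb | hz
  · intro s
    apply hb.1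
    change e • (e • s) = e • s
    rw [smul_smul, hee]
  · exact absurd (LinearMap.congr_fun hz v) hv

theorem dz_fx (hM : IsPModular p M) [Fact p.Prime] (χ : DZ p G) {P : Subgroup G} [Fintype P]
    {g : G} (hg : orderOf g = p) (hP : P = Subgroup.zpowers g) {V : Type v} [AddCommGroup V]
    [Module (ResF hM) V] [Module (GA (ResF hM) G) V] [IsScalarTower (ResF hM) (GA (ResF hM) G) V]
    (hV : ∀ s : V, eF hM {χ.1} • s = s) : fx (ResF hM) V P ≤ tm (ResF hM) V P := by
  classical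
  cases nonempty_fintype G
  have hcP : Nat.card P = p := by rw [hP, Nat.card_zpowers, hg]
  intro v hv
  rw [← hV v, smul_eq_sum (ResF hM)]
  set e := eF hM ({χ.1} : Set (IrrCharacter G)) with he
  have hcl : IsCl e := eF_isCl hM _
  have h0 : ∑ x, e x • gl (ResF hM) x v =
      ∑ x ∈ Finset.univ.filter (fun x => e x ≠ 0), e x • gl (ResF hM) x v := by
    rw [Finset.sum_filter_of_ne]
    intro x _ hx h
    exact hx (by rw [h, zero_smul])
  rw [h0]
  letI : MulAction P G := MulAction.compHom G ((MulAut.conj : G →* MulAut G).comp P.subtype)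
  have hsm : ∀ (u : P) (x : G), u • x = (u : G) * x * (u : G)⁻¹ := fun _ _ => rfl
  refine sum_free_mem (P := P) (tm (ResF hM) V P).toAddSubgroup (fun x => e x • gl (ResF hM) x v) _
    (Finset.univ.filter (fun x => e x ≠ 0)) rfl ?_ ?_ ?_
  · intro u x hx
    rw [Finset.mem_filter] at hx ⊢
    refine ⟨Finset.mem_univ _, ?_⟩
    rw [hsm, hcl x u]
    exact hx.2
  · intro x hx u hu
    by_contra hne
    have h1 : Commute (u : G) x := by
      rw [hsm] at hu
      exact mul_inv_eq_iff_eq_mul.1 hu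
    have h2 : orderOf (u : G) = p := by
      have h3 : orderOf (u : G) ∣ Nat.card P := by
        rw [Subgroup.orderOf_coe]
        exact orderOf_dvd_natCard u
      rw [hcP] at h3
      rcases (Nat.dvd_prime hM.1).1 h3 with h4 | h4
      · exact absurd (Subtype.ext (orderOf_eq_one_iff.1 h4)) hne
      · exact h4
    exact dz_supp hM χ (Finset.mem_filter.1 hx).2 h2 h1
  · intro x _
    refine ⟨e x • gl (ResF hM) x v, ?_⟩
    rw [nm_apply]
    refine Finset.sum_congr rfl (fun u _ => ?_)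
    rw [hsm, hcl x u, map_smul, gl_mul, gl_mul, hv _ (P.inv_mem u.2)]

theorem Qe_tr {k : Type*} [Field k] {P : Subgroup G} [Fintype P] {e : GA k G}
    (S T : FMod.{_, v, w} k G) (φ : S.V →ₗ[GA k G] T.V) (hφ : Function.Bijective φ) (h : Qe P e S.V) : Qe P e T.V :=
  Qe_transport φ hφ h

theorem Qe_un {k : Type*} [Field k] [Fact p.Prime] [CharP k p] {P N H : Subgroup G} [Fintype P]
    {g : G} (c : Cfg p P N H g) [Fintype H] {e e' : GA k H} (hec : IsCl e)
    (hee : e' * e = 0) (S : FMod k G) (hS : IsSimpleModule (GA k G) S.V)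
    (h1 : Qe P (iH H e) S.V) (h2 : Qe P (iH H e') S.V) : False :=
  Qe_unique c hec hee h1 h2

/-- The count of simple modules. -/
theorem count_simple (hM : IsPModular p M) [Fact p.Prime] {P N H : Subgroup G} {g : G}
    (c : Cfg p P N H g) :
    Nat.card (IrrCharacter H) + Nat.card (DZ p G) ≤ Nat.card (PRC p G) := by
  classical
  haveI : Fintype P := Fintype.ofFinite _
  haveI : Fintype H := Fintype.ofFinite _
  have hbl : ∀ θ : IrrCharacter H, IsPBlock M ({θ} : Set (IrrCharacter H)) := fun θ =>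
    ⟨θ, (blockOf_of_not_dvd hM c.Hp θ).symm⟩
  have hex1 : ∀ θ : IrrCharacter H, ∃ S : FMod.{0, v, v} (ResF hM) G,
      IsSimpleModule (GA (ResF hM) G) S.V ∧ Qe P (iH H (eF hM {θ})) S.V := fun θ =>
    exists_Qe c (eF_ne_zero' hM (hbl θ)) (eF_idem hM (isLoc_eB hM (hbl θ)))
  have hex2 := fun χ : DZ p G => dz_simple hM χ
  choose S₁ hS₁ hQ₁ using hex1
  choose S₂ hS₂ hQ₂ using hex2
  have hno : ∀ (χ : DZ p G) (e : GA (ResF hM) H), ¬ Qe P (iH H e) (S₂ χ).V := by
    rintro χ e ⟨v, hv, hev⟩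
    apply hev
    refine iH_stable e (U := tm (ResF hM) (S₂ χ).V P) (fun h hh u hu => ?_)
      (dz_fx hM χ c.ord c.gen (hQ₂ χ) hv)
    exact gl_tm (ResF hM) (c.nrm ▸ c.HN hh) hu
  let S : IrrCharacter H ⊕ DZ p G → FMod.{0, v, v} (ResF hM) G := Sum.elim S₁ S₂
  haveI hSs : ∀ i, IsSimpleModule (GA (ResF hM) G) (S i).V := by
    intro i
    rcases i with θ | χ
    · exact hS₁ θ
    · exact hS₂ χ
  have hkey := card_simple_le (p := p) S hSs ?_
  · rwa [Nat.card_sum] at hkey
  · intro i j hij φ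
    haveI := hSs i
    haveI := hSs j
    rcases φ.bijective_or_eq_zero with hb | hz
    · exfalso
      have hb' : Function.Bijective (LinearEquiv.ofBijective φ hb).symm.toLinearMap :=
        (LinearEquiv.ofBijective φ hb).symm.bijective
      rcases i with θ | χ
      · rcases j with θ' | χ'
        · have hne : θ ≠ θ' := fun h => hij (by rw [h])
          refine Qe_un (k := ResF hM) c (e := eF hM {θ}) (e' := eF hM {θ'})
            (eF_isCl hM _)
            (eF_orth hM (hbl θ') (hbl θ) ?_) (S₁ θ') (hS₁ θ')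
            (Qe_tr (S₁ θ) (S₁ θ') φ hb (hQ₁ θ)) (hQ₁ θ')
          rw [Set.disjoint_singleton]
          exact hne.symm
        · exact hno χ' _ (Qe_tr (S₁ θ) (S₂ χ') φ hb (hQ₁ θ))
      · rcases j with θ' | χ'
        · exact hno χ _ (Qe_tr (S₁ θ') (S₂ χ)
            (LinearEquiv.ofBijective φ hb).symm.toLinearMap hb' (hQ₁ θ'))
        · have hne : χ.1 ≠ χ'.1 := fun h => hij (by rw [Subtype.ext h])
          haveI : Nontrivial (S₂ χ').V := IsSimpleModule.nontrivial (GA (ResF hM) G) (S₂ χ').V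
          obtain ⟨y, hy⟩ := exists_ne (0 : (S₂ χ').V)
          obtain ⟨x, hx⟩ := hb.2 y
          apply hy
          have h1 : eF hM {χ.1} • y = y := by
            rw [← hx]
            have h2 := hQ₂ χ x
            exact (map_smul φ _ _).symm.trans (congrArg φ h2)
          have h2 : eF hM {χ'.1} • y = y := hQ₂ χ' y
          rw [← h1, ← h2, smul_smul, eF_orth hM (dz_block hM χ) (dz_block hM χ')
            (Set.disjoint_singleton.2 hne), zero_smul]
    · exact hz

end DZ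

end Cfsg.Agent.Lib.BlkH7F
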