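import Cfsg.Agent.Lib.BlockRey
import Cfsg.Agent.Lib.BlockKB
import Cfsg.Agent.Lib.BlockLar
import Cfsg.Agent.Lib.BlockMaxB
import Cfsg.Agent.Lib.BlockIndIn
import Cfsg.Agent.Lib.BlockBFM

import Cfsg.Agent.Lib.BlkH6L
import Cfsg.Agent.Lib.BlkH6M
import Cfsg.Agent.Lib.BlkH6P

/-!
The numerical theorem.
-/

set_option autoImplicit false
set_option linter.style.haveILetI false
set_option linter.unusedVariables false
set_option linter.unusedSectionVars false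
set_option linter.unusedDecidableInType false
set_option linter.unusedFintypeInType false
set_option linter.unusedSimpArgs false

namespace Cfsg.Agent.Lib.BlkH7G
open Cfsg Cfsg.Agent.Lib.BlockLoc Cfsg.Agent.Lib.BlockGA Cfsg.Agent.Lib.CharBasic
open Cfsg.Agent.Lib.BlockIdem Cfsg.Agent.Lib.BlockPP Cfsg.Agent.Lib.BlockOrth
open Cfsg.Agent.Lib.BlockRed Cfsg.Agent.Lib.BlockDef Cfsg.Agent.Lib.BlockDeg
open Cfsg.Agent.Lib.BlockNP Cfsg.Agent.Lib.BlockInd Cfsg.Agent.Lib.BlockSecond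
open Cfsg.Agent.Lib.BlockFirst Cfsg.Agent.Lib.BlockHt Cfsg.Agent.Lib.BlockM
open Cfsg.Agent.Lib.BlockCov Cfsg.Agent.Lib.BlockQuot Cfsg.Agent.Lib.CharKer
open Cfsg.Agent.Lib.BlockQuotB Cfsg.Agent.Lib.BlockMore Cfsg.Agent.Lib.BlockMoreB
open Cfsg.Agent.Lib.BlockTr Cfsg.Agent.Lib.CharNormal Cfsg.Agent.Lib.BlockCovB
open Cfsg.Agent.Lib.BlockBP Cfsg.Agent.Lib.BlockInt Cfsg.Agent.Lib.BlockSum Cfsg.Agent.Lib.BlockRk
open Cfsg.Agent.Lib.BlockFusB Cfsg.Agent.Lib.BlockMax Cfsg.Agent.Lib.CharSplit Cfsg.Agent.Lib.CharBrauer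
open Cfsg.Agent.Lib.CharInd Cfsg.Agent.Lib.BlockPC Cfsg.Agent.Lib.BlockPair Cfsg.Agent.Lib.BlockPairB
open Cfsg.Agent.Lib.BlockPairC Cfsg.Agent.Lib.BlockPairD Cfsg.Agent.Lib.BlockPairE
open Cfsg.Agent.Lib.BlockRey Cfsg.Agent.Lib.BlockPairF Cfsg.Agent.Lib.BlockFus Cfsg.Agent.Lib.BlockNilB Cfsg.Agent.Lib.BlockNil Cfsg.Agent.Lib.CharClifford
open Cfsg.Agent.Lib.BlockKB Cfsg.Agent.Lib.BlockLar Cfsg.Agent.Lib.BlockMaxB Cfsg.Agent.Lib.BlockIndIn Cfsg.Agent.Lib.BlockBFM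
open Cfsg.Agent.Lib.BlkH6L Cfsg.Agent.Lib.BlkH6M Cfsg.Agent.Lib.BlkH6P
open scoped ComplexConjugate


section Num

variable {P : Type*} [CommGroup P] [Fintype P] {H : Subgroup (MulAut P)}
  {B : Type*} [Fintype B] {mult : B → (P →* ℂˣ) → ℤ} {D : B → P → ℂ}

/-- The support. -/
def Supp (D : B → P → ℂ) : Set B := {χ | ∃ u : P, u ≠ 1 ∧ D χ u ≠ 0}

theorem mult_of_D (h : Dat H mult D) {χ χ' : B} (he : ∀ u : P, u ≠ 1 → D χ u = D χ' u)
    (ψ : P →* ℂˣ) : mult χ ψ - mult χ 1 = mult χ' ψ - mult χ' 1 := by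
  have hq : (Nat.card P : ℂ) ≠ 0 := Nat.cast_ne_zero.2 Nat.card_pos.ne'
  have h1 := h.a_eq χ ψ
  have h2 := h.a_eq χ' ψ
  have h3 : ∑ u, D χ u * (((ψ u⁻¹ : ℂˣ) : ℂ) - 1) = ∑ u, D χ' u * (((ψ u⁻¹ : ℂˣ) : ℂ) - 1) := by
    refine Finset.sum_congr rfl (fun u _ => ?_)
    by_cases hu : u = 1
    · subst hu; simp
    · rw [he u hu]
  rw [h3, ← h2] at h1
  exact_mod_cast mul_left_cancel₀ hq h1

theorem mult_of_zero (h : Dat H mult D) {χ : B} (he : χ ∉ Supp D) (ψ : P →* ℂˣ) :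
    mult χ ψ - mult χ 1 = 0 := by
  have hq : (Nat.card P : ℂ) ≠ 0 := Nat.cast_ne_zero.2 Nat.card_pos.ne'
  have h1 := h.a_eq χ ψ
  have h3 : ∑ u, D χ u * (((ψ u⁻¹ : ℂˣ) : ℂ) - 1) = 0 := by
    refine Finset.sum_eq_zero (fun u _ => ?_)
    by_cases hu : u = 1
    · subst hu; simp
    · have : D χ u = 0 := by
        by_contra hn
        exact he ⟨u, hu, hn⟩
      rw [this, zero_mul]
  rw [h3] at h1
  have h5 := (mul_eq_zero.1 h1).resolve_left hq
  exact_mod_cast h5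

theorem D_of_mult (h : Dat H mult D) (χ : B) {u : P} (hu : u ≠ 1) [Fintype (P →* ℂˣ)] :
    D χ u = ∑ ψ : P →* ℂˣ, ((mult χ ψ - mult χ 1 : ℤ) : ℂ) * ((ψ u : ℂˣ) : ℂ) := by
  classical
  push_cast
  simp only [sub_mul]
  rw [Finset.sum_sub_distrib, ← h.D_eq, ← Finset.mul_sum, sum_dual, if_neg hu, mul_zero,
    sub_zero]

theorem sq_count (A : B → ℤ) : (Nat.card {χ : B | A χ ≠ 0} : ℤ) ≤ ∑ χ, A χ ^ 2 ∧
    ((Nat.card {χ : B | A χ ≠ 0} : ℤ) = ∑ χ, A χ ^ 2 → ∀ χ, A χ ≠ 0 → A χ = 1 ∨ A χ = -1) := by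
  classical
  have h1 : (Nat.card {χ : B | A χ ≠ 0} : ℤ) = ∑ χ, if A χ ≠ 0 then (1 : ℤ) else 0 := by
    rw [Finset.sum_boole, Nat.card_eq_fintype_card]
    congr 1
    exact Fintype.card_of_subtype _ (fun χ => by simp)
  have h2 : ∀ χ ∈ (Finset.univ : Finset B), (if A χ ≠ 0 then (1 : ℤ) else 0) ≤ A χ ^ 2 := by
    intro χ _
    split_ifs with h
    · have : 0 < A χ ^ 2 := by positivity
      omega
    · positivity
  rw [h1]
  refine ⟨Finset.sum_le_sum h2, fun he χ hχ => ?_⟩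
  have h3 := (Finset.sum_eq_sum_iff_of_le h2).1 he χ (Finset.mem_univ _)
  rw [if_pos hχ] at h3
  have h4 : (A χ - 1) * (A χ + 1) = 0 := by linear_combination -h3
  rcases mul_eq_zero.1 h4 with h | h
  · left; linarith
  · right; linarith

/-- The structure. -/
structure Str (H : Subgroup (MulAut P)) [Fintype H] (D : B → P → ℂ) (X Y : Set B) (a : B → ℤ)
    (δ : ℤ) : Prop where
  disj : Disjoint X Y
  supp : Supp D = X ∪ Y
  cX : Nat.card X = Nat.card H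
  cY : Nat.card Y * Nat.card H = Nat.card P - 1
  ha : ∀ χ ∈ X, a χ = 1 ∨ a χ = -1
  hδ : δ = 1 ∨ δ = -1
  DX : ∀ χ ∈ X, ∀ u : P, u ≠ 1 → D χ u = (a χ : ℂ)
  DY : ∀ χ ∈ Y, ∃ ψ : P →* ℂˣ, ψ ≠ 1 ∧ ∀ u : P, u ≠ 1 →
    D χ u = (δ : ℂ) * ∑ h : H, ((ψ ((h : MulAut P) u) : ℂˣ) : ℂ)
  surj : ∀ ψ : P →* ℂˣ, ψ ≠ 1 → ∃ χ ∈ Y, ∀ u : P, u ≠ 1 →
    D χ u = (δ : ℂ) * ∑ h : H, ((ψ ((h : MulAut P) u) : ℂˣ) : ℂ)
  injY : ∀ χ ∈ Y, ∀ χ' ∈ Y, (∀ u : P, u ≠ 1 → D χ u = D χ' u) → χ = χ'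
  sep : Nat.card Y ≠ 1 → ∀ χ ∈ Y, ∀ χ' ∈ X, ∃ u : P, u ≠ 1 ∧ D χ u ≠ D χ' u
  rel : ∀ f : B → ℂ, (∀ u : P, u ≠ 1 → ∑ χ, D χ u * f χ = 0) → ∀ η ∈ Y,
    (δ : ℂ) * f η = ∑ᶠ χ ∈ X, (a χ : ℂ) * f χ

theorem str_of_out [Fintype H] {a : B → ℤ} {δ : ℤ} {ζ : (P →* ℂˣ) → B} (hD : Dat H mult D)
    (hO : BlkH6M.Out H mult a 0 δ ζ) (r : ℕ) (hr : r * Nat.card H = Nat.card P - 1)
    (hc : Nat.card (Supp D) = Nat.card H + r) : ∃ X Y, Str H D X Y a δ := by
  classical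
  set R : Set B := {χ : B | ∃ ψ : P →* ℂˣ, ψ ≠ 1 ∧ ζ ψ = χ} with hRdef
  set X : Set B := {χ | a χ ≠ 0} with hXdef
  have hR : Nat.card R = r := by
    have h1 := hO.card_range hD
    rw [← hr] at h1
    exact Nat.eq_of_mul_eq_mul_right Nat.card_pos h1
  have hdis : Disjoint X R := by
    rw [Set.disjoint_left]
    rintro χ hχ ⟨ψ, hψ, rfl⟩
    exact hχ (hO.a_eq ψ hψ)
  have hsub : Supp D ⊆ X ∪ R := by
    rintro χ ⟨u, hu, hDu⟩
    by_cases h1 : χ ∈ R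
    · exact Or.inr h1
    · left
      rw [hO.D_of_not hD (fun ψ hψ h => h1 ⟨ψ, hψ, h.symm⟩) hu] at hDu
      exact fun h => hDu (by rw [h]; simp)
  have hnorm : ∑ χ, a χ ^ 2 = (Nat.card H : ℤ) := by
    have := hO.norm
    linear_combination this
  obtain ⟨h1, h2⟩ := sq_count a
  have hcX : Nat.card X ≤ Nat.card H := by
    rw [hnorm] at h1
    exact_mod_cast h1
  have hU : Set.ncard (X ∪ R) = Set.ncard X + Set.ncard R :=
    Set.ncard_union_eq hdis (Set.toFinite _) (Set.toFinite _)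
  have hX' : Set.ncard X = Nat.card X := rfl
  have hR' : Set.ncard R = Nat.card R := rfl
  have hS' : Set.ncard (Supp D) = Nat.card (Supp D) := rfl
  have hle := Set.ncard_le_ncard hsub (Set.toFinite _)
  have hsupp : Supp D = X ∪ R := Set.eq_of_subset_of_ncard_le hsub (by omega) (Set.toFinite _)
  have hcX' : Nat.card X = Nat.card H := by
    have h5 : Set.ncard (Supp D) = Set.ncard (X ∪ R) := by rw [hsupp]
    omega
  have ha : ∀ χ ∈ X, a χ = 1 ∨ a χ = -1 := by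
    intro χ hχ
    refine h2 ?_ χ hχ
    rw [hnorm]
    exact_mod_cast hcX'
  have hDζ : ∀ ψ : P →* ℂˣ, ψ ≠ 1 → ∀ u : P, u ≠ 1 →
      D (ζ ψ) u = (δ : ℂ) * ∑ h : H, ((ψ ((h : MulAut P) u) : ℂˣ) : ℂ) := by
    intro ψ hψ u hu
    rw [hO.D_of_zeta hD hψ hu, rel_sum hD.free hψ]
    simp
  have hδ0 : δ ≠ 0 := by rcases hO.sign with h | h <;> rw [h] <;> decide
  refine ⟨X, R, hdis, hsupp, hcX', by rw [hR]; exact hr, ha, hO.sign, ?_, ?_, ?_, ?_, ?_, ?_⟩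
  · intro χ hχ u hu
    refine hO.D_of_not hD (fun ψ hψ h => ?_) hu
    exact Set.disjoint_left.1 hdis hχ ⟨ψ, hψ, h.symm⟩
  · rintro χ ⟨ψ, hψ, rfl⟩
    exact ⟨ψ, hψ, hDζ ψ hψ⟩
  · intro ψ hψ
    exact ⟨ζ ψ, ⟨ψ, hψ, rfl⟩, hDζ ψ hψ⟩
  · rintro χ ⟨ψ, hψ, rfl⟩ χ' hχ' he
    have h3 := mult_of_D hD he ψ
    have h4 : a χ' = 0 := by
      obtain ⟨ψ', hψ', rfl⟩ := hχ'
      exact hO.a_eq ψ' hψ'
    rw [hO.m_eq _ ψ hψ, hO.m_eq _ ψ hψ, hO.a_eq ψ hψ, h4, if_pos rfl] at h3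
    by_contra hn
    rw [if_neg (fun h => hn h.symm)] at h3
    exact hδ0 (by linarith)
  · rintro - χ ⟨ψ, hψ, rfl⟩ χ' hχ'
    by_contra hn
    push Not at hn
    have h3 := mult_of_D hD hn
    have hχR : ∀ ψ' : P →* ℂˣ, ψ' ≠ 1 → χ' ≠ ζ ψ' := by
      rintro ψ' hψ' rfl
      exact Set.disjoint_left.1 hdis hχ' ⟨ψ', hψ', rfl⟩
    obtain ⟨ψ₁, ψ₂, e1, e2, e3⟩ := hO.two
    have h5 : ∃ ψ' : P →* ℂˣ, ψ' ≠ 1 ∧ ζ ψ ≠ ζ ψ' := by
      by_contra hn'
      push Not at hn'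
      exact e3 ((hO.inj ψ₁ ψ₂ e1 e2).1 ((hn' ψ₁ e1).symm.trans (hn' ψ₂ e2)))
    obtain ⟨ψ', e4, e5⟩ := h5
    have h6 := h3 ψ'
    rw [hO.m_eq _ ψ' e4, hO.m_eq _ ψ' e4, hO.a_eq ψ hψ, if_neg e5, if_neg (hχR ψ' e4)] at h6
    apply hχ'
    linarith
  · rintro f hf η ⟨ψ, hψ, rfl⟩
    rw [hO.rel hD f hf hψ, finsum_mem_eq_finite_toFinset_sum _ (Set.toFinite X)]
    symm
    refine Finset.sum_subset (Finset.subset_univ _) (fun χ _ hχ => ?_)
    rw [Set.Finite.mem_toFinset] at hχ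
    have : a χ = 0 := by
      by_contra h
      exact hχ h
    rw [this]; simp

theorem all_rel (hfree : ∀ h ∈ H, h ≠ 1 → ∀ u : P, h u = u → u = 1)
    (hc : Nat.card H + 1 = Nat.card P) {ψ ψ' : P →* ℂˣ} (hψ : ψ ≠ 1) (hψ' : ψ' ≠ 1) :
    Rel H ψ ψ' := by
  haveI : Fintype H := Fintype.ofFinite _
  have h1 := card_reps hfree
  rw [← hc, Nat.add_sub_cancel] at h1
  have h2 : Nat.card {ψ : P →* ℂˣ // ψ ≠ 1 ∧ rep H ψ = ψ} = 1 :=
    Nat.eq_of_mul_eq_mul_right Nat.card_pos (h1.trans (one_mul _).symm)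
  obtain ⟨hs, _⟩ := Nat.card_eq_one_iff_unique.1 h2
  have h3 := hs.elim ⟨rep H ψ, Rel.ne_one (rel_rep H ψ) hψ, rep_rep H ψ⟩
    ⟨rep H ψ', Rel.ne_one (rel_rep H ψ') hψ', rep_rep H ψ'⟩
  exact rep_eq_iff.1 (congrArg Subtype.val h3)

/-- The numerical theorem. -/
theorem numeric [Fintype H] (hD : Dat H mult D) (hP : 1 < Nat.card P)
    (hcH : Nat.card H + 1 ≤ Nat.card P)
    (deg : B → ℤ) (hdeg : ∀ χ, 0 < deg χ)
    (hrel : ∀ u : P, u ≠ 1 → ∑ χ, D χ u * (deg χ : ℂ) = 0) :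
    ∃ r : ℕ, r * Nat.card H = Nat.card P - 1 ∧ Nat.card (Supp D) ≤ Nat.card H + r ∧
      (Nat.card (Supp D) = Nat.card H + r → ∃ X Y a δ, Str H D X Y a δ) := by
  classical
  haveI : Fintype (P →* ℂˣ) := Fintype.ofFinite _
  have hH0 : 0 < Nat.card H := Nat.card_pos
  rcases hcH.eq_or_lt with he | hlt
  · -- the case of one orbit
    have hdual : 1 < Nat.card (P →* ℂˣ) := by rw [card_dual]; exact hP
    haveI : Nontrivial (P →* ℂˣ) := Finite.one_lt_card_iff_nontrivial.1 hdual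
    obtain ⟨ψ₀, hψ₀⟩ := exists_ne (1 : P →* ℂˣ)
    set A : B → ℤ := fun χ => mult χ ψ₀ - mult χ 1 with hA
    have hAψ : ∀ χ (ψ : P →* ℂˣ), ψ ≠ 1 → mult χ ψ - mult χ 1 = A χ := by
      intro χ ψ hψ
      rw [hA, hD.mult_inv χ (all_rel hD.free he hψ hψ₀)]
    have hsum1 : ∀ u : P, u ≠ 1 → ∑ ψ : P →* ℂˣ, (if ψ = 1 then (0 : ℂ) else ((ψ u : ℂˣ) : ℂ)) =
        -1 := by
      intro u hu
      have h1 := sum_dual u
      rw [if_neg hu] at h1
      have h2 : ∀ ψ : P →* ℂˣ, (if ψ = 1 then (0 : ℂ) else ((ψ u : ℂˣ) : ℂ)) =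
          ((ψ u : ℂˣ) : ℂ) - if ψ = 1 then 1 else 0 := by
        intro ψ
        split_ifs with h
        · subst h; simp
        · simp
      rw [Finset.sum_congr rfl (fun ψ _ => h2 ψ), Finset.sum_sub_distrib, h1, Finset.sum_ite_eq',
        if_pos (Finset.mem_univ _), zero_sub]
    have hDA : ∀ χ (u : P), u ≠ 1 → D χ u = -(A χ : ℂ) := by
      intro χ u hu
      rw [D_of_mult hD χ hu]
      have h2 : ∀ ψ : P →* ℂˣ, ((mult χ ψ - mult χ 1 : ℤ) : ℂ) * ((ψ u : ℂˣ) : ℂ) =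
          (A χ : ℂ) * (if ψ = 1 then (0 : ℂ) else ((ψ u : ℂˣ) : ℂ)) := by
        intro ψ
        by_cases hψ : ψ = 1
        · subst hψ; simp
        · rw [hAψ χ ψ hψ, if_neg hψ]
      rw [Finset.sum_congr rfl (fun ψ _ => h2 ψ), ← Finset.mul_sum, hsum1 u hu]
      ring
    have hgram : ∑ χ, A χ ^ 2 = (Nat.card P : ℤ) := by
      have h1 := hD.gram_a hψ₀ hψ₀
      rw [if_pos (Rel.refl H ψ₀)] at h1
      rw [← he]
      push_cast
      rw [← h1]
      exact Finset.sum_congr rfl (fun χ _ => by rw [hA]; ring)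
    obtain ⟨u₀, hu₀⟩ : ∃ u : P, u ≠ 1 := by
      haveI : Nontrivial P := Finite.one_lt_card_iff_nontrivial.1 hP
      exact exists_ne 1
    have hsupp : Supp D = {χ | A χ ≠ 0} := by
      ext χ
      constructor
      · rintro ⟨u, hu, hDu⟩
        rw [hDA χ u hu] at hDu
        exact fun h => hDu (by rw [h]; simp)
      · intro h
        refine ⟨u₀, hu₀, ?_⟩
        rw [hDA χ u₀ hu₀, neg_ne_zero]
        exact_mod_cast h
    obtain ⟨h1, h2⟩ := sq_count A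
    refine ⟨1, by rw [one_mul, ← he, Nat.add_sub_cancel], ?_, ?_⟩
    · rw [hsupp]
      rw [hgram, ← he] at h1
      exact_mod_cast h1
    · intro hc
      rw [hsupp] at hc
      have hA1 := h2 (by rw [hgram, ← he]; exact_mod_cast hc)
      have hne : Set.Nonempty {χ : B | A χ ≠ 0} := by
        rw [Set.nonempty_iff_ne_empty]
        intro h
        rw [h] at hc
        simp at hc
      obtain ⟨η, hη⟩ := hne
      have hψsum : ∀ ψ : P →* ℂˣ, ψ ≠ 1 → ∀ u : P, u ≠ 1 →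
          ∑ h : H, ((ψ ((h : MulAut P) u) : ℂˣ) : ℂ) = -1 := by
        intro ψ hψ u hu
        have h3 := rel_sum hD.free hψ (fun ψ' : P →* ℂˣ => ((ψ' u : ℂˣ) : ℂ))
        have h4 : {ψ' : P →* ℂˣ | Rel H ψ ψ'} = {ψ' : P →* ℂˣ | ψ' ≠ 1} := by
          ext ψ'
          exact ⟨fun h => Rel.ne_one h.symm hψ, fun h => all_rel hD.free he hψ h⟩
        rw [h4] at h3
        rw [← hsum1 u hu]
        refine Eq.trans h3.symm ?_
        rw [finsum_mem_eq_finite_toFinset_sum _ (Set.toFinite _)]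
        have h5 : (Set.toFinite {ψ' : P →* ℂˣ | ψ' ≠ 1}).toFinset =
            Finset.univ.filter (fun ψ' : P →* ℂˣ => ¬ ψ' = 1) := by
          ext ψ'
          simp
        rw [h5, Finset.sum_filter]
        refine Finset.sum_congr rfl (fun ψ' _ => ?_)
        by_cases h : ψ' = 1
        · simp [h]
        · simp [h]
      have hcy : Nat.card ({η} : Set B) = 1 := by simp
      refine ⟨{χ | A χ ≠ 0} \ {η}, {η}, fun χ => - A χ, A η, Set.disjoint_sdiff_left, ?_, ?_, ?_,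
        ?_, hA1 η hη, ?_, ?_, ?_, ?_, ?_, ?_⟩
      · rw [hsupp, Set.sdiff_union_of_subset (Set.singleton_subset_iff.2 hη)]
      · have h3 := Set.ncard_sdiff_singleton_of_mem hη
        have h4 : Set.ncard {χ : B | A χ ≠ 0} = Nat.card H + 1 := hc
        rw [h4, Nat.add_sub_cancel] at h3
        exact h3
      · rw [hcy, one_mul, ← he, Nat.add_sub_cancel]
      · intro χ hχ
        rcases hA1 χ hχ.1 with h | h
        · right; rw [h]
        · left; rw [h]; rfl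
      · intro χ _ u hu
        rw [hDA χ u hu]
        push_cast
        rfl
      · rintro χ rfl
        refine ⟨ψ₀, hψ₀, fun u hu => ?_⟩
        rw [hDA _ u hu, hψsum ψ₀ hψ₀ u hu]
        ring
      · intro ψ hψ
        refine ⟨η, rfl, fun u hu => ?_⟩
        rw [hDA _ u hu, hψsum ψ hψ u hu]
        ring
      · rintro χ rfl χ' rfl _
        rfl
      · intro h
        exact absurd hcy h
      · rintro f hf η' rfl
        have h3 := hf u₀ hu₀
        have h4 : ∀ χ, D χ u₀ * f χ = -((A χ : ℂ) * f χ) := fun χ => by rw [hDA χ u₀ hu₀]; ring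
        rw [Finset.sum_congr rfl (fun χ _ => h4 χ), Finset.sum_neg_distrib, neg_eq_zero,
          ← Finset.add_sum_erase _ _ (Finset.mem_univ η')] at h3
        have h5 : ∑ᶠ χ ∈ {χ : B | A χ ≠ 0} \ {η'}, ((-A χ : ℤ) : ℂ) * f χ =
            - ∑ χ ∈ Finset.univ.erase η', (A χ : ℂ) * f χ := by
          rw [finsum_mem_eq_finite_toFinset_sum _ (Set.toFinite _), ← Finset.sum_neg_distrib]
          have h6 : ∀ χ, ((-A χ : ℤ) : ℂ) * f χ = -((A χ : ℂ) * f χ) := fun χ => by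
            push_cast; ring
          rw [Finset.sum_congr rfl (fun χ _ => h6 χ)]
          refine Finset.sum_subset (fun χ hχ => ?_) (fun χ hχ hχ' => ?_)
          · rw [Set.Finite.mem_toFinset] at hχ
            exact Finset.mem_erase.2 ⟨hχ.2, Finset.mem_univ _⟩
          · rw [Set.Finite.mem_toFinset] at hχ'
            have : A χ = 0 := by
              by_contra h
              exact hχ' ⟨h, (Finset.mem_erase.1 hχ).1⟩
            rw [this]; simp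
        rw [h5]
        linear_combination h3
  · obtain ⟨a, d, δ, ζ, hO⟩ := Dat.main hD hlt deg hdeg hrel
    set R : Set B := {χ : B | ∃ ψ : P →* ℂˣ, ψ ≠ 1 ∧ ζ ψ = χ} with hRdef
    have hR := hO.card_range hD
    set A : B → ℤ := fun χ => if χ ∈ R then 0 else a χ with hA
    have hr2 : 2 ≤ Nat.card R := by
      by_contra hn
      have h3 : Nat.card R ≤ 1 := by omega
      have h4 : Nat.card R * Nat.card H ≤ 1 * Nat.card H := Nat.mul_le_mul_right _ h3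
      rw [hR] at h4
      omega
    have haR : ∀ χ ∈ R, a χ = d := by
      rintro χ ⟨ψ, hψ, rfl⟩
      exact hO.a_eq ψ hψ
    have hsum : ∑ χ, A χ ^ 2 = (Nat.card H : ℤ) + 2 * δ * d - (Nat.card R : ℤ) * d ^ 2 := by
      have h1 : ∀ χ, A χ ^ 2 = a χ ^ 2 - if χ ∈ R then d ^ 2 else 0 := by
        intro χ
        rw [hA]
        by_cases h : χ ∈ R
        · simp [h, haR χ h]
        · simp [h]
      have h2 : ∑ χ, (if χ ∈ R then d ^ 2 else 0) = (Nat.card R : ℤ) * d ^ 2 := by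
        rw [← Finset.sum_filter, Finset.sum_const, nsmul_eq_mul, Nat.card_eq_fintype_card,
          Fintype.card_subtype]
      rw [Finset.sum_congr rfl (fun χ _ => h1 χ), Finset.sum_sub_distrib, h2]
      have := hO.norm
      linear_combination this
    obtain ⟨h1, h2⟩ := sq_count A
    have hδ2 := hO.sq
    have hdneg : 2 * δ * d ≤ (Nat.card R : ℤ) * d ^ 2 ∧
        (2 * δ * d = (Nat.card R : ℤ) * d ^ 2 → d = 0 ∨ (d = δ ∧ Nat.card R = 2)) := by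
      have hr2' : (2 : ℤ) ≤ (Nat.card R : ℤ) := by exact_mod_cast hr2
      have h3 : 2 * d ^ 2 ≤ (Nat.card R : ℤ) * d ^ 2 := mul_le_mul_of_nonneg_right hr2' (sq_nonneg d)
      rcases hO.sign with h | h
      · subst h
        have h4 : 2 * 1 * d ≤ 2 * d ^ 2 := by
          rcases le_or_gt d 0 with h5 | h5
          · nlinarith [sq_nonneg d]
          · nlinarith
        refine ⟨h4.trans h3, fun h5 => ?_⟩
        have h6 : 2 * 1 * d = 2 * d ^ 2 := le_antisymm h4 (by rw [h5]; exact h3)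
        have h7 : d * (d - 1) = 0 := by linear_combination (-1/2 : ℤ) * 0 * h6 + (by
          have : 2 * (d * (d - 1)) = 0 := by linear_combination -h6
          linarith : d * (d - 1) = 0)
        rcases mul_eq_zero.1 h7 with h8 | h8
        · exact Or.inl h8
        · right
          have h9 : d = 1 := by linarith
          refine ⟨h9, ?_⟩
          rw [h9] at h5
          have : (Nat.card R : ℤ) = 2 := by linarith
          exact_mod_cast this
      · subst h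
        have h4 : 2 * (-1) * d ≤ 2 * d ^ 2 := by
          rcases le_or_gt 0 d with h5 | h5
          · nlinarith [sq_nonneg d]
          · nlinarith
        refine ⟨h4.trans h3, fun h5 => ?_⟩
        have h6 : 2 * (-1) * d = 2 * d ^ 2 := le_antisymm h4 (by rw [h5]; exact h3)
        have h7 : d * (d + 1) = 0 := by
          have : 2 * (d * (d + 1)) = 0 := by linear_combination -h6
          linarith
        rcases mul_eq_zero.1 h7 with h8 | h8
        · exact Or.inl h8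
        · right
          have h9 : d = -1 := by linarith
          refine ⟨h9, ?_⟩
          rw [h9] at h5
          have : (Nat.card R : ℤ) = 2 := by linarith
          exact_mod_cast this
    obtain ⟨hd1, hd2⟩ := hdneg
    have hsub : Supp D ⊆ {χ | A χ ≠ 0} ∪ R := by
      rintro χ ⟨u, hu, hDu⟩
      by_cases h1 : χ ∈ R
      · exact Or.inr h1
      · left
        rw [hO.D_of_not hD (fun ψ hψ h => h1 ⟨ψ, hψ, h.symm⟩) hu] at hDu
        change (if χ ∈ R then 0 else a χ) ≠ 0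
        rw [if_neg h1]
        exact fun h => hDu (by rw [h]; simp)
    have hle : Nat.card (Supp D) ≤ Nat.card {χ | A χ ≠ 0} + Nat.card R :=
      (Set.ncard_le_ncard hsub (Set.toFinite _)).trans (Set.ncard_union_le _ _)
    refine ⟨Nat.card R, hR, ?_, ?_⟩
    · rw [hsum] at h1
      have : (Nat.card {χ | A χ ≠ 0} : ℤ) ≤ Nat.card H := by linarith
      have h3 : Nat.card {χ | A χ ≠ 0} ≤ Nat.card H := by exact_mod_cast this
      omega
    · intro hc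
      have h3 : Nat.card H ≤ Nat.card {χ | A χ ≠ 0} := by omega
      have h4 : (Nat.card H : ℤ) ≤ Nat.card {χ | A χ ≠ 0} := by exact_mod_cast h3
      rw [hsum] at h1
      have h5 : 2 * δ * d = (Nat.card R : ℤ) * d ^ 2 := by linarith
      rcases hd2 h5 with h6 | ⟨h6, h7⟩
      · subst h6
        obtain ⟨X, Y, hS⟩ := str_of_out hD hO (Nat.card R) hR hc
        exact ⟨X, Y, a, δ, hS⟩
      · obtain ⟨a', ζ', hO'⟩ := out_swap hO h6 h7
        obtain ⟨X, Y, hS⟩ := str_of_out hD hO' (Nat.card R) hR hc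
        exact ⟨X, Y, a', -δ, hS⟩

end Num

end Cfsg.Agent.Lib.BlkH7G
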