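import Cfsg.Agent.Lib.BlockRey
import Cfsg.Agent.Lib.BlockKB
import Cfsg.Agent.Lib.BlockLar
import Cfsg.Agent.Lib.BlockMaxB
import Cfsg.Agent.Lib.BlockIndIn
import Cfsg.Agent.Lib.BlockBFM

import Cfsg.Agent.Lib.BlkH6L
import Cfsg.Agent.Lib.BlkH7G
import Cfsg.Agent.Lib.BlockKB

/-!
Characters restricted along an abstract local configuration.
-/

set_option autoImplicit false
set_option linter.style.haveILetI false
set_option linter.unusedVariables false
set_option linter.unusedSectionVars false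
set_option linter.unusedDecidableInType false
set_option linter.unusedFintypeInType false
set_option linter.unusedSimpArgs false

namespace Cfsg.Agent.Lib.BlkH7H
open Cfsg Cfsg.Agent.Lib.BlockLoc Cfsg.Agent.Lib.BlockGA Cfsg.Agent.Lib.CharBasic
open Cfsg.Agent.Lib.BlockIdem Cfsg.Agent.Lib.BlockPP Cfsg.Agent.Lib.BlockOrth
open Cfsg.Agent.Lib.BlockRed Cfsg.Agent.Lib.BlockDef Cfsg.Agent.Lib.BlockDeg
open Cfsg.Agent.Lib.BlockNP Cfsg.Agent.Lib.BlockInd Cfsg.Agent.Lib.BlockSecond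
open Cfsg.Agent.Lib.BlockFirst Cfsg.Agent.Lib.BlockHt Cfsg.Agent.Lib.BlockM
open Cfsg.Agent.Lib.BlockCov Cfsg.Agent.Lib.BlockQuot Cfsg.Agent.Lib.CharKer
open Cfsg.Agent.Lib.BlockQuotB Cfsg.Agent.Lib.BlockMore Cfsg.Agent.Lib.BlockMoreB
open Cfsg.Agent.Lib.BlockTr Cfsg.Agent.Lib.CharNormal Cfsg.Agent.Lib.BlockCovB
open Cfsg.Agent.Lib.BlockBP Cfsg.Agent.Lib.BlockInt Cfsg.Agent.Lib.BlockSum Cfsg.Agent.Lib.BlockRk
open Cfsg.Agent.Lib.BlockFusB Cfsg.Agent.Lib.BlockMax Cfsg.Agent.Lib.CharSplit Cfsg.Agent.Lib.CharBrauer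
open Cfsg.Agent.Lib.CharInd Cfsg.Agent.Lib.BlockPC Cfsg.Agent.Lib.BlockPair Cfsg.Agent.Lib.BlockPairB
open Cfsg.Agent.Lib.BlockPairC Cfsg.Agent.Lib.BlockPairD Cfsg.Agent.Lib.BlockPairE
open Cfsg.Agent.Lib.BlockRey Cfsg.Agent.Lib.BlockPairF Cfsg.Agent.Lib.BlockFus Cfsg.Agent.Lib.BlockNilB Cfsg.Agent.Lib.BlockNil Cfsg.Agent.Lib.CharClifford
open Cfsg.Agent.Lib.BlockKB Cfsg.Agent.Lib.BlockLar Cfsg.Agent.Lib.BlockMaxB Cfsg.Agent.Lib.BlockIndIn Cfsg.Agent.Lib.BlockBFM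
open Cfsg.Agent.Lib.BlkH6L Cfsg.Agent.Lib.BlkH7G Cfsg.Agent.Lib.BlockKB
open scoped ComplexConjugate


section AbsCfg

variable {G : Type*} [Group G] [Finite G] {Q : Type*} [CommGroup Q] [Fintype Q] {L : Type*}
  [Group L] [Finite L]

/-- The abstract configuration. -/
structure AC (p : ℕ) (φ : L →* MulAut Q) (i : Q →* G) (j : L →* G) : Prop where
  hp : p.Prime
  cQ : Nat.card Q = p
  cL : ¬ p ∣ Nat.card L
  ii : Function.Injective i
  ij : Function.Injective j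
  act : ∀ h u, j h * i u * (j h)⁻¹ = i (φ h u)
  tr : ∀ x : G, ∀ u v : Q, u ≠ 1 → ∀ k k' : L, φ k = 1 → φ k' = 1 →
    x * (i u * j k) * x⁻¹ = i v * j k' → ∃ h : L, ∃ w : Q, x = j h * i w
  sing : ∀ x : G, p ∣ orderOf x → ∃ y : G, ∃ u : Q, u ≠ 1 ∧ ∃ k : L, φ k = 1 ∧
    y * x * y⁻¹ = i u * j k

variable {p : ℕ} {φ : L →* MulAut Q} {i : Q →* G} {j : L →* G}

namespace AC

theorem order_i (c : AC p φ i j) {u : Q} (hu : u ≠ 1) : orderOf (i u) = p := by
  rw [orderOf_injective i c.ii]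
  have h1 : orderOf u ∣ p := by rw [← c.cQ]; exact orderOf_dvd_natCard u
  rcases (Nat.dvd_prime c.hp).1 h1 with h2 | h2
  · exact absurd (orderOf_eq_one_iff.1 h2) hu
  · exact h2

theorem order_j (c : AC p φ i j) (h : L) : ¬ p ∣ orderOf (j h) := by
  rw [orderOf_injective j c.ij]
  exact fun h1 => c.cL (h1.trans (orderOf_dvd_natCard h))

theorem sep (c : AC p φ i j) {u : Q} {h : L} (he : i u = j h) : u = 1 ∧ h = 1 := by
  have h1 : u = 1 := by
    by_contra hu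
    have := c.order_i hu
    rw [he] at this
    exact c.order_j h (this ▸ dvd_rfl)
  refine ⟨h1, c.ij ?_⟩
  rw [← he, h1, map_one, map_one]

theorem comm (c : AC p φ i j) {h : L} (hh : φ h = 1) (u : Q) : Commute (i u) (j h) := by
  have := c.act h u
  rw [hh, MulAut.one_apply] at this
  exact (mul_inv_eq_iff_eq_mul.1 this).symm

theorem order_ij (c : AC p φ i j) {u : Q} (hu : u ≠ 1) {h : L} (hh : φ h = 1) :
    p ∣ orderOf (i u * j h) := by
  have h1 : Nat.Coprime (orderOf (i u)) (orderOf (j h)) := by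
    rw [c.order_i hu]
    exact (c.hp.coprime_iff_not_dvd).2 (c.order_j h)
  rw [(c.comm hh u).orderOf_mul_eq_mul_orderOf_of_coprime h1, c.order_i hu]
  exact dvd_mul_right _ _

theorem gen (c : AC p φ i j) {u : Q} (hu : u ≠ 1) (v : Q) : ∃ n : ℕ, v = u ^ n := by
  have h1 : orderOf u = Nat.card Q := by
    rw [c.cQ, ← orderOf_injective i c.ii, c.order_i hu]
  have h2 : v ∈ Subgroup.zpowers u := by
    have h3 : Subgroup.zpowers u = ⊤ := by
      rw [← Subgroup.card_eq_iff_eq_top, Nat.card_zpowers, h1]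
    rw [h3]; trivial
  have h3 := (mem_powers_iff_mem_zpowers).2 h2
  obtain ⟨n, hn⟩ := h3
  exact ⟨n, hn.symm⟩

theorem free (c : AC p φ i j) (α : MulAut Q) (hα : α ≠ 1) (u : Q) (h : α u = u) : u = 1 := by
  by_contra hu
  apply hα
  ext v
  obtain ⟨n, rfl⟩ := c.gen hu v
  rw [map_pow, h]
  rfl

theorem card_bound (c : AC p φ i j) (H : Subgroup (MulAut Q)) : Nat.card H + 1 ≤ Nat.card Q := by
  haveI : Nontrivial Q := Finite.one_lt_card_iff_nontrivial.1 (by rw [c.cQ]; exact c.hp.one_lt)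
  obtain ⟨u, hu⟩ := exists_ne (1 : Q)
  have h1 : Nat.card H ≤ Nat.card {v : Q // v ≠ 1} := by
    refine Nat.card_le_card_of_injective (fun h : H => (⟨(h : MulAut Q) u, fun h' => hu (by
      have := congrArg (h : MulAut Q).symm h'
      simpa using this)⟩ : {v : Q // v ≠ 1})) ?_
    intro a b hab
    have h2 : (a : MulAut Q) u = (b : MulAut Q) u := congrArg Subtype.val hab
    by_contra hne
    have h3 : ((b : MulAut Q)⁻¹ * a) ≠ 1 := fun h => hne (Subtype.ext (inv_mul_eq_one.1 h).symm)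
    refine hu (c.free _ h3 u ?_)
    change (b : MulAut Q)⁻¹ ((a : MulAut Q) u) = u
    rw [h2, MulAut.inv_apply_self]
  have h2 : Nat.card {v : Q // v ≠ 1} = Nat.card Q - 1 := by
    classical
    rw [Nat.card_eq_fintype_card, Nat.card_eq_fintype_card]
    exact Set.card_ne_eq (1 : Q)
  have h3 : 0 < Nat.card Q := Nat.card_pos
  omega

/-- The product homomorphism. -/
def F (c : AC p φ i j) : Q × φ.ker →* G where
  toFun x := i x.1 * j x.2
  map_one' := by simp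
  map_mul' x y := by
    have h := (c.comm x.2.2 y.1).eq
    change i (x.1 * y.1) * j (x.2 * y.2) = i x.1 * j x.2 * (i y.1 * j y.2)
    rw [map_mul, map_mul]
    calc i x.1 * i y.1 * (j x.2 * j y.2) = i x.1 * (i y.1 * j x.2) * j y.2 := by group
      _ = i x.1 * (j x.2 * i y.1) * j y.2 := by rw [h]
      _ = _ := by group

theorem F_apply (c : AC p φ i j) (x : Q × φ.ker) : c.F x = i x.1 * j x.2 := rfl

end AC

/-- The multiplicity function. -/
noncomputable def DD (i : Q →* G) (j : L →* G) (θ : IrrCharacter φ.ker) (χ : G → ℂ) (u : Q) : ℂ :=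
  haveI : Fintype φ.ker := Fintype.ofFinite _
  classInner (fun k : φ.ker => χ (i u * j k)) θ.1

theorem DD_eq [inst : Fintype φ.ker] (θ : IrrCharacter φ.ker) (χ : G → ℂ) (u : Q) :
    DD i j θ χ u = (Nat.card φ.ker : ℂ)⁻¹ * ∑ k : φ.ker, χ (i u * j k) * conj (θ.1 k) := by
  obtain rfl : inst = Fintype.ofFinite _ := Subsingleton.elim _ _
  rfl

theorem DD_inner [Fintype φ.ker] (θ : IrrCharacter φ.ker) (χ : G → ℂ) (u : Q) :
    DD i j θ χ u = classInner (fun k : φ.ker => χ (i u * j k)) θ.1 := by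
  rw [DD_eq, classInner]

theorem tr_classFn (c : AC p φ i j) {χ : G → ℂ} (hχ : IsClassFunction G χ) (u : Q) :
    IsClassFunction φ.ker (fun k : φ.ker => χ (i u * j k)) := by
  intro k h
  have h1 := (c.comm h.2 u).eq
  have h2 : i u * j ((h * k * h⁻¹ : φ.ker) : L) = j (h : L) * (i u * j (k : L)) * (j (h : L))⁻¹ := by
    push_cast
    rw [map_mul, map_mul, map_inv]
    calc i u * (j h * j k * (j h)⁻¹) = (i u * j h) * j k * (j h)⁻¹ := by group
      _ = (j h * i u) * j k * (j h)⁻¹ := by rw [h1]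
      _ = _ := by group
  change χ _ = χ _
  rw [h2, hχ]

/-- The decomposition. -/
theorem decomp (c : AC p φ i j) {χ : G → ℂ} (hχ : IsClassFunction G χ) (u : Q) (k : φ.ker) :
    χ (i u * j k) = ∑ θ : IrrCharacter φ.ker, DD i j θ χ u * θ.1 k := by
  haveI : Fintype φ.ker := Fintype.ofFinite _
  have h1 := congrFun (classFn_expand _ (tr_classFn c hχ u)) k
  rw [Finset.sum_apply] at h1
  refine h1.trans (Finset.sum_congr rfl (fun θ _ => ?_))
  rw [Pi.smul_apply, smul_eq_mul, ← DD_inner]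

/-- Equivariance. -/
theorem DD_cj (c : AC p φ i j) {χ : G → ℂ} (hχ : IsClassFunction G χ) (h : L)
    (θ : IrrCharacter φ.ker) (u : Q) :
    DD i j (cjI h θ) χ u = DD i j θ χ (φ h u) := by
  haveI : Fintype φ.ker := Fintype.ofFinite _
  rw [DD_eq, DD_eq]
  congr 1
  refine Fintype.sum_equiv (cjAut (N := φ.ker) h).toEquiv _ _ (fun k => ?_)
  have h1 : i (φ h u) * j ((cjAut (N := φ.ker) h k : φ.ker) : L) =
      j h * (i u * j (k : L)) * (j h)⁻¹ := by
    rw [cjAut_coe, ← c.act, map_mul, map_mul, map_inv]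
    group
  change χ (i u * j k) * conj ((cj h θ.1) k) =
    χ (i (φ h u) * j ((cjAut (N := φ.ker) h k : φ.ker) : L)) * conj (θ.1 (cjAut (N := φ.ker) h k))
  rw [h1, hχ, cj_eq_comp]

theorem DD_inv (c : AC p φ i j) {χ : G → ℂ} (hχ : IsClassFunction G χ) {t : L}
    {θ : IrrCharacter φ.ker} (ht : t ∈ inertia θ.1) (u : Q) :
    DD i j θ χ (φ t u) = DD i j θ χ u := by
  have h1 : cjI t θ = θ := Subtype.ext ht
  rw [← DD_cj c hχ, h1]

theorem DD_conj (c : AC p φ i j) {χ : G → ℂ} (hχ : IsCharacter G χ)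
    (θ : IrrCharacter φ.ker) (u : Q) :
    DD i j θ χ u⁻¹ = conj (DD i j θ χ u) := by
  haveI : Fintype φ.ker := Fintype.ofFinite _
  rw [DD_eq, DD_eq, map_mul, map_sum, map_inv₀, Complex.conj_natCast]
  congr 1
  refine Fintype.sum_equiv (Equiv.inv _) _ _ (fun k => ?_)
  have h1 := (c.comm k⁻¹.2 u).eq
  have h2 : i u⁻¹ * j (k : L) = (i u * j ((k⁻¹ : φ.ker) : L))⁻¹ := by
    rw [h1, mul_inv_rev, map_inv]
    push_cast
    rw [map_inv, inv_inv]
  change χ (i u⁻¹ * j (k : L)) * conj (θ.1 k) = conj (χ (i u * j ((k⁻¹ : φ.ker) : L)) * conj (θ.1 k⁻¹))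
  rw [h2, char_inv hχ, map_mul, char_inv (isChar_of_irr θ.2) k, Complex.conj_conj]

theorem DD_add (θ : IrrCharacter φ.ker) (χ χ' : G → ℂ) (u : Q) :
    DD i j θ (χ + χ') u = DD i j θ χ u + DD i j θ χ' u := by
  haveI : Fintype φ.ker := Fintype.ofFinite _
  rw [DD_eq, DD_eq, DD_eq, ← mul_add, ← Finset.sum_add_distrib]
  congr 1
  refine Finset.sum_congr rfl (fun k _ => ?_)
  rw [Pi.add_apply, add_mul]

/-- Integral multiplicities. -/
theorem exists_mul (c : AC p φ i j) (θ : IrrCharacter φ.ker) :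
    ∃ mult : IrrCharacter G → (Q →* ℂˣ) → ℤ, ∀ [Fintype (Q →* ℂˣ)], ∀ χ u,
      DD i j θ χ.1 u = ∑ ψ : Q →* ℂˣ, (mult χ ψ : ℂ) * ((ψ u : ℂˣ) : ℂ) := by
  classical
  haveI : Fintype φ.ker := Fintype.ofFinite _
  have h1 : ∀ (χ : IrrCharacter G) (ψ : Q →* ℂˣ), ∃ n : ℕ,
      classInner (fun x : Q × φ.ker => χ.1 (c.F x)) (fun x => ((ψ x.1 : ℂˣ) : ℂ) * θ.1 x.2) = n := by
    intro χ ψ
    refine exists_nat_inner' (isChar_comp c.F (isChar_of_irr χ.2)) ?_
    exact isChar_lin_mul (ψ.comp (MonoidHom.fst Q φ.ker))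
      (isChar_comp (MonoidHom.snd Q φ.ker) (isChar_of_irr θ.2))
  choose m hm using h1
  refine ⟨fun χ ψ => (m χ ψ : ℤ), fun {_} χ u => ?_⟩
  have hq : (Nat.card Q : ℂ) ≠ 0 := Nat.cast_ne_zero.2 Nat.card_pos.ne'
  have h2 : ∀ ψ : Q →* ℂˣ, (((m χ ψ : ℕ) : ℤ) : ℂ) * ((ψ u : ℂˣ) : ℂ) =
      (Nat.card Q : ℂ)⁻¹ * ((Nat.card φ.ker : ℂ)⁻¹ * ∑ v : Q, ∑ k : φ.ker,
        χ.1 (i v * j k) * conj (θ.1 k) * (((ψ (u * v⁻¹) : ℂˣ)) : ℂ)) := by
    intro ψ
    rw [Int.cast_natCast, ← hm, classInner, Nat.card_prod, Nat.cast_mul, mul_inv, Fintype.sum_prod_type,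
      mul_assoc, mul_assoc, Finset.sum_mul]
    congr 2
    refine Finset.sum_congr rfl (fun v _ => ?_)
    rw [Finset.sum_mul]
    refine Finset.sum_congr rfl (fun k _ => ?_)
    have h3 : conj ((ψ v : ℂˣ) : ℂ) = ((ψ v⁻¹ : ℂˣ) : ℂ) := by
      have := char_inv (isChar_of_irr (isIrr_lin ψ)) v
      exact this.symm
    rw [map_mul, h3, c.F_apply, map_mul]
    push_cast
    ring
  rw [Finset.sum_congr rfl (fun ψ _ => h2 ψ), ← Finset.mul_sum, ← Finset.mul_sum]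
  have h3 : ∑ ψ : Q →* ℂˣ, ∑ v : Q, ∑ k : φ.ker,
        χ.1 (i v * j k) * conj (θ.1 k) * (((ψ (u * v⁻¹) : ℂˣ)) : ℂ) =
      (Nat.card Q : ℂ) * ∑ k : φ.ker, χ.1 (i u * j k) * conj (θ.1 k) := by
    rw [Finset.sum_comm]
    have h4 : ∀ v : Q, ∑ ψ : Q →* ℂˣ, ∑ k : φ.ker,
        χ.1 (i v * j k) * conj (θ.1 k) * (((ψ (u * v⁻¹) : ℂˣ)) : ℂ) =
        if u = v then (Nat.card Q : ℂ) * ∑ k : φ.ker, χ.1 (i u * j k) * conj (θ.1 k) else 0 := by
      intro v
      rw [Finset.sum_comm]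
      have h5 : ∀ k : φ.ker, ∑ ψ : Q →* ℂˣ,
          χ.1 (i v * j k) * conj (θ.1 k) * (((ψ (u * v⁻¹) : ℂˣ)) : ℂ) =
          χ.1 (i v * j k) * conj (θ.1 k) * if u * v⁻¹ = 1 then (Nat.card Q : ℂ) else 0 := by
        intro k
        rw [← Finset.mul_sum, sum_dual]
      rw [Finset.sum_congr rfl (fun k _ => h5 k), ← Finset.sum_mul]
      by_cases h : u = v
      · subst h
        rw [if_pos (mul_inv_cancel u), if_pos rfl, mul_comm]
      · rw [if_neg (fun h' => h (mul_inv_eq_one.1 h')), if_neg h, mul_zero]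
    rw [Finset.sum_congr rfl (fun v _ => h4 v), Finset.sum_ite_eq, if_pos (Finset.mem_univ _)]
  rw [h3, DD_eq]
  field_simp

/-- Column orthogonality, counting form. -/
theorem column_count [Fintype G] [DecidableEq G] (x y : G) :
    ∑ χ : IrrCharacter G, χ.1 x * conj (χ.1 y) =
      ((Finset.univ.filter (fun t : G => t * x * t⁻¹ = y)).card : ℂ) := by
  classical
  rw [column_orth]
  split_ifs with h
  · rw [card_conj_eq h]
  · rw [Finset.card_eq_zero.2, Nat.cast_zero]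
    rw [Finset.filter_eq_empty_iff]
    intro t _ ht
    exact h (isConj_iff.2 ⟨t, ht⟩)

end AbsCfg

end Cfsg.Agent.Lib.BlkH7H
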