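import Cfsg.Agent.Lib.BlockRey
import Cfsg.Agent.Lib.BlockKB
import Cfsg.Agent.Lib.BlockLar
import Cfsg.Agent.Lib.BlockMaxB
import Cfsg.Agent.Lib.BlockIndIn
import Cfsg.Agent.Lib.BlockBFM

import Cfsg.Agent.Lib.BlkH6L
import Cfsg.Agent.Lib.BlkH6D
import Cfsg.Agent.Lib.BlkH7G
import Cfsg.Agent.Lib.BlkH7H
import Cfsg.Agent.Lib.BlockKB

/-!
The datum of a character of the local complement.
-/

set_option autoImplicit false
set_option linter.style.haveILetI false
set_option linter.unusedVariables false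
set_option linter.unusedSectionVars false
set_option linter.unusedDecidableInType false
set_option linter.unusedFintypeInType false
set_option linter.unusedSimpArgs false

namespace Cfsg.Agent.Lib.BlkH7I
open Cfsg Cfsg.Agent.Lib.BlockLoc Cfsg.Agent.Lib.BlockGA Cfsg.Agent.Lib.CharBasic
open Cfsg.Agent.Lib.BlockIdem Cfsg.Agent.Lib.BlockPP Cfsg.Agent.Lib.BlockOrth
open Cfsg.Agent.Lib.BlockRed Cfsg.Agent.Lib.BlockDef Cfsg.Agent.Lib.BlockDeg
open Cfsg.Agent.Lib.BlockNP Cfsg.Agent.Lib.BlockInd Cfsg.Agent.Lib.BlockSecond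
open Cfsg.Agent.Lib.BlockFirst Cfsg.Agent.Lib.BlockHt Cfsg.Agent.Lib.BlockM
open Cfsg.Agent.Lib.BlockCov Cfsg.Agent.Lib.BlockQuot Cfsg.Agent.Lib.CharKer
open Cfsg.Agent.Lib.BlockQuotB Cfsg.Agent.Lib.BlockMore Cfsg.Agent.Lib.BlockMoreB
open Cfsg.Agent.Lib.BlockTr Cfsg.Agent.Lib.CharNormal Cfsg.Agent.Lib.BlockCovB
open Cfsg.Agent.Lib.BlockBP Cfsg.Agent.Lib.BlockInt Cfsg.Agent.Lib.BlockSum Cfsg.Agent.Lib.BlockRk
open Cfsg.Agent.Lib.BlockFusB Cfsg.Agent.Lib.BlockMax Cfsg.Agent.Lib.CharSplit Cfsg.Agent.Lib.CharBrauer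
open Cfsg.Agent.Lib.CharInd Cfsg.Agent.Lib.BlockPC Cfsg.Agent.Lib.BlockPair Cfsg.Agent.Lib.BlockPairB
open Cfsg.Agent.Lib.BlockPairC Cfsg.Agent.Lib.BlockPairD Cfsg.Agent.Lib.BlockPairE
open Cfsg.Agent.Lib.BlockRey Cfsg.Agent.Lib.BlockPairF Cfsg.Agent.Lib.BlockFus Cfsg.Agent.Lib.BlockNilB Cfsg.Agent.Lib.BlockNil Cfsg.Agent.Lib.CharClifford
open Cfsg.Agent.Lib.BlockKB Cfsg.Agent.Lib.BlockLar Cfsg.Agent.Lib.BlockMaxB Cfsg.Agent.Lib.BlockIndIn Cfsg.Agent.Lib.BlockBFM
open Cfsg.Agent.Lib.BlkH6L Cfsg.Agent.Lib.BlkH6D Cfsg.Agent.Lib.BlkH7G Cfsg.Agent.Lib.BlkH7H Cfsg.Agent.Lib.BlockKB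
open scoped ComplexConjugate


section Gram

variable {G : Type*} [Group G] [Finite G] {Q : Type*} [CommGroup Q] [Fintype Q] {L : Type*}
  [Group L] [Finite L] {p : ℕ} {φ : L →* MulAut Q} {i : Q →* G} {j : L →* G}

theorem count_conj (c : AC p φ i j) [Fintype G] [DecidableEq G] [Fintype L] [DecidableEq L]
    [DecidableEq Q] {u v : Q} (hu : u ≠ 1) (k k' : φ.ker) :
    (Finset.univ.filter (fun t : G => t * (i u * j k) * t⁻¹ = i v * j k')).card =
      Nat.card Q * (Finset.univ.filter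
        (fun h : L => φ h u = v ∧ h * k * h⁻¹ = (k' : L))).card := by
  classical
  have hval : ∀ (h : L) (w : Q), (j h * i w) * (i u * j k) * (j h * i w)⁻¹ =
      i (φ h u) * j (h * k * h⁻¹) := by
    intro h w
    have h1 := (c.comm k.2 w).eq
    have h2 : (i w * (i u * j k)) * (i w)⁻¹ = i u * j k := by
      calc (i w * (i u * j k)) * (i w)⁻¹ = (i w * i u) * j k * (i w)⁻¹ := by group
        _ = (i u * i w) * j k * (i w)⁻¹ := by rw [← map_mul, mul_comm, map_mul]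
        _ = i u * (i w * j k) * (i w)⁻¹ := by group
        _ = i u * (j k * i w) * (i w)⁻¹ := by rw [h1]
        _ = _ := by group
    calc (j h * i w) * (i u * j k) * (j h * i w)⁻¹
        = j h * ((i w * (i u * j k)) * (i w)⁻¹) * (j h)⁻¹ := by group
      _ = j h * (i u * j k) * (j h)⁻¹ := by rw [h2]
      _ = (j h * i u * (j h)⁻¹) * (j h * j k * (j h)⁻¹) := by group
      _ = _ := by rw [c.act, map_mul, map_mul, map_inv]
  have hinj : Function.Injective (fun x : Q × L => j x.2 * i x.1) := by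
    rintro ⟨w, h⟩ ⟨w', h'⟩ he
    simp only at he
    have h1 : i (w' * w⁻¹) = j (h'⁻¹ * h) := by
      rw [map_mul, map_mul, map_inv, map_inv]
      have : (j h')⁻¹ * (j h * i w) * (i w)⁻¹ = (j h')⁻¹ * (j h' * i w') * (i w)⁻¹ := by rw [he]
      calc i w' * (i w)⁻¹ = (j h')⁻¹ * (j h' * i w') * (i w)⁻¹ := by group
        _ = (j h')⁻¹ * (j h * i w) * (i w)⁻¹ := this.symm
        _ = _ := by group
    obtain ⟨h2, h3⟩ := c.sep h1
    rw [mul_inv_eq_one] at h2
    rw [inv_mul_eq_one] at h3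
    rw [h2, h3]
  have h1 : Finset.univ.filter (fun t : G => t * (i u * j k) * t⁻¹ = i v * j k') =
      ((Finset.univ : Finset Q) ×ˢ Finset.univ.filter
        (fun h : L => φ h u = v ∧ h * k * h⁻¹ = (k' : L))).image (fun x => j x.2 * i x.1) := by
    ext t
    simp only [Finset.mem_filter, Finset.mem_univ, true_and, Finset.mem_image, Finset.mem_product]
    constructor
    · intro ht
      obtain ⟨h, w, rfl⟩ := c.tr t u v hu k k' k.2 k'.2 ht
      refine ⟨(w, h), ?_, rfl⟩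
      rw [hval] at ht
      have h2 : i (v⁻¹ * φ h u) = j ((k' : L) * (h * k * h⁻¹)⁻¹) := by
        rw [map_mul, map_mul, map_inv, map_inv]
        have : (i v)⁻¹ * (i (φ h u) * j (h * k * h⁻¹)) * (j (h * k * h⁻¹))⁻¹ =
            (i v)⁻¹ * (i v * j k') * (j (h * k * h⁻¹))⁻¹ := by rw [ht]
        calc (i v)⁻¹ * i (φ h u) = (i v)⁻¹ * (i (φ h u) * j (h * k * h⁻¹)) *
              (j (h * k * h⁻¹))⁻¹ := by group
          _ = _ := this
          _ = _ := by group
      obtain ⟨h3, h4⟩ := c.sep h2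
      rw [inv_mul_eq_one] at h3
      rw [mul_inv_eq_one] at h4
      exact ⟨h3.symm, h4.symm⟩
    · rintro ⟨⟨w, h⟩, ⟨h2, h3⟩, rfl⟩
      simp only at h2 h3 ⊢
      rw [hval, h2, h3]
  rw [h1, Finset.card_image_of_injective _ hinj, Finset.card_product, Finset.card_univ,
    Nat.card_eq_fintype_card]

theorem ker_le_inertia (θ : IrrCharacter φ.ker) : φ.ker ≤ inertia θ.1 :=
  le_inertia (isChar_classFn (isChar_of_irr θ.2))

theorem card_ker_sub {T : Subgroup L} (hT : φ.ker ≤ T) :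
    Nat.card (φ.subgroupMap T).ker = Nat.card φ.ker := by
  refine Nat.card_congr ⟨fun x => ⟨((x : T) : L), ?_⟩, fun y => ⟨⟨(y : L), hT y.2⟩, ?_⟩, ?_, ?_⟩
  · have := x.2
    rw [MonoidHom.mem_ker] at this
    exact congrArg Subtype.val this
  · rw [MonoidHom.mem_ker]
    exact Subtype.ext y.2
  · intro x; rfl
  · intro y; rfl

theorem card_map {T : Subgroup L} (hT : φ.ker ≤ T) :
    Nat.card (T.map φ) * Nat.card φ.ker = Nat.card T := by
  have h1 := Subgroup.card_mul_index (φ.subgroupMap T).ker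
  rw [card_ker_sub hT, Subgroup.index_ker] at h1
  have h2 : Nat.card (φ.subgroupMap T).range = Nat.card (T.map φ) := by
    rw [MonoidHom.range_eq_top.2 (φ.subgroupMap_surjective T)]
    exact Nat.card_congr Subgroup.topEquiv.toEquiv
  rw [h2] at h1
  rw [mul_comm]
  exact h1

theorem count_T [Fintype L] {T : Subgroup L} (hT : φ.ker ≤ T) (u v : Q) [DecidablePred (· ∈ T)]
    [DecidableEq Q] :
    ((Finset.univ.filter (fun h : L => φ h u = v ∧ h ∈ T)).card : ℂ) =
      (Nat.card φ.ker : ℂ) * (Set.ncard {α : MulAut Q | α ∈ T.map φ ∧ α u = v} : ℂ) := by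
  classical
  haveI : Fintype (T.map φ) := Fintype.ofFinite _
  have h1 := sum_comp_surj (φ.subgroupMap T) (φ.subgroupMap_surjective T)
    (fun α : T.map φ => if (α : MulAut Q) u = v then (1 : ℂ) else 0)
  rw [card_ker_sub hT] at h1
  have h2 : ∑ x : T, (if ((φ.subgroupMap T x : T.map φ) : MulAut Q) u = v then (1 : ℂ) else 0) =
      ((Finset.univ.filter (fun h : L => φ h u = v ∧ h ∈ T)).card : ℂ) := by
    rw [Finset.sum_boole]
    congr 1
    refine Finset.card_bij (fun x _ => (x : L)) ?_ ?_ ?_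
    · intro x hx
      rw [Finset.mem_filter] at hx ⊢
      exact ⟨Finset.mem_univ _, hx.2, x.2⟩
    · intro x _ y _ h
      exact Subtype.ext h
    · intro y hy
      rw [Finset.mem_filter] at hy
      exact ⟨⟨y, hy.2.2⟩, Finset.mem_filter.2 ⟨Finset.mem_univ _, hy.2.1⟩, rfl⟩
  rw [← h2, h1]
  congr 1
  rw [Finset.sum_boole]
  congr 1
  have h3 : {α : MulAut Q | α ∈ T.map φ ∧ α u = v} =
      (Subtype.val : T.map φ → MulAut Q) '' {α : T.map φ | (α : MulAut Q) u = v} := by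
    ext α
    constructor
    · rintro ⟨h1, h2⟩
      exact ⟨⟨α, h1⟩, h2, rfl⟩
    · rintro ⟨α, h1, rfl⟩
      exact ⟨α.2, h1⟩
  rw [h3, Set.ncard_image_of_injective _ Subtype.val_injective, Set.ncard_eq_toFinset_card']
  congr 1
  ext α
  simp

theorem inner_cj [Fintype φ.ker] (θ : IrrCharacter φ.ker) (h : L) [Decidable (h ∈ inertia θ.1)] :
    classInner (cj h θ.1) θ.1 = if h ∈ inertia θ.1 then 1 else 0 := by
  split_ifs with h1
  · rw [mem_inertia.1 h1]
    exact irr_inner_self θ.2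
  · exact irr_inner_ne (cj_isIrr h θ.2) θ.2 h1

theorem DD_gram (c : AC p φ i j) (θ : IrrCharacter φ.ker) {u v : Q} (hu : u ≠ 1) :
    ∑ χ : IrrCharacter G, DD i j θ χ.1 u * DD i j θ χ.1 v⁻¹ =
      (Nat.card Q : ℂ) *
        (Set.ncard {α : MulAut Q | α ∈ (inertia θ.1).map φ ∧ α u = v} : ℂ) := by
  classical
  cases nonempty_fintype G
  cases nonempty_fintype L
  haveI : Fintype φ.ker := Fintype.ofFinite _
  have hK0 : (Nat.card φ.ker : ℂ) ≠ 0 := Nat.cast_ne_zero.2 Nat.card_pos.ne'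
  have h1 : ∀ χ : IrrCharacter G, DD i j θ χ.1 u * DD i j θ χ.1 v⁻¹ =
      ((Nat.card φ.ker : ℂ)⁻¹) ^ 2 * ∑ k : φ.ker, ∑ k' : φ.ker,
        conj (θ.1 k) * θ.1 k' * (χ.1 (i u * j k) * conj (χ.1 (i v * j k'))) := by
    intro χ
    rw [DD_conj c (isChar_of_irr χ.2), DD_eq, DD_eq, map_mul, map_sum, map_inv₀,
      Complex.conj_natCast, mul_mul_mul_comm, ← sq, Finset.sum_mul_sum]
    congr 1
    refine Finset.sum_congr rfl (fun k _ => Finset.sum_congr rfl (fun k' _ => ?_))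
    rw [map_mul, Complex.conj_conj]
    ring
  rw [Finset.sum_congr rfl (fun χ _ => h1 χ), ← Finset.mul_sum]
  have h2 : ∑ χ : IrrCharacter G, ∑ k : φ.ker, ∑ k' : φ.ker,
        conj (θ.1 k) * θ.1 k' * (χ.1 (i u * j k) * conj (χ.1 (i v * j k'))) =
      ∑ k : φ.ker, ∑ k' : φ.ker, conj (θ.1 k) * θ.1 k' * ((Nat.card Q : ℂ) *
        ∑ h : L, if φ h u = v ∧ h * k * h⁻¹ = (k' : L) then 1 else 0) := by
    rw [Finset.sum_comm]
    refine Finset.sum_congr rfl (fun k _ => ?_)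
    rw [Finset.sum_comm]
    refine Finset.sum_congr rfl (fun k' _ => ?_)
    rw [← Finset.mul_sum, column_count, count_conj c hu k k', Finset.sum_boole]
    push_cast
    rfl
  rw [h2]
  have h3 : ∑ k : φ.ker, ∑ k' : φ.ker, conj (θ.1 k) * θ.1 k' * ((Nat.card Q : ℂ) *
        ∑ h : L, if φ h u = v ∧ h * k * h⁻¹ = (k' : L) then 1 else 0) =
      (Nat.card Q : ℂ) * ∑ h : L, if φ h u = v then
        (Nat.card φ.ker : ℂ) * classInner (cj h θ.1) θ.1 else 0 := by
    have h4 : ∀ k k' : φ.ker, conj (θ.1 k) * θ.1 k' * ((Nat.card Q : ℂ) *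
        ∑ h : L, if φ h u = v ∧ h * k * h⁻¹ = (k' : L) then 1 else 0) =
        (Nat.card Q : ℂ) * ∑ h : L, if φ h u = v ∧ h * k * h⁻¹ = (k' : L) then
          conj (θ.1 k) * θ.1 k' else 0 := by
      intro k k'
      rw [mul_left_comm, Finset.mul_sum]
      congr 1
      refine Finset.sum_congr rfl (fun h _ => ?_)
      split_ifs <;> simp
    simp only [h4]
    simp only [← Finset.mul_sum]
    congr 1
    have h5 : ∀ k : φ.ker, ∑ k' : φ.ker, ∑ h : L,
        (if φ h u = v ∧ h * k * h⁻¹ = (k' : L) then conj (θ.1 k) * θ.1 k' else 0) =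
        ∑ h : L, if φ h u = v then conj (θ.1 k) * cj h θ.1 k else 0 := by
      intro k
      rw [Finset.sum_comm]
      refine Finset.sum_congr rfl (fun h _ => ?_)
      by_cases hv : φ h u = v
      · rw [if_pos hv, Finset.sum_eq_single (cjAut (N := φ.ker) h k)]
        · rw [if_pos ⟨hv, (cjAut_coe h k).symm⟩, cj_eq_comp]
        · intro k' _ hk'
          rw [if_neg]
          rintro ⟨_, h6⟩
          exact hk' (Subtype.ext (h6.symm.trans (cjAut_coe h k).symm))
        · intro h6; exact absurd (Finset.mem_univ _) h6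
      · rw [if_neg hv]
        exact Finset.sum_eq_zero (fun k' _ => if_neg (fun h6 => hv h6.1))
    rw [Finset.sum_congr rfl (fun k _ => h5 k), Finset.sum_comm]
    refine Finset.sum_congr rfl (fun h _ => ?_)
    by_cases hv : φ h u = v
    · simp only [if_pos hv]
      rw [classInner, mul_inv_cancel_left₀ hK0]
      exact Finset.sum_congr rfl (fun k _ => mul_comm _ _)
    · simp only [if_neg hv]
      exact Finset.sum_const_zero
  rw [h3]
  have h4 : ∑ h : L, (if φ h u = v then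
        (Nat.card φ.ker : ℂ) * classInner (cj h θ.1) θ.1 else 0) =
      (Nat.card φ.ker : ℂ) *
        ((Finset.univ.filter (fun h : L => φ h u = v ∧ h ∈ inertia θ.1)).card : ℂ) := by
    rw [← Finset.sum_boole, Finset.mul_sum]
    refine Finset.sum_congr rfl (fun h _ => ?_)
    rw [inner_cj]
    by_cases hv : φ h u = v
    · by_cases ht : h ∈ inertia θ.1
      · rw [if_pos hv, if_pos ht, if_pos ⟨hv, ht⟩]
      · rw [if_pos hv, if_neg ht, if_neg (fun h6 => ht h6.2)]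
    · rw [if_neg hv, if_neg (fun h6 => hv h6.1), mul_zero]
  rw [h4, count_T (ker_le_inertia θ)]
  field_simp

theorem DD_rel (c : AC p φ i j) (θ : IrrCharacter φ.ker) {u : Q} (hu : u ≠ 1) {x : G}
    (hx : ¬ p ∣ orderOf x) : ∑ χ : IrrCharacter G, DD i j θ χ.1 u * χ.1 x = 0 := by
  classical
  cases nonempty_fintype G
  haveI : Fintype φ.ker := Fintype.ofFinite _
  have h1 : ∀ χ : IrrCharacter G, DD i j θ χ.1 u * χ.1 x =
      (Nat.card φ.ker : ℂ)⁻¹ * ∑ k : φ.ker, conj (θ.1 k) *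
        (χ.1 (i u * j k) * conj (χ.1 x⁻¹)) := by
    intro χ
    rw [DD_eq, mul_assoc, Finset.sum_mul]
    congr 1
    refine Finset.sum_congr rfl (fun k _ => ?_)
    rw [char_inv (isChar_of_irr χ.2), Complex.conj_conj]
    ring
  rw [Finset.sum_congr rfl (fun χ _ => h1 χ), ← Finset.mul_sum, Finset.sum_comm]
  rw [Finset.sum_eq_zero, mul_zero]
  intro k _
  rw [← Finset.mul_sum, column_orth, if_neg, mul_zero]
  intro hc
  have h2 : orderOf (i u * j (k : L)) = orderOf x⁻¹ := by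
    obtain ⟨y, hy⟩ := isConj_iff.1 hc
    rw [← hy, BlockHt.orderOf_conj]
  rw [orderOf_inv] at h2
  exact hx (h2 ▸ c.order_ij hu k.2)

/-- The datum of a character of `K`. -/
theorem DD_dat (c : AC p φ i j) (θ : IrrCharacter φ.ker) :
    ∃ mult : IrrCharacter G → (Q →* ℂˣ) → ℤ,
      Dat ((inertia θ.1).map φ) mult (fun (χ : IrrCharacter G) u => DD i j θ χ.1 u) := by
  obtain ⟨mult, hm⟩ := exists_mul c θ
  refine ⟨mult, fun h _ h1 u hu => c.free h h1 u hu, fun {_} χ u => hm χ u, ?_, ?_⟩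
  · rintro χ _ ⟨t, ht, rfl⟩ u
    exact DD_inv c (isChar_classFn (isChar_of_irr χ.2)) ht u
  · intro u v hu _
    exact DD_gram c θ hu

/-- The characters over `θ`. -/
def II (i : Q →* G) (j : L →* G) (θ : IrrCharacter φ.ker) : Set (IrrCharacter G) :=
  Supp (fun (χ : IrrCharacter G) u => DD i j θ χ.1 u)

theorem II_numeric (c : AC p φ i j) (θ : IrrCharacter φ.ker)
    [Fintype ((inertia θ.1).map φ)] :
    ∃ r : ℕ, r * Nat.card ((inertia θ.1).map φ) = p - 1 ∧
      Nat.card (II i j θ) ≤ Nat.card ((inertia θ.1).map φ) + r ∧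
      (Nat.card (II i j θ) = Nat.card ((inertia θ.1).map φ) + r → ∃ X Y a δ,
        Str ((inertia θ.1).map φ) (fun (χ : IrrCharacter G) u => DD i j θ χ.1 u) X Y a δ) := by
  obtain ⟨mult, hD⟩ := DD_dat c θ
  have h1 := numeric hD (by rw [c.cQ]; exact c.hp.one_lt) (c.card_bound _)
    (fun χ => (charDegree χ.1 : ℤ)) (fun χ => ?_) (fun u hu => ?_)
  · rwa [c.cQ] at h1
  · exact_mod_cast charDegree_pos χ.2
  · have h2 := DD_rel c θ hu (x := (1 : G)) (by rw [orderOf_one]; exact c.hp.one_lt.not_ge ∘ Nat.le_of_dvd one_pos)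
    rw [← h2]
    refine Finset.sum_congr rfl (fun χ _ => ?_)
    rw [irr_one_eq χ]
    push_cast
    rfl

end Gram

end Cfsg.Agent.Lib.BlkH7I
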