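import Cfsg.Agent.Lib.BlockRey
import Cfsg.Agent.Lib.BlockKB
import Cfsg.Agent.Lib.BlockLar
import Cfsg.Agent.Lib.BlockMaxB
import Cfsg.Agent.Lib.BlockIndIn
import Cfsg.Agent.Lib.BlockBFM

import Cfsg.Agent.Lib.BlkH6L
import Cfsg.Agent.Lib.BlkH6D
import Cfsg.Agent.Lib.BlkH7G
import Cfsg.Agent.Lib.BlkH7H
import Cfsg.Agent.Lib.BlkH7I
import Cfsg.Agent.Lib.BlockKB
import Cfsg.Agent.Lib.CharExt

/-!
Orbits of the local complement on characters.
-/

set_option autoImplicit false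
set_option linter.style.haveILetI false
set_option linter.unusedVariables false
set_option linter.unusedSectionVars false
set_option linter.unusedDecidableInType false
set_option linter.unusedFintypeInType false
set_option linter.unusedSimpArgs false

namespace Cfsg.Agent.Lib.BlkH7J
open Cfsg Cfsg.Agent.Lib.BlockLoc Cfsg.Agent.Lib.BlockGA Cfsg.Agent.Lib.CharBasic
open Cfsg.Agent.Lib.BlockIdem Cfsg.Agent.Lib.BlockPP Cfsg.Agent.Lib.BlockOrth
open Cfsg.Agent.Lib.BlockRed Cfsg.Agent.Lib.BlockDef Cfsg.Agent.Lib.BlockDeg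
open Cfsg.Agent.Lib.BlockNP Cfsg.Agent.Lib.BlockInd Cfsg.Agent.Lib.BlockSecond
open Cfsg.Agent.Lib.BlockFirst Cfsg.Agent.Lib.BlockHt Cfsg.Agent.Lib.BlockM
open Cfsg.Agent.Lib.BlockCov Cfsg.Agent.Lib.BlockQuot Cfsg.Agent.Lib.CharKer
open Cfsg.Agent.Lib.BlockQuotB Cfsg.Agent.Lib.BlockMore Cfsg.Agent.Lib.BlockMoreB
open Cfsg.Agent.Lib.BlockTr Cfsg.Agent.Lib.CharNormal Cfsg.Agent.Lib.BlockCovB
open Cfsg.Agent.Lib.BlockBP Cfsg.Agent.Lib.BlockInt Cfsg.Agent.Lib.BlockSum Cfsg.Agent.Lib.BlockRk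
open Cfsg.Agent.Lib.BlockFusB Cfsg.Agent.Lib.BlockMax Cfsg.Agent.Lib.CharSplit Cfsg.Agent.Lib.CharBrauer
open Cfsg.Agent.Lib.CharInd Cfsg.Agent.Lib.BlockPC Cfsg.Agent.Lib.BlockPair Cfsg.Agent.Lib.BlockPairB
open Cfsg.Agent.Lib.BlockPairC Cfsg.Agent.Lib.BlockPairD Cfsg.Agent.Lib.BlockPairE
open Cfsg.Agent.Lib.BlockRey Cfsg.Agent.Lib.BlockPairF Cfsg.Agent.Lib.BlockFus Cfsg.Agent.Lib.BlockNilB Cfsg.Agent.Lib.BlockNil Cfsg.Agent.Lib.CharClifford
open Cfsg.Agent.Lib.BlockKB Cfsg.Agent.Lib.BlockLar Cfsg.Agent.Lib.BlockMaxB Cfsg.Agent.Lib.BlockIndIn Cfsg.Agent.Lib.BlockBFM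
open Cfsg.Agent.Lib.BlkH6L Cfsg.Agent.Lib.BlkH6D Cfsg.Agent.Lib.BlkH7G Cfsg.Agent.Lib.BlkH7H Cfsg.Agent.Lib.BlkH7I Cfsg.Agent.Lib.BlockKB Cfsg.Agent.Lib.CharExt
open scoped ComplexConjugate


section CliffCyc

variable {G : Type*} [Group G] [Finite G] {N : Subgroup G} [hN : N.Normal]

/-- Characters over `θ` when the inertia quotient is cyclic. -/
theorem over_card [Fintype N] (θ : IrrCharacter N)
    (hcyc : IsCyclic (inertia θ.1 ⧸ N.subgroupOf (inertia θ.1))) :
    Nat.card {ξ : IrrCharacter G // Over ξ θ} = N.relIndex (inertia θ.1) := by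
  classical
  cases nonempty_fintype G
  set T : Subgroup G := inertia θ.1 with hT
  haveI : Fintype T := Fintype.ofFinite _
  haveI : Fintype (N.subgroupOf T) := Fintype.ofFinite _
  have hNT : N ≤ T := le_inertia (isChar_classFn (isChar_of_irr θ.2))
  set θ' : N.subgroupOf T → ℂ := fun n => θ.1 ⟨((n : T) : G), Subgroup.mem_subgroupOf.mp n.2⟩
    with hθ'
  have hirr : IsIrrCharacter (N.subgroupOf T) θ' := (isIrr_subgroupOf_iff hNT θ.1).2 θ.2
  have hinv : ∀ g : T, cj g θ' = θ' := by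
    intro g
    funext n
    have h1 : cj (g : G) θ.1 = θ.1 := g.2
    have h2 := congrFun h1 ⟨((n : T) : G), Subgroup.mem_subgroupOf.mp n.2⟩
    exact h2
  obtain ⟨χ₀, hχ₀, hext⟩ := CharExt.ext_of_cyclic hcyc hirr hinv
  have hgal := gallagher hirr hχ₀ hext
  have hkey : ∀ ξ : IrrCharacter G, Over ξ θ → classInner (fun n : N => ξ.1 n) θ.1 = 1 := by
    intro ξ hξ
    obtain ⟨ψ, hψ, hind, h1, h2⟩ := exists_clifford θ.2 (fun g => by rw [hT]; exact mem_inertia)
      hNT ξ.2 hξ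
    have h3 : classInner (fun n : N.subgroupOf T => ψ n) θ' ≠ 0 := by
      have h4 := inner_subgroupOf hNT (resLe hNT ψ) θ.1
      have h5 : classInner (fun n : N.subgroupOf T => ψ n) θ' = classInner (resLe hNT ψ) θ.1 := h4
      rw [h5, h1]
      exact hξ
    obtain ⟨β, ⟨hβ, hβN⟩, hβψ⟩ := hgal.2.2 ⟨hψ, h3⟩
    obtain ⟨β', hβ', hββ', hirrβ⟩ := exists_quot (isChar_of_irr hβ) hβN
    have hcomm : ∀ a b : T ⧸ N.subgroupOf T, a * b = b * a := by
      haveI := hcyc
      letI := IsCyclic.commGroup (α := T ⧸ N.subgroupOf T)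
      intro a b
      exact mul_comm a b
    obtain ⟨l, hl⟩ := irr_lin_of_comm hcomm (hirrβ hβ)
    have hβ1 : β 1 = 1 := by
      rw [hββ', hl]
      simp
    have h6 : resLe hNT ψ = θ.1 := by
      funext n
      have h7 : ψ ⟨(n : G), hNT n.2⟩ = β ⟨(n : G), hNT n.2⟩ * χ₀ ⟨(n : G), hNT n.2⟩ := by
        rw [← hβψ]; rfl
      have h8 : β ⟨(n : G), hNT n.2⟩ = 1 := by
        rw [hβN _ (Subgroup.mem_subgroupOf.2 n.2), hβ1]
      have h9 : χ₀ ⟨(n : G), hNT n.2⟩ = θ.1 n :=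
        hext ⟨⟨(n : G), hNT n.2⟩, Subgroup.mem_subgroupOf.2 n.2⟩
      change ψ ⟨(n : G), hNT n.2⟩ = θ.1 n
      rw [h7, h8, h9, one_mul]
    rw [← h1, h6]
    exact irr_inner_self θ.2
  have hcl : IsClassFunction G (indFun N θ.1) := indFun_classFn N θ.1
  have h1 := classFn_inner_eq_sum hcl hcl
  rw [ind_inner_self θ.2] at h1
  have h2 : ∀ ξ : IrrCharacter G, classInner (indFun N θ.1) ξ.1 *
      conj (classInner (indFun N θ.1) ξ.1) = if Over ξ θ then 1 else 0 := by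
    intro ξ
    rw [reciprocity N θ.1 ξ.1 (isChar_classFn (isChar_of_irr ξ.2))]
    have h3 : classInner θ.1 (fun h : N => ξ.1 h) = conj (classInner (fun n : N => ξ.1 n) θ.1) :=
      (classInner_conj_symm _ _).symm
    rw [h3]
    split_ifs with h
    · rw [hkey ξ h]; simp
    · have h4 : classInner (fun n : N => ξ.1 n) θ.1 = 0 := by
        by_contra h'
        exact h h'
      rw [h4]; simp
  rw [Finset.sum_congr rfl (fun ξ _ => h2 ξ), Finset.sum_boole] at h1
  have h3 : Nat.card {ξ : IrrCharacter G // Over ξ θ} =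
      (Finset.univ.filter (fun ξ : IrrCharacter G => Over ξ θ)).card := by
    rw [Nat.card_eq_fintype_card, Fintype.card_subtype]
  rw [h3]
  exact_mod_cast h1.symm

end CliffCyc

section Orb

variable {Q : Type*} [CommGroup Q] [Fintype Q] {L : Type*} [Group L] [Finite L]
  {φ : L →* MulAut Q}

theorem cyc_mulAut (hQ : (Nat.card Q).Prime) : IsCyclic (MulAut Q) := by
  haveI : Fact (Nat.card Q).Prime := ⟨hQ⟩
  haveI : IsCyclic Q := isCyclic_of_prime_card rfl
  haveI := ZMod.isCyclic_units_prime hQ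
  exact isCyclic_of_injective (IsCyclic.mulAutMulEquiv Q).toMonoidHom
    (IsCyclic.mulAutMulEquiv Q).injective

theorem cyc_quot (hQ : (Nat.card Q).Prime) (T : Subgroup L) :
    IsCyclic (T ⧸ φ.ker.subgroupOf T) := by
  haveI := cyc_mulAut hQ
  change IsCyclic (T ⧸ (φ.comp T.subtype).ker)
  exact isCyclic_of_injective (QuotientGroup.kerLift (φ.comp T.subtype))
    (QuotientGroup.kerLift_injective _)

/-- The orbit relation. -/
def orbS (φ : L →* MulAut Q) : Setoid (IrrCharacter φ.ker) where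
  r θ θ' := ∃ h : L, θ' = cjI h θ
  iseqv := {
    refl := fun θ => ⟨1, (cjI_one θ).symm⟩
    symm := by
      rintro θ _ ⟨h, rfl⟩
      exact ⟨h⁻¹, (cjI_inv_cjI h θ).symm⟩
    trans := by
      rintro θ _ _ ⟨h, rfl⟩ ⟨h', rfl⟩
      exact ⟨h * h', (cjI_mul h h' θ).symm⟩ }

theorem card_orb (θ : IrrCharacter φ.ker) :
    Nat.card {θ' : IrrCharacter φ.ker // (orbS φ).r θ θ'} = (inertia θ.1).index := by
  rw [← card_orbit θ.1]
  refine Nat.card_congr (Equiv.ofBijective (fun x : {θ' : IrrCharacter φ.ker // (orbS φ).r θ θ'} =>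
    (⟨x.1.1, by
      obtain ⟨h, hh⟩ := x.2
      exact ⟨h, congrArg Subtype.val hh⟩⟩ : {ψ : φ.ker → ℂ | ∃ g : L, ψ = cj g θ.1})) ⟨?_, ?_⟩)
  · intro x y hxy
    have h1 := Subtype.ext_iff.1 hxy
    exact Subtype.ext (Subtype.ext h1)
  · rintro ⟨ψ, h, rfl⟩
    exact ⟨⟨cjI h θ, h, rfl⟩, rfl⟩

theorem card_e (θ : IrrCharacter φ.ker) :
    Nat.card ((inertia θ.1).map φ) * (inertia θ.1).index * Nat.card φ.ker = Nat.card L := by
  have h1 := card_map (φ := φ) (ker_le_inertia θ)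
  have h2 := Subgroup.card_mul_index (inertia θ.1)
  rw [← h2, ← h1]
  ring

theorem index_cj (θ : IrrCharacter φ.ker) (h : L) :
    (inertia (cjI h θ).1).index = (inertia θ.1).index := by
  rw [← card_orb, ← card_orb]
  refine Nat.card_congr (Equiv.subtypeEquivRight (fun θ' => ?_))
  constructor
  · intro h1
    exact (orbS φ).trans' ⟨h, rfl⟩ h1
  · intro h1
    exact (orbS φ).trans' ((orbS φ).symm' ⟨h, rfl⟩) h1

theorem card_e_cj (θ : IrrCharacter φ.ker) (h : L) :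
    Nat.card ((inertia (cjI h θ).1).map φ) = Nat.card ((inertia θ.1).map φ) := by
  have h1 := card_e θ
  have h2 := card_e (cjI h θ)
  rw [index_cj, ← h1, mul_assoc, mul_assoc] at h2
  have h3 : 0 < (inertia θ.1).index := Nat.pos_of_ne_zero Subgroup.index_ne_zero_of_finite
  have h4 : 0 < Nat.card φ.ker := Nat.card_pos
  exact Nat.eq_of_mul_eq_mul_right (Nat.mul_pos h3 h4) h2

theorem relIndex_e (θ : IrrCharacter φ.ker) :
    φ.ker.relIndex (inertia θ.1) = Nat.card ((inertia θ.1).map φ) := by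
  have h1 := card_map (φ := φ) (ker_le_inertia θ)
  have h2 := CharClifford.relIndex_mul_card' φ.ker (inertia θ.1) (ker_le_inertia θ)
  rw [← h1] at h2
  exact Nat.eq_of_mul_eq_mul_right Nat.card_pos h2

/-- The sum of the inertial indices. -/
theorem sum_e_le (hQ : (Nat.card Q).Prime) [Fintype (Quotient (orbS φ))] :
    ∑ ω : Quotient (orbS φ), Nat.card ((inertia (Quotient.out ω).1).map φ) ≤
      Nat.card (IrrCharacter L) := by
  classical
  haveI : Fintype φ.ker := Fintype.ofFinite _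
  have h1 : ∀ ω : Quotient (orbS φ), Nat.card ((inertia (Quotient.out ω).1).map φ) =
      Nat.card {ξ : IrrCharacter L // Over ξ (Quotient.out ω)} := by
    intro ω
    rw [over_card _ (cyc_quot hQ _), relIndex_e]
  rw [Finset.sum_congr rfl (fun ω _ => h1 ω), ← Nat.card_sigma]
  refine Nat.card_le_card_of_injective (fun x => x.2.1) ?_
  rintro ⟨ω, ξ, hξ⟩ ⟨ω', ξ', hξ'⟩ he
  have he' : ξ = ξ' := he
  subst he'
  obtain ⟨x, hx⟩ := exists_cjI_of_over hξ hξ'
  have h2 : ω = ω' := by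
    rw [← Quotient.out_eq ω, ← Quotient.out_eq ω']
    exact Quotient.sound ⟨x, hx⟩
  subst h2
  rfl

theorem sum_orb [Fintype (Quotient (orbS φ))] :
    ∑ ω : Quotient (orbS φ), (inertia (Quotient.out ω).1).index = Nat.card (IrrCharacter φ.ker) := by
  classical
  have h1 : ∀ ω : Quotient (orbS φ), (inertia (Quotient.out ω).1).index =
      Nat.card {θ : IrrCharacter φ.ker // Quotient.mk (orbS φ) θ = ω} := by
    intro ω
    rw [← card_orb]
    refine Nat.card_congr (Equiv.subtypeEquivRight (fun θ => ?_))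
    constructor
    · intro h
      rw [← Quotient.out_eq ω]
      exact Quotient.sound ((orbS φ).symm' h)
    · rintro rfl
      exact Quotient.exact (Quotient.out_eq _)
  rw [Finset.sum_congr rfl (fun ω _ => h1 ω), ← Nat.card_sigma]
  exact Nat.card_congr (Equiv.sigmaFiberEquiv (Quotient.mk (orbS φ)))

end Orb

end Cfsg.Agent.Lib.BlkH7J
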