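import Cfsg.Agent.Lib.BlockRey
import Cfsg.Agent.Lib.BlockKB
import Cfsg.Agent.Lib.BlockLar
import Cfsg.Agent.Lib.BlockMaxB
import Cfsg.Agent.Lib.BlockIndIn
import Cfsg.Agent.Lib.BlockBFM

import Cfsg.Agent.Lib.BlkH6L
import Cfsg.Agent.Lib.BlkH6D
import Cfsg.Agent.Lib.BlkH7E
import Cfsg.Agent.Lib.BlkH7F
import Cfsg.Agent.Lib.BlkH7G
import Cfsg.Agent.Lib.BlkH7H
import Cfsg.Agent.Lib.BlkH7I
import Cfsg.Agent.Lib.BlkH7J
import Cfsg.Agent.Lib.BlockKB
import Cfsg.Agent.Lib.CharTable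

/-!
The counting theorem for blocks of defect one.
-/

set_option autoImplicit false
set_option linter.style.haveILetI false
set_option linter.unusedVariables false
set_option linter.unusedSectionVars false
set_option linter.unusedDecidableInType false
set_option linter.unusedFintypeInType false
set_option linter.unusedSimpArgs false

namespace Cfsg.Agent.Lib.BlkH7K
open Cfsg Cfsg.Agent.Lib.BlockLoc Cfsg.Agent.Lib.BlockGA Cfsg.Agent.Lib.CharBasic
open Cfsg.Agent.Lib.BlockIdem Cfsg.Agent.Lib.BlockPP Cfsg.Agent.Lib.BlockOrth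
open Cfsg.Agent.Lib.BlockRed Cfsg.Agent.Lib.BlockDef Cfsg.Agent.Lib.BlockDeg
open Cfsg.Agent.Lib.BlockNP Cfsg.Agent.Lib.BlockInd Cfsg.Agent.Lib.BlockSecond
open Cfsg.Agent.Lib.BlockFirst Cfsg.Agent.Lib.BlockHt Cfsg.Agent.Lib.BlockM
open Cfsg.Agent.Lib.BlockCov Cfsg.Agent.Lib.BlockQuot Cfsg.Agent.Lib.CharKer
open Cfsg.Agent.Lib.BlockQuotB Cfsg.Agent.Lib.BlockMore Cfsg.Agent.Lib.BlockMoreB
open Cfsg.Agent.Lib.BlockTr Cfsg.Agent.Lib.CharNormal Cfsg.Agent.Lib.BlockCovB
open Cfsg.Agent.Lib.BlockBP Cfsg.Agent.Lib.BlockInt Cfsg.Agent.Lib.BlockSum Cfsg.Agent.Lib.BlockRk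
open Cfsg.Agent.Lib.BlockFusB Cfsg.Agent.Lib.BlockMax Cfsg.Agent.Lib.CharSplit Cfsg.Agent.Lib.CharBrauer
open Cfsg.Agent.Lib.CharInd Cfsg.Agent.Lib.BlockPC Cfsg.Agent.Lib.BlockPair Cfsg.Agent.Lib.BlockPairB
open Cfsg.Agent.Lib.BlockPairC Cfsg.Agent.Lib.BlockPairD Cfsg.Agent.Lib.BlockPairE
open Cfsg.Agent.Lib.BlockRey Cfsg.Agent.Lib.BlockPairF Cfsg.Agent.Lib.BlockFus Cfsg.Agent.Lib.BlockNilB Cfsg.Agent.Lib.BlockNil Cfsg.Agent.Lib.CharClifford
open Cfsg.Agent.Lib.BlockKB Cfsg.Agent.Lib.BlockLar Cfsg.Agent.Lib.BlockMaxB Cfsg.Agent.Lib.BlockIndIn Cfsg.Agent.Lib.BlockBFM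
open Cfsg.Agent.Lib.BlkH6L Cfsg.Agent.Lib.BlkH6D Cfsg.Agent.Lib.BlkH7E Cfsg.Agent.Lib.BlkH7F Cfsg.Agent.Lib.BlkH7G Cfsg.Agent.Lib.BlkH7H Cfsg.Agent.Lib.BlkH7I Cfsg.Agent.Lib.BlkH7J Cfsg.Agent.Lib.BlockKB Cfsg.Agent.Lib.CharTable
open scoped ComplexConjugate


section Count

variable {G : Type*} [Group G] [Finite G] {Q : Type*} [CommGroup Q] [Fintype Q] {L : Type*}
  [Group L] [Finite L] {p : ℕ} {φ : L →* MulAut Q} {i : Q →* G} {j : L →* G}

/-- The classes of `p`-singular elements. -/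
def SGC (p : ℕ) (G : Type*) [Group G] : Type _ :=
  {c : ConjClasses G // ∃ g, ConjClasses.mk g = c ∧ p ∣ orderOf g}

instance : Finite (SGC p G) := by
  unfold SGC; infer_instance

theorem prc_add_sgc (p : ℕ) : Nat.card (PRC p G) + Nat.card (SGC p G) = Nat.card (IrrCharacter G) := by
  classical
  haveI : Fintype G := Fintype.ofFinite _
  rw [card_irr]
  have h1 : ∀ c : ConjClasses G, (∃ g, ConjClasses.mk g = c ∧ p ∣ orderOf g) ↔
      ¬ (∃ g, ConjClasses.mk g = c ∧ ¬ p ∣ orderOf g) := by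
    intro c
    obtain ⟨x, rfl⟩ := ConjClasses.exists_rep c
    have h2 : ∀ g, ConjClasses.mk g = ConjClasses.mk x → orderOf g = orderOf x := by
      intro g hg
      obtain ⟨y, hy⟩ := isConj_iff.1 (ConjClasses.mk_eq_mk_iff_isConj.1 hg)
      rw [← hy, BlockHt.orderOf_conj]
    constructor
    · rintro ⟨g, hg, hg2⟩ ⟨g', hg', hg2'⟩
      rw [h2 g' hg', ← h2 g hg] at hg2'
      exact hg2' hg2
    · intro h
      push Not at h
      exact ⟨x, rfl, h x rfl⟩
  have h3 : Nat.card (SGC p G) = Nat.card {c : ConjClasses G //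
      ¬ (∃ g, ConjClasses.mk g = c ∧ ¬ p ∣ orderOf g)} :=
    Nat.card_congr (Equiv.subtypeEquivRight h1)
  rw [h3, ← Nat.card_sum]
  exact Nat.card_congr (Equiv.sumCompl (fun c : ConjClasses G =>
    ∃ g, ConjClasses.mk g = c ∧ ¬ p ∣ orderOf g))

theorem autClass_ker (x y : L) (h : φ x = φ y) (C : ConjClasses φ.ker) :
    autClass (cjAut (N := φ.ker) x) C = autClass (cjAut (N := φ.ker) y) C := by
  obtain ⟨k, rfl⟩ := ConjClasses.exists_rep C
  rw [autClass_mk, autClass_mk, ConjClasses.mk_eq_mk_iff_isConj, isConj_iff]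
  refine ⟨⟨y * x⁻¹, ?_⟩, ?_⟩
  · rw [MonoidHom.mem_ker, map_mul, map_inv, h, mul_inv_cancel]
  · refine Subtype.ext ?_
    push_cast
    rw [cjAut_coe, cjAut_coe]
    group

theorem sgc_bound (c : AC p φ i j) :
    (p - 1) * Nat.card (IrrCharacter φ.ker) ≤ Nat.card φ.range * Nat.card (SGC p G) := by
  classical
  haveI : Fintype φ.ker := Fintype.ofFinite _
  haveI : Fintype (ConjClasses φ.ker) := Fintype.ofFinite _
  haveI : Fintype (SGC p G) := Fintype.ofFinite _
  let f : {u : Q // u ≠ 1} × ConjClasses φ.ker → SGC p G := fun x =>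
    ⟨ConjClasses.mk (i x.1.1 * j ((Quotient.out x.2 : φ.ker) : L)), _, rfl,
      c.order_ij x.1.2 (Quotient.out x.2).2⟩
  have hout : ∀ C : ConjClasses φ.ker, ConjClasses.mk (Quotient.out C) = C := fun C =>
    Quotient.out_eq C
  have hfib : ∀ s : SGC p G, (Finset.univ.filter (fun x => f x = s)).card ≤ Nat.card φ.range := by
    intro s
    by_cases hne : (Finset.univ.filter (fun x => f x = s)).Nonempty
    · obtain ⟨⟨u₀, C₀⟩, h0⟩ := hne
      rw [Finset.mem_filter] at h0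
      have h0' := h0.2
      have hsol : ∀ x ∈ Finset.univ.filter (fun x => f x = s), ∃ h : L,
          φ h u₀.1 = x.1.1 ∧ autClass (cjAut (N := φ.ker) h) C₀ = x.2 := by
        rintro ⟨u, C⟩ hx
        rw [Finset.mem_filter] at hx
        have h1 : f (u₀, C₀) = f (u, C) := h0'.trans hx.2.symm
        have h2 := congrArg Subtype.val h1
        have h3 : ConjClasses.mk (i u₀.1 * j ((Quotient.out C₀ : φ.ker) : L)) =
          ConjClasses.mk (i u.1 * j ((Quotient.out C : φ.ker) : L)) := h2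
        rw [ConjClasses.mk_eq_mk_iff_isConj, isConj_iff] at h3
        obtain ⟨t, ht⟩ := h3
        haveI : Fintype G := Fintype.ofFinite _
        haveI : Fintype L := Fintype.ofFinite _
        have h4 : 0 < (Finset.univ.filter (fun t : G => t * (i u₀.1 *
            j ((Quotient.out C₀ : φ.ker) : L)) * t⁻¹ =
            i u.1 * j ((Quotient.out C : φ.ker) : L))).card :=
          Finset.card_pos.2 ⟨t, Finset.mem_filter.2 ⟨Finset.mem_univ _, ht⟩⟩
        rw [count_conj c u₀.2] at h4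
        have h5 := Nat.pos_of_mul_pos_left h4
        obtain ⟨h, hh⟩ := Finset.card_pos.1 h5
        rw [Finset.mem_filter] at hh
        refine ⟨h, hh.2.1, ?_⟩
        rw [← hout C₀, autClass_mk, ← hout C]
        congr 1
        refine Subtype.ext ?_
        rw [cjAut_coe]
        exact hh.2.2
      choose! h hh using hsol
      have h6 : Nat.card {x // x ∈ Finset.univ.filter (fun x => f x = s)} ≤ Nat.card φ.range := by
        refine Nat.card_le_card_of_injective
          (fun x : {x // x ∈ Finset.univ.filter (fun x => f x = s)} =>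
            (⟨φ (h x.1), ⟨_, rfl⟩⟩ : φ.range)) ?_
        rintro ⟨x, hx⟩ ⟨y, hy⟩ hxy
        have h7 : φ (h x) = φ (h y) := congrArg Subtype.val hxy
        obtain ⟨e1, e2⟩ := hh x hx
        obtain ⟨e3, e4⟩ := hh y hy
        refine Subtype.ext (Prod.ext (Subtype.ext ?_) ?_)
        · change x.1.1 = y.1.1
          rw [← e1, ← e3, h7]
        · change x.2 = y.2
          rw [← e2, ← e4]
          exact autClass_ker _ _ h7 C₀
      rwa [Nat.card_eq_fintype_card, Fintype.card_coe] at h6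
    · rw [Finset.not_nonempty_iff_eq_empty] at hne
      rw [hne]
      exact Nat.zero_le _
  have h1 := Finset.card_le_mul_card_image (f := f) (Finset.univ) (Nat.card φ.range)
    (fun b _ => hfib b)
  have h2 : (Finset.univ.image f).card ≤ Nat.card (SGC p G) := by
    rw [Nat.card_eq_fintype_card]
    exact Finset.card_le_univ _
  have h3 : (Finset.univ : Finset ({u : Q // u ≠ 1} × ConjClasses φ.ker)).card =
      (p - 1) * Nat.card (IrrCharacter φ.ker) := by
    rw [Finset.card_univ, Fintype.card_prod, card_irr, Nat.card_eq_fintype_card]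
    congr 1
    have h4 : Fintype.card {u : Q // u ≠ 1} = Fintype.card Q - 1 := Set.card_ne_eq (1 : Q)
    rw [h4, ← Nat.card_eq_fintype_card, c.cQ]
  rw [← h3]
  exact h1.trans (Nat.mul_le_mul_left _ h2)

theorem II_cj (c : AC p φ i j) (h : L) (θ : IrrCharacter φ.ker) :
    II i j (cjI h θ) = II (G := G) i j θ := by
  ext χ
  constructor
  · rintro ⟨u, hu, hD⟩
    refine ⟨φ h u, fun h' => hu ?_, ?_⟩
    · have := congrArg (φ h).symm h'
      simpa using this
    · change DD i j θ χ.1 (φ h u) ≠ 0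
      rw [← DD_cj c (isChar_classFn (isChar_of_irr χ.2))]
      exact hD
  · rintro ⟨u, hu, hD⟩
    refine ⟨(φ h).symm u, fun h' => hu ?_, ?_⟩
    · have := congrArg (φ h) h'
      simpa using this
    · change DD i j (cjI h θ) χ.1 ((φ h).symm u) ≠ 0
      rw [DD_cj c (isChar_classFn (isChar_of_irr χ.2)), MulEquiv.apply_symm_apply]
      exact hD

theorem cover (c : AC p φ i j) (χ : IrrCharacter G)
    (h : (charDegree χ.1).factorization p ≠ (Nat.card G).factorization p) :
    ∃ θ : IrrCharacter φ.ker, χ ∈ II i j θ := by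
  haveI : Fact p.Prime := ⟨c.hp⟩
  by_contra hn
  push Not at hn
  apply h
  refine knorr χ (fun g hg => ?_)
  obtain ⟨y, u, hu, k, hk, he⟩ := c.sing g (by rw [hg])
  have hcl := isChar_classFn (isChar_of_irr χ.2)
  rw [← hcl g y, he]
  rw [decomp c hcl u ⟨k, hk⟩]
  refine Finset.sum_eq_zero (fun θ _ => ?_)
  have : DD i j θ χ.1 u = 0 := by
    by_contra h'
    exact hn θ ⟨u, hu, h'⟩
  rw [this, zero_mul]

theorem card_f (φ : L →* MulAut Q) : Nat.card φ.range * Nat.card φ.ker = Nat.card L := by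
  rw [← Subgroup.index_ker, mul_comm]
  exact Subgroup.card_mul_index _

/-- The main counting theorem. -/
theorem counting (c : AC p φ i j)
    (hcount : Nat.card (IrrCharacter L) + Nat.card (DZ p G) ≤ Nat.card (PRC p G)) :
    (∀ θ : IrrCharacter φ.ker, ∀ r : ℕ, r * Nat.card ((inertia θ.1).map φ) = p - 1 →
      Nat.card (II (G := G) i j θ) = Nat.card ((inertia θ.1).map φ) + r) ∧
    (∀ θ θ' : IrrCharacter φ.ker, ∀ χ : IrrCharacter G, χ ∈ II i j θ → χ ∈ II i j θ' →
      ∃ h : L, θ' = cjI h θ) ∧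
    (∀ θ : IrrCharacter φ.ker, ∀ χ : IrrCharacter G, χ ∈ II i j θ →
      (charDegree χ.1).factorization p ≠ (Nat.card G).factorization p) := by
  classical
  haveI : Fintype (Quotient (orbS φ)) := Fintype.ofFinite _
  have hnum : ∀ ω : Quotient (orbS φ), ∃ r : ℕ,
      r * Nat.card ((inertia (Quotient.out ω).1).map φ) = p - 1 ∧
      Nat.card (II (G := G) i j (Quotient.out ω)) ≤
        Nat.card ((inertia (Quotient.out ω).1).map φ) + r := by
    intro ω
    haveI : Fintype ((inertia (Quotient.out ω).1).map φ) := Fintype.ofFinite _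
    obtain ⟨r, h1, h2, _⟩ := II_numeric c (Quotient.out ω)
    exact ⟨r, h1, h2⟩
  choose r hr hII using hnum
  -- the sum of the `r`
  have hsumr : ∑ ω, r ω ≤ Nat.card (SGC p G) := by
    have h1 : Nat.card φ.range * ∑ ω, r ω ≤ Nat.card φ.range * Nat.card (SGC p G) := by
      refine le_trans (le_of_eq ?_) (sgc_bound c)
      rw [← sum_orb (φ := φ), Finset.mul_sum, Finset.mul_sum]
      refine Finset.sum_congr rfl (fun ω _ => ?_)
      have h2 := card_e (Quotient.out ω)
      rw [← card_f φ] at h2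
      have h3 := Nat.eq_of_mul_eq_mul_right Nat.card_pos h2
      rw [← h3, ← hr ω]
      ring
    exact Nat.le_of_mul_le_mul_left h1 Nat.card_pos
  have hsume := sum_e_le (φ := φ) (by rw [c.cQ]; exact c.hp)
  have htot := prc_add_sgc (G := G) p
  let Φ : DZ p G ⊕ (Σ ω : Quotient (orbS φ), II (G := G) i j (Quotient.out ω)) → IrrCharacter G :=
    Sum.elim (fun χ => χ.1) (fun x => x.2.1)
  have hsurj : Function.Surjective Φ := by
    intro χ
    by_cases h : (charDegree χ.1).factorization p = (Nat.card G).factorization p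
    · exact ⟨Sum.inl ⟨χ, h⟩, rfl⟩
    · obtain ⟨θ, hθ⟩ := cover c χ h
      obtain ⟨h', hh'⟩ := (Quotient.exact (Quotient.out_eq (Quotient.mk (orbS φ) θ)) :
        (orbS φ).r (Quotient.out (Quotient.mk (orbS φ) θ)) θ)
      refine ⟨Sum.inr ⟨Quotient.mk (orbS φ) θ, χ, ?_⟩, rfl⟩
      rw [← II_cj c h', ← hh']
      exact hθ
  have hle := Nat.card_le_card_of_surjective Φ hsurj
  have hdom : Nat.card (DZ p G ⊕ (Σ ω : Quotient (orbS φ), II (G := G) i j (Quotient.out ω))) =
      Nat.card (DZ p G) + ∑ ω : Quotient (orbS φ), Nat.card (II (G := G) i j (Quotient.out ω)) := by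
    rw [Nat.card_sum, Nat.card_sigma]
  have hsumII : ∑ ω : Quotient (orbS φ), Nat.card (II (G := G) i j (Quotient.out ω)) ≤
      ∑ ω : Quotient (orbS φ), Nat.card ((inertia (Quotient.out ω).1).map φ) + ∑ ω, r ω := by
    rw [← Finset.sum_add_distrib]
    exact Finset.sum_le_sum (fun ω _ => hII ω)
  have hbij : Function.Bijective Φ := by
    rw [Nat.bijective_iff_surjective_and_card]
    exact ⟨hsurj, by omega⟩
  have hsumeq : ∑ ω : Quotient (orbS φ), Nat.card (II (G := G) i j (Quotient.out ω)) =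
      ∑ ω : Quotient (orbS φ), (Nat.card ((inertia (Quotient.out ω).1).map φ) + r ω) := by
    rw [Finset.sum_add_distrib]
    omega
  have hIIeq := (Finset.sum_eq_sum_iff_of_le (s := (Finset.univ : Finset (Quotient (orbS φ))))
    (fun ω _ => hII ω)).1 hsumeq
  have hrep : ∀ θ : IrrCharacter φ.ker, ∃ h : L, θ = cjI h (Quotient.out (Quotient.mk (orbS φ) θ)) := by
    intro θ
    obtain ⟨h', hh'⟩ := (Quotient.exact (Quotient.out_eq (Quotient.mk (orbS φ) θ)) :
        (orbS φ).r (Quotient.out (Quotient.mk (orbS φ) θ)) θ)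
    exact ⟨h', hh'⟩
  refine ⟨?_, ?_, ?_⟩
  · intro θ s hs
    obtain ⟨h, hh⟩ := hrep θ
    have h1 : Nat.card ((inertia θ.1).map φ) =
        Nat.card ((inertia (Quotient.out (Quotient.mk (orbS φ) θ)).1).map φ) := by
      conv_lhs => rw [hh]
      exact card_e_cj _ _
    have h2 : II (G := G) i j θ = II i j (Quotient.out (Quotient.mk (orbS φ) θ)) := by
      conv_lhs => rw [hh]
      exact II_cj c _ _
    have h3 : s = r (Quotient.mk (orbS φ) θ) := by
      have h4 := hr (Quotient.mk (orbS φ) θ)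
      rw [← hs, h1] at h4
      exact (Nat.eq_of_mul_eq_mul_right Nat.card_pos h4).symm
    rw [h2, h1, h3]
    exact hIIeq _ (Finset.mem_univ _)
  · intro θ θ' χ hχ hχ'
    obtain ⟨h, hh⟩ := hrep θ
    obtain ⟨h', hh'⟩ := hrep θ'
    have e1 : χ ∈ II i j (Quotient.out (Quotient.mk (orbS φ) θ)) := by
      rw [← II_cj c h, ← hh]; exact hχ
    have e2 : χ ∈ II i j (Quotient.out (Quotient.mk (orbS φ) θ')) := by
      rw [← II_cj c h', ← hh']; exact hχ'
    have h1 : Φ (Sum.inr ⟨Quotient.mk (orbS φ) θ, χ, e1⟩) =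
        Φ (Sum.inr ⟨Quotient.mk (orbS φ) θ', χ, e2⟩) := rfl
    have h2 := Sum.inr.inj (hbij.1 h1)
    have h3 : Quotient.mk (orbS φ) θ = Quotient.mk (orbS φ) θ' := congrArg Sigma.fst h2
    exact Quotient.exact h3
  · intro θ χ hχ hdz
    obtain ⟨h, hh⟩ := hrep θ
    have e1 : χ ∈ II i j (Quotient.out (Quotient.mk (orbS φ) θ)) := by
      rw [← II_cj c h, ← hh]; exact hχ
    have h1 : Φ (Sum.inr ⟨Quotient.mk (orbS φ) θ, χ, e1⟩) = Φ (Sum.inl ⟨χ, hdz⟩) := rfl
    exact Sum.inr_ne_inl (hbij.1 h1)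

theorem structure_thm (c : AC p φ i j)
    (hcount : Nat.card (IrrCharacter L) + Nat.card (DZ p G) ≤ Nat.card (PRC p G))
    (θ : IrrCharacter φ.ker) [Fintype ((inertia θ.1).map φ)] : ∃ X Y a δ,
      Str ((inertia θ.1).map φ) (fun (χ : IrrCharacter G) u => DD i j θ χ.1 u) X Y a δ := by
  obtain ⟨r, h1, h2, h3⟩ := II_numeric (G := G) c θ
  exact h3 ((counting c hcount).1 θ r h1)

end Count

end Cfsg.Agent.Lib.BlkH7K
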