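import Cfsg.Agent.Lib.BlockRey
import Cfsg.Agent.Lib.BlockKB
import Cfsg.Agent.Lib.BlockLar
import Cfsg.Agent.Lib.BlockMaxB
import Cfsg.Agent.Lib.BlockIndIn
import Cfsg.Agent.Lib.BlockBFM

import Cfsg.Agent.Lib.BlkH6L
import Cfsg.Agent.Lib.BlkH6N
import Cfsg.Agent.Lib.BlkH6D
import Cfsg.Agent.Lib.BlkH7C
import Cfsg.Agent.Lib.BlkH7E
import Cfsg.Agent.Lib.BlkH7F
import Cfsg.Agent.Lib.BlkH7G
import Cfsg.Agent.Lib.BlkH7H
import Cfsg.Agent.Lib.BlkH7I
import Cfsg.Agent.Lib.BlkH7J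
import Cfsg.Agent.Lib.BlkH7K

/-!
The local configuration of a Sylow subgroup of order p.
-/

set_option autoImplicit false
set_option linter.style.haveILetI false
set_option linter.unusedVariables false
set_option linter.unusedSectionVars false
set_option linter.unusedDecidableInType false
set_option linter.unusedFintypeInType false
set_option linter.unusedSimpArgs false

namespace Cfsg.Agent.Lib.BlkH7L
open Cfsg Cfsg.Agent.Lib.BlockLoc Cfsg.Agent.Lib.BlockGA Cfsg.Agent.Lib.CharBasic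
open Cfsg.Agent.Lib.BlockIdem Cfsg.Agent.Lib.BlockPP Cfsg.Agent.Lib.BlockOrth
open Cfsg.Agent.Lib.BlockRed Cfsg.Agent.Lib.BlockDef Cfsg.Agent.Lib.BlockDeg
open Cfsg.Agent.Lib.BlockNP Cfsg.Agent.Lib.BlockInd Cfsg.Agent.Lib.BlockSecond
open Cfsg.Agent.Lib.BlockFirst Cfsg.Agent.Lib.BlockHt Cfsg.Agent.Lib.BlockM
open Cfsg.Agent.Lib.BlockCov Cfsg.Agent.Lib.BlockQuot Cfsg.Agent.Lib.CharKer
open Cfsg.Agent.Lib.BlockQuotB Cfsg.Agent.Lib.BlockMore Cfsg.Agent.Lib.BlockMoreB
open Cfsg.Agent.Lib.BlockTr Cfsg.Agent.Lib.CharNormal Cfsg.Agent.Lib.BlockCovB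
open Cfsg.Agent.Lib.BlockBP Cfsg.Agent.Lib.BlockInt Cfsg.Agent.Lib.BlockSum Cfsg.Agent.Lib.BlockRk
open Cfsg.Agent.Lib.BlockFusB Cfsg.Agent.Lib.BlockMax Cfsg.Agent.Lib.CharSplit Cfsg.Agent.Lib.CharBrauer
open Cfsg.Agent.Lib.CharInd Cfsg.Agent.Lib.BlockPC Cfsg.Agent.Lib.BlockPair Cfsg.Agent.Lib.BlockPairB
open Cfsg.Agent.Lib.BlockPairC Cfsg.Agent.Lib.BlockPairD Cfsg.Agent.Lib.BlockPairE
open Cfsg.Agent.Lib.BlockRey Cfsg.Agent.Lib.BlockPairF Cfsg.Agent.Lib.BlockFus Cfsg.Agent.Lib.BlockNilB Cfsg.Agent.Lib.BlockNil Cfsg.Agent.Lib.CharClifford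
open Cfsg.Agent.Lib.BlockKB Cfsg.Agent.Lib.BlockLar Cfsg.Agent.Lib.BlockMaxB Cfsg.Agent.Lib.BlockIndIn Cfsg.Agent.Lib.BlockBFM
open Cfsg.Agent.Lib.BlkH6L Cfsg.Agent.Lib.BlkH6N Cfsg.Agent.Lib.BlkH6D Cfsg.Agent.Lib.BlkH7C Cfsg.Agent.Lib.BlkH7E Cfsg.Agent.Lib.BlkH7F Cfsg.Agent.Lib.BlkH7G Cfsg.Agent.Lib.BlkH7H Cfsg.Agent.Lib.BlkH7I Cfsg.Agent.Lib.BlkH7J Cfsg.Agent.Lib.BlkH7K
open scoped ComplexConjugate


section Inst

variable {G : Type*} [Group G] [Finite G] {p : ℕ}

theorem exists_cfg [Fact p.Prime] (P : Sylow p G) (hP : Nat.card P = p) :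
    ∃ (H : Subgroup G) (g : G), Cfg p (P : Subgroup G)
      (Subgroup.normalizer ((P : Subgroup G) : Set G)) H g := by
  have hp : p.Prime := Fact.out
  -- the generator
  haveI : Nontrivial (P : Subgroup G) := Finite.one_lt_card_iff_nontrivial.1 (by rw [hP]; exact hp.one_lt)
  obtain ⟨⟨g, hgP⟩, hg1⟩ := exists_ne (1 : (P : Subgroup G))
  have hg1' : g ≠ 1 := fun h => hg1 (Subtype.ext h)
  have hord : ∀ u ∈ (P : Subgroup G), u ≠ 1 → orderOf u = p := by
    intro u hu hu1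
    have h1 : orderOf u ∣ p := by
      have := orderOf_dvd_natCard (⟨u, hu⟩ : (P : Subgroup G))
      rwa [Subgroup.orderOf_mk, hP] at this
    rcases (Nat.dvd_prime hp).1 h1 with h2 | h2
    · exact absurd (orderOf_eq_one_iff.1 h2) hu1
    · exact h2
  have hgen : ∀ u ∈ (P : Subgroup G), u ≠ 1 → (P : Subgroup G) = Subgroup.zpowers u := by
    intro u hu hu1
    symm
    apply Subgroup.eq_of_le_of_card_ge
    · rwa [Subgroup.zpowers_le]
    · rw [hP, Nat.card_zpowers, hord u hu hu1]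
  set N : Subgroup G := Subgroup.normalizer ((P : Subgroup G) : Set G) with hN
  have hPN : (P : Subgroup G) ≤ N := Subgroup.le_normalizer
  set P' : Subgroup N := (P : Subgroup G).subgroupOf N with hP'
  haveI hn : P'.Normal := Subgroup.normal_in_normalizer
  have hcP' : Nat.card P' = p := by
    rw [← hP]
    exact Nat.card_congr (Subgroup.subgroupOfEquivOfLe hPN).toEquiv
  have hidx : ¬ p ∣ P'.index := by
    have h1 : P'.index = (P : Subgroup G).relIndex N := rfl
    rw [h1]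
    intro h2
    have h3 : (P : Subgroup G).relIndex N ∣ (P : Subgroup G).index :=
      Subgroup.relIndex_dvd_index_of_le hPN
    exact P.not_dvd_index (h2.trans h3)
  obtain ⟨K, hK⟩ := Subgroup.exists_right_complement'_of_coprime (N := P') (by
    rw [hcP']
    exact (hp.coprime_iff_not_dvd).2 hidx)
  have hcK : Nat.card K = P'.index := by
    have h1 := hK.card_mul_card
    have h2 := Subgroup.card_mul_index P'
    rw [← h2] at h1
    exact Nat.eq_of_mul_eq_mul_left Nat.card_pos h1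
  refine ⟨K.map N.subtype, g, ⟨hord g hgP hg1', hgen g hgP hg1', hN, ?_, ?_, ?_, ?_⟩⟩
  · rintro _ ⟨k, _, rfl⟩
    exact k.2
  · rw [Nat.card_congr (K.equivMapOfInjective N.subtype N.subtype_injective).symm.toEquiv, hcK]
    exact hidx
  · intro n hn
    obtain ⟨⟨a, b⟩, hab⟩ := hK.symm.2 ⟨n, hn⟩
    exact ⟨_, ⟨_, a.2, rfl⟩, _, Subgroup.mem_subgroupOf.1 b.2, (congrArg Subtype.val hab).symm⟩
  · intro x hx u hu hux
    by_contra hu1
    apply hx
    have h1 : orderOf (x⁻¹ * u * x) = p := by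
      have := BlockHt.orderOf_conj u x⁻¹
      rw [inv_inv] at this
      rw [this, hord u hu hu1]
    have h2 : IsPGroup p (Subgroup.zpowers (x⁻¹ * u * x)) :=
      (isPGroup_zpowers_iff hp _).2 ⟨1, by rw [h1, pow_one]⟩
    have h3 : Subgroup.zpowers (x⁻¹ * u * x) ⊓ Subgroup.normalizer ((P : Subgroup G) : Set G) =
        Subgroup.zpowers (x⁻¹ * u * x) ⊓ (P : Subgroup G) := h2.inf_normalizer_sylow P
    have h4 : x⁻¹ * u * x ∈ (P : Subgroup G) := by
      have h5 : x⁻¹ * u * x ∈ Subgroup.zpowers (x⁻¹ * u * x) ⊓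
          Subgroup.normalizer ((P : Subgroup G) : Set G) :=
        Subgroup.mem_inf.2 ⟨Subgroup.mem_zpowers _, hux⟩
      rw [h3] at h5
      exact (Subgroup.mem_inf.1 h5).2
    have h5 : x⁻¹ ∈ N := by
      refine Subgroup.mem_normalizer_fintype (fun w hw => ?_)
      have hw' : w ∈ Subgroup.zpowers u := by rw [← hgen u hu hu1]; exact hw
      obtain ⟨n, rfl⟩ := hw'
      have h6 : x⁻¹ * u ^ n * x⁻¹⁻¹ = (x⁻¹ * u * x) ^ n := by
        have := (conj_zpow (i := n) (a := x⁻¹) (b := u)).symm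
        rw [inv_inv] at this
        rw [inv_inv]
        exact this
      change x⁻¹ * u ^ n * x⁻¹⁻¹ ∈ (P : Subgroup G)
      rw [h6]
      exact Subgroup.zpow_mem _ h4 n
    have h6 := N.inv_mem h5
    rwa [inv_inv] at h6

/-- The action of the complement. -/
def phi {P N H : Subgroup G} {g : G} (c : Cfg p P N H g) : H →* MulAut P :=
  P.normalizerMonoidHom.comp (Subgroup.inclusion (c.nrm ▸ c.HN : H ≤ Subgroup.normalizer (P : Set G)))

theorem phi_apply {P N H : Subgroup G} {g : G} (c : Cfg p P N H g) (h : H) (u : P) :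
    ((phi c h u : P) : G) = (h : G) * u * (h : G)⁻¹ := rfl

theorem Cfg_cP {P N H : Subgroup G} {g : G} (c : Cfg p P N H g) : Nat.card P = p := by
  rw [c.gen, Nat.card_zpowers, c.ord]

theorem Cfg_comm {P N H : Subgroup G} {g : G} (c : Cfg p P N H g) :
    ∀ x ∈ P, ∀ y ∈ P, x * y = y * x := by
  intro x hx y hy
  rw [c.gen] at hx hy
  exact congrArg Subtype.val (CharBasic.mul_comm' (⟨x, hx⟩ : Subgroup.zpowers g) ⟨y, hy⟩)

theorem Cfg_gen {P N H : Subgroup G} {g : G} (c : Cfg p P N H g) (hp : p.Prime) {u : G}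
    (hu : u ∈ P) (hu1 : u ≠ 1) : P = Subgroup.zpowers u := by
  have h1 : orderOf u ∣ p := by
    have := orderOf_dvd_natCard (⟨u, hu⟩ : P)
    rwa [Subgroup.orderOf_mk, Cfg_cP c] at this
  have h2 : orderOf u = p := by
    rcases (Nat.dvd_prime hp).1 h1 with h2 | h2
    · exact absurd (orderOf_eq_one_iff.1 h2) hu1
    · exact h2
  symm
  apply Subgroup.eq_of_le_of_card_ge
  · rwa [Subgroup.zpowers_le]
  · rw [Cfg_cP c, Nat.card_zpowers, h2]

theorem phi_one_iff {P N H : Subgroup G} {g : G} (c : Cfg p P N H g) (h : H) :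
    phi c h = 1 ↔ (h : G) ∈ Subgroup.centralizer (P : Set G) := by
  rw [Subgroup.mem_centralizer_iff]
  constructor
  · intro h1 u hu
    have h2 : ((phi c h ⟨u, hu⟩ : P) : G) = u := by rw [h1]; rfl
    rw [phi_apply] at h2
    exact (mul_inv_eq_iff_eq_mul.1 h2).symm
  · intro h1
    ext u
    rw [phi_apply]
    change _ = (u : G)
    rw [mul_inv_eq_iff_eq_mul]
    exact (h1 u u.2).symm

/-- Instantiation of the abstract configuration. -/
theorem cfg_AC [Fact p.Prime] {P N H : Subgroup G} {g : G} (c : Cfg p P N H g)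
    (hS : ∃ S : Sylow p G, (S : Subgroup G) = P) [Fintype P] :
    letI := cg P (Cfg_comm c)
    AC p (phi c) P.subtype H.subtype := by
  classical
  letI := cg P (Cfg_comm c)
  have hp : p.Prime := Fact.out
  obtain ⟨S, hS⟩ := hS
  have hordP : ∀ u ∈ P, u ≠ 1 → orderOf u = p := by
    intro u hu hu1
    rw [← Nat.card_zpowers, ← Cfg_gen c hp hu hu1, Cfg_cP c]
  have hordP' : ∀ u ∈ P, ∃ k, orderOf u = p ^ k := by
    intro u hu
    by_cases h : u = 1
    · exact ⟨0, by rw [h, orderOf_one, pow_zero]⟩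
    · exact ⟨1, by rw [hordP u hu h, pow_one]⟩
  have hreg : ∀ k : H, ¬ p ∣ orderOf (k : G) := by
    intro k hk
    apply c.Hp
    have := orderOf_dvd_natCard k
    rw [← Subgroup.orderOf_coe] at this
    exact hk.trans this
  -- the `p`-part of a product
  have hpp : ∀ u ∈ P, ∀ k : H, phi c k = 1 → pp p (u * (k : G)) = u := by
    intro u hu k hk
    have h1 := (phi_one_iff c k).1 hk
    exact pp_mul_eq hp (Subgroup.mem_centralizer_iff.1 h1 u hu) (hordP' u hu) (hreg k)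
  have hPN : P ≤ N := by rw [c.nrm]; exact Subgroup.le_normalizer
  refine ⟨hp, Cfg_cP c, c.Hp, P.subtype_injective, H.subtype_injective, fun h u => rfl, ?_, ?_⟩
  · intro x u v hu k k' hk hk' he
    have h1 := congrArg (pp p) he
    rw [pp_conj] at h1
    change x * pp p ((u : G) * (k : G)) * x⁻¹ = pp p ((v : G) * (k' : G)) at h1
    rw [hpp u u.2 k hk, hpp v v.2 k' hk'] at h1
    have hu1 : (u : G) ≠ 1 := fun h => hu (Subtype.ext h)
    have hx : x ∈ N := by
      rw [c.nrm]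
      refine Subgroup.mem_normalizer_fintype (fun w hw => ?_)
      have hw' : w ∈ Subgroup.zpowers (u : G) := by rw [← Cfg_gen c hp u.2 hu1]; exact hw
      obtain ⟨n, rfl⟩ := hw'
      have h6 : x * (u : G) ^ n * x⁻¹ = (v : G) ^ n := by
        rw [← h1]
        exact (conj_zpow (i := n) (a := x) (b := (u : G))).symm
      change x * (u : G) ^ n * x⁻¹ ∈ P
      rw [h6]
      exact Subgroup.zpow_mem _ v.2 n
    obtain ⟨h, hh, w, hw, hxw⟩ := c.fac x hx
    exact ⟨⟨h, hh⟩, ⟨w, hw⟩, hxw⟩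
  · intro x hx
    have h1 : IsPGroup p (Subgroup.zpowers (pp p x)) := by
      obtain ⟨_, _, _, h4, _⟩ := isPPart_pp hp x
      exact (isPGroup_zpowers_iff hp _).2 h4
    obtain ⟨R, hR⟩ := h1.exists_le_sylow
    obtain ⟨y, hy⟩ := MulAction.exists_smul_eq G R S
    have h2 : y * pp p x * y⁻¹ ∈ P := by
      rw [← hS, ← hy]
      exact ⟨pp p x, hR (Subgroup.mem_zpowers _), rfl⟩
    have h3 : y * pp p x * y⁻¹ ≠ 1 := by
      rw [ne_eq, conj_eq_one_iff, pp_eq_one_iff hp, not_not]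
      exact hx
    have h4 : Commute (y * pp p x * y⁻¹) (y * pq p x * y⁻¹) := by
      have := (pp_commute_pq p x).eq
      change _ * _ = _ * _
      calc y * pp p x * y⁻¹ * (y * pq p x * y⁻¹) = y * (pp p x * pq p x) * y⁻¹ := by group
        _ = y * (pq p x * pp p x) * y⁻¹ := by rw [this]
        _ = _ := by group
    set u := y * pp p x * y⁻¹ with hu
    set d := y * pq p x * y⁻¹ with hd
    have hdC : d ∈ Subgroup.centralizer (P : Set G) := by
      rw [Subgroup.mem_centralizer_iff]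
      intro w hw
      rw [SetLike.mem_coe, Cfg_gen c hp h2 h3] at hw
      obtain ⟨n, rfl⟩ := hw
      exact (h4.zpow_left n).eq
    have hdN : d ∈ N := by
      rw [c.nrm]
      exact (Subgroup.centralizer_le_normalizer _) hdC
    obtain ⟨h, hh, w, hw, hdw⟩ := c.fac d hdN
    have hhC : h ∈ Subgroup.centralizer (P : Set G) := by
      have : h = d * w⁻¹ := by rw [hdw, mul_inv_cancel_right]
      rw [this]
      refine Subgroup.mul_mem _ hdC (Subgroup.inv_mem _ ?_)
      rw [Subgroup.mem_centralizer_iff]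
      intro z hz
      exact Cfg_comm c z hz w hw
    have hdreg : pp p d = 1 := by
      rw [pp_eq_one_iff hp, hd, BlockHt.orderOf_conj]
      exact not_dvd_orderOf_pq hp x
    have hw1 : w = 1 := by
      have h5 : d = w * h := by rw [hdw]; exact (Subgroup.mem_centralizer_iff.1 hhC w hw).symm
      have h6 := hpp w hw ⟨h, hh⟩ ((phi_one_iff c _).2 hhC)
      have h7 : w * ((⟨h, hh⟩ : H) : G) = d := h5.symm
      rw [h7, hdreg] at h6
      exact h6.symm
    refine ⟨y, ⟨u, h2⟩, fun h => h3 (congrArg Subtype.val h), ⟨h, hh⟩, (phi_one_iff c _).2 hhC, ?_⟩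
    change y * x * y⁻¹ = u * h
    have h8 : h = d := by rw [hdw, hw1, mul_one]
    rw [h8]
    calc y * x * y⁻¹ = y * (pp p x * pq p x) * y⁻¹ := by rw [pp_mul_pq]
      _ = u * d := by rw [hu, hd]; group

end Inst

end Cfsg.Agent.Lib.BlkH7L
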