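import Cfsg.Agent.Lib.BlockRey
import Cfsg.Agent.Lib.BlockKB
import Cfsg.Agent.Lib.BlockLar
import Cfsg.Agent.Lib.BlockMaxB
import Cfsg.Agent.Lib.BlockIndIn
import Cfsg.Agent.Lib.BlockBFM

import Cfsg.Agent.Lib.BlkH6L
import Cfsg.Agent.Lib.BlkH6N
import Cfsg.Agent.Lib.BlkH6D
import Cfsg.Agent.Lib.BlkH7C
import Cfsg.Agent.Lib.BlkH7E
import Cfsg.Agent.Lib.BlkH7F
import Cfsg.Agent.Lib.BlkH7G
import Cfsg.Agent.Lib.BlkH7H
import Cfsg.Agent.Lib.BlkH7I
import Cfsg.Agent.Lib.BlkH7J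
import Cfsg.Agent.Lib.BlkH7K
import Cfsg.Agent.Lib.BlkH7L

/-!
Characters over a character along a homomorphism.
-/

set_option autoImplicit false
set_option linter.style.haveILetI false
set_option linter.unusedVariables false
set_option linter.unusedSectionVars false
set_option linter.unusedDecidableInType false
set_option linter.unusedFintypeInType false
set_option linter.unusedSimpArgs false

namespace Cfsg.Agent.Lib.BlkH7M
open Cfsg Cfsg.Agent.Lib.BlockLoc Cfsg.Agent.Lib.BlockGA Cfsg.Agent.Lib.CharBasic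
open Cfsg.Agent.Lib.BlockIdem Cfsg.Agent.Lib.BlockPP Cfsg.Agent.Lib.BlockOrth
open Cfsg.Agent.Lib.BlockRed Cfsg.Agent.Lib.BlockDef Cfsg.Agent.Lib.BlockDeg
open Cfsg.Agent.Lib.BlockNP Cfsg.Agent.Lib.BlockInd Cfsg.Agent.Lib.BlockSecond
open Cfsg.Agent.Lib.BlockFirst Cfsg.Agent.Lib.BlockHt Cfsg.Agent.Lib.BlockM
open Cfsg.Agent.Lib.BlockCov Cfsg.Agent.Lib.BlockQuot Cfsg.Agent.Lib.CharKer
open Cfsg.Agent.Lib.BlockQuotB Cfsg.Agent.Lib.BlockMore Cfsg.Agent.Lib.BlockMoreB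
open Cfsg.Agent.Lib.BlockTr Cfsg.Agent.Lib.CharNormal Cfsg.Agent.Lib.BlockCovB
open Cfsg.Agent.Lib.BlockBP Cfsg.Agent.Lib.BlockInt Cfsg.Agent.Lib.BlockSum Cfsg.Agent.Lib.BlockRk
open Cfsg.Agent.Lib.BlockFusB Cfsg.Agent.Lib.BlockMax Cfsg.Agent.Lib.CharSplit Cfsg.Agent.Lib.CharBrauer
open Cfsg.Agent.Lib.CharInd Cfsg.Agent.Lib.BlockPC Cfsg.Agent.Lib.BlockPair Cfsg.Agent.Lib.BlockPairB
open Cfsg.Agent.Lib.BlockPairC Cfsg.Agent.Lib.BlockPairD Cfsg.Agent.Lib.BlockPairE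
open Cfsg.Agent.Lib.BlockRey Cfsg.Agent.Lib.BlockPairF Cfsg.Agent.Lib.BlockFus Cfsg.Agent.Lib.BlockNilB Cfsg.Agent.Lib.BlockNil Cfsg.Agent.Lib.CharClifford
open Cfsg.Agent.Lib.BlockKB Cfsg.Agent.Lib.BlockLar Cfsg.Agent.Lib.BlockMaxB Cfsg.Agent.Lib.BlockIndIn Cfsg.Agent.Lib.BlockBFM
open Cfsg.Agent.Lib.BlkH6L Cfsg.Agent.Lib.BlkH6N Cfsg.Agent.Lib.BlkH6D Cfsg.Agent.Lib.BlkH7C Cfsg.Agent.Lib.BlkH7E Cfsg.Agent.Lib.BlkH7F Cfsg.Agent.Lib.BlkH7G Cfsg.Agent.Lib.BlkH7H Cfsg.Agent.Lib.BlkH7I Cfsg.Agent.Lib.BlkH7J Cfsg.Agent.Lib.BlkH7K Cfsg.Agent.Lib.BlkH7L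
open scoped ComplexConjugate


section Ovj

variable {C : Type*} [Group C] [Finite C] {K : Type*} [Group K] [Finite K] {jj : K →* C}
  {p : ℕ} {M : Ideal AlgInt}

/-- Lying over a character along a homomorphism. -/
def Ovj (jj : K →* C) (ξ : IrrCharacter C) (θ : IrrCharacter K) : Prop :=
  haveI : Fintype K := Fintype.ofFinite K
  classInner (fun k => ξ.1 (jj k)) θ.1 ≠ 0

theorem ovj_def [inst : Fintype K] (ξ : IrrCharacter C) (θ : IrrCharacter K) :
    Ovj jj ξ θ ↔ classInner (fun k => ξ.1 (jj k)) θ.1 ≠ 0 := by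
  obtain rfl : inst = Fintype.ofFinite _ := Subsingleton.elim _ _
  rfl

theorem ovj_iff (hinj : Function.Injective jj) [jj.range.Normal] [Fintype jj.range]
    (ξ : IrrCharacter C) (θ : IrrCharacter K) :
    Ovj jj ξ θ ↔ Over ξ (trI (MonoidHom.ofInjective hinj).symm θ) := by
  haveI : Fintype K := Fintype.ofFinite K
  rw [ovj_def]
  have h1 : classInner (fun n : jj.range => ξ.1 (n : C)) (trI (MonoidHom.ofInjective hinj).symm θ).1
      = classInner (fun k => ξ.1 (jj k)) θ.1 := by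
    rw [classInner_def, classInner_def,
      Nat.card_congr (MonoidHom.ofInjective hinj).symm.toEquiv]
    congr 1
    refine Fintype.sum_equiv (MonoidHom.ofInjective hinj).symm.toEquiv _ _ (fun n => ?_)
    obtain ⟨k, rfl⟩ := (MonoidHom.ofInjective hinj).surjective n
    rw [trI_apply]
    change ξ.1 (((MonoidHom.ofInjective hinj) k : jj.range) : C) * _ =
      ξ.1 (jj ((MonoidHom.ofInjective hinj).symm ((MonoidHom.ofInjective hinj) k))) *
        conj (θ.1 ((MonoidHom.ofInjective hinj).symm ((MonoidHom.ofInjective hinj) k)))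
    rw [MulEquiv.symm_apply_apply, MonoidHom.ofInjective_apply]
  rw [← h1]
  rfl

theorem exists_ovj (hinj : Function.Injective jj) [jj.range.Normal] (θ : IrrCharacter K) :
    ∃ ξ : IrrCharacter C, Ovj jj ξ θ := by
  haveI : Fintype jj.range := Fintype.ofFinite _
  obtain ⟨ξ, hξ⟩ := exists_over_above (G := C) (trI (MonoidHom.ofInjective hinj).symm θ)
  exact ⟨ξ, (ovj_iff hinj ξ θ).2 hξ⟩

theorem ovj_mem (hM : IsPModular p M) (hinj : Function.Injective jj) [jj.range.Normal]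
    (hidx : ∃ k : ℕ, jj.range.index = p ^ k) {ξ ξ' : IrrCharacter C} {θ : IrrCharacter K}
    (h : Ovj jj ξ θ) (h' : Ovj jj ξ' θ) {b : Set (IrrCharacter C)} (hb : IsPBlock M b)
    (hξ : ξ ∈ b) : ξ' ∈ b := by
  haveI : Fintype jj.range := Fintype.ofFinite _
  rw [ovj_iff hinj] at h h'
  have hB' : IsPBlock M (blockOf M ξ'.1) := ⟨ξ', rfl⟩
  have hb0 : IsPBlock M (blockOf M (trI (MonoidHom.ofInjective hinj).symm θ).1) := ⟨_, rfl⟩
  have h1 := cov_unique_of_index hM hidx hb0 hb hB'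
    ⟨ξ, hξ, _, self_mem_blockOf hM _, h⟩ ⟨ξ', self_mem_blockOf hM _, _, self_mem_blockOf hM _, h'⟩
  rw [h1]
  exact self_mem_blockOf hM _

theorem ovj_same (hM : IsPModular p M) (hinj : Function.Injective jj) [jj.range.Normal]
    (hK : ¬ p ∣ Nat.card K) {ξ ξ' : IrrCharacter C} {θ : IrrCharacter K}
    (h : Ovj jj ξ θ) {b : Set (IrrCharacter C)} (hb : IsPBlock M b)
    (hξ : ξ ∈ b) (hξ' : ξ' ∈ b) : Ovj jj ξ' θ := by
  haveI : Fintype jj.range := Fintype.ofFinite _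
  rw [ovj_iff hinj] at h ⊢
  refine over_of_sameBlock hM ?_ ?_ h
  · rwa [Nat.card_congr (MonoidHom.ofInjective hinj).symm.toEquiv]
  · exact sameBlock_of_mem hM hb hξ hξ'

theorem ovj_unique (hinj : Function.Injective jj) [jj.range.Normal]
    (hin : ∀ c : C, ∃ k₀ : K, ∀ k : K, c * jj k * c⁻¹ = jj (k₀ * k * k₀⁻¹))
    {ξ : IrrCharacter C} {θ θ' : IrrCharacter K}
    (h : Ovj jj ξ θ) (h' : Ovj jj ξ θ') : θ' = θ := by
  haveI : Fintype jj.range := Fintype.ofFinite _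
  rw [ovj_iff hinj] at h h'
  obtain ⟨x, hx⟩ := exists_cjI_of_over h h'
  obtain ⟨k₀, hk₀⟩ := hin x
  apply Subtype.ext
  funext k
  have h1 := congrFun (congrArg Subtype.val hx) (MonoidHom.ofInjective hinj k)
  rw [trI_apply, MulEquiv.symm_apply_apply, cjI_coe, cj_eq_comp] at h1
  rw [h1]
  change (trI (MonoidHom.ofInjective hinj).symm θ).1
    (cjAut (N := jj.range) x (MonoidHom.ofInjective hinj k)) = _
  rw [trI_apply]
  have h2 : cjAut (N := jj.range) x (MonoidHom.ofInjective hinj k) =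
      MonoidHom.ofInjective hinj (k₀ * k * k₀⁻¹) := by
    apply Subtype.ext
    rw [cjAut_coe, MonoidHom.ofInjective_apply, MonoidHom.ofInjective_apply, hk₀]
  rw [h2, MulEquiv.symm_apply_apply]
  exact isChar_classFn (isChar_of_irr θ.2) k k₀

theorem blockPart_inner [Fintype K] {f : C → ℂ} (hf : IsClassFunction C f) {b : Set (IrrCharacter C)}
    {θ : IrrCharacter K} (h : ∀ ξ, Ovj jj ξ θ → ξ ∈ b) :
    classInner (fun k => blockPart b f (jj k)) θ.1 = classInner (fun k => f (jj k)) θ.1 := by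
  classical
  haveI : Fintype C := Fintype.ofFinite _
  have h1 : (fun k => f (jj k)) = ∑ ξ : IrrCharacter C,
      classInner f ξ.1 • (fun k => ξ.1 (jj k)) := by
    funext k
    have h2 := congrFun (classFn_expand f hf) (jj k)
    rw [Finset.sum_apply] at h2 ⊢
    exact h2
  have h2 : (fun k => blockPart b f (jj k)) = ∑ ξ ∈ Finset.univ.filter (· ∈ b),
      classInner f ξ.1 • (fun k => ξ.1 (jj k)) := by
    funext k
    rw [blockPart_eq, Finset.sum_apply]
    rfl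
  rw [h1, h2, classInner_sum_left, classInner_sum_left]
  refine Finset.sum_subset (Finset.filter_subset _ _) (fun ξ _ hξ => ?_)
  rw [classInner_smul_left]
  have h3 : classInner (fun k => ξ.1 (jj k)) θ.1 = 0 := by
    by_contra hn
    exact hξ (Finset.mem_filter.2 ⟨Finset.mem_univ _, h ξ ((ovj_def ξ θ).2 hn)⟩)
  rw [h3, mul_zero]

end Ovj

section Pair

variable {G : Type*} [Group G] [Finite G] {p : ℕ} {M : Ideal AlgInt}

theorem sm_part (hM : IsPModular p M) {x : G} (hx : ∃ k, orderOf x = p ^ k) {C : Subgroup G}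
    (hC : C = Subgroup.centralizer ({x} : Set G)) {b : Set (IrrCharacter C)}
    {B : Set (IrrCharacter G)} (hind : IsInducedBlock M C b B)
    {χ : IrrCharacter G} (hχ : χ ∉ B) {y : C} (hy : ¬ p ∣ orderOf y) :
    blockPart b (fun c : C => χ.1 (x * (c : G))) y = 0 := by
  subst hC
  exact second_main_part hM hx hind hχ hy

theorem tr_cl {x : G} {C : Subgroup G} (hC : C = Subgroup.centralizer ({x} : Set G)) {χ : G → ℂ}
    (hχ : IsClassFunction G χ) : IsClassFunction C (fun c : C => χ (x * (c : G))) := by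
  subst hC
  exact translate_classFn hχ x

theorem mem_of_cjP {P : Subgroup G} {e f : Set (IrrCharacter (Subgroup.centralizer (P : Set G)))}
    {x : G} (h : (⟨P, f⟩ : BrauerPairIdx G) = cjP x ⟨P, e⟩)
    {ξ : IrrCharacter (Subgroup.centralizer (P : Set G))} (hξ : ξ ∈ e) :
    ∃ ξ' ∈ f, ∀ c c' : Subgroup.centralizer (P : Set G), (c' : G) = x * c * x⁻¹ →
      ξ'.1 c' = ξ.1 c := by
  have key : ∀ a : BrauerPairIdx G, a = cjP x ⟨P, e⟩ → ∃ ξ' ∈ a.2,
      ∀ (c : Subgroup.centralizer (P : Set G)) (c' : Subgroup.centralizer (a.1 : Set G)),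
        (c' : G) = x * c * x⁻¹ → ξ'.1 c' = ξ.1 c := by
    rintro _ rfl
    let E : Subgroup.centralizer (P : Set G) ≃* Subgroup.centralizer
        ((P.map (MulAut.conj x).toMonoidHom : Subgroup G) : Set G) :=
      BlockPair.cjE x (cent_map_iff x)
    refine ⟨(trI E.symm ξ : IrrCharacter (Subgroup.centralizer
        ((P.map (MulAut.conj x).toMonoidHom : Subgroup G) : Set G))), ?_, ?_⟩
    · have h1 : trI E.symm ξ ∈ conjBlock P x e := by
        rw [conjBlock_eq]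
        exact (trI_symm_mem_trB (e := E)).2 hξ
      exact h1
    · intro c c' hcc
      have h1 : E.symm c' = c :=
        (MulEquiv.symm_apply_eq (e := E)).2 (Subtype.ext hcc)
      change ξ.1 (E.symm c') = ξ.1 c
      rw [h1]
  exact key ⟨P, f⟩ h

end Pair

end Cfsg.Agent.Lib.BlkH7M
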