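import Cfsg.Agent.Lib.BlockRey
import Cfsg.Agent.Lib.BlockKB
import Cfsg.Agent.Lib.BlockLar
import Cfsg.Agent.Lib.BlockMaxB
import Cfsg.Agent.Lib.BlockIndIn
import Cfsg.Agent.Lib.BlockBFM

import Cfsg.Agent.Lib.BlkH6L
import Cfsg.Agent.Lib.BlkH6N
import Cfsg.Agent.Lib.BlkH6D
import Cfsg.Agent.Lib.BlkH7C
import Cfsg.Agent.Lib.BlkH7E
import Cfsg.Agent.Lib.BlkH7F
import Cfsg.Agent.Lib.BlkH7G
import Cfsg.Agent.Lib.BlkH7H
import Cfsg.Agent.Lib.BlkH7I
import Cfsg.Agent.Lib.BlkH7J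
import Cfsg.Agent.Lib.BlkH7K
import Cfsg.Agent.Lib.BlkH7L
import Cfsg.Agent.Lib.BlkH7M

/-!
Blocks of defect one and local characters.
-/

set_option autoImplicit false
set_option linter.style.haveILetI false
set_option linter.unusedVariables false
set_option linter.unusedSectionVars false
set_option linter.unusedDecidableInType false
set_option linter.unusedFintypeInType false
set_option linter.unusedSimpArgs false

namespace Cfsg.Agent.Lib.BlkH7N
open Cfsg Cfsg.Agent.Lib.BlockLoc Cfsg.Agent.Lib.BlockGA Cfsg.Agent.Lib.CharBasic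
open Cfsg.Agent.Lib.BlockIdem Cfsg.Agent.Lib.BlockPP Cfsg.Agent.Lib.BlockOrth
open Cfsg.Agent.Lib.BlockRed Cfsg.Agent.Lib.BlockDef Cfsg.Agent.Lib.BlockDeg
open Cfsg.Agent.Lib.BlockNP Cfsg.Agent.Lib.BlockInd Cfsg.Agent.Lib.BlockSecond
open Cfsg.Agent.Lib.BlockFirst Cfsg.Agent.Lib.BlockHt Cfsg.Agent.Lib.BlockM
open Cfsg.Agent.Lib.BlockCov Cfsg.Agent.Lib.BlockQuot Cfsg.Agent.Lib.CharKer
open Cfsg.Agent.Lib.BlockQuotB Cfsg.Agent.Lib.BlockMore Cfsg.Agent.Lib.BlockMoreB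
open Cfsg.Agent.Lib.BlockTr Cfsg.Agent.Lib.CharNormal Cfsg.Agent.Lib.BlockCovB
open Cfsg.Agent.Lib.BlockBP Cfsg.Agent.Lib.BlockInt Cfsg.Agent.Lib.BlockSum Cfsg.Agent.Lib.BlockRk
open Cfsg.Agent.Lib.BlockFusB Cfsg.Agent.Lib.BlockMax Cfsg.Agent.Lib.CharSplit Cfsg.Agent.Lib.CharBrauer
open Cfsg.Agent.Lib.CharInd Cfsg.Agent.Lib.BlockPC Cfsg.Agent.Lib.BlockPair Cfsg.Agent.Lib.BlockPairB
open Cfsg.Agent.Lib.BlockPairC Cfsg.Agent.Lib.BlockPairD Cfsg.Agent.Lib.BlockPairE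
open Cfsg.Agent.Lib.BlockRey Cfsg.Agent.Lib.BlockPairF Cfsg.Agent.Lib.BlockFus Cfsg.Agent.Lib.BlockNilB Cfsg.Agent.Lib.BlockNil Cfsg.Agent.Lib.CharClifford
open Cfsg.Agent.Lib.BlockKB Cfsg.Agent.Lib.BlockLar Cfsg.Agent.Lib.BlockMaxB Cfsg.Agent.Lib.BlockIndIn Cfsg.Agent.Lib.BlockBFM
open Cfsg.Agent.Lib.BlkH6L Cfsg.Agent.Lib.BlkH6N Cfsg.Agent.Lib.BlkH6D Cfsg.Agent.Lib.BlkH7C Cfsg.Agent.Lib.BlkH7E Cfsg.Agent.Lib.BlkH7F Cfsg.Agent.Lib.BlkH7G Cfsg.Agent.Lib.BlkH7H Cfsg.Agent.Lib.BlkH7I Cfsg.Agent.Lib.BlkH7J Cfsg.Agent.Lib.BlkH7K Cfsg.Agent.Lib.BlkH7L Cfsg.Agent.Lib.BlkH7M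
open scoped ComplexConjugate


section Link

universe v

variable {G : Type v} [Group G] [Finite G] {p : ℕ} {M : Ideal AlgInt}
  {P N H : Subgroup G} {g : G}

/-- The embedding of the `p`-regular part of the centralizer. -/
def jC (c : Cfg p P N H g) : (phi c).ker →* Subgroup.centralizer (P : Set G) where
  toFun k := ⟨((k : H) : G), (phi_one_iff c (k : H)).1 k.2⟩
  map_one' := rfl
  map_mul' _ _ := rfl

theorem jC_coe (c : Cfg p P N H g) (k : (phi c).ker) : ((jC c k : _) : G) = ((k : H) : G) := rfl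

theorem jC_inj (c : Cfg p P N H g) : Function.Injective (jC c) := by
  intro a b h
  have h1 := Subtype.ext_iff.1 h
  exact Subtype.ext (Subtype.ext h1)

theorem P_le_cent (c : Cfg p P N H g) : P ≤ Subgroup.centralizer (P : Set G) := by
  intro w hw
  rw [Subgroup.mem_centralizer_iff]
  intro z hz
  exact Cfg_comm c z hz w hw

theorem cent_fac (c : Cfg p P N H g) (x : Subgroup.centralizer (P : Set G)) :
    ∃ k : (phi c).ker, ∃ w ∈ P, (x : G) = ((k : H) : G) * w := by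
  have hx : (x : G) ∈ N := by
    rw [c.nrm]
    exact (Subgroup.centralizer_le_normalizer _) x.2
  obtain ⟨h, hh, w, hw, hxw⟩ := c.fac x hx
  have hhC : h ∈ Subgroup.centralizer (P : Set G) := by
    have : h = x * w⁻¹ := by rw [hxw, mul_inv_cancel_right]
    rw [this]
    exact Subgroup.mul_mem _ x.2 (Subgroup.inv_mem _ (P_le_cent c hw))
  exact ⟨⟨⟨h, hh⟩, (phi_one_iff c _).2 hhC⟩, w, hw, hxw⟩

theorem jC_conj (c : Cfg p P N H g) (x : Subgroup.centralizer (P : Set G)) :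
    ∃ k₀ : (phi c).ker, ∀ k : (phi c).ker, x * jC c k * x⁻¹ = jC c (k₀ * k * k₀⁻¹) := by
  obtain ⟨k₀, w, hw, hx⟩ := cent_fac c x
  refine ⟨k₀, fun k => Subtype.ext ?_⟩
  change (x : G) * ((k : H) : G) * (x : G)⁻¹ = ((k₀ : H) : G) * ((k : H) : G) * ((k₀ : H) : G)⁻¹
  have h1 : w * ((k : H) : G) = ((k : H) : G) * w :=
    Subgroup.mem_centralizer_iff.1 ((phi_one_iff c (k : H)).1 k.2) w hw
  rw [hx]
  calc ((k₀ : H) : G) * w * ((k : H) : G) * (((k₀ : H) : G) * w)⁻¹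
      = ((k₀ : H) : G) * (w * ((k : H) : G)) * w⁻¹ * ((k₀ : H) : G)⁻¹ := by group
    _ = ((k₀ : H) : G) * (((k : H) : G) * w) * w⁻¹ * ((k₀ : H) : G)⁻¹ := by rw [h1]
    _ = _ := by group

instance jC_normal (c : Cfg p P N H g) : (jC c).range.Normal := by
  constructor
  rintro _ ⟨k, rfl⟩ x
  obtain ⟨k₀, hk₀⟩ := jC_conj c x
  rw [hk₀]
  exact ⟨_, rfl⟩

theorem card_ker_dvd (c : Cfg p P N H g) : ¬ p ∣ Nat.card (phi c).ker := fun h =>
  c.Hp (h.trans (Subgroup.card_subgroup_dvd_card _))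

theorem card_cent (c : Cfg p P N H g) [Fact p.Prime] :
    Nat.card (Subgroup.centralizer (P : Set G)) = Nat.card (phi c).ker * p := by
  have hcP : Nat.card (phi c).ker * p = Nat.card ((phi c).ker × P) := by
    rw [Nat.card_prod]
    exact congrArg (Nat.card (phi c).ker * ·) (Cfg_cP c).symm
  rw [hcP]
  refine (Nat.card_congr (Equiv.ofBijective (fun x : (phi c).ker × P =>
    (jC c x.1 * ⟨(x.2 : G), P_le_cent c x.2.2⟩ : Subgroup.centralizer (P : Set G))) ⟨?_, ?_⟩)).symm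
  · rintro ⟨k, w⟩ ⟨k', w'⟩ h
    have h1 : ((k : H) : G) * (w : G) = ((k' : H) : G) * (w' : G) := congrArg Subtype.val h
    have h2 : (((k'⁻¹ * k : (phi c).ker) : H) : G) = ((w' * w⁻¹ : P) : G) := by
      push_cast
      calc ((k' : H) : G)⁻¹ * ((k : H) : G) =
            ((k' : H) : G)⁻¹ * (((k : H) : G) * (w : G)) * (w : G)⁻¹ := by group
        _ = ((k' : H) : G)⁻¹ * (((k' : H) : G) * (w' : G)) * (w : G)⁻¹ := by rw [h1]
        _ = _ := by group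
    have h3 : orderOf ((w' * w⁻¹ : P) : G) ∣ p := by
      rw [← Cfg_cP c, Subgroup.orderOf_coe]
      exact orderOf_dvd_natCard _
    have h4 : orderOf ((w' * w⁻¹ : P) : G) ∣ Nat.card (phi c).ker := by
      rw [← h2, Subgroup.orderOf_coe, Subgroup.orderOf_coe]
      exact orderOf_dvd_natCard _
    have h5 : orderOf ((w' * w⁻¹ : P) : G) = 1 := by
      rcases (Nat.dvd_prime (Fact.out : p.Prime)).1 h3 with h6 | h6
      · exact h6
      · exact absurd (h6 ▸ h4) (card_ker_dvd c)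
    have h6 := orderOf_eq_one_iff.1 h5
    have h7 : w' * w⁻¹ = 1 := Subtype.ext h6
    have h8 : k'⁻¹ * k = 1 := Subtype.ext (Subtype.ext (h2.trans h6))
    rw [mul_inv_eq_one] at h7
    rw [inv_mul_eq_one] at h8
    rw [h7, h8]
  · intro x
    obtain ⟨k, w, hw, hx⟩ := cent_fac c x
    exact ⟨(k, ⟨w, hw⟩), Subtype.ext hx.symm⟩

theorem jC_index (c : Cfg p P N H g) [Fact p.Prime] : (jC c).range.index = p := by
  have h1 := Subgroup.card_mul_index (jC c).range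
  rw [card_cent c, ← Nat.card_congr (MonoidHom.ofInjective (jC_inj c)).toEquiv] at h1
  exact Nat.eq_of_mul_eq_mul_left Nat.card_pos h1

theorem cent_eq (c : Cfg p P N H g) (hp : p.Prime) {u : G} (hu : u ∈ P) (hu1 : u ≠ 1) :
    Subgroup.centralizer (P : Set G) = Subgroup.centralizer ({u} : Set G) := by
  apply le_antisymm
  · exact Subgroup.centralizer_le (Set.singleton_subset_iff.2 hu)
  · intro x hx
    rw [Subgroup.mem_centralizer_singleton_iff] at hx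
    rw [Subgroup.mem_centralizer_iff]
    intro z hz
    rw [SetLike.mem_coe, Cfg_gen c hp hu hu1] at hz
    obtain ⟨n, rfl⟩ := hz
    have h1 : Commute u x := hx.symm
    exact (h1.zpow_left n).eq

theorem p_el (c : Cfg p P N H g) (hp : p.Prime) {u : G} (hu : u ∈ P) :
    ∃ k, orderOf u = p ^ k := by
  have h1 : orderOf u ∣ p := by
    have := orderOf_dvd_natCard (⟨u, hu⟩ : P)
    rwa [Subgroup.orderOf_mk, Cfg_cP c] at this
  rcases (Nat.dvd_prime hp).1 h1 with h2 | h2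
  · exact ⟨0, by rw [h2, pow_zero]⟩
  · exact ⟨1, by rw [h2, pow_one]⟩

/-- The local multiplicities. -/
noncomputable def DP (c : Cfg p P N H g) [Fintype P] (θ : IrrCharacter (phi c).ker) (χ : G → ℂ)
    (u : P) : ℂ :=
  letI := cg P (Cfg_comm c)
  DD P.subtype H.subtype θ χ u

theorem DP_eq (c : Cfg p P N H g) [Fintype P] [Fintype (phi c).ker]
    (θ : IrrCharacter (phi c).ker) (χ : G → ℂ) (u : P) :
    DP c θ χ u = classInner (fun k : (phi c).ker => χ ((u : G) * ((k : H) : G))) θ.1 := by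
  letI := cg P (Cfg_comm c)
  exact DD_inner (i := P.subtype) (j := H.subtype) θ χ u

/-- Characters over `θ`. -/
def IP (c : Cfg p P N H g) [Fintype P] (θ : IrrCharacter (phi c).ker) : Set (IrrCharacter G) :=
  {χ | ∃ u : P, u ≠ 1 ∧ DP c θ χ.1 u ≠ 0}

theorem IP_sub (hM : IsPModular p M) (c : Cfg p P N H g) [Fact p.Prime] [Fintype P]
    {θ : IrrCharacter (phi c).ker} {b : Set (IrrCharacter (Subgroup.centralizer (P : Set G)))}
    {ξ₀ : IrrCharacter (Subgroup.centralizer (P : Set G))} (hb : IsPBlock M b) (hξ₀ : ξ₀ ∈ b)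
    (hov : Ovj (jC c) ξ₀ θ) {B : Set (IrrCharacter G)}
    (hind : IsInducedBlock M (Subgroup.centralizer (P : Set G)) b B) : IP c θ ⊆ B := by
  haveI : Fintype (phi c).ker := Fintype.ofFinite _
  rintro χ ⟨u, hu, hD⟩
  by_contra hχ
  apply hD
  have hu1 : (u : G) ≠ 1 := fun h => hu (Subtype.ext h)
  have hC := cent_eq c hM.1 u.2 hu1
  have hcl := tr_cl hC (isChar_classFn (isChar_of_irr χ.2))
  have h1 := blockPart_inner (jj := jC c) hcl (b := b) (θ := θ) (fun ξ hξ =>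
    ovj_mem hM (jC_inj c) ⟨1, by rw [jC_index c, pow_one]⟩ hov hξ hb hξ₀)
  rw [DP_eq]
  refine h1.symm.trans ?_
  have h2 : (fun k => blockPart b (fun x : Subgroup.centralizer (P : Set G) => χ.1 ((u : G) * (x : G)))
      (jC c k)) = 0 := by
    funext k
    refine sm_part hM (p_el c hM.1 u.2) hC hind hχ ?_
    rw [← Subgroup.orderOf_coe, jC_coe, Subgroup.orderOf_coe, Subgroup.orderOf_coe]
    exact fun h => card_ker_dvd c (h.trans (orderOf_dvd_natCard _))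
  rw [h2, classInner_def]
  simp

theorem not_dz (hM : IsPModular p M) (c : Cfg p P N H g) {B : Set (IrrCharacter G)}
    (hB : IsPBlock M B) (hd : IsDefectGroup p M B P) {χ : IrrCharacter G} (hχ : χ ∈ B) :
    (charDegree χ.1).factorization p ≠ (Nat.card G).factorization p := by
  intro h
  have h1 := singleton_of_defect_zero hM h
  have h2 : B = blockOf M χ.1 := (blockOf_eq_of_mem hM hB hχ).symm
  rw [h1] at h2
  have h3 := card_defectGroup hM hB hd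
  have h4 : blockDefect p B = 0 := by
    rw [h2]
    exact dz_defect hM ⟨χ, h⟩
  rw [h4, pow_zero, Cfg_cP c] at h3
  exact hM.1.one_lt.ne' h3

theorem IP_eq (hM : IsPModular p M) (c : Cfg p P N H g) [Fact p.Prime] [Fintype P]
    (hS : ∃ S : Sylow p G, (S : Subgroup G) = P)
    {θ : IrrCharacter (phi c).ker} {b : Set (IrrCharacter (Subgroup.centralizer (P : Set G)))}
    {ξ₀ : IrrCharacter (Subgroup.centralizer (P : Set G))} (hb : IsPBlock M b) (hξ₀ : ξ₀ ∈ b)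
    (hov : Ovj (jC c) ξ₀ θ) {B : Set (IrrCharacter G)}
    (hind : IsInducedBlock M (Subgroup.centralizer (P : Set G)) b B)
    (hB : IsPBlock M B) (hd : IsDefectGroup p M B P) : IP c θ = B := by
  apply Set.Subset.antisymm (IP_sub hM c hb hξ₀ hov hind)
  intro χ hχ
  haveI : Fintype (phi c).ker := Fintype.ofFinite _
  letI := cg P (Cfg_comm c)
  have hAC := cfg_AC c hS
  obtain ⟨θ', hθ'⟩ := cover hAC χ (not_dz hM c hB hd hχ)
  obtain ⟨ξ', hξ'⟩ := exists_ovj (jC_inj c) θ'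
  have hPp : IsPGroup p P := by
    rw [c.gen]
    exact (isPGroup_zpowers_iff hM.1 g).2 ⟨1, by rw [c.ord, pow_one]⟩
  have hb' : IsPBlock M (blockOf M ξ'.1) := ⟨ξ', rfl⟩
  obtain ⟨B', hB'⟩ := exists_induced_cent hM hPp hb'
  have h1 : χ ∈ B' := IP_sub hM c hb' (self_mem_blockOf hM _) hξ' hB' hθ'
  have h2 : B' = B := by
    rw [← blockOf_eq_of_mem hM hB hχ]
    exact (blockOf_eq_of_mem hM hB'.2.1 h1).symm
  rw [h2] at hB'
  obtain ⟨x, hx, hxx⟩ := maximal_conj_same hM hind hB' hd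
  obtain ⟨ξ₁, hξ₁, hval⟩ := mem_of_cjP hxx hξ₀
  obtain ⟨h, hh, w, hw, rfl⟩ := c.fac x (by rw [c.nrm]; exact hx)
  -- `ξ₁` lies over the conjugate
  have h3 : Ovj (jC c) ξ₁ (cjI (⟨h, hh⟩ : H)⁻¹ θ) := by
    rw [ovj_def] at hov ⊢
    have h4 : classInner (fun k => ξ₁.1 (jC c k)) (cjI (⟨h, hh⟩ : H)⁻¹ θ).1 =
        classInner (fun k => ξ₀.1 (jC c k)) θ.1 := by
      rw [classInner_def, classInner_def]
      congr 1
      refine Fintype.sum_equiv (cjAut (N := (phi c).ker) (⟨h, hh⟩ : H)⁻¹).toEquiv _ _ (fun k => ?_)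
      change ξ₁.1 (jC c k) * conj (cj (⟨h, hh⟩ : H)⁻¹ θ.1 k) =
        ξ₀.1 (jC c (cjAut (N := (phi c).ker) (⟨h, hh⟩ : H)⁻¹ k)) *
        conj (θ.1 (cjAut (N := (phi c).ker) (⟨h, hh⟩ : H)⁻¹ k))
      rw [cj_eq_comp]
      congr 1
      refine hval _ _ ?_
      rw [jC_coe, jC_coe, cjAut_coe]
      push_cast
      have h5 : w * (h⁻¹ * ((k : H) : G) * h⁻¹⁻¹) = (h⁻¹ * ((k : H) : G) * h⁻¹⁻¹) * w := by
        have h6 := (phi_one_iff c ((cjAut (N := (phi c).ker) (⟨h, hh⟩ : H)⁻¹ k : (phi c).ker) : H)).1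
          (cjAut (N := (phi c).ker) (⟨h, hh⟩ : H)⁻¹ k).2
        rw [cjAut_coe] at h6
        exact Subgroup.mem_centralizer_iff.1 h6 w hw
      calc ((k : H) : G) = h * (h⁻¹ * ((k : H) : G) * h⁻¹⁻¹) * w * (h * w)⁻¹ := by group
        _ = h * ((h⁻¹ * ((k : H) : G) * h⁻¹⁻¹) * w) * (h * w)⁻¹ := by group
        _ = h * (w * (h⁻¹ * ((k : H) : G) * h⁻¹⁻¹)) * (h * w)⁻¹ := by rw [h5]
        _ = _ := by group
    rw [h4]
    exact hov
  have h4 : Ovj (jC c) ξ₁ θ' :=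
    ovj_same hM (jC_inj c) (card_ker_dvd c) hξ' hb' (self_mem_blockOf hM _) hξ₁
  have h5 : θ' = cjI (⟨h, hh⟩ : H)⁻¹ θ := ovj_unique (jC_inj c) (jC_conj c) h3 h4
  rw [h5] at hθ'
  have h6 := II_cj (G := G) hAC (⟨h, hh⟩ : H)⁻¹ θ
  rw [h6] at hθ'
  exact hθ'

end Link

end Cfsg.Agent.Lib.BlkH7N
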