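import Cfsg.Agent.Lib.BlockRey
import Cfsg.Agent.Lib.BlockKB
import Cfsg.Agent.Lib.BlockLar
import Cfsg.Agent.Lib.BlockMaxB
import Cfsg.Agent.Lib.BlockIndIn
import Cfsg.Agent.Lib.BlockBFM

import Cfsg.Agent.Lib.BlkH6L
import Cfsg.Agent.Lib.BlkH6N
import Cfsg.Agent.Lib.BlkH6D
import Cfsg.Agent.Lib.BlkH7C
import Cfsg.Agent.Lib.BlkH7E
import Cfsg.Agent.Lib.BlkH7F
import Cfsg.Agent.Lib.BlkH7G
import Cfsg.Agent.Lib.BlkH7H
import Cfsg.Agent.Lib.BlkH7I
import Cfsg.Agent.Lib.BlkH7J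
import Cfsg.Agent.Lib.BlkH7K
import Cfsg.Agent.Lib.BlkH7L
import Cfsg.Agent.Lib.BlkH7M
import Cfsg.Agent.Lib.BlkH7N

/-!
The structure theorem for blocks of defect one.
-/

set_option autoImplicit false
set_option linter.style.haveILetI false
set_option linter.unusedVariables false
set_option linter.unusedSectionVars false
set_option linter.unusedDecidableInType false
set_option linter.unusedFintypeInType false
set_option linter.unusedSimpArgs false

namespace Cfsg.Agent.Lib.BlkH7O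
open Cfsg Cfsg.Agent.Lib.BlockLoc Cfsg.Agent.Lib.BlockGA Cfsg.Agent.Lib.CharBasic
open Cfsg.Agent.Lib.BlockIdem Cfsg.Agent.Lib.BlockPP Cfsg.Agent.Lib.BlockOrth
open Cfsg.Agent.Lib.BlockRed Cfsg.Agent.Lib.BlockDef Cfsg.Agent.Lib.BlockDeg
open Cfsg.Agent.Lib.BlockNP Cfsg.Agent.Lib.BlockInd Cfsg.Agent.Lib.BlockSecond
open Cfsg.Agent.Lib.BlockFirst Cfsg.Agent.Lib.BlockHt Cfsg.Agent.Lib.BlockM
open Cfsg.Agent.Lib.BlockCov Cfsg.Agent.Lib.BlockQuot Cfsg.Agent.Lib.CharKer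
open Cfsg.Agent.Lib.BlockQuotB Cfsg.Agent.Lib.BlockMore Cfsg.Agent.Lib.BlockMoreB
open Cfsg.Agent.Lib.BlockTr Cfsg.Agent.Lib.CharNormal Cfsg.Agent.Lib.BlockCovB
open Cfsg.Agent.Lib.BlockBP Cfsg.Agent.Lib.BlockInt Cfsg.Agent.Lib.BlockSum Cfsg.Agent.Lib.BlockRk
open Cfsg.Agent.Lib.BlockFusB Cfsg.Agent.Lib.BlockMax Cfsg.Agent.Lib.CharSplit Cfsg.Agent.Lib.CharBrauer
open Cfsg.Agent.Lib.CharInd Cfsg.Agent.Lib.BlockPC Cfsg.Agent.Lib.BlockPair Cfsg.Agent.Lib.BlockPairB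
open Cfsg.Agent.Lib.BlockPairC Cfsg.Agent.Lib.BlockPairD Cfsg.Agent.Lib.BlockPairE
open Cfsg.Agent.Lib.BlockRey Cfsg.Agent.Lib.BlockPairF Cfsg.Agent.Lib.BlockFus Cfsg.Agent.Lib.BlockNilB Cfsg.Agent.Lib.BlockNil Cfsg.Agent.Lib.CharClifford
open Cfsg.Agent.Lib.BlockKB Cfsg.Agent.Lib.BlockLar Cfsg.Agent.Lib.BlockMaxB Cfsg.Agent.Lib.BlockIndIn Cfsg.Agent.Lib.BlockBFM
open Cfsg.Agent.Lib.BlkH6L Cfsg.Agent.Lib.BlkH6N Cfsg.Agent.Lib.BlkH6D Cfsg.Agent.Lib.BlkH7C Cfsg.Agent.Lib.BlkH7E Cfsg.Agent.Lib.BlkH7F Cfsg.Agent.Lib.BlkH7G Cfsg.Agent.Lib.BlkH7H Cfsg.Agent.Lib.BlkH7I Cfsg.Agent.Lib.BlkH7J Cfsg.Agent.Lib.BlkH7K Cfsg.Agent.Lib.BlkH7L Cfsg.Agent.Lib.BlkH7M Cfsg.Agent.Lib.BlkH7N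
open scoped ComplexConjugate


section Final

universe v

variable {G : Type v} [Group G] [Finite G] {p : ℕ} {M : Ideal AlgInt}
  {P N H : Subgroup G} {g : G}

/-- The cardinality of a subgroup between `P` and `N`. -/
theorem card_between (c : Cfg p P N H g) [Fact p.Prime] {T : Subgroup G} (hPT : P ≤ T) (hTN : T ≤ N)
    {S : Subgroup H} (hST : ∀ h : H, h ∈ S ↔ (h : G) ∈ T) : Nat.card T = Nat.card S * p := by
  have hcP : Nat.card S * p = Nat.card (S × P) := by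
    rw [Nat.card_prod]
    exact congrArg (Nat.card S * ·) (Cfg_cP c).symm
  rw [hcP]
  refine (Nat.card_congr (Equiv.ofBijective (fun x : S × P =>
    (⟨((x.1 : H) : G) * (x.2 : G), T.mul_mem ((hST _).1 x.1.2) (hPT x.2.2)⟩ : T)) ⟨?_, ?_⟩)).symm
  · rintro ⟨k, w⟩ ⟨k', w'⟩ h
    have h1 : ((k : H) : G) * (w : G) = ((k' : H) : G) * (w' : G) := congrArg Subtype.val h
    have h2 : (((k'⁻¹ * k : S) : H) : G) = ((w' * w⁻¹ : P) : G) := by
      push_cast
      calc ((k' : H) : G)⁻¹ * ((k : H) : G) =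
            ((k' : H) : G)⁻¹ * (((k : H) : G) * (w : G)) * (w : G)⁻¹ := by group
        _ = ((k' : H) : G)⁻¹ * (((k' : H) : G) * (w' : G)) * (w : G)⁻¹ := by rw [h1]
        _ = _ := by group
    have h3 : orderOf ((w' * w⁻¹ : P) : G) ∣ p := by
      rw [← Cfg_cP c, Subgroup.orderOf_coe]
      exact orderOf_dvd_natCard _
    have h4 : orderOf ((w' * w⁻¹ : P) : G) ∣ Nat.card H := by
      rw [← h2, Subgroup.orderOf_coe]
      exact orderOf_dvd_natCard _
    have h5 : orderOf ((w' * w⁻¹ : P) : G) = 1 := by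
      rcases (Nat.dvd_prime (Fact.out : p.Prime)).1 h3 with h6 | h6
      · exact h6
      · exact absurd (h6 ▸ h4) c.Hp
    have h6 := orderOf_eq_one_iff.1 h5
    have h7 : w' * w⁻¹ = 1 := Subtype.ext h6
    have h8 : k'⁻¹ * k = 1 := Subtype.ext (Subtype.ext (h2.trans h6))
    rw [mul_inv_eq_one] at h7
    rw [inv_mul_eq_one] at h8
    rw [h7, h8]
  · rintro ⟨x, hx⟩
    obtain ⟨h, hh, w, hw, hxw⟩ := c.fac x (hTN hx)
    have hhT : h ∈ T := by
      have : h = x * w⁻¹ := by rw [hxw, mul_inv_cancel_right]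
      rw [this]
      exact T.mul_mem hx (T.inv_mem (hPT hw))
    exact ⟨(⟨⟨h, hh⟩, (hST _).2 hhT⟩, ⟨w, hw⟩), Subtype.ext hxw.symm⟩

theorem relIndex_between (c : Cfg p P N H g) [Fact p.Prime] {T : Subgroup G}
    (hCT : Subgroup.centralizer (P : Set G) ≤ T) (hTN : T ≤ N)
    {S : Subgroup H} (hST : ∀ h : H, h ∈ S ↔ (h : G) ∈ T) :
    (Subgroup.centralizer (P : Set G)).relIndex T = Nat.card (S.map (phi c)) := by
  have h1 := card_between c ((P_le_cent c).trans hCT) hTN hST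
  have h2 := CharClifford.relIndex_mul_card' _ _ hCT
  have hK : (phi c).ker ≤ S := fun k hk => (hST k).2 (hCT ((phi_one_iff c k).1 hk))
  have h3 : Nat.card (S.map (phi c)) * Nat.card (phi c).ker = Nat.card S := by
    haveI : Fintype P := Fintype.ofFinite _
    letI := cg P (Cfg_comm c)
    exact card_map (φ := phi c) hK
  rw [h1, card_cent c, ← h3, ← mul_assoc] at h2
  have h4 := Nat.eq_of_mul_eq_mul_right (Fact.out : p.Prime).pos h2
  exact Nat.eq_of_mul_eq_mul_right Nat.card_pos h4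

/-- The structure of a block of defect one. -/
theorem defect_one (hM : IsPModular p M) (c : Cfg p P N H g) [Fact p.Prime] [Fintype P]
    (hS : ∃ S : Sylow p G, (S : Subgroup G) = P)
    (θ : IrrCharacter (phi c).ker) :
    letI := cg P (Cfg_comm c)
    ∀ [Fintype ((inertia θ.1).map (phi c))], ∃ X Y a δ,
      Str ((inertia θ.1).map (phi c)) (fun (χ : IrrCharacter G) u => DP c θ χ.1 u) X Y a δ ∧
      IP c θ = X ∪ Y := by
  letI := cg P (Cfg_comm c)
  intro _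
  have hAC := cfg_AC c hS
  obtain ⟨X, Y, a, δ, h⟩ := structure_thm hAC (count_simple hM c) θ
  exact ⟨X, Y, a, δ, h, h.supp⟩

theorem orbit_of (hM : IsPModular p M) (c : Cfg p P N H g) [Fact p.Prime] [Fintype P]
    (hS : ∃ S : Sylow p G, (S : Subgroup G) = P)
    {θ θ' : IrrCharacter (phi c).ker} {χ : IrrCharacter G} (h : χ ∈ IP c θ) (h' : χ ∈ IP c θ') :
    ∃ x : H, θ' = cjI x θ := by
  letI := cg P (Cfg_comm c)
  have hAC := cfg_AC c hS
  exact (counting hAC (count_simple hM c)).2.1 θ θ' χ h h'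

theorem value_eq (c : Cfg p P N H g) [Fact p.Prime] [Fintype P]
    (hS : ∃ S : Sylow p G, (S : Subgroup G) = P) (χ : IrrCharacter G) (u : P)
    (k : (phi c).ker) :
    χ.1 ((u : G) * ((k : H) : G)) = ∑ θ : IrrCharacter (phi c).ker, DP c θ χ.1 u * θ.1 k := by
  letI := cg P (Cfg_comm c)
  exact decomp (cfg_AC c hS) (isChar_classFn (isChar_of_irr χ.2)) u k

theorem DP_cj (c : Cfg p P N H g) [Fact p.Prime] [Fintype P]
    (hS : ∃ S : Sylow p G, (S : Subgroup G) = P) (χ : IrrCharacter G) (h : H)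
    (θ : IrrCharacter (phi c).ker) (u : P) :
    DP c (cjI h θ) χ.1 u = DP c θ χ.1 (phi c h u) := by
  letI := cg P (Cfg_comm c)
  exact DD_cj (cfg_AC c hS) (isChar_classFn (isChar_of_irr χ.2)) h θ u

theorem rel_reg (c : Cfg p P N H g) [Fact p.Prime] [Fintype P]
    (hS : ∃ S : Sylow p G, (S : Subgroup G) = P) (θ : IrrCharacter (phi c).ker) {u : P}
    (hu : u ≠ 1) {x : G} (hx : ¬ p ∣ orderOf x) :
    ∑ χ : IrrCharacter G, DP c θ χ.1 u * χ.1 x = 0 := by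
  letI := cg P (Cfg_comm c)
  exact DD_rel (cfg_AC c hS) θ hu hx

theorem sum_const_orbit (hM : IsPModular p M) (c : Cfg p P N H g) [Fact p.Prime] [Fintype P]
    (hS : ∃ S : Sylow p G, (S : Subgroup G) = P)
    {θ : IrrCharacter (phi c).ker} {χ : IrrCharacter G} (h : χ ∈ IP c θ) {a : ℂ}
    (ha : ∀ u : P, u ≠ 1 → DP c θ χ.1 u = a) {u : P} (hu : u ≠ 1) :
    χ.1 (u : G) = ((inertia θ.1).index : ℂ) * a * θ.1 1 := by
  classical
  haveI : Fintype (phi c).ker := Fintype.ofFinite _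
  have h1 := value_eq c hS χ u 1
  have h2 : ((u : G) * (((1 : (phi c).ker) : H) : G)) = u := by simp
  rw [h2] at h1
  rw [h1]
  have h3 : ∀ θ' : IrrCharacter (phi c).ker, DP c θ' χ.1 u * θ'.1 1 =
      if (∃ x : H, θ' = cjI x θ) then a * θ.1 1 else 0 := by
    intro θ'
    split_ifs with h4
    · obtain ⟨x, rfl⟩ := h4
      have h5 : phi c x u ≠ 1 := by
        intro h6
        apply hu
        have := congrArg (phi c x).symm h6
        simpa using this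
      rw [DP_cj c hS, ha _ h5, cjI_coe, cj_one_apply]
    · have h5 : DP c θ' χ.1 u = 0 := by
        by_contra hn
        exact h4 (orbit_of hM c hS h ⟨u, hu, hn⟩)
      rw [h5, zero_mul]
  rw [Finset.sum_congr rfl (fun θ' _ => h3 θ'), ← Finset.sum_filter, Finset.sum_const,
    nsmul_eq_mul, mul_assoc]
  congr 1
  have h4 : Nat.card {θ' : IrrCharacter (phi c).ker // ∃ h : H, θ' = cjI h θ} =
      (inertia θ.1).index := by
    letI := cg P (Cfg_comm c)
    exact card_orb (φ := phi c) θ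
  rw [← h4, Nat.card_eq_fintype_card, Fintype.card_subtype]

end Final

end Cfsg.Agent.Lib.BlkH7O
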