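import Cfsg.Agent.Lib.BlockRey
import Cfsg.Agent.Lib.BlockKB
import Cfsg.Agent.Lib.BlockLar
import Cfsg.Agent.Lib.BlockMaxB
import Cfsg.Agent.Lib.BlockIndIn
import Cfsg.Agent.Lib.BlockBFM

import Cfsg.Agent.Lib.BlkH6L
import Cfsg.Agent.Lib.BlkH6N
import Cfsg.Agent.Lib.BlkH6D
import Cfsg.Agent.Lib.BlkH7C
import Cfsg.Agent.Lib.BlkH7E
import Cfsg.Agent.Lib.BlkH7F
import Cfsg.Agent.Lib.BlkH7G
import Cfsg.Agent.Lib.BlkH7H
import Cfsg.Agent.Lib.BlkH7I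
import Cfsg.Agent.Lib.BlkH7J
import Cfsg.Agent.Lib.BlkH7K
import Cfsg.Agent.Lib.BlkH7L
import Cfsg.Agent.Lib.BlkH7M
import Cfsg.Agent.Lib.BlkH7N
import Cfsg.Agent.Lib.BlkH7O
import Cfsg.Agent.Lib.CharMod

/-!
Degrees in blocks of defect one.
-/

set_option autoImplicit false
set_option linter.style.haveILetI false
set_option linter.unusedVariables false
set_option linter.unusedSectionVars false
set_option linter.unusedDecidableInType false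
set_option linter.unusedFintypeInType false
set_option linter.unusedSimpArgs false

namespace Cfsg.Agent.Lib.BlkH7P
open Cfsg Cfsg.Agent.Lib.BlockLoc Cfsg.Agent.Lib.BlockGA Cfsg.Agent.Lib.CharBasic
open Cfsg.Agent.Lib.BlockIdem Cfsg.Agent.Lib.BlockPP Cfsg.Agent.Lib.BlockOrth
open Cfsg.Agent.Lib.BlockRed Cfsg.Agent.Lib.BlockDef Cfsg.Agent.Lib.BlockDeg
open Cfsg.Agent.Lib.BlockNP Cfsg.Agent.Lib.BlockInd Cfsg.Agent.Lib.BlockSecond
open Cfsg.Agent.Lib.BlockFirst Cfsg.Agent.Lib.BlockHt Cfsg.Agent.Lib.BlockM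
open Cfsg.Agent.Lib.BlockCov Cfsg.Agent.Lib.BlockQuot Cfsg.Agent.Lib.CharKer
open Cfsg.Agent.Lib.BlockQuotB Cfsg.Agent.Lib.BlockMore Cfsg.Agent.Lib.BlockMoreB
open Cfsg.Agent.Lib.BlockTr Cfsg.Agent.Lib.CharNormal Cfsg.Agent.Lib.BlockCovB
open Cfsg.Agent.Lib.BlockBP Cfsg.Agent.Lib.BlockInt Cfsg.Agent.Lib.BlockSum Cfsg.Agent.Lib.BlockRk
open Cfsg.Agent.Lib.BlockFusB Cfsg.Agent.Lib.BlockMax Cfsg.Agent.Lib.CharSplit Cfsg.Agent.Lib.CharBrauer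
open Cfsg.Agent.Lib.CharInd Cfsg.Agent.Lib.BlockPC Cfsg.Agent.Lib.BlockPair Cfsg.Agent.Lib.BlockPairB
open Cfsg.Agent.Lib.BlockPairC Cfsg.Agent.Lib.BlockPairD Cfsg.Agent.Lib.BlockPairE
open Cfsg.Agent.Lib.BlockRey Cfsg.Agent.Lib.BlockPairF Cfsg.Agent.Lib.BlockFus Cfsg.Agent.Lib.BlockNilB Cfsg.Agent.Lib.BlockNil Cfsg.Agent.Lib.CharClifford
open Cfsg.Agent.Lib.BlockKB Cfsg.Agent.Lib.BlockLar Cfsg.Agent.Lib.BlockMaxB Cfsg.Agent.Lib.BlockIndIn Cfsg.Agent.Lib.BlockBFM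
open Cfsg.Agent.Lib.BlkH6L Cfsg.Agent.Lib.BlkH6N Cfsg.Agent.Lib.BlkH6D Cfsg.Agent.Lib.BlkH7C Cfsg.Agent.Lib.BlkH7E Cfsg.Agent.Lib.BlkH7F Cfsg.Agent.Lib.BlkH7G Cfsg.Agent.Lib.BlkH7H Cfsg.Agent.Lib.BlkH7I Cfsg.Agent.Lib.BlkH7J Cfsg.Agent.Lib.BlkH7K Cfsg.Agent.Lib.BlkH7L Cfsg.Agent.Lib.BlkH7M Cfsg.Agent.Lib.BlkH7N Cfsg.Agent.Lib.BlkH7O Cfsg.Agent.Lib.CharMod
open scoped ComplexConjugate


section Fin2

universe v

variable {G : Type v} [Group G] [Finite G] {p : ℕ} {M : Ideal AlgInt}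
  {P N H : Subgroup G} {g : G}

theorem Y_degree (c : Cfg p P N H g) [Fact p.Prime] [Fintype P]
    (hS : ∃ S : Sylow p G, (S : Subgroup G) = P) {θ : IrrCharacter (phi c).ker}
    {X Y : Set (IrrCharacter G)} {a : IrrCharacter G → ℤ} {δ : ℤ}
    (hrel : ∀ f : IrrCharacter G → ℂ, (∀ u : P, u ≠ 1 → ∑ χ : IrrCharacter G,
      DP c θ χ.1 u * f χ = 0) → ∀ η ∈ Y, (δ : ℂ) * f η = ∑ᶠ χ ∈ X, (a χ : ℂ) * f χ)
    (ha : ∀ χ ∈ X, a χ = 1 ∨ a χ = -1) (hδ : δ = 1 ∨ δ = -1) {m : ℤ}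
    (hX : ∀ χ ∈ X, (charDegree χ.1 : ℤ) ≡ a χ * m [ZMOD p]) {η : IrrCharacter G} (hη : η ∈ Y) :
    (charDegree η.1 : ℤ) ≡ δ * (Nat.card X * m) [ZMOD p] := by
  classical
  have hp : p.Prime := Fact.out
  have h1 := hrel (fun χ => χ.1 1) (fun u hu => rel_reg c hS θ hu (by
    rw [orderOf_one]
    exact fun h => hp.one_lt.not_ge (Nat.le_of_dvd one_pos h))) η hη
  have hfin := Set.toFinite X
  rw [finsum_mem_eq_finite_toFinset_sum _ hfin] at h1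
  have h2 : δ * (charDegree η.1 : ℤ) = ∑ χ ∈ hfin.toFinset, a χ * (charDegree χ.1 : ℤ) := by
    have h3 : ((δ * (charDegree η.1 : ℤ) : ℤ) : ℂ) =
        ((∑ χ ∈ hfin.toFinset, a χ * (charDegree χ.1 : ℤ) : ℤ) : ℂ) := by
      push_cast
      simp only [irr_one_eq] at h1
      exact h1
    exact_mod_cast h3
  have h3 : ∑ χ ∈ hfin.toFinset, a χ * (charDegree χ.1 : ℤ) ≡
      ∑ χ ∈ hfin.toFinset, m [ZMOD p] := by
    refine Int.ModEq.sum (fun χ hχ => ?_)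
    rw [Set.Finite.mem_toFinset] at hχ
    have h4 : a χ * a χ = 1 := by rcases ha χ hχ with h | h <;> rw [h] <;> rfl
    have h5 := (hX χ hχ).mul_left (a χ)
    rwa [← mul_assoc, h4, one_mul] at h5
  rw [Finset.sum_const, nsmul_eq_mul, ← Set.ncard_eq_toFinset_card X hfin] at h3
  rw [← h2] at h3
  have h4 : δ * δ = 1 := by rcases hδ with h | h <;> rw [h] <;> rfl
  have h5 := h3.mul_left δ
  rw [← mul_assoc, h4, one_mul] at h5
  exact h5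

theorem X_degree (hM : IsPModular p M) (c : Cfg p P N H g) [Fact p.Prime] [Fintype P]
    (hS : ∃ S : Sylow p G, (S : Subgroup G) = P)
    {θ : IrrCharacter (phi c).ker} {χ : IrrCharacter G} (h : χ ∈ IP c θ) {a : ℤ}
    (ha : ∀ u : P, u ≠ 1 → DP c θ χ.1 u = a) :
    (charDegree χ.1 : ℤ) ≡ a * ((inertia θ.1).index * charDegree θ.1 : ℕ) [ZMOD p] := by
  have hp : p.Prime := Fact.out
  obtain ⟨u, hu, hD⟩ := h
  have h1 := sum_const_orbit hM c hS ⟨u, hu, hD⟩ ha hu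
  have h2 := CharMod.int_dvd_sub hp (isChar_of_irr χ.2) (p_el c hp u.2)
    (a := a * ((inertia θ.1).index * charDegree θ.1 : ℕ)) (b := (charDegree χ.1 : ℤ)) (by
      rw [h1, irr_one_eq]
      push_cast
      ring) (by rw [irr_one_eq]; rfl)
  exact Int.modEq_iff_dvd.2 h2

theorem reg_mem (c : Cfg p P N H g) (hp : p.Prime) {y : G}
    (hy : y ∈ Subgroup.centralizer (P : Set G)) (hyp : ¬ p ∣ orderOf y) :
    ∃ k : (phi c).ker, y = ((k : H) : G) := by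
  obtain ⟨k, w, hw, hx⟩ := cent_fac c ⟨y, hy⟩
  have hx' : y = ((k : H) : G) * w := hx
  have h1 : w * ((k : H) : G) = ((k : H) : G) * w :=
    Subgroup.mem_centralizer_iff.1 ((phi_one_iff c (k : H)).1 k.2) w hw
  have hk : ¬ p ∣ orderOf ((k : H) : G) := by
    rw [Subgroup.orderOf_coe]
    exact fun h => c.Hp (h.trans (orderOf_dvd_natCard _))
  have h2 := pp_mul_eq hp (show Commute w ((k : H) : G) from h1) (p_el c hp hw) hk
  rw [h1, ← hx', (pp_eq_one_iff hp y).2 hyp] at h2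
  refine ⟨k, ?_⟩
  rw [hx', ← h2, mul_one]

theorem cX_sub {e m : ℕ} (he : 0 < e) (h : m * e = p - 1) : m = (p - 1) / e := by
  rw [← h, Nat.mul_div_cancel _ he]

end Fin2

end Cfsg.Agent.Lib.BlkH7P
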