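import Cfsg.Agent.Lib.BlockRey
import Cfsg.Agent.Lib.BlockKB
import Cfsg.Agent.Lib.BlockLar
import Cfsg.Agent.Lib.BlockMaxB
import Cfsg.Agent.Lib.BlockIndIn
import Cfsg.Agent.Lib.BlockBFM

import Cfsg.Agent.Lib.BlkH6L
import Cfsg.Agent.Lib.BlkH6N
import Cfsg.Agent.Lib.BlkH6D
import Cfsg.Agent.Lib.BlkH7C
import Cfsg.Agent.Lib.BlkH7E
import Cfsg.Agent.Lib.BlkH7F
import Cfsg.Agent.Lib.BlkH7G
import Cfsg.Agent.Lib.BlkH7H
import Cfsg.Agent.Lib.BlkH7I
import Cfsg.Agent.Lib.BlkH7J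
import Cfsg.Agent.Lib.BlkH7K
import Cfsg.Agent.Lib.BlkH7L
import Cfsg.Agent.Lib.BlkH7M
import Cfsg.Agent.Lib.BlkH7N
import Cfsg.Agent.Lib.BlkH7O
import Cfsg.Agent.Lib.BlkH7P
import Cfsg.Agent.Lib.CharMod

/-!
The canonical character and its stabilizer.
-/

set_option autoImplicit false
set_option linter.style.haveILetI false
set_option linter.unusedVariables false
set_option linter.unusedSectionVars false
set_option linter.unusedDecidableInType false
set_option linter.unusedFintypeInType false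
set_option linter.unusedSimpArgs false

namespace Cfsg.Agent.Lib.BlkH7Q
open Cfsg Cfsg.Agent.Lib.BlockLoc Cfsg.Agent.Lib.BlockGA Cfsg.Agent.Lib.CharBasic
open Cfsg.Agent.Lib.BlockIdem Cfsg.Agent.Lib.BlockPP Cfsg.Agent.Lib.BlockOrth
open Cfsg.Agent.Lib.BlockRed Cfsg.Agent.Lib.BlockDef Cfsg.Agent.Lib.BlockDeg
open Cfsg.Agent.Lib.BlockNP Cfsg.Agent.Lib.BlockInd Cfsg.Agent.Lib.BlockSecond
open Cfsg.Agent.Lib.BlockFirst Cfsg.Agent.Lib.BlockHt Cfsg.Agent.Lib.BlockM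
open Cfsg.Agent.Lib.BlockCov Cfsg.Agent.Lib.BlockQuot Cfsg.Agent.Lib.CharKer
open Cfsg.Agent.Lib.BlockQuotB Cfsg.Agent.Lib.BlockMore Cfsg.Agent.Lib.BlockMoreB
open Cfsg.Agent.Lib.BlockTr Cfsg.Agent.Lib.CharNormal Cfsg.Agent.Lib.BlockCovB
open Cfsg.Agent.Lib.BlockBP Cfsg.Agent.Lib.BlockInt Cfsg.Agent.Lib.BlockSum Cfsg.Agent.Lib.BlockRk
open Cfsg.Agent.Lib.BlockFusB Cfsg.Agent.Lib.BlockMax Cfsg.Agent.Lib.CharSplit Cfsg.Agent.Lib.CharBrauer
open Cfsg.Agent.Lib.CharInd Cfsg.Agent.Lib.BlockPC Cfsg.Agent.Lib.BlockPair Cfsg.Agent.Lib.BlockPairB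
open Cfsg.Agent.Lib.BlockPairC Cfsg.Agent.Lib.BlockPairD Cfsg.Agent.Lib.BlockPairE
open Cfsg.Agent.Lib.BlockRey Cfsg.Agent.Lib.BlockPairF Cfsg.Agent.Lib.BlockFus Cfsg.Agent.Lib.BlockNilB Cfsg.Agent.Lib.BlockNil Cfsg.Agent.Lib.CharClifford
open Cfsg.Agent.Lib.BlockKB Cfsg.Agent.Lib.BlockLar Cfsg.Agent.Lib.BlockMaxB Cfsg.Agent.Lib.BlockIndIn Cfsg.Agent.Lib.BlockBFM
open Cfsg.Agent.Lib.BlkH6L Cfsg.Agent.Lib.BlkH6N Cfsg.Agent.Lib.BlkH6D Cfsg.Agent.Lib.BlkH7C Cfsg.Agent.Lib.BlkH7E Cfsg.Agent.Lib.BlkH7F Cfsg.Agent.Lib.BlkH7G Cfsg.Agent.Lib.BlkH7H Cfsg.Agent.Lib.BlkH7I Cfsg.Agent.Lib.BlkH7J Cfsg.Agent.Lib.BlkH7K Cfsg.Agent.Lib.BlkH7L Cfsg.Agent.Lib.BlkH7M Cfsg.Agent.Lib.BlkH7N Cfsg.Agent.Lib.BlkH7O Cfsg.Agent.Lib.BlkH7P Cfsg.Agent.Lib.CharMod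
open scoped ComplexConjugate


section Fin3

universe v

variable {G : Type v} [Group G] [Finite G] {p : ℕ} {M : Ideal AlgInt}
  {P N H : Subgroup G} {g : G}

/-- The restriction to the `p`-regular part of a character of the centralizer trivial on `P`. -/
theorem res_irr (c : Cfg p P N H g) {θ : IrrCharacter (Subgroup.centralizer (P : Set G))}
    (hθP : ∀ x : Subgroup.centralizer (P : Set G), (x : G) ∈ P → θ.1 x = θ.1 1) :
    IsIrrCharacter (phi c).ker (fun k => θ.1 (jC c k)) := by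
  set P' : Subgroup (Subgroup.centralizer (P : Set G)) :=
    P.subgroupOf (Subgroup.centralizer (P : Set G)) with hP'
  haveI : P'.Normal := by
    constructor
    intro w hw x
    have h1 : x * w = w * x := by
      apply Subtype.ext
      exact (Subgroup.mem_centralizer_iff.1 x.2 w hw).symm
    rw [h1, mul_inv_cancel_right]
    exact hw
  obtain ⟨θ', h1, h2, h3⟩ := exists_quot (N := P') (isChar_of_irr θ.2) (fun n hn => hθP n hn)
  have h4 : (fun k : (phi c).ker => θ.1 (jC c k)) =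
      fun k => θ' (((QuotientGroup.mk' P').comp (jC c)) k) := by
    funext k
    exact h2 _
  rw [h4]
  refine isIrr_comp_surjective _ ?_ (h3 θ.2)
  intro q
  obtain ⟨x, rfl⟩ := QuotientGroup.mk'_surjective P' q
  obtain ⟨k, w, hw, hx⟩ := cent_fac c x
  refine ⟨k, ?_⟩
  rw [MonoidHom.comp_apply, QuotientGroup.mk'_apply, QuotientGroup.mk'_apply, QuotientGroup.eq]
  change ((jC c k : _) : G)⁻¹ * (x : G) ∈ P
  rw [hx, jC_coe, inv_mul_cancel_left]
  exact hw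

theorem f_eq (c : Cfg p P N H g) [Fact p.Prime] (θ : IrrCharacter (phi c).ker) :
    (Subgroup.centralizer (P : Set G)).relIndex (Subgroup.normalizer (P : Set G)) =
      Nat.card ((inertia θ.1).map (phi c)) * (inertia θ.1).index := by
  have h1 := relIndex_between c (T := Subgroup.normalizer (P : Set G)) (S := (⊤ : Subgroup H))
    (Subgroup.centralizer_le_normalizer _) (by rw [c.nrm])
    (fun h => ⟨fun _ => c.nrm ▸ c.HN h.2, fun _ => trivial⟩)
  have h2 : Nat.card ((⊤ : Subgroup H).map (phi c)) * Nat.card (phi c).ker =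
      Nat.card (⊤ : Subgroup H) := by
    haveI : Fintype P := Fintype.ofFinite _
    letI := cg P (Cfg_comm c)
    exact card_map (φ := phi c) le_top
  have h3 : Nat.card ((inertia θ.1).map (phi c)) * (inertia θ.1).index * Nat.card (phi c).ker =
      Nat.card H := by
    haveI : Fintype P := Fintype.ofFinite _
    letI := cg P (Cfg_comm c)
    exact card_e (φ := phi c) θ
  rw [h1]
  rw [Nat.card_congr Subgroup.topEquiv.toEquiv, ← h3] at h2
  exact Nat.eq_of_mul_eq_mul_right Nat.card_pos h2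

/-- The stabilizers agree. -/
theorem stab_iff (c : Cfg p P N H g) {θ : IrrCharacter (Subgroup.centralizer (P : Set G))}
    (hθP : ∀ x : Subgroup.centralizer (P : Set G), (x : G) ∈ P → θ.1 x = θ.1 1)
    {T : Subgroup G} (hT : ∀ g : G, g ∈ T ↔ (g ∈ Subgroup.normalizer (P : Set G) ∧
      ∀ c c' : Subgroup.centralizer (P : Set G), (c' : G) = g * c * g⁻¹ → θ.1 c' = θ.1 c)) (h : H) :
    h ∈ inertia (fun k : (phi c).ker => θ.1 (jC c k)) ↔ (h : G) ∈ T := by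
  have hN : (h : G) ∈ Subgroup.normalizer (P : Set G) := c.nrm ▸ c.HN h.2
  rw [hT, mem_inertia]
  constructor
  · intro h1
    refine ⟨hN, ?_⟩
    intro x x' hx
    obtain ⟨k, w, hw, hxk⟩ := cent_fac c x
    have hwC := P_le_cent c hw
    have hx1 : x = jC c k * ⟨w, hwC⟩ := Subtype.ext hxk
    have hw' : (h : G) * w * (h : G)⁻¹ ∈ P := (norm_iff.1 hN w).1 hw
    have hx2 : x' = jC c (cjAut (N := (phi c).ker) h k) *
        ⟨(h : G) * w * (h : G)⁻¹, P_le_cent c hw'⟩ := by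
      apply Subtype.ext
      change (x' : G) = ((jC c (cjAut (N := (phi c).ker) h k) : _) : G) *
        ((h : G) * w * (h : G)⁻¹)
      rw [hx, hxk, jC_coe, cjAut_coe]
      push_cast
      group
    have hch := isChar_of_irr θ.2
    rw [hx1, hx2, (char_mul_of_eq_one hch (hθP ⟨w, hwC⟩ hw) _).1,
      (char_mul_of_eq_one hch (hθP ⟨_, P_le_cent c hw'⟩ hw') _).1]
    have h2 := congrFun h1 k
    rw [cj_eq_comp] at h2
    exact h2
  · rintro ⟨_, h1⟩
    funext k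
    rw [cj_eq_comp]
    refine h1 _ _ ?_
    rw [jC_coe, jC_coe, cjAut_coe]
    push_cast
    rfl

end Fin3

end Cfsg.Agent.Lib.BlkH7Q
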