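import Cfsg.Agent.Lib.BlockRey
import Cfsg.Agent.Lib.BlockKB
import Cfsg.Agent.Lib.BlockLar
import Cfsg.Agent.Lib.BlockMaxB
import Cfsg.Agent.Lib.BlockIndIn
import Cfsg.Agent.Lib.BlockBFM

import Cfsg.Agent.Lib.BlkH6L
import Cfsg.Agent.Lib.BlkH6N
import Cfsg.Agent.Lib.BlkH6D
import Cfsg.Agent.Lib.BlkH7C
import Cfsg.Agent.Lib.BlkH7E
import Cfsg.Agent.Lib.BlkH7F
import Cfsg.Agent.Lib.BlkH7G
import Cfsg.Agent.Lib.BlkH7H
import Cfsg.Agent.Lib.BlkH7I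
import Cfsg.Agent.Lib.BlkH7J
import Cfsg.Agent.Lib.BlkH7K
import Cfsg.Agent.Lib.BlkH7L
import Cfsg.Agent.Lib.BlkH7M
import Cfsg.Agent.Lib.BlkH7N
import Cfsg.Agent.Lib.BlkH7O
import Cfsg.Agent.Lib.BlkH7P
import Cfsg.Agent.Lib.BlkH7Q
import Cfsg.Agent.Lib.CharMod
import Cfsg.Agent.Lib.CharGal

/-!
Galois action on blocks of defect one.
-/

set_option autoImplicit false
set_option linter.style.haveILetI false
set_option linter.unusedVariables false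
set_option linter.unusedSectionVars false
set_option linter.unusedDecidableInType false
set_option linter.unusedFintypeInType false
set_option linter.unusedSimpArgs false

namespace Cfsg.Agent.Lib.BlkH7R
open Cfsg Cfsg.Agent.Lib.BlockLoc Cfsg.Agent.Lib.BlockGA Cfsg.Agent.Lib.CharBasic
open Cfsg.Agent.Lib.BlockIdem Cfsg.Agent.Lib.BlockPP Cfsg.Agent.Lib.BlockOrth
open Cfsg.Agent.Lib.BlockRed Cfsg.Agent.Lib.BlockDef Cfsg.Agent.Lib.BlockDeg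
open Cfsg.Agent.Lib.BlockNP Cfsg.Agent.Lib.BlockInd Cfsg.Agent.Lib.BlockSecond
open Cfsg.Agent.Lib.BlockFirst Cfsg.Agent.Lib.BlockHt Cfsg.Agent.Lib.BlockM
open Cfsg.Agent.Lib.BlockCov Cfsg.Agent.Lib.BlockQuot Cfsg.Agent.Lib.CharKer
open Cfsg.Agent.Lib.BlockQuotB Cfsg.Agent.Lib.BlockMore Cfsg.Agent.Lib.BlockMoreB
open Cfsg.Agent.Lib.BlockTr Cfsg.Agent.Lib.CharNormal Cfsg.Agent.Lib.BlockCovB
open Cfsg.Agent.Lib.BlockBP Cfsg.Agent.Lib.BlockInt Cfsg.Agent.Lib.BlockSum Cfsg.Agent.Lib.BlockRk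
open Cfsg.Agent.Lib.BlockFusB Cfsg.Agent.Lib.BlockMax Cfsg.Agent.Lib.CharSplit Cfsg.Agent.Lib.CharBrauer
open Cfsg.Agent.Lib.CharInd Cfsg.Agent.Lib.BlockPC Cfsg.Agent.Lib.BlockPair Cfsg.Agent.Lib.BlockPairB
open Cfsg.Agent.Lib.BlockPairC Cfsg.Agent.Lib.BlockPairD Cfsg.Agent.Lib.BlockPairE
open Cfsg.Agent.Lib.BlockRey Cfsg.Agent.Lib.BlockPairF Cfsg.Agent.Lib.BlockFus Cfsg.Agent.Lib.BlockNilB Cfsg.Agent.Lib.BlockNil Cfsg.Agent.Lib.CharClifford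
open Cfsg.Agent.Lib.BlockKB Cfsg.Agent.Lib.BlockLar Cfsg.Agent.Lib.BlockMaxB Cfsg.Agent.Lib.BlockIndIn Cfsg.Agent.Lib.BlockBFM
open Cfsg.Agent.Lib.BlkH6L Cfsg.Agent.Lib.BlkH6N Cfsg.Agent.Lib.BlkH6D Cfsg.Agent.Lib.BlkH7C Cfsg.Agent.Lib.BlkH7E Cfsg.Agent.Lib.BlkH7F Cfsg.Agent.Lib.BlkH7G Cfsg.Agent.Lib.BlkH7H Cfsg.Agent.Lib.BlkH7I Cfsg.Agent.Lib.BlkH7J Cfsg.Agent.Lib.BlkH7K Cfsg.Agent.Lib.BlkH7L Cfsg.Agent.Lib.BlkH7M Cfsg.Agent.Lib.BlkH7N Cfsg.Agent.Lib.BlkH7O Cfsg.Agent.Lib.BlkH7P Cfsg.Agent.Lib.BlkH7Q Cfsg.Agent.Lib.CharMod Cfsg.Agent.Lib.CharGal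
open scoped ComplexConjugate


section Gal

universe v

variable {G : Type v} [Group G] [Finite G] {p : ℕ} {M : Ideal AlgInt}
  {P N H : Subgroup G} {g : G}

/-- `σ` fixes the `m`-th roots of unity. -/
def Fx (m : ℕ) (σ : ℂ ≃+* ℂ) : Prop := ∀ z : ℂ, z ^ m = 1 → σ z = z

theorem fx_of_exp {m : ℕ} (hm : m ≠ 0) {σ : ℂ ≃+* ℂ}
    (h : σ (Complex.exp (2 * Real.pi * Complex.I / (m : ℕ))) =
      Complex.exp (2 * Real.pi * Complex.I / (m : ℕ))) : Fx m σ := by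
  intro z hz
  haveI : NeZero m := ⟨hm⟩
  have hp := Complex.isPrimitiveRoot_exp m hm
  obtain ⟨i, _, rfl⟩ := hp.eq_pow_of_pow_eq_one hz
  rw [map_pow, h]

theorem exp_of_fx {m : ℕ} (hm : m ≠ 0) {σ : ℂ ≃+* ℂ} (h : Fx m σ) :
    σ (Complex.exp (2 * Real.pi * Complex.I / (m : ℕ))) =
      Complex.exp (2 * Real.pi * Complex.I / (m : ℕ)) :=
  h _ (Complex.isPrimitiveRoot_exp m hm).pow_eq_one

theorem fx_symm {m : ℕ} {σ : ℂ ≃+* ℂ} (h : Fx m σ) : Fx m σ.symm := by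
  intro z hz
  have h1 := h z hz
  rw [RingEquiv.symm_apply_eq]
  exact h1.symm

theorem fx_char {A : Type*} [Group A] [Finite A] {m : ℕ} {σ : ℂ ≃+* ℂ} (h : Fx m σ) {χ : A → ℂ}
    (hχ : IsCharacter A χ) {x : A} (hx : orderOf x ∣ m) : σ (χ x) = χ x := by
  have h1 := CharGal.galois_pow σ 1 hχ x (fun z hz => by
    rw [pow_one]
    refine h z ?_
    obtain ⟨k, rfl⟩ := hx
    rw [pow_mul, hz, one_pow])
  rwa [pow_one] at h1

theorem DP_gal (c : Cfg p P N H g) [Fintype P] {m : ℕ} (hm : Nat.card (phi c).ker ∣ m)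
    {σ : ℂ ≃+* ℂ} (h : Fx m σ) (θ : IrrCharacter (phi c).ker) (χ : G → ℂ) (u : P) :
    DP c θ (fun x => σ (χ x)) u = σ (DP c θ χ u) := by
  haveI : Fintype (phi c).ker := Fintype.ofFinite _
  rw [DP_eq, DP_eq, classInner_def, classInner_def, map_mul, map_inv₀, map_natCast, map_sum]
  congr 1
  refine Finset.sum_congr rfl (fun k _ => ?_)
  rw [map_mul]
  congr 1
  rw [← char_inv (isChar_of_irr θ.2)]
  exact (fx_char h (isChar_of_irr θ.2) ((orderOf_dvd_natCard _).trans hm)).symm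

theorem ker_dvd (c : Cfg p P N H g) [Fact p.Prime] {m : ℕ} (hG : Nat.card G = m * p) :
    Nat.card (phi c).ker ∣ m := by
  have h1 := Subgroup.card_subgroup_dvd_card (Subgroup.centralizer (P : Set G))
  rw [card_cent c, hG] at h1
  exact Nat.dvd_of_mul_dvd_mul_right (Fact.out : p.Prime).pos h1

theorem order_dvd [Fact p.Prime] {m : ℕ} (hG : Nat.card G = m * p) {x : G}
    (hx : ¬ p ∣ orderOf x) : orderOf x ∣ m := by
  have h1 := orderOf_dvd_natCard x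
  rw [hG] at h1
  exact Nat.Coprime.dvd_of_dvd_mul_right
    (((Fact.out : p.Prime).coprime_iff_not_dvd).2 hx).symm h1

/-- Nonexceptional characters are fixed. -/
theorem X_fixed (hM : IsPModular p M) (c : Cfg p P N H g) [Fact p.Prime] [Fintype P]
    (hS : ∃ S : Sylow p G, (S : Subgroup G) = P) {m : ℕ} (hG : Nat.card G = m * p)
    {σ : ℂ ≃+* ℂ} (hσ : Fx m σ) {θ : IrrCharacter (phi c).ker} {χ : IrrCharacter G}
    (h : χ ∈ IP c θ) {a : ℤ} (ha : ∀ u : P, u ≠ 1 → DP c θ χ.1 u = a) (x : G) :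
    σ (χ.1 x) = χ.1 x := by
  by_cases hx : p ∣ orderOf x
  · have hsing : ∃ y : G, ∃ u : P, u ≠ 1 ∧ ∃ k : (phi c).ker, y * x * y⁻¹ = (u : G) * ((k : H) : G) := by
      letI := cg P (Cfg_comm c)
      obtain ⟨y, u, hu, k, hk, he⟩ := (cfg_AC c hS).sing x hx
      exact ⟨y, u, hu, ⟨k, hk⟩, he⟩
    obtain ⟨y, u, hu, k, he⟩ := hsing
    have hcl := isChar_classFn (isChar_of_irr χ.2)
    rw [← hcl x y, he, value_eq c hS, map_sum]
    refine Finset.sum_congr rfl (fun θ' _ => ?_)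
    rw [map_mul, fx_char hσ (isChar_of_irr θ'.2) ((orderOf_dvd_natCard k).trans (ker_dvd c hG))]
    congr 1
    by_cases h1 : DP c θ' χ.1 u = 0
    · rw [h1, map_zero]
    · obtain ⟨z, rfl⟩ := orbit_of hM c hS h ⟨u, hu, h1⟩
      have h5 : phi c z u ≠ 1 := by
        intro h6
        apply hu
        have := congrArg (phi c z).symm h6
        simpa using this
      rw [DP_cj c hS, ha _ h5, map_intCast]
  · exact fx_char hσ (isChar_of_irr χ.2) (order_dvd hG hx)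

theorem dual_pow {P : Type*} [CommGroup P] [Fintype P] (hp : (Nat.card P).Prime)
    {ψ ψ' : P →* ℂˣ} (h : ψ ≠ 1) (h' : ψ' ≠ 1) :
    ∃ n : ℕ, Nat.Coprime n (Nat.card P) ∧ ψ' = ψ ^ n := by
  have hc : Nat.card (P →* ℂˣ) = Nat.card P := card_dual
  have hord : ∀ ψ : P →* ℂˣ, ψ ≠ 1 → orderOf ψ = Nat.card P := by
    intro ψ hψ
    have h1 : orderOf ψ ∣ Nat.card P := by rw [← hc]; exact orderOf_dvd_natCard ψ
    rcases (Nat.dvd_prime hp).1 h1 with h2 | h2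
    · exact absurd (orderOf_eq_one_iff.1 h2) hψ
    · exact h2
  have h1 : Subgroup.zpowers ψ = ⊤ := by
    rw [← Subgroup.card_eq_iff_eq_top, Nat.card_zpowers, hord ψ h, hc]
  have h2 : ψ' ∈ Subgroup.zpowers ψ := by rw [h1]; trivial
  obtain ⟨n, hn⟩ := (mem_powers_iff_mem_zpowers).2 h2
  refine ⟨n, ?_, hn.symm⟩
  rw [Nat.coprime_comm, hp.coprime_iff_not_dvd]
  intro hd
  apply h'
  rw [← hn]
  exact (orderOf_dvd_iff_pow_eq_one (x := ψ)).1 (by rw [hord ψ h]; exact hd)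

theorem pow_modEq {z : ℂ} {m a b : ℕ} (hz : z ^ m = 1) (h : a ≡ b [MOD m]) : z ^ a = z ^ b := by
  rw [pow_eq_pow_mod a hz, pow_eq_pow_mod b hz]
  exact congrArg (z ^ ·) h

theorem exists_sigma {m n : ℕ} (hp : p.Prime) (hm : m ≠ 0) (hpm : Nat.Coprime p m)
    (hn : Nat.Coprime n p) :
    ∃ σ : ℂ ≃+* ℂ, Fx m σ ∧ ∀ z : ℂ, z ^ p = 1 → σ z = z ^ n := by
  obtain ⟨k, hk1, hk2⟩ := Nat.chineseRemainder hpm n 1
  have hkp : Nat.Coprime k p := by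
    rw [Nat.Coprime, hk1.gcd_eq]
    exact hn
  have hkm : Nat.Coprime k m := by
    rw [Nat.Coprime, hk2.gcd_eq]
    exact Nat.gcd_one_left m
  obtain ⟨σ, hσ⟩ := CharGal.exists_aut_pow (p * m) k (Nat.mul_ne_zero hp.ne_zero hm)
    (Nat.Coprime.mul_right hkp hkm)
  refine ⟨σ, fun z hz => ?_, fun z hz => ?_⟩
  · rw [hσ z (by rw [mul_comm, pow_mul, hz, one_pow])]
    rw [pow_modEq hz hk2, pow_one]
  · rw [hσ z (by rw [pow_mul, hz, one_pow])]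
    exact pow_modEq hz hk1

end Gal

end Cfsg.Agent.Lib.BlkH7R
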