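import Cfsg.Agent.Lib.BlockRey
import Cfsg.Agent.Lib.BlockKB
import Cfsg.Agent.Lib.BlockLar
import Cfsg.Agent.Lib.BlockMaxB
import Cfsg.Agent.Lib.BlockIndIn
import Cfsg.Agent.Lib.BlockBFM

import Cfsg.Agent.Lib.BlkH7R
import Cfsg.Agent.Lib.CharGal

/-!
Block membership from p-regular classes, Galois twists, and block intersections for two primes.
-/

set_option autoImplicit false
set_option linter.style.haveILetI false
set_option linter.unusedVariables false
set_option linter.unusedSectionVars false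
set_option linter.unusedDecidableInType false
set_option linter.unusedFintypeInType false
set_option linter.unusedSimpArgs false

namespace Cfsg.Agent.Lib.BlkH8A
open Cfsg Cfsg.Agent.Lib.BlockLoc Cfsg.Agent.Lib.BlockGA Cfsg.Agent.Lib.CharBasic
open Cfsg.Agent.Lib.BlockIdem Cfsg.Agent.Lib.BlockPP Cfsg.Agent.Lib.BlockOrth
open Cfsg.Agent.Lib.BlockRed Cfsg.Agent.Lib.BlockDef Cfsg.Agent.Lib.BlockDeg
open Cfsg.Agent.Lib.BlockNP Cfsg.Agent.Lib.BlockInd Cfsg.Agent.Lib.BlockSecond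
open Cfsg.Agent.Lib.BlockFirst Cfsg.Agent.Lib.BlockHt Cfsg.Agent.Lib.BlockM
open Cfsg.Agent.Lib.BlockCov Cfsg.Agent.Lib.BlockQuot Cfsg.Agent.Lib.CharKer
open Cfsg.Agent.Lib.BlockQuotB Cfsg.Agent.Lib.BlockMore Cfsg.Agent.Lib.BlockMoreB
open Cfsg.Agent.Lib.BlockTr Cfsg.Agent.Lib.CharNormal Cfsg.Agent.Lib.BlockCovB
open Cfsg.Agent.Lib.BlockBP Cfsg.Agent.Lib.BlockInt Cfsg.Agent.Lib.BlockSum Cfsg.Agent.Lib.BlockRk
open Cfsg.Agent.Lib.BlockFusB Cfsg.Agent.Lib.BlockMax Cfsg.Agent.Lib.CharSplit Cfsg.Agent.Lib.CharBrauer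
open Cfsg.Agent.Lib.CharInd Cfsg.Agent.Lib.BlockPC Cfsg.Agent.Lib.BlockPair Cfsg.Agent.Lib.BlockPairB
open Cfsg.Agent.Lib.BlockPairC Cfsg.Agent.Lib.BlockPairD Cfsg.Agent.Lib.BlockPairE
open Cfsg.Agent.Lib.BlockRey Cfsg.Agent.Lib.BlockPairF Cfsg.Agent.Lib.BlockFus Cfsg.Agent.Lib.BlockNilB Cfsg.Agent.Lib.BlockNil Cfsg.Agent.Lib.CharClifford
open Cfsg.Agent.Lib.BlockKB Cfsg.Agent.Lib.BlockLar Cfsg.Agent.Lib.BlockMaxB Cfsg.Agent.Lib.BlockIndIn Cfsg.Agent.Lib.BlockBFM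
open Cfsg.Agent.Lib.BlkH7R
open scoped ComplexConjugate

section Reg

variable {G : Type*} [Group G] [Finite G] {p : ℕ} {M : Ideal AlgInt}

/-- Central characters congruent on the `p`-regular classes: same block. -/
theorem sameBlock_of_reg (hM : IsPModular p M) {χ ψ : IrrCharacter G}
    (h : ∀ g, ¬ p ∣ orderOf g → MemLocalIdeal M (centralChar χ.1 g - centralChar ψ.1 g)) :
    SameBlock M χ.1 ψ.1 := by
  classical
  cases nonempty_fintype G
  haveI : Fintype (ConjClasses G) := Fintype.ofFinite _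
  by_contra hcon
  have hB := isPBlock_blockOf M χ
  have hl := isLoc_eB hM hB
  have e1 := om_eB_mem (self_mem_blockOf hM χ)
  have e2 : om ψ.1 (eB (blockOf M χ.1)) = 0 := om_eB_not_mem hcon
  rw [om_eq_sum_centralChar (irr_cl χ) (eB_isCl _)] at e1
  rw [om_eq_sum_centralChar (irr_cl ψ) (eB_isCl _)] at e2
  refine not_max_one hM ?_
  have e3 : (1 : ℂ) = ∑ C : ConjClasses G, (eB (blockOf M χ.1)) (Quotient.out C) *
      (centralChar χ.1 (Quotient.out C) - centralChar ψ.1 (Quotient.out C)) := by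
    simp only [mul_sub, Finset.sum_sub_distrib]
    rw [e1, e2, sub_zero]
  rw [e3]
  refine max_sum hM _ _ fun C _ => ?_
  by_cases hC : p ∣ orderOf (Quotient.out C)
  · rw [eB_apply, blockCoeff_eq_zero hM hl hC, zero_mul]
    exact max_zero hM
  · exact max_mul_left hM (hl _) (h _ hC)

theorem sameBlock_of_eq_reg (hM : IsPModular p M) {χ ψ : IrrCharacter G}
    (h : ∀ g, ¬ p ∣ orderOf g → χ.1 g = ψ.1 g) : SameBlock M χ.1 ψ.1 := by
  refine sameBlock_of_reg hM fun g hg => ?_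
  have h1 : χ.1 1 = ψ.1 1 := h 1 (by
    rw [orderOf_one]; exact fun hd => hM.1.one_lt.ne' (Nat.dvd_one.1 hd))
  simp only [centralChar]
  rw [h g hg, h1, sub_self]
  exact max_zero hM

/-- A twist by a power map. -/
noncomputable def powI {k : ℕ} (hk : Nat.Coprime k (Nat.card G)) (χ : IrrCharacter G) :
    IrrCharacter G :=
  ⟨fun g => χ.1 (g ^ k), Cfsg.Agent.Lib.CharGal.isIrr_pow_coprime hk χ.2⟩

theorem powI_apply {k : ℕ} (hk : Nat.Coprime k (Nat.card G)) (χ : IrrCharacter G) (g : G) :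
    (powI hk χ).1 g = χ.1 (g ^ k) := rfl

theorem powI_mem (hM : IsPModular p M) {k : ℕ} (hk : Nat.Coprime k (Nat.card G))
    (h : ∀ g : G, ¬ p ∣ orderOf g → g ^ k = g) {B : Set (IrrCharacter G)} (hB : IsPBlock M B)
    {χ : IrrCharacter G} (hχ : χ ∈ B) : powI hk χ ∈ B := by
  rw [← blockOf_eq_of_mem hM hB hχ]
  exact sameBlock_of_eq_reg hM fun g hg => by rw [powI_apply, h g hg]

end Reg

section Two

variable {G : Type*} [Group G] [Fintype G] {p q : ℕ} {Mp Mq : Ideal AlgInt}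

theorem exists_order_mul [Fact p.Prime] [Fact q.Prime] (hpq : p ≠ q) {x : G}
    (h1 : p ∣ orderOf x) (h2 : q ∣ orderOf x) : ∃ g : G, orderOf g = p * q := by
  have hc : Nat.Coprime p q := (Nat.coprime_primes Fact.out Fact.out).2 hpq
  have hd : p * q ∣ orderOf x := hc.mul_dvd_of_dvd_of_dvd h1 h2
  obtain ⟨m, hm⟩ := hd
  have h0 : orderOf x ≠ 0 := (orderOf_pos x).ne'
  have hm0 : m ≠ 0 := by rintro rfl; exact h0 (by rw [hm, mul_zero])
  refine ⟨x ^ m, ?_⟩
  rw [orderOf_pow' _ hm0, hm]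
  have : Nat.gcd (p * q * m) m = m := Nat.gcd_eq_right (Dvd.intro_left _ rfl)
  rw [this, Nat.mul_div_cancel _ (Nat.pos_of_ne_zero hm0)]

theorem inter_div [Fact p.Prime] [Fact q.Prime] (hpq : p ≠ q) (hMp : IsPModular p Mp)
    (hMq : IsPModular q Mq) (hno : ∀ g : G, orderOf g ≠ p * q)
    {Bp Bq : Set (IrrCharacter G)} (hBp : IsPBlock Mp Bp) (hBq : IsPBlock Mq Bq) {y : G}
    (hy : p ∣ orderOf y) [DecidablePred (· ∈ Bp)] [DecidablePred (· ∈ Bq)] :
    ∃ ω : AlgInt, ∑ χ ∈ Finset.univ.filter (fun χ : IrrCharacter G => χ ∈ Bp ∧ χ ∈ Bq), χ.1 1 * χ.1 y =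
      (q : ℂ) ^ ((Nat.card G).factorization q) * (ω : ℂ) := by
  classical
  set F : G → ℂ := fun x => ∑ χ ∈ Finset.univ.filter (· ∈ Bp), χ.1 y * χ.1 x with hFdef
  have hF : ∀ x, q ∣ orderOf x → F x = 0 := by
    intro x hx
    have hnc : ¬ IsConj (pp p y) (pp p x⁻¹) := by
      intro hc
      have h1 : pp p y ≠ 1 := fun h => (pp_eq_one_iff hMp.1 y).1 h hy
      have h2 : pp p x⁻¹ ≠ 1 := by
        intro h
        rw [h, isConj_one_left] at hc
        exact h1 hc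
      have h3 : p ∣ orderOf x := by
        by_contra h3
        rw [pp_inv hMp.1, (pp_eq_one_iff hMp.1 x).2 h3, inv_one] at h2
        exact h2 rfl
      obtain ⟨g, hg⟩ := exists_order_mul hpq h3 hx
      exact hno g hg
    have := block_orth' hMp hBp hnc
    rw [finsum_block] at this
    simpa using this
  have hsum : ∀ u, blockPart Bq F u =
      ∑ χ ∈ Finset.univ.filter (fun χ : IrrCharacter G => χ ∈ Bp ∧ χ ∈ Bq), χ.1 y * χ.1 u := by
    intro u
    rw [blockPart_eq]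
    have hin : ∀ χ : IrrCharacter G, classInner F χ.1 = if χ ∈ Bp then χ.1 y else 0 := by
      intro χ
      have : F = ∑ ψ : IrrCharacter G, (if ψ ∈ Bp then ψ.1 y else 0) • ψ.1 := by
        funext x
        rw [hFdef, Finset.sum_apply]
        simp only [Finset.sum_filter, Pi.smul_apply, smul_eq_mul, ite_mul, zero_mul]
      rw [this, inner_sum_irr]
    simp only [hin]
    rw [Finset.sum_filter, Finset.sum_filter]
    refine Finset.sum_congr rfl fun χ _ => ?_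
    by_cases h1 : χ ∈ Bp <;> by_cases h2 : χ ∈ Bq <;> simp [h1, h2]
  have hv : ∀ u, q ∣ orderOf u → blockPart Bq F u = 0 := by
    intro u hu
    refine blockPart_vanish hMq (isLoc_eB hMq hBq) fun g hg => hF g ?_
    by_contra hq
    rw [(pp_eq_one_iff hMq.1 g).2 hq] at hg
    have := isConj_one_right.1 hg.symm
    exact (pp_eq_one_iff hMq.1 u).1 this hu
  obtain ⟨S⟩ : Nonempty (Sylow q G) := inferInstance
  haveI : Fintype (S : Subgroup G) := Fintype.ofFinite _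
  have e1 : blockPart Bq F 1 = ∑ s : (S : Subgroup G), blockPart Bq F (s : G) := by
    rw [Finset.sum_eq_single (1 : (S : Subgroup G))]
    · simp
    · intro s _ hs
      refine hv _ ?_
      obtain ⟨k, hk⟩ := IsPGroup.iff_orderOf.1 S.2 s
      have hk' : orderOf (s : G) = q ^ k := by rw [Subgroup.orderOf_coe, hk]
      rw [hk']
      refine dvd_pow_self q ?_
      rintro rfl
      rw [pow_zero, orderOf_eq_one_iff] at hk
      exact hs hk
    · intro h; exact absurd (Finset.mem_univ _) h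
  choose n hn using fun χ : IrrCharacter G => exists_nat_sum_subgroup χ.1 (isChar_of_irr χ.2) (S : Subgroup G)
  have e2 : blockPart Bq F 1 = (Nat.card (S : Subgroup G) : ℂ) *
      ∑ χ ∈ Finset.univ.filter (fun χ : IrrCharacter G => χ ∈ Bp ∧ χ ∈ Bq), χ.1 y * (n χ : ℂ) := by
    rw [e1]
    simp only [hsum]
    rw [Finset.sum_comm, Finset.mul_sum]
    refine Finset.sum_congr rfl fun χ _ => ?_
    rw [← Finset.mul_sum, hn χ]
    ring
  refine ⟨∑ χ ∈ Finset.univ.filter (fun χ : IrrCharacter G => χ ∈ Bp ∧ χ ∈ Bq),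
    (⟨χ.1 y, char_isIntegral (isChar_of_irr χ.2) y⟩ : AlgInt) * (n χ : AlgInt), ?_⟩
  have e3 := hsum 1
  rw [e2, Sylow.card_eq_multiplicity] at e3
  have e4 : ∑ χ ∈ Finset.univ.filter (fun χ : IrrCharacter G => χ ∈ Bp ∧ χ ∈ Bq), χ.1 1 * χ.1 y =
      ∑ χ ∈ Finset.univ.filter (fun χ : IrrCharacter G => χ ∈ Bp ∧ χ ∈ Bq), χ.1 y * χ.1 1 :=
    Finset.sum_congr rfl fun χ _ => mul_comm _ _
  rw [e4, ← e3]
  push_cast
  rfl

end Two

end Cfsg.Agent.Lib.BlkH8A
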