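import Cfsg.Agent.Lib.BlockRey
import Cfsg.Agent.Lib.BlockKB
import Cfsg.Agent.Lib.BlockLar
import Cfsg.Agent.Lib.BlockMaxB
import Cfsg.Agent.Lib.BlockIndIn
import Cfsg.Agent.Lib.BlockBFM

import Cfsg.Agent.Lib.BlkH8A
import Cfsg.Agent.Lib.CharBurnside
import Cfsg.Agent.Lib.CharKer

/-!
Central p-elements of a Sylow subgroup and characters of p-power degree.
-/

set_option autoImplicit false
set_option linter.style.haveILetI false
set_option linter.unusedVariables false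
set_option linter.unusedSectionVars false
set_option linter.unusedDecidableInType false
set_option linter.unusedFintypeInType false
set_option linter.unusedSimpArgs false

namespace Cfsg.Agent.Lib.BlkH8B
open Cfsg Cfsg.Agent.Lib.BlockLoc Cfsg.Agent.Lib.BlockGA Cfsg.Agent.Lib.CharBasic
open Cfsg.Agent.Lib.BlockIdem Cfsg.Agent.Lib.BlockPP Cfsg.Agent.Lib.BlockOrth
open Cfsg.Agent.Lib.BlockRed Cfsg.Agent.Lib.BlockDef Cfsg.Agent.Lib.BlockDeg
open Cfsg.Agent.Lib.BlockNP Cfsg.Agent.Lib.BlockInd Cfsg.Agent.Lib.BlockSecond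
open Cfsg.Agent.Lib.BlockFirst Cfsg.Agent.Lib.BlockHt Cfsg.Agent.Lib.BlockM
open Cfsg.Agent.Lib.BlockCov Cfsg.Agent.Lib.BlockQuot Cfsg.Agent.Lib.CharKer
open Cfsg.Agent.Lib.BlockQuotB Cfsg.Agent.Lib.BlockMore Cfsg.Agent.Lib.BlockMoreB
open Cfsg.Agent.Lib.BlockTr Cfsg.Agent.Lib.CharNormal Cfsg.Agent.Lib.BlockCovB
open Cfsg.Agent.Lib.BlockBP Cfsg.Agent.Lib.BlockInt Cfsg.Agent.Lib.BlockSum Cfsg.Agent.Lib.BlockRk
open Cfsg.Agent.Lib.BlockFusB Cfsg.Agent.Lib.BlockMax Cfsg.Agent.Lib.CharSplit Cfsg.Agent.Lib.CharBrauer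
open Cfsg.Agent.Lib.CharInd Cfsg.Agent.Lib.BlockPC Cfsg.Agent.Lib.BlockPair Cfsg.Agent.Lib.BlockPairB
open Cfsg.Agent.Lib.BlockPairC Cfsg.Agent.Lib.BlockPairD Cfsg.Agent.Lib.BlockPairE
open Cfsg.Agent.Lib.BlockRey Cfsg.Agent.Lib.BlockPairF Cfsg.Agent.Lib.BlockFus Cfsg.Agent.Lib.BlockNilB Cfsg.Agent.Lib.BlockNil Cfsg.Agent.Lib.CharClifford
open Cfsg.Agent.Lib.BlockKB Cfsg.Agent.Lib.BlockLar Cfsg.Agent.Lib.BlockMaxB Cfsg.Agent.Lib.BlockIndIn Cfsg.Agent.Lib.BlockBFM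
open Cfsg.Agent.Lib.BlkH8A
open scoped ComplexConjugate

section PPow

variable {G : Type*} [Group G] [Finite G] {p : ℕ} {M : Ideal AlgInt}

theorem index_coprime [Fact p.Prime] (P : Sylow p G) {z : G}
    (hz : ∀ x ∈ (P : Subgroup G), Commute z x) :
    ¬ p ∣ (Subgroup.centralizer ({z} : Set G)).index := by
  intro hd
  have hle : (P : Subgroup G) ≤ Subgroup.centralizer ({z} : Set G) := fun x hx => by
    rw [Subgroup.mem_centralizer_singleton_iff]
    exact (hz x hx).eq.symm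
  exact P.not_dvd_index (hd.trans (Subgroup.index_dvd_of_le hle))

theorem zero_of_p_pow [Fact p.Prime] (P : Sylow p G) {z : G}
    (hz : ∀ x ∈ (P : Subgroup G), Commute z x) {χ : G → ℂ} (hχ : IsIrrCharacter G χ) {n : ℕ}
    (hdeg : χ 1 = ((p ^ n : ℕ) : ℂ)) : χ z = 0 ∨ ‖χ z‖ = (p ^ n : ℕ) := by
  refine Cfsg.Agent.Lib.CharBurnside.zero_or_norm_of_coprime hχ z hdeg ?_
  exact Nat.Coprime.pow_left _ (((Fact.out : p.Prime).coprime_iff_not_dvd).2 (index_coprime P hz))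

theorem mem_center_of_norm {χ : G → ℂ} (hχ : IsIrrCharacter G χ) (hf : ∀ g : G, χ g = χ 1 → g = 1)
    {z : G} {d : ℕ} (hd : χ 1 = d) (h : ‖χ z‖ = d) : z ∈ Subgroup.center G := by
  obtain ⟨n, ρ, hρ, rfl⟩ := hχ
  rw [Representation.char_one] at hd
  have hd' : Module.finrank ℂ (Fin n → ℂ) = d := by exact_mod_cast hd
  rw [← hd'] at h
  obtain ⟨c, hc⟩ := (Cfsg.Agent.Lib.CharRep.norm_char_eq_degree_iff ρ z).mp h
  rw [Subgroup.mem_center_iff]
  intro g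
  have h1 : ρ (g * z * (z * g)⁻¹) = LinearMap.id := by
    have e1 : ρ (g * z) = ρ (z * g) := by
      rw [map_mul, map_mul, hc]
      ext v
      simp
    rw [map_mul, e1, ← map_mul, mul_inv_cancel, map_one]
    rfl
  have h2 := hf _ ((Cfsg.Agent.Lib.CharKer.char_eq_one_iff ρ _).2 h1)
  exact mul_inv_eq_one.1 h2

theorem val_of_max (hM : IsPModular p M) [Fact p.Prime] {Z : Subgroup G} [Fintype Z]
    {ψ : IrrCharacter G} (h : ∀ z ∈ Z, z ≠ 1 → MemLocalIdeal M (ψ.1 z / ψ.1 1)) :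
    (Nat.card Z).factorization p ≤ (charDegree ψ.1).factorization p := by
  classical
  obtain ⟨m, hm⟩ := exists_nat_sum_subgroup ψ.1 (isChar_of_irr ψ.2) Z
  have h1 : ψ.1 1 ≠ 0 := isIrr_one_ne_zero ψ.2
  set w : ℂ := ∑ u : Z, ψ.1 (u : G) / ψ.1 1 with hw
  have hw1 : MemLocalIdeal M (w - 1) := by
    rw [hw, ← Finset.add_sum_erase _ _ (Finset.mem_univ (1 : Z))]
    rw [show ((1 : Z) : G) = 1 from rfl, div_self h1, add_sub_cancel_left]
    refine max_sum hM _ _ fun u hu => h u u.2 ?_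
    intro hh
    exact (Finset.mem_erase.1 hu).1 (Subtype.ext hh)
  have hwn : ¬ MemLocalIdeal M w := fun h => not_max_one hM ((max_iff_of_sub hM hw1).1 h)
  have hwl : MemLocalRing M w := (loc_iff_of_sub hM hw1).2 (loc_one hM)
  have e : ((Nat.card Z * m : ℕ) : ℂ) * 1 = (charDegree ψ.1 : ℂ) * w := by
    rw [charDegree_cast (isChar_of_irr ψ.2), hw, ← Finset.sum_div, mul_div_cancel₀ _ h1, hm]
    push_cast
    ring
  have hm0 : m ≠ 0 := by
    rintro rfl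
    rw [mul_zero, Nat.cast_zero, zero_mul] at e
    rcases mul_eq_zero.1 e.symm with h2 | h2
    · exact charDegree_ne_zero ψ.2 (by exact_mod_cast h2)
    · exact ne_zero_of_not_max hM hwn h2
  have := fac_le_of_mul hM (mul_ne_zero Nat.card_pos.ne' hm0) (charDegree_ne_zero ψ.2) (loc_one hM)
    hwl hwn e
  rw [Nat.factorization_mul Nat.card_pos.ne' hm0] at this
  simp only [Finsupp.add_apply] at this
  omega

end PPow

end Cfsg.Agent.Lib.BlkH8B
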