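import Cfsg.Agent.Lib.BlockMoreB

/-!
Külshammer's formula for the principal block idempotent.
-/

set_option autoImplicit false
set_option linter.style.haveILetI false
set_option linter.unusedVariables false
set_option linter.unusedSectionVars false
set_option linter.unusedDecidableInType false
set_option linter.unusedFintypeInType false
set_option linter.unusedSimpArgs false

namespace Cfsg.Agent.Lib.BlockKul
open Cfsg Cfsg.Agent.Lib.BlockLoc Cfsg.Agent.Lib.BlockGA Cfsg.Agent.Lib.CharBasic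
open Cfsg.Agent.Lib.BlockIdem Cfsg.Agent.Lib.BlockPP Cfsg.Agent.Lib.BlockOrth
open Cfsg.Agent.Lib.BlockRed Cfsg.Agent.Lib.BlockDef Cfsg.Agent.Lib.BlockDeg
open Cfsg.Agent.Lib.BlockNP Cfsg.Agent.Lib.BlockInd Cfsg.Agent.Lib.BlockSecond
open Cfsg.Agent.Lib.BlockFirst Cfsg.Agent.Lib.BlockHt Cfsg.Agent.Lib.BlockM
open Cfsg.Agent.Lib.BlockCov Cfsg.Agent.Lib.BlockQuot Cfsg.Agent.Lib.CharKer
open Cfsg.Agent.Lib.BlockQuotB Cfsg.Agent.Lib.BlockMore Cfsg.Agent.Lib.BlockMoreB
open scoped ComplexConjugate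

section Kul
variable {G : Type*} [Group G] [Finite G] {p : ℕ} {M : Ideal AlgInt}

/-- Fixed points of `x` on `G/S` modulo `p`. -/
theorem fixed_of_p_element [Fact p.Prime] (S : Subgroup G) {x : G} (hx : ∃ k, orderOf x = p ^ k) :
    (S.index : ZMod p) = (Nat.card (MulAction.fixedBy (G ⧸ S) x) : ZMod p) := by
  have h1 : IsPGroup p (Subgroup.zpowers x) := (isPGroup_zpowers_iff Fact.out x).2 hx
  have h2 := h1.card_modEq_card_fixedPoints (G ⧸ S)
  have h3 : MulAction.fixedPoints (Subgroup.zpowers x) (G ⧸ S) = MulAction.fixedBy (G ⧸ S) x := by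
    ext ω
    rw [MulAction.mem_fixedPoints, MulAction.mem_fixedBy]
    constructor
    · intro h; exact h ⟨x, Subgroup.mem_zpowers x⟩
    · rintro h ⟨_, n, rfl⟩
      change (x ^ n) • ω = ω
      have h4 : x ∈ MulAction.stabilizer G ω := h
      exact (MulAction.stabilizer G ω).zpow_mem h4 n
  rw [h3] at h2
  have h4 := (ZMod.natCast_eq_natCast_iff _ _ p).2 h2
  rw [← h4, Subgroup.index_eq_card]

theorem fixed_of_not_p_element [Fact p.Prime] (S : Sylow p G) {x : G}
    (hx : ¬ ∃ k, orderOf x = p ^ k) :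
    Nat.card (MulAction.fixedBy (G ⧸ (S : Subgroup G)) x) = 0 := by
  rw [Finite.card_eq_zero_iff]
  constructor
  rintro ⟨ω, hω⟩
  obtain ⟨g, rfl⟩ := QuotientGroup.mk_surjective ω
  apply hx
  have h1 : g⁻¹ * (x * g) ∈ (S : Subgroup G) := by
    rw [← QuotientGroup.eq]
    exact (show (QuotientGroup.mk g : G ⧸ (S : Subgroup G)) = QuotientGroup.mk (x * g) from hω.symm)
  obtain ⟨k, hk⟩ := exists_orderOf_of_mem Fact.out S.isPGroup' h1
  refine ⟨k, ?_⟩
  rw [← hk, ← orderOf_conj (g⁻¹ * (x * g)) g]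
  congr 1
  group

/-- The number of factorizations of `g` into a `p`-element and a `p`-regular element. -/
noncomputable def nf (p : ℕ) (g : G) : ℕ :=
  Nat.card {xy : G × G // (∃ k : ℕ, orderOf xy.1 = p ^ k) ∧ ¬ p ∣ orderOf xy.2 ∧ xy.1 * xy.2 = g}

theorem nf_eq [Fintype G] (p : ℕ) (g : G)
    [DecidablePred fun y : G => ¬ p ∣ orderOf y ∧ ∃ k : ℕ, orderOf (y * g⁻¹) = p ^ k] :
    nf p g = (Finset.univ.filter
      (fun y : G => ¬ p ∣ orderOf y ∧ ∃ k : ℕ, orderOf (y * g⁻¹) = p ^ k)).card := by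
  rw [nf, ← Fintype.card_coe, ← Nat.card_eq_fintype_card]
  refine Nat.card_congr ?_
  refine
    { toFun := fun xy => ⟨xy.1.2, ?_⟩
      invFun := fun y => ⟨(g * y.1⁻¹, y.1), ?_⟩
      left_inv := ?_
      right_inv := fun x => rfl }
  · obtain ⟨⟨x, y⟩, h1, h2, h3⟩ := xy
    rw [Finset.mem_filter]
    refine ⟨Finset.mem_univ _, h2, ?_⟩
    have : y * g⁻¹ = x⁻¹ := by rw [← h3]; group
    obtain ⟨k, hk⟩ := h1
    exact ⟨k, by rw [this, orderOf_inv]; exact hk⟩
  · have := (Finset.mem_filter.1 y.2).2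
    obtain ⟨h1, k, hk⟩ := this
    refine ⟨⟨k, ?_⟩, h1, by simp⟩
    rw [← hk, ← orderOf_inv]
    congr 1
    group
  · rintro ⟨⟨x, y⟩, h1, h2, h3⟩
    apply Subtype.ext
    have : g * y⁻¹ = x := by rw [← h3]; simp
    exact Prod.ext this rfl

/-- The multiplicity of the trivial character in the restriction to a subgroup. -/
theorem exists_nat_res (χ : G → ℂ) (hχ : IsCharacter G χ) (S : Subgroup G) [Fintype S] :
    ∃ n : ℕ, ∑ u : S, χ (u : G) = (Nat.card S : ℂ) * n := exists_nat_sum_subgroup χ hχ S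

theorem perm_expand [Fintype G] (S : Subgroup G) [Fintype S] (n : IrrCharacter G → ℕ)
    (hn : ∀ χ : IrrCharacter G, ∑ u : S, χ.1 (u : G) = (Nat.card S : ℂ) * n χ) (x : G) :
    (Nat.card (MulAction.fixedBy (G ⧸ S) x) : ℂ) = ∑ χ : IrrCharacter G, (n χ : ℂ) * χ.1 x := by
  classical
  rw [← Cfsg.Agent.Lib.CharSolomon.indFun_one_eq_card S x]
  have hcl : IsClassFunction G (indFun S (fun _ => 1)) :=
    Cfsg.Agent.Lib.CharInd.indFun_classFn S _
  have h1 := congrFun (classFn_expand _ hcl) x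
  rw [h1, Finset.sum_apply]
  refine Finset.sum_congr rfl fun χ _ => ?_
  rw [Pi.smul_apply, smul_eq_mul]
  congr 1
  rw [Cfsg.Agent.Lib.CharInd.reciprocity S (fun _ => 1) χ.1 (irr_cl χ), classInner]
  have h2 : ∑ g : S, (1 : ℂ) * conj (χ.1 (g : G)) = conj (∑ u : S, χ.1 (u : G)) := by
    rw [map_sum]
    refine Finset.sum_congr rfl fun g _ => ?_
    rw [one_mul]
  rw [h2, hn χ, map_mul, Complex.conj_natCast, Complex.conj_natCast, ← mul_assoc,
    inv_mul_cancel₀ (by exact_mod_cast Nat.card_pos.ne'), one_mul]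

/-- **Külshammer's formula.** -/
theorem kulshammer (hM : IsPModular p M) (g : G) (hg : ¬ p ∣ orderOf g) :
    MemLocalIdeal M (blockCoeff (principalBlock M G) g -
      (nf p g : ℂ) / (Nat.card {y : G // ¬ p ∣ orderOf y} : ℂ)) := by
  classical
  cases nonempty_fintype G
  haveI := factP hM
  set B := principalBlock M G with hBdef
  have hB : IsPBlock M B := principal_isPBlock M G
  have hl := isLoc_eB hM hB
  obtain ⟨S⟩ : Nonempty (Sylow p G) := inferInstance
  haveI : Fintype (S : Subgroup G) := Fintype.ofFinite _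
  have h2 : ∀ χ : IrrCharacter G, ∃ n : ℕ, ∑ u : (S : Subgroup G), χ.1 (u : G) =
      (Nat.card (S : Subgroup G) : ℂ) * n :=
    fun χ => exists_nat_sum_subgroup χ.1 (isChar_of_irr χ.2) _
  choose n hn using h2
  set R : ℕ := Nat.card {y : G // ¬ p ∣ orderOf y} with hR
  have hRc : R = (Finset.univ.filter (fun y : G => ¬ p ∣ orderOf y)).card := by
    rw [hR, Nat.card_eq_fintype_card, Fintype.card_subtype]
  -- the element `s`
  have hom1 : om (triv G).1 (zr p (triv G).1) = R := by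
    rw [om_zr, hRc]
    have : ∀ y : G, (triv G).1 y = 1 := fun _ => rfl
    simp only [this, mul_one, div_one, Finset.sum_const, nsmul_eq_mul]
  have hRu : ¬ MemLocalIdeal M (R : ℂ) := by
    rw [← hom1, ← red_eq_zero_iff hM (loc_om_zr hM _ _), ← lz_eq]
    exact (lz_ne_zero_iff hM hB (triv_mem hM) (triv_mem hM)).2 (height_triv hM (triv_mem hM))
  have homB : ∀ χ ∈ B, MemLocalIdeal M (om χ.1 (zr p (triv G).1) - R) := by
    intro χ hχ
    rw [← hom1]
    exact om_sub_of_sameBlock hM χ.2 (triv G).2 (sameBlock_of_mem hM hB hχ (triv_mem hM))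
      (zr_isCl (irr_cl (triv G))) (zr_loc hM (isChar_of_irr (triv G).2))
  have homN : ∀ χ : IrrCharacter G, χ ∉ B → om χ.1 (zr p (triv G).1) = 0 := fun χ hχ =>
    om_zr_eq_zero hM hB (triv_mem hM) hχ
  -- `∑_{y reg} χ(y g⁻¹) = om χ s * χ(g⁻¹)`
  have hsum : ∀ χ : IrrCharacter G, ∑ y ∈ Finset.univ.filter (fun y : G => ¬ p ∣ orderOf y),
      χ.1 (y * g⁻¹) = om χ.1 (zr p (triv G).1) * χ.1 g⁻¹ := by
    intro χ
    have h3 := om_mul χ.2 (zr_isCl (p := p) (irr_cl (triv G))) (sg g⁻¹)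
    rw [om_sg] at h3
    have h4 : om χ.1 (zr p (triv G).1 * sg g⁻¹) =
        (∑ y ∈ Finset.univ.filter (fun y : G => ¬ p ∣ orderOf y), χ.1 (y * g⁻¹)) / χ.1 1 := by
      rw [om_eq]
      congr 1
      rw [Finset.sum_filter]
      refine Fintype.sum_equiv (Equiv.mulRight g) _ _ fun y => ?_
      rw [mul_sg_apply, inv_inv, Equiv.coe_mulRight, mul_inv_cancel_right]
      by_cases hy : p ∣ orderOf (y * g)
      · rw [zr_sing hy, if_neg (not_not.2 hy), zero_mul]
      · rw [zr_reg hy, if_pos hy]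
        change 1 * _ = _
        rw [one_mul]
    rw [h4] at h3
    have h5 := char_one_ne χ.2
    field_simp at h3
    rw [h3]
  -- the permutation character summed
  set T : ℂ := ∑ y ∈ Finset.univ.filter (fun y : G => ¬ p ∣ orderOf y),
    (Nat.card (MulAction.fixedBy (G ⧸ (S : Subgroup G)) (y * g⁻¹)) : ℂ) with hT
  have hT1 : T = ∑ χ ∈ Finset.univ.filter (· ∈ B), (n χ : ℂ) *
      (om χ.1 (zr p (triv G).1) * χ.1 g⁻¹) := by
    rw [hT]
    simp only [perm_expand (S : Subgroup G) n hn]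
    rw [Finset.sum_comm, Finset.sum_filter]
    refine Finset.sum_congr rfl fun χ _ => ?_
    rw [← Finset.mul_sum, hsum]
    by_cases hχ : χ ∈ B
    · rw [if_pos hχ]
    · rw [if_neg hχ, homN χ hχ, zero_mul, mul_zero]
  have hcoef : ((S : Subgroup G).index : ℂ) * blockCoeff B g =
      ∑ χ ∈ Finset.univ.filter (· ∈ B), (n χ : ℂ) * χ.1 g⁻¹ := by
    have h3 := card_mul_blockCoeff hM hl (S : Subgroup G) S.isPGroup' hg
    simp only [hn] at h3
    have h5 : (Nat.card (S : Subgroup G) : ℂ) ≠ 0 := by exact_mod_cast Nat.card_pos.ne'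
    have h4 : (Nat.card G : ℂ) = (Nat.card (S : Subgroup G) : ℂ) * ((S : Subgroup G).index : ℂ) := by
      exact_mod_cast ((S : Subgroup G).card_mul_index).symm
    apply mul_left_cancel₀ h5
    rw [← mul_assoc, ← h4, h3, Finset.mul_sum]
    refine Finset.sum_congr rfl fun χ _ => ?_
    ring
  have hT2 : MemLocalIdeal M (T - (R : ℂ) * (((S : Subgroup G).index : ℂ) * blockCoeff B g)) := by
    rw [hT1, hcoef, Finset.mul_sum, ← Finset.sum_sub_distrib]
    refine max_sum hM _ _ fun χ hχ => ?_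
    rw [Finset.mem_filter] at hχ
    have e : (n χ : ℂ) * (om χ.1 (zr p (triv G).1) * χ.1 g⁻¹) - (R : ℂ) * ((n χ : ℂ) * χ.1 g⁻¹) =
        ((n χ : ℂ) * χ.1 g⁻¹) * (om χ.1 (zr p (triv G).1) - R) := by ring
    rw [e]
    exact max_mul_left hM (loc_mul hM (loc_natCast hM _) (loc_char hM (isChar_of_irr χ.2) _))
      (homB χ hχ.2)
  -- counting
  have hT3 : MemLocalIdeal M (T - ((S : Subgroup G).index : ℂ) * (nf p g : ℂ)) := by
    rw [nf_eq, Finset.card_filter, hT, Finset.sum_filter]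
    push_cast
    rw [Finset.mul_sum, ← Finset.sum_sub_distrib]
    refine max_sum hM _ _ fun y _ => ?_
    by_cases hy : p ∣ orderOf y
    · rw [if_neg (not_not.2 hy), if_neg (fun h => h.1 hy), mul_zero, sub_zero]
      exact max_zero hM
    · rw [if_pos hy]
      by_cases hk : ∃ k : ℕ, orderOf (y * g⁻¹) = p ^ k
      · rw [if_pos ⟨hy, hk⟩, mul_one]
        have h3 := fixed_of_p_element (S : Subgroup G) hk
        have h4 : ((p : ℕ) : ℤ) ∣ ((Nat.card (MulAction.fixedBy (G ⧸ (S : Subgroup G)) (y * g⁻¹)) : ℤ) -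
            ((S : Subgroup G).index : ℤ)) := by
          rw [← ZMod.intCast_eq_intCast_iff_dvd_sub]
          push_cast
          exact h3
        have h5 := (max_intCast_iff hM _).2 h4
        push_cast at h5
        exact h5
      · rw [if_neg (fun h => hk h.2), mul_zero, sub_zero, fixed_of_not_p_element S hk]
        simpa using max_zero hM
  have h6 : MemLocalIdeal M (((S : Subgroup G).index : ℂ) *
      ((R : ℂ) * blockCoeff B g - (nf p g : ℂ))) := by
    have := max_sub hM hT3 hT2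
    have e : T - ((S : Subgroup G).index : ℂ) * (nf p g : ℂ) -
        (T - (R : ℂ) * (((S : Subgroup G).index : ℂ) * blockCoeff B g)) =
        ((S : Subgroup G).index : ℂ) * ((R : ℂ) * blockCoeff B g - (nf p g : ℂ)) := by ring
    rwa [e] at this
  have hlc : MemLocalRing M (blockCoeff B g) := hl g
  have h7 : MemLocalIdeal M ((R : ℂ) * blockCoeff B g - (nf p g : ℂ)) := by
    rcases max_or_max_of_mul hM (loc_natCast hM _)
      (loc_sub hM (loc_mul hM (loc_natCast hM _) hlc) (loc_natCast hM _)) h6 with h | h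
    · exfalso
      rw [max_natCast_iff hM] at h
      exact S.not_dvd_index h
    · exact h
  have hR0 : (R : ℂ) ≠ 0 := ne_zero_of_not_max hM hRu
  have h8 := max_div hM h7 (loc_natCast hM R) hRu
  have e : ((R : ℂ) * blockCoeff B g - (nf p g : ℂ)) / R = blockCoeff B g - (nf p g : ℂ) / R := by
    field_simp
  rwa [e] at h8

end Kul

end Cfsg.Agent.Lib.BlockKul
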