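import Mathlib
import Cfsg.Agent.Lib.Basic
import Cfsg.Agent.Lib.SchurZas

/-!
Gaschütz' theorem: an abelian normal subgroup `K` complemented in `U ≥ K` with `|G : U|` prime to
`|K|` is complemented in `G`.
-/

set_option autoImplicit false

namespace Cfsg.Agent.Lib.Gaschutz

open Subgroup Cfsg.Agent.Lib.Basic
open scoped Pointwise

variable {G : Type*} [Group G]

section abstract_torsor

variable {X : Type*} [MulAction G X] {K : Subgroup G} {m : ℕ} (d : X → X → G)
  (hK : ∀ x y, d x y ∈ K) (hmul : ∀ x y z, d x y * d y z = d x z)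
  (hconj : ∀ (g : G) x y, d (g • x) (g • y) = g * d x y * g⁻¹)
  (hkm : ∀ k ∈ K, ∀ x, d x (k • x) = k ^ m)

include hmul in
theorem d_self (x : X) : d x x = 1 := by
  have := hmul x x x
  exact mul_eq_left.mp this

include hmul in
theorem d_symm (x y : X) : d y x = (d x y)⁻¹ := by
  rw [eq_inv_iff_mul_eq_one, hmul, d_self d hmul]

/-- the stabilizer of the class of `x` -/
def stab (x : X) : Subgroup G where
  carrier := {g | d x (g • x) = 1}
  one_mem' := by
    change d x ((1 : G) • x) = 1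
    rw [one_smul]; exact d_self d hmul x
  mul_mem' := by
    intro g h hg hh
    change d x ((g * h) • x) = 1
    change d x (g • x) = 1 at hg
    change d x (h • x) = 1 at hh
    rw [← hmul x (g • x), hg, one_mul, mul_smul, hconj, hh]; group
  inv_mem' := by
    intro g hg
    change d x (g⁻¹ • x) = 1
    change d x (g • x) = 1 at hg
    have h1 := hconj g⁻¹ x (g • x)
    rw [inv_smul_smul, hg] at h1
    rw [d_symm d hmul, h1]; group

include hK hkm in
theorem stab_inf_sup [Finite G] (hcomm : ∀ x ∈ K, ∀ y ∈ K, x * y = y * x)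
    (hcop : m.Coprime (Nat.card K)) (x : X) :
    K ⊓ stab d hmul hconj x = ⊥ ∧ ∀ g : G, ∃ k ∈ K, k * g ∈ stab d hmul hconj x := by
  constructor
  · rw [eq_bot_iff]
    rintro k ⟨hk, hk'⟩
    change d x (k • x) = 1 at hk'
    rw [hkm k hk] at hk'
    have h1 := orderOf_dvd_of_pow_eq_one hk'
    have h2 : orderOf k ∣ Nat.card K := by
      have := orderOf_dvd_natCard (⟨k, hk⟩ : K)
      rwa [orderOf_mk] at this
    have h3 : orderOf k ∣ 1 := by
      have := Nat.dvd_gcd h1 h2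
      rwa [hcop] at this
    rw [mem_bot, ← orderOf_eq_one_iff]
    exact Nat.dvd_one.mp h3
  · intro g
    -- an `m`-th root
    obtain ⟨k, hk⟩ : ∃ k : K, k ^ m = (⟨d x (g • x), hK _ _⟩ : K)⁻¹ := by
      have h1 : Function.Surjective (fun k : K => k ^ m) := by
        apply Finite.injective_iff_surjective.mp
        intro a b hab
        have h2 : (a * b⁻¹) ^ m = 1 := by
          have hc : Commute a b⁻¹ := by
            apply Commute.inv_right
            exact Subtype.ext (hcomm a a.2 b b.2)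
          rw [hc.mul_pow, inv_pow]
          exact mul_inv_eq_one.mpr hab
        have h3 : orderOf (a * b⁻¹) ∣ 1 := by
          have := Nat.dvd_gcd (orderOf_dvd_of_pow_eq_one h2) (orderOf_dvd_natCard (a * b⁻¹))
          rwa [hcop] at this
        have h4 : a * b⁻¹ = 1 := by
          rw [← orderOf_eq_one_iff]; exact Nat.dvd_one.mp h3
        exact mul_inv_eq_one.mp h4
      exact h1 _
    refine ⟨k, k.2, ?_⟩
    change d x (((k : G) * g) • x) = 1
    have h2 : (k : G) ^ m = (d x (g • x))⁻¹ := by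
      have := congrArg Subtype.val hk
      simpa using this
    rw [← hmul x ((k : G) • x), hkm k k.2, mul_smul, hconj, h2]
    have h3 := hcomm k k.2 _ (hK x (g • x))
    rw [h3]; group

end abstract_torsor

section sections

variable {K U A : Subgroup G} (hAU : A ≤ U)

/-- sections of `G/A → G/U` -/
def Sec : Type _ := {σ : G ⧸ U → G ⧸ A // ∀ c, Subgroup.quotientMapOfLE hAU (σ c) = c}

theorem qmap_smul (g : G) (x : G ⧸ A) :
    Subgroup.quotientMapOfLE hAU (g • x) = g • Subgroup.quotientMapOfLE hAU x := by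
  induction x using QuotientGroup.induction_on with
  | H x => rfl

instance : MulAction G (Sec hAU) where
  smul g σ := ⟨fun c => g • σ.1 (g⁻¹ • c), fun c => by
    rw [qmap_smul, σ.2, smul_inv_smul]⟩
  one_smul σ := Subtype.ext (funext fun c => by
    change (1 : G) • σ.1 ((1 : G)⁻¹ • c) = _
    rw [inv_one, one_smul, one_smul])
  mul_smul g h σ := Subtype.ext (funext fun c => by
    change (g * h) • σ.1 ((g * h)⁻¹ • c) = g • (h • σ.1 (h⁻¹ • (g⁻¹ • c)))
    rw [mul_smul, mul_inv_rev, mul_smul])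

theorem smul_apply (g : G) (σ : Sec hAU) (c : G ⧸ U) : (g • σ).1 c = g • σ.1 (g⁻¹ • c) := rfl

end sections

section main

variable [Finite G] {K U A : Subgroup G} [hKn : K.Normal] (hAU : A ≤ U) (hKU : K ≤ U)
  (hinf : K ⊓ A = ⊥) (hsup : K ⊔ A = U) (hcomm : ∀ x ∈ K, ∀ y ∈ K, x * y = y * x)

include hinf in
theorem smul_left_unique {x : G ⧸ A} {k l : G} (hk : k ∈ K) (hl : l ∈ K) (h : k • x = l • x) : k = l := by
  induction x using QuotientGroup.induction_on with
  | H x =>
    change ((k * x : G) : G ⧸ A) = ((l * x : G) : G ⧸ A) at h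
    rw [QuotientGroup.eq] at h
    have h1 : (k * x)⁻¹ * (l * x) = x⁻¹ * (k⁻¹ * l) * x := by group
    rw [h1] at h
    have h2 : x⁻¹ * (k⁻¹ * l) * x ∈ K := by
      have := hKn.conj_mem _ (mul_mem (inv_mem hk) hl) x⁻¹
      rwa [inv_inv] at this
    have h3 : x⁻¹ * (k⁻¹ * l) * x ∈ K ⊓ A := ⟨h2, h⟩
    rw [hinf, mem_bot] at h3
    have h4 : k⁻¹ * l = 1 := by
      have := congrArg (fun t => x * t * x⁻¹) h3
      simpa [mul_assoc] using this
    exact inv_mul_eq_one.mp h4

include hsup in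
theorem exists_smul_eq {x y : G ⧸ A} (h : Subgroup.quotientMapOfLE hAU x = Subgroup.quotientMapOfLE hAU y) :
    ∃ k : K, (k : G) • x = y := by
  induction x using QuotientGroup.induction_on with
  | H x =>
    induction y using QuotientGroup.induction_on with
    | H y =>
      change ((x : G) : G ⧸ U) = (y : G ⧸ U) at h
      rw [QuotientGroup.eq, ← hsup, mem_sup_of_normal_left] at h
      obtain ⟨k, hk, a, ha, hka⟩ := h
      refine ⟨⟨x * k * x⁻¹, hKn.conj_mem k hk x⟩, ?_⟩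
      change ((x * k * x⁻¹ * x : G) : G ⧸ A) = (y : G ⧸ A)
      rw [QuotientGroup.eq]
      have h1 : y = x * (k * a) := by rw [hka]; group
      have h2 : (x * k * x⁻¹ * x)⁻¹ * y = a := by rw [h1]; group
      rw [h2]; exact ha

/-- the difference element -/
noncomputable def kap (x y : G ⧸ A) : K := by
  classical exact if h : ∃ k : K, (k : G) • x = y then h.choose else 1

theorem kap_spec {x y : G ⧸ A} (h : ∃ k : K, (k : G) • x = y) : ((kap (K := K) x y : K) : G) • x = y := by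
  unfold kap
  rw [dif_pos h]
  exact h.choose_spec

include hinf in
theorem kap_eq {x y : G ⧸ A} {k : K} (h : (k : G) • x = y) : kap (K := K) x y = k := by
  have h1 := kap_spec (K := K) (x := x) (y := y) ⟨k, h⟩
  exact Subtype.ext (smul_left_unique hinf (kap x y).2 k.2 (h1.trans h.symm))

/-- the difference of two sections -/
noncomputable def dif (σ τ : Sec hAU) : G :=
  letI := Fintype.ofFinite (G ⧸ U)
  letI : CommGroup K := { (inferInstance : Group K) with
    mul_comm := fun a b => Subtype.ext (hcomm a a.2 b b.2) }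
  ((∏ c : G ⧸ U, kap (K := K) (σ.1 c) (τ.1 c) : K) : G)

theorem dif_mem (σ τ : Sec hAU) : dif hAU hcomm σ τ ∈ K := SetLike.coe_mem _

include hinf hsup in
theorem dif_mul (σ τ ρ : Sec hAU) :
    dif hAU hcomm σ τ * dif hAU hcomm τ ρ = dif hAU hcomm σ ρ := by
  unfold dif
  letI := Fintype.ofFinite (G ⧸ U)
  letI : CommGroup K := { (inferInstance : Group K) with
    mul_comm := fun a b => Subtype.ext (hcomm a a.2 b b.2) }
  change (((∏ c : G ⧸ U, kap (K := K) (σ.1 c) (τ.1 c)) * (∏ c : G ⧸ U, kap (K := K) (τ.1 c) (ρ.1 c)) : K) : G) =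
    ((∏ c : G ⧸ U, kap (K := K) (σ.1 c) (ρ.1 c) : K) : G)
  rw [← Finset.prod_mul_distrib]
  congr 1
  apply Finset.prod_congr rfl
  intro c _
  symm
  apply kap_eq hinf
  have h1 := kap_spec (K := K) (exists_smul_eq (K := K) hAU hsup (x := σ.1 c) (y := τ.1 c) (by rw [σ.2, τ.2]))
  have h2 := kap_spec (K := K) (exists_smul_eq (K := K) hAU hsup (x := τ.1 c) (y := ρ.1 c) (by rw [τ.2, ρ.2]))
  have h3 : ((kap (K := K) (σ.1 c) (τ.1 c) * kap (K := K) (τ.1 c) (ρ.1 c) : K) : G) =
      (kap (K := K) (τ.1 c) (ρ.1 c) : G) * (kap (K := K) (σ.1 c) (τ.1 c) : G) :=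
    hcomm _ (kap (K := K) (σ.1 c) (τ.1 c)).2 _ (kap (K := K) (τ.1 c) (ρ.1 c)).2
  rw [h3, mul_smul, h1, h2]

include hinf hsup in
theorem dif_conj (g : G) (σ τ : Sec hAU) :
    dif hAU hcomm (g • σ) (g • τ) = g * dif hAU hcomm σ τ * g⁻¹ := by
  unfold dif
  letI := Fintype.ofFinite (G ⧸ U)
  letI : CommGroup K := { (inferInstance : Group K) with
    mul_comm := fun a b => Subtype.ext (hcomm a a.2 b b.2) }
  let φ : K →* K := (MulAut.conjNormal g : MulAut K).toMonoidHom
  have hφ : ∀ k : K, ((φ k : K) : G) = g * k * g⁻¹ := fun k => rfl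
  rw [← hφ, map_prod]
  congr 1
  rw [← Equiv.prod_comp (MulAction.toPerm g)]
  apply Finset.prod_congr rfl
  intro c _
  apply kap_eq hinf
  have h1 := kap_spec (K := K) (exists_smul_eq (K := K) hAU hsup (x := σ.1 c) (y := τ.1 c) (by rw [σ.2, τ.2]))
  rw [MulAction.toPerm_apply, smul_apply, smul_apply, inv_smul_smul, hφ, ← mul_smul,
    inv_mul_cancel_right, mul_smul, h1]

include hinf hKU in
theorem dif_smul {k : G} (hk : k ∈ K) (σ : Sec hAU) :
    dif hAU hcomm σ (k • σ) = k ^ U.index := by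
  unfold dif
  letI := Fintype.ofFinite (G ⧸ U)
  letI : CommGroup K := { (inferInstance : Group K) with
    mul_comm := fun a b => Subtype.ext (hcomm a a.2 b b.2) }
  have h1 : ∀ c : G ⧸ U, kap (K := K) (σ.1 c) ((k • σ).1 c) = ⟨k, hk⟩ := by
    intro c
    apply kap_eq hinf
    have hc : k⁻¹ • c = c := by
      induction c using QuotientGroup.induction_on with
      | H x =>
        change ((k⁻¹ * x : G) : G ⧸ U) = (x : G ⧸ U)
        rw [QuotientGroup.eq]
        apply hKU
        have := hKn.conj_mem k hk x⁻¹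
        have e : (k⁻¹ * x)⁻¹ * x = x⁻¹ * k * x⁻¹⁻¹ := by group
        rw [e]; exact this
    rw [smul_apply, hc]
  have h2 : (∏ c : G ⧸ U, kap (K := K) (σ.1 c) ((k • σ).1 c)) = (⟨k, hk⟩ : K) ^ U.index := by
    rw [Finset.prod_congr rfl (fun c _ => h1 c), Finset.prod_const, Finset.card_univ, index_eq_card,
      Nat.card_eq_fintype_card]
  exact congrArg Subtype.val h2

end main


theorem exists_sec {U A : Subgroup G} (hAU : A ≤ U) : Nonempty (Sec hAU) := by
  have hs : Function.Surjective (Subgroup.quotientMapOfLE hAU) := by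
    intro c
    induction c using QuotientGroup.induction_on with
    | H x => exact ⟨(x : G ⧸ A), rfl⟩
  exact ⟨⟨fun c => (hs c).choose, fun c => (hs c).choose_spec⟩⟩

/-- Gaschütz, existence -/
theorem exists_complement [Finite G] {K U A : Subgroup G} [hKn : K.Normal] (hAU : A ≤ U) (hKU : K ≤ U)
    (hinf : K ⊓ A = ⊥) (hsup : K ⊔ A = U) (hcomm : ∀ x ∈ K, ∀ y ∈ K, x * y = y * x)
    (hcop : (Nat.card K).Coprime U.index) : ∃ H : Subgroup G, IsComplement' K H := by
  obtain ⟨σ⟩ := exists_sec hAU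
  have h := stab_inf_sup (dif hAU hcomm) (dif_mem hAU hcomm) (dif_mul hAU hinf hsup hcomm)
    (dif_conj hAU hinf hsup hcomm) (fun k hk x => dif_smul hAU hKU hinf hcomm hk x) hcomm hcop.symm σ
  refine ⟨stab (dif hAU hcomm) (dif_mul hAU hinf hsup hcomm) (dif_conj hAU hinf hsup hcomm) σ,
    SchurZas.isComplement'_of_inf_sup h.1 ?_⟩
  rw [eq_top_iff]
  intro g _
  obtain ⟨k, hk, hkg⟩ := h.2 g
  have : g = k⁻¹ * (k * g) := by group
  rw [this]
  exact mul_mem (mem_sup_left (inv_mem hk)) (mem_sup_right hkg)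

/-- the section fixed by a complement -/
theorem exists_fixed_sec [Finite G] {K U H : Subgroup G} [hKn : K.Normal] (hKU : K ≤ U)
    (hH : IsComplement' K H) (hAU : H ⊓ U ≤ U) : ∃ σ : Sec hAU, ∀ h ∈ H, h • σ = σ := by
  have hs : ∀ c : G ⧸ U, ∃ h ∈ H, ((h : G) : G ⧸ U) = c := by
    intro c
    induction c using QuotientGroup.induction_on with
    | H x =>
      have hx : x⁻¹ ∈ K ⊔ H := by rw [hH.sup_eq_top]; trivial
      rw [mem_sup_of_normal_left] at hx
      obtain ⟨k, hk, h, hh, hkh⟩ := hx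
      refine ⟨h⁻¹, inv_mem hh, ?_⟩
      rw [QuotientGroup.eq]
      have h1 : x = h⁻¹ * k⁻¹ := by rw [← inv_inv x, ← hkh]; group
      have h2 : h⁻¹⁻¹ * x = k⁻¹ := by rw [h1]; group
      rw [h2]
      exact hKU (inv_mem hk)
  choose f hfH hf using hs
  obtain ⟨σ, hσ⟩ : ∃ σ : Sec hAU, ∀ c, σ.1 c = ((f c : G) : G ⧸ (H ⊓ U : Subgroup G)) :=
    ⟨⟨fun c => ((f c : G) : G ⧸ (H ⊓ U : Subgroup G)), fun c => hf c⟩, fun c => rfl⟩
  refine ⟨σ, ?_⟩
  intro h hh
  apply Subtype.ext
  funext c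
  rw [smul_apply, hσ, hσ]
  change ((h * f (h⁻¹ • c) : G) : G ⧸ (H ⊓ U : Subgroup G)) = ((f c : G) : G ⧸ (H ⊓ U : Subgroup G))
  rw [QuotientGroup.eq]
  refine mem_inf.mpr ⟨mul_mem (inv_mem (mul_mem hh (hfH _))) (hfH _), ?_⟩
  change (h * f (h⁻¹ • c))⁻¹ * f c ∈ U
  rw [← QuotientGroup.eq, hf]
  change h • ((f (h⁻¹ • c) : G) : G ⧸ U) = c
  rw [hf, smul_inv_smul]

/-- Gaschütz, conjugacy -/
theorem conj_complement [Finite G] {K U : Subgroup G} [hKn : K.Normal] (hKU : K ≤ U)
    (hcomm : ∀ x ∈ K, ∀ y ∈ K, x * y = y * x) (hcop : (Nat.card K).Coprime U.index)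
    {H₀ H₁ : Subgroup G} (h₀ : IsComplement' K H₀) (h₁ : IsComplement' K H₁)
    (hU : H₀ ⊓ U = H₁ ⊓ U) : ∃ g : G, MulAut.conj g • H₀ = H₁ := by
  have hAU : H₀ ⊓ U ≤ U := inf_le_right
  have hinf : K ⊓ (H₀ ⊓ U) = ⊥ := by
    rw [eq_bot_iff, ← h₀.disjoint.eq_bot]
    exact inf_le_inf_left K inf_le_left
  have hsup : K ⊔ (H₀ ⊓ U) = U := by
    apply le_antisymm (sup_le hKU inf_le_right)
    intro x hx
    have hx' : x ∈ K ⊔ H₀ := by rw [h₀.sup_eq_top]; trivial
    rw [mem_sup_of_normal_left] at hx'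
    obtain ⟨k, hk, h, hh, rfl⟩ := hx'
    refine mul_mem (mem_sup_left hk) (mem_sup_right ⟨hh, ?_⟩)
    have := mul_mem (inv_mem (hKU hk)) hx
    rwa [inv_mul_cancel_left] at this
  obtain ⟨σ₀, hσ₀⟩ := exists_fixed_sec hKU h₀ hAU
  obtain ⟨σ₁, hσ₁⟩ : ∃ σ : Sec hAU, ∀ h ∈ H₁, h • σ = σ := by
    obtain ⟨A, hA⟩ : ∃ A, A = H₀ ⊓ U := ⟨_, rfl⟩
    have h2 : ∀ A : Subgroup G, A = H₁ ⊓ U → ∀ hAU : A ≤ U, ∃ σ : Sec hAU, ∀ h ∈ H₁, h • σ = σ := by
      rintro A rfl hAU
      exact exists_fixed_sec hKU h₁ hAU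
    exact h2 _ hU hAU
  have hmul := dif_mul hAU hinf hsup hcomm
  have hconj := dif_conj hAU hinf hsup hcomm
  have hpow := fun k hk x => dif_smul hAU hKU hinf hcomm (k := k) hk x
  -- find `k` with `d (k σ₀) σ₁ = 1`
  obtain ⟨k, hk, hkd⟩ : ∃ k ∈ K, dif hAU hcomm (k • σ₀) σ₁ = 1 := by
    obtain ⟨k, hk⟩ : ∃ k : K, k ^ U.index = (⟨dif hAU hcomm σ₀ σ₁, dif_mem hAU hcomm _ _⟩ : K) := by
      have h1 : Function.Surjective (fun k : K => k ^ U.index) := by
        apply Finite.injective_iff_surjective.mp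
        intro a b hab
        have h2 : (a * b⁻¹) ^ U.index = 1 := by
          have hc : Commute a b⁻¹ := by
            apply Commute.inv_right
            exact Subtype.ext (hcomm a a.2 b b.2)
          rw [hc.mul_pow, inv_pow]
          exact mul_inv_eq_one.mpr hab
        have h3 : orderOf (a * b⁻¹) ∣ 1 := by
          have := Nat.dvd_gcd (orderOf_dvd_of_pow_eq_one h2) (orderOf_dvd_natCard (a * b⁻¹))
          rwa [hcop.symm] at this
        have h4 : a * b⁻¹ = 1 := by
          rw [← orderOf_eq_one_iff]; exact Nat.dvd_one.mp h3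
        exact mul_inv_eq_one.mp h4
      exact h1 _
    refine ⟨k, k.2, ?_⟩
    have h2 : (k : G) ^ U.index = dif hAU hcomm σ₀ σ₁ := by
      have := congrArg Subtype.val hk
      simpa using this
    rw [← hmul ((k : G) • σ₀) σ₀ σ₁, d_symm (dif hAU hcomm) hmul σ₀ ((k : G) • σ₀), hpow _ k.2, h2]; group
  refine ⟨k, ?_⟩
  have hle : MulAut.conj k • H₀ ≤ stab (dif hAU hcomm) hmul hconj σ₁ := by
    intro g hg
    rw [SchurZas.mem_conj_smul_iff] at hg
    change dif hAU hcomm σ₁ (g • σ₁) = 1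
    have h1 : g • (k • σ₀) = k • σ₀ := by
      have h2 := hσ₀ _ hg
      have h3 : g = k * (k⁻¹ * g * k) * k⁻¹ := by group
      rw [h3, mul_smul, mul_smul, inv_smul_smul, h2]
    have hkd' : dif hAU hcomm σ₁ (k • σ₀) = 1 := by
      rw [d_symm (dif hAU hcomm) hmul, hkd, inv_one]
    have h4 : dif hAU hcomm (g • (k • σ₀)) (g • σ₁) = 1 := by
      rw [hconj, hkd]; group
    rw [h1] at h4
    rw [← hmul σ₁ (k • σ₀), hkd', h4, one_mul]
  have hle1 : H₁ ≤ stab (dif hAU hcomm) hmul hconj σ₁ := by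
    intro g hg
    change dif hAU hcomm σ₁ (g • σ₁) = 1
    rw [hσ₁ g hg]
    exact d_self _ hmul _
  have hst := stab_inf_sup (dif hAU hcomm) (dif_mem hAU hcomm) hmul hconj hpow hcomm hcop.symm σ₁
  have hcs : IsComplement' K (stab (dif hAU hcomm) hmul hconj σ₁) := by
    refine SchurZas.isComplement'_of_inf_sup hst.1 ?_
    rw [eq_top_iff]
    intro g _
    obtain ⟨k, hk, hkg⟩ := hst.2 g
    have : g = k⁻¹ * (k * g) := by group
    rw [this]
    exact mul_mem (mem_sup_left (inv_mem hk)) (mem_sup_right hkg)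
  have hcard : ∀ H : Subgroup G, IsComplement' K H → Nat.card K * Nat.card H = Nat.card G :=
    fun H hH => hH.card_mul_card
  have e0 := hcard _ h₀
  have e1 := hcard _ h₁
  have e2 := hcard _ hcs
  have hc1 : Nat.card (stab (dif hAU hcomm) hmul hconj σ₁) = Nat.card H₁ :=
    Nat.eq_of_mul_eq_mul_left Nat.card_pos (e2.trans e1.symm)
  have hc0 : Nat.card (stab (dif hAU hcomm) hmul hconj σ₁) = Nat.card H₀ :=
    Nat.eq_of_mul_eq_mul_left Nat.card_pos (e2.trans e0.symm)
  have f1 : H₁ = stab (dif hAU hcomm) hmul hconj σ₁ := eq_of_le_of_card_ge hle1 hc1.le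
  have f0 : MulAut.conj k • H₀ = stab (dif hAU hcomm) hmul hconj σ₁ :=
    eq_of_le_of_card_ge hle (by rw [SchurZas.card_conj_smul]; exact hc0.le)
  rw [f0, ← f1]

end Cfsg.Agent.Lib.Gaschutz
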