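import Cfsg.Agent.Lib.Resid
import Cfsg.Agent.Lib.Gaschutz
import Cfsg.Agent.Lib.PGrpA
import Cfsg.Agent.Lib.PPart

/-!
# Tate's theorem on `O^p`

* `tate` : if `V` has index prime to `p` in `G` and every normal subgroup of index `p` of `V` contains
  `V ∩ O^p(G)` then `V ∩ O^p(G) = O^p(V)`.
-/

open Subgroup Cfsg
open scoped commutatorElement Pointwise

namespace Cfsg.Agent.Lib.Tate

open Cfsg.Agent.Lib.Resid Cfsg.Agent.Lib.PNilp

variable {G : Type*} [Group G]

/-- the lifting step: `G → G/K` lifts to `V/M` when it does so on `V` -/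
theorem exists_lift [Finite G] {p : ℕ} [hp : Fact p.Prime] {V : Subgroup G} (hV : ¬ p ∣ V.index) {E Q : Type*} [Group E]
    [Group Q] [Finite E] (hE : IsPGroup p E) (q : G →* Q) (hq : Function.Surjective q) (π : E →* Q) (hπ : Function.Surjective π)
    (hcen : π.ker ≤ center E) (t : V →* E) (ht : ∀ v, π (t v) = q v) : ∃ s : G →* E, ∀ g, π (s g) = q g := by
  classical
  have hpp : p.Prime := hp.out
  let X : Subgroup (G × E) := MonoidHom.eqLocus (q.comp (MonoidHom.fst G E)) (π.comp (MonoidHom.snd G E))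
  have hX : ∀ x : G × E, x ∈ X ↔ q x.1 = π x.2 := fun x => Iff.rfl
  let f₁ : X →* G := (MonoidHom.fst G E).comp X.subtype
  let f₂ : X →* E := (MonoidHom.snd G E).comp X.subtype
  have hf₁ : Function.Surjective f₁ := by
    intro g
    obtain ⟨e, he⟩ := hπ (q g)
    exact ⟨⟨(g, e), (hX _).mpr he.symm⟩, rfl⟩
  let K : Subgroup X := f₁.ker
  let U : Subgroup X := V.comap f₁
  let j : V →* X := (V.subtype.prod t).codRestrict X fun v => (hX _).mpr (ht v).symm
  let A : Subgroup X := j.range
  have hAU : A ≤ U := by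
    rintro _ ⟨v, rfl⟩
    exact v.2
  have hKU : K ≤ U := by
    intro x hx
    change f₁ x ∈ V
    rw [MonoidHom.mem_ker.mp hx]
    exact V.one_mem
  have hinf : K ⊓ A = ⊥ := by
    rw [eq_bot_iff]
    rintro _ ⟨hx, ⟨v, rfl⟩⟩
    have h1 : (v : G) = 1 := MonoidHom.mem_ker.mp hx
    have h2 : v = 1 := Subtype.ext h1
    rw [h2, map_one]
    exact one_mem _
  have hker2 : ∀ x ∈ K, f₂ x ∈ center E := by
    intro x hx
    refine hcen (MonoidHom.mem_ker.mpr ?_)
    have h1 := (hX _).mp x.2
    have h2 : (x : G × E).1 = 1 := MonoidHom.mem_ker.mp hx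
    rw [h2, map_one] at h1
    exact h1.symm
  have hsup : K ⊔ A = U := by
    refine le_antisymm (sup_le hKU hAU) ?_
    intro x hx
    have hx' : (x : G × E).1 ∈ V := hx
    set a := j ⟨_, hx'⟩ with ha
    have h1 : x * a⁻¹ ∈ K := by
      rw [MonoidHom.mem_ker, map_mul, map_inv]
      exact mul_inv_cancel _
    have h2 : x = x * a⁻¹ * a := by rw [inv_mul_cancel_right]
    rw [h2]
    exact mul_mem (mem_sup_left h1) (mem_sup_right ⟨_, rfl⟩)
  have hcomm : ∀ x ∈ K, ∀ y ∈ K, x * y = y * x := by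
    intro x hx y hy
    apply Subtype.ext
    refine Prod.ext ?_ ?_
    · have h1 : (x : G × E).1 = 1 := MonoidHom.mem_ker.mp hx
      have h2 : (y : G × E).1 = 1 := MonoidHom.mem_ker.mp hy
      change (x : G × E).1 * (y : G × E).1 = (y : G × E).1 * (x : G × E).1
      rw [h1, h2]
    · exact (mem_center_iff.mp (hker2 y hy) _)
  have hcop : (Nat.card K).Coprime U.index := by
    have h1 : Function.Injective (f₂.comp K.subtype) := by
      intro x y hxy
      apply Subtype.ext
      apply Subtype.ext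
      have h1 : ((x : X) : G × E).1 = 1 := MonoidHom.mem_ker.mp x.2
      have h2 : ((y : X) : G × E).1 = 1 := MonoidHom.mem_ker.mp y.2
      exact Prod.ext (h1.trans h2.symm) hxy
    obtain ⟨n, hn⟩ := (hE.of_injective _ h1).exists_card_eq
    rw [hn]
    refine Nat.Coprime.pow_left _ ?_
    rw [hpp.coprime_iff_not_dvd]
    change ¬ p ∣ (V.comap f₁).index
    rwa [index_comap_of_surjective V hf₁]
  haveI : K.Normal := inferInstanceAs (f₁.ker).Normal
  obtain ⟨H, hH⟩ := Gaschutz.exists_complement hAU hKU hinf hsup hcomm hcop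
  have hbij : Function.Bijective (f₁.comp H.subtype) := by
    constructor
    · rw [injective_iff_map_eq_one]
      intro h hh
      have h1 : (h : X) ∈ K ⊓ H := ⟨MonoidHom.mem_ker.mpr hh, h.2⟩
      rw [hH.disjoint.eq_bot] at h1
      exact Subtype.ext h1
    · intro g
      obtain ⟨x, rfl⟩ := hf₁ g
      obtain ⟨⟨k, h⟩, hkh⟩ := hH.2 x
      refine ⟨h, ?_⟩
      change f₁ h = f₁ x
      rw [← hkh, map_mul, MonoidHom.mem_ker.mp k.2, one_mul]
  let e := MulEquiv.ofBijective _ hbij
  refine ⟨(f₂.comp H.subtype).comp e.symm.toMonoidHom, fun g => ?_⟩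
  have h1 : f₁ ((e.symm g : H) : X) = g := e.apply_symm_apply g
  have h2 := (hX _).mp ((e.symm g : H) : X).2
  change q (f₁ ((e.symm g : H) : X)) = _ at h2
  rw [h1] at h2
  exact h2.symm

theorem card_comap_surj {H : Type*} [Group H] [Finite G] {f : G →* H} (hf : Function.Surjective f) (X : Subgroup H) :
    Nat.card (X.comap f) = Nat.card X * Nat.card f.ker := by
  haveI : Finite H := Finite.of_surjective f hf
  have h1 := card_mul_index (X.comap f)
  rw [index_comap_of_surjective X hf] at h1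
  have h2 := card_mul_index X
  have h3 := card_mul_index f.ker
  have h4 : f.ker.index = Nat.card H := by
    rw [index_ker, MonoidHom.range_eq_top.mpr hf, card_top]
  rw [h4, ← h2] at h3
  have h5 : X.index ≠ 0 := index_ne_zero_of_finite
  have h6 : Nat.card (X.comap f) * X.index = Nat.card X * Nat.card f.ker * X.index := by
    rw [h1, ← h3]; ring
  exact Nat.eq_of_mul_eq_mul_right (Nat.pos_of_ne_zero h5) h6

theorem tate [Finite G] {p : ℕ} [hp : Fact p.Prime] {V : Subgroup G} (hV : ¬ p ∣ V.index)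
    (h : ∀ M : Subgroup V, M.Normal → M.index = p → (pResidual p G).subgroupOf V ≤ M) :
    (pResidual p G).subgroupOf V = pResidual p V := by
  have hpp : p.Prime := hp.out
  set K := pResidual p G with hK
  haveI hKn : K.Normal := pResidual_normal p
  set L := K.subgroupOf V with hL
  set R := pResidual p V with hR
  haveI hRn : R.Normal := pResidual_normal p
  have hVK : ∀ g : G, ∃ v ∈ V, ∃ k ∈ K, v * k = g := by
    have h1 : V ⊔ K = ⊤ := by
      rw [← index_eq_one]
      have h2 : (V ⊔ K).index ∣ V.index := index_dvd_of_le le_sup_left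
      have h3 : (V ⊔ K).index ∣ K.index := index_dvd_of_le le_sup_right
      obtain ⟨n, hn⟩ := (quotient_pResidual (G := G) (p := p)).exists_card_eq
      rw [← index_eq_card] at hn
      rw [← hK] at hn
      rw [hn] at h3
      obtain ⟨m, -, hm⟩ := (Nat.dvd_prime_pow hpp).mp h3
      rw [hm] at h2 ⊢
      rcases Nat.eq_zero_or_pos m with rfl | hm0
      · exact pow_zero p
      · exact absurd ((dvd_pow_self p hm0.ne').trans h2) hV
    intro g
    have h2 : g ∈ V ⊔ K := by rw [h1]; trivial
    exact mem_sup_of_normal_right.mp h2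
  have hRL : R ≤ L := by
    refine pResidual_le ?_
    have h1 : Function.Injective (QuotientGroup.lift L ((QuotientGroup.mk' K).comp V.subtype)
        (by intro x hx; exact (QuotientGroup.eq_one_iff _).mpr hx)) := by
      rw [injective_iff_map_eq_one]
      intro x
      obtain ⟨x, rfl⟩ := QuotientGroup.mk_surjective x
      intro hx
      exact (QuotientGroup.eq_one_iff _).mpr ((QuotientGroup.eq_one_iff _).mp hx : (x : G) ∈ K)
    exact quotient_pResidual.of_injective _ h1
  by_contra hne
  have hlt : R < L := lt_of_le_of_ne hRL (Ne.symm hne)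
  haveI hLn : L.Normal := inferInstanceAs (K.subgroupOf V).Normal
  have hVR : IsPGroup p (V ⧸ R) := quotient_pResidual
  -- choose `M`
  obtain ⟨M, hMn, hRM, hML, hMc, hMcen⟩ : ∃ M : Subgroup V, M.Normal ∧ R ≤ M ∧ M < L ∧
      Nat.card L = p * Nat.card M ∧ ⁅L, (⊤ : Subgroup V)⁆ ≤ M := by
    set ρ := QuotientGroup.mk' R with hρ
    have hρs : Function.Surjective ρ := QuotientGroup.mk'_surjective R
    haveI : (L.map ρ).Normal := hLn.map ρ hρs
    have h1 : L.map ρ ≠ ⊥ := by
      rw [Ne, Subgroup.map_eq_bot_iff, QuotientGroup.ker_mk']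
      exact not_le_of_gt hlt
    obtain ⟨B, hBn, hBL, hBc⟩ := PGrpA.exists_normal_step_down hVR h1
    have hcomm := PGrpA.commutator_le_of_card hVR hBL hBc
    have hLcm : L = (L.map ρ).comap ρ := by
      rw [comap_map_eq, QuotientGroup.ker_mk', sup_eq_left.mpr hRL]
    have hc : ∀ X : Subgroup (V ⧸ R), Nat.card (X.comap ρ) = Nat.card X * Nat.card R := by
      intro X
      rw [card_comap_surj hρs, QuotientGroup.ker_mk']
    refine ⟨B.comap ρ, hBn.comap ρ, ?_, ?_, ?_, ?_⟩
    · have := ker_le_comap ρ B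
      rwa [QuotientGroup.ker_mk'] at this
    · rw [hLcm]
      refine lt_of_le_of_ne (comap_mono hBL) fun h2 => ?_
      have h3 := comap_injective hρs h2
      rw [h3] at hBc
      have h4 : 0 < Nat.card (L.map ρ) := Nat.card_pos
      have := hpp.one_lt
      nlinarith
    · rw [hLcm, hc, hc, hBc]; ring
    · rw [← map_le_iff_le_comap, map_commutator, ← MonoidHom.range_eq_map, MonoidHom.range_eq_top.mpr hρs]
      exact hcomm
  -- the extension
  set μ := QuotientGroup.mk' M with hμ
  have hμs : Function.Surjective μ := QuotientGroup.mk'_surjective M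
  have hVM : IsPGroup p (V ⧸ M) := by
    have h1 : Function.Surjective (QuotientGroup.map R M (MonoidHom.id V) hRM) := by
      intro x
      obtain ⟨v, rfl⟩ := QuotientGroup.mk_surjective x
      exact ⟨v, rfl⟩
    exact hVR.of_surjective _ h1
  let π : V ⧸ M →* G ⧸ K := QuotientGroup.lift M ((QuotientGroup.mk' K).comp V.subtype)
    (by intro x hx; exact (QuotientGroup.eq_one_iff _).mpr (hML.le hx))
  have hπv : ∀ v : V, π (μ v) = QuotientGroup.mk' K (v : G) := fun v => rfl
  have hπs : Function.Surjective π := by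
    intro x
    obtain ⟨g, rfl⟩ := QuotientGroup.mk_surjective x
    obtain ⟨v, hv, k, hk, rfl⟩ := hVK g
    refine ⟨μ ⟨v, hv⟩, ?_⟩
    rw [hπv]
    refine (QuotientGroup.eq).mpr ?_
    rw [inv_mul_cancel_left]
    exact hk
  have hπk : ∀ v : V, π (μ v) = 1 ↔ v ∈ L := by
    intro v
    rw [hπv]
    exact QuotientGroup.eq_one_iff _
  have hcen : π.ker ≤ center (V ⧸ M) := by
    intro x hx
    obtain ⟨v, rfl⟩ := hμs x
    rw [MonoidHom.mem_ker, hπk] at hx
    rw [mem_center_iff]
    intro y
    obtain ⟨w, rfl⟩ := hμs y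
    have h1 : μ ⁅v, w⁆ = 1 := (QuotientGroup.eq_one_iff _).mpr (hMcen (commutator_mem_commutator hx (mem_top w)))
    rw [map_commutatorElement, commutatorElement_eq_one_iff_mul_comm] at h1
    exact h1.symm
  obtain ⟨s, hs⟩ := exists_lift hV hVM (QuotientGroup.mk' K) (QuotientGroup.mk'_surjective K) π hπs hcen μ hπv
  have hsK : ∀ k ∈ K, s k = 1 := by
    intro k hk
    have h1 := pResidual_map_le p s (mem_map_of_mem s hk)
    have h2 : pResidual p (V ⧸ M) ≤ ⊥ := by
      haveI : IsPGroup p ((V ⧸ M) ⧸ (⊥ : Subgroup (V ⧸ M))) := hVM.to_quotient ⊥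
      exact pResidual_le this
    exact mem_bot.mp (h2 h1)
  have hlc : ∀ v : V, μ v * (s v)⁻¹ ∈ center (V ⧸ M) := by
    intro v
    refine hcen (MonoidHom.mem_ker.mpr ?_)
    rw [map_mul, map_inv, hs, hπv, mul_inv_cancel]
  let l : V →* V ⧸ M := MonoidHom.mk' (fun v => μ v * (s v)⁻¹) (by
    intro a b
    have h1 := mem_center_iff.mp (hlc b) (s a)⁻¹
    change μ (a * b) * (s (a * b : G))⁻¹ = μ a * (s a)⁻¹ * (μ b * (s b)⁻¹)
    rw [mul_assoc (μ a), h1, map_mul, map_mul, mul_inv_rev]
    simp only [mul_assoc])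
  have hlv : ∀ v : V, l v = μ v * (s v)⁻¹ := fun v => rfl
  have hlL : ∀ v ∈ L, l v = μ v := by
    intro v hv
    rw [hlv, hsK (v : G) hv, inv_one, mul_one]
  have hrange : l.range = L.map μ := by
    apply le_antisymm
    · rintro _ ⟨v, rfl⟩
      obtain ⟨w, hw⟩ := hμs (l v)
      refine ⟨w, ?_, hw⟩
      rw [SetLike.mem_coe, ← hπk, hw, hlv, map_mul, map_inv, hs, hπv, mul_inv_cancel]
    · rintro _ ⟨v, hv, rfl⟩
      exact ⟨v, hlL v hv⟩
  have hidx : l.ker.index = p := by
    rw [index_ker, hrange]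
    have h1 : Nat.card (L.map μ) * Nat.card M = Nat.card L := by
      have h2 : (L.map μ).comap μ = L := by
        rw [comap_map_eq, QuotientGroup.ker_mk', sup_eq_left.mpr hML.le]
      have h3 := card_comap_surj hμs (L.map μ)
      rw [h2, QuotientGroup.ker_mk'] at h3
      exact h3.symm
    rw [hMc] at h1
    exact Nat.eq_of_mul_eq_mul_right Nat.card_pos h1
  have h1 := h l.ker inferInstance hidx
  refine absurd (hML : M < L) (not_lt_of_ge ?_)
  intro v hv
  have h2 := h1 hv
  rw [MonoidHom.mem_ker, hlL v hv] at h2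
  exact (QuotientGroup.eq_one_iff _).mp h2

theorem pNil_of_top [Finite G] {p : ℕ} [hp : Fact p.Prime] (P : Sylow p G) (N : Subgroup G) [N.Normal]
    (hNP : N ⊔ P = ⊤) (h : ∀ M : Subgroup G, M ≤ P → M.relIndex P = p → N ⊓ P ≤ M) : PNil p G := by
  have hK : pResidual p G ≤ N := by
    refine pResidual_le ?_
    have h1 : Function.Surjective ((QuotientGroup.mk' N).comp (P : Subgroup G).subtype) := by
      intro x
      obtain ⟨g, rfl⟩ := QuotientGroup.mk_surjective x
      have hg : g ∈ N ⊔ P := by rw [hNP]; trivial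
      obtain ⟨n, hn, y, hy, rfl⟩ := mem_sup_of_normal_left.mp hg
      refine ⟨⟨y, hy⟩, ?_⟩
      refine (QuotientGroup.eq).mpr ?_
      have : y⁻¹ * (n * y) = y⁻¹ * n * y⁻¹⁻¹ := by group
      change y⁻¹ * (n * y) ∈ N
      rw [this]
      exact Subgroup.Normal.conj_mem inferInstance n hn _
    exact P.isPGroup'.of_surjective _ h1
  have h1 := tate (V := (P : Subgroup G)) P.not_dvd_index (by
    intro M _ hMi x hx
    have h2 := h (M.map (P : Subgroup G).subtype) (map_subtype_le M) (by
      rw [relIndex, ← comap_subtype, comap_map_eq_self_of_injective (subtype_injective _)]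
      exact hMi) ⟨hK hx, x.2⟩
    obtain ⟨y, hy, hyx⟩ := h2
    rwa [← Subtype.ext hyx])
  rw [pNil_iff_inf_pResidual P]
  have h2 : pResidual p (P : Subgroup G) ≤ ⊥ := by
    have : IsPGroup p (↥(P : Subgroup G) ⧸ (⊥ : Subgroup ↥(P : Subgroup G))) := P.isPGroup'.to_quotient ⊥
    exact pResidual_le this
  rw [← h1, le_bot_iff, subgroupOf_eq_bot] at h2
  exact h2.symm.eq_bot

/-- S0081 -/
theorem pNil_of_le_frattini [Finite G] {p : ℕ} [hp : Fact p.Prime] (P : Sylow p G) (N : Subgroup G) [N.Normal]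
    (h : N ⊓ (P : Subgroup G) ≤ (frattini P).map (P : Subgroup G).subtype) : PNil p N := by
  set H : Subgroup G := N ⊔ P with hH
  have hNH : N ≤ H := le_sup_left
  have hPH : (P : Subgroup G) ≤ H := le_sup_right
  have h1 : PNil p H := by
    refine pNil_of_top (P.subtype hPH) (N.subgroupOf H) ?_ ?_
    · have h2 : ((P.subtype hPH : Sylow p H) : Subgroup H) = (P : Subgroup G).subgroupOf H := rfl
      rw [h2, ← subgroupOf_sup hNH hPH, subgroupOf_self]
    · intro M hM hMi
      have h2 : ((P.subtype hPH : Sylow p H) : Subgroup H) = (P : Subgroup G).subgroupOf H := rfl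
      have h3 : ((P : Subgroup G).subgroupOf H).map H.subtype = P := map_subgroupOf_eq_of_le hPH
      rw [h2] at hM hMi ⊢
      have hMP : M.map H.subtype ≤ (P : Subgroup G) := by
        rw [← h3]; exact map_mono hM
      have h4 : (M.map H.subtype).relIndex (P : Subgroup G) = p := by
        refine Eq.trans ?_ hMi
        conv_lhs => rw [← h3]
        rw [relIndex_map_map_of_injective _ _ (subtype_injective H)]
      have h5 : frattini P ≤ (M.map H.subtype).subgroupOf P := by
        refine frattini_le_coatom ?_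
        have h6 : ((M.map H.subtype).subgroupOf (P : Subgroup G)).index = p := h4
        refine ⟨fun h7 => ?_, fun X hX => ?_⟩
        · rw [h7, index_top] at h6
          exact hp.out.one_lt.ne h6
        · have h7 : X.index ∣ p := (index_dvd_of_le hX.le).trans (dvd_of_eq h6)
          rcases (Nat.dvd_prime hp.out).mp h7 with h8 | h8
          · exact index_eq_one.mp h8
          · exfalso
            have h9 := relIndex_mul_index hX.le
            rw [h8, h6] at h9
            have h10 := Nat.eq_of_mul_eq_mul_right hp.out.pos (h9.trans (one_mul p).symm)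
            exact not_le_of_gt hX (relIndex_eq_one.mp h10)
      intro x hx
      have h6 : (x : G) ∈ N ⊓ (P : Subgroup G) := ⟨hx.1, hx.2⟩
      obtain ⟨y, hy, hyx⟩ := h h6
      obtain ⟨m, hm, hmx⟩ := h5 hy
      have h7 : m = x := by
        apply Subtype.ext
        rw [← hyx]
        exact hmx
      rwa [← h7]
  exact PNil.of_le h1 hNH

/-- the hypothesis of `tate` in the presence of control of fusion -/
theorem tate_of_control [Finite G] {p : ℕ} [hp : Fact p.Prime] (P : Sylow p G) {V : Subgroup G} (hPV : (P : Subgroup G) ≤ V)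
    (hfoc : (P : Subgroup G) ⊓ pResidual p G ≤ ⁅V, V⁆) : (pResidual p G).subgroupOf V = pResidual p V := by
  have hpp : p.Prime := hp.out
  have hVi : ¬ p ∣ V.index := fun h => P.not_dvd_index (h.trans (index_dvd_of_le hPV))
  haveI : (pResidual p G).Normal := pResidual_normal p
  refine tate hVi ?_
  intro M hM hMi x hx
  have hVM : IsPGroup p (V ⧸ M) := IsPGroup.of_card (n := 1) (by rw [← index_eq_card, hMi, pow_one])
  haveI : IsCyclic (V ⧸ M) := isCyclic_of_prime_card (by rw [← index_eq_card, hMi] : Nat.card (V ⧸ M) = p)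
  have hVV : ∀ y : V, (y : G) ∈ ⁅V, V⁆ → y ∈ M := by
    intro y hy
    have h1 : ⁅V, V⁆ ≤ M.map V.subtype := by
      rw [commutator_le]
      intro a ha b hb
      refine ⟨⁅(⟨a, ha⟩ : V), (⟨b, hb⟩ : V)⁆, ?_, rfl⟩
      refine (QuotientGroup.eq_one_iff _).mp ?_
      change QuotientGroup.mk' M _ = 1
      rw [map_commutatorElement, commutatorElement_eq_one_iff_mul_comm]
      letI := IsCyclic.commGroup (α := V ⧸ M)
      exact mul_comm _ _
    obtain ⟨z, hz, hzy⟩ := h1 hy
    rwa [← Subtype.ext hzy]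
  obtain ⟨m, n, h1, ⟨a, h2⟩, h3⟩ := PPart.decomp p x
  have hxn : x ^ n ∈ M := by
    refine (QuotientGroup.eq_one_iff _).mp ?_
    change QuotientGroup.mk' M _ = 1
    have h4 : (orderOf (QuotientGroup.mk' M (x ^ n))).Coprime p :=
      Nat.Coprime.coprime_dvd_left (orderOf_map_dvd _ _) h3
    obtain ⟨k, hk⟩ := hVM (QuotientGroup.mk' M (x ^ n))
    have h5 := orderOf_dvd_of_pow_eq_one hk
    rw [← orderOf_eq_one_iff]
    exact Nat.eq_one_of_dvd_coprimes (Nat.Coprime.pow_right k h4) dvd_rfl h5
  have hxm : x ^ m ∈ M := by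
    -- conjugate into `P`
    have h4 : IsPGroup p (zpowers (x ^ m)) := by
      obtain ⟨k, -, hk⟩ := (Nat.dvd_prime_pow hpp).mp h2
      exact IsPGroup.of_card (n := k) (by rw [Nat.card_zpowers, hk])
    obtain ⟨Q, hQ⟩ := h4.exists_le_sylow
    obtain ⟨v, hv⟩ := MulAction.exists_smul_eq V Q (P.subtype hPV)
    have h5 : v * x ^ m * v⁻¹ ∈ ((P.subtype hPV : Sylow p V) : Subgroup V) := by
      rw [← hv]
      exact ⟨x ^ m, hQ (mem_zpowers _), rfl⟩
    have h6 : ((v * x ^ m * v⁻¹ : V) : G) ∈ (P : Subgroup G) := h5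
    have h7 : v * x ^ m * v⁻¹ ∈ (pResidual p G).subgroupOf V :=
      Subgroup.Normal.conj_mem inferInstance _ (pow_mem hx m) v
    have h8 := hVV _ (hfoc ⟨h6, h7⟩)
    have h9 := hM.conj_mem _ h8 v⁻¹
    have h10 : v⁻¹ * (v * x ^ m * v⁻¹) * v⁻¹⁻¹ = x ^ m := by group
    rwa [h10] at h9
  rw [h1]
  exact mul_mem hxm hxn

end Cfsg.Agent.Lib.Tate
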