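import Cfsg.Agent.Lib.BlockRey
import Cfsg.Agent.Lib.BlockKB
import Cfsg.Agent.Lib.BlockLar
import Cfsg.Agent.Lib.BlockMaxB
import Cfsg.Agent.Lib.BlockIndIn
import Cfsg.Agent.Lib.BlockBFM

import Cfsg.Agent.Lib.BlkH8B
import Cfsg.Agent.Lib.BlockKul
import Cfsg.Agent.Lib.CharLin
import Cfsg.Agent.Lib.CharInd
import Cfsg.Agent.Lib.Tate
import Cfsg.Agent.Lib.PRes

/-!
Characters of p'-degree in the principal block and normal p-complements.
-/

set_option autoImplicit false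
set_option linter.style.haveILetI false
set_option linter.unusedVariables false
set_option linter.unusedSectionVars false
set_option linter.unusedDecidableInType false
set_option linter.unusedFintypeInType false
set_option linter.unusedSimpArgs false

namespace Cfsg.Agent.Lib.BlkH8C
open Cfsg Cfsg.Agent.Lib.BlockLoc Cfsg.Agent.Lib.BlockGA Cfsg.Agent.Lib.CharBasic
open Cfsg.Agent.Lib.BlockIdem Cfsg.Agent.Lib.BlockPP Cfsg.Agent.Lib.BlockOrth
open Cfsg.Agent.Lib.BlockRed Cfsg.Agent.Lib.BlockDef Cfsg.Agent.Lib.BlockDeg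
open Cfsg.Agent.Lib.BlockNP Cfsg.Agent.Lib.BlockInd Cfsg.Agent.Lib.BlockSecond
open Cfsg.Agent.Lib.BlockFirst Cfsg.Agent.Lib.BlockHt Cfsg.Agent.Lib.BlockM
open Cfsg.Agent.Lib.BlockCov Cfsg.Agent.Lib.BlockQuot Cfsg.Agent.Lib.CharKer
open Cfsg.Agent.Lib.BlockQuotB Cfsg.Agent.Lib.BlockMore Cfsg.Agent.Lib.BlockMoreB
open Cfsg.Agent.Lib.BlockTr Cfsg.Agent.Lib.CharNormal Cfsg.Agent.Lib.BlockCovB
open Cfsg.Agent.Lib.BlockBP Cfsg.Agent.Lib.BlockInt Cfsg.Agent.Lib.BlockSum Cfsg.Agent.Lib.BlockRk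
open Cfsg.Agent.Lib.BlockFusB Cfsg.Agent.Lib.BlockMax Cfsg.Agent.Lib.CharSplit Cfsg.Agent.Lib.CharBrauer
open Cfsg.Agent.Lib.CharInd Cfsg.Agent.Lib.BlockPC Cfsg.Agent.Lib.BlockPair Cfsg.Agent.Lib.BlockPairB
open Cfsg.Agent.Lib.BlockPairC Cfsg.Agent.Lib.BlockPairD Cfsg.Agent.Lib.BlockPairE
open Cfsg.Agent.Lib.BlockRey Cfsg.Agent.Lib.BlockPairF Cfsg.Agent.Lib.BlockFus Cfsg.Agent.Lib.BlockNilB Cfsg.Agent.Lib.BlockNil Cfsg.Agent.Lib.CharClifford
open Cfsg.Agent.Lib.BlockKB Cfsg.Agent.Lib.BlockLar Cfsg.Agent.Lib.BlockMaxB Cfsg.Agent.Lib.BlockIndIn Cfsg.Agent.Lib.BlockBFM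
open Cfsg.Agent.Lib.BlkH8B
open scoped ComplexConjugate

open Cfsg.Agent.Lib.BlockKul

section Unit

variable {G : Type*} [Group G] [Fintype G] {p : ℕ} {M : Ideal AlgInt}

/-- A block part of `p'`-degree has a constituent of `p'`-degree. -/
theorem exists_of_unit (hM : IsPModular p M) {f : G → ℂ} (hf : IsCharacter G f)
    {B : Set (IrrCharacter G)} (h : ¬ MemLocalIdeal M (blockPart B f 1)) :
    ∃ χ ∈ B, ¬ p ∣ charDegree χ.1 ∧ ∃ a : ℕ, classInner f χ.1 = a ∧ ¬ p ∣ a := by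
  classical
  by_contra hcon
  push Not at hcon
  refine h ?_
  rw [blockPart_eq]
  refine max_sum hM _ _ fun χ hχ => ?_
  obtain ⟨a, ha⟩ := exists_nat_inner hf χ.2
  rw [ha, ← charDegree_cast (isChar_of_irr χ.2)]
  by_cases hd : p ∣ charDegree χ.1
  · exact max_mul_left hM (loc_natCast hM a) ((max_natCast_iff hM _).2 hd)
  · have := hcon χ (Finset.mem_filter.1 hχ).2 hd a ha
    exact max_mul_right hM ((max_natCast_iff hM _).2 this) (loc_natCast hM _)

theorem nf_one (hp : p.Prime) : nf p (1 : G) = 1 := by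
  unfold nf
  rw [Nat.card_eq_one_iff_unique]
  constructor
  · constructor
    rintro ⟨⟨x, y⟩, ⟨k, hk⟩, hy, hxy⟩ ⟨⟨x', y'⟩, ⟨k', hk'⟩, hy', hxy'⟩
    have key : ∀ (x y : G) (k : ℕ), orderOf x = p ^ k → ¬ p ∣ orderOf y → x * y = 1 → x = 1 ∧ y = 1 := by
      intro x y k hk hy hxy
      have e : y = x⁻¹ := (inv_eq_of_mul_eq_one_right hxy).symm
      rw [e, orderOf_inv, hk] at hy
      have hk0 : k = 0 := by
        by_contra h0
        exact hy (dvd_pow_self p h0)
      rw [hk0, pow_zero, orderOf_eq_one_iff] at hk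
      exact ⟨hk, by rw [e, hk, inv_one]⟩
    obtain ⟨e1, e2⟩ := key x y k hk hy hxy
    obtain ⟨e3, e4⟩ := key x' y' k' hk' hy' hxy'
    simp only [Subtype.mk.injEq, Prod.mk.injEq]
    exact ⟨e1.trans e3.symm, e2.trans e4.symm⟩
  · exact ⟨⟨⟨1, 1⟩, ⟨0, by simp⟩, by rw [orderOf_one]; exact fun h => hp.one_lt.ne' (Nat.dvd_one.1 h), by simp⟩⟩

theorem bc_one (hM : IsPModular p M) : ¬ MemLocalIdeal M (blockCoeff (principalBlock M G) 1) := by
  intro h
  have h1 := kulshammer hM (1 : G) (by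
    rw [orderOf_one]; exact fun h => hM.1.one_lt.ne' (Nat.dvd_one.1 h))
  rw [nf_one hM.1] at h1
  have h2 := (max_iff_of_sub hM h1).1 h
  have h3 := max_mul_left hM (loc_natCast hM (Nat.card {y : G // ¬ p ∣ orderOf y})) h2
  have hne : ((Nat.card {y : G // ¬ p ∣ orderOf y} : ℕ) : ℂ) ≠ 0 := by
    haveI : Nonempty {y : G // ¬ p ∣ orderOf y} :=
      ⟨⟨1, by rw [orderOf_one]; exact fun h => hM.1.one_lt.ne' (Nat.dvd_one.1 h)⟩⟩
    exact_mod_cast (Nat.card_pos (α := {y : G // ¬ p ∣ orderOf y})).ne'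
  rw [mul_div_cancel₀ _ hne, Nat.cast_one] at h3
  exact not_max_one hM h3

theorem om_res_sylow (hM : IsPModular p M) [Fact p.Prime] (P : Sylow p G)
    (ξ : IrrCharacter (P : Subgroup G)) :
    om ξ.1 (resGA (P : Subgroup G) (eB (principalBlock M G))) =
      blockCoeff (principalBlock M G) 1 := by
  classical
  haveI : Fintype (P : Subgroup G) := Fintype.ofFinite _
  have h1 : ξ.1 1 ≠ 0 := isIrr_one_ne_zero ξ.2
  rw [om_eq, Finset.sum_eq_single (1 : (P : Subgroup G))]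
  · rw [resGA_apply, eB_apply, mul_div_assoc, div_self h1, mul_one]
    rfl
  · intro s _ hs
    have hk' : p ∣ orderOf (s : G) := by
      obtain ⟨k, hk⟩ := IsPGroup.iff_orderOf.1 P.2 s
      rw [Subgroup.orderOf_coe, hk]
      refine dvd_pow_self p ?_
      rintro rfl
      rw [pow_zero, orderOf_eq_one_iff] at hk
      exact hs hk
    rw [resGA_apply, eB_apply, blockCoeff_eq_zero hM (isLoc_eB hM (principal_isPBlock M G)) hk', zero_mul]
  · intro h; exact absurd (Finset.mem_univ _) h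

/-- Above each linear character of a Sylow subgroup there is a `p'`-degree character of the
principal block. -/
theorem lin_above (hM : IsPModular p M) [Fact p.Prime] (P : Sylow p G)
    [Fintype (P : Subgroup G)] (l : (P : Subgroup G) →* ℂˣ) :
    ∃ χ ∈ principalBlock M G, ¬ p ∣ charDegree χ.1 ∧
      classInner (fun x : (P : Subgroup G) => (l x : ℂ)) (fun x : (P : Subgroup G) => χ.1 x) ≠ 0 := by
  classical
  let ξ : IrrCharacter (P : Subgroup G) := ⟨fun x => (l x : ℂ), isIrr_lin l⟩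
  have h1 : ¬ MemLocalIdeal M (blockPart (principalBlock M G) (indFun (P : Subgroup G) ξ.1) 1) := by
    rw [blockPart_ind_one, om_res_sylow hM P ξ]
    have e : ξ.1 1 = 1 := by simp [ξ]
    rw [e, mul_one]
    refine not_max_mul hM (loc_natCast hM _) (isLoc_eB hM (principal_isPBlock M G) 1) ?_ (bc_one hM)
    rw [max_natCast_iff hM]
    exact P.not_dvd_index
  obtain ⟨χ, hχ, hd, a, ha, hpa⟩ := exists_of_unit hM
    (Cfsg.Agent.Lib.CharInd.isChar_ind _ (isChar_of_irr ξ.2)) h1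
  refine ⟨χ, hχ, hd, ?_⟩
  rw [Cfsg.Agent.Lib.CharInd.reciprocity _ _ _ (isChar_classFn (isChar_of_irr χ.2))] at ha
  rw [ha]
  intro h0
  rw [Nat.cast_eq_zero] at h0
  exact hpa (h0 ▸ dvd_zero p)

theorem lin_above_eq (hM : IsPModular p M) [Fact p.Prime] (P : Sylow p G)
    (h : ∀ χ ∈ principalBlock M G, ¬ p ∣ charDegree χ.1 → χ.1 1 = 1)
    (l : (P : Subgroup G) →* ℂˣ) :
    ∃ m : G →* ℂˣ, (⟨fun x => (m x : ℂ), isIrr_lin m⟩ : IrrCharacter G) ∈ principalBlock M G ∧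
      ∀ x : (P : Subgroup G), m x = l x := by
  classical
  haveI : Fintype (P : Subgroup G) := Fintype.ofFinite _
  obtain ⟨χ, hχ, hd, hne⟩ := lin_above hM P l
  obtain ⟨m, hm⟩ := exists_lin_of_one (isChar_of_irr χ.2) (h χ hχ hd)
  have hm' : χ = ⟨fun x => (m x : ℂ), isIrr_lin m⟩ := Subtype.ext hm
  refine ⟨m, hm' ▸ hχ, fun x => ?_⟩
  rw [hm] at hne
  have e := irr_eq_of_inner_ne_zero (isIrr_lin l) (isIrr_lin (m.comp (P : Subgroup G).subtype)) hne
  have := congrFun e x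
  exact (Units.ext this).symm

end Unit

section Nilp

variable {G : Type*} [Group G] [Finite G] {p : ℕ} {M : Ideal AlgInt}

theorem hasNormalPComplement_of_lin [Fact p.Prime] (P : Sylow p G)
    (h : ∀ l : (P : Subgroup G) →* ℂˣ, ∃ m : G →* ℂˣ, ∀ x : (P : Subgroup G), m x = l x) :
    HasNormalPComplement p G := by
  classical
  have hp : p.Prime := Fact.out
  have hKn : (pResidual p G).Normal := Cfsg.Agent.Lib.PRes.normal p G
  have hfoc : (P : Subgroup G) ⊓ pResidual p G ≤ ⁅(P : Subgroup G), (P : Subgroup G)⁆ := by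
    rintro x ⟨hxP, hxK⟩
    rw [← Subgroup.map_subtype_commutator]
    refine ⟨⟨x, hxP⟩, ?_, rfl⟩
    by_contra hcon
    obtain ⟨l, hl⟩ := Cfsg.Agent.Lib.CharLin.exists_lin_ne_one hcon
    obtain ⟨m, hm⟩ := h l
    refine hl ?_
    rw [← hm]
    obtain ⟨c1, c2⟩ := cexp_spec hp (Nat.card_pos (α := G)).ne'
    set N := cexp p (Nat.card G) with hN
    have hker : pResidual p G ≤ (m ^ N).ker := by
      unfold pResidual
      rw [Subgroup.closure_le]
      intro g hg
      have h1 : orderOf g ∣ Nat.card G / p ^ (Nat.card G).factorization p := by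
        have h2 : Nat.Coprime (orderOf g) (p ^ (Nat.card G).factorization p) := Nat.Coprime.pow_right _ hg
        have h3 : p ^ (Nat.card G).factorization p * (Nat.card G / p ^ (Nat.card G).factorization p) = Nat.card G :=
          Nat.ordProj_mul_ordCompl_eq_self _ _
        exact h2.dvd_of_dvd_mul_left (by rw [h3]; exact orderOf_dvd_natCard g)
      have h2 : orderOf g ∣ N := h1.trans ((Nat.modEq_zero_iff_dvd).1 c2)
      change (m ^ N) g = 1
      rw [MonoidHom.pow_apply, ← map_pow, orderOf_dvd_iff_pow_eq_one.1 h2, map_one]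
    have hx1 : (m ^ N) x = 1 := hker hxK
    rw [MonoidHom.pow_apply, ← map_pow] at hx1
    have hxN : x ^ N = x := by
      conv_rhs => rw [← pow_one x]
      rw [pow_eq_pow_iff_modEq]
      refine c1.of_dvd ?_
      obtain ⟨k, hk⟩ := IsPGroup.iff_orderOf.1 P.2 ⟨x, hxP⟩
      rw [← Subgroup.orderOf_coe] at hk
      have hk' : orderOf x = p ^ k := hk
      rw [hk']
      refine (Nat.pow_dvd_pow_iff_le_right hp.one_lt).2 ?_
      have : orderOf x ∣ Nat.card G := orderOf_dvd_natCard _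
      rw [hk'] at this
      exact (hp.pow_dvd_iff_le_factorization Nat.card_pos.ne').1 this
    rw [hxN] at hx1
    exact hx1
  have ht := Cfsg.Agent.Lib.Tate.tate_of_control P (le_refl (P : Subgroup G)) hfoc
  rw [Cfsg.Agent.Lib.PRes.eq_bot_of_isPGroup P.2] at ht
  refine ⟨P, pResidual p G, hKn, ?_⟩
  refine Subgroup.isComplement'_of_disjoint_and_mul_eq_univ ?_ ?_
  · exact (Subgroup.subgroupOf_eq_bot.1 ht)
  · rw [← Subgroup.normal_mul, Cfsg.Agent.Lib.PRes.sup_eq_top P.not_dvd_index]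
    rfl

end Nilp

end Cfsg.Agent.Lib.BlkH8C
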