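import Cfsg.Agent.Lib.BlockRey
import Cfsg.Agent.Lib.BlockKB
import Cfsg.Agent.Lib.BlockLar
import Cfsg.Agent.Lib.BlockMaxB
import Cfsg.Agent.Lib.BlockIndIn
import Cfsg.Agent.Lib.BlockBFM

import Cfsg.Agent.Lib.BlkH8C

/-!
The principal block idempotent on the centralizer of a Sylow subgroup.
-/

set_option autoImplicit false
set_option linter.style.haveILetI false
set_option linter.unusedVariables false
set_option linter.unusedSectionVars false
set_option linter.unusedDecidableInType false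
set_option linter.unusedFintypeInType false
set_option linter.unusedSimpArgs false

namespace Cfsg.Agent.Lib.BlkH8D
open Cfsg Cfsg.Agent.Lib.BlockLoc Cfsg.Agent.Lib.BlockGA Cfsg.Agent.Lib.CharBasic
open Cfsg.Agent.Lib.BlockIdem Cfsg.Agent.Lib.BlockPP Cfsg.Agent.Lib.BlockOrth
open Cfsg.Agent.Lib.BlockRed Cfsg.Agent.Lib.BlockDef Cfsg.Agent.Lib.BlockDeg
open Cfsg.Agent.Lib.BlockNP Cfsg.Agent.Lib.BlockInd Cfsg.Agent.Lib.BlockSecond
open Cfsg.Agent.Lib.BlockFirst Cfsg.Agent.Lib.BlockHt Cfsg.Agent.Lib.BlockM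
open Cfsg.Agent.Lib.BlockCov Cfsg.Agent.Lib.BlockQuot Cfsg.Agent.Lib.CharKer
open Cfsg.Agent.Lib.BlockQuotB Cfsg.Agent.Lib.BlockMore Cfsg.Agent.Lib.BlockMoreB
open Cfsg.Agent.Lib.BlockTr Cfsg.Agent.Lib.CharNormal Cfsg.Agent.Lib.BlockCovB
open Cfsg.Agent.Lib.BlockBP Cfsg.Agent.Lib.BlockInt Cfsg.Agent.Lib.BlockSum Cfsg.Agent.Lib.BlockRk
open Cfsg.Agent.Lib.BlockFusB Cfsg.Agent.Lib.BlockMax Cfsg.Agent.Lib.CharSplit Cfsg.Agent.Lib.CharBrauer
open Cfsg.Agent.Lib.CharInd Cfsg.Agent.Lib.BlockPC Cfsg.Agent.Lib.BlockPair Cfsg.Agent.Lib.BlockPairB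
open Cfsg.Agent.Lib.BlockPairC Cfsg.Agent.Lib.BlockPairD Cfsg.Agent.Lib.BlockPairE
open Cfsg.Agent.Lib.BlockRey Cfsg.Agent.Lib.BlockPairF Cfsg.Agent.Lib.BlockFus Cfsg.Agent.Lib.BlockNilB Cfsg.Agent.Lib.BlockNil Cfsg.Agent.Lib.CharClifford
open Cfsg.Agent.Lib.BlockKB Cfsg.Agent.Lib.BlockLar Cfsg.Agent.Lib.BlockMaxB Cfsg.Agent.Lib.BlockIndIn Cfsg.Agent.Lib.BlockBFM
open Cfsg.Agent.Lib.BlkH8C
open scoped ComplexConjugate

open Cfsg.Agent.Lib.BlockKul

section Reg

variable {G : Type*} [Group G] [Finite G] {p : ℕ} {M : Ideal AlgInt}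

theorem mem_of_commute_sylow [Fact p.Prime] (P : Sylow p G) {u : G}
    (hu : ∃ k, orderOf u = p ^ k) (hc : ∀ x ∈ (P : Subgroup G), Commute x u) :
    u ∈ (P : Subgroup G) := by
  have h1 : IsPGroup p (Subgroup.zpowers u) := (isPGroup_zpowers_iff Fact.out u).2 hu
  have h2 : Subgroup.zpowers u ≤ Subgroup.normalizer ((P : Subgroup G) : Set G) := by
    rw [Subgroup.zpowers_le]
    refine Subgroup.centralizer_le_normalizer _ ?_
    rw [Subgroup.mem_centralizer_iff]
    exact fun x hx => (hc x hx).eq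
  have h3 : IsPGroup p ((P : Subgroup G) ⊔ Subgroup.zpowers u : Subgroup G) := by
    rw [sup_comm]
    exact h1.to_sup_of_normal_right' P.2 h2
  have h4 := P.3 h3 le_sup_left
  rw [← h4]
  exact (le_sup_right : Subgroup.zpowers u ≤ _) (Subgroup.mem_zpowers u)

theorem card_reg_unit (hM : IsPModular p M) : ¬ p ∣ Nat.card {y : G // ¬ p ∣ orderOf y} := by
  intro hd
  have h1 := kulshammer hM (1 : G) (by
    rw [orderOf_one]; exact fun h => hM.1.one_lt.ne' (Nat.dvd_one.1 h))
  cases nonempty_fintype G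
  rw [nf_one hM.1] at h1
  have hl := (loc_iff_of_sub hM h1).1 (isLoc_eB hM (principal_isPBlock M G) 1)
  have hne : ((Nat.card {y : G // ¬ p ∣ orderOf y} : ℕ) : ℂ) ≠ 0 := by
    haveI : Nonempty {y : G // ¬ p ∣ orderOf y} :=
      ⟨⟨1, by rw [orderOf_one]; exact fun h => hM.1.one_lt.ne' (Nat.dvd_one.1 h)⟩⟩
    exact_mod_cast (Nat.card_pos (α := {y : G // ¬ p ∣ orderOf y})).ne'
  have h3 := max_mul_left hM hl ((max_natCast_iff hM _).2 hd)
  rw [div_mul_cancel₀ _ hne, Nat.cast_one] at h3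
  exact not_max_one hM h3

theorem nf_cent (hM : IsPModular p M) [Fact p.Prime] (P : Sylow p G) {x : G}
    (hx : ∀ q ∈ (P : Subgroup G), Commute q x) (hr : ¬ p ∣ orderOf x) :
    ((nf p x : ℕ) : ResF hM) = 1 := by
  classical
  cases nonempty_fintype G
  have hp : p.Prime := Fact.out
  rw [nf_eq, Finset.card_filter]
  push_cast
  rw [sum_eq_sum_centralizer (p := p) P.2 (fun y : G => if (¬ p ∣ orderOf y ∧ ∃ k : ℕ, orderOf (y * x⁻¹) = p ^ k)
    then (1 : ResF hM) else 0)]
  · rw [Finset.sum_eq_single x]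
    · rw [if_pos]
      exact ⟨hr, 0, by rw [mul_inv_cancel, orderOf_one, pow_zero]⟩
    · intro y hy hne
      rw [if_neg]
      rintro ⟨h1, h2⟩
      have hyc := (Finset.mem_filter.1 hy).2
      have hu := mem_of_commute_sylow P h2 (fun q hq => (hyc q hq).mul_right (hx q hq).inv_right)
      have hcx : Commute (y * x⁻¹) x := hx _ hu
      have e1 : pp p (y * x⁻¹ * x) = y * x⁻¹ := pp_mul_eq hp hcx h2 hr
      rw [inv_mul_cancel_right, (pp_eq_one_iff hp y).2 h1] at e1
      exact hne (mul_inv_eq_one.1 e1.symm)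
    · intro h
      exact absurd (Finset.mem_filter.2 ⟨Finset.mem_univ _, hx⟩) h
  · intro q hq y
    have e1 : orderOf (q * y * q⁻¹) = orderOf y := orderOf_conj _ _
    have e2 : q * y * q⁻¹ * x⁻¹ = q * (y * x⁻¹) * q⁻¹ := by
      have : q⁻¹ * x⁻¹ = x⁻¹ * q⁻¹ := by
        have := (hx q hq).inv_inv
        exact this.eq
      rw [mul_assoc, this]
      group
    rw [e1, e2, orderOf_conj]

/-- The reduction of the principal block idempotent at the elements centralizing a Sylow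
subgroup. -/
theorem eF_cent (hM : IsPModular p M) [Fact p.Prime] (P : Sylow p G) {x : G}
    (hx : ∀ q ∈ (P : Subgroup G), Commute q x) (hr : ¬ p ∣ orderOf x) :
    (eF hM (principalBlock M G)) x = ((Nat.card {y : G // ¬ p ∣ orderOf y} : ℕ) : ResF hM)⁻¹ := by
  rw [eF_apply]
  have h1 := kulshammer hM x hr
  have hN := card_reg_unit (G := G) hM
  have hNm : ¬ MemLocalIdeal M ((Nat.card {y : G // ¬ p ∣ orderOf y} : ℕ) : ℂ) := by
    rwa [max_natCast_iff hM]
  have l1 : MemLocalRing M (blockCoeff (principalBlock M G) x) := isLoc_eB hM (principal_isPBlock M G) x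
  have l2 : MemLocalRing M ((nf p x : ℂ) / (Nat.card {y : G // ¬ p ∣ orderOf y} : ℂ)) :=
    loc_div hM (loc_natCast hM _) (loc_natCast hM _) hNm
  rw [← red_eq_iff hM l1 l2] at h1
  have e : red hM ((nf p x : ℂ) / (Nat.card {y : G // ¬ p ∣ orderOf y} : ℂ)) *
      ((Nat.card {y : G // ¬ p ∣ orderOf y} : ℕ) : ResF hM) = 1 := by
    rw [← red_natCast hM, ← red_mul hM l2 (loc_natCast hM _), div_mul_cancel₀ _ (ne_zero_of_not_max hM hNm),
      red_natCast, nf_cent hM P hx hr]
  rw [h1]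
  exact eq_inv_of_mul_eq_one_left e

theorem sum_normal_unit (hM : IsPModular p M) [Fact p.Prime] (P : Sylow p G) (N : Subgroup G)
    [N.Normal] [Fintype N] :
    ¬ MemLocalIdeal M (∑ n : N, blockCoeff (principalBlock M G) (n : G)) := by
  classical
  cases nonempty_fintype G
  have hl := isLoc_eB hM (principal_isPBlock M G)
  have hl' : ∀ g, MemLocalRing M (blockCoeff (principalBlock M G) g) := hl
  intro hmax
  rw [← red_eq_zero_iff hM (loc_sum hM _ _ fun n _ => hl' _)] at hmax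
  rw [red_sum hM _ _ (fun n _ => hl' _)] at hmax
  have e1 : ∑ n : N, red hM (blockCoeff (principalBlock M G) (n : G)) =
      ∑ g : G, if g ∈ N then (eF hM (principalBlock M G)) g else 0 := by
    rw [← Finset.sum_filter]
    rw [Finset.sum_subtype (s := Finset.univ.filter (· ∈ N)) (p := (· ∈ N)) (by simp)
      (f := fun g => (eF hM (principalBlock M G)) g)]
    exact Fintype.sum_congr _ _ fun n => rfl
  rw [e1, sum_eq_sum_centralizer (p := p) P.2] at hmax
  · have e2 : ∀ g ∈ Finset.univ.filter (fun x : G => ∀ q ∈ (P : Subgroup G), Commute q x),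
        (if g ∈ N then (eF hM (principalBlock M G)) g else 0) =
        if (g ∈ N ∧ ¬ p ∣ orderOf g) then ((Nat.card {y : G // ¬ p ∣ orderOf y} : ℕ) : ResF hM)⁻¹ else 0 := by
      intro g hg
      by_cases h1 : g ∈ N
      · by_cases h2 : p ∣ orderOf g
        · rw [if_pos h1, if_neg (fun h => h.2 h2), eF_apply, blockCoeff_eq_zero hM hl h2, red_zero]
        · rw [if_pos h1, if_pos ⟨h1, h2⟩, eF_cent hM P (Finset.mem_filter.1 hg).2 h2]
      · rw [if_neg h1, if_neg (fun h => h1 h.1)]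
    rw [Finset.sum_congr rfl e2, ← Finset.sum_filter, Finset.sum_const, nsmul_eq_mul] at hmax
    have hN := card_reg_unit (G := G) hM
    have hN' : ((Nat.card {y : G // ¬ p ∣ orderOf y} : ℕ) : ResF hM) ≠ 0 := by
      rw [Ne, CharP.cast_eq_zero_iff (ResF hM) p]; exact hN
    rcases mul_eq_zero.1 hmax with h | h
    · rw [CharP.cast_eq_zero_iff (ResF hM) p] at h
      let Y : Subgroup G := Subgroup.centralizer ((P : Subgroup G) : Set G) ⊓ N
      refine card_reg_unit (G := Y) hM ?_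
      rw [Finset.filter_filter] at h
      convert h using 1
      rw [← Fintype.card_subtype, ← Nat.card_eq_fintype_card]
      refine Nat.card_congr ⟨fun y => ⟨((y : Y) : G), ?_, ?_, ?_⟩, fun y => ⟨⟨y, ?_, y.2.2.1⟩, ?_⟩, fun _ => rfl, fun _ => rfl⟩
      · intro q hq
        exact (Subgroup.mem_centralizer_iff.1 (y : Y).2.1 q hq)
      · exact (y : Y).2.2
      · rw [Subgroup.orderOf_coe]; exact y.2
      · exact Subgroup.mem_centralizer_iff.2 fun q hq => (y.2.1 q hq).eq
      · have := y.2.2.2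
        rw [← Subgroup.orderOf_coe]
        exact this
    · exact inv_ne_zero hN' h
  · intro q _ x
    have h1 : q * x * q⁻¹ ∈ N ↔ x ∈ N := by
      constructor
      · intro h
        have := (inferInstance : N.Normal).conj_mem _ h q⁻¹
        simpa [mul_assoc] using this
      · intro h
        exact (inferInstance : N.Normal).conj_mem _ h q
    have h2 : (eF hM (principalBlock M G)) (q * x * q⁻¹) = (eF hM (principalBlock M G)) x :=
      eF_isCl hM _ x q
    by_cases h : x ∈ N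
    · rw [if_pos h, if_pos (h1.2 h), h2]
    · rw [if_neg h, if_neg (fun hh => h (h1.1 hh))]

end Reg

end Cfsg.Agent.Lib.BlkH8D
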