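import Cfsg.Agent.Lib.BlockRey
import Cfsg.Agent.Lib.BlockKB
import Cfsg.Agent.Lib.BlockLar
import Cfsg.Agent.Lib.BlockMaxB
import Cfsg.Agent.Lib.BlockIndIn
import Cfsg.Agent.Lib.BlockBFM

import Cfsg.Agent.Lib.BlkH8D
import Cfsg.Agent.Lib.Basic
import Cfsg.Agent.Lib.BlockCov

/-!
Height zero characters fixed by a p-group acting on a block of a normal subgroup.
-/

set_option autoImplicit false
set_option linter.style.haveILetI false
set_option linter.unusedVariables false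
set_option linter.unusedSectionVars false
set_option linter.unusedDecidableInType false
set_option linter.unusedFintypeInType false
set_option linter.unusedSimpArgs false

namespace Cfsg.Agent.Lib.BlkH8E
open Cfsg Cfsg.Agent.Lib.BlockLoc Cfsg.Agent.Lib.BlockGA Cfsg.Agent.Lib.CharBasic
open Cfsg.Agent.Lib.BlockIdem Cfsg.Agent.Lib.BlockPP Cfsg.Agent.Lib.BlockOrth
open Cfsg.Agent.Lib.BlockRed Cfsg.Agent.Lib.BlockDef Cfsg.Agent.Lib.BlockDeg
open Cfsg.Agent.Lib.BlockNP Cfsg.Agent.Lib.BlockInd Cfsg.Agent.Lib.BlockSecond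
open Cfsg.Agent.Lib.BlockFirst Cfsg.Agent.Lib.BlockHt Cfsg.Agent.Lib.BlockM
open Cfsg.Agent.Lib.BlockCov Cfsg.Agent.Lib.BlockQuot Cfsg.Agent.Lib.CharKer
open Cfsg.Agent.Lib.BlockQuotB Cfsg.Agent.Lib.BlockMore Cfsg.Agent.Lib.BlockMoreB
open Cfsg.Agent.Lib.BlockTr Cfsg.Agent.Lib.CharNormal Cfsg.Agent.Lib.BlockCovB
open Cfsg.Agent.Lib.BlockBP Cfsg.Agent.Lib.BlockInt Cfsg.Agent.Lib.BlockSum Cfsg.Agent.Lib.BlockRk
open Cfsg.Agent.Lib.BlockFusB Cfsg.Agent.Lib.BlockMax Cfsg.Agent.Lib.CharSplit Cfsg.Agent.Lib.CharBrauer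
open Cfsg.Agent.Lib.CharInd Cfsg.Agent.Lib.BlockPC Cfsg.Agent.Lib.BlockPair Cfsg.Agent.Lib.BlockPairB
open Cfsg.Agent.Lib.BlockPairC Cfsg.Agent.Lib.BlockPairD Cfsg.Agent.Lib.BlockPairE
open Cfsg.Agent.Lib.BlockRey Cfsg.Agent.Lib.BlockPairF Cfsg.Agent.Lib.BlockFus Cfsg.Agent.Lib.BlockNilB Cfsg.Agent.Lib.BlockNil Cfsg.Agent.Lib.CharClifford
open Cfsg.Agent.Lib.BlockKB Cfsg.Agent.Lib.BlockLar Cfsg.Agent.Lib.BlockMaxB Cfsg.Agent.Lib.BlockIndIn Cfsg.Agent.Lib.BlockBFM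
open Cfsg.Agent.Lib.BlkH8D Cfsg.Agent.Lib.BlockCov
open scoped ComplexConjugate

section Fix

variable {G : Type*} [Group G] [Finite G] {p : ℕ} {M : Ideal AlgInt} {H : Subgroup G} [hH : H.Normal]

theorem index_sum (hM : IsPModular p M) {b : Set (IrrCharacter H)} (hb : IsPBlock M b)
    [DecidablePred (· ∈ b)] (S : Subgroup H) [Fintype S] (hS : IsPGroup p S)
    (n : IrrCharacter H → ℕ)
    (hn : ∀ χ : IrrCharacter H, ∑ u : S, χ.1 (u : H) = (Nat.card S : ℂ) * n χ)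
    {ψ : IrrCharacter H} (hψ : ψ ∈ b) :
    ((S.index : ℕ) : ResF hM) = ∑ χ ∈ Finset.univ.filter (· ∈ b), (n χ : ResF hM) * lz hM ψ χ := by
  classical
  have hl := isLoc_eB hM hb
  have key : (S.index : ℂ) • eB b = ∑ χ ∈ Finset.univ.filter (· ∈ b), (n χ : ℂ) • zr p χ.1 := by
    ext y
    rw [ga_smul, ga_sum]
    by_cases hy : p ∣ orderOf y
    · rw [eB_apply, blockCoeff_eq_zero hM hl hy, mul_zero]
      symm
      refine Finset.sum_eq_zero fun χ _ => ?_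
      rw [ga_smul, zr_sing hy, mul_zero]
    · have h1 := card_mul_blockCoeff hM hl S hS hy
      simp only [hn] at h1
      have h3 := S.card_mul_index
      have h4 : (Nat.card H : ℂ) = (Nat.card S : ℂ) * (S.index : ℂ) := by
        exact_mod_cast h3.symm
      have h5 : (Nat.card S : ℂ) ≠ 0 := by exact_mod_cast Nat.card_pos.ne'
      apply mul_left_cancel₀ h5
      rw [← mul_assoc, ← h4, eB_apply, h1, Finset.mul_sum]
      refine Finset.sum_congr rfl fun χ _ => ?_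
      rw [ga_smul, zr_reg hy]; ring
  have e1 := congrArg (fun a => om ψ.1 a) key
  simp only [om_smul, om_sum, om_eB_mem hψ, mul_one] at e1
  have e2 : red hM (S.index : ℂ) = red hM (∑ χ ∈ Finset.univ.filter (· ∈ b), (n χ : ℂ) * om ψ.1 (zr p χ.1)) := by
    rw [e1]
  rw [red_natCast, red_sum hM _ _ (fun χ _ => loc_mul hM (loc_natCast hM _) (loc_om_zr hM ψ χ))] at e2
  rw [e2]
  refine Finset.sum_congr rfl fun χ _ => ?_
  rw [red_mul hM (loc_natCast hM _) (loc_om_zr hM ψ χ), red_natCast, lz_eq]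

theorem om_zr_cj [Fintype H] (ψ χ : IrrCharacter H) (x : G) :
    om ψ.1 (zr p (cjI x χ).1) = om (cjI x⁻¹ ψ).1 (zr p χ.1) := by
  classical
  rw [om_zr, om_zr]
  have h1 : (cjI x⁻¹ ψ).1 1 = ψ.1 1 := cj_one_apply x⁻¹ ψ.1
  rw [h1]
  congr 1
  refine Finset.sum_bij (fun h _ => cjAut x h) ?_ (fun a _ b _ hab => (cjAut x).injective hab) ?_ ?_
  · intro h hh
    rw [Finset.mem_filter] at hh ⊢
    refine ⟨Finset.mem_univ _, ?_⟩
    rw [MulEquiv.orderOf_eq]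
    exact hh.2
  · intro h hh
    refine ⟨(cjAut x).symm h, ?_, by simp⟩
    rw [Finset.mem_filter] at hh ⊢
    refine ⟨Finset.mem_univ _, ?_⟩
    rw [MulEquiv.orderOf_eq]
    exact hh.2
  · intro h _
    rw [cjI_coe, cjI_coe, cj_eq_comp, cj_eq_comp]
    simp only [← map_inv]
    congr 1
    refine congrArg ψ.1 (Subtype.ext ?_)
    rw [cjAut_coe, cjAut_coe]
    group

/-- The action of a subgroup stabilizing a block. -/
@[reducible] noncomputable def actB (b : Set (IrrCharacter H)) (Q : Subgroup G)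
    (hQ : ∀ q ∈ Q, ∀ θ ∈ b, cjI q θ ∈ b) : MulAction Q {θ : IrrCharacter H // θ ∈ b} where
  smul q θ := ⟨cjI (q : G)⁻¹ θ.1, hQ _ (Q.inv_mem q.2) _ θ.2⟩
  one_smul θ := by
    apply Subtype.ext
    change cjI ((1 : Q) : G)⁻¹ θ.1 = θ.1
    rw [Subgroup.coe_one, inv_one, cjI_one]
  mul_smul q r θ := by
    apply Subtype.ext
    change cjI ((q * r : Q) : G)⁻¹ θ.1 = cjI (q : G)⁻¹ (cjI (r : G)⁻¹ θ.1)
    rw [Subgroup.coe_mul, mul_inv_rev, cjI_mul]

theorem exists_fixed (hM : IsPModular p M) [Fact p.Prime] {b : Set (IrrCharacter H)}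
    (hb : IsPBlock M b) (Q : Subgroup G) (hQ : ∀ q ∈ Q, ∀ θ ∈ b, cjI q θ ∈ b)
    (hQp : IsPGroup p Q) (hidx : ¬ p ∣ (Q.subgroupOf H).index) :
    ∃ θ ∈ b, blockHeight p b θ.1 = 0 ∧ ∀ q ∈ Q, cjI q θ = θ := by
  classical
  cases nonempty_fintype H
  letI := actB b Q hQ
  set S : Subgroup H := Q.subgroupOf H with hS
  haveI : Fintype S := Fintype.ofFinite _
  have hSp : IsPGroup p S := hQp.comap_of_injective H.subtype (Subgroup.subtype_injective H)
  choose n hn using fun χ : IrrCharacter H => exists_nat_sum_subgroup χ.1 (isChar_of_irr χ.2) S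
  obtain ⟨ψ, hψ⟩ := block_nonempty hM hb
  have key := index_sum hM hb S hSp n hn hψ
  haveI : Fintype {θ : IrrCharacter H // θ ∈ b} := Fintype.ofFinite _
  have hninv : ∀ q ∈ Q, ∀ χ : IrrCharacter H, n (cjI q χ) = n χ := by
    intro q hq χ
    have h1 := hn (cjI q χ)
    have h2 := hn χ
    have h3 : ∑ u : S, (cjI q χ).1 (u : H) = ∑ u : S, χ.1 (u : H) := by
      rw [cjI_coe, cj_eq_comp]
      have hmem : ∀ u : S, cjAut q (u : H) ∈ S := by
        intro u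
        refine Subgroup.mem_subgroupOf.2 ?_
        rw [cjAut_coe]
        exact Q.mul_mem (Q.mul_mem hq u.2) (Q.inv_mem hq)
      refine Fintype.sum_bijective (fun u : S => (⟨cjAut q (u : H), hmem u⟩ : S)) ?_ _ _ (fun u => rfl)
      refine (Fintype.bijective_iff_injective_and_card _).2 ⟨?_, rfl⟩
      intro a c hac
      have := congrArg (fun z : S => (z : H)) hac
      exact Subtype.ext ((cjAut q).injective this)
    rw [h1, h2] at h3
    have h5 : (Nat.card S : ℂ) ≠ 0 := by exact_mod_cast Nat.card_pos.ne'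
    exact_mod_cast mul_left_cancel₀ h5 h3
  let f : {θ : IrrCharacter H // θ ∈ b} → ResF hM := fun θ => (n θ.1 : ResF hM) * lz hM ψ θ.1
  have hf : ∀ (q : Q) (θ : {θ : IrrCharacter H // θ ∈ b}), f (q • θ) = f θ := by
    intro q θ
    change (n (cjI (q : G)⁻¹ θ.1) : ResF hM) * lz hM ψ (cjI (q : G)⁻¹ θ.1) = _
    rw [hninv _ (Q.inv_mem q.2)]
    congr 1
    rw [lz_eq, om_zr_cj, ← lz_eq]
    refine lz_congr hM hb ?_ hψ θ.1
    rw [inv_inv]
    exact hQ _ q.2 _ hψ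
  have h1 := sum_eq_sum_fixed hQp f hf
  have h2 : ∑ θ : {θ : IrrCharacter H // θ ∈ b}, f θ = ((S.index : ℕ) : ResF hM) := by
    rw [key, Finset.sum_subtype (s := Finset.univ.filter (· ∈ b)) (p := (· ∈ b)) (by simp)
      (f := fun χ => (n χ : ResF hM) * lz hM ψ χ)]
  have h3 : ((S.index : ℕ) : ResF hM) ≠ 0 := by
    rw [Ne, CharP.cast_eq_zero_iff (ResF hM) p]
    exact hidx
  rw [← h2, h1] at h3
  obtain ⟨θ, hθ, hne⟩ := Finset.exists_ne_zero_of_sum_ne_zero h3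
  refine ⟨θ.1, θ.2, (lz_ne_zero_iff hM hb θ.2 hψ).1 (right_ne_zero_of_mul hne), fun q hq => ?_⟩
  have h4 := (Finset.mem_filter.1 hθ).2 ⟨q⁻¹, Q.inv_mem hq⟩
  have h5 := congrArg Subtype.val h4
  change cjI ((⟨q⁻¹, Q.inv_mem hq⟩ : Q) : G)⁻¹ θ.1 = θ.1 at h5
  rwa [inv_inv] at h5

theorem relIndex_normal (Q : Subgroup G) : Q.relIndex (Q ⊔ H) = Q.relIndex H := by
  have a := Cfsg.Agent.Lib.Basic.card_mul_relIndex (le_sup_left : Q ≤ Q ⊔ H)
  have b := Cfsg.Agent.Lib.Basic.card_mul_relIndex (le_sup_right : H ≤ Q ⊔ H)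
  rw [Subgroup.relIndex_sup_right] at b
  have c := Cfsg.Agent.Lib.Basic.card_mul_relIndex (inf_le_right : H ⊓ Q ≤ Q)
  have d := Cfsg.Agent.Lib.Basic.card_mul_relIndex (inf_le_right : Q ⊓ H ≤ H)
  rw [Subgroup.inf_relIndex_right] at c d
  rw [inf_comm] at d
  have h0 : 0 < Nat.card (H ⊓ Q : Subgroup G) := Nat.card_pos
  have h1 : 0 < H.relIndex Q := Nat.pos_of_ne_zero (by
    intro h; rw [h, mul_zero] at c; exact (Nat.card_pos (α := Q)).ne c)
  have e : Nat.card (H ⊓ Q : Subgroup G) * H.relIndex Q * Q.relIndex (Q ⊔ H) =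
      Nat.card (H ⊓ Q : Subgroup G) * H.relIndex Q * Q.relIndex H := by
    rw [c, a, ← b, ← d]
    ring_nf
    rw [← c]; ring
  exact Nat.eq_of_mul_eq_mul_left (Nat.mul_pos h0 h1) e

end Fix

end Cfsg.Agent.Lib.BlkH8E
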