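import Cfsg.Agent.Lib.BlockRey
import Cfsg.Agent.Lib.BlockKB
import Cfsg.Agent.Lib.BlockLar
import Cfsg.Agent.Lib.BlockMaxB
import Cfsg.Agent.Lib.BlockIndIn
import Cfsg.Agent.Lib.BlockBFM

import Cfsg.Agent.Lib.BlkH8E
import Cfsg.Agent.Lib.BlockCovB

/-!
The principal blocks of a group and a normal subgroup.
-/

set_option autoImplicit false
set_option linter.style.haveILetI false
set_option linter.unusedVariables false
set_option linter.unusedSectionVars false
set_option linter.unusedDecidableInType false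
set_option linter.unusedFintypeInType false
set_option linter.unusedSimpArgs false

namespace Cfsg.Agent.Lib.BlkH8F
open Cfsg Cfsg.Agent.Lib.BlockLoc Cfsg.Agent.Lib.BlockGA Cfsg.Agent.Lib.CharBasic
open Cfsg.Agent.Lib.BlockIdem Cfsg.Agent.Lib.BlockPP Cfsg.Agent.Lib.BlockOrth
open Cfsg.Agent.Lib.BlockRed Cfsg.Agent.Lib.BlockDef Cfsg.Agent.Lib.BlockDeg
open Cfsg.Agent.Lib.BlockNP Cfsg.Agent.Lib.BlockInd Cfsg.Agent.Lib.BlockSecond
open Cfsg.Agent.Lib.BlockFirst Cfsg.Agent.Lib.BlockHt Cfsg.Agent.Lib.BlockM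
open Cfsg.Agent.Lib.BlockCov Cfsg.Agent.Lib.BlockQuot Cfsg.Agent.Lib.CharKer
open Cfsg.Agent.Lib.BlockQuotB Cfsg.Agent.Lib.BlockMore Cfsg.Agent.Lib.BlockMoreB
open Cfsg.Agent.Lib.BlockTr Cfsg.Agent.Lib.CharNormal Cfsg.Agent.Lib.BlockCovB
open Cfsg.Agent.Lib.BlockBP Cfsg.Agent.Lib.BlockInt Cfsg.Agent.Lib.BlockSum Cfsg.Agent.Lib.BlockRk
open Cfsg.Agent.Lib.BlockFusB Cfsg.Agent.Lib.BlockMax Cfsg.Agent.Lib.CharSplit Cfsg.Agent.Lib.CharBrauer
open Cfsg.Agent.Lib.CharInd Cfsg.Agent.Lib.BlockPC Cfsg.Agent.Lib.BlockPair Cfsg.Agent.Lib.BlockPairB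
open Cfsg.Agent.Lib.BlockPairC Cfsg.Agent.Lib.BlockPairD Cfsg.Agent.Lib.BlockPairE
open Cfsg.Agent.Lib.BlockRey Cfsg.Agent.Lib.BlockPairF Cfsg.Agent.Lib.BlockFus Cfsg.Agent.Lib.BlockNilB Cfsg.Agent.Lib.BlockNil Cfsg.Agent.Lib.CharClifford
open Cfsg.Agent.Lib.BlockKB Cfsg.Agent.Lib.BlockLar Cfsg.Agent.Lib.BlockMaxB Cfsg.Agent.Lib.BlockIndIn Cfsg.Agent.Lib.BlockBFM
open Cfsg.Agent.Lib.BlkH8E Cfsg.Agent.Lib.BlockCovB
open scoped ComplexConjugate

section Cov

variable {G : Type*} [Group G] [Finite G] {p : ℕ} {M : Ideal AlgInt} {H : Subgroup G} [hH : H.Normal]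

theorem cov_principal (hM : IsPModular p M) [Fintype H] :
    Cov (principalBlock M G) (principalBlock M H) := by
  refine ⟨triv G, triv_mem hM, triv H, triv_mem hM, ?_⟩
  unfold Over
  have : (fun n : H => (triv G).1 (n : G)) = (triv H).1 := rfl
  rw [this, irr_inner_self (triv H).2]
  exact one_ne_zero

theorem mem_below (hM : IsPModular p M) [Fintype H] {χ : IrrCharacter G}
    (hχ : χ ∈ principalBlock M G) {θ : IrrCharacter H} (h : Over χ θ) :
    θ ∈ principalBlock M H := by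
  obtain ⟨x, hx⟩ := mem_orb_of_cov hM (principal_isPBlock M G) (principal_isPBlock M H)
    (cov_principal hM) hχ h
  have h1 := sameBlock_cj x⁻¹ (sameBlock_of_mem hM (principal_isPBlock M H) (triv_mem hM) hx)
  have h2 : cj x⁻¹ (triv H).1 = (triv H).1 := rfl
  rw [h2, ← cjI_coe, cjI_inv_cjI] at h1
  exact h1

theorem exists_above (hM : IsPModular p M) [Fintype G] [Fintype H] {θ : IrrCharacter H}
    (hθ : θ ∈ principalBlock M H) : ∃ χ ∈ principalBlock M G, Over χ θ :=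
  exists_over_of_cov' hM (principal_isPBlock M G) (principal_isPBlock M H) (cov_principal hM) hθ

end Cov

section Deg

variable {G : Type*} [Group G] [Finite G] {H : Subgroup G} [hH : H.Normal]

/-- The multiplicity of `θ` in the restriction of `χ`. -/
noncomputable def mul [Fintype H] (χ : IrrCharacter G) (θ : IrrCharacter H) : ℕ :=
  (exists_nat_inner (Cfsg.Agent.Lib.CharInd.isChar_res H (isChar_of_irr χ.2)) θ.2).choose

theorem mul_spec [Fintype H] (χ : IrrCharacter G) (θ : IrrCharacter H) :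
    classInner (fun h : H => χ.1 h) θ.1 = mul χ θ :=
  (exists_nat_inner (Cfsg.Agent.Lib.CharInd.isChar_res H (isChar_of_irr χ.2)) θ.2).choose_spec

theorem over_iff_mul [Fintype H] {χ : IrrCharacter G} {θ : IrrCharacter H} :
    Over χ θ ↔ mul χ θ ≠ 0 := by
  unfold Over
  rw [mul_spec]
  exact Nat.cast_ne_zero

theorem deg_eq_sum [Fintype H] (χ : IrrCharacter G) :
    charDegree χ.1 = ∑ θ : IrrCharacter H, mul χ θ * charDegree θ.1 := by
  have h1 := char_eq_sum_inner (Cfsg.Agent.Lib.CharInd.isChar_res H (isChar_of_irr χ.2))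
  have h2 := congrFun h1 1
  rw [Finset.sum_apply] at h2
  have h3 : (charDegree χ.1 : ℂ) = ((∑ θ : IrrCharacter H, mul χ θ * charDegree θ.1 : ℕ) : ℂ) := by
    rw [charDegree_cast (isChar_of_irr χ.2)]
    push_cast
    have h4 : χ.1 1 = χ.1 ((1 : H) : G) := rfl
    rw [h4, h2]
    refine Finset.sum_congr rfl fun θ _ => ?_
    rw [Pi.smul_apply, smul_eq_mul, mul_spec, charDegree_cast (isChar_of_irr θ.2)]
  exact_mod_cast h3

theorem index_mul_deg [Fintype G] [Fintype H] (θ : IrrCharacter H) :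
    H.index * charDegree θ.1 = ∑ χ : IrrCharacter G, mul χ θ * charDegree χ.1 := by
  have h0 := Cfsg.Agent.Lib.CharInd.isChar_ind H (isChar_of_irr θ.2)
  have h1 := char_eq_sum_inner h0
  have h2 := congrFun h1 1
  rw [Finset.sum_apply] at h2
  have h3 : ((H.index * charDegree θ.1 : ℕ) : ℂ) = ((∑ χ : IrrCharacter G, mul χ θ * charDegree χ.1 : ℕ) : ℂ) := by
    push_cast
    have h5 : indFun H θ.1 1 = (H.index : ℂ) * θ.1 1 := Cfsg.Agent.Lib.CharInd.indFun_one H θ.1
    rw [charDegree_cast (isChar_of_irr θ.2), ← h5, h2]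
    refine Finset.sum_congr rfl fun χ _ => ?_
    rw [Pi.smul_apply, smul_eq_mul, charDegree_cast (isChar_of_irr χ.2),
      Cfsg.Agent.Lib.CharInd.reciprocity _ _ _ (isChar_classFn (isChar_of_irr χ.2)),
      ← classInner_conj_symm, mul_spec, Complex.conj_natCast]
  exact_mod_cast h3

end Deg

end Cfsg.Agent.Lib.BlkH8F
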