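import Cfsg.Agent.Lib.BlockRey
import Cfsg.Agent.Lib.BlockKB
import Cfsg.Agent.Lib.BlockLar
import Cfsg.Agent.Lib.BlockMaxB
import Cfsg.Agent.Lib.BlockIndIn
import Cfsg.Agent.Lib.BlockBFM

import Cfsg.Agent.Lib.BlkH8F

/-!
The centralizer of a normal subgroup in the group algebra.
-/

set_option autoImplicit false
set_option linter.style.haveILetI false
set_option linter.unusedVariables false
set_option linter.unusedSectionVars false
set_option linter.unusedDecidableInType false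
set_option linter.unusedFintypeInType false
set_option linter.unusedSimpArgs false

namespace Cfsg.Agent.Lib.BlkH8G
open Cfsg Cfsg.Agent.Lib.BlockLoc Cfsg.Agent.Lib.BlockGA Cfsg.Agent.Lib.CharBasic
open Cfsg.Agent.Lib.BlockIdem Cfsg.Agent.Lib.BlockPP Cfsg.Agent.Lib.BlockOrth
open Cfsg.Agent.Lib.BlockRed Cfsg.Agent.Lib.BlockDef Cfsg.Agent.Lib.BlockDeg
open Cfsg.Agent.Lib.BlockNP Cfsg.Agent.Lib.BlockInd Cfsg.Agent.Lib.BlockSecond
open Cfsg.Agent.Lib.BlockFirst Cfsg.Agent.Lib.BlockHt Cfsg.Agent.Lib.BlockM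
open Cfsg.Agent.Lib.BlockCov Cfsg.Agent.Lib.BlockQuot Cfsg.Agent.Lib.CharKer
open Cfsg.Agent.Lib.BlockQuotB Cfsg.Agent.Lib.BlockMore Cfsg.Agent.Lib.BlockMoreB
open Cfsg.Agent.Lib.BlockTr Cfsg.Agent.Lib.CharNormal Cfsg.Agent.Lib.BlockCovB
open Cfsg.Agent.Lib.BlockBP Cfsg.Agent.Lib.BlockInt Cfsg.Agent.Lib.BlockSum Cfsg.Agent.Lib.BlockRk
open Cfsg.Agent.Lib.BlockFusB Cfsg.Agent.Lib.BlockMax Cfsg.Agent.Lib.CharSplit Cfsg.Agent.Lib.CharBrauer
open Cfsg.Agent.Lib.CharInd Cfsg.Agent.Lib.BlockPC Cfsg.Agent.Lib.BlockPair Cfsg.Agent.Lib.BlockPairB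
open Cfsg.Agent.Lib.BlockPairC Cfsg.Agent.Lib.BlockPairD Cfsg.Agent.Lib.BlockPairE
open Cfsg.Agent.Lib.BlockRey Cfsg.Agent.Lib.BlockPairF Cfsg.Agent.Lib.BlockFus Cfsg.Agent.Lib.BlockNilB Cfsg.Agent.Lib.BlockNil Cfsg.Agent.Lib.CharClifford
open Cfsg.Agent.Lib.BlockKB Cfsg.Agent.Lib.BlockLar Cfsg.Agent.Lib.BlockMaxB Cfsg.Agent.Lib.BlockIndIn Cfsg.Agent.Lib.BlockBFM
open Cfsg.Agent.Lib.BlkH8F
open scoped ComplexConjugate

section Supp

variable {G : Type*} [Group G] [Finite G] {N : Subgroup G} [hN : N.Normal]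

/-- Commuting with the normal subgroup. -/
def NInv (N : Subgroup G) (a : GA ℂ G) : Prop := ∀ n ∈ N, Inv n a

/-- The augmentation. -/
noncomputable def aug (a : GA ℂ G) : ℂ := ∑ᶠ g, a g

theorem aug_eq [Fintype G] (a : GA ℂ G) : aug a = ∑ g, a g := finsum_eq_sum_of_fintype _

theorem aug_mul (a b : GA ℂ G) : aug (a * b) = aug a * aug b := by
  cases nonempty_fintype G
  rw [aug_eq, aug_eq, aug_eq, Finset.sum_mul_sum]
  simp only [ga_mul]
  rw [Finset.sum_comm]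
  refine Finset.sum_congr rfl fun h _ => ?_
  rw [← Finset.mul_sum, ← Finset.mul_sum]
  congr 1
  exact Fintype.sum_equiv (Equiv.mulLeft h⁻¹) _ _ (fun g => rfl)

theorem aug_smul (c : ℂ) (a : GA ℂ G) : aug (c • a) = c * aug a := by
  cases nonempty_fintype G
  rw [aug_eq, aug_eq, Finset.mul_sum]
  rfl

theorem aug_sub (a b : GA ℂ G) : aug (a - b) = aug a - aug b := by
  cases nonempty_fintype G
  rw [aug_eq, aug_eq, aug_eq, ← Finset.sum_sub_distrib]
  rfl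

/-- Support in a coset. -/
def SC (γ : G ⧸ N) (a : GA ℂ G) : Prop := ∀ g, a g ≠ 0 → (g : G ⧸ N) = γ

theorem SC.mul {γ δ : G ⧸ N} {a b : GA ℂ G} (ha : SC γ a) (hb : SC δ b) : SC (γ * δ) (a * b) := by
  classical
  cases nonempty_fintype G
  intro g hg
  rw [ga_mul] at hg
  obtain ⟨h, -, hne⟩ := Finset.exists_ne_zero_of_sum_ne_zero hg
  have h1 := ha h (left_ne_zero_of_mul hne)
  have h2 := hb _ (right_ne_zero_of_mul hne)
  rw [← h1, ← h2, ← QuotientGroup.mk_mul, mul_inv_cancel_left]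

theorem SC.mem {a : GA ℂ G} (ha : SC (1 : G ⧸ N) a) : ∀ g, a g ≠ 0 → g ∈ N := fun g hg =>
  (QuotientGroup.eq_one_iff g).1 (ha g hg)

theorem NInv.mul {a b : GA ℂ G} (ha : NInv N a) (hb : NInv N b) : NInv N (a * b) := by
  intro n hn
  rw [inv_iff_commute]
  have h1 := (inv_iff_commute n a).1 (ha n hn)
  have h2 := (inv_iff_commute n b).1 (hb n hn)
  rw [← mul_assoc, h1, mul_assoc, h2, mul_assoc]

theorem NInv.of_isCl {a : GA ℂ G} (ha : IsCl a) : NInv N a := fun n _ g => ha g n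

theorem NInv.sub {a b : GA ℂ G} (ha : NInv N a) (hb : NInv N b) : NInv N (a - b) := by
  intro n hn g
  rw [ga_sub, ga_sub, ha n hn g, hb n hn g]

theorem NInv.smul (c : ℂ) {a : GA ℂ G} (ha : NInv N a) : NInv N (c • a) := by
  intro n hn g
  rw [ga_smul, ga_smul, ha n hn g]

theorem NInv.res {a : GA ℂ G} (ha : NInv N a) : IsCl (resGA N a) := by
  intro g h
  exact ha h h.2 g

theorem NInv.comm {a : GA ℂ G} (ha : NInv N a) (b : GA ℂ N) :
    a * extGA N b = extGA N b * a := by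
  classical
  cases nonempty_fintype G
  have h1 : extGA N b = ∑ g, (extGA N b) g • sg g := eq_sum_sg _
  rw [h1, Finset.mul_sum, Finset.sum_mul]
  refine Finset.sum_congr rfl fun g _ => ?_
  by_cases hg : g ∈ N
  · rw [mul_smul_comm, smul_mul_assoc, (inv_iff_commute g a).1 (ha g hg)]
  · rw [extGA_neg hg, zero_smul, mul_zero, zero_mul]

/-- The coset component. -/
noncomputable def cp (γ : G ⧸ N) (a : GA ℂ G) : GA ℂ G :=
  ⟨fun g => haveI := Classical.propDecidable ((g : G ⧸ N) = γ); if (g : G ⧸ N) = γ then a g else 0⟩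

theorem cp_pos {γ : G ⧸ N} {a : GA ℂ G} {g : G} (h : (g : G ⧸ N) = γ) : (cp γ a) g = a g := by
  change (haveI := Classical.propDecidable ((g : G ⧸ N) = γ); if (g : G ⧸ N) = γ then a g else 0) = _
  exact if_pos h

theorem cp_neg {γ : G ⧸ N} {a : GA ℂ G} {g : G} (h : (g : G ⧸ N) ≠ γ) : (cp γ a) g = 0 := by
  change (haveI := Classical.propDecidable ((g : G ⧸ N) = γ); if (g : G ⧸ N) = γ then a g else 0) = _
  exact if_neg h

theorem cp_SC (γ : G ⧸ N) (a : GA ℂ G) : SC γ (cp γ a) := by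
  intro g hg
  by_contra h
  exact hg (cp_neg h)

theorem cp_ninv (γ : G ⧸ N) {a : GA ℂ G} (ha : NInv N a) : NInv N (cp γ a) := by
  intro n hn g
  have h1 : ((n * g * n⁻¹ : G) : G ⧸ N) = g := by
    have : (n : G ⧸ N) = 1 := (QuotientGroup.eq_one_iff n).2 hn
    rw [QuotientGroup.mk_mul, QuotientGroup.mk_mul, QuotientGroup.mk_inv, this, one_mul, inv_one, mul_one]
  by_cases h : (g : G ⧸ N) = γ
  · rw [cp_pos h, cp_pos (h1.trans h)]
    exact ha n hn g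
  · rw [cp_neg h, cp_neg (fun hh => h (h1.symm.trans hh))]

theorem sum_cp [Fintype (G ⧸ N)] (a : GA ℂ G) : a = ∑ γ : G ⧸ N, cp γ a := by
  classical
  ext g
  rw [ga_sum, Finset.sum_eq_single (g : G ⧸ N)]
  · rw [cp_pos rfl]
  · intro γ _ h
    exact cp_neg h.symm
  · intro h
    exact absurd (Finset.mem_univ _) h

variable {p : ℕ} {M : Ideal AlgInt}

theorem cp_loc (hM : IsPModular p M) (γ : G ⧸ N) {a : GA ℂ G} (ha : IsLoc M a) :
    IsLoc M (cp γ a) := by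
  intro g
  by_cases h : (g : G ⧸ N) = γ
  · rw [cp_pos h]; exact ha g
  · rw [cp_neg h]; exact loc_zero hM

end Supp

section Th

variable {G : Type*} [Group G] [Finite G] {N : Subgroup G} [hN : N.Normal] {p : ℕ} {M : Ideal AlgInt}

/-- The idempotent of a character of the normal subgroup. -/
noncomputable def eT (θ : IrrCharacter N) : GA ℂ G := extGA N (eChi θ.1)

theorem mul_eT (θ : IrrCharacter N) {a : GA ℂ G} (ha : NInv N a) (hs : SC (1 : G ⧸ N) a) :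
    a * eT θ = om θ.1 (resGA N a) • eT θ := by
  classical
  have h1 : a = extGA N (resGA N a) := (extGA_resGA hs.mem).symm
  conv_lhs => rw [h1]
  unfold eT
  rw [← extGA_mul]
  have h2 : resGA N a * eChi θ.1 = om θ.1 (resGA N a) • eChi θ.1 := by
    refine cl_ext (ha.res.mul (eChi_isCl (irr_cl θ))) ((eChi_isCl (irr_cl θ)).smul _) fun ψ => ?_
    rw [om_mul ψ.2 ha.res, om_smul, om_eChi]
    by_cases h : ψ = θ
    · rw [h]
    · rw [if_neg h, mul_zero, mul_zero]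
  rw [h2]
  ext g
  rw [ga_smul]
  by_cases hg : g ∈ N
  · rw [extGA_pos hg, extGA_pos hg, ga_smul]
  · rw [extGA_neg hg, extGA_neg hg, mul_zero]

theorem om_triv_res [Fintype N] {a : GA ℂ G} (hs : SC (1 : G ⧸ N) a) :
    om (triv N).1 (resGA N a) = aug a := by
  classical
  cases nonempty_fintype G
  have h1 : a = extGA N (resGA N a) := (extGA_resGA hs.mem).symm
  rw [om_eq, aug_eq]
  have h2 : (triv N).1 1 = 1 := rfl
  rw [h2, div_one]
  have h3 := extGA_sum N (resGA N a) (fun _ => (1 : ℂ))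
  simp only [mul_one] at h3
  rw [← h1] at h3
  rw [h3]
  refine Finset.sum_congr rfl fun n _ => ?_
  have : (triv N).1 n = 1 := rfl
  rw [this, mul_one]

theorem om_aug (hM : IsPModular p M) [Fintype N] {θ : IrrCharacter N}
    (hθ : θ ∈ principalBlock M N) {a : GA ℂ G} (ha : NInv N a) (hl : IsLoc M a)
    (hs : SC (1 : G ⧸ N) a) : MemLocalIdeal M (om θ.1 (resGA N a) - aug a) := by
  rw [← om_triv_res hs]
  exact om_sub_of_sameBlock hM θ.2 (triv N).2
    (sameBlock_of_mem hM (principal_isPBlock M N) hθ (triv_mem hM)) ha.res (resGA_loc hl)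

/-- Unit elements in each coset. -/
structure Zs (M : Ideal AlgInt) (N : Subgroup G) [N.Normal] where
  /-- the unit -/
  z : G ⧸ N → GA ℂ G
  inv : ∀ γ, NInv N (z γ)
  loc : ∀ γ, IsLoc M (z γ)
  sc : ∀ γ, SC γ (z γ)
  unit : ∀ γ, ¬ MemLocalIdeal M (aug (z γ))

theorem loc_aug (hM : IsPModular p M) {a : GA ℂ G} (ha : IsLoc M a) : MemLocalRing M (aug a) := by
  cases nonempty_fintype G
  rw [aug_eq]
  exact loc_sum hM _ _ fun g _ => ha g

theorem om_unit (hM : IsPModular p M) [Fintype N] (Z : Zs M N) {θ : IrrCharacter N}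
    (hθ : θ ∈ principalBlock M N) (γ : G ⧸ N) :
    MemLocalRing M (om θ.1 (resGA N (Z.z γ⁻¹ * Z.z γ))) ∧
    ¬ MemLocalIdeal M (om θ.1 (resGA N (Z.z γ⁻¹ * Z.z γ))) := by
  have hinv : NInv N (Z.z γ⁻¹ * Z.z γ) := (Z.inv _).mul (Z.inv _)
  have hloc : IsLoc M (Z.z γ⁻¹ * Z.z γ) := (Z.loc _).mul hM (Z.loc _)
  have hsc : SC (1 : G ⧸ N) (Z.z γ⁻¹ * Z.z γ) := by
    have := (Z.sc γ⁻¹).mul (Z.sc γ)
    rwa [inv_mul_cancel] at this
  have h1 := om_aug hM hθ hinv hloc hsc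
  refine ⟨loc_om hM θ.2 hinv.res (resGA_loc hloc), ?_⟩
  rw [max_iff_of_sub hM h1, aug_mul]
  exact not_max_mul hM (loc_aug hM (Z.loc _)) (loc_aug hM (Z.loc _)) (Z.unit _) (Z.unit _)

theorem comp_eq (hM : IsPModular p M) [Fintype N] (Z : Zs M N) {θ : IrrCharacter N}
    (hθ : θ ∈ principalBlock M N) (γ : G ⧸ N) {y : GA ℂ G} (hy : NInv N y) (hyl : IsLoc M y)
    (hys : SC γ y) : ∃ κ : ℂ, MemLocalIdeal M (κ - aug y / aug (Z.z γ)) ∧ y * eT θ = κ • (Z.z γ * eT θ) := by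
  obtain ⟨hul, hun⟩ := om_unit hM Z hθ γ
  set u := om θ.1 (resGA N (Z.z γ⁻¹ * Z.z γ)) with hu
  have hu0 : u ≠ 0 := ne_zero_of_not_max hM hun
  have hinv : NInv N (Z.z γ⁻¹ * Z.z γ) := (Z.inv _).mul (Z.inv _)
  have hsc : SC (1 : G ⧸ N) (Z.z γ⁻¹ * Z.z γ) := by
    have := (Z.sc γ⁻¹).mul (Z.sc γ)
    rwa [inv_mul_cancel] at this
  have hinv' : NInv N (y * Z.z γ⁻¹) := hy.mul (Z.inv _)
  have hsc' : SC (1 : G ⧸ N) (y * Z.z γ⁻¹) := by
    have := hys.mul (Z.sc γ⁻¹)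
    rwa [mul_inv_cancel] at this
  have hloc' : IsLoc M (y * Z.z γ⁻¹) := hyl.mul hM (Z.loc _)
  set v := om θ.1 (resGA N (y * Z.z γ⁻¹)) with hv
  refine ⟨u⁻¹ * v, ?_, ?_⟩
  · have h1 : MemLocalIdeal M (v - aug y * aug (Z.z γ⁻¹)) := by
      rw [← aug_mul]; exact om_aug hM hθ hinv' hloc' hsc'
    have h2 : MemLocalIdeal M (u - aug (Z.z γ⁻¹) * aug (Z.z γ)) := by
      rw [← aug_mul]; exact om_aug hM hθ hinv ((Z.loc _).mul hM (Z.loc _)) hsc
    have a1 := Z.unit γ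
    have a0 := ne_zero_of_not_max hM a1
    have l1 := loc_aug hM (Z.loc γ)
    have ly := loc_aug hM hyl
    have e : u⁻¹ * v - aug y / aug (Z.z γ) =
        u⁻¹ * (v - aug y * aug (Z.z γ⁻¹)) -
          (u⁻¹ * (aug y / aug (Z.z γ))) * (u - aug (Z.z γ⁻¹) * aug (Z.z γ)) := by
      field_simp
      ring
    rw [e]
    exact max_sub hM (max_mul_left hM (loc_inv hM hul hun) h1)
      (max_mul_left hM (loc_mul hM (loc_inv hM hul hun) (loc_div hM ly l1 a1)) h2)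
  · have h1 : y * (Z.z γ⁻¹ * Z.z γ) * eT θ = u • (y * eT θ) := by
      rw [mul_assoc, mul_eT θ hinv hsc, mul_smul_comm]
    have h2 : y * (Z.z γ⁻¹ * Z.z γ) * eT θ = v • (Z.z γ * eT θ) := by
      have : Z.z γ * eT θ = eT θ * Z.z γ := (Z.inv γ).comm _
      rw [← mul_assoc, mul_assoc, this, ← mul_assoc, mul_eT θ hinv' hsc', smul_mul_assoc]
    rw [h1] at h2
    rw [mul_smul, ← h2, smul_smul, inv_mul_cancel₀ hu0, one_smul]

end Th

end Cfsg.Agent.Lib.BlkH8G
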