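import Cfsg.Agent.Lib.BlockRey
import Cfsg.Agent.Lib.BlockKB
import Cfsg.Agent.Lib.BlockLar
import Cfsg.Agent.Lib.BlockMaxB
import Cfsg.Agent.Lib.BlockIndIn
import Cfsg.Agent.Lib.BlockBFM

import Cfsg.Agent.Lib.BlkH8G

/-!
The principal block and a normal subgroup of p'-index covered by centralizers.
-/

set_option autoImplicit false
set_option linter.style.haveILetI false
set_option linter.unusedVariables false
set_option linter.unusedSectionVars false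
set_option linter.unusedDecidableInType false
set_option linter.unusedFintypeInType false
set_option linter.unusedSimpArgs false

namespace Cfsg.Agent.Lib.BlkH8H
open Cfsg Cfsg.Agent.Lib.BlockLoc Cfsg.Agent.Lib.BlockGA Cfsg.Agent.Lib.CharBasic
open Cfsg.Agent.Lib.BlockIdem Cfsg.Agent.Lib.BlockPP Cfsg.Agent.Lib.BlockOrth
open Cfsg.Agent.Lib.BlockRed Cfsg.Agent.Lib.BlockDef Cfsg.Agent.Lib.BlockDeg
open Cfsg.Agent.Lib.BlockNP Cfsg.Agent.Lib.BlockInd Cfsg.Agent.Lib.BlockSecond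
open Cfsg.Agent.Lib.BlockFirst Cfsg.Agent.Lib.BlockHt Cfsg.Agent.Lib.BlockM
open Cfsg.Agent.Lib.BlockCov Cfsg.Agent.Lib.BlockQuot Cfsg.Agent.Lib.CharKer
open Cfsg.Agent.Lib.BlockQuotB Cfsg.Agent.Lib.BlockMore Cfsg.Agent.Lib.BlockMoreB
open Cfsg.Agent.Lib.BlockTr Cfsg.Agent.Lib.CharNormal Cfsg.Agent.Lib.BlockCovB
open Cfsg.Agent.Lib.BlockBP Cfsg.Agent.Lib.BlockInt Cfsg.Agent.Lib.BlockSum Cfsg.Agent.Lib.BlockRk
open Cfsg.Agent.Lib.BlockFusB Cfsg.Agent.Lib.BlockMax Cfsg.Agent.Lib.CharSplit Cfsg.Agent.Lib.CharBrauer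
open Cfsg.Agent.Lib.CharInd Cfsg.Agent.Lib.BlockPC Cfsg.Agent.Lib.BlockPair Cfsg.Agent.Lib.BlockPairB
open Cfsg.Agent.Lib.BlockPairC Cfsg.Agent.Lib.BlockPairD Cfsg.Agent.Lib.BlockPairE
open Cfsg.Agent.Lib.BlockRey Cfsg.Agent.Lib.BlockPairF Cfsg.Agent.Lib.BlockFus Cfsg.Agent.Lib.BlockNilB Cfsg.Agent.Lib.BlockNil Cfsg.Agent.Lib.CharClifford
open Cfsg.Agent.Lib.BlockKB Cfsg.Agent.Lib.BlockLar Cfsg.Agent.Lib.BlockMaxB Cfsg.Agent.Lib.BlockIndIn Cfsg.Agent.Lib.BlockBFM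
open Cfsg.Agent.Lib.BlkH8G
open scoped ComplexConjugate

section Ex

variable {G : Type*} [Group G] [Finite G] {N : Subgroup G} [hN : N.Normal] {p : ℕ} {M : Ideal AlgInt}

/-- The indicator of a class under the normal subgroup. -/
noncomputable def cN (N : Subgroup G) (g : G) : GA ℂ G :=
  ⟨fun h => haveI := Classical.propDecidable (∃ n ∈ N, n * g * n⁻¹ = h); if ∃ n ∈ N, n * g * n⁻¹ = h then 1 else 0⟩

theorem cN_pos {g h : G} (hh : ∃ n ∈ N, n * g * n⁻¹ = h) : (cN N g) h = 1 := by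
  change (haveI := Classical.propDecidable (∃ n ∈ N, n * g * n⁻¹ = h); if ∃ n ∈ N, n * g * n⁻¹ = h then (1 : ℂ) else 0) = _
  exact if_pos hh

theorem cN_neg {g h : G} (hh : ¬ ∃ n ∈ N, n * g * n⁻¹ = h) : (cN N g) h = 0 := by
  change (haveI := Classical.propDecidable (∃ n ∈ N, n * g * n⁻¹ = h); if ∃ n ∈ N, n * g * n⁻¹ = h then (1 : ℂ) else 0) = _
  exact if_neg hh

theorem cN_inv (g : G) : NInv N (cN N g) := by
  intro m hm h
  have h1 : (∃ n ∈ N, n * g * n⁻¹ = m * h * m⁻¹) ↔ ∃ n ∈ N, n * g * n⁻¹ = h := by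
    constructor
    · rintro ⟨n, hn, e⟩
      refine ⟨m⁻¹ * n, N.mul_mem (N.inv_mem hm) hn, ?_⟩
      have : m⁻¹ * n * g * (m⁻¹ * n)⁻¹ = m⁻¹ * (n * g * n⁻¹) * m := by group
      rw [this, e]
      group
    · rintro ⟨n, hn, e⟩
      refine ⟨m * n, N.mul_mem hm hn, ?_⟩
      rw [← e]
      group
  by_cases hh : ∃ n ∈ N, n * g * n⁻¹ = h
  · rw [cN_pos hh, cN_pos (h1.2 hh)]
  · rw [cN_neg hh, cN_neg (fun h => hh (h1.1 h))]

theorem cN_sc (g : G) : SC (g : G ⧸ N) (cN N g) := by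
  intro h hh
  by_contra hne
  apply hh
  rw [cN_neg]
  rintro ⟨n, hn, rfl⟩
  apply hne
  have : (n : G ⧸ N) = 1 := (QuotientGroup.eq_one_iff n).2 hn
  rw [QuotientGroup.mk_mul, QuotientGroup.mk_mul, QuotientGroup.mk_inv, this, one_mul, inv_one, mul_one]

theorem cN_loc (hM : IsPModular p M) (g : G) : IsLoc M (cN N g) := by
  intro h
  by_cases hh : ∃ n ∈ N, n * g * n⁻¹ = h
  · rw [cN_pos hh]; exact loc_one hM
  · rw [cN_neg hh]; exact loc_zero hM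

theorem cN_aug (Q : Subgroup N) (g : G) (hg : ∀ q ∈ Q, Commute (q : G) g) (hQ : ¬ p ∣ Q.index) :
    ∃ n : ℕ, aug (cN N g) = n ∧ ¬ p ∣ n := by
  classical
  cases nonempty_fintype G
  letI : MulAction N G := MulAction.compHom G ((MulAut.conj (G := G)).comp N.subtype)
  have hs : ∀ (n : N) (x : G), n • x = (n : G) * x * (n : G)⁻¹ := fun n x => rfl
  refine ⟨(MulAction.orbit N g).ncard, ?_, ?_⟩
  · rw [aug_eq]
    have h1 : ∀ h : G, (cN N g) h = if h ∈ MulAction.orbit N g then 1 else 0 := by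
      intro h
      by_cases hh : ∃ n ∈ N, n * g * n⁻¹ = h
      · rw [cN_pos hh, if_pos]
        obtain ⟨n, hn, e⟩ := hh
        exact ⟨⟨n, hn⟩, e⟩
      · rw [cN_neg hh, if_neg]
        rintro ⟨n, e⟩
        exact hh ⟨n, n.2, e⟩
    simp only [h1]
    rw [Finset.sum_boole, Set.ncard_eq_toFinset_card']
    congr 2
    ext x
    simp
  · rw [← MulAction.index_stabilizer]
    intro hd
    refine hQ (hd.trans (Subgroup.index_dvd_of_le ?_))
    intro q hq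
    rw [MulAction.mem_stabilizer_iff, hs, (hg q hq).eq, mul_inv_cancel_right]

theorem exists_Zs (hM : IsPModular p M) (Q : Subgroup N) (hQ : ¬ p ∣ Q.index)
    (hcov : ∀ γ : G ⧸ N, ∃ g : G, (g : G ⧸ N) = γ ∧ ∀ q ∈ Q, Commute (q : G) g) :
    Nonempty (Zs M N) := by
  choose g hg1 hg2 using hcov
  refine ⟨⟨fun γ => cN N (g γ), fun γ => cN_inv _, fun γ => cN_loc hM _, fun γ => ?_, fun γ => ?_⟩⟩
  · have := cN_sc (N := N) (g γ)
    rwa [hg1 γ] at this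
  · obtain ⟨n, hn, hp⟩ := cN_aug Q (g γ) (hg2 γ) hQ
    rw [hn, max_natCast_iff hM]
    exact hp

theorem cover_of_sup {C : Subgroup G} (h : N ⊔ C = ⊤) (γ : G ⧸ N) :
    ∃ g ∈ C, (g : G ⧸ N) = γ := by
  obtain ⟨x, rfl⟩ := QuotientGroup.mk_surjective γ
  have hx : x ∈ N ⊔ C := by rw [h]; trivial
  obtain ⟨n, hn, c, hc, rfl⟩ := Subgroup.mem_sup_of_normal_left.1 hx
  refine ⟨c, hc, ?_⟩
  have : (n : G ⧸ N) = 1 := (QuotientGroup.eq_one_iff n).2 hn
  rw [QuotientGroup.mk_mul, this, one_mul]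

end Ex

section Inv

variable {G : Type*} [Group G] [Finite G] {N : Subgroup G} [hN : N.Normal] {p : ℕ} {M : Ideal AlgInt}

theorem conj_eT (θ : IrrCharacter N) (g : G) :
    (sg g⁻¹ : GA ℂ G) * eT θ * sg g = eT (cjI g θ) := by
  ext h
  rw [mul_sg_apply, sg_mul_apply]
  have e : (g⁻¹)⁻¹ * (h * g⁻¹) = g * h * g⁻¹ := by group
  rw [e]
  unfold eT
  by_cases hh : h ∈ N
  · rw [extGA_pos (hN.conj_mem h hh g), extGA_pos hh, eChi_apply, eChi_apply, cjI_coe, cj_apply, cj_apply]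
    congr 3
    · refine congrArg θ.1 (Subtype.ext ?_)
      simp
  · rw [extGA_neg hh, extGA_neg]
    intro hh'
    apply hh
    have := hN.conj_mem _ hh' g⁻¹
    have e2 : g⁻¹ * (g * h * g⁻¹) * g⁻¹⁻¹ = h := by group
    rwa [e2] at this

theorem eT_mul_eT (θ φ : IrrCharacter N) (h : θ ≠ φ) : (eT θ * eT φ : GA ℂ G) = 0 := by
  classical
  unfold eT
  rw [← extGA_mul]
  have h2 : eChi θ.1 * eChi φ.1 = (0 : GA ℂ N) := by
    refine cl_ext ((eChi_isCl (irr_cl θ)).mul (eChi_isCl (irr_cl φ))) IsCl.zero fun ψ => ?_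
    rw [om_mul ψ.2 (eChi_isCl (irr_cl θ)), om_zero, om_eChi, om_eChi]
    by_cases h1 : ψ = θ
    · rw [if_neg (fun h2 => h (h1.symm.trans h2)), mul_zero]
    · rw [if_neg h1, zero_mul]
  rw [h2]
  ext g
  by_cases hg : g ∈ N
  · rw [extGA_pos hg]; rfl
  · rw [extGA_neg hg]; rfl

theorem eT_idem (θ : IrrCharacter N) : (eT θ * eT θ : GA ℂ G) = eT θ := by
  classical
  unfold eT
  rw [← extGA_mul]
  congr 1
  refine cl_ext ((eChi_isCl (irr_cl θ)).mul (eChi_isCl (irr_cl θ))) (eChi_isCl (irr_cl θ)) fun ψ => ?_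
  rw [om_mul ψ.2 (eChi_isCl (irr_cl θ)), om_eChi]
  by_cases h1 : ψ = θ
  · rw [if_pos h1, mul_one]
  · rw [if_neg h1, zero_mul]

theorem eT_ne_zero (θ : IrrCharacter N) : (eT θ : GA ℂ G) ≠ 0 := by
  intro h
  have h1 := congrArg (fun a : GA ℂ G => a 1) h
  have h2 : (eT θ : GA ℂ G) 1 = (Nat.card N : ℂ)⁻¹ * (θ.1 1 * conj (θ.1 1)) := by
    unfold eT
    rw [extGA_pos N.one_mem]
    rfl
  rw [h2] at h1
  have h3 : θ.1 1 ≠ 0 := isIrr_one_ne_zero θ.2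
  have h4 : (Nat.card N : ℂ) ≠ 0 := by exact_mod_cast Nat.card_pos.ne'
  have h5 : (starRingEnd ℂ) (θ.1 1) ≠ 0 := (map_ne_zero _).2 h3
  exact (mul_ne_zero (inv_ne_zero h4) (mul_ne_zero h3 h5)) h1

/-- Members of the principal block are invariant. -/
theorem invariant (hM : IsPModular p M) [Fintype N] (Z : Zs M N) {θ : IrrCharacter N}
    (hθ : θ ∈ principalBlock M N) (g : G) : cjI g θ = θ := by
  classical
  by_contra hne
  set γ : G ⧸ N := (g : G ⧸ N) with hγ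
  have hcomm : Z.z γ * eT θ = eT θ * Z.z γ := (Z.inv γ).comm _
  -- write the unit as `sg g * v`
  set v : GA ℂ G := sg g⁻¹ * Z.z γ with hv
  have hz : Z.z γ = sg g * v := by
    rw [hv, ← mul_assoc, sg_mul_sg, mul_inv_cancel, sg_one, one_mul]
  have hvs : ∀ h, v h ≠ 0 → h ∈ N := by
    intro h hh
    rw [hv, sg_mul_apply, inv_inv] at hh
    have := Z.sc γ _ hh
    rw [hγ, QuotientGroup.mk_mul] at this
    exact (QuotientGroup.eq_one_iff h).1 (mul_eq_left.1 this)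
  have hvc : ∀ φ : IrrCharacter N, v * eT φ = eT φ * v := by
    intro φ
    have h1 : v = extGA N (resGA N v) := (extGA_resGA hvs).symm
    rw [h1]
    unfold eT
    rw [← extGA_mul, ← extGA_mul, (eChi_isCl (irr_cl φ)).comm]
  have h1 : Z.z γ * eT θ = 0 := by
    have e1 : Z.z γ * eT θ = Z.z γ * eT θ * eT θ := by rw [mul_assoc, eT_idem]
    rw [e1, hcomm, hz]
    have e2 : eT θ * (sg g * v) = sg g * eT (cjI g θ) * v := by
      rw [← conj_eT θ g]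
      simp only [← mul_assoc]
      rw [sg_mul_sg, mul_inv_cancel, sg_one, one_mul]
    rw [e2, mul_assoc (sg g * eT (cjI g θ)), hvc θ, ← mul_assoc, mul_assoc (sg g), eT_mul_eT _ _ hne,
      mul_zero, zero_mul]
  obtain ⟨-, hun⟩ := om_unit hM Z hθ γ
  have hinv : NInv N (Z.z γ⁻¹ * Z.z γ) := (Z.inv _).mul (Z.inv _)
  have hsc : SC (1 : G ⧸ N) (Z.z γ⁻¹ * Z.z γ) := by
    have := (Z.sc γ⁻¹).mul (Z.sc γ)
    rwa [inv_mul_cancel] at this
  have h2 := mul_eT θ hinv hsc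
  rw [mul_assoc, h1, mul_zero] at h2
  rcases smul_eq_zero.1 h2.symm with h3 | h3
  · exact ne_zero_of_not_max hM hun h3
  · exact eT_ne_zero θ h3

end Inv

end Cfsg.Agent.Lib.BlkH8H
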