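import Cfsg.Agent.Lib.BlockRey
import Cfsg.Agent.Lib.BlockKB
import Cfsg.Agent.Lib.BlockLar
import Cfsg.Agent.Lib.BlockMaxB
import Cfsg.Agent.Lib.BlockIndIn
import Cfsg.Agent.Lib.BlockBFM

import Cfsg.Agent.Lib.BlkH8H

/-!
Restriction of the principal block to a normal subgroup of p'-index covered by centralizers.
-/

set_option autoImplicit false
set_option linter.style.haveILetI false
set_option linter.unusedVariables false
set_option linter.unusedSectionVars false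
set_option linter.unusedDecidableInType false
set_option linter.unusedFintypeInType false
set_option linter.unusedSimpArgs false

namespace Cfsg.Agent.Lib.BlkH8I
open Cfsg Cfsg.Agent.Lib.BlockLoc Cfsg.Agent.Lib.BlockGA Cfsg.Agent.Lib.CharBasic
open Cfsg.Agent.Lib.BlockIdem Cfsg.Agent.Lib.BlockPP Cfsg.Agent.Lib.BlockOrth
open Cfsg.Agent.Lib.BlockRed Cfsg.Agent.Lib.BlockDef Cfsg.Agent.Lib.BlockDeg
open Cfsg.Agent.Lib.BlockNP Cfsg.Agent.Lib.BlockInd Cfsg.Agent.Lib.BlockSecond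
open Cfsg.Agent.Lib.BlockFirst Cfsg.Agent.Lib.BlockHt Cfsg.Agent.Lib.BlockM
open Cfsg.Agent.Lib.BlockCov Cfsg.Agent.Lib.BlockQuot Cfsg.Agent.Lib.CharKer
open Cfsg.Agent.Lib.BlockQuotB Cfsg.Agent.Lib.BlockMore Cfsg.Agent.Lib.BlockMoreB
open Cfsg.Agent.Lib.BlockTr Cfsg.Agent.Lib.CharNormal Cfsg.Agent.Lib.BlockCovB
open Cfsg.Agent.Lib.BlockBP Cfsg.Agent.Lib.BlockInt Cfsg.Agent.Lib.BlockSum Cfsg.Agent.Lib.BlockRk
open Cfsg.Agent.Lib.BlockFusB Cfsg.Agent.Lib.BlockMax Cfsg.Agent.Lib.CharSplit Cfsg.Agent.Lib.CharBrauer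
open Cfsg.Agent.Lib.CharInd Cfsg.Agent.Lib.BlockPC Cfsg.Agent.Lib.BlockPair Cfsg.Agent.Lib.BlockPairB
open Cfsg.Agent.Lib.BlockPairC Cfsg.Agent.Lib.BlockPairD Cfsg.Agent.Lib.BlockPairE
open Cfsg.Agent.Lib.BlockRey Cfsg.Agent.Lib.BlockPairF Cfsg.Agent.Lib.BlockFus Cfsg.Agent.Lib.BlockNilB Cfsg.Agent.Lib.BlockNil Cfsg.Agent.Lib.CharClifford
open Cfsg.Agent.Lib.BlockKB Cfsg.Agent.Lib.BlockLar Cfsg.Agent.Lib.BlockMaxB Cfsg.Agent.Lib.BlockIndIn Cfsg.Agent.Lib.BlockBFM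
open Cfsg.Agent.Lib.BlkH8H
open scoped ComplexConjugate

open Cfsg.Agent.Lib.BlkH8G Cfsg.Agent.Lib.BlkH8F Cfsg.Agent.Lib.BlockCov

section CosetSum

variable {G : Type*} [Group G] [Finite G] {N : Subgroup G} [hN : N.Normal] {p : ℕ} {M : Ideal AlgInt}

theorem aug_cp [Fintype G] (γ : G ⧸ N) (a : GA ℂ G) [DecidableEq (G ⧸ N)] :
    aug (cp γ a) = ∑ g : G, if (g : G ⧸ N) = γ then a g else 0 := by
  rw [aug_eq]
  refine Finset.sum_congr rfl fun g _ => ?_
  by_cases h : (g : G ⧸ N) = γ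
  · rw [cp_pos h, if_pos h]
  · rw [cp_neg h, if_neg h]

theorem aug_cp_mul {f : GA ℂ G} {c : ℂ} (hf : ∀ γ : G ⧸ N, aug (cp γ f) = c) (a : GA ℂ G)
    (γ : G ⧸ N) : aug (cp γ (a * f)) = aug a * c := by
  classical
  cases nonempty_fintype G
  rw [aug_cp, aug_eq, Finset.sum_mul]
  simp only [ga_mul]
  have h1 : ∀ g : G, (if (g : G ⧸ N) = γ then ∑ h, a h * f (h⁻¹ * g) else 0) =
      ∑ h, a h * (if ((h⁻¹ * g : G) : G ⧸ N) = (h : G ⧸ N)⁻¹ * γ then f (h⁻¹ * g) else 0) := by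
    intro g
    by_cases hg : (g : G ⧸ N) = γ
    · rw [if_pos hg]
      refine Finset.sum_congr rfl fun h _ => ?_
      rw [if_pos (by rw [QuotientGroup.mk_mul, QuotientGroup.mk_inv, hg])]
    · rw [if_neg hg]
      symm
      refine Finset.sum_eq_zero fun h _ => ?_
      rw [if_neg, mul_zero]
      intro hh
      rw [QuotientGroup.mk_mul, QuotientGroup.mk_inv] at hh
      exact hg (mul_left_cancel hh)
  simp only [h1]
  rw [Finset.sum_comm]
  refine Finset.sum_congr rfl fun h _ => ?_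
  rw [← Finset.mul_sum]
  congr 1
  rw [← hf ((h : G ⧸ N)⁻¹ * γ), aug_cp]
  exact Fintype.sum_equiv (Equiv.mulLeft h⁻¹) _ _ (fun g => rfl)

theorem cp_sub (γ : G ⧸ N) (a b : GA ℂ G) : cp γ (a - b) = cp γ a - cp γ b := by
  ext g
  rw [ga_sub]
  by_cases h : (g : G ⧸ N) = γ
  · rw [cp_pos h, cp_pos h, cp_pos h, ga_sub]
  · rw [cp_neg h, cp_neg h, cp_neg h, sub_zero]

theorem cp_smul (γ : G ⧸ N) (c : ℂ) (a : GA ℂ G) : cp γ (c • a) = c • cp γ a := by
  ext g
  rw [ga_smul]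
  by_cases h : (g : G ⧸ N) = γ
  · rw [cp_pos h, cp_pos h, ga_smul]
  · rw [cp_neg h, cp_neg h, mul_zero]

theorem lemA (hM : IsPModular p M) [Fintype N] [Fintype (G ⧸ N)] (Z : Zs M N) {θ : IrrCharacter N}
    (hθ : θ ∈ principalBlock M N) {f : GA ℂ G} (hfc : IsCl f) (hfl : IsLoc M f) (hff : f * f = f)
    {c : ℂ} (hf : ∀ γ : G ⧸ N, aug (cp γ f) = c) {a : GA ℂ G} (ha : NInv N a) (hal : IsLoc M a) :
    ∃ κ : G ⧸ N → ℂ, (∀ γ, MemLocalIdeal M (κ γ)) ∧
      a * (f * eT θ) = aug a • (f * eT θ) + ∑ γ : G ⧸ N, κ γ • (Z.z γ * (f * eT θ)) := by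
  classical
  set y : GA ℂ G := a * f - aug a • f with hy
  have hyi : NInv N y := (ha.mul (NInv.of_isCl hfc)).sub ((NInv.of_isCl hfc).smul _)
  have hyl : IsLoc M y := (hal.mul hM hfl).sub hM (hfl.smul hM (loc_aug hM hal))
  have hy0 : ∀ γ : G ⧸ N, aug (cp γ y) = 0 := by
    intro γ
    rw [hy, cp_sub, aug_sub, aug_cp_mul hf, cp_smul, aug_smul, hf, sub_self]
  have h1 : ∀ γ : G ⧸ N, ∃ κ : ℂ, MemLocalIdeal M κ ∧ cp γ y * eT θ = κ • (Z.z γ * eT θ) := by
    intro γ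
    obtain ⟨κ, hκ, e⟩ := comp_eq hM Z hθ γ (cp_ninv γ hyi) (cp_loc hM γ hyl) (cp_SC γ y)
    rw [hy0, zero_div, sub_zero] at hκ
    exact ⟨κ, hκ, e⟩
  choose κ hκ1 hκ2 using h1
  refine ⟨κ, hκ1, ?_⟩
  have hyf : y * f = y := by
    rw [hy, sub_mul, mul_assoc, hff, smul_mul_assoc, hff]
  have h2 : y * eT θ = ∑ γ : G ⧸ N, κ γ • (Z.z γ * eT θ) := by
    conv_lhs => rw [sum_cp (N := N) y]
    rw [Finset.sum_mul]
    exact Finset.sum_congr rfl fun γ _ => hκ2 γ
  have hfe : f * eT θ = eT θ * f := hfc.comm _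
  have h3 : y * eT θ = ∑ γ : G ⧸ N, κ γ • (Z.z γ * (f * eT θ)) := by
    have e1 : y * eT θ = y * eT θ * f := by
      conv_lhs => rw [← hyf]
      rw [mul_assoc, hfe, mul_assoc]
    rw [e1, h2, Finset.sum_mul]
    refine Finset.sum_congr rfl fun γ _ => ?_
    rw [smul_mul_assoc, mul_assoc, hfe]
  rw [← h3, hy, sub_mul, smul_mul_assoc, mul_assoc]
  abel

theorem lemB (hM : IsPModular p M) {X V : Type*} [Fintype X] [AddCommGroup V] [Module ℂ V]
    (d : X → V) (w : V) (α : X → ℂ) (m : X → X → ℂ) (hm : ∀ i j, MemLocalIdeal M (m i j))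
    (h : ∀ i, d i = α i • w + ∑ j, m i j • d j) : ∃ s : X → ℂ, ∀ i, d i = s i • w := by
  classical
  let A : Matrix X X ℂ := 1 - Matrix.of m
  have hdet : IsUnit A.det := isUnit_det_of_congr_one hM A (fun i j => by
    have : (A - 1) i j = - m i j := by simp [A]
    rw [this]
    exact max_neg (hm i j))
  have hA : A⁻¹ * A = 1 := Matrix.nonsing_inv_mul A hdet
  have h1 : ∀ i, ∑ j, A i j • d j = α i • w := by
    intro i
    have : ∀ j, A i j • d j = ((1 : Matrix X X ℂ) i j) • d j - m i j • d j := by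
      intro j
      rw [← sub_smul]
      rfl
    simp only [this]
    rw [Finset.sum_sub_distrib]
    have h2 : ∑ j, ((1 : Matrix X X ℂ) i j) • d j = d i := by
      rw [Finset.sum_eq_single i]
      · rw [Matrix.one_apply_eq, one_smul]
      · intro j _ hj
        rw [Matrix.one_apply_ne hj.symm, zero_smul]
      · intro hi; exact absurd (Finset.mem_univ _) hi
    rw [h2]
    conv_lhs => rw [h i]
    abel
  refine ⟨fun i => ∑ j, A⁻¹ i j * α j, fun i => ?_⟩
  have h3 : d i = ∑ k, (A⁻¹ * A) i k • d k := by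
    rw [hA, Finset.sum_eq_single i]
    · rw [Matrix.one_apply_eq, one_smul]
    · intro j _ hj
      rw [Matrix.one_apply_ne hj.symm, zero_smul]
    · intro hi; exact absurd (Finset.mem_univ _) hi
  rw [h3, Finset.sum_smul]
  have h4 : ∑ k, (A⁻¹ * A) i k • d k = ∑ j, A⁻¹ i j • ∑ k, A j k • d k := by
    simp only [Matrix.mul_apply, Finset.sum_smul, Finset.smul_sum, mul_smul]
    rw [Finset.sum_comm]
  rw [h4]
  refine Finset.sum_congr rfl fun j _ => ?_
  rw [h1, mul_smul]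

theorem lemC (hM : IsPModular p M) [Fintype N] (Z : Zs M N) {θ : IrrCharacter N}
    (hθ : θ ∈ principalBlock M N) {f : GA ℂ G} (hfc : IsCl f) (hfl : IsLoc M f) (hff : f * f = f)
    {c : ℂ} (hf : ∀ γ : G ⧸ N, aug (cp γ f) = c) {a : GA ℂ G} (ha : NInv N a) (hal : IsLoc M a) :
    ∃ s : ℂ, a * (f * eT θ) = s • (f * eT θ) := by
  classical
  haveI : Fintype (G ⧸ N) := Fintype.ofFinite _
  choose m hm1 hm2 using fun γ : G ⧸ N => lemA hM Z hθ hfc hfl hff hf (Z.inv γ) (Z.loc γ)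
  obtain ⟨s, hs⟩ := lemB hM (fun γ => Z.z γ * (f * eT θ)) (f * eT θ) (fun γ => aug (Z.z γ)) m hm1 hm2
  obtain ⟨κ, -, e⟩ := lemA hM Z hθ hfc hfl hff hf ha hal
  refine ⟨aug a + ∑ γ, κ γ * s γ, ?_⟩
  rw [e, add_smul, Finset.sum_smul]
  congr 1
  refine Finset.sum_congr rfl fun γ _ => ?_
  rw [hs γ, mul_smul]

end CosetSum

section Main

variable {G : Type*} [Group G] [Finite G] {N : Subgroup G} [hN : N.Normal] {p : ℕ} {M : Ideal AlgInt}

/-- The sum over the conjugates, as a group algebra element. -/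
noncomputable def kN (N : Subgroup G) (g : G) : GA ℂ G :=
  haveI := Fintype.ofFinite N
  ∑ n : N, sg ((n : G) * g * (n : G)⁻¹)

theorem kN_eq [Fintype N] (g : G) : kN N g = ∑ n : N, (sg ((n : G) * g * (n : G)⁻¹) : GA ℂ G) := by
  unfold kN
  refine Finset.sum_congr ?_ fun _ _ => rfl
  ext; simp

theorem kN_inv (g : G) : NInv N (kN N g) := by
  classical
  haveI : Fintype N := Fintype.ofFinite _
  intro m hm
  rw [inv_iff_commute, kN_eq, Finset.mul_sum, Finset.sum_mul]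
  refine Fintype.sum_equiv (Equiv.mulLeft (⟨m, hm⟩ : N)) _ _ fun n => ?_
  rw [sg_mul_sg, sg_mul_sg]
  congr 1
  simp only [Equiv.coe_mulLeft, Subgroup.coe_mul]
  group

theorem kN_loc (hM : IsPModular p M) (g : G) : IsLoc M (kN N g) := by
  haveI : Fintype N := Fintype.ofFinite _
  rw [kN_eq]
  exact IsLoc.sum hM _ _ fun n _ => IsLoc.sg hM _

theorem om_kN (χ : IrrCharacter G) (g : G) :
    om χ.1 (kN N g) = (Nat.card N : ℂ) * (χ.1 g / χ.1 1) := by
  classical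
  haveI : Fintype N := Fintype.ofFinite _
  rw [kN_eq, om_sum]
  have : ∀ n : N, om χ.1 (sg ((n : G) * g * (n : G)⁻¹)) = χ.1 g / χ.1 1 := by
    intro n
    rw [om_sg, irr_cl χ g n]
  simp only [this]
  rw [Finset.sum_const, nsmul_eq_mul, Finset.card_univ, Nat.card_eq_fintype_card]

theorem main (hM : IsPModular p M) [Fintype N] (Z : Zs M N)
    {c : ℂ} (hf : ∀ γ : G ⧸ N, aug (cp γ (eB (principalBlock M G))) = c) {θ : IrrCharacter N}
    (hθ : θ ∈ principalBlock M N) {χ : IrrCharacter G} (hχ : χ ∈ principalBlock M G)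
    (hov : Over χ θ) :
    (∀ n : N, χ.1 n = θ.1 n) ∧ ∀ χ' ∈ principalBlock M G, Over χ' θ → χ' = χ := by
  classical
  cases nonempty_fintype G
  have hG0 : (Nat.card G : ℂ) ≠ 0 := by exact_mod_cast Nat.card_pos.ne'
  have hN0 : (Nat.card N : ℂ) ≠ 0 := by exact_mod_cast Nat.card_pos.ne'
  have hB := principal_isPBlock M G
  have hgi : GInv (G := G) (eChi θ.1) := by
    intro x n
    have := invariant hM Z hθ x
    have h0 : cj x θ.1 = θ.1 := Subtype.ext_iff.1 this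
    have h1 : θ.1 (cjAut x n) = θ.1 n := by
      have h2 := congrFun h0 n
      rw [cj_eq_comp] at h2
      exact h2
    rw [eChi_apply, eChi_apply, h1]
  have hecl : IsCl (eT θ : GA ℂ G) := extGA_isCl hgi
  have hom : ∀ ψ : IrrCharacter G, Over ψ θ → om ψ.1 (eT θ) = 1 := by
    intro ψ hψ
    unfold eT
    rw [om_extGA hψ hgi, om_eChi, if_pos rfl]
  set w : GA ℂ G := eB (principalBlock M G) * eT θ with hw
  have hwcl : IsCl w := (eB_isCl _).mul hecl
  have homw : ∀ ψ ∈ principalBlock M G, Over ψ θ → om ψ.1 w = 1 := by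
    intro ψ h1 h2
    rw [hw, om_mul ψ.2 (eB_isCl _), om_eB_mem h1, hom ψ h2, one_mul]
  choose s hs using fun g : G => lemC hM Z hθ (eB_isCl (principalBlock M G)) (isLoc_eB hM hB)
    (eB_idem _) hf (kN_inv (N := N) g) (kN_loc hM g)
  have hsv : ∀ ψ ∈ principalBlock M G, Over ψ θ → ∀ g, s g = (Nat.card N : ℂ) * (ψ.1 g / ψ.1 1) := by
    intro ψ h1 h2 g
    have e1 : om ψ.1 (w * kN N g) = om ψ.1 w * om ψ.1 (kN N g) := om_mul ψ.2 hwcl _
    rw [hwcl.comm, hs g, om_smul, homw ψ h1 h2, one_mul, mul_one, om_kN] at e1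
    exact e1
  have h10 : χ.1 1 ≠ 0 := isIrr_one_ne_zero χ.2
  constructor
  · -- irreducibility of the restriction
    have hwe : w * eChi χ.1 = eChi χ.1 := by
      refine cl_ext (hwcl.mul (eChi_isCl (irr_cl χ))) (eChi_isCl (irr_cl χ)) fun ψ => ?_
      rw [om_mul ψ.2 hwcl, om_eChi]
      by_cases h : ψ = χ
      · rw [if_pos h, h, homw χ hχ hov, mul_one]
      · rw [if_neg h, mul_zero]
    have hk : ∀ g, kN N g * eChi χ.1 = s g • eChi χ.1 := by
      intro g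
      rw [← hwe, ← mul_assoc, hs g, smul_mul_assoc]
    have hval : ∀ g, ∑ n : N, χ.1 (g⁻¹ * (n : G) * g * (n : G)⁻¹) = s g * χ.1 g⁻¹ := by
      intro g
      have h1 := congrArg (fun a : GA ℂ G => a g) (hk g)
      simp only [ga_smul] at h1
      rw [kN_eq, Finset.sum_mul, ga_sum] at h1
      simp only [sg_mul_apply, eChi_apply, conj_irr] at h1
      have h2 : ∀ n : N, ((((n : G) * g * (n : G)⁻¹)⁻¹ * g)⁻¹ : G) = g⁻¹ * (n : G) * g * (n : G)⁻¹ := by
        intro n; group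
      simp only [h2] at h1
      rw [← Finset.mul_sum] at h1
      simp only [← Finset.mul_sum] at h1
      have h3 : (Nat.card G : ℂ)⁻¹ * χ.1 1 ≠ 0 := mul_ne_zero (inv_ne_zero hG0) h10
      apply mul_left_cancel₀ h3
      linear_combination h1
    have hsum : (Nat.card G : ℂ) / χ.1 1 * ∑ n : N, χ.1 (n : G) * χ.1 (n : G)⁻¹ =
        (Nat.card N : ℂ) / χ.1 1 * (Nat.card G : ℂ) := by
      have e1 : ∑ g : G, ∑ n : N, χ.1 (g⁻¹ * (n : G) * g * (n : G)⁻¹) =
          (Nat.card G : ℂ) / χ.1 1 * ∑ n : N, χ.1 (n : G) * χ.1 (n : G)⁻¹ := by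
        rw [Finset.sum_comm, Finset.mul_sum]
        refine Finset.sum_congr rfl fun n _ => ?_
        rw [sum_conj_mul χ.2]
        ring
      have e2 : ∑ g : G, ∑ n : N, χ.1 (g⁻¹ * (n : G) * g * (n : G)⁻¹) =
          (Nat.card N : ℂ) / χ.1 1 * (Nat.card G : ℂ) := by
        have e3 : ∀ g : G, ∑ n : N, χ.1 (g⁻¹ * (n : G) * g * (n : G)⁻¹) =
            (Nat.card N : ℂ) / χ.1 1 * (χ.1 g * χ.1 g⁻¹) := by
          intro g
          rw [hval g, hsv χ hχ hov g]
          ring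
        simp only [e3]
        rw [← Finset.mul_sum]
        congr 1
        have e4 := irr_inner_self χ.2
        rw [classInner_def] at e4
        simp only [conj_irr] at e4
        rw [inv_mul_eq_iff_eq_mul₀ hG0, mul_one] at e4
        exact e4
      rw [← e1, e2]
    have hin : classInner (fun n : N => χ.1 (n : G)) (fun n : N => χ.1 (n : G)) = 1 := by
      rw [classInner_def]
      simp only [conj_irr]
      rw [inv_mul_eq_iff_eq_mul₀ hN0, mul_one]
      have h3 : (Nat.card G : ℂ) / χ.1 1 ≠ 0 := div_ne_zero hG0 h10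
      apply mul_left_cancel₀ h3
      rw [hsum]
      ring
    have hirr := isIrr_of_inner_self_one (Cfsg.Agent.Lib.CharInd.isChar_res N (isChar_of_irr χ.2)) hin
    have := irr_eq_of_inner_ne_zero hirr θ.2 hov
    exact fun n => congrFun this n
  · intro χ' hχ' hov'
    have h1 : ∀ g, χ'.1 g = (χ'.1 1 / χ.1 1) * χ.1 g := by
      intro g
      have e1 := hsv χ hχ hov g
      have e2 := hsv χ' hχ' hov' g
      rw [e1] at e2
      have e3 := mul_left_cancel₀ hN0 e2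
      have h20 : χ'.1 1 ≠ 0 := isIrr_one_ne_zero χ'.2
      field_simp at e3 ⊢
      linear_combination -e3
    by_contra hne
    have h2 := irr_inner_ne χ'.2 χ.2 (fun h => hne (Subtype.ext h))
    have h3 : χ'.1 = (χ'.1 1 / χ.1 1) • χ.1 := by
      funext g
      rw [Pi.smul_apply, smul_eq_mul]
      exact h1 g
    rw [h3, classInner_smul_left, irr_inner_self χ.2, mul_one] at h2
    exact (div_ne_zero (isIrr_one_ne_zero χ'.2) h10) h2

end Main

end Cfsg.Agent.Lib.BlkH8I
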