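import Cfsg.Agent.Lib.BlockRey
import Cfsg.Agent.Lib.BlockKB
import Cfsg.Agent.Lib.BlockLar
import Cfsg.Agent.Lib.BlockMaxB
import Cfsg.Agent.Lib.BlockIndIn
import Cfsg.Agent.Lib.BlockBFM

import Cfsg.Agent.Lib.BlkH8I
import Cfsg.Agent.Lib.BlockQuot

/-!
Coset sums of the principal block idempotent.
-/

set_option autoImplicit false
set_option linter.style.haveILetI false
set_option linter.unusedVariables false
set_option linter.unusedSectionVars false
set_option linter.unusedDecidableInType false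
set_option linter.unusedFintypeInType false
set_option linter.unusedSimpArgs false

namespace Cfsg.Agent.Lib.BlkH8J
open Cfsg Cfsg.Agent.Lib.BlockLoc Cfsg.Agent.Lib.BlockGA Cfsg.Agent.Lib.CharBasic
open Cfsg.Agent.Lib.BlockIdem Cfsg.Agent.Lib.BlockPP Cfsg.Agent.Lib.BlockOrth
open Cfsg.Agent.Lib.BlockRed Cfsg.Agent.Lib.BlockDef Cfsg.Agent.Lib.BlockDeg
open Cfsg.Agent.Lib.BlockNP Cfsg.Agent.Lib.BlockInd Cfsg.Agent.Lib.BlockSecond
open Cfsg.Agent.Lib.BlockFirst Cfsg.Agent.Lib.BlockHt Cfsg.Agent.Lib.BlockM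
open Cfsg.Agent.Lib.BlockCov Cfsg.Agent.Lib.BlockQuot Cfsg.Agent.Lib.CharKer
open Cfsg.Agent.Lib.BlockQuotB Cfsg.Agent.Lib.BlockMore Cfsg.Agent.Lib.BlockMoreB
open Cfsg.Agent.Lib.BlockTr Cfsg.Agent.Lib.CharNormal Cfsg.Agent.Lib.BlockCovB
open Cfsg.Agent.Lib.BlockBP Cfsg.Agent.Lib.BlockInt Cfsg.Agent.Lib.BlockSum Cfsg.Agent.Lib.BlockRk
open Cfsg.Agent.Lib.BlockFusB Cfsg.Agent.Lib.BlockMax Cfsg.Agent.Lib.CharSplit Cfsg.Agent.Lib.CharBrauer
open Cfsg.Agent.Lib.CharInd Cfsg.Agent.Lib.BlockPC Cfsg.Agent.Lib.BlockPair Cfsg.Agent.Lib.BlockPairB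
open Cfsg.Agent.Lib.BlockPairC Cfsg.Agent.Lib.BlockPairD Cfsg.Agent.Lib.BlockPairE
open Cfsg.Agent.Lib.BlockRey Cfsg.Agent.Lib.BlockPairF Cfsg.Agent.Lib.BlockFus Cfsg.Agent.Lib.BlockNilB Cfsg.Agent.Lib.BlockNil Cfsg.Agent.Lib.CharClifford
open Cfsg.Agent.Lib.BlockKB Cfsg.Agent.Lib.BlockLar Cfsg.Agent.Lib.BlockMaxB Cfsg.Agent.Lib.BlockIndIn Cfsg.Agent.Lib.BlockBFM
open Cfsg.Agent.Lib.BlkH8I Cfsg.Agent.Lib.BlockQuot
open scoped ComplexConjugate

open Cfsg.Agent.Lib.BlkH8G Cfsg.Agent.Lib.BlkH8F Cfsg.Agent.Lib.BlkH8H Cfsg.Agent.Lib.BlkH8B Cfsg.Agent.Lib.BlockCov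

section CS

variable {G : Type*} [Group G] [Finite G] {N : Subgroup G} [hN : N.Normal] {p : ℕ} {M : Ideal AlgInt}

theorem infl_principal (hM : IsPModular p M) [Fact p.Prime] (P : Sylow p G) (hidx : ¬ p ∣ N.index)
    (hcov : ∀ γ : G ⧸ N, ∃ g : G, (g : G ⧸ N) = γ ∧ ∀ x ∈ (P : Subgroup G), Commute g x)
    {χ : IrrCharacter (G ⧸ N)}
    (hχ : inflI (QuotientGroup.mk' N) (QuotientGroup.mk'_surjective N) χ ∈ principalBlock M G) :
    χ = triv (G ⧸ N) := by
  have hcard : ¬ p ∣ Nat.card (G ⧸ N) := by rwa [← Subgroup.index_eq_card]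
  have h1 := blockOf_of_not_dvd hM hcard (triv (G ⧸ N))
  have h2 : χ ∈ blockOf M (triv (G ⧸ N)).1 := by
    intro γ
    obtain ⟨g, hg, hc⟩ := hcov γ
    have hs := hχ g
    have hi := index_coprime P hc
    have him : ¬ MemLocalIdeal M (((Subgroup.centralizer ({g} : Set G)).index : ℕ) : ℂ) := by
      rwa [max_natCast_iff hM]
    have h10 : χ.1 1 ≠ 0 := isIrr_one_ne_zero χ.2
    have e1 : centralChar (fun _ : G => (1 : ℂ)) g -
        centralChar (inflI (QuotientGroup.mk' N) (QuotientGroup.mk'_surjective N) χ).1 g =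
        ((Subgroup.centralizer ({g} : Set G)).index : ℂ) * (1 - χ.1 γ / χ.1 1) := by
      have e2 : (inflI (QuotientGroup.mk' N) (QuotientGroup.mk'_surjective N) χ).1 g = χ.1 γ := by
        rw [← hg]; rfl
      have e3 : (inflI (QuotientGroup.mk' N) (QuotientGroup.mk'_surjective N) χ).1 1 = χ.1 1 := by
        change χ.1 ((QuotientGroup.mk' N) 1) = _
        rw [map_one]
      unfold centralChar
      rw [e2, e3]
      field_simp
    rw [e1] at hs
    have h3 : MemLocalIdeal M (1 - χ.1 γ / χ.1 1) := by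
      have := max_div hM hs (loc_natCast hM _) him
      rwa [mul_div_cancel_left₀ _ (ne_zero_of_not_max hM him)] at this
    have e4 : centralChar (triv (G ⧸ N)).1 γ - centralChar χ.1 γ =
        ((Subgroup.centralizer ({γ} : Set (G ⧸ N))).index : ℂ) * (1 - χ.1 γ / χ.1 1) := by
      have e5 : (triv (G ⧸ N)).1 γ = 1 := rfl
      have e6 : (triv (G ⧸ N)).1 1 = 1 := rfl
      unfold centralChar
      rw [e5, e6]
      field_simp
    rw [e4]
    exact max_mul_left hM (loc_natCast hM _) h3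
  rw [h1, Set.mem_singleton_iff] at h2
  exact h2

theorem coset_sum (hM : IsPModular p M) [Fact p.Prime] (P : Sylow p G) (hidx : ¬ p ∣ N.index)
    (hcov : ∀ γ : G ⧸ N, ∃ g : G, (g : G ⧸ N) = γ ∧ ∀ x ∈ (P : Subgroup G), Commute g x)
    (γ : G ⧸ N) : aug (cp γ (eB (principalBlock M G))) = (Nat.card (G ⧸ N) : ℂ)⁻¹ := by
  classical
  cases nonempty_fintype G
  rw [aug_cp]
  have h1 := mapGA_apply (QuotientGroup.mk' N) (eB (principalBlock M G)) γ
  have h2 : (∑ g : G, if (g : G ⧸ N) = γ then (eB (principalBlock M G)) g else 0) =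
      (mapGA (QuotientGroup.mk' N) (eB (principalBlock M G))) γ := by
    rw [h1]
    rfl
  rw [h2, mapGA_eB _ (QuotientGroup.mk'_surjective N)]
  have h3 : {χ | inflI (QuotientGroup.mk' N) (QuotientGroup.mk'_surjective N) χ ∈ principalBlock M G} =
      {triv (G ⧸ N)} := by
    ext χ
    rw [Set.mem_singleton_iff]
    constructor
    · intro h
      exact infl_principal hM P hidx hcov h
    · rintro rfl
      exact triv_mem hM
  rw [h3, eB_apply, blockCoeff_eq]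
  have h4 : (Finset.univ.filter (· ∈ ({triv (G ⧸ N)} : Set (IrrCharacter (G ⧸ N))))) = {triv (G ⧸ N)} := by
    ext χ
    simp
  rw [h4, Finset.sum_singleton]
  have e5 : (triv (G ⧸ N)).1 γ⁻¹ = 1 := rfl
  have e6 : (triv (G ⧸ N)).1 1 = 1 := rfl
  rw [e5, e6, mul_one, mul_one]

end CS

end Cfsg.Agent.Lib.BlkH8J
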