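import Mathlib
import Cfsg.Agent.Lib.Cores
import Cfsg.Agent.Lib.BlockPP
set_option autoImplicit false

/-!
# Covering by conjugates; Sylow direct factors
-/

open Subgroup Cfsg.Agent.Lib.BlockPP
open scoped Pointwise

namespace Cfsg.Agent.Lib.ConjCover

variable {G : Type*} [Group G] [Finite G]

/-- a finite group is not the union of the conjugates of a proper subgroup -/
theorem eq_top_of_conj_cover (H : Subgroup G) (h : ∀ g : G, ∃ c : G, c⁻¹ * g * c ∈ H) : H = ⊤ := by
  classical
  have : Fintype G := Fintype.ofFinite G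
  have : Fintype (G ⧸ H) := Fintype.ofFinite _
  have : Fintype (Quotient (MulAction.orbitRel G (G ⧸ H))) := Fintype.ofFinite _
  have h1 := MulAction.sum_card_fixedBy_eq_card_orbits_mul_card_group G (G ⧸ H)
  have h2 : Fintype.card (Quotient (MulAction.orbitRel G (G ⧸ H))) ≤ 1 := by
    rw [Fintype.card_le_one_iff_subsingleton]
    exact MulAction.pretransitive_iff_subsingleton_quotient G (G ⧸ H) |>.mp inferInstance
  have h3 : ∀ g : G, 1 ≤ Fintype.card (MulAction.fixedBy (G ⧸ H) g) := by
    intro g
    obtain ⟨c, hc⟩ := h g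
    rw [Nat.one_le_iff_ne_zero, ← Nat.pos_iff_ne_zero, Fintype.card_pos_iff]
    refine ⟨⟨(c : G ⧸ H), ?_⟩⟩
    change ((g * c : G) : G ⧸ H) = c
    rw [eq_comm, QuotientGroup.eq, ← mul_assoc]
    exact hc
  have h4 : Fintype.card (MulAction.fixedBy (G ⧸ H) (1 : G)) = Fintype.card (G ⧸ H) := by
    apply Fintype.card_congr
    refine ⟨fun x => x.1, fun x => ⟨x, one_smul _ _⟩, fun _ => rfl, fun _ => rfl⟩
  have h5 : (Finset.univ.erase (1 : G)).card + Fintype.card (G ⧸ H) ≤
      ∑ g : G, Fintype.card (MulAction.fixedBy (G ⧸ H) g) := by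
    rw [← Finset.sum_erase_add _ _ (Finset.mem_univ (1 : G)), h4, Finset.card_eq_sum_ones]
    exact Nat.add_le_add_right (Finset.sum_le_sum fun g _ => h3 g) _
  rw [h1, Finset.card_erase_of_mem (Finset.mem_univ _), Finset.card_univ] at h5
  have h6 : Fintype.card (Quotient (MulAction.orbitRel G (G ⧸ H))) * Fintype.card G ≤
      Fintype.card G := by
    calc _ ≤ 1 * Fintype.card G := Nat.mul_le_mul_right _ h2
      _ = _ := one_mul _
  have h7 : 0 < Fintype.card G := Fintype.card_pos
  have h8 : Fintype.card (G ⧸ H) ≤ 1 := by omega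
  rw [← index_eq_one, index_eq_card, Nat.card_eq_fintype_card]
  have h9 : 0 < Fintype.card (G ⧸ H) := Fintype.card_pos
  omega

/-- if `G = P C_G(P)` for a Sylow subgroup `P`, then `P` is a direct factor -/
theorem direct_factor {p : ℕ} [Fact p.Prime] (P : Sylow p G)
    (h : (P : Subgroup G) ⊔ centralizer ((P : Subgroup G) : Set G) = ⊤) :
    (P : Subgroup G).Normal ∧ ∃ K : Subgroup G, K.Normal ∧ ¬ p ∣ Nat.card K ∧
      (P : Subgroup G) ⊓ K = ⊥ ∧ (P : Subgroup G) ⊔ K = ⊤ := by
  have hPn : (P : Subgroup G).Normal := by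
    rw [← normalizer_eq_top_iff, eq_top_iff, ← h]
    exact sup_le le_normalizer (centralizer_le_normalizer _)
  refine ⟨hPn, ?_⟩
  have hcop : (Nat.card (P : Subgroup G)).Coprime (P : Subgroup G).index := by
    obtain ⟨k, hk⟩ := P.isPGroup'.exists_card_eq
    rw [hk]
    apply Nat.Coprime.pow_left
    exact ((Fact.out : p.Prime).coprime_iff_not_dvd).mpr P.not_dvd_index
  obtain ⟨K, hK⟩ := exists_right_complement'_of_coprime hcop
  have hKcard : Nat.card K = (P : Subgroup G).index := hK.symm.index_eq_card.symm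
  have hKp : ¬ p ∣ Nat.card K := by rw [hKcard]; exact P.not_dvd_index
  have hKC : K ≤ centralizer ((P : Subgroup G) : Set G) := by
    intro k hk
    obtain ⟨u, hu, v, hv, huv⟩ := mem_sup_of_normal_left.mp (show k ∈ (P : Subgroup G) ⊔
      centralizer ((P : Subgroup G) : Set G) by rw [h]; trivial)
    have hcomm : Commute u v := mem_centralizer_iff.mp hv u hu
    have hkn : u ^ orderOf k * v ^ orderOf k = 1 := by
      rw [← hcomm.mul_pow, huv, pow_orderOf_eq_one]
    have h1 : u ^ orderOf k ∈ centralizer ((P : Subgroup G) : Set G) := by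
      rw [mul_eq_one_iff_eq_inv.mp hkn]
      exact inv_mem (pow_mem hv _)
    have h2 : u ∈ centralizer ((P : Subgroup G) : Set G) := by
      obtain ⟨j, hj⟩ := (IsPGroup.iff_orderOf.mp P.isPGroup') ⟨u, hu⟩
      rw [← orderOf_coe] at hj
      change orderOf u = p ^ j at hj
      have hco : Nat.Coprime (orderOf k) (orderOf u) := by
        rw [hj]
        apply Nat.Coprime.pow_right
        have h3 : ¬ p ∣ orderOf k := by
          intro hd
          apply hKp
          have := orderOf_dvd_natCard (⟨k, hk⟩ : K)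
          rw [← orderOf_coe] at this
          exact hd.trans this
        exact (((Fact.out : p.Prime).coprime_iff_not_dvd).mpr h3).symm
      obtain ⟨t, ht⟩ := exists_pow_eq_self_of_coprime hco
      rw [← ht]
      exact pow_mem h1 _
    rw [← huv]
    exact mul_mem h2 hv
  have hsup : (P : Subgroup G) ⊔ K = ⊤ := hK.sup_eq_top
  refine ⟨K, ?_, hKp, disjoint_iff.mp hK.disjoint, hsup⟩
  rw [← normalizer_eq_top_iff, eq_top_iff, ← hsup]
  apply sup_le _ le_normalizer
  intro x hx
  have hc : ∀ k ∈ K, x * k * x⁻¹ = k := by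
    intro k hk
    have := mem_centralizer_iff.mp (hKC hk) x hx
    rw [this, mul_inv_cancel_right]
  rw [mem_normalizer_iff]
  intro k
  constructor
  · intro hk
    rw [hc k hk]
    exact hk
  · intro hk
    have h1 := mem_centralizer_iff.mp (hKC hk) x hx
    have h2 : x * k * x⁻¹ = k := by
      have h3 : x * (x * k * x⁻¹) = x * k := by rw [h1]; group
      exact mul_left_cancel h3
    rwa [h2] at hk

end Cfsg.Agent.Lib.ConjCover
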