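import Cfsg.Agent.Lib.BlockRey
import Cfsg.Agent.Lib.BlockKB
import Cfsg.Agent.Lib.BlockLar
import Cfsg.Agent.Lib.BlockMaxB
import Cfsg.Agent.Lib.BlockIndIn
import Cfsg.Agent.Lib.BlockBFM

import Cfsg.Agent.Lib.BlkH8A
import Cfsg.Agent.Lib.BlkH8F
import Cfsg.Agent.Lib.PSol
import Cfsg.Agent.Lib.PSolB
import Cfsg.Agent.Lib.Cores
import Cfsg.Agent.Lib.ConjCover

/-!
Ito's theorem for p-solvable groups.
-/

set_option autoImplicit false
set_option linter.style.haveILetI false
set_option linter.unusedVariables false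
set_option linter.unusedSectionVars false
set_option linter.unusedDecidableInType false
set_option linter.unusedFintypeInType false
set_option linter.unusedSimpArgs false

namespace Cfsg.Agent.Lib.BlkH8N
open Cfsg Cfsg.Agent.Lib.BlockLoc Cfsg.Agent.Lib.BlockGA Cfsg.Agent.Lib.CharBasic
open Cfsg.Agent.Lib.BlockIdem Cfsg.Agent.Lib.BlockPP Cfsg.Agent.Lib.BlockOrth
open Cfsg.Agent.Lib.BlockRed Cfsg.Agent.Lib.BlockDef Cfsg.Agent.Lib.BlockDeg
open Cfsg.Agent.Lib.BlockNP Cfsg.Agent.Lib.BlockInd Cfsg.Agent.Lib.BlockSecond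
open Cfsg.Agent.Lib.BlockFirst Cfsg.Agent.Lib.BlockHt Cfsg.Agent.Lib.BlockM
open Cfsg.Agent.Lib.BlockCov Cfsg.Agent.Lib.BlockQuot Cfsg.Agent.Lib.CharKer
open Cfsg.Agent.Lib.BlockQuotB Cfsg.Agent.Lib.BlockMore Cfsg.Agent.Lib.BlockMoreB
open Cfsg.Agent.Lib.BlockTr Cfsg.Agent.Lib.CharNormal Cfsg.Agent.Lib.BlockCovB
open Cfsg.Agent.Lib.BlockBP Cfsg.Agent.Lib.BlockInt Cfsg.Agent.Lib.BlockSum Cfsg.Agent.Lib.BlockRk
open Cfsg.Agent.Lib.BlockFusB Cfsg.Agent.Lib.BlockMax Cfsg.Agent.Lib.CharSplit Cfsg.Agent.Lib.CharBrauer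
open Cfsg.Agent.Lib.CharInd Cfsg.Agent.Lib.BlockPC Cfsg.Agent.Lib.BlockPair Cfsg.Agent.Lib.BlockPairB
open Cfsg.Agent.Lib.BlockPairC Cfsg.Agent.Lib.BlockPairD Cfsg.Agent.Lib.BlockPairE
open Cfsg.Agent.Lib.BlockRey Cfsg.Agent.Lib.BlockPairF Cfsg.Agent.Lib.BlockFus Cfsg.Agent.Lib.BlockNilB Cfsg.Agent.Lib.BlockNil Cfsg.Agent.Lib.CharClifford
open Cfsg.Agent.Lib.BlockKB Cfsg.Agent.Lib.BlockLar Cfsg.Agent.Lib.BlockMaxB Cfsg.Agent.Lib.BlockIndIn Cfsg.Agent.Lib.BlockBFM
open Cfsg.Agent.Lib.BlkH8A Cfsg.Agent.Lib.BlkH8F Cfsg.Agent.Lib.PSol Cfsg.Agent.Lib.PSolB Cfsg.Agent.Lib.Cores Cfsg.Agent.Lib.ConjCover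
open scoped ComplexConjugate

open Cfsg.Agent.Lib.BlkH8A Cfsg.Agent.Lib.BlkH8F

universe uN

section Deg

variable {G : Type*} [Group G] [Finite G] {p : ℕ}

theorem dvd_of_over {N : Subgroup G} [N.Normal] [Fintype N] {χ : IrrCharacter G}
    {θ : IrrCharacter N} (h : Over χ θ) :
    (inertia θ.1).index * charDegree θ.1 ∣ charDegree χ.1 := by
  classical
  haveI := Fintype.ofFinite G
  have hAT : N ≤ inertia θ.1 := le_inertia (isChar_classFn (isChar_of_irr θ.2))
  haveI : Fintype (inertia θ.1) := Fintype.ofFinite _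
  obtain ⟨ψ, hψ, h1, h2, h3⟩ := exists_clifford θ.2 (T := inertia θ.1)
    (fun g => mem_inertia) hAT χ.2 h
  obtain ⟨e, he⟩ := exists_nat_inner (Cfsg.Agent.Lib.CharInd.isChar_res N (isChar_of_irr χ.2)) θ.2
  refine ⟨e, ?_⟩
  have h4 : χ.1 1 = ((inertia θ.1).index : ℂ) * ψ 1 := by
    rw [← h1, Cfsg.Agent.Lib.CharInd.indFun_one]
  have h5 : ψ 1 = e * θ.1 1 := by
    have := congrFun h3 1
    rw [he] at this
    exact this
  have h6 : (charDegree χ.1 : ℂ) = (((inertia θ.1).index * charDegree θ.1 * e : ℕ) : ℂ) := by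
    rw [charDegree_cast (isChar_of_irr χ.2), h4, h5]
    push_cast
    rw [charDegree_cast (isChar_of_irr θ.2)]
    ring
  exact_mod_cast h6

theorem not_dvd_below {N : Subgroup G} [N.Normal] (hdeg : ∀ χ : IrrCharacter G, ¬ p ∣ charDegree χ.1)
    (θ : IrrCharacter N) : ¬ p ∣ (inertia θ.1).index ∧ ¬ p ∣ charDegree θ.1 := by
  classical
  haveI := Fintype.ofFinite G
  haveI := Fintype.ofFinite N
  obtain ⟨χ, hχ⟩ := exists_over_above (G := G) θ
  have h := dvd_of_over hχ
  exact ⟨fun hd => hdeg χ ((Dvd.dvd.mul_right hd _).trans h),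
    fun hd => hdeg χ ((Dvd.dvd.mul_left hd _).trans h)⟩

theorem comm_of_deg [Fact p.Prime] {Q : Subgroup G} [Q.Normal] (hQ : IsPGroup p Q)
    (hdeg : ∀ χ : IrrCharacter G, ¬ p ∣ charDegree χ.1) : ∀ a ∈ Q, ∀ b ∈ Q, a * b = b * a := by
  intro a ha b hb
  have h := comm_of_linear (D := Q) (fun ζ => ?_) ⟨a, ha⟩ ⟨b, hb⟩
  · exact congrArg Subtype.val h
  · obtain ⟨n, hn⟩ := IsPGroup.iff_card.1 hQ
    have h1 := charDegree_dvd ζ.2
    rw [hn] at h1
    obtain ⟨j, -, hj⟩ := (Nat.dvd_prime_pow Fact.out).1 h1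
    rcases Nat.eq_zero_or_pos j with h6 | h6
    · rw [hj, h6, pow_zero]
    · exact absurd (hj ▸ dvd_pow_self p h6.ne') (not_dvd_below hdeg ζ).2

theorem central_of_deg [Fact p.Prime] {N : Subgroup G} [hN : N.Normal] (hNp : ¬ p ∣ Nat.card N)
    {P : Subgroup G} (hP : IsPGroup p P) (hidx : ∃ k, N.index = p ^ k)
    (hdeg : ∀ χ : IrrCharacter G, ¬ p ∣ charDegree χ.1) : ∀ x ∈ P, ∀ n ∈ N, x * n = n * x := by
  classical
  haveI := Fintype.ofFinite G
  haveI := Fintype.ofFinite N
  have hinv : ∀ (θ : IrrCharacter N) (g : G), cj g θ.1 = θ.1 := by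
    intro θ g
    have hAT : N ≤ inertia θ.1 := le_inertia (isChar_classFn (isChar_of_irr θ.2))
    obtain ⟨k, hk⟩ := hidx
    have h1 : (inertia θ.1).index ∣ p ^ k := hk ▸ Subgroup.index_dvd_of_le hAT
    obtain ⟨j, -, hj⟩ := (Nat.dvd_prime_pow Fact.out).1 h1
    have h2 : (inertia θ.1).index = 1 := by
      rcases Nat.eq_zero_or_pos j with h6 | h6
      · rw [hj, h6, pow_zero]
      · exact absurd (hj ▸ dvd_pow_self p h6.ne') (not_dvd_below hdeg θ).1
    rw [Subgroup.index_eq_one] at h2
    exact mem_inertia.1 (h2 ▸ Subgroup.mem_top g)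
  -- all classes are invariant
  have hcls : ∀ (x : G) (n : N), IsConj n (⟨x * n * x⁻¹, hN.conj_mem n n.2 x⟩ : N) := by
    intro x n
    refine Cfsg.Agent.Lib.CharBasic.irr_separates fun θ => ?_
    exact (congrFun (hinv θ x) n).symm
  set H : Subgroup N := (Subgroup.centralizer (P : Set G)).subgroupOf N with hH
  have htop : H = ⊤ := by
    refine Cfsg.Agent.Lib.ConjCover.eq_top_of_conj_cover H fun n => ?_
    let act : MulAction P {y : N // IsConj n y} :=
      { smul := fun x y => ⟨⟨x * y.1 * (x : G)⁻¹, hN.conj_mem _ y.1.2 _⟩, y.2.trans (hcls x y.1)⟩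
        one_smul := by
          intro y
          apply Subtype.ext
          apply Subtype.ext
          change ((1 : P) : G) * (y.1 : G) * ((1 : P) : G)⁻¹ = y.1
          simp
        mul_smul := by
          intro a b y
          apply Subtype.ext
          apply Subtype.ext
          change ((a * b : P) : G) * (y.1 : G) * ((a * b : P) : G)⁻¹ =
            (a : G) * ((b : G) * (y.1 : G) * (b : G)⁻¹) * (a : G)⁻¹
          rw [Subgroup.coe_mul, mul_inv_rev]
          group }
    have hcard : ¬ p ∣ Nat.card {y : N // IsConj n y} := by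
      have h1 : Nat.card {y : N // IsConj n y} = (Subgroup.centralizer ({n} : Set N)).index := by
        rw [← card_conj_filter n, Nat.card_eq_fintype_card, Fintype.card_subtype]
      rw [h1]
      exact fun hd => hNp (hd.trans (Subgroup.index_dvd_card _))
    obtain ⟨y, hy⟩ := hP.nonempty_fixed_point_of_prime_not_dvd_card
      {y : N // IsConj n y} hcard
    obtain ⟨c, hc⟩ := isConj_iff.1 y.2
    refine ⟨c⁻¹, ?_⟩
    rw [inv_inv, hc, hH, Subgroup.mem_subgroupOf, Subgroup.mem_centralizer_iff]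
    intro x hx
    have h2 := hy ⟨x, hx⟩
    have h3 : x * (y.1 : G) * x⁻¹ = y.1 := congrArg (fun z : {y : N // IsConj n y} => (z.1 : G)) h2
    exact mul_inv_eq_iff_eq_mul.1 h3
  intro x hx n hn
  have h1 : (⟨n, hn⟩ : N) ∈ H := htop ▸ Subgroup.mem_top _
  rw [hH, Subgroup.mem_subgroupOf, Subgroup.mem_centralizer_iff] at h1
  exact h1 x hx

end Deg

theorem ito_psolv (p : ℕ) [hp : Fact p.Prime] (n : ℕ) : ∀ (G : Type uN) [Group G] [Finite G],
    Nat.card G ≤ n → IsPSolvable p G → (∀ χ : IrrCharacter G, ¬ p ∣ charDegree χ.1) →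
    ∃ P : Subgroup G, P.Normal ∧ (∀ x ∈ P, ∀ y ∈ P, x * y = y * x) ∧ IsPGroup p P ∧
      ¬ p ∣ P.index := by
  classical
  induction n with
  | zero =>
    intro G _ _ h
    have : 0 < Nat.card G := Nat.card_pos
    omega
  | succ n ih =>
    intro G _ _ hcard hsolv hdeg
    rcases subsingleton_or_nontrivial G with hG | hG
    · refine ⟨⊥, inferInstance, ?_, IsPGroup.of_bot, ?_⟩
      · intro x _ y _; exact Subsingleton.elim _ _
      · rw [Subgroup.index_bot]
        rw [Nat.card_of_subsingleton (1 : G)]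
        exact fun hd => hp.out.one_lt.ne' (Nat.dvd_one.1 hd)
    · have hq : ∀ (K : Subgroup G) [K.Normal], K ≠ ⊥ → ∃ L : Subgroup G, L.Normal ∧ K ≤ L ∧
          IsPGroup p (L.map (QuotientGroup.mk' K)) ∧ (∃ k, K.relIndex L = p ^ k) ∧ ¬ p ∣ L.index := by
        intro K hK hKb
        have h1 : Nat.card (G ⧸ K) ≤ n := by
          have h2 := Subgroup.card_eq_card_quotient_mul_card_subgroup K
          have h3 : 1 < Nat.card K := by
            rw [Subgroup.one_lt_card_iff_ne_bot]; exact hKb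
          have h4 : 0 < Nat.card (G ⧸ K) := Nat.card_pos
          nlinarith
        obtain ⟨P, hP1, hP2, hP3, hP4⟩ := ih (G ⧸ K) h1 (Cfsg.Agent.Lib.PSol.quotient hsolv K)
          (fun χ => hdeg (inflI (QuotientGroup.mk' K) (QuotientGroup.mk'_surjective K) χ))
        have hmap : (P.comap (QuotientGroup.mk' K)).map (QuotientGroup.mk' K) = P :=
          Subgroup.map_comap_eq_self_of_surjective (QuotientGroup.mk'_surjective K) P
        refine ⟨P.comap (QuotientGroup.mk' K), inferInstance, ?_, ?_, ?_, ?_⟩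
        · intro k hk
          rw [Subgroup.mem_comap]
          have : QuotientGroup.mk' K k = 1 := (QuotientGroup.eq_one_iff k).2 hk
          rw [this]; exact P.one_mem
        · rw [hmap]; exact hP3
        · obtain ⟨k, hk⟩ := IsPGroup.iff_card.1 hP3
          refine ⟨k, ?_⟩
          rw [← hk]
          have h5 := Subgroup.relIndex_ker (P.comap (QuotientGroup.mk' K)) (QuotientGroup.mk' K)
          rw [QuotientGroup.ker_mk', hmap] at h5
          exact h5
        · rw [Subgroup.index_comap_of_surjective _ (QuotientGroup.mk'_surjective K)]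
          exact hP4
      rcases Cfsg.Agent.Lib.PSol.core_ne_bot hsolv with hK | hN
      · haveI hKn : (pCore p G).Normal := Cfsg.Agent.Lib.Cores.pCore_normal p
        obtain ⟨L, hL1, hKL, hL2, hL3, hL4⟩ := hq (pCore p G) hK
        have hLp : IsPGroup p L := by
          obtain ⟨a, ha⟩ := IsPGroup.iff_card.1 (Cfsg.Agent.Lib.Cores.pCore_isPGroup (G := G) p)
          obtain ⟨b, hb⟩ := hL3
          have h1 := Subgroup.relIndex_mul_relIndex ⊥ (pCore p G) L bot_le hKL
          rw [Subgroup.relIndex_bot_left, Subgroup.relIndex_bot_left, ha, hb, ← pow_add] at h1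
          exact IsPGroup.of_card h1.symm
        exact ⟨L, hL1, comm_of_deg hLp hdeg, hLp, hL4⟩
      · haveI hNn : (pPrimeCore p G).Normal := Cfsg.Agent.Lib.Cores.pPrimeCore_normal p
        obtain ⟨L, hL1, hNL, hL2, hL3, hL4⟩ := hq (pPrimeCore p G) hN
        set N := pPrimeCore p G with hNdef
        have hNp : ¬ p ∣ Nat.card N := Cfsg.Agent.Lib.Cores.pPrimeCore_not_dvd p
        obtain ⟨S⟩ : Nonempty (Sylow p L) := inferInstance
        haveI hN'n : (N.subgroupOf L).Normal := inferInstance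
        have hN'p : ¬ p ∣ Nat.card (N.subgroupOf L) := by
          rw [Nat.card_congr (Subgroup.subgroupOfEquivOfLe hNL).toEquiv]
          exact hNp
        have hLdeg : ∀ θ : IrrCharacter L, ¬ p ∣ charDegree θ.1 := fun θ => (not_dvd_below hdeg θ).2
        have hcen := central_of_deg (G := L) (N := N.subgroupOf L) hN'p (P := (S : Subgroup L)) S.2
          hL3 hLdeg
        have hsup : N.subgroupOf L ⊔ (S : Subgroup L) = ⊤ := by
          rw [← Subgroup.index_eq_one]
          obtain ⟨k, hk⟩ := hL3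
          have h1 : (N.subgroupOf L ⊔ (S : Subgroup L)).index ∣ p ^ k := by
            have h2 := Subgroup.index_dvd_of_le (le_sup_left : N.subgroupOf L ≤ N.subgroupOf L ⊔ (S : Subgroup L))
            have h3 : (N.subgroupOf L).index = p ^ k := hk
            rwa [h3] at h2
          have h2 : ¬ p ∣ (N.subgroupOf L ⊔ (S : Subgroup L)).index := by
            intro hd
            exact S.not_dvd_index (hd.trans (Subgroup.index_dvd_of_le le_sup_right))
          obtain ⟨j, -, hj⟩ := (Nat.dvd_prime_pow Fact.out).1 h1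
          rcases Nat.eq_zero_or_pos j with h6 | h6
          · rw [hj, h6, pow_zero]
          · exact absurd (hj ▸ dvd_pow_self p h6.ne') h2
        haveI hSn : (S : Subgroup L).Normal := by
          rw [← Subgroup.normalizer_eq_top_iff, eq_top_iff, ← hsup]
          refine sup_le ?_ Subgroup.le_normalizer
          intro z hz
          rw [Subgroup.mem_normalizer_iff]
          intro s
          have hc : ∀ s ∈ (S : Subgroup L), z * s * z⁻¹ = s := by
            intro s hs
            rw [← hcen s hs z hz, mul_inv_cancel_right]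
          constructor
          · intro hs
            rw [hc s hs]; exact hs
          · intro hs
            have h7 := hc _ hs
            have h8 : z * s * z⁻¹ = s := by
              exact mul_left_cancel (a := z) (by
                have h9 : z * (z * s * z⁻¹) * z⁻¹ = z * s * z⁻¹ := h7
                have h10 := congrArg (· * z) h9
                simpa using h10)
            rw [← h8]; exact hs
        haveI hSc : (S : Subgroup L).Characteristic := S.characteristic_of_normal hSn
        haveI hPn : ((S : Subgroup L).map L.subtype).Normal :=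
          ConjAct.normal_of_characteristic_of_normal
        have hPp : IsPGroup p ((S : Subgroup L).map L.subtype) := S.2.map _
        refine ⟨(S : Subgroup L).map L.subtype, hPn, comm_of_deg hPp hdeg, hPp, ?_⟩
        have hle : (S : Subgroup L).map L.subtype ≤ L := Subgroup.map_subtype_le _
        rw [← Subgroup.relIndex_mul_index hle]
        intro hd
        rcases (Nat.Prime.dvd_mul hp.out).1 hd with h | h
        · have h1 : ((S : Subgroup L).map L.subtype).relIndex L = (S : Subgroup L).index := by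
            rw [Subgroup.relIndex, Subgroup.subgroupOf,
              Subgroup.comap_map_eq_self_of_injective L.subtype_injective]
          rw [h1] at h
          exact S.not_dvd_index h
        · exact hL4 h

end Cfsg.Agent.Lib.BlkH8N
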