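import Cfsg.Agent.Lib.BlockRey
import Cfsg.Agent.Lib.BlockKB
import Cfsg.Agent.Lib.BlockLar
import Cfsg.Agent.Lib.BlockMaxB
import Cfsg.Agent.Lib.BlockIndIn
import Cfsg.Agent.Lib.BlockBFM

import Cfsg.Agent.Lib.PSol
import Cfsg.Agent.Lib.PSolB
import Cfsg.Agent.Lib.Cores
import Cfsg.Agent.Lib.HallHigman
import Cfsg.Agent.Lib.Coprime
import Cfsg.Agent.Lib.Wiel

/-!
Sylow subgroups normalizing each other; TI Sylow subgroups.
-/

set_option autoImplicit false
set_option linter.style.haveILetI false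
set_option linter.unusedVariables false
set_option linter.unusedSectionVars false
set_option linter.unusedDecidableInType false
set_option linter.unusedFintypeInType false
set_option linter.unusedSimpArgs false

namespace Cfsg.Agent.Lib.BlkH8R
open Cfsg Cfsg.Agent.Lib.BlockLoc Cfsg.Agent.Lib.BlockGA Cfsg.Agent.Lib.CharBasic
open Cfsg.Agent.Lib.BlockIdem Cfsg.Agent.Lib.BlockPP Cfsg.Agent.Lib.BlockOrth
open Cfsg.Agent.Lib.BlockRed Cfsg.Agent.Lib.BlockDef Cfsg.Agent.Lib.BlockDeg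
open Cfsg.Agent.Lib.BlockNP Cfsg.Agent.Lib.BlockInd Cfsg.Agent.Lib.BlockSecond
open Cfsg.Agent.Lib.BlockFirst Cfsg.Agent.Lib.BlockHt Cfsg.Agent.Lib.BlockM
open Cfsg.Agent.Lib.BlockCov Cfsg.Agent.Lib.BlockQuot Cfsg.Agent.Lib.CharKer
open Cfsg.Agent.Lib.BlockQuotB Cfsg.Agent.Lib.BlockMore Cfsg.Agent.Lib.BlockMoreB
open Cfsg.Agent.Lib.BlockTr Cfsg.Agent.Lib.CharNormal Cfsg.Agent.Lib.BlockCovB
open Cfsg.Agent.Lib.BlockBP Cfsg.Agent.Lib.BlockInt Cfsg.Agent.Lib.BlockSum Cfsg.Agent.Lib.BlockRk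
open Cfsg.Agent.Lib.BlockFusB Cfsg.Agent.Lib.BlockMax Cfsg.Agent.Lib.CharSplit Cfsg.Agent.Lib.CharBrauer
open Cfsg.Agent.Lib.CharInd Cfsg.Agent.Lib.BlockPC Cfsg.Agent.Lib.BlockPair Cfsg.Agent.Lib.BlockPairB
open Cfsg.Agent.Lib.BlockPairC Cfsg.Agent.Lib.BlockPairD Cfsg.Agent.Lib.BlockPairE
open Cfsg.Agent.Lib.BlockRey Cfsg.Agent.Lib.BlockPairF Cfsg.Agent.Lib.BlockFus Cfsg.Agent.Lib.BlockNilB Cfsg.Agent.Lib.BlockNil Cfsg.Agent.Lib.CharClifford
open Cfsg.Agent.Lib.BlockKB Cfsg.Agent.Lib.BlockLar Cfsg.Agent.Lib.BlockMaxB Cfsg.Agent.Lib.BlockIndIn Cfsg.Agent.Lib.BlockBFM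
open Cfsg.Agent.Lib.PSol Cfsg.Agent.Lib.PSolB Cfsg.Agent.Lib.Cores Cfsg.Agent.Lib.HallHigman Cfsg.Agent.Lib.Coprime Cfsg.Agent.Lib.Wiel
open scoped ComplexConjugate


section Grp

variable {G : Type*} [Group G] [Finite G] {p q : ℕ}

theorem inf_eq_bot_of_p_q [Fact p.Prime] [Fact q.Prime] (hpq : p ≠ q) {A B : Subgroup G}
    (hA : IsPGroup p A) (hB : IsPGroup q B) : A ⊓ B = ⊥ := by
  obtain ⟨a, ha⟩ := IsPGroup.iff_card.1 hA
  obtain ⟨b, hb⟩ := IsPGroup.iff_card.1 hB
  refine (Subgroup.disjoint_of_coprime_natCard ?_).eq_bot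
  rw [ha, hb]
  exact Nat.Coprime.pow _ _ ((Nat.coprime_primes Fact.out Fact.out).2 hpq)

/-- A normal subgroup normalizing a subgroup it meets trivially centralizes it. -/
theorem le_cent_of_inf {A B : Subgroup G} [hA : A.Normal] (hAB : A ≤ Subgroup.normalizer (B : Set G))
    (hinf : A ⊓ B = ⊥) : B ≤ Subgroup.centralizer (A : Set G) := by
  intro b hb
  rw [Subgroup.mem_centralizer_iff]
  intro a ha
  have h1 : a * b * a⁻¹ * b⁻¹ ∈ A ⊓ B := by
    refine ⟨?_, ?_⟩
    · have : a * b * a⁻¹ * b⁻¹ = a * (b * a⁻¹ * b⁻¹) := by group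
      rw [this]
      exact A.mul_mem ha (hA.conj_mem _ (A.inv_mem ha) b)
    · exact B.mul_mem ((Subgroup.mem_normalizer_iff.1 (hAB ha) b).1 hb) (B.inv_mem hb)
  rw [hinf, Subgroup.mem_bot, mul_inv_eq_one, mul_inv_eq_iff_eq_mul] at h1
  exact h1

theorem sylow_norm_iff [Fact p.Prime] [Fact q.Prime] (hpq : p ≠ q) (hsolv : IsPSolvable p G) :
    (∃ (P : Sylow p G) (Q : Sylow q G),
      (P : Subgroup G) ≤ Subgroup.normalizer ((Q : Subgroup G) : Set G)) ↔
    ¬ q ∣ (pPrimeCore p G).index := by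
  classical
  have hNn : (pPrimeCore p G).Normal := Cfsg.Agent.Lib.Cores.pPrimeCore_normal p
  have hf := QuotientGroup.mk'_surjective (pPrimeCore p G)
  constructor
  · rintro ⟨P, Q, hPQ⟩ hd
    have hqs : IsPSolvable p (G ⧸ pPrimeCore p G) := Cfsg.Agent.Lib.PSol.quotient hsolv _
    have hcore : pPrimeCore p (G ⧸ pPrimeCore p G) = ⊥ :=
      Cfsg.Agent.Lib.Cores.pPrimeCore_quotient_pPrimeCore p
    haveI hKn := Cfsg.Agent.Lib.Cores.pCore_normal (G := G ⧸ pPrimeCore p G) p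
    have hC := Cfsg.Agent.Lib.HallHigman.centralizer_pCore_le p hqs hcore
    have hle := Cfsg.Agent.Lib.Cores.pCore_le_sylow (P.mapSurjective hf)
    have hnorm : pCore p (G ⧸ pPrimeCore p G) ≤
        Subgroup.normalizer ((Q.mapSurjective hf : Subgroup (G ⧸ pPrimeCore p G)) : Set _) := by
      refine hle.trans ?_
      rw [Sylow.coe_mapSurjective, Sylow.coe_mapSurjective]
      exact (Subgroup.map_mono hPQ).trans (Subgroup.le_normalizer_map _)
    have hinf : pCore p (G ⧸ pPrimeCore p G) ⊓ (Q.mapSurjective hf : Subgroup (G ⧸ pPrimeCore p G)) = ⊥ :=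
      inf_eq_bot_of_p_q hpq (Cfsg.Agent.Lib.Cores.pCore_isPGroup p) (Q.mapSurjective hf).2
    have h1 := (le_cent_of_inf hnorm hinf).trans hC
    have h2 : (Q.mapSurjective hf : Subgroup (G ⧸ pPrimeCore p G)) = ⊥ := by
      rw [← hinf]
      exact (inf_eq_right.2 h1).symm
    have h3 := Sylow.card_eq_multiplicity (Q.mapSurjective hf)
    rw [h2, Subgroup.card_bot] at h3
    rw [Subgroup.index_eq_card] at hd
    have h4 : (Nat.card (G ⧸ pPrimeCore p G)).factorization q ≠ 0 := by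
      have := (Nat.Prime.dvd_iff_one_le_factorization (Fact.out : q.Prime) Nat.card_pos.ne').1 hd
      omega
    have h5 : 1 < q ^ (Nat.card (G ⧸ pPrimeCore p G)).factorization q :=
      Nat.one_lt_pow h4 (Fact.out : q.Prime).one_lt
    omega
  · intro hnd
    obtain ⟨P⟩ : Nonempty (Sylow p G) := inferInstance
    have hcop : (Nat.card (P : Subgroup G)).Coprime (Nat.card (pPrimeCore p G)) := by
      rw [Sylow.card_eq_multiplicity]
      exact Nat.Coprime.pow_left _ (Cfsg.Agent.Lib.Cores.pPrimeCore_coprime p).symm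
    have hnil : Group.IsNilpotent (P : Subgroup G) := P.2.isNilpotent
    obtain ⟨Q, hQ⟩ := Cfsg.Agent.Lib.Coprime.exists_invariant_sylow (A := (P : Subgroup G))
      (K := pPrimeCore p G) (by rw [Subgroup.normalizer_eq_top]; exact le_top) hcop
      (Or.inl inferInstance) q
    have hcard : Nat.card ((Q : Subgroup (pPrimeCore p G)).map (pPrimeCore p G).subtype) =
        q ^ (Nat.card G).factorization q := by
      rw [Nat.card_congr ((Q : Subgroup (pPrimeCore p G)).equivMapOfInjective _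
        (pPrimeCore p G).subtype_injective).symm.toEquiv, Sylow.card_eq_multiplicity]
      congr 1
      rw [← Subgroup.card_mul_index (pPrimeCore p G), Nat.factorization_mul Nat.card_pos.ne'
        Subgroup.FiniteIndex.index_ne_zero, Finsupp.add_apply,
        Nat.factorization_eq_zero_of_not_dvd hnd, add_zero]
    exact ⟨P, Sylow.ofCard _ hcard, hQ⟩

end Grp

section TI

open scoped Pointwise

variable {H : Type*} [Group H] [Finite H] {p : ℕ} [Fact p.Prime]

/-- Sylow subgroups sharing a nontrivial element are equal. -/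
def TI (p : ℕ) (H : Type*) [Group H] : Prop :=
  ∀ (P Q : Sylow p H) (x : H), x ≠ 1 → x ∈ (P : Subgroup H) → x ∈ (Q : Subgroup H) → P = Q

theorem ti_of (P : Sylow p H)
    (hTI : ∀ g : H, g ∉ Subgroup.normalizer ((P : Subgroup H) : Set H) →
      (P : Subgroup H) ⊓ (MulAut.conj g • (P : Subgroup H)) = ⊥) : TI p H := by
  intro P₁ P₂ x hx1 hx2 hx3
  obtain ⟨a, rfl⟩ := MulAction.exists_smul_eq H P P₁
  obtain ⟨b, rfl⟩ := MulAction.exists_smul_eq H P P₂
  have h1 : ∀ (g : H) (y : H), y ∈ ((g • P : Sylow p H) : Subgroup H) ↔ g⁻¹ * y * g ∈ (P : Subgroup H) := by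
    intro g y
    rw [Sylow.coe_subgroup_smul, Subgroup.mem_pointwise_smul_iff_inv_smul_mem]
    simp [MulAut.smul_def, MulAut.conj_apply, ← map_inv]
  rw [h1] at hx2 hx3
  have h2 : a⁻¹ * b ∈ Subgroup.normalizer ((P : Subgroup H) : Set H) := by
    by_contra hn
    have h3 : a⁻¹ * x * a ∈ (P : Subgroup H) ⊓ (MulAut.conj (a⁻¹ * b) • (P : Subgroup H)) := by
      refine Subgroup.mem_inf.2 ⟨hx2, ?_⟩
      rw [Subgroup.mem_pointwise_smul_iff_inv_smul_mem, ← map_inv, MulAut.smul_def, MulAut.conj_apply]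
      have : (a⁻¹ * b)⁻¹ * (a⁻¹ * x * a) * (a⁻¹ * b)⁻¹⁻¹ = b⁻¹ * x * b := by group
      rw [this]; exact hx3
    rw [hTI _ hn, Subgroup.mem_bot] at h3
    apply hx1
    have h4 : x = a * (a⁻¹ * x * a) * a⁻¹ := by group
    rw [h4, h3]; group
  have h3 := Sylow.smul_eq_iff_mem_normalizer.2 h2
  rw [← mul_inv_cancel_left a b, mul_smul, h3]

theorem norm_of_comm (hTI : TI p H) (P : Sylow p H) {x g : H}
    (hx : x ∈ (P : Subgroup H)) (hx1 : x ≠ 1) (hg : g * x = x * g) :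
    g ∈ Subgroup.normalizer ((P : Subgroup H) : Set H) := by
  refine Sylow.smul_eq_iff_mem_normalizer.1 ?_
  refine (hTI P (g • P) x hx1 hx ?_).symm
  rw [Sylow.coe_subgroup_smul, Subgroup.mem_pointwise_smul_iff_inv_smul_mem, ← map_inv,
    MulAut.smul_def, MulAut.conj_apply]
  have : g⁻¹ * x * g⁻¹⁻¹ = x := by
    rw [inv_inv, mul_assoc, ← hg, inv_mul_cancel_left]
  rw [this]; exact hx

theorem bot_of_norm (hOp : pCore p H = ⊥) (hOp' : pPrimeCore p H = ⊥) (P : Sylow p H)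
    {N : Subgroup H} [N.Normal] {S : Subgroup N} [hS : S.Normal]
    (h : ∀ s ∈ S, (s : H) ∈ Subgroup.normalizer ((P : Subgroup H) : Set H)) : S = ⊥ := by
  have hc1 : pCore p N = ⊥ := by
    have := Cfsg.Agent.Lib.Cores.map_pCore_le (p := p) N
    rw [hOp, le_bot_iff, Subgroup.map_eq_bot_iff_of_injective _ N.subtype_injective] at this
    exact this
  have hc2 : pCore p S = ⊥ := by
    have := Cfsg.Agent.Lib.Cores.map_pCore_le (p := p) S
    rw [hc1, le_bot_iff, Subgroup.map_eq_bot_iff_of_injective _ S.subtype_injective] at this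
    exact this
  have hc3 : pPrimeCore p N = ⊥ := by
    have := Cfsg.Agent.Lib.Cores.map_pPrimeCore_le (p := p) N
    rw [hOp', le_bot_iff, Subgroup.map_eq_bot_iff_of_injective _ N.subtype_injective] at this
    exact this
  set E : Subgroup S := (P : Subgroup H).comap (N.subtype.comp S.subtype) with hE
  have hEn : E.Normal := by
    refine ⟨fun x hx s => ?_⟩
    rw [hE, Subgroup.mem_comap] at hx ⊢
    have h1 := h s s.2
    exact (Subgroup.mem_normalizer_iff.1 h1 _).1 hx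
  have hEp : IsPGroup p E :=
    P.2.comap_of_injective _ (N.subtype_injective.comp S.subtype_injective)
  have hE1 : E = ⊥ := le_bot_iff.1 (hc2 ▸ Cfsg.Agent.Lib.Cores.le_pCore hEn hEp)
  have hnd : ¬ p ∣ Nat.card S := by
    intro hd
    obtain ⟨s, hs⟩ := exists_prime_orderOf_dvd_card' p hd
    have h1 : ((s : N) : H) ∈ (P : Subgroup H) := by
      refine Cfsg.Agent.Lib.Wiel.mem_sylow_of_mem_normalizer P (k := 1) (h s s.2) ?_
      rw [pow_one, ← hs, Subgroup.orderOf_coe, Subgroup.orderOf_coe]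
    have h2 : s ∈ E := h1
    rw [hE1, Subgroup.mem_bot] at h2
    rw [h2, orderOf_one] at hs
    exact (Fact.out : p.Prime).one_lt.ne hs
  have h3 := Cfsg.Agent.Lib.Cores.le_pPrimeCore (G := N) (p := p) hS
    ((Nat.Prime.coprime_iff_not_dvd Fact.out).2 hnd).symm
  rw [hc3] at h3
  exact le_bot_iff.1 h3

theorem exists_sylow_meet (hOp' : pPrimeCore p H = ⊥)
    {N : Subgroup H} [N.Normal] {S : Subgroup N} [hS : S.Normal] (hS1 : S ≠ ⊥) :
    ∃ (P : Sylow p H) (s : N), s ∈ S ∧ s ≠ 1 ∧ (s : H) ∈ (P : Subgroup H) := by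
  have hc3 : pPrimeCore p N = ⊥ := by
    have := Cfsg.Agent.Lib.Cores.map_pPrimeCore_le (p := p) N
    rw [hOp', le_bot_iff, Subgroup.map_eq_bot_iff_of_injective _ N.subtype_injective] at this
    exact this
  have hd : p ∣ Nat.card S := by
    by_contra hnd
    have h3 := Cfsg.Agent.Lib.Cores.le_pPrimeCore (G := N) (p := p) hS
      ((Nat.Prime.coprime_iff_not_dvd Fact.out).2 hnd).symm
    rw [hc3] at h3
    exact hS1 (le_bot_iff.1 h3)
  obtain ⟨s, hs⟩ := exists_prime_orderOf_dvd_card' p hd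
  have h1 : IsPGroup p (Subgroup.zpowers ((s : N) : H)) := by
    refine IsPGroup.of_card (n := 1) ?_
    rw [Nat.card_zpowers, Subgroup.orderOf_coe, Subgroup.orderOf_coe, hs, pow_one]
  obtain ⟨P, hP⟩ := h1.exists_le_sylow
  refine ⟨P, s, s.2, ?_, hP (Subgroup.mem_zpowers _)⟩
  intro h
  have : s = 1 := Subtype.ext h
  rw [this, orderOf_one] at hs
  exact (Fact.out : p.Prime).one_lt.ne hs

end TI

end Cfsg.Agent.Lib.BlkH8R
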