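import Cfsg.Agent.Lib.CharGal
import Cfsg.Agent.Lib.CharInt

set_option autoImplicit false

/-!
# Averages of `|χ(g^k)|²` over Galois conjugates
-/

namespace Cfsg.Agent.Lib.CharAvg

open Cfsg Cfsg.Agent.Lib.CharBasic Cfsg.Agent.Lib.CharGal Cfsg.Agent.Lib.CharInt
open scoped ComplexConjugate

noncomputable section

theorem sum_ge_card {ι : Type*} (s : Finset ι) (a : ι → ℝ) (ha : ∀ i ∈ s, 0 < a i)
    (hprod : 1 ≤ ∏ i ∈ s, a i) :
    (s.card : ℝ) ≤ ∑ i ∈ s, a i ∧ (∑ i ∈ s, a i = s.card → ∀ i ∈ s, a i = 1) := by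
  have hlog : 0 ≤ ∑ i ∈ s, Real.log (a i) := by
    rw [← Real.log_prod (fun i hi => (ha i hi).ne')]
    exact Real.log_nonneg hprod
  have h1 : ∀ i ∈ s, 0 ≤ a i - 1 - Real.log (a i) := by
    intro i hi
    have := Real.log_le_sub_one_of_pos (ha i hi)
    linarith
  have h2 : ∑ i ∈ s, (a i - 1 - Real.log (a i)) =
      ∑ i ∈ s, a i - s.card - ∑ i ∈ s, Real.log (a i) := by
    rw [Finset.sum_sub_distrib, Finset.sum_sub_distrib]
    simp
  have h3 := Finset.sum_nonneg h1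
  refine ⟨by linarith, fun heq i hi => ?_⟩
  have h4 : ∑ i ∈ s, (a i - 1 - Real.log (a i)) = 0 := by
    apply le_antisymm _ h3
    rw [h2, heq]
    linarith
  have h5 := (Finset.sum_eq_zero_iff_of_nonneg h1).mp h4 i hi
  by_contra hne
  have := Real.log_lt_sub_one_of_pos (ha i hi) hne
  linarith

variable {G : Type*} [Group G] [Finite G]

/-- The power `g ^ u` for a unit `u` modulo the order of `g`. -/
theorem pow_val_mul (g : G) (u v : (ZMod (orderOf g))ˣ) :
    g ^ ((u * v : (ZMod (orderOf g))ˣ) : ZMod (orderOf g)).val =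
      (g ^ (u : ZMod (orderOf g)).val) ^ (v : ZMod (orderOf g)).val := by
  rw [← pow_mul, pow_eq_pow_iff_modEq, Units.val_mul, ZMod.val_mul]
  exact Nat.mod_modEq _ _

theorem exists_int_prod {χ : G → ℂ} (hχ : IsCharacter G χ) (g : G) :
    haveI : NeZero (orderOf g) := ⟨(orderOf_pos g).ne'⟩
    ∃ n : ℤ, ∏ u : (ZMod (orderOf g))ˣ, χ (g ^ (u : ZMod (orderOf g)).val) = n := by
  haveI : NeZero (orderOf g) := ⟨(orderOf_pos g).ne'⟩
  apply isInt_of_fixed
  · exact IsIntegral.prod _ fun u _ => char_isIntegral hχ _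
  · intro σ
    obtain ⟨k, hk, hσ⟩ := exists_pow_galois (G := G) σ
    have hk' : Nat.Coprime k (orderOf g) := hk.coprime_dvd_right (orderOf_dvd_natCard g)
    let v : (ZMod (orderOf g))ˣ := ZMod.unitOfCoprime k hk'
    have hv : ∀ x : G, x ^ orderOf g = 1 → x ^ (v : ZMod (orderOf g)).val = x ^ k := by
      intro x hx
      rw [pow_eq_pow_iff_modEq]
      have h1 : (v : ZMod (orderOf g)).val ≡ k [MOD orderOf g] := by
        rw [ZMod.coe_unitOfCoprime, ZMod.val_natCast]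
        exact Nat.mod_modEq _ _
      exact h1.of_dvd (orderOf_dvd_of_pow_eq_one hx)
    rw [map_prod]
    refine Fintype.prod_equiv (Equiv.mulRight v) _ _ fun u => ?_
    rw [hσ χ hχ, Equiv.coe_mulRight, pow_val_mul, hv]
    rw [← pow_mul, mul_comm, pow_mul, pow_orderOf_eq_one, one_pow]

theorem one_le_prod {χ : G → ℂ} (hχ : IsCharacter G χ) (g : G) (hg : χ g ≠ 0) :
    haveI : NeZero (orderOf g) := ⟨(orderOf_pos g).ne'⟩
    (∀ u : (ZMod (orderOf g))ˣ, χ (g ^ (u : ZMod (orderOf g)).val) ≠ 0) ∧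
      1 ≤ ∏ u : (ZMod (orderOf g))ˣ, ‖χ (g ^ (u : ZMod (orderOf g)).val)‖ ^ 2 := by
  haveI : NeZero (orderOf g) := ⟨(orderOf_pos g).ne'⟩
  have h1 : ∀ u : (ZMod (orderOf g))ˣ, χ (g ^ (u : ZMod (orderOf g)).val) ≠ 0 := by
    intro u
    have hcop : Nat.Coprime (u : ZMod (orderOf g)).val (orderOf g) := ZMod.val_coe_unit_coprime u
    obtain ⟨σ, hσ⟩ := exists_aut_pow (orderOf g) _ (orderOf_pos g).ne' hcop
    rw [← galois_pow σ _ hχ g hσ]
    exact fun h => hg ((map_eq_zero σ).mp h)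
  refine ⟨h1, ?_⟩
  obtain ⟨n, hn⟩ := exists_int_prod hχ g
  have h2 : (n : ℂ) ≠ 0 := by
    rw [← hn]
    exact Finset.prod_ne_zero_iff.mpr fun u _ => h1 u
  have h3 : n ≠ 0 := by exact_mod_cast h2
  rw [Finset.prod_pow, ← norm_prod, hn, Complex.norm_intCast]
  have h4 : (1 : ℝ) ≤ |(n : ℝ)| := by
    have := Int.one_le_abs h3
    exact_mod_cast this
  nlinarith

/-- The average is at least one. -/
theorem avg {χ : G → ℂ} (hχ : IsCharacter G χ) (g : G) (hg : χ g ≠ 0) :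
    haveI : NeZero (orderOf g) := ⟨(orderOf_pos g).ne'⟩
    (Fintype.card (ZMod (orderOf g))ˣ : ℝ) ≤
      ∑ u : (ZMod (orderOf g))ˣ, ‖χ (g ^ (u : ZMod (orderOf g)).val)‖ ^ 2 ∧
    (∑ u : (ZMod (orderOf g))ˣ, ‖χ (g ^ (u : ZMod (orderOf g)).val)‖ ^ 2 =
      Fintype.card (ZMod (orderOf g))ˣ →
        ∀ u : (ZMod (orderOf g))ˣ, ‖χ (g ^ (u : ZMod (orderOf g)).val)‖ ^ 2 = 1) := by
  haveI : NeZero (orderOf g) := ⟨(orderOf_pos g).ne'⟩
  obtain ⟨h1, h2⟩ := one_le_prod hχ g hg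
  have h3 := sum_ge_card Finset.univ
    (fun u : (ZMod (orderOf g))ˣ => ‖χ (g ^ (u : ZMod (orderOf g)).val)‖ ^ 2)
    (fun u _ => by have := norm_pos_iff.mpr (h1 u); positivity) h2
  refine ⟨by simpa using h3.1, fun h u => h3.2 (by simpa using h) u (Finset.mem_univ _)⟩

theorem centralizer_pow (g : G) (u : (ZMod (orderOf g))ˣ) :
    Subgroup.centralizer ({g ^ (u : ZMod (orderOf g)).val} : Set G) =
      Subgroup.centralizer ({g} : Set G) := by
  haveI : NeZero (orderOf g) := ⟨(orderOf_pos g).ne'⟩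
  have h1 : g = (g ^ (u : ZMod (orderOf g)).val) ^ ((u⁻¹ : (ZMod (orderOf g))ˣ) :
      ZMod (orderOf g)).val := by
    rw [← pow_val_mul, mul_inv_cancel, Units.val_one]
    by_cases ho : orderOf g = 1
    · have := orderOf_eq_one_iff.mp ho
      subst this
      simp
    · have : 1 < orderOf g := lt_of_le_of_ne (orderOf_pos g) (Ne.symm ho)
      haveI := Fact.mk this
      rw [ZMod.val_one, pow_one]
  ext x
  rw [Subgroup.mem_centralizer_singleton_iff, Subgroup.mem_centralizer_singleton_iff]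
  constructor
  · intro h
    have h2 : Commute x (g ^ (u : ZMod (orderOf g)).val) := h
    have h3 := h2.pow_right ((u⁻¹ : (ZMod (orderOf g))ˣ) : ZMod (orderOf g)).val
    rw [← h1] at h3
    exact h3
  · intro h
    have h2 : Commute x g := h
    exact h2.pow_right _

/-- If no irreducible character vanishes at `g` then `k(G) ≤ |C(g)|`. -/
theorem card_irr_le (g : G) (h : ∀ χ : IrrCharacter G, χ.1 g ≠ 0) :
    Nat.card (IrrCharacter G) ≤ Nat.card (Subgroup.centralizer ({g} : Set G)) ∧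
    (Nat.card (IrrCharacter G) = Nat.card (Subgroup.centralizer ({g} : Set G)) →
      ∀ χ : IrrCharacter G, ‖χ.1 g‖ = 1) := by
  classical
  cases nonempty_fintype G
  haveI : NeZero (orderOf g) := ⟨(orderOf_pos g).ne'⟩
  have h1 : ∀ u : (ZMod (orderOf g))ˣ,
      ∑ χ : IrrCharacter G, ‖χ.1 (g ^ (u : ZMod (orderOf g)).val)‖ ^ 2 =
      (Nat.card (Subgroup.centralizer ({g} : Set G)) : ℝ) := by
    intro u
    have h2 := column_orth (g ^ (u : ZMod (orderOf g)).val) (g ^ (u : ZMod (orderOf g)).val)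
    rw [if_pos (IsConj.refl _), centralizer_pow] at h2
    have h3 : ∀ χ : IrrCharacter G, χ.1 (g ^ (u : ZMod (orderOf g)).val) *
        conj (χ.1 (g ^ (u : ZMod (orderOf g)).val)) =
        ((‖χ.1 (g ^ (u : ZMod (orderOf g)).val)‖ ^ 2 : ℝ) : ℂ) := by
      intro χ
      rw [Complex.mul_conj, Complex.normSq_eq_norm_sq]
    simp only [h3] at h2
    exact_mod_cast h2
  have h2 : ∑ χ : IrrCharacter G, ∑ u : (ZMod (orderOf g))ˣ,
      ‖χ.1 (g ^ (u : ZMod (orderOf g)).val)‖ ^ 2 =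
      Fintype.card (ZMod (orderOf g))ˣ * (Nat.card (Subgroup.centralizer ({g} : Set G)) : ℝ) := by
    rw [Finset.sum_comm]
    simp only [h1, Finset.sum_const, Finset.card_univ, nsmul_eq_mul]
  have hle : ∀ χ ∈ (Finset.univ : Finset (IrrCharacter G)),
      (Fintype.card (ZMod (orderOf g))ˣ : ℝ) ≤ ∑ u : (ZMod (orderOf g))ˣ,
      ‖χ.1 (g ^ (u : ZMod (orderOf g)).val)‖ ^ 2 := fun χ _ =>
    (avg (isChar_of_irr χ.2) g (h χ)).1
  have hpos : (0 : ℝ) < Fintype.card (ZMod (orderOf g))ˣ := by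
    exact_mod_cast Fintype.card_pos
  have h3 := Finset.sum_le_sum hle
  rw [h2, Finset.sum_const, Finset.card_univ, nsmul_eq_mul, ← Nat.card_eq_fintype_card] at h3
  refine ⟨?_, ?_⟩
  · have h4 : (Nat.card (IrrCharacter G) : ℝ) ≤
        Nat.card (Subgroup.centralizer ({g} : Set G)) := by
      rw [mul_comm] at h3
      exact le_of_mul_le_mul_left h3 hpos
    exact_mod_cast h4
  · intro heq χ
    have h5 : ∑ χ : IrrCharacter G, (Fintype.card (ZMod (orderOf g))ˣ : ℝ) =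
        ∑ χ : IrrCharacter G, ∑ u : (ZMod (orderOf g))ˣ,
      ‖χ.1 (g ^ (u : ZMod (orderOf g)).val)‖ ^ 2 := by
      rw [h2, ← heq, Finset.sum_const, Finset.card_univ, nsmul_eq_mul, Nat.card_eq_fintype_card]
      ring
    have h6 := (Finset.sum_eq_sum_iff_of_le hle).mp h5 χ (Finset.mem_univ _)
    have h7 := (avg (isChar_of_irr χ.2) g (h χ)).2 h6.symm 1
    have h8 : g ^ (((1 : (ZMod (orderOf g))ˣ)) : ZMod (orderOf g)).val = g := by
      rw [Units.val_one]
      by_cases ho : orderOf g = 1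
      · have := orderOf_eq_one_iff.mp ho
        subst this
        simp
      · have : 1 < orderOf g := lt_of_le_of_ne (orderOf_pos g) (Ne.symm ho)
        haveI := Fact.mk this
        rw [ZMod.val_one, pow_one]
    rw [h8] at h7
    have h9 := norm_nonneg (χ.1 g)
    nlinarith [sq_nonneg (‖χ.1 g‖ - 1), sq_nonneg (‖χ.1 g‖ + 1)]

end

end Cfsg.Agent.Lib.CharAvg
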