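import Cfsg.Agent.Lib.CharClifford
import Cfsg.Agent.Lib.CharExt
import Cfsg.Agent.Lib.CharGal
import Cfsg.Agent.Lib.CharKer
import Cfsg.Agent.Lib.CharMono

/-! Characters fixed by the power map `g ↦ g ^ k` (Galois conjugation), and Clifford theory. -/

set_option autoImplicit false

namespace Cfsg.Agent.Lib.CharFix

open Cfsg Cfsg.Agent.Lib.CharBasic Cfsg.Agent.Lib.CharInd Cfsg.Agent.Lib.CharLin
  Cfsg.Agent.Lib.CharNormal Cfsg.Agent.Lib.CharClifford Cfsg.Agent.Lib.CharKer
  Cfsg.Agent.Lib.CharGal Cfsg.Agent.Lib.CharTable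

noncomputable section

section Cliff

variable {G : Type*} [Group G] {N : Subgroup G} [hN : N.Normal]

/-- Injectivity in the Clifford correspondence. -/
theorem clifford_inj [Fintype G] [Fintype N] {T : Subgroup G} [Fintype T] {θ : N → ℂ}
    (hθ : IsIrrCharacter N θ) (hT : ∀ g : G, g ∈ T ↔ cj g θ = θ) (hNT : N ≤ T)
    {ψ ψ' : T → ℂ} (hψ : IsIrrCharacter T ψ) (hψ' : IsIrrCharacter T ψ')
    (h : classInner (resLe hNT ψ) θ ≠ 0) (h' : classInner (resLe hNT ψ') θ ≠ 0)
    (hind : indFun T ψ = indFun T ψ') : ψ = ψ' := by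
  classical
  have hχ : IsIrrCharacter G (indFun T ψ) := ind_irr_of_inertia hθ hT hNT hψ h
  set χ := indFun T ψ with hχd
  have hχT : IsCharacter T (fun t : T => χ t) := isChar_res T (isChar_of_irr hχ)
  -- any `φ` over `θ` inducing `χ` is the one given by `exists_clifford`
  have hr : ∀ φ : T → ℂ, IsIrrCharacter T φ → indFun T φ = χ →
      classInner (fun t : T => χ t) φ = 1 := by
    intro φ hφ hφχ
    rw [← reciprocity' T φ χ (isChar_classFn (isChar_of_irr hχ)), hφχ, irr_inner_self hχ]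
  have hres : classInner (fun n : N => χ n) θ ≠ 0 := by
    have h1 : IsCharacter T ((fun t : T => χ t) - ψ) :=
      isChar_sub_constituent hχT hψ (by rw [hr ψ hψ rfl]; exact one_ne_zero)
    obtain ⟨k, hk⟩ := exists_nat_inner (res_isChar hNT h1) hθ
    obtain ⟨f, hf⟩ := exists_nat_inner (res_isChar hNT (isChar_of_irr hψ)) hθ
    have h4 : resLe hNT ((fun t : T => χ t) - ψ) = (fun n : N => χ n) - resLe hNT ψ := rfl
    rw [h4, classInner_sub_left, hf] at hk
    intro h0
    rw [h0] at hk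
    have h5 : ((k + f : ℕ) : ℂ) = 0 := by push_cast; linear_combination -hk
    have h6 : k + f = 0 := by exact_mod_cast h5
    apply h
    rw [hf]
    have : f = 0 := by omega
    rw [this]; simp
  obtain ⟨ψ₀, hψ₀, h7, h8, -⟩ := exists_clifford hθ hT hNT hχ hres
  have key : ∀ φ : T → ℂ, IsIrrCharacter T φ → indFun T φ = χ →
      classInner (resLe hNT φ) θ ≠ 0 → φ = ψ₀ := by
    intro φ hφ hφχ hφθ
    by_contra hne
    have h1 : IsCharacter T ((fun t : T => χ t) - ψ₀) :=
      isChar_sub_constituent hχT hψ₀ (by rw [hr ψ₀ hψ₀ h7]; exact one_ne_zero)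
    have h2 : IsCharacter T ((fun t : T => χ t) - ψ₀ - φ) :=
      isChar_sub_constituent h1 hφ (by
        rw [classInner_sub_left, hr φ hφ hφχ, irr_inner_ne hψ₀ hφ (Ne.symm hne), sub_zero]
        exact one_ne_zero)
    obtain ⟨k, hk⟩ := exists_nat_inner (res_isChar hNT h2) hθ
    obtain ⟨f, hf⟩ := exists_nat_inner (res_isChar hNT (isChar_of_irr hφ)) hθ
    have h4 : resLe hNT ((fun t : T => χ t) - ψ₀ - φ) =
        (fun n : N => χ n) - resLe hNT ψ₀ - resLe hNT φ := rfl
    rw [h4, classInner_sub_left, classInner_sub_left, hf, h8] at hk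
    have h5 : ((k + f : ℕ) : ℂ) = 0 := by push_cast; linear_combination -hk
    have h6 : k + f = 0 := by exact_mod_cast h5
    apply hφθ
    rw [hf]
    have : f = 0 := by omega
    rw [this]; simp
  rw [key ψ hψ rfl h, key ψ' hψ' hind.symm h']

end Cliff

section Pow

variable {G : Type*} [Group G]

/-- The value pattern `f (g ^ k) = f g`. -/
def PF (k : ℕ) (f : G → ℂ) : Prop := ∀ g : G, f (g ^ k) = f g

theorem pow_mem_iff [Finite G] {k : ℕ} (hk : Nat.Coprime k (Nat.card G)) (H : Subgroup G) (g : G) :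
    g ^ k ∈ H ↔ g ∈ H := by
  constructor
  · intro h
    have h1 : Nat.Coprime k (orderOf g) := hk.coprime_dvd_right (orderOf_dvd_natCard g)
    obtain ⟨m, hm⟩ := exists_pow_eq_self_of_coprime h1
    rw [← hm]
    exact H.pow_mem h m
  · exact fun h => H.pow_mem h k

theorem coprime_sub [Finite G] {k : ℕ} (hk : Nat.Coprime k (Nat.card G)) (H : Subgroup G) :
    Nat.Coprime k (Nat.card H) := hk.coprime_dvd_right H.card_subgroup_dvd_card

theorem inner_pow [Fintype G] {k : ℕ} (hk : Nat.Coprime k (Nat.card G)) (f f' : G → ℂ) :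
    classInner (fun g => f (g ^ k)) (fun g => f' (g ^ k)) = classInner f f' := by
  simp only [classInner_def]
  congr 1
  exact Fintype.sum_equiv (powCoprime hk.symm) _ _ fun g => rfl

theorem indFun_pow [Fintype G] {k : ℕ} (hk : Nat.Coprime k (Nat.card G)) (H : Subgroup G)
    (f : H → ℂ) (g : G) : indFun H f (g ^ k) = indFun H (fun h => f (h ^ k)) g := by
  rw [indFun_apply, indFun_apply]
  congr 1
  refine Finset.sum_congr rfl fun x _ => ?_
  have h1 : x⁻¹ * g ^ k * x = (x⁻¹ * g * x) ^ k := by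
    have := conj_pow (i := k) (a := x⁻¹) (b := g)
    rw [inv_inv] at this
    exact this.symm
  rw [h1]
  by_cases hx : x⁻¹ * g * x ∈ H
  · rw [ext_mem H _ hx, ext_mem H _ (H.pow_mem hx k)]
    rfl
  · rw [ext_notMem H _ hx, ext_notMem H _ (fun h => hx ((pow_mem_iff hk H _).mp h))]

variable {N : Subgroup G} [hN : N.Normal]

/-- If odd-order elements satisfy `g ^ k = g⁻¹` and `N` has odd index then `g ^ k ≡ g⁻¹`
modulo `N`. -/
theorem pow_mul_mem [Finite G] (hidx : Odd N.index) {k : ℕ}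
    (hk₂ : ∀ g : G, Odd (orderOf g) → g ^ k = g⁻¹) (g : G) : g ^ k * g ∈ N := by
  -- write the order of `g` as `2 ^ a * m`
  obtain ⟨a, m, hm, ham⟩ := Nat.exists_eq_two_pow_mul_odd (orderOf_pos g).ne'
  have h1 : orderOf (g ^ (2 ^ a)) = m := by
    rw [orderOf_pow_of_dvd (by positivity) (by rw [ham]; exact dvd_mul_right _ _), ham]
    exact Nat.mul_div_cancel_left m (by positivity)
  have h2 : (g ^ (2 ^ a)) ^ (k + 1) = 1 := by
    rw [pow_succ, hk₂ _ (by rw [h1]; exact hm), inv_mul_cancel]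
  rw [← pow_succ, ← QuotientGroup.eq_one_iff, QuotientGroup.mk_pow]
  have h3 : ((g : G ⧸ N)) ^ (2 ^ a * (k + 1)) = 1 := by
    rw [pow_mul, ← QuotientGroup.mk_pow, ← QuotientGroup.mk_pow, h2]; rfl
  have h4 : orderOf (g : G ⧸ N) ∣ N.index := by
    rw [Subgroup.index]; exact orderOf_dvd_natCard _
  have h5 : Nat.Coprime (orderOf (g : G ⧸ N)) (2 ^ a) :=
    Nat.Coprime.pow_right _ (Nat.Coprime.coprime_dvd_left h4
      (Nat.coprime_two_right.mpr hidx))
  exact orderOf_dvd_iff_pow_eq_one.mp (h5.dvd_of_dvd_mul_left (orderOf_dvd_of_pow_eq_one h3))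

end Pow

section Pow2

variable {G : Type*} [Group G] [Fintype G] {N : Subgroup G} [hN : N.Normal] [Fintype N]

theorem inner_res_pow {k : ℕ} (hk : Nat.Coprime k (Nat.card G)) {χ : G → ℂ} (hχ : PF k χ)
    (θ : N → ℂ) : classInner (fun n : N => χ n) (fun n => θ (n ^ k)) =
      classInner (fun n : N => χ n) θ := by
  have h := inner_pow (coprime_sub hk N) (fun n : N => χ n) θ
  rw [← h]
  congr 1
  funext n
  exact (hχ n).symm

theorem cj_pow (x : G) {k : ℕ} (θ : N → ℂ) :
    cj x (fun n => θ (n ^ k)) = fun n => cj x θ (n ^ k) := by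
  funext n
  simp only [cj_apply]
  congr 1
  apply Subtype.ext
  simp [conj_pow]

/-- Constituents on a normal subgroup of index prime to `p` of a character fixed by a Galois
automorphism of `p`-power order are fixed. -/
theorem constituent_fixed {p : ℕ} [hp : Fact p.Prime] (hidx : ¬ p ∣ N.index) {k e : ℕ}
    (hk : Nat.Coprime k (Nat.card G)) (hke : k ^ (p ^ e) ≡ 1 [MOD Nat.card G])
    {χ : G → ℂ} (hχi : IsIrrCharacter G χ) (hχ : PF k χ) {θ : N → ℂ} (hθi : IsIrrCharacter N θ)
    (hθ : classInner (fun n : N => χ n) θ ≠ 0) : PF k θ := by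
  classical
  -- the orbit of `θ`
  let O : Set (N → ℂ) := {ψ : N → ℂ | ∃ g : G, ψ = cj g θ}
  have hO : ∀ ψ ∈ O, IsIrrCharacter N ψ ∧ classInner (fun n : N => χ n) ψ ≠ 0 := by
    rintro ψ ⟨g, rfl⟩
    exact ⟨cj_isIrr g hθi, by
      rw [inner_res_cj (isChar_classFn (isChar_of_irr hχi))]; exact hθ⟩
  have hO' : ∀ ψ : N → ℂ, IsIrrCharacter N ψ → classInner (fun n : N => χ n) ψ ≠ 0 → ψ ∈ O := by
    intro ψ hψ h
    exact exists_cj_of_constituents hχi hθi hψ hθ h
  have hfin : O.Finite := finite_orbit θ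
  have : Fintype O := hfin.fintype
  let f : Function.End O := fun ψ => ⟨fun n => ψ.1 (n ^ k), by
    apply hO'
    · exact isIrr_pow_coprime (coprime_sub hk N) (hO ψ.1 ψ.2).1
    · rw [inner_res_pow hk hχ]; exact (hO ψ.1 ψ.2).2⟩
  have hfpow : ∀ (m : ℕ) (ψ : O), ((f ^ m) ψ).1 = fun n => ψ.1 (n ^ (k ^ m)) := by
    intro m
    induction m with
    | zero => intro ψ; funext n; simp only [pow_zero, pow_one]; rfl
    | succ m ih =>
      intro ψ
      funext n
      have h1 : (f ^ (m + 1)) ψ = (f ^ m) (f ψ) := by rw [pow_succ]; rfl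
      rw [h1, ih]
      change ψ.1 ((n ^ k ^ m) ^ k) = _
      rw [← pow_mul, pow_succ]
  have hf1 : f ^ p ^ e = 1 := by
    funext ψ
    apply Subtype.ext
    rw [hfpow]
    funext n
    change ψ.1 (n ^ k ^ p ^ e) = ψ.1 n
    congr 1
    have h1 : k ^ p ^ e ≡ 1 [MOD Nat.card N] := hke.of_dvd N.card_subgroup_dvd_card
    have h2 : n ^ (k ^ p ^ e) = n ^ 1 := by
      rw [pow_eq_pow_iff_modEq]
      exact h1.of_dvd (orderOf_dvd_natCard n)
    rw [h2, pow_one]
  have hcard := Equiv.Perm.card_fixedPoints_modEq hf1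
  have hcO : Fintype.card O = (inertia θ).index := by
    rw [← card_orbit θ, ← Nat.card_coe_set_eq, Nat.card_eq_fintype_card]
  have hnd : ¬ p ∣ (inertia θ).index := fun h => hidx (h.trans
    (Subgroup.index_dvd_of_le (le_inertia (isChar_classFn (isChar_of_irr hθi)))))
  have hne : Fintype.card f.fixedPoints ≠ 0 := by
    intro h0
    rw [h0, hcO] at hcard
    exact hnd (Nat.modEq_zero_iff_dvd.mp hcard)
  obtain ⟨⟨⟨ψ, hψO⟩, hψ⟩⟩ := Fintype.card_pos_iff.mp (Nat.pos_of_ne_zero hne)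
  have hψ' : (fun n => ψ (n ^ k)) = ψ := congrArg Subtype.val hψ
  obtain ⟨g, hg⟩ := hψO
  have hθψ : θ = cj g⁻¹ ψ := by rw [hg, cj_inv_cj]
  intro n
  have := congrFun (cj_pow (k := k) g⁻¹ ψ) n
  rw [hψ', ← hθψ] at this
  exact this.symm

/-- Uniqueness of the `k`-fixed character over an extendible `k`-fixed character, odd index. -/
theorem fixed_unique_of_ext (hidx : Odd N.index) {k : ℕ}
    (hk₂ : ∀ g : G, Odd (orderOf g) → g ^ k = g⁻¹)
    {χ : G → ℂ} (hχi : IsIrrCharacter G χ) (hχ : PF k χ) {θ : N → ℂ} (hθi : IsIrrCharacter N θ)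
    (hres : ∀ n : N, χ n = θ n) {ψ : G → ℂ} (hψi : IsIrrCharacter G ψ) (hψ : PF k ψ)
    (hover : classInner (fun n : N => ψ n) θ ≠ 0) (hk : Nat.Coprime k (Nat.card G)) : ψ = χ := by
  classical
  have hbij := gallagher hθi hχi hres
  obtain ⟨β, ⟨hβi, hβN⟩, hβψ⟩ := hbij.surjOn ⟨hψi, hover⟩
  simp only at hβψ
  -- the quotient character
  obtain ⟨β', hβ'c, hβ', hβ'i⟩ := exists_quot (isChar_of_irr hβi) hβN
  have hpow : ∀ g : G, β (g ^ k) = β g⁻¹ := by
    intro g
    rw [hβ', hβ']
    congr 1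
    rw [QuotientGroup.eq]
    have := hN.conj_mem _ (pow_mul_mem (N := N) hidx hk₂ g) g
    have h2 : (g ^ k)⁻¹ * g⁻¹ = (g * (g ^ k * g) * g⁻¹)⁻¹ := by
      have : g * (g ^ k * g) * g⁻¹ = g * g ^ k := by group
      rw [this, mul_inv_rev]
    rw [h2]
    exact N.inv_mem this
  have hβk : IsIrrCharacter G (fun g => β (g ^ k)) := isIrr_pow_coprime hk hβi
  have heq : (fun g => β (g ^ k)) = β := by
    apply hbij.injOn
    · refine ⟨hβk, fun n hn => ?_⟩
      simp only [one_pow]
      exact hβN _ (N.pow_mem hn k)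
    · exact ⟨hβi, hβN⟩
    · simp only
      rw [hβψ]
      funext g
      have h1 := hψ g
      rw [← hβψ] at h1
      simp only [Pi.mul_apply] at h1 ⊢
      rw [← hχ g, h1]
      rw [← hβψ]
      simp only [Pi.mul_apply]
  have hreal : ∀ g : G, (β g).im = 0 := by
    intro g
    have h1 : β g⁻¹ = β g := by rw [← hpow]; exact congrFun heq g
    rw [char_inv (isChar_of_irr hβi)] at h1
    exact Complex.conj_eq_iff_im.mp h1
  have : Fintype (G ⧸ N) := Fintype.ofFinite _
  have hone := real_eq_one_of_odd (G := G ⧸ N) hidx ⟨β', hβ'i hβi⟩ (by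
    intro x
    obtain ⟨g, rfl⟩ := QuotientGroup.mk_surjective x
    have := hreal g
    rw [hβ'] at this
    exact this)
  rw [← hβψ]
  funext g
  simp only [Pi.mul_apply]
  rw [hβ' g]
  have := congrFun hone (g : G ⧸ N)
  simp only at this
  rw [this, one_mul]

/-- A `k`-fixed extension from any extension, odd index. -/
theorem exists_fixed_ext (hidx : Odd N.index) {k : ℕ} (hk : Nat.Coprime k (Nat.card G))
    (hk₂ : ∀ g : G, Odd (orderOf g) → g ^ k = g⁻¹)
    {θ : N → ℂ} (hθi : IsIrrCharacter N θ) (hθ : PF k θ)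
    {χ : G → ℂ} (hχi : IsIrrCharacter G χ) (hres : ∀ n : N, χ n = θ n) :
    ∃ ξ : G → ℂ, IsIrrCharacter G ξ ∧ (∀ n : N, ξ n = θ n) ∧ PF k ξ := by
  have h1 : IsIrrCharacter G (fun g => χ (g ^ k)) := isIrr_pow_coprime hk hχi
  have h2 : ∀ n : N, (fun g => χ (g ^ k)) (n : G) = θ n := by
    intro n
    have := hres (n ^ k)
    rw [hθ n] at this
    exact this
  obtain ⟨l, hlN, hl⟩ := CharExt.exists_lin_of_ext hθi hχi h1 hres h2
  have hlpow : ∀ g : G, l g ^ N.index = 1 := by
    intro g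
    have := DFunLike.congr_fun (CharExt.pow_index_eq_one hlN) g
    rwa [MonoidHom.pow_apply] at this
  obtain ⟨r, hr⟩ := hidx
  -- `m ^ 2 = l`
  let m : G →* ℂˣ := l ^ (r + 1)
  have hm : ∀ g : G, m g * m g = l g := by
    intro g
    change (l ^ (r + 1)) g * (l ^ (r + 1)) g = l g
    rw [MonoidHom.pow_apply, ← pow_add, show r + 1 + (r + 1) = N.index + 1 by omega, pow_succ,
      hlpow, one_mul]
  have hmN : ∀ n ∈ N, m n = 1 := by
    intro n hn
    change (l ^ (r + 1)) n = 1
    rw [MonoidHom.pow_apply, hlN n hn, one_pow]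
  have hmk : ∀ g : G, m (g ^ k) * m g = 1 := by
    intro g
    rw [← map_mul]
    exact hmN _ (pow_mul_mem (N := N) ⟨r, hr⟩ hk₂ g)
  refine ⟨linFn m * χ, isIrr_linFn_mul m hχi, ?_, ?_⟩
  · intro n
    rw [Pi.mul_apply, linFn_apply, hmN n n.2, hres]
    simp
  · intro g
    have h3 := congrFun hl g
    simp only [Pi.mul_apply, linFn_apply] at h3 ⊢
    rw [h3]
    have h4 : (m (g ^ k) : ℂ) * (l g : ℂ) = m g := by
      rw [← Units.val_mul, ← hm g, ← mul_assoc, hmk g, one_mul]
    rw [← mul_assoc, h4]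

end Pow2

section Exist

/-- `θ` transported to `N.subgroupOf M`. -/
def toSub {G : Type*} [Group G] (N M : Subgroup G) (θ : N → ℂ) : N.subgroupOf M → ℂ :=
  fun n => θ ⟨((n : M) : G), Subgroup.mem_subgroupOf.mp n.2⟩

theorem orderOf_sub {G : Type*} [Group G] {M : Subgroup G} {k : ℕ}
    (hk₂ : ∀ g : G, Odd (orderOf g) → g ^ k = g⁻¹) :
    ∀ g : M, Odd (orderOf g) → g ^ k = g⁻¹ := by
  intro g hg
  apply Subtype.ext
  have := hk₂ (g : G) (by rw [Subgroup.orderOf_coe]; exact hg)
  simpa using this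

theorem exists_fixed_ext_ppow {p : ℕ} [hp : Fact p.Prime] (hp2 : p ≠ 2) {k : ℕ} (n : ℕ) :
    ∀ (G : Type*) [Group G] [Finite G] (N : Subgroup G) [hN : N.Normal]
      (_hidx : N.index = p ^ n) (_hk : Nat.Coprime k (Nat.card G))
      (_hk₂ : ∀ g : G, Odd (orderOf g) → g ^ k = g⁻¹) (θ : N → ℂ) (_hθi : IsIrrCharacter N θ)
      (_hθ : PF k θ) (_hinv : ∀ g : G, cj g θ = θ),
      ∃ ξ : G → ℂ, IsIrrCharacter G ξ ∧ (∀ n : N, ξ n = θ n) ∧ PF k ξ := by
  induction n with
  | zero =>
    intro G _ _ N hN hidx hk hk₂ θ hθi hθ hinv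
    have htop : N = ⊤ := Subgroup.index_eq_one.mp (by rw [hidx, pow_zero])
    subst htop
    refine ⟨fun g => θ ⟨g, trivial⟩, ?_, fun n => rfl, fun g => hθ ⟨g, trivial⟩⟩
    exact isIrr_comp_surjective (Subgroup.topEquiv (G := G)).symm.toMonoidHom
      (Subgroup.topEquiv (G := G)).symm.surjective hθi
  | succ n ih =>
    intro G _ _ N hN hidx hk hk₂ θ hθi hθ hinv
    classical
    cases nonempty_fintype G
    have hodd : ∀ m, Odd (p ^ m) := fun m => (hp.out.odd_of_ne_two hp2).pow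
    have hcardQ : Nat.card (G ⧸ N) = p ^ (n + 1) := hidx
    obtain ⟨M', hM'⟩ := Sylow.exists_subgroup_card_pow_prime (G := G ⧸ N) p (n := n)
      (by rw [hcardQ]; exact pow_dvd_pow p (Nat.le_succ n))
    have hM'idx : M'.index = p := by
      have := M'.card_mul_index
      rw [hM', hcardQ, pow_succ] at this
      exact Nat.eq_of_mul_eq_mul_left (pow_pos hp.out.pos n) this
    have hM'n : M'.Normal := by
      apply Subgroup.normal_of_index_eq_minFac_card
      rw [hM'idx, hcardQ, Nat.Prime.pow_minFac hp.out (Nat.succ_ne_zero n)]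
    set M : Subgroup G := M'.comap (QuotientGroup.mk' N) with hMd
    have hMn : M.Normal := hM'n.comap _
    have hMidx : M.index = p := by
      rw [hMd, Subgroup.index_comap_of_surjective _ (QuotientGroup.mk'_surjective N), hM'idx]
    have hNM : N ≤ M := by
      intro x hx
      rw [hMd, Subgroup.mem_comap]
      have : QuotientGroup.mk' N x = 1 := (QuotientGroup.eq_one_iff x).mpr hx
      rw [this]; exact M'.one_mem
    have hrel : (N.subgroupOf M).index = p ^ n := by
      have h1 := Subgroup.relIndex_mul_index hNM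
      rw [hMidx, hidx, pow_succ] at h1
      exact Nat.eq_of_mul_eq_mul_right hp.out.pos h1
    have hθ'i : IsIrrCharacter (N.subgroupOf M) (toSub N M θ) := (isIrr_subgroupOf_iff hNM θ).mpr hθi
    have hθ' : PF k (toSub N M θ) := fun x => hθ ⟨((x : M) : G), Subgroup.mem_subgroupOf.mp x.2⟩
    have hk₂M := orderOf_sub (M := M) hk₂
    obtain ⟨ξ, hξi, hξN, hξ⟩ := ih M (N.subgroupOf M) hrel (coprime_sub hk M) hk₂M (toSub N M θ)
      hθ'i hθ' (by
        intro g
        funext x
        have := congrFun (hinv g) ⟨((x : M) : G), Subgroup.mem_subgroupOf.mp x.2⟩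
        exact this)
    -- invariance of `ξ`
    have hξinv : ∀ g : G, cj g ξ = ξ := by
      intro g
      refine fixed_unique_of_ext (N := N.subgroupOf M) (by rw [hrel]; exact hodd n) hk₂M hξi hξ
        hθ'i hξN (cj_isIrr g hξi) ?_ ?_ (coprime_sub hk M)
      · intro x
        rw [← congrFun (cj_pow (k := k) g ξ) x]
        have : (fun n => ξ (n ^ k)) = ξ := funext hξ
        rw [this]
      · have : (fun x : N.subgroupOf M => cj g ξ x) = toSub N M θ := by
          funext x
          have h1 := hξN ⟨⟨g * ((x : M) : G) * g⁻¹, hMn.conj_mem _ (x : M).2 g⟩,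
            Subgroup.mem_subgroupOf.mpr (hN.conj_mem _ (Subgroup.mem_subgroupOf.mp x.2) g)⟩
          have h2 := congrFun (hinv g) ⟨((x : M) : G), Subgroup.mem_subgroupOf.mp x.2⟩
          rw [cj_apply]
          exact h1.trans h2
        rw [this, irr_inner_self hθ'i]
        exact one_ne_zero
    have hcyc : IsCyclic (G ⧸ M) := by
      have : Nat.card (G ⧸ M) = p := hMidx
      exact isCyclic_of_prime_card this
    obtain ⟨χ, hχi, hχM⟩ := CharExt.ext_of_cyclic hcyc hξi hξinv
    obtain ⟨η, hηi, hηM, hη⟩ := exists_fixed_ext (N := M) (by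
      rw [hMidx]; exact hp.out.odd_of_ne_two hp2) hk hk₂ hξi hξ hχi hχM
    refine ⟨η, hηi, fun x => ?_, hη⟩
    have h1 := hηM ⟨(x : G), hNM x.2⟩
    have h2 := hξN ⟨⟨(x : G), hNM x.2⟩, Subgroup.mem_subgroupOf.mpr x.2⟩
    exact h1.trans h2

variable {G : Type*} [Group G] {N : Subgroup G} [hN : N.Normal]

/-- Invariant fixed characters of odd-index normal subgroups extend (fixed). -/
theorem exists_fixed_ext_inv [Finite G] (hidx : Odd N.index) {k : ℕ}
    (hk : Nat.Coprime k (Nat.card G))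
    (hk₂ : ∀ g : G, Odd (orderOf g) → g ^ k = g⁻¹)
    {θ : N → ℂ} (hθi : IsIrrCharacter N θ) (hθ : PF k θ) (hinv : ∀ g : G, cj g θ = θ) :
    ∃ ξ : G → ℂ, IsIrrCharacter G ξ ∧ (∀ n : N, ξ n = θ n) ∧ PF k ξ := by
  classical
  cases nonempty_fintype G
  have hext : ∃ χ : G → ℂ, IsIrrCharacter G χ ∧ ∀ n : N, χ n = θ n := by
    apply CharExt.ext_of_sylow hθi hinv
    intro p hp
    have : Fact p.Prime := ⟨hp⟩
    obtain ⟨P'⟩ : Nonempty (Sylow p (G ⧸ N)) := inferInstance
    set P : Subgroup G := (P' : Subgroup (G ⧸ N)).comap (QuotientGroup.mk' N) with hPd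
    have hNP : N ≤ P := by
      intro x hx
      rw [hPd, Subgroup.mem_comap]
      have : QuotientGroup.mk' N x = 1 := (QuotientGroup.eq_one_iff x).mpr hx
      rw [this]; exact one_mem _
    have hPidx : P.index = (P' : Subgroup (G ⧸ N)).index :=
      Subgroup.index_comap_of_surjective _ (QuotientGroup.mk'_surjective N)
    obtain ⟨n, hn⟩ := (IsPGroup.iff_card.mp P'.isPGroup')
    have hrel : (N.subgroupOf P).index = p ^ n := by
      have h1 := Subgroup.relIndex_mul_index hNP
      have h2 := (P' : Subgroup (G ⧸ N)).card_mul_index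
      have h3 : Nat.card (G ⧸ N) = N.index := rfl
      rw [h3, ← h1, hPidx, hn] at h2
      exact (Nat.eq_of_mul_eq_mul_right (Nat.pos_of_ne_zero Subgroup.index_ne_zero_of_finite)
        h2).symm
    have hθ'i : IsIrrCharacter (N.subgroupOf P) (toSub N P θ) := (isIrr_subgroupOf_iff hNP θ).mpr hθi
    have hθ' : PF k (toSub N P θ) := fun x => hθ ⟨((x : P) : G), Subgroup.mem_subgroupOf.mp x.2⟩
    have hinv' : ∀ g : P, cj g (toSub N P θ) = toSub N P θ := by
      intro g
      funext x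
      exact congrFun (hinv g) ⟨((x : P) : G), Subgroup.mem_subgroupOf.mp x.2⟩
    have hcop : Nat.Coprime P.index p := by
      rw [hPidx]
      exact Nat.Coprime.symm ((Nat.Prime.coprime_iff_not_dvd hp).mpr P'.not_dvd_index)
    have hex : ∃ ξ : P → ℂ, IsIrrCharacter P ξ ∧ (∀ x : N.subgroupOf P, ξ x = toSub N P θ x) := by
      rcases Nat.eq_zero_or_pos n with hn0 | hn0
      · -- trivial Sylow subgroup
        subst hn0
        have htop : N.subgroupOf P = ⊤ := Subgroup.index_eq_one.mp (by rw [hrel, pow_zero])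
        have hmem : ∀ x : P, x ∈ N.subgroupOf P := fun x => by rw [htop]; trivial
        refine ⟨fun x => toSub N P θ ⟨x, hmem x⟩, ?_, fun x => rfl⟩
        let f : P →* N.subgroupOf P :=
          { toFun := fun x => ⟨x, hmem x⟩, map_one' := rfl, map_mul' := fun _ _ => rfl }
        exact isIrr_comp_surjective f (fun y => ⟨y, rfl⟩) hθ'i
      · have hp2 : p ≠ 2 := by
          rintro rfl
          have h1 : 2 ∣ N.index := by
            rw [← Subgroup.relIndex_mul_index hNP]
            apply Dvd.dvd.mul_right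
            have : N.relIndex P = 2 ^ n := hrel
            rw [this]
            exact dvd_pow_self 2 hn0.ne'
          exact (Nat.not_even_iff_odd.mpr hidx) (even_iff_two_dvd.mpr h1)
        obtain ⟨ξ, h1, h2, -⟩ := exists_fixed_ext_ppow hp2 n P (N.subgroupOf P) hrel
          (coprime_sub hk P) (orderOf_sub hk₂) (toSub N P θ) hθ'i hθ' hinv'
        exact ⟨ξ, h1, h2⟩
    obtain ⟨ξ, h1, h2⟩ := hex
    exact ⟨P, hNP, ξ, hcop, isChar_of_irr h1, fun x =>
      h2 ⟨⟨(x : G), hNP x.2⟩, Subgroup.mem_subgroupOf.mpr x.2⟩⟩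
  obtain ⟨χ, hχi, hres⟩ := hext
  exact exists_fixed_ext hidx hk hk₂ hθi hθ hχi hres

variable [Fintype G] [Fintype N]

/-- **Main theorem**: exactly one `k`-fixed irreducible character over a `k`-fixed one. -/
theorem existsUnique_fixed_over (hidx : Odd N.index) {k : ℕ}
    (hk : Nat.Coprime k (Nat.card G)) (hk₂ : ∀ g : G, Odd (orderOf g) → g ^ k = g⁻¹)
    {θ : N → ℂ} (hθi : IsIrrCharacter N θ) (hθ : PF k θ) :
    ∃ χ : G → ℂ, (IsIrrCharacter G χ ∧ classInner (fun n : N => χ n) θ ≠ 0 ∧ PF k χ ∧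
      ((∀ g : G, cj g θ = θ) → ∀ n : N, χ n = θ n)) ∧
      ∀ χ' : G → ℂ, IsIrrCharacter G χ' → classInner (fun n : N => χ' n) θ ≠ 0 → PF k χ' →
        χ' = χ := by
  classical
  have hNT : N ≤ inertia θ := le_inertia (isChar_classFn (isChar_of_irr hθi))
  obtain ⟨T, hT⟩ : ∃ T : Subgroup G, T = inertia θ := ⟨_, rfl⟩
  rw [← hT] at hNT
  have hTm : ∀ g : G, g ∈ T ↔ cj g θ = θ := fun g => by rw [hT]; exact mem_inertia
  have : Fintype T := Fintype.ofFinite _
  have hθ'i : IsIrrCharacter (N.subgroupOf T) (toSub N T θ) := (isIrr_subgroupOf_iff hNT θ).mpr hθi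
  have hθ' : PF k (toSub N T θ) := fun x => hθ ⟨((x : T) : G), Subgroup.mem_subgroupOf.mp x.2⟩
  have hinv' : ∀ g : T, cj g (toSub N T θ) = toSub N T θ := by
    intro g
    funext x
    exact congrFun ((hTm g).mp g.2) ⟨((x : T) : G), Subgroup.mem_subgroupOf.mp x.2⟩
  have hoddT : Odd (N.subgroupOf T).index := by
    have h1 := Subgroup.relIndex_mul_index hNT
    rw [← h1] at hidx
    exact (Nat.odd_mul.mp hidx).1
  have hk₂T := orderOf_sub (M := T) hk₂
  obtain ⟨ψ, hψi, hψN, hψ⟩ := exists_fixed_ext_inv hoddT (coprime_sub hk T) hk₂T hθ'i hθ' hinv'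
  have hψres : resLe hNT ψ = θ := by
    funext x
    exact hψN ⟨⟨(x : G), hNT x.2⟩, Subgroup.mem_subgroupOf.mpr x.2⟩
  have hψover : classInner (resLe hNT ψ) θ ≠ 0 := by
    rw [hψres, irr_inner_self hθi]; exact one_ne_zero
  have hχi := ind_irr_of_inertia hθi hTm hNT hψi hψover
  have hχk : PF k (indFun T ψ) := by
    intro g
    rw [indFun_pow hk]
    have : (fun h => ψ (h ^ k)) = ψ := funext hψ
    rw [this]
  have hin : classInner (fun n : N => indFun T ψ n) θ ≠ 0 := by
    -- `χ_T` contains `ψ`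
    have h1 : classInner (fun t : T => indFun T ψ t) ψ = 1 := by
      rw [← reciprocity' T ψ _ (isChar_classFn (isChar_of_irr hχi)), irr_inner_self hχi]
    have h2 : IsCharacter T ((fun t : T => indFun T ψ t) - ψ) :=
      isChar_sub_constituent (isChar_res T (isChar_of_irr hχi)) hψi (by rw [h1]; exact one_ne_zero)
    obtain ⟨j, hj⟩ := exists_nat_inner (res_isChar hNT h2) hθi
    have h4 : resLe hNT ((fun t : T => indFun T ψ t) - ψ) =
      (fun n : N => indFun T ψ n) - resLe hNT ψ := rfl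
    rw [h4, classInner_sub_left, hψres, irr_inner_self hθi] at hj
    intro h0
    rw [h0] at hj
    have h5 : ((j + 1 : ℕ) : ℂ) = 0 := by push_cast; linear_combination -hj
    have h6 : j + 1 = 0 := by exact_mod_cast h5
    omega
  refine ⟨indFun T ψ, ⟨hχi, hin, hχk, ?_⟩, ?_⟩
  · intro hall n
    have hTtop : T = ⊤ := by
      rw [eq_top_iff]; intro g _; exact (hTm g).mpr (hall g)
    subst hTtop
    have hcl : IsClassFunction (⊤ : Subgroup G) ψ := isChar_classFn (isChar_of_irr hψi)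
    have h1 : indFun (⊤ : Subgroup G) ψ = fun g => ψ ⟨g, trivial⟩ := by
      have := CharMono.indFun_top (χ := fun g : G => ψ ⟨g, trivial⟩) (by
        intro x y
        exact hcl ⟨x, trivial⟩ ⟨y, trivial⟩)
      exact this
    rw [h1]
    exact congrFun hψres n
  · intro χ' hχ'i hover hχ'
    obtain ⟨ψ', hψ'i, hind, hin', hres'⟩ := exists_clifford hθi hTm hNT hχ'i hover
    have hψ'over : classInner (resLe hNT ψ') θ ≠ 0 := by rw [hin']; exact hover
    -- `ψ'` is fixed
    have hkT := coprime_sub hk T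
    have hψ'k : PF k ψ' := by
      have h1 : IsIrrCharacter T (fun t => ψ' (t ^ k)) := isIrr_pow_coprime hkT hψ'i
      have h2 : (fun t => ψ' (t ^ k)) = ψ' := by
        refine clifford_inj hθi hTm hNT h1 hψ'i ?_ hψ'over ?_
        · have h3 : resLe hNT (fun t => ψ' (t ^ k)) = resLe hNT ψ' := by
            funext x
            have h4 : resLe hNT (fun t => ψ' (t ^ k)) x = resLe hNT ψ' (x ^ k) := rfl
            rw [h4, hres']
            simp only [Pi.smul_apply]
            rw [hθ x]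
          rw [h3]; exact hψ'over
        · funext g
          rw [← indFun_pow hk, hind, hχ' g]
      exact fun t => congrFun h2 t
    have heq := fixed_unique_of_ext hoddT hk₂T hψi hψ hθ'i hψN hψ'i hψ'k (by
      have := inner_subgroupOf hNT (resLe hNT ψ') θ
      have h3 : (fun n : N.subgroupOf T => ψ' n) = fun n : N.subgroupOf T =>
        resLe hNT ψ' ⟨((n : T) : G), Subgroup.mem_subgroupOf.mp n.2⟩ := rfl
      rw [h3]
      unfold toSub
      rw [this]
      exact hψ'over) hkT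
    rw [← hind, heq]

end Exist

end

end Cfsg.Agent.Lib.CharFix
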