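import Cfsg.Agent.Lib.CharGlaub
import Cfsg.Agent.Lib.CharMod

set_option autoImplicit false

namespace Cfsg.Agent.Lib.CharGlaub2

open Cfsg Cfsg.Agent.Lib.CharBasic Cfsg.Agent.Lib.CharNormal Cfsg.Agent.Lib.CharClifford
open Cfsg.Agent.Lib.CharExt Cfsg.Agent.Lib.CharLin Cfsg.Agent.Lib.CharRatio
open Cfsg.Agent.Lib.CharInd Cfsg.Agent.Lib.CharGal Cfsg.Agent.Lib.CharExc
open Cfsg.Agent.Lib.CharGlaub Cfsg.Agent.Lib.CharMod
open Cfsg.Agent.Lib.BlockLoc Cfsg.Agent.Lib.BlockPP Cfsg.Agent.Lib.BlockFirst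
open scoped ComplexConjugate

noncomputable section

theorem charDegree_cast {A : Type*} [Group A] {χ : A → ℂ} (h : IsCharacter A χ) :
    (charDegree χ : ℂ) = χ 1 := by
  obtain ⟨n, hn⟩ := isChar_one_eq h
  rw [charDegree, hn, Complex.natCast_re, Nat.floor_natCast]

theorem pq_mul_comm {A : Type*} [Group A] [Finite A] {p : ℕ} (hp : p.Prime)
    (hcomm : ∀ a b : A, a * b = b * a) (x : A) {y : A} (hy : ∃ k, orderOf y = p ^ k) :
    pq p (x * y) = pq p x := by
  have h1 : x * y = (pp p x * y) * pq p x := by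
    rw [mul_assoc, hcomm y, ← mul_assoc, pp_mul_pq]
  rw [h1]
  apply pq_mul_eq hp (hcomm _ _) _ (not_dvd_orderOf_pq hp x)
  obtain ⟨k, hk⟩ := exists_orderOf_pp hp x
  obtain ⟨l, hl⟩ := hy
  have h2 : (pp p x * y) ^ (p ^ (k + l)) = 1 := by
    have hc : Commute (pp p x) y := hcomm _ _
    rw [hc.mul_pow, pow_add, pow_mul, ← hk, pow_orderOf_eq_one, one_pow, one_mul,
      mul_comm (orderOf _), pow_mul, ← hl, pow_orderOf_eq_one, one_pow]
  obtain ⟨m, -, hm⟩ := (Nat.dvd_prime_pow hp).mp (orderOf_dvd_of_pow_eq_one h2)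
  exact ⟨m, hm⟩

theorem int_dvd_sub_mul {A : Type*} [Group A] [Finite A] {p : ℕ} (hp : p.Prime)
    (hcomm : ∀ a b : A, a * b = b * a) {χ : A → ℂ} (hχ : IsCharacter A χ) {x y : A}
    (hy : ∃ k, orderOf y = p ^ k) {a b : ℤ} (ha : χ (x * y) = a) (hb : χ x = b) :
    (p : ℤ) ∣ a - b := by
  obtain ⟨M, hM⟩ := exists_pModular hp
  have h1 := max_sub_pq hM hχ (x * y)
  have h2 := max_sub_pq hM hχ x
  rw [pq_mul_comm hp hcomm x hy] at h1
  have h3 := max_sub hM h1 h2
  rw [sub_sub_sub_cancel_right, ha, hb] at h3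
  rw [← max_intCast_iff hM]
  push_cast
  exact h3

/-- Nonidentity elements are connected by multiplications by elements of prime power order. -/
theorem conn {A : Type*} [Group A] [Finite A] (hcomm : ∀ a b : A, a * b = b * a) (R : A → Prop)
    (h : ∀ p : ℕ, p.Prime → ∀ x y : A, x ≠ 1 → x * y ≠ 1 → (∃ k, orderOf y = p ^ k) →
      (R x ↔ R (x * y))) : ∀ x y : A, x ≠ 1 → y ≠ 1 → (R x ↔ R y) := by
  have h1 : ∀ n : ℕ, ∀ x : A, orderOf x = n → x ≠ 1 → ∃ z : A, z ≠ 1 ∧
      (∃ p k, p.Prime ∧ orderOf z = p ^ k) ∧ (R x ↔ R z) := by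
    intro n
    induction n using Nat.strong_induction_on with
    | _ n ih =>
      intro x hx hx1
      have hn1 : orderOf x ≠ 1 := by rwa [Ne, orderOf_eq_one_iff]
      obtain ⟨p, hp, hpx⟩ := Nat.exists_prime_and_dvd hn1
      by_cases hq : pq p x = 1
      · refine ⟨x, hx1, ?_, Iff.rfl⟩
        have h2 := pp_mul_pq p x
        rw [hq, mul_one] at h2
        obtain ⟨k, hk⟩ := exists_orderOf_pp hp x
        rw [h2] at hk
        exact ⟨p, k, hp, hk⟩
      · have h3 : R x ↔ R (pq p x) := by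
          have h4 : x * (pp p x)⁻¹ = pq p x := by rw [hcomm]; rfl
          have h5 := h p hp x (pp p x)⁻¹ hx1 (by rw [h4]; exact hq) (by
            rw [orderOf_inv]; exact exists_orderOf_pp hp x)
          rwa [h4] at h5
        have h6 : orderOf (pq p x) < n := by
          have h7 : orderOf (pq p x) ∣ orderOf x / p ^ (orderOf x).factorization p :=
            orderOf_dvd_of_pow_eq_one (pq_pow_eq_one hp x)
          have h8 : orderOf x / p ^ (orderOf x).factorization p < orderOf x := by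
            apply Nat.div_lt_self (orderOf_pos x)
            apply Nat.one_lt_pow
            · exact (hp.factorization_pos_of_dvd (orderOf_pos x).ne' hpx).ne'
            · exact hp.one_lt
          have h9 : 0 < orderOf x / p ^ (orderOf x).factorization p :=
            Nat.ordCompl_pos p (orderOf_pos x).ne'
          rw [← hx]
          exact lt_of_le_of_lt (Nat.le_of_dvd h9 h7) h8
        obtain ⟨z, hz1, hz2, hz3⟩ := ih _ h6 (pq p x) rfl hq
        exact ⟨z, hz1, hz2, h3.trans hz3⟩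
  have h2 : ∀ x y : A, x ≠ 1 → y ≠ 1 → (∃ p k, p.Prime ∧ orderOf x = p ^ k) →
      (∃ p k, p.Prime ∧ orderOf y = p ^ k) → (R x ↔ R y) := by
    rintro x y hx hy ⟨p, k, hp, hk⟩ ⟨q, l, hq, hl⟩
    by_cases hxy : x * y = 1
    · have h3 : y = x * (x⁻¹ * y) := by group
      have h4 : ∃ m, orderOf (x⁻¹ * y) = p ^ m := by
        have h5 : y = x⁻¹ := (eq_inv_of_mul_eq_one_right hxy)
        rw [h5]
        have h6 : (x⁻¹ * x⁻¹) ^ (p ^ k) = 1 := by
          rw [(Commute.refl x⁻¹).mul_pow, inv_pow, ← hk, pow_orderOf_eq_one, inv_one, mul_one]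
        obtain ⟨m, -, hm⟩ := (Nat.dvd_prime_pow hp).mp (orderOf_dvd_of_pow_eq_one h6)
        exact ⟨m, hm⟩
      have h7 := h p hp x (x⁻¹ * y) hx (by rw [← h3]; exact hy) h4
      rwa [← h3] at h7
    · have h3 := h q hq x y hx hxy ⟨l, hl⟩
      have h4 := h p hp y x hy (by rw [hcomm]; exact hxy) ⟨k, hk⟩
      rw [hcomm y x] at h4
      exact h3.trans h4.symm
  intro x y hx hy
  obtain ⟨z, hz, hz2, hz3⟩ := h1 _ x rfl hx
  obtain ⟨w, hw, hw2, hw3⟩ := h1 _ y rfl hy
  exact hz3.trans ((h2 z w hz hw hz2 hw2).trans hw3.symm)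


/-- Multiples of the regular character. -/
theorem isChar_reg {A : Type*} [Group A] [Fintype A] [DecidableEq A] :
    IsCharacter A (fun x => if x = 1 then (Nat.card A : ℂ) else 0) := by
  apply isChar_of_nat_inner
  · intro g h
    change (if h * g * h⁻¹ = 1 then (Nat.card A : ℂ) else 0) = if g = 1 then (Nat.card A : ℂ) else 0
    have : h * g * h⁻¹ = 1 ↔ g = 1 := by
      constructor
      · intro e
        have : g = h⁻¹ * (h * g * h⁻¹) * h := by group
        rw [this, e]; group
      · rintro rfl; group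
    simp only [this]
  · intro ψ
    obtain ⟨n, -, hn⟩ := isIrr_one_eq ψ.2
    refine ⟨n, ?_⟩
    rw [classInner_def, Finset.sum_eq_single 1]
    · rw [if_pos rfl, hn, Complex.conj_natCast, ← mul_assoc, inv_mul_cancel₀, one_mul]
      exact Nat.cast_ne_zero.mpr Nat.card_pos.ne'
    · intro x _ hx
      rw [if_neg hx, zero_mul]
    · intro h; exact absurd (Finset.mem_univ _) h

/-- A character of a cyclic group with values `±1` off the identity. -/
theorem sgn_lin {A : Type*} [Group A] [Fintype A] (hcomm : ∀ a b : A, a * b = b * a)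
    (hcyc : IsCyclic A) [Nontrivial A] {χ : A → ℂ} (hχ : IsCharacter A χ) (a : A → ℤ)
    (ha : ∀ x, χ x = a x) (h1 : ∀ x, x ≠ 1 → a x = 1 ∨ a x = -1) :
    ∃ ε : ℤ, (ε = 1 ∨ ε = -1) ∧ (Nat.card A : ℤ) ∣ a 1 - ε ∧ ∃ μ : A →* ℂˣ,
      (∀ x, μ x * μ x = 1) ∧ ∀ x, x ≠ 1 → χ x = ε * μ x := by
  classical
  have hn1 : Nat.card A ≠ 1 := by
    have := Finite.one_lt_card (α := A)
    omega
  -- rationality
  have hrat : ∀ (x : A) (j : ℕ), Nat.Coprime j (orderOf x) → χ (x ^ j) = χ x := by
    intro x j hj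
    obtain ⟨σ, hσ⟩ := exists_aut_pow (orderOf x) j (orderOf_pos x).ne' hj
    rw [← galois_pow σ j hχ x hσ, ha x]
    simp
  obtain ⟨p, hp, hpn, hcase⟩ : ∃ p, p.Prime ∧ p ∣ Nat.card A ∧ (p ≠ 2 ∨
      ∃ k, Nat.card A = 2 ^ k) := by
    by_cases h : ∃ p, p.Prime ∧ p ∣ Nat.card A ∧ p ≠ 2
    · obtain ⟨p, h1, h2, h3⟩ := h
      exact ⟨p, h1, h2, Or.inl h3⟩
    · push Not at h
      obtain ⟨p, hp, hpn⟩ := Nat.exists_prime_and_dvd hn1
      refine ⟨p, hp, hpn, Or.inr ⟨_, Nat.eq_prime_pow_of_unique_prime_dvd Nat.card_pos.ne'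
        fun {d} hd hdn => h d hd hdn⟩⟩
  haveI := Fact.mk hp
  obtain ⟨y, hy⟩ := exists_prime_orderOf_dvd_card' p hpn
  have hy1 : y ≠ 1 := by
    rintro rfl
    rw [orderOf_one] at hy
    exact hp.one_lt.ne hy
  have hT : ∀ x : A, x ∉ Subgroup.zpowers y → χ (x * y) = χ x := by
    intro x hx
    have hx1 : x ≠ 1 := by rintro rfl; exact hx (one_mem _)
    have hxy1 : x * y ≠ 1 := by
      intro h
      apply hx
      rw [eq_inv_of_mul_eq_one_left h]
      exact inv_mem (Subgroup.mem_zpowers y)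
    rcases hcase with hp2 | ⟨k, hk⟩
    · have h2 := int_dvd_sub_mul hp hcomm hχ (x := x) (y := y) ⟨1, by rw [hy, pow_one]⟩
        (ha (x * y)) (ha x)
      rw [ha, ha]
      congr 1
      have hp3 : 3 ≤ p := by
        have := hp.two_le
        omega
      rcases h1 _ hxy1 with e1 | e1 <;> rcases h1 _ hx1 with e2 | e2 <;> rw [e1, e2] at h2 ⊢
      · exfalso
        have := Int.le_of_dvd (by norm_num) h2
        omega
      · exfalso
        have := Int.le_of_dvd (by norm_num) ((dvd_neg).mpr h2)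
        omega
    · have hp2 : p = 2 := (Nat.prime_dvd_prime_iff_eq hp Nat.prime_two).mp
        (hp.dvd_of_dvd_pow (hk ▸ hpn))
      subst hp2
      obtain ⟨l, -, hl⟩ := (Nat.dvd_prime_pow Nat.prime_two).mp (hk ▸ orderOf_dvd_natCard x)
      have hl0 : l ≠ 0 := by
        rintro rfl
        rw [pow_zero, orderOf_eq_one_iff] at hl
        exact hx1 hl
      -- `y` is a power of `x`
      have hz : orderOf (x ^ (2 ^ (l - 1))) = 2 := by
        rw [orderOf_pow, hl]
        have : (2 ^ l).gcd (2 ^ (l - 1)) = 2 ^ (l - 1) :=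
          Nat.gcd_eq_right (pow_dvd_pow 2 (by omega))
        rw [this, Nat.pow_div (by omega) (by norm_num)]
        have : l - (l - 1) = 1 := by omega
        rw [this, pow_one]
      have hyx : y = x ^ (2 ^ (l - 1)) := by
        by_contra hne
        have h3 := IsCyclic.card_pow_eq_one_le (α := A) (n := 2) (by norm_num)
        have hz1 : x ^ (2 ^ (l - 1)) ≠ 1 := by
          intro h; rw [h, orderOf_one] at hz; norm_num at hz
        have h4 : ({1, y, x ^ (2 ^ (l - 1))} : Finset A) ⊆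
            Finset.univ.filter fun a : A => a ^ 2 = 1 := by
          intro a ha
          simp only [Finset.mem_insert, Finset.mem_singleton] at ha
          simp only [Finset.mem_filter, Finset.mem_univ, true_and]
          rcases ha with e | e | e
          · rw [e]; exact one_pow 2
          · rw [e]
            have := pow_orderOf_eq_one y
            rwa [hy] at this
          · rw [e]
            have := pow_orderOf_eq_one (x ^ (2 ^ (l - 1)))
            rwa [hz] at this
        have h5 := Finset.card_le_card h4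
        rw [Finset.card_insert_of_notMem, Finset.card_pair hne] at h5
        · omega
        · simp only [Finset.mem_insert, Finset.mem_singleton, not_or]
          exact ⟨fun h => hy1 h.symm, fun h => hz1 h.symm⟩
      have hl1 : l ≠ 1 := by
        rintro rfl
        apply hx
        rw [hyx]
        simp
      have h3 : x * y = x ^ (2 ^ (l - 1) + 1) := by rw [hyx, pow_succ']
      rw [h3, hrat]
      rw [hl]
      apply Nat.Coprime.pow_right
      rw [Nat.coprime_comm, Nat.coprime_two_left]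
      apply Even.add_one
      exact (Nat.even_pow.mpr ⟨even_two, by omega⟩)
  have hP : ∀ x ∈ Subgroup.zpowers y, x ≠ 1 → χ x = χ y := by
    intro x hx hx1
    rw [← mem_powers_iff_mem_zpowers] at hx
    obtain ⟨j, rfl⟩ := hx
    apply hrat
    rw [hy, Nat.coprime_comm, hp.coprime_iff_not_dvd]
    intro h
    apply hx1
    simp only
    rw [← orderOf_dvd_iff_pow_eq_one, hy]
    exact h
  set ε := a y with hε
  obtain ⟨l, hl⟩ := exists_lin_ne_one_of_comm hcomm hy1
  -- the translation invariant function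
  set g : A → ℂ := fun x => χ x - if x = 1 then ((a 1 : ℂ) - ε) else 0 with hg
  have hginv : ∀ x, g (x * y) = g x := by
    intro x
    by_cases hx : x ∈ Subgroup.zpowers y
    · have h2 : ∀ z ∈ Subgroup.zpowers y, g z = ε := by
        intro z hz
        simp only [hg]
        split_ifs with h3
        · rw [h3, ha]; ring
        · rw [hP z hz h3, ha, sub_zero]
      rw [h2 _ hx, h2 _ (mul_mem hx (Subgroup.mem_zpowers y))]
    · have hx1 : x ≠ 1 := by rintro rfl; exact hx (one_mem _)
      have hxy1 : x * y ≠ 1 := by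
        intro h
        apply hx
        rw [eq_inv_of_mul_eq_one_left h]
        exact inv_mem (Subgroup.mem_zpowers y)
      simp only [hg, if_neg hx1, if_neg hxy1, hT x hx]
  have hsum0 : ∑ x, g x * conj (linFn l x) = 0 := by
    have h2 : ∑ x, g x * conj (linFn l x) = conj (linFn l y) * ∑ x, g x * conj (linFn l x) := by
      calc ∑ x, g x * conj (linFn l x) = ∑ x, g (x * y) * conj (linFn l (x * y)) :=
            (Fintype.sum_equiv (Equiv.mulRight y) _ _ fun x => rfl).symm
        _ = ∑ x, conj (linFn l y) * (g x * conj (linFn l x)) := by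
            refine Finset.sum_congr rfl fun x _ => ?_
            rw [hginv, linFn_apply, map_mul, Units.val_mul, map_mul, linFn_apply, linFn_apply]
            ring
        _ = _ := by rw [Finset.mul_sum]
    have h3 : (1 - conj (linFn l y)) * ∑ x, g x * conj (linFn l x) = 0 := by
      rw [sub_mul, one_mul, ← h2, sub_self]
    rcases mul_eq_zero.mp h3 with h4 | h4
    · exfalso
      apply hl
      have h5 : conj (linFn l y) = 1 := by linear_combination -h4
      have h6 : linFn l y = 1 := by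
        have := congrArg conj h5
        rwa [Complex.conj_conj, map_one] at this
      rw [linFn_apply] at h6
      exact Units.ext h6
    · exact h4
  obtain ⟨m, hm⟩ := exists_nat_inner' hχ (linFn_isChar l)
  have hdvd : (a 1 : ℂ) - ε = (Nat.card A : ℂ) * m := by
    rw [← hm, classInner_def, ← mul_assoc, mul_inv_cancel₀ (Nat.cast_ne_zero.mpr
      Nat.card_pos.ne'), one_mul]
    have h2 : ∑ x, χ x * conj (linFn l x) = ∑ x, g x * conj (linFn l x) +
        ∑ x, (if x = 1 then ((a 1 : ℂ) - ε) else 0) * conj (linFn l x) := by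
      rw [← Finset.sum_add_distrib]
      refine Finset.sum_congr rfl fun x _ => ?_
      simp only [hg]
      ring
    rw [h2, hsum0, zero_add, Finset.sum_eq_single 1]
    · rw [if_pos rfl, linFn_apply_one, map_one, mul_one]
    · intro x _ hx
      rw [if_neg hx, zero_mul]
    · intro h; exact absurd (Finset.mem_univ _) h
  have hε1 : ε = 1 ∨ ε = -1 := h1 y hy1
  set η : A → ℂ := fun x => if x = 1 then (ε : ℂ) else χ x with hη
  have hηgen : IsGeneralizedCharacter A η := by
    have h2 : η = χ - (m : ℂ) • (fun x : A => if x = 1 then (Nat.card A : ℂ) else 0) := by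
      funext x
      simp only [hη, Pi.sub_apply, Pi.smul_apply, smul_eq_mul]
      split_ifs with h3
      · rw [h3, ha]
        linear_combination -hdvd
      · ring
    rw [h2]
    exact gen_sub (gen_of_char hχ) (gen_nsmul m (gen_of_char isChar_reg))
  have hηsq : ∀ x, η x * conj (η x) = 1 := by
    intro x
    simp only [hη]
    split_ifs with h3
    · rcases hε1 with h | h <;> rw [h] <;> simp
    · rw [ha]
      rcases h1 x h3 with h | h <;> rw [h] <;> simp
  have hηn : classInner η η = 1 := by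
    rw [classInner_def, Finset.sum_congr rfl fun x _ => hηsq x]
    simp
  obtain ⟨ψ, hψ⟩ := norm_one hηgen hηn
  obtain ⟨d, hd0, hd⟩ := isIrr_one_eq ψ.2
  have hη1 : η 1 = ε := by simp [hη]
  have hηψ : η = (ε : ℂ) • ψ.1 ∧ ψ.1 1 = 1 := by
    rcases hψ with h | h <;> rcases hε1 with e | e <;> rw [h, e] at hη1 <;> rw [e, h]
    · refine ⟨by simp, ?_⟩
      rw [hη1]; simp
    · exfalso
      rw [hd] at hη1
      have : (d : ℤ) = -1 := by exact_mod_cast hη1
      omega
    · exfalso
      rw [Pi.neg_apply, hd] at hη1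
      have : -(d : ℤ) = 1 := by exact_mod_cast hη1
      omega
    · refine ⟨by simp, ?_⟩
      rw [Pi.neg_apply] at hη1
      have := congrArg Neg.neg hη1
      rw [neg_neg] at this
      rw [this]; simp
  obtain ⟨μ, hμ⟩ := lin_iff.mp ⟨isChar_of_irr ψ.2, hηψ.2⟩
  have hμ' : ∀ x, x ≠ 1 → χ x = ε * μ x := by
    intro x hx
    have := congrFun hηψ.1 x
    rw [hμ] at this
    simp only [hη, if_neg hx, Pi.smul_apply, smul_eq_mul, linFn_apply] at this
    exact this
  refine ⟨ε, hε1, ⟨m, by exact_mod_cast hdvd⟩, μ, ?_, hμ'⟩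
  intro x
  by_cases hx : x = 1
  · rw [hx, map_one, mul_one]
  · have h2 := hμ' x hx
    rw [ha] at h2
    have h3 : (μ x : ℂ) * μ x = 1 := by
      rcases h1 x hx with h | h <;> rcases hε1 with e | e <;> rw [h, e] at h2 <;> push_cast at h2
      · rw [show (μ x : ℂ) = 1 by linear_combination -h2]; ring
      · rw [show (μ x : ℂ) = -1 by linear_combination h2]; ring
      · rw [show (μ x : ℂ) = -1 by linear_combination -h2]; ring
      · rw [show (μ x : ℂ) = 1 by linear_combination h2]; ring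
    exact Units.ext (by rw [Units.val_mul]; exact h3)

section Main3

variable {Γ : Type*} [Group Γ] [Fintype Γ] {G C : Subgroup Γ} [hG : G.Normal] {s : Γ}

/-- `[χh(· z), β]` is an integer. -/
theorem exists_int' (hcop : Nat.Coprime (Nat.card G) (orderOf s)) [Fintype C]
    (hC : ∀ x, x ∈ C ↔ x ∈ G ∧ x * s = s * x)
    {χh : Γ → ℂ} (hχ : Canon G s χh) {β : C → ℂ} (hβ : IsCharacter C β)
    (w : Subgroup.zpowers s) :
    ∃ n : ℤ, (Nat.card C : ℂ)⁻¹ * ∑ c : C, χh (c * w) * conj (β c) = n := by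
  have hA := isChar_A hC (isChar_of_irr hχ.irr) hβ
  set A : Subgroup.zpowers s → ℂ := fun z => (Nat.card C : ℂ)⁻¹ * ∑ c : C, χh (c * z) * conj (β c)
    with hAdef
  have hAs : (Nat.card C : ℂ)⁻¹ * ∑ c : C, χh (c * w) * conj (β c) = A w := rfl
  have how : orderOf w ∣ orderOf s := by
    have := orderOf_dvd_natCard w
    rwa [Nat.card_zpowers] at this
  rw [hAs]
  apply isInt_of_fixed
  · exact char_isIntegral hA _
  · intro σ
    have hn0 : Nat.card G * orderOf s ≠ 0 := mul_ne_zero Nat.card_pos.ne' (orderOf_pos s).ne'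
    obtain ⟨k, hk, hσ⟩ := exists_pow_of_aut _ hn0 σ
    have hks : Nat.Coprime k (orderOf s) := hk.coprime_dvd_right (dvd_mul_left _ _)
    obtain ⟨k', τ, h1, h2, hτ⟩ := exists_k hcop hks
    have hpow : ∀ z : ℂ, z ^ orderOf w = 1 → z ^ (Nat.card G * orderOf s) = 1 := by
      intro z hz
      obtain ⟨j, hj⟩ := how
      rw [hj, mul_left_comm, pow_mul, hz, one_pow]
    have h3 : σ (A w) = τ (A w) := by
      rw [galois_pow σ k hA _ (fun z hz => hσ z (hpow z hz)),
        galois_pow τ k' hA _ (fun z hz => hτ z (hpow z hz))]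
      congr 1
      rw [pow_eq_pow_iff_modEq]
      exact h1.symm.of_dvd how
    rw [h3]
    change τ ((Nat.card C : ℂ)⁻¹ * ∑ c : C, χh (c * w) * conj (β c)) =
      (Nat.card C : ℂ)⁻¹ * ∑ c : C, χh (c * w) * conj (β c)
    rw [map_mul, map_inv₀, map_natCast, map_sum]
    congr 1
    refine Finset.sum_congr rfl fun c _ => ?_
    rw [map_mul, hχ.gal k' τ hτ h2]
    congr 1
    rw [← char_inv hβ, galois_pow τ k' hβ]
    · congr 1
      have h5 : c⁻¹ ^ k' = c⁻¹ ^ 1 := by
        rw [pow_eq_pow_iff_modEq]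
        refine h2.of_dvd ?_
        have h6 : orderOf (c⁻¹) ∣ Nat.card C := orderOf_dvd_natCard _
        have h7 : Nat.card C ∣ Nat.card G :=
          Subgroup.card_dvd_of_le (fun x hx => ((hC x).mp hx).1)
        exact h6.trans h7
      rw [h5, pow_one]
    · intro z hz
      apply hτ
      have h6 : orderOf (c⁻¹) ∣ Nat.card C := orderOf_dvd_natCard _
      have h7 : Nat.card C ∣ Nat.card G :=
        Subgroup.card_dvd_of_le (fun x hx => ((hC x).mp hx).1)
      obtain ⟨j, hj⟩ := (h6.trans h7).trans (dvd_mul_right _ (orderOf s))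
      rw [hj, pow_mul, hz, one_pow]

theorem exists_corr' (hcop : Nat.Coprime (Nat.card G) (orderOf s)) [Fintype C]
    (hC : ∀ x, x ∈ C ↔ x ∈ G ∧ x * s = s * x)
    {χh : Γ → ℂ} (hχ : Canon G s χh) (w : Subgroup.zpowers s)
    (hCw : ∀ x, x ∈ C ↔ x ∈ G ∧ x * (w : Γ) = w * x) :
    ∃ β : IrrCharacter C, ∃ ε : ℤ, (ε = 1 ∨ ε = -1) ∧
      ∀ c : C, χh (c * w) = ε * β.1 c := by
  have how : orderOf (w : Γ) ∣ orderOf s := by
    have := orderOf_dvd_natCard w
    rwa [Nat.card_zpowers, ← Subgroup.orderOf_coe] at this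
  have hcl : IsClassFunction C (fun c : C => χh (c * w)) := by
    intro c d
    change χh (((d * c * d⁻¹ : C) : Γ) * w) = χh (c * w)
    have h1 : ((d * c * d⁻¹ : C) : Γ) * w = d * (c * w) * (d : Γ)⁻¹ := by
      have h2 : (d : Γ) * w = w * d := ((hCw d).mp d.2).2
      have h3 : (d : Γ)⁻¹ * w = w * (d : Γ)⁻¹ := by
        rw [eq_mul_inv_iff_mul_eq, mul_assoc, ← h2]; group
      simp only [Subgroup.coe_mul, Subgroup.coe_inv, mul_assoc, h3]
    rw [h1]
    exact isChar_classFn (isChar_of_irr hχ.irr) _ _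
  have hgen : IsGeneralizedCharacter C (fun c : C => χh (c * w)) := by
    apply isGen_of_int_inner hcl
    intro β
    obtain ⟨n, hn⟩ := exists_int' hcop hC hχ (isChar_of_irr β.2) w
    exact ⟨n, by rw [classInner_def]; exact hn⟩
  obtain ⟨β, hβ⟩ := norm_one hgen ((coset_orth (hcop.coprime_dvd_right how) hCw hχ.irr hχ.irr
    hχ.res hχ.res).1 rfl)
  rcases hβ with h | h
  · exact ⟨β, 1, Or.inl rfl, fun c => by rw [Int.cast_one, one_mul]; exact congrFun h c⟩
  · exact ⟨β, -1, Or.inr rfl, fun c => by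
      rw [Int.cast_neg, Int.cast_one, neg_one_mul]; exact congrFun h c⟩

theorem fpf (hcop : Nat.Coprime (Nat.card G) (orderOf s)) [Fintype C]
    (hs1 : s ≠ 1)
    (hC : ∀ w ∈ Subgroup.zpowers s, w ≠ 1 → ∀ x, x ∈ C ↔ x ∈ G ∧ x * w = w * x)
    {χh : Γ → ℂ} (hχ : Canon G s χh) {β : IrrCharacter C} {ε₀ : ℤ} (hε₀ : ε₀ = 1 ∨ ε₀ = -1)
    (hβ : ∀ c : C, χh (c * s) = ε₀ * β.1 c) :
    ∃ ε : ℤ, (ε = 1 ∨ ε = -1) ∧ (∃ μ : Subgroup.zpowers s →* ℂˣ, (∀ x, μ x * μ x = 1) ∧
      ∀ c : C, ∀ x : Subgroup.zpowers s, x ≠ 1 → χh (c * x) = ε * β.1 c * μ x) ∧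
      ∃ ϑ : C → ℂ, IsCharacter C ϑ ∧
        (fun c : C => χh c) = fun c => (orderOf s : ℂ) * ϑ c + ε * β.1 c := by
  classical
  have : Fintype (Subgroup.zpowers s) := Fintype.ofFinite _
  have hss : s ∈ Subgroup.zpowers s := Subgroup.mem_zpowers s
  have hCs := hC s hss hs1
  have hcomm : ∀ a b : Subgroup.zpowers s, a * b = b * a := by
    rintro ⟨_, ⟨i, rfl⟩⟩ ⟨_, ⟨j, rfl⟩⟩
    apply Subtype.ext
    change s ^ i * s ^ j = s ^ j * s ^ i
    rw [← zpow_add, ← zpow_add, add_comm]
  have hcyc : IsCyclic (Subgroup.zpowers s) := inferInstance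
  haveI : Nontrivial (Subgroup.zpowers s) :=
    ⟨⟨⟨s, hss⟩, 1, fun h => hs1 (congrArg Subtype.val h)⟩⟩
  -- the multiplicities
  choose a ha using fun (β' : IrrCharacter C) (w : Subgroup.zpowers s) =>
    exists_int' hcop hCs hχ (isChar_of_irr β'.2) w
  have hchar := fun (β' : IrrCharacter C) => isChar_A hCs (isChar_of_irr hχ.irr)
    (isChar_of_irr β'.2)
  have hval : ∀ w : Subgroup.zpowers s, w ≠ 1 → ∃ β' : IrrCharacter C, ∃ ε' : ℤ,
      (ε' = 1 ∨ ε' = -1) ∧ (∀ c : C, χh (c * w) = ε' * β'.1 c) ∧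
      ∀ β'', a β'' w = if β'' = β' then ε' else 0 := by
    intro w hw
    obtain ⟨β', ε', hε', hβ'⟩ := exists_corr' hcop hCs hχ w
      (hC w w.2 (fun h => hw (Subtype.ext h)))
    refine ⟨β', ε', hε', hβ', fun β'' => ?_⟩
    have h1 := ha β'' w
    have h2 : (Nat.card C : ℂ)⁻¹ * ∑ c : C, χh (c * w) * conj (β''.1 c) =
        ε' * classInner β'.1 β''.1 := by
      rw [classInner_def, mul_left_comm, Finset.mul_sum, Finset.mul_sum, Finset.mul_sum]
      refine Finset.sum_congr rfl fun c _ => ?_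
      rw [hβ' c]; ring
    rw [h2, irr_inner' β' β''] at h1
    by_cases h3 : β'' = β'
    · rw [if_pos h3.symm, mul_one] at h1
      rw [if_pos h3]
      exact_mod_cast h1.symm
    · rw [if_neg (fun h => h3 h.symm), mul_zero] at h1
      rw [if_neg h3]
      exact_mod_cast h1.symm
  have hR := conn hcomm (fun w => a β w = 0) (by
    intro p hp x y hx hxy hy
    obtain ⟨β₁, ε₁, hε₁, -, h1⟩ := hval x hx
    obtain ⟨β₂, ε₂, hε₂, -, h2⟩ := hval _ hxy
    have h3 := int_dvd_sub_mul hp hcomm (hchar β) hy (ha β (x * y)) (ha β x)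
    have hp2 := hp.two_le
    have key : ∀ u v : ℤ, (u = 0 ∨ u = 1 ∨ u = -1) → (v = 0 ∨ v = 1 ∨ v = -1) →
        (p : ℤ) ∣ u - v → (v = 0 ↔ u = 0) := by
      have aux : ∀ z : ℤ, (z = 1 ∨ z = -1) → ¬ (p : ℤ) ∣ z := by
        rintro z (rfl | rfl) h
        · have := Int.le_of_dvd (by norm_num) h
          omega
        · rw [dvd_neg] at h
          have := Int.le_of_dvd (by norm_num) h
          omega
      rintro u v (rfl | rfl | rfl) (rfl | rfl | rfl) h
      · simp
      · exact absurd h (aux _ (by norm_num))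
      · exact absurd h (aux _ (by norm_num))
      · exact absurd h (aux _ (by norm_num))
      · simp
      · simp
      · exact absurd h (aux _ (by norm_num))
      · simp
      · simp
    refine key _ _ ?_ ?_ h3
    · rw [h2]
      split_ifs
      · exact Or.inr hε₂
      · exact Or.inl rfl
    · rw [h1]
      split_ifs
      · exact Or.inr hε₁
      · exact Or.inl rfl)
  have has : a β ⟨s, hss⟩ ≠ 0 := by
    obtain ⟨β', ε', hε', hβ', h1⟩ := hval ⟨s, hss⟩ (fun h => hs1 (congrArg Subtype.val h))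
    have h2 := sgn_irr_unique (β := β) (β' := β') hε₀ hε' (fun c => by rw [← hβ c, ← hβ' c])
    rw [h1, if_pos h2.1]
    rcases hε' with h | h <;> rw [h] <;> norm_num
  have hval' : ∀ w : Subgroup.zpowers s, w ≠ 1 → (a β w = 1 ∨ a β w = -1) ∧
      (∀ c : C, χh (c * w) = a β w * β.1 c) ∧ ∀ β', β' ≠ β → a β' w = 0 := by
    intro w hw
    have h1 : a β w ≠ 0 := by
      intro h
      exact has ((hR w ⟨s, hss⟩ hw (fun h => hs1 (congrArg Subtype.val h))).mp h)
    obtain ⟨β', ε', hε', hβ', h2⟩ := hval w hw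
    have h3 : β = β' := by
      by_contra h
      rw [h2, if_neg h] at h1
      exact h1 rfl
    subst h3
    have h4 : a β w = ε' := by rw [h2, if_pos rfl]
    rw [h4]
    exact ⟨hε', hβ', fun β' hne => by rw [h2, if_neg hne]⟩
  obtain ⟨ε, hε, ⟨m, hm⟩, μ, hμ, hμ'⟩ := sgn_lin hcomm hcyc (hchar β) (a β) (ha β)
    (fun w hw => (hval' w hw).1)
  refine ⟨ε, hε, ⟨μ, hμ, ?_⟩, ?_⟩
  · intro c x hx
    rw [(hval' x hx).2.1 c, ← ha β x]
    have := hμ' x hx
    rw [this]
    ring
  · -- the decomposition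
    rw [Nat.card_zpowers] at hm
    have hn : 1 < orderOf s := by
      have h1 := orderOf_pos s
      have h2 : orderOf s ≠ 1 := by rwa [Ne, orderOf_eq_one_iff]
      omega
    have hpos : ∀ β', ∃ k : ℕ, a β' 1 = k := by
      intro β'
      obtain ⟨k, hk⟩ := isChar_one_eq (hchar β')
      refine ⟨k, ?_⟩
      have := ha β' 1
      rw [this] at hk
      exact_mod_cast hk
    have hdiv : ∀ β', β' ≠ β → ∃ k : ℕ, a β' 1 = orderOf s * k := by
      intro β' hne
      obtain ⟨k, hk⟩ := exists_nat_inner' (hchar β') (linFn_isChar (1 : Subgroup.zpowers s →* ℂˣ))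
      refine ⟨k, ?_⟩
      rw [classInner_def, Finset.sum_eq_single 1] at hk
      · have h2 := ha β' 1
        simp only [h2, linFn_apply_one, map_one, mul_one, Nat.card_zpowers] at hk
        rw [inv_mul_eq_iff_eq_mul₀ (Nat.cast_ne_zero.mpr (orderOf_pos s).ne')] at hk
        exact_mod_cast hk
      · intro w _ hw
        rw [ha β' w, (hval' w hw).2.2 β' hne, Int.cast_zero, zero_mul]
      · intro h; exact absurd (Finset.mem_univ _) h
    have hm0 : 0 ≤ m := by
      obtain ⟨k, hk⟩ := hpos β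
      by_contra hneg
      have h1 : m ≤ -1 := by omega
      have h2 : (orderOf s : ℤ) * m ≤ (orderOf s : ℤ) * (-1) :=
        mul_le_mul_of_nonneg_left h1 (by positivity)
      rw [hk] at hm
      rcases hε with h | h <;> rw [h] at hm <;> omega
    have hk : ∀ β', ∃ k : ℕ, (a β' 1 : ℂ) = orderOf s * k + if β' = β then (ε : ℂ) else 0 := by
      intro β'
      by_cases h : β' = β
      · subst h
        refine ⟨m.toNat, ?_⟩
        rw [if_pos rfl]
        have h1 : ((m.toNat : ℕ) : ℂ) = (m : ℂ) := by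
          have : ((m.toNat : ℕ) : ℤ) = m := Int.toNat_of_nonneg hm0
          exact_mod_cast this
        rw [h1]
        have : (a β' 1 : ℤ) = orderOf s * m + ε := by omega
        rw [this]; push_cast; ring
      · obtain ⟨k, hk⟩ := hdiv β' h
        refine ⟨k, ?_⟩
        rw [if_neg h, hk]; push_cast; ring
    choose k hk using hk
    refine ⟨∑ β', k β' • β'.1, isChar_sum _ _ (fun β' _ => isChar_nsmul (isChar_of_irr β'.2) _),
      ?_⟩
    have hres : IsCharacter C (fun c : C => χh c) :=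
      isChar_comp C.subtype (isChar_of_irr hχ.irr)
    rw [char_eq_sum_inner hres]
    have h1 : ∀ β' : IrrCharacter C, classInner (fun c : C => χh c) β'.1 = a β' 1 := by
      intro β'
      rw [← ha β' 1, classInner_def]
      simp only [Subgroup.coe_one, mul_one]
    funext c
    simp only [Finset.sum_apply, Pi.smul_apply, smul_eq_mul, h1, hk, nsmul_eq_mul, Finset.mul_sum]
    have h2 : (ε : ℂ) * β.1 c = ∑ β' : IrrCharacter C, (if β' = β then (ε : ℂ) else 0) * β'.1 c := by
      rw [Finset.sum_eq_single β]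
      · rw [if_pos rfl]
      · intro β' _ hne
        rw [if_neg hne, zero_mul]
      · intro h; exact absurd (Finset.mem_univ _) h
    rw [h2, ← Finset.sum_add_distrib]
    refine Finset.sum_congr rfl fun β' _ => ?_
    simp only [Pi.mul_apply, Pi.natCast_apply]
    ring

end Main3

end

end Cfsg.Agent.Lib.CharGlaub2
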