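import Cfsg.Agent.Lib.CharAvg
import Cfsg.Agent.Lib.CharFix
import Cfsg.Agent.Lib.CharBurnside
import Cfsg.Agent.Lib.CharGlaub2

/-! Averages of character values over Galois-stable sets; zeros of characters. -/

set_option autoImplicit false

namespace Cfsg.Agent.Lib.CharEasy

open Cfsg Cfsg.Agent.Lib.CharBasic Cfsg.Agent.Lib.CharLin Cfsg.Agent.Lib.CharInt
open Cfsg.Agent.Lib.CharGal Cfsg.Agent.Lib.CharAvg Cfsg.Agent.Lib.CharInd
open scoped ComplexConjugate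

noncomputable section

section Avg

variable {G : Type*} [Group G] [Finite G]

theorem pow_val_natCast (g : G) (k : ℕ) : haveI : NeZero (Nat.card G) := ⟨Nat.card_pos.ne'⟩
    g ^ ((k : ZMod (Nat.card G)).val) = g ^ k := by
  haveI : NeZero (Nat.card G) := ⟨Nat.card_pos.ne'⟩
  rw [ZMod.val_natCast, pow_mod_natCard]

theorem pow_val_mulU (g : G) (u v : (ZMod (Nat.card G))ˣ) :
    g ^ ((u * v : (ZMod (Nat.card G))ˣ) : ZMod (Nat.card G)).val =
      (g ^ (u : ZMod (Nat.card G)).val) ^ (v : ZMod (Nat.card G)).val := by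
  haveI : NeZero (Nat.card G) := ⟨Nat.card_pos.ne'⟩
  rw [Units.val_mul, ZMod.val_mul, pow_mod_natCard, pow_mul]

theorem coprime_valU (u : (ZMod (Nat.card G))ˣ) :
    Nat.Coprime (u : ZMod (Nat.card G)).val (Nat.card G) := ZMod.val_coe_unit_coprime u

/-- The power bijection. -/
theorem pow_bij {k : ℕ} (hk : Nat.Coprime k (Nat.card G)) :
    Function.Bijective (fun g : G => g ^ k) := (powCoprime hk.symm).bijective

theorem ne_zero_pow {χ : G → ℂ} (hχ : IsCharacter G χ) {k : ℕ} (hk : Nat.Coprime k (Nat.card G))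
    {g : G} (h : χ g ≠ 0) : χ (g ^ k) ≠ 0 := by
  obtain ⟨σ, hσ⟩ := exists_aut_pow (Nat.card G) k Nat.card_pos.ne' hk
  rw [← galois_pow σ k hχ g (fun z hz => hσ z (pow_card_of_pow_orderOf g
    (orderOf_dvd_natCard g) hz))]
  intro h0
  exact h ((map_eq_zero_iff σ σ.injective).mp h0)

theorem prod_ge_one {χ : G → ℂ} (hχ : IsCharacter G χ) {g : G} (h : χ g ≠ 0) :
    haveI : NeZero (Nat.card G) := ⟨Nat.card_pos.ne'⟩
    1 ≤ ∏ u : (ZMod (Nat.card G))ˣ, ‖χ (g ^ (u : ZMod (Nat.card G)).val)‖ ^ 2 := by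
  haveI : NeZero (Nat.card G) := ⟨Nat.card_pos.ne'⟩
  obtain ⟨n, hn⟩ : ∃ n : ℤ, ∏ u : (ZMod (Nat.card G))ˣ, χ (g ^ (u : ZMod (Nat.card G)).val) = n := by
    apply isInt_of_fixed
    · exact IsIntegral.prod _ fun u _ => char_isIntegral hχ _
    · intro σ
      obtain ⟨k, hk, hσ⟩ := exists_pow_galois (G := G) σ
      rw [map_prod]
      refine Fintype.prod_equiv (Equiv.mulRight (ZMod.unitOfCoprime k hk)) _ _ fun u => ?_
      rw [hσ χ hχ, Equiv.coe_mulRight, pow_val_mulU, ZMod.coe_unitOfCoprime, pow_val_natCast]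
  have hn0 : n ≠ 0 := by
    rintro rfl
    have h1 : ∏ u : (ZMod (Nat.card G))ˣ, χ (g ^ (u : ZMod (Nat.card G)).val) ≠ 0 :=
      Finset.prod_ne_zero_iff.mpr fun u _ => ne_zero_pow hχ (coprime_valU u) h
    exact h1 (by rw [hn]; simp)
  rw [Finset.prod_pow, ← norm_prod, hn, Complex.norm_intCast]
  have h1 : (1 : ℝ) ≤ |(n : ℝ)| := by exact_mod_cast Int.one_le_abs hn0
  nlinarith [abs_nonneg (n : ℝ)]

/-- The sum of `|χ|²` over a Galois-stable set on which `χ` does not vanish. -/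
theorem sum_norm_ge {χ : G → ℂ} (hχ : IsCharacter G χ) (S : Finset G)
    (hS : ∀ k : ℕ, Nat.Coprime k (Nat.card G) → ∀ g ∈ S, g ^ k ∈ S)
    (h0 : ∀ g ∈ S, χ g ≠ 0) : (S.card : ℝ) ≤ ∑ g ∈ S, ‖χ g‖ ^ 2 := by
  classical
  haveI : NeZero (Nat.card G) := ⟨Nat.card_pos.ne'⟩
  have h1 : ∀ g ∈ S, (Fintype.card (ZMod (Nat.card G))ˣ : ℝ) ≤
      ∑ u : (ZMod (Nat.card G))ˣ, ‖χ (g ^ (u : ZMod (Nat.card G)).val)‖ ^ 2 := by
    intro g hg
    have := sum_ge_card Finset.univ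
      (fun u : (ZMod (Nat.card G))ˣ => ‖χ (g ^ (u : ZMod (Nat.card G)).val)‖ ^ 2)
      (fun u _ => by
        have := norm_pos_iff.mpr (ne_zero_pow hχ (coprime_valU u) (h0 g hg)); positivity)
      (prod_ge_one hχ (h0 g hg))
    simpa using this.1
  have h2 : ∀ u : (ZMod (Nat.card G))ˣ,
      ∑ g ∈ S, ‖χ (g ^ (u : ZMod (Nat.card G)).val)‖ ^ 2 = ∑ g ∈ S, ‖χ g‖ ^ 2 := by
    intro u
    have hinj := (pow_bij (G := G) (coprime_valU u)).1
    have himg : S.image (fun g => g ^ (u : ZMod (Nat.card G)).val) = S := by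
      apply Finset.eq_of_subset_of_card_le
      · intro x hx
        obtain ⟨g, hg, rfl⟩ := Finset.mem_image.mp hx
        exact hS _ (coprime_valU u) g hg
      · rw [Finset.card_image_of_injective _ hinj]
    conv_rhs => rw [← himg]
    rw [Finset.sum_image (fun a _ b _ h => hinj h)]
  have h3 : (Fintype.card (ZMod (Nat.card G))ˣ : ℝ) * S.card ≤
      (Fintype.card (ZMod (Nat.card G))ˣ : ℝ) * ∑ g ∈ S, ‖χ g‖ ^ 2 := by
    calc (Fintype.card (ZMod (Nat.card G))ˣ : ℝ) * S.card =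
        ∑ g ∈ S, (Fintype.card (ZMod (Nat.card G))ˣ : ℝ) := by
          rw [Finset.sum_const, nsmul_eq_mul, mul_comm]
      _ ≤ ∑ g ∈ S, ∑ u : (ZMod (Nat.card G))ˣ, ‖χ (g ^ (u : ZMod (Nat.card G)).val)‖ ^ 2 :=
          Finset.sum_le_sum h1
      _ = ∑ u : (ZMod (Nat.card G))ˣ, ∑ g ∈ S, ‖χ (g ^ (u : ZMod (Nat.card G)).val)‖ ^ 2 :=
          Finset.sum_comm
      _ = _ := by
          rw [Finset.sum_congr rfl fun u _ => h2 u, Finset.sum_const, nsmul_eq_mul,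
            Finset.card_univ]
  exact le_of_mul_le_mul_left h3 (by exact_mod_cast Fintype.card_pos)

theorem norm_pow_eq {χ : G → ℂ} (hχ : IsIrrCharacter G χ) {k : ℕ}
    (hk : Nat.Coprime k (Nat.card G)) {g : G} {d : ℝ} (hd : χ 1 = d) (h : ‖χ g‖ = d) :
    ‖χ (g ^ k)‖ = d := by
  obtain ⟨n, ρ, hρ, hρχ⟩ := hχ
  have hfin : χ 1 = (Module.finrank ℂ (Fin n → ℂ) : ℂ) := by rw [← hρχ]; exact ρ.char_one
  have hd' : d = (Module.finrank ℂ (Fin n → ℂ) : ℝ) := by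
    rw [hd] at hfin
    exact_mod_cast hfin
  rw [← hρχ] at h ⊢
  rw [hd'] at h ⊢
  rw [CharRep.norm_char_eq_degree_iff] at h ⊢
  obtain ⟨ω, hω⟩ := h
  refine ⟨ω ^ k, ?_⟩
  rw [map_pow, hω]
  have : (ω • (LinearMap.id : (Fin n → ℂ) →ₗ[ℂ] (Fin n → ℂ))) ^ k =
      ω ^ k • (LinearMap.id : (Fin n → ℂ) →ₗ[ℂ] (Fin n → ℂ)) := by
    have h2 : (LinearMap.id : (Fin n → ℂ) →ₗ[ℂ] (Fin n → ℂ)) = 1 := rfl
    rw [h2, smul_pow, one_pow]
  exact this

end Avg

section Zeros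

variable {G : Type*} [Group G] [Fintype G] [DecidableEq G]

theorem zeros (χ : G → ℂ) (hχ : IsIrrCharacter G χ) :
    (charDegree χ ^ 2 - 1) * (Finset.univ.filter (fun g : G => ‖χ g‖ = (charDegree χ : ℝ))).card ≤
      (Finset.univ.filter (fun g : G => χ g = 0)).card ∧
    ((∀ g : G, ‖χ g‖ = 0 ∨ ‖χ g‖ = 1 ∨ ‖χ g‖ = (charDegree χ : ℝ)) →
      (charDegree χ ^ 2 - 1) *
        (Finset.univ.filter (fun g : G => ‖χ g‖ = (charDegree χ : ℝ))).card =
      (Finset.univ.filter (fun g : G => χ g = 0)).card) := by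
  classical
  have hdeg : χ 1 = charDegree χ := (CharGlaub2.charDegree_cast (isChar_of_irr hχ)).symm
  obtain ⟨d, hd⟩ : ∃ d, d = charDegree χ := ⟨_, rfl⟩
  rw [← hd] at hdeg ⊢
  have hd0 : d ≠ 0 := by
    rintro rfl
    exact isIrr_one_ne_zero hχ (by rw [hdeg]; simp)
  have hdr : (1 : ℝ) ≤ d := by exact_mod_cast Nat.one_le_iff_ne_zero.mpr hd0
  -- three parts
  obtain ⟨A, hA⟩ : ∃ A, A = Finset.univ.filter (fun g : G => χ g = 0) := ⟨_, rfl⟩
  obtain ⟨Z, hZ⟩ : ∃ Z, Z = Finset.univ.filter (fun g : G => ‖χ g‖ = (d : ℝ)) := ⟨_, rfl⟩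
  obtain ⟨R, hR⟩ : ∃ R, R = Finset.univ.filter (fun g : G => χ g ≠ 0 ∧ ‖χ g‖ ≠ (d : ℝ)) :=
    ⟨_, rfl⟩
  rw [← hA, ← hZ]
  have hsum : (∑ g : G, ‖χ g‖ ^ 2 : ℝ) = Nat.card G := by
    have h1 := irr_inner_self hχ
    rw [classInner_self_eq] at h1
    have h2 : (Nat.card G : ℝ)⁻¹ * ∑ g : G, ‖χ g‖ ^ 2 = 1 := by exact_mod_cast h1
    have h3 : (Nat.card G : ℝ) ≠ 0 := by exact_mod_cast Nat.card_pos.ne'
    field_simp at h2
    linarith
  have hpart : ∀ F : G → ℝ, ∑ g : G, F g = ∑ g ∈ A, F g + ∑ g ∈ Z, F g + ∑ g ∈ R, F g := by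
    intro F
    rw [hA, hZ, hR, Finset.sum_filter, Finset.sum_filter, Finset.sum_filter,
      ← Finset.sum_add_distrib, ← Finset.sum_add_distrib]
    refine Finset.sum_congr rfl fun g _ => ?_
    by_cases h1 : χ g = 0
    · have h2 : ‖χ g‖ ≠ (d : ℝ) := by
        rw [h1, norm_zero]
        intro h
        have : (d : ℝ) = 0 := h.symm
        linarith
      rw [if_pos h1, if_neg h2, if_neg (fun h => h.1 h1)]; ring
    · by_cases h2 : ‖χ g‖ = (d : ℝ)
      · rw [if_neg h1, if_pos h2, if_neg (fun h => h.2 h2)]; ring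
      · rw [if_neg h1, if_neg h2, if_pos ⟨h1, h2⟩]; ring
  have hcard := hpart (fun _ => 1)
  simp only [Finset.sum_const, nsmul_eq_mul, mul_one, Finset.card_univ] at hcard
  rw [hpart] at hsum
  have hA0 : ∑ g ∈ A, ‖χ g‖ ^ 2 = 0 := by
    apply Finset.sum_eq_zero
    intro g hg
    rw [hA, Finset.mem_filter] at hg
    rw [hg.2]; simp
  have hZs : ∑ g ∈ Z, ‖χ g‖ ^ 2 = Z.card * (d : ℝ) ^ 2 := by
    rw [Finset.sum_congr rfl (g := fun _ => (d : ℝ) ^ 2), Finset.sum_const, nsmul_eq_mul]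
    intro g hg
    rw [hZ, Finset.mem_filter] at hg
    rw [hg.2]
  rw [hA0, hZs, zero_add, Nat.card_eq_fintype_card, hcard] at hsum
  have hd2 : ((d ^ 2 - 1 : ℕ) : ℝ) = (d : ℝ) ^ 2 - 1 := by
    rw [Nat.cast_sub (Nat.one_le_pow _ _ (Nat.pos_of_ne_zero hd0))]
    push_cast; ring
  constructor
  · have hge : (R.card : ℝ) ≤ ∑ g ∈ R, ‖χ g‖ ^ 2 := by
      apply sum_norm_ge (isChar_of_irr hχ)
      · intro k hk g hg
        rw [hR, Finset.mem_filter] at hg ⊢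
        refine ⟨Finset.mem_univ _, ne_zero_pow (isChar_of_irr hχ) hk hg.2.1, fun h => hg.2.2 ?_⟩
        -- `g` is a power of `g ^ k`
        obtain ⟨m, hm⟩ := exists_pow_eq_self_of_coprime
          (hk.coprime_dvd_right (orderOf_dvd_natCard g))
        have hm' : g = (g ^ k) ^ m := hm.symm
        obtain ⟨n, ρ, hρ, hρχ⟩ := id hχ
        have hfin : χ 1 = (Module.finrank ℂ (Fin n → ℂ) : ℂ) := by rw [← hρχ]; exact ρ.char_one
        have hd' : (d : ℝ) = (Module.finrank ℂ (Fin n → ℂ) : ℝ) := by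
          rw [hdeg] at hfin
          exact_mod_cast hfin
        rw [← hρχ] at h ⊢
        rw [hd'] at h ⊢
        rw [CharRep.norm_char_eq_degree_iff] at h ⊢
        obtain ⟨ω, hω⟩ := h
        refine ⟨ω ^ m, ?_⟩
        rw [hm', map_pow, hω]
        have h2 : (LinearMap.id : (Fin n → ℂ) →ₗ[ℂ] (Fin n → ℂ)) = 1 := rfl
        rw [h2, smul_pow, one_pow]
      · intro g hg
        rw [hR, Finset.mem_filter] at hg
        exact hg.2.1
    have : ((d ^ 2 - 1 : ℕ) : ℝ) * (Z.card : ℝ) ≤ (A.card : ℝ) := by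
      rw [hd2]; nlinarith
    exact_mod_cast this
  · intro hall
    have heq : ∑ g ∈ R, ‖χ g‖ ^ 2 = R.card := by
      rw [Finset.sum_congr rfl (g := fun _ => (1 : ℝ)), Finset.sum_const, nsmul_eq_mul, mul_one]
      intro g hg
      rw [hR, Finset.mem_filter] at hg
      rcases hall g with h | h | h
      · exact absurd (norm_eq_zero.mp h) hg.2.1
      · rw [h]; norm_num
      · exact absurd h hg.2.2
    have : ((d ^ 2 - 1 : ℕ) : ℝ) * (Z.card : ℝ) = (A.card : ℝ) := by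
      rw [hd2]; nlinarith
    exact_mod_cast this

end Zeros

end

end Cfsg.Agent.Lib.CharEasy
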