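import Cfsg.Agent.Lib.CharSection
import Cfsg.Agent.Lib.CharEasy

/-! Averages of characters over cosets of a normal subgroup. -/

set_option autoImplicit false
set_option linter.unusedVariables false
set_option linter.unusedSectionVars false

namespace Cfsg.Agent.Lib.CharAvgN

open Cfsg Cfsg.Agent.Lib.CharBasic Cfsg.Agent.Lib.CharEasy
open scoped ComplexConjugate

noncomputable section

/-- The average of `φ` over cosets of `N`. -/
def avgN {G : Type*} [Group G] (N : Subgroup G) [Fintype N] (φ : G → ℂ) : G → ℂ :=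
  fun x => (Nat.card N : ℂ)⁻¹ * ∑ n : N, φ (n * x)

theorem avgN_isChar {G : Type*} [Group G] [Fintype G] (N : Subgroup G) [N.Normal] [Fintype N]
    {φ : G → ℂ} (hφ : IsCharacter G φ) : IsCharacter G (avgN N φ) := by
  classical
  obtain ⟨m, hm⟩ := exists_mult hφ
  have h1 : avgN N φ = ∑ ψ : IrrCharacter G,
      ((if ∀ n ∈ N, ψ.1 n = ψ.1 1 then m ψ else 0 : ℕ) : ℂ) • ψ.1 := by
    funext x
    rw [avgN, hm]
    simp only [Finset.sum_apply, Pi.smul_apply, smul_eq_mul]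
    rw [Finset.sum_comm, Finset.mul_sum]
    refine Finset.sum_congr rfl fun ψ _ => ?_
    rw [← Finset.mul_sum]
    split_ifs with h
    · rw [Lib.CharSection.sum_coset_ker (isChar_of_irr ψ.2) h]
      have h0 : (Nat.card N : ℂ) ≠ 0 := card_ne_zero'
      field_simp
    · rw [Lib.CharSection.sum_coset_zero ψ.2 h]
      simp
  rw [h1]
  exact isChar_of_mult _

/-- AM-GM with exponent one. -/
theorem sum_norm_ge_one {G : Type*} [Group G] [Finite G] {χ : G → ℂ} (hχ : IsCharacter G χ)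
    (S : Finset G)
    (hS : ∀ k : ℕ, Nat.Coprime k (Nat.card G) → ∀ g ∈ S, g ^ k ∈ S)
    (h0 : ∀ g ∈ S, χ g ≠ 0) : (S.card : ℝ) ≤ ∑ g ∈ S, ‖χ g‖ := by
  classical
  haveI : NeZero (Nat.card G) := ⟨Nat.card_pos.ne'⟩
  have h1 : ∀ g ∈ S, (Fintype.card (ZMod (Nat.card G))ˣ : ℝ) ≤
      ∑ u : (ZMod (Nat.card G))ˣ, ‖χ (g ^ (u : ZMod (Nat.card G)).val)‖ := by
    intro g hg
    have hp := prod_ge_one hχ (h0 g hg)
    rw [Finset.prod_pow] at hp
    have hp' : 1 ≤ ∏ u : (ZMod (Nat.card G))ˣ, ‖χ (g ^ (u : ZMod (Nat.card G)).val)‖ := by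
      have h2 : 0 ≤ ∏ u : (ZMod (Nat.card G))ˣ, ‖χ (g ^ (u : ZMod (Nat.card G)).val)‖ :=
        Finset.prod_nonneg fun _ _ => norm_nonneg _
      nlinarith
    have := Lib.CharAvg.sum_ge_card Finset.univ
      (fun u : (ZMod (Nat.card G))ˣ => ‖χ (g ^ (u : ZMod (Nat.card G)).val)‖)
      (fun u _ => norm_pos_iff.mpr (ne_zero_pow hχ (coprime_valU u) (h0 g hg))) hp'
    simpa using this.1
  have h2 : ∀ u : (ZMod (Nat.card G))ˣ,
      ∑ g ∈ S, ‖χ (g ^ (u : ZMod (Nat.card G)).val)‖ = ∑ g ∈ S, ‖χ g‖ := by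
    intro u
    have hinj := (pow_bij (G := G) (coprime_valU u)).1
    have himg : S.image (fun g => g ^ (u : ZMod (Nat.card G)).val) = S := by
      apply Finset.eq_of_subset_of_card_le
      · intro x hx
        obtain ⟨g, hg, rfl⟩ := Finset.mem_image.mp hx
        exact hS _ (coprime_valU u) g hg
      · rw [Finset.card_image_of_injective _ hinj]
    conv_rhs => rw [← himg]
    rw [Finset.sum_image (fun a _ b _ h => hinj h)]
  have h3 : (Fintype.card (ZMod (Nat.card G))ˣ : ℝ) * S.card ≤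
      (Fintype.card (ZMod (Nat.card G))ˣ : ℝ) * ∑ g ∈ S, ‖χ g‖ := by
    calc (Fintype.card (ZMod (Nat.card G))ˣ : ℝ) * S.card =
        ∑ g ∈ S, (Fintype.card (ZMod (Nat.card G))ˣ : ℝ) := by
          rw [Finset.sum_const, nsmul_eq_mul, mul_comm]
      _ ≤ ∑ g ∈ S, ∑ u : (ZMod (Nat.card G))ˣ, ‖χ (g ^ (u : ZMod (Nat.card G)).val)‖ :=
          Finset.sum_le_sum h1
      _ = ∑ u : (ZMod (Nat.card G))ˣ, ∑ g ∈ S, ‖χ (g ^ (u : ZMod (Nat.card G)).val)‖ :=
          Finset.sum_comm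
      _ = _ := by
          rw [Finset.sum_congr rfl fun u _ => h2 u, Finset.sum_const, nsmul_eq_mul,
            Finset.card_univ]
  exact le_of_mul_le_mul_left h3 (by exact_mod_cast Fintype.card_pos)

/-- `χ_N` reducible iff `χ` vanishes on a coset of `N`. -/
theorem red_iff {G : Type*} [Group G] [Finite G] (N : Subgroup G) [N.Normal]
    (χ : IrrCharacter G) : ¬ IsIrrCharacter ↥N (fun n : ↥N => (χ : G → ℂ) n) ↔
      ∃ x : G, ∀ n : ↥N, (χ : G → ℂ) ((n : G) * x) = 0 := by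
  classical
  cases nonempty_fintype G
  cases nonempty_fintype N
  have hχc := isChar_of_irr χ.2
  have hconj : IsCharacter G (fun g => conj (χ.1 g)) :=
    isChar_of_irr (Lib.CharTable.isIrr_conj χ.2)
  obtain ⟨A, hA⟩ : ∃ A : G → ℂ, A = avgN N (χ.1 * fun g => conj (χ.1 g)) := ⟨_, rfl⟩
  have hAc : IsCharacter G A := hA ▸ avgN_isChar N (isChar_mul hχc hconj)
  have hNc : (Nat.card N : ℝ) ≠ 0 := by exact_mod_cast Nat.card_pos.ne'
  have hAval : ∀ x, A x = (((Nat.card N : ℝ)⁻¹ * ∑ n : N, ‖χ.1 (n * x)‖ ^ 2 : ℝ) : ℂ) := by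
    intro x
    rw [hA, avgN]
    push_cast
    congr 1
    refine Finset.sum_congr rfl fun n _ => ?_
    rw [Pi.mul_apply, Complex.mul_conj']
  have hA0 : ∀ x, A x = 0 ↔ ∀ n : N, χ.1 (n * x) = 0 := by
    intro x
    rw [hAval, Complex.ofReal_eq_zero, mul_eq_zero, or_iff_right (inv_ne_zero hNc),
      Finset.sum_eq_zero_iff_of_nonneg (fun _ _ => by positivity)]
    simp
  have hA1 : A 1 = classInner (fun n : N => χ.1 n) (fun n : N => χ.1 n) := by
    rw [hAval, classInner_self_eq]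
    simp
  have hirr : IsIrrCharacter N (fun n : N => χ.1 n) ↔ A 1 = 1 := by
    rw [isIrr_iff_inner_self (Lib.CharInd.isChar_res N hχc), hA1]
  have hnorm : ∀ x, ‖A x‖ = (Nat.card N : ℝ)⁻¹ * ∑ n : N, ‖χ.1 (n * x)‖ ^ 2 := by
    intro x
    rw [hAval, Complex.norm_real, Real.norm_of_nonneg (by positivity)]
  have hsum : ∑ x : G, ‖A x‖ = Nat.card G := by
    rw [Finset.sum_congr rfl fun x _ => hnorm x, ← Finset.mul_sum, Finset.sum_comm]
    have h1 : ∀ n : N, ∑ x : G, ‖χ.1 (n * x)‖ ^ 2 = Nat.card G := by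
      intro n
      have h2 : ∑ x : G, ‖χ.1 (n * x)‖ ^ 2 = ∑ x : G, ‖χ.1 x‖ ^ 2 :=
        Fintype.sum_equiv (Equiv.mulLeft (n : G)) _ _ fun x => rfl
      rw [h2]
      have h3 := irr_inner_self χ.2
      rw [classInner_self_eq] at h3
      have h4 : (Nat.card G : ℝ)⁻¹ * ∑ g : G, ‖χ.1 g‖ ^ 2 = 1 := by exact_mod_cast h3
      have h5 : (Nat.card G : ℝ) ≠ 0 := by exact_mod_cast Nat.card_pos.ne'
      field_simp at h4
      linarith
    rw [Finset.sum_congr rfl fun n _ => h1 n, Finset.sum_const, nsmul_eq_mul, Finset.card_univ,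
      ← Nat.card_eq_fintype_card, ← mul_assoc, inv_mul_cancel₀ hNc, one_mul]
  rw [hirr]
  constructor
  · intro h
    by_contra hcon
    push Not at hcon
    have hne : ∀ x, A x ≠ 0 := by
      intro x hx
      obtain ⟨n, hn⟩ := hcon x
      exact hn ((hA0 x).mp hx n)
    have h1 := sum_norm_ge_one hAc (Finset.univ.erase 1) (by
      intro k hk g hg
      rw [Finset.mem_erase] at hg ⊢
      refine ⟨fun h => hg.1 ?_, Finset.mem_univ _⟩
      exact (pow_bij (G := G) hk).1 (by simpa using h)) (fun g _ => hne g)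
    have h2 : ‖A 1‖ + ∑ x ∈ Finset.univ.erase (1 : G), ‖A x‖ = Nat.card G := by
      rw [Finset.add_sum_erase _ (fun x => ‖A x‖) (Finset.mem_univ (1 : G)), hsum]
    rw [Finset.card_erase_of_mem (Finset.mem_univ _), Finset.card_univ,
      ← Nat.card_eq_fintype_card, Nat.cast_sub Nat.card_pos] at h1
    obtain ⟨d, hd⟩ := isChar_one_eq hAc
    rw [hd] at h h2
    rw [Complex.norm_natCast] at h2
    have h3 : (d : ℝ) ≤ 1 := by push_cast at h1; linarith
    have h4 : d ≤ 1 := by exact_mod_cast h3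
    have h5 : d ≠ 0 := by
      rintro rfl
      exact hne 1 (by rw [hd]; simp)
    apply h
    have : d = 1 := by omega
    rw [this]; simp
  · rintro ⟨x, hx⟩ h
    have h1 := (hA0 x).mpr hx
    obtain ⟨l, hl⟩ := exists_lin_of_one hAc h
    rw [hl] at h1
    exact (l x).ne_zero h1

end

end Cfsg.Agent.Lib.CharAvgN
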