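import Cfsg.Agent.Lib.CharRatio
import Cfsg.Agent.Lib.CharTable
import Cfsg.Agent.Lib.PRes

set_option autoImplicit false

/-!
# Thompson's theorem on character degrees and `O^p(G)`
-/

namespace Cfsg.Agent.Lib.CharThompson

open Cfsg Cfsg.Agent.Lib.CharBasic Cfsg.Agent.Lib.CharNormal Cfsg.Agent.Lib.CharClifford
open Cfsg.Agent.Lib.CharExt Cfsg.Agent.Lib.CharLin Cfsg.Agent.Lib.CharRatio
open Cfsg.Agent.Lib.CharTable
open scoped ComplexConjugate

noncomputable section

/-- Weighted fixed point congruence. -/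
theorem sum_modEq {p : ℕ} [Fact p.Prime] {P : Type*} [Group P] (hP : IsPGroup p P) {α : Type*}
    [Fintype α] [MulAction P α] (f : α → ℕ) (hf : ∀ (g : P) (a : α), f (g • a) = f a)
    [DecidablePred (fun a : α => ∀ g : P, g • a = a)] :
    ∑ a, f a ≡ ∑ a with ∀ g : P, g • a = a, f a [MOD p] := by
  classical
  have h1 : ∀ v : ℕ, (Finset.univ.filter (fun a : α => f a = v)).card ≡
      (Finset.univ.filter (fun a : α => f a = v ∧ ∀ g : P, g • a = a)).card [MOD p] := by
    intro v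
    let S : SubMulAction P α :=
      { carrier := {a | f a = v}
        smul_mem' := fun g a ha => by
          change f (g • a) = v
          rw [hf]; exact ha }
    have h2 := hP.card_modEq_card_fixedPoints S
    have h3 : Nat.card S = (Finset.univ.filter (fun a : α => f a = v)).card := by
      rw [← Fintype.card_subtype, ← Nat.card_eq_fintype_card]
      rfl
    have h4 : Nat.card (MulAction.fixedPoints P S) =
        (Finset.univ.filter (fun a : α => f a = v ∧ ∀ g : P, g • a = a)).card := by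
      rw [← Fintype.card_subtype, ← Nat.card_eq_fintype_card]
      refine Nat.card_congr ⟨fun x => ⟨x.1.1, x.1.2, fun g => congrArg Subtype.val (x.2 g)⟩,
        fun y => ⟨⟨y.1, y.2.1⟩, fun g => Subtype.ext (y.2.2 g)⟩, fun _ => rfl, fun _ => rfl⟩
    rw [h3, h4] at h2
    exact h2
  have h2 : ∑ a, f a = ∑ v ∈ Finset.univ.image f, v * (Finset.univ.filter
      (fun a : α => f a = v)).card := by
    rw [← Finset.sum_fiberwise_of_maps_to (s := Finset.univ) (t := Finset.univ.image f) (g := f)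
      (fun a _ => Finset.mem_image_of_mem f (Finset.mem_univ a))]
    refine Finset.sum_congr rfl fun v _ => ?_
    rw [Finset.sum_congr rfl (fun a ha => (Finset.mem_filter.mp ha).2), Finset.sum_const,
      smul_eq_mul, mul_comm]
  have h3 : ∑ a with ∀ g : P, g • a = a, f a = ∑ v ∈ Finset.univ.image f, v * (Finset.univ.filter
      (fun a : α => f a = v ∧ ∀ g : P, g • a = a)).card := by
    rw [← Finset.sum_fiberwise_of_maps_to (t := Finset.univ.image f) (g := f)
      (fun a _ => Finset.mem_image_of_mem f (Finset.mem_univ a))]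
    refine Finset.sum_congr rfl fun v _ => ?_
    rw [Finset.filter_filter]
    have h4 : (Finset.univ.filter (fun a : α => (∀ g : P, g • a = a) ∧ f a = v)) =
        Finset.univ.filter (fun a : α => f a = v ∧ ∀ g : P, g • a = a) := by
      ext a; simp [and_comm]
    rw [h4, Finset.sum_congr rfl (fun a ha => (Finset.mem_filter.mp ha).2.1), Finset.sum_const,
      smul_eq_mul, mul_comm]
  rw [h2, h3]
  exact Nat.ModEq.sum fun v _ => (h1 v).mul_left v

variable {G : Type*} [Group G]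

/-- The conjugation action on irreducible characters of a normal subgroup. -/
def act (K : Subgroup G) [K.Normal] : MulAction G (IrrCharacter K) where
  smul g θ := ⟨cj g⁻¹ θ.1, cj_isIrr _ θ.2⟩
  one_smul θ := by
    apply Subtype.ext
    change cj 1⁻¹ θ.1 = θ.1
    rw [inv_one, cj_one]
  mul_smul g h θ := by
    apply Subtype.ext
    change cj (g * h)⁻¹ θ.1 = cj g⁻¹ (cj h⁻¹ θ.1)
    rw [mul_inv_rev, cj_mul]

theorem act_apply (K : Subgroup G) [K.Normal] (g : G) (θ : IrrCharacter K) :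
    ((act K).toSMul.smul g θ).1 = cj g⁻¹ θ.1 := rfl

variable [Finite G] {p : ℕ} [hp : Fact p.Prime] {K : Subgroup G} [hK : K.Normal]

/-- Linear characters of a group generated by `p'`-elements have `p'`-order. -/
theorem not_dvd_orderOf {L : Type*} [Group L] [Finite L] (hL : pResidual p L = ⊤)
    (l : L →* ℂˣ) : ¬ p ∣ orderOf l := by
  intro hdvd
  obtain ⟨k, hk⟩ := hdvd
  have h0 : 0 < orderOf l := orderOf_pos l
  have h1 : l ^ k = 1 := by
    have h2 : ∀ g : L, (l ^ k) g = 1 := by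
      have h3 : pResidual p L ≤ (l ^ k).ker := by
        rw [pResidual, Subgroup.closure_le]
        intro g hg
        have h4 : (l g) ^ (k * p) = 1 := by
          rw [mul_comm, ← hk]
          exact DFunLike.congr_fun (pow_orderOf_eq_one l) g
        change (l ^ k) g = 1
        rw [MonoidHom.pow_apply]
        have h5 : orderOf (l g ^ k) ∣ p := orderOf_dvd_of_pow_eq_one (by rw [← pow_mul, h4])
        have h6 : orderOf (l g ^ k) ∣ orderOf g := by
          rw [← map_pow]
          exact (orderOf_map_dvd l _).trans (orderOf_pow_dvd k)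
        exact orderOf_eq_one_iff.mp (Nat.eq_one_of_dvd_coprimes hg h6 h5)
      intro g
      exact h3 (hL ▸ Subgroup.mem_top g)
    exact MonoidHom.ext h2
  have h2 : orderOf l ∣ k := orderOf_dvd_of_pow_eq_one h1
  have h3 : 0 < k := Nat.pos_of_ne_zero (by rintro rfl; rw [mul_zero] at hk; omega)
  have h4 := Nat.le_of_dvd h3 h2
  have := hp.out.one_lt
  nlinarith

theorem not_dvd_detOrder {L : Type*} [Group L] [Finite L] (hL : pResidual p L = ⊤)
    {θ : L → ℂ} (hθ : IsCharacter L θ) : ¬ p ∣ detOrder θ := by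
  obtain ⟨l, hl⟩ := detChar_lin hθ
  rw [detOrder, hl, orderOf_linFn]
  exact not_dvd_orderOf hL l

/-- The extension of an invariant `p'`-degree character. -/
theorem exists_ext (hidx : ∃ n, K.index = p ^ n) (hKp : pResidual p K = ⊤) {θ : K → ℂ}
    (hθ : IsIrrCharacter K θ) (hinv : ∀ g : G, cj g θ = θ) {d : ℕ} (hd : θ 1 = d)
    (hpd : ¬ p ∣ d) : ∃ χ : G → ℂ, (IsIrrCharacter G χ ∧ (∀ n : K, χ n = θ n) ∧
      detOrder χ = detOrder θ) ∧ ∀ χ' : G → ℂ, IsIrrCharacter G χ' → (∀ n : K, χ' n = θ n) →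
        ¬ p ∣ detOrder χ' → χ' = χ := by
  obtain ⟨n, hn⟩ := hidx
  have h1 : Nat.Coprime K.index (detOrder θ * d) := by
    rw [hn]
    apply Nat.Coprime.pow_left
    rw [Nat.Prime.coprime_iff_not_dvd hp.out, hp.out.dvd_mul]
    rintro (h | h)
    · exact not_dvd_detOrder hKp (isChar_of_irr hθ) h
    · exact hpd h
  obtain ⟨χ, h2, h3⟩ := ext_of_coprime_det hθ hinv hd h1
  refine ⟨χ, h2, fun χ' h4 h5 h6 => h3 χ' h4 h5 ?_⟩
  rw [hn]
  apply Nat.Coprime.pow_left
  rw [Nat.Prime.coprime_iff_not_dvd hp.out]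
  exact h6

/-- Restriction of `p'`-degree characters is irreducible. -/
theorem res_irr (hidx : ∃ n, K.index = p ^ n) {χ : G → ℂ} (hχ : IsIrrCharacter G χ) {d : ℕ}
    (hd : χ 1 = d) (hpd : ¬ p ∣ d) : IsIrrCharacter K (fun n : K => χ n) := by
  classical
  cases nonempty_fintype G
  have : Fintype K := Fintype.ofFinite _
  obtain ⟨n, hn⟩ := hidx
  have hres := CharInd.isChar_res K (isChar_of_irr hχ)
  have hne : (fun n : K => χ n) ≠ 0 := by
    intro h
    have := congrFun h 1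
    exact isIrr_one_ne_zero hχ this
  obtain ⟨θ, hθ⟩ := char_ne_zero_exists_constituent hres hne
  obtain ⟨b, hb, hbd⟩ := ratio θ.2 hχ hθ
  obtain ⟨e, he0, he⟩ := isIrr_one_eq θ.2
  rw [hd, he] at hb
  have hb' : d = b * e := by exact_mod_cast hb
  have hb1 : b = 1 := by
    rw [hn] at hbd
    obtain ⟨j, -, hj⟩ := (Nat.dvd_prime_pow hp.out).mp hbd
    rcases Nat.eq_zero_or_pos j with hj0 | hj0
    · rw [hj, hj0, pow_zero]
    · exfalso
      apply hpd
      rw [hb', hj]
      exact (dvd_pow_self p hj0.ne').mul_right e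
  have h1 := CharNormal.isChar_sub_constituent hres θ.2 hθ
  have h2 : (fun n : K => χ n) - θ.1 = 0 := by
    by_contra hz
    obtain ⟨φ, hφ⟩ := char_ne_zero_exists_constituent h1 hz
    have h3 := CharInd.degree_le_of_constituent h1 φ.2 hφ
    obtain ⟨m, hm0, hm⟩ := isIrr_one_eq φ.2
    have h4 : ((fun n : K => χ n) - θ.1) 1 = 0 := by
      rw [Pi.sub_apply, he]
      change χ 1 - (e : ℂ) = 0
      rw [hd, hb', hb1, one_mul, sub_self]
    rw [h4, hm] at h3
    simp only [Complex.natCast_re, Complex.zero_re] at h3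
    have : (0 : ℝ) < m := by exact_mod_cast hm0
    linarith
  rw [sub_eq_zero.mp h2]
  exact θ.2

/-- `|K|` modulo `p`. -/
theorem card_modEq (hidx : ∃ n, K.index = p ^ n) (d : IrrCharacter K → ℕ)
    (hd : ∀ θ : IrrCharacter K, θ.1 1 = d θ) (S : Finset (IrrCharacter K))
    (hS : ∀ θ, θ ∈ S ↔ (∀ g : G, cj g θ.1 = θ.1) ∧ ¬ p ∣ d θ) :
    Nat.card K ≡ ∑ θ ∈ S, d θ ^ 2 [MOD p] := by
  classical
  have hSf : S = Finset.univ.filter (fun θ : IrrCharacter K => (∀ g : G, cj g θ.1 = θ.1) ∧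
      ¬ p ∣ d θ) := by
    ext θ; simp [hS]
  rw [hSf]
  have : Fintype K := Fintype.ofFinite _
  obtain ⟨P⟩ : Nonempty (Sylow p G) := inferInstance
  letI := act K
  have hPG : ∀ x : G, ∃ k ∈ K, ∃ y ∈ (P : Subgroup G), x = k * y := by
    have h1 : (P : Subgroup G) ⊔ K = ⊤ := by
      apply Subgroup.index_eq_one.mp
      obtain ⟨n, hn⟩ := hidx
      have h2 : ((P : Subgroup G) ⊔ K).index ∣ p ^ n := by
        rw [← hn]; exact Subgroup.index_dvd_of_le le_sup_right
      have h3 : ((P : Subgroup G) ⊔ K).index ∣ (P : Subgroup G).index :=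
        Subgroup.index_dvd_of_le le_sup_left
      obtain ⟨j, -, hj⟩ := (Nat.dvd_prime_pow hp.out).mp h2
      rcases Nat.eq_zero_or_pos j with hj0 | hj0
      · rw [hj, hj0, pow_zero]
      · exfalso
        apply P.not_dvd_index
        exact (dvd_pow_self p hj0.ne').trans (hj ▸ h3)
    intro x
    have hx : x ∈ K ⊔ (P : Subgroup G) := by rw [sup_comm, h1]; exact Subgroup.mem_top x
    rw [Subgroup.mem_sup_of_normal_left] at hx
    obtain ⟨k, hk, y, hy, rfl⟩ := hx
    exact ⟨k, hk, y, hy, rfl⟩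
  have h1 := sum_modEq (P := (P : Subgroup G)) P.isPGroup' (fun θ : IrrCharacter K => d θ ^ 2)
    (by
      intro g θ
      have h2 : (g • θ).1 = cj (g : G)⁻¹ θ.1 := rfl
      have h3 : ((d (g • θ) : ℕ) : ℂ) = d θ := by
        rw [← hd, ← hd, h2, cj_apply]
        exact congrArg θ.1 (Subtype.ext (by simp))
      have h4 : d (g • θ) = d θ := by exact_mod_cast h3
      simp only [h4])
  rw [sum_sq_degrees d hd] at h1
  refine h1.trans ?_
  have hfix : ∀ θ : IrrCharacter K, (∀ g : (P : Subgroup G), g • θ = θ) ↔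
      ∀ g : G, cj g θ.1 = θ.1 := by
    intro θ
    constructor
    · intro h g
      obtain ⟨k, hk, y, hy, rfl⟩ := hPG g
      rw [cj_mul, cj_of_mem (isChar_classFn (isChar_of_irr θ.2)) hk]
      have h2 := congrArg Subtype.val (h ⟨y, hy⟩⁻¹)
      change cj ((⟨y, hy⟩⁻¹ : (P : Subgroup G)) : G)⁻¹ θ.1 = θ.1 at h2
      rw [Subgroup.coe_inv, inv_inv] at h2
      exact h2
    · intro h g
      apply Subtype.ext
      exact h _
  simp only [hfix]
  have h2 : ∑ θ : IrrCharacter K with ∀ g : G, cj g θ.1 = θ.1, d θ ^ 2 =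
      ∑ θ : IrrCharacter K with (∀ g : G, cj g θ.1 = θ.1) ∧ ¬ p ∣ d θ, d θ ^ 2 +
      ∑ θ : IrrCharacter K with (∀ g : G, cj g θ.1 = θ.1) ∧ p ∣ d θ, d θ ^ 2 := by
    rw [← Finset.sum_filter_add_sum_filter_not (Finset.univ.filter
      (fun θ : IrrCharacter K => ∀ g : G, cj g θ.1 = θ.1)) (fun θ => ¬ p ∣ d θ)]
    rw [Finset.filter_filter, Finset.filter_filter]
    simp only [not_not]
  rw [h2]
  have h3 : ∑ θ : IrrCharacter K with (∀ g : G, cj g θ.1 = θ.1) ∧ p ∣ d θ, d θ ^ 2 ≡ 0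
      [MOD p] := by
    apply (Nat.modEq_zero_iff_dvd).mpr
    apply Finset.dvd_sum
    intro θ hθ
    exact (Finset.mem_filter.mp hθ).2.2.trans (dvd_pow_self _ two_ne_zero)
  have h4 := Nat.ModEq.add_left (∑ θ : IrrCharacter K with (∀ g : G, cj g θ.1 = θ.1) ∧
    ¬ p ∣ d θ, d θ ^ 2) h3
  rwa [add_zero] at h4

/-- Thompson's theorem. -/
theorem thompson (hdeg : ∀ χ : IrrCharacter G, ∀ d : ℕ, χ.1 1 = d → d ≠ 1 → p ∣ d) :
    (Nat.card (pResidual p G)).Coprime p := by
  classical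
  cases nonempty_fintype G
  have hKn : (pResidual p G).Normal := PRes.normal p G
  obtain ⟨n, hn⟩ := PRes.index_pow (G := G) (p := p)
  have hKp := PRes.pResidual_pResidual p G
  set K := pResidual p G with hKdef
  have : Fintype K := Fintype.ofFinite _
  obtain ⟨d, hd⟩ : ∃ d : IrrCharacter K → ℕ, ∀ φ : IrrCharacter K, φ.1 1 = d φ :=
    ⟨fun φ => (isChar_one_eq (isChar_of_irr φ.2)).choose,
      fun φ => (isChar_one_eq (isChar_of_irr φ.2)).choose_spec⟩
  have h1 := card_modEq (G := G) ⟨n, hn⟩ d hd (Finset.univ.filter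
    (fun θ : IrrCharacter K => (∀ g : G, cj g θ.1 = θ.1) ∧ ¬ p ∣ d θ)) (by simp)
  -- every invariant `p'`-degree character is linear
  have hlin : ∀ θ : IrrCharacter K, (∀ g : G, cj g θ.1 = θ.1) ∧ ¬ p ∣ d θ → d θ = 1 := by
    rintro θ ⟨hinv, hpd⟩
    obtain ⟨χ, ⟨h2, h3, -⟩, -⟩ := exists_ext ⟨n, hn⟩ hKp θ.2 hinv (hd θ) hpd
    by_contra hne
    apply hpd
    apply hdeg ⟨χ, h2⟩ (d θ) _ hne
    rw [← hd θ, ← h3]; rfl
  -- the invariant linear characters
  let Λ : Subgroup (K →* ℂˣ) :=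
    { carrier := {l | ∀ g : G, cj g (linFn l) = linFn l}
      mul_mem' := by
        intro a b ha hb g
        change cj g (linFn (a * b)) = linFn (a * b)
        rw [linFn_mul, cj_mul_fn, ha g, hb g]
      one_mem' := by
        intro g
        change cj g (linFn 1) = linFn 1
        rw [linFn_one]; rfl
      inv_mem' := by
        intro a ha g
        change cj g (linFn a⁻¹) = linFn a⁻¹
        funext x
        rw [cj_apply, linFn_apply, linFn_apply, MonoidHom.inv_apply, MonoidHom.inv_apply]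
        have h2 := congrFun (ha g) x
        rw [cj_apply, linFn_apply, linFn_apply] at h2
        rw [Units.ext h2] }
  have hΛ : ¬ p ∣ Nat.card Λ := by
    intro h
    obtain ⟨x, hx⟩ := exists_prime_orderOf_dvd_card' p h
    have h2 : orderOf (x : K →* ℂˣ) = p := by rw [Subgroup.orderOf_coe]; exact hx
    exact not_dvd_orderOf hKp (x : K →* ℂˣ) (h2 ▸ dvd_rfl)
  have hsum : ∑ θ : IrrCharacter K with (∀ g : G, cj g θ.1 = θ.1) ∧ ¬ p ∣ d θ, d θ ^ 2 =
      Nat.card Λ := by
    rw [Finset.sum_congr rfl (fun θ hθ => by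
      rw [hlin θ (Finset.mem_filter.mp hθ).2, one_pow]), ← Finset.card_eq_sum_ones,
      ← Fintype.card_subtype, ← Nat.card_eq_fintype_card]
    symm
    refine Nat.card_congr (Equiv.ofBijective (fun l : Λ => (⟨⟨linFn l.1, linFn_isIrr l.1⟩,
      l.2, by
        have h2 : d ⟨linFn l.1, linFn_isIrr l.1⟩ = 1 := by
          have h3 := hd ⟨linFn l.1, linFn_isIrr l.1⟩
          simp only [linFn_apply_one] at h3
          exact_mod_cast h3.symm
        rw [h2]
        exact fun h => hp.out.one_lt.ne' (Nat.dvd_one.mp h)⟩ :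
      {θ : IrrCharacter K // (∀ g : G, cj g θ.1 = θ.1) ∧ ¬ p ∣ d θ})) ⟨?_, ?_⟩)
    · intro a b hab
      have h2 : linFn a.1 = linFn b.1 :=
        congrArg (fun z : {θ : IrrCharacter K // (∀ g : G, cj g θ.1 = θ.1) ∧ ¬ p ∣ d θ} =>
          z.1.1) hab
      exact Subtype.ext (linFn_injective h2)
    · rintro ⟨θ, hθ⟩
      have h2 := hlin θ hθ
      obtain ⟨l, hl⟩ := lin_iff.mp ⟨isChar_of_irr θ.2, by rw [hd, h2]; simp⟩
      refine ⟨⟨l, ?_⟩, ?_⟩
      · intro g
        rw [← hl]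
        exact hθ.1 g
      · apply Subtype.ext
        apply Subtype.ext
        exact hl.symm
  rw [hsum] at h1
  rw [Nat.coprime_comm, Nat.Prime.coprime_iff_not_dvd hp.out]
  intro h
  apply hΛ
  exact (Nat.modEq_zero_iff_dvd).mp (h1.symm.trans ((Nat.modEq_zero_iff_dvd).mpr h))

theorem thompson' (hdeg : ∀ χ : IrrCharacter G, ∀ d : ℕ, χ.1 1 = d → d ≠ 1 → p ∣ d) :
    ∃ N : Subgroup G, N.Normal ∧ (Nat.card N).Coprime p ∧ ∃ k : ℕ, N.index = p ^ k := by
  obtain ⟨n, hn⟩ := PRes.index_pow (G := G) (p := p)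
  exact ⟨pResidual p G, PRes.normal p G, thompson hdeg, n, hn⟩

/-- The congruence for `|O^p(G)|`. -/
theorem card_residual_modEq (D : IrrCharacter G → ℕ) (hD : ∀ χ : IrrCharacter G, χ.1 1 = D χ)
    (T : Finset (IrrCharacter G)) (hT : ∀ χ, χ ∈ T ↔ ¬ p ∣ D χ ∧ ¬ p ∣ detOrder χ.1) :
    Nat.card (pResidual p G) ≡ ∑ χ ∈ T, D χ ^ 2 [MOD p] := by
  classical
  have hKn : (pResidual p G).Normal := PRes.normal p G
  have hidx := PRes.index_pow (G := G) (p := p)
  have hKp := PRes.pResidual_pResidual p G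
  set K := pResidual p G with hKdef
  obtain ⟨d, hd⟩ : ∃ d : IrrCharacter K → ℕ, ∀ φ : IrrCharacter K, φ.1 1 = d φ :=
    ⟨fun φ => (isChar_one_eq (isChar_of_irr φ.2)).choose,
      fun φ => (isChar_one_eq (isChar_of_irr φ.2)).choose_spec⟩
  have h1 := card_modEq (G := G) hidx d hd (Finset.univ.filter
    (fun θ : IrrCharacter K => (∀ g : G, cj g θ.1 = θ.1) ∧ ¬ p ∣ d θ)) (by simp)
  have hres : ∀ χ ∈ T, IsIrrCharacter K (fun n : K => χ.1 n) := fun χ hχ =>
    res_irr hidx χ.2 (hD χ) ((hT χ).mp hχ).1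
  have hdres : ∀ χ (hχ : χ ∈ T), d ⟨_, hres χ hχ⟩ = D χ := by
    intro χ hχ
    have h2 := hd ⟨_, hres χ hχ⟩
    have h3 := hD χ
    have h4 : χ.1 ((1 : K) : G) = (d ⟨_, hres χ hχ⟩ : ℂ) := h2
    rw [OneMemClass.coe_one, h3] at h4
    exact_mod_cast h4.symm
  have h2 : ∑ χ ∈ T, D χ ^ 2 = ∑ θ : IrrCharacter K with (∀ g : G, cj g θ.1 = θ.1) ∧ ¬ p ∣ d θ,
      d θ ^ 2 := by
    refine Finset.sum_bij (fun χ hχ => ⟨_, hres χ hχ⟩) ?_ ?_ ?_ ?_
    · intro χ hχ
      rw [Finset.mem_filter]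
      refine ⟨Finset.mem_univ _, fun g => ?_, ?_⟩
      · exact cj_res g (isChar_classFn (isChar_of_irr χ.2))
      · rw [hdres χ hχ]
        exact ((hT χ).mp hχ).1
    · intro χ hχ ψ hψ heq
      have h3 : ∀ n : K, ψ.1 n = χ.1 n := fun n =>
        (congrFun (congrArg Subtype.val heq) n).symm
      obtain ⟨χ₀, -, h4⟩ := exists_ext (G := G) hidx hKp (hres χ hχ)
        (fun g => cj_res g (isChar_classFn (isChar_of_irr χ.2))) (d := D χ) (hD χ)
        ((hT χ).mp hχ).1
      have h5 := h4 χ.1 χ.2 (fun _ => rfl) ((hT χ).mp hχ).2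
      have h6 := h4 ψ.1 ψ.2 h3 ((hT ψ).mp hψ).2
      exact Subtype.ext (h5.trans h6.symm)
    · intro θ hθ
      obtain ⟨hinv, hpd⟩ := (Finset.mem_filter.mp hθ).2
      obtain ⟨χ, ⟨h3, h4, h5⟩, -⟩ := exists_ext hidx hKp θ.2 hinv (hd θ) hpd
      have h6 : D ⟨χ, h3⟩ = d θ := by
        have h7 := hD ⟨χ, h3⟩
        have h8 : χ ((1 : K) : G) = θ.1 1 := h4 1
        rw [OneMemClass.coe_one, hd] at h8
        simp only at h7
        rw [h8] at h7
        exact_mod_cast h7.symm
      refine ⟨⟨χ, h3⟩, ?_, ?_⟩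
      · rw [hT, h6]
        refine ⟨hpd, ?_⟩
        simp only
        rw [h5]
        exact not_dvd_detOrder hKp (isChar_of_irr θ.2)
      · apply Subtype.ext
        funext n
        exact h4 n
    · intro χ hχ
      rw [hdres χ hχ]
  rw [h2]
  exact h1

/-- All degrees powers of `p`. -/
theorem powers_iff (hp : p.Prime) : (∀ χ : IrrCharacter G, ∃ k : ℕ, χ.1 1 = (p : ℂ) ^ k) ↔
    ∃ A : Subgroup G, A.Normal ∧ (∀ a ∈ A, ∀ b ∈ A, a * b = b * a) ∧
      Nat.Coprime (Nat.card A) p ∧ ∃ k : ℕ, A.index = p ^ k := by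
  classical
  cases nonempty_fintype G
  constructor
  · intro h
    obtain ⟨A, hA, hcop, k, hk⟩ := thompson' (G := G) (p := p) (by
      intro χ d hd hd1
      obtain ⟨k, hk⟩ := h χ
      rw [hd] at hk
      have h2 : d = p ^ k := by exact_mod_cast hk
      rw [h2]
      apply dvd_pow_self
      rintro rfl
      exact hd1 (by rw [h2, pow_zero]))
    refine ⟨A, hA, ?_, hcop, k, hk⟩
    have : Fintype A := Fintype.ofFinite _
    -- every irreducible character of `A` is linear
    have hlin : ∀ θ : IrrCharacter A, θ.1 1 = 1 := by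
      intro θ
      have hne : indFun A θ.1 ≠ 0 := by
        intro h0
        have := congrFun h0 1
        rw [CharInd.indFun_one] at this
        simp only [Pi.zero_apply, mul_eq_zero, Nat.cast_eq_zero] at this
        rcases this with h1 | h1
        · exact A.index_ne_zero_of_finite h1
        · exact isIrr_one_ne_zero θ.2 h1
      obtain ⟨χ, hχ⟩ := char_ne_zero_exists_constituent
        (CharInd.isChar_ind A (isChar_of_irr θ.2)) hne
      rw [CharInd.reciprocity A θ.1 χ.1 (isChar_classFn (isChar_of_irr χ.2))] at hχ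
      have hχ' : classInner (fun n : A => χ.1 n) θ.1 ≠ 0 := by
        intro h0
        apply hχ
        rw [← classInner_conj_symm, h0, map_zero]
      obtain ⟨b, hb, hbd⟩ := ratio θ.2 χ.2 hχ'
      obtain ⟨e, he0, he⟩ := isIrr_one_eq θ.2
      obtain ⟨j, hj⟩ := h χ
      rw [he, hj] at hb
      have h2 : p ^ j = b * e := by exact_mod_cast hb
      have h3 : e ∣ p ^ j := ⟨b, by rw [h2, mul_comm]⟩
      have h4 : e ∣ Nat.card A := by
        obtain ⟨n, ρ, hρ, hρθ⟩ := θ.2
        have h5 := CharInt.degree_dvd_card ρ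
        rw [Module.finrank_fin_fun] at h5
        have h6 : n = e := by
          rw [← hρθ, Representation.char_one, Module.finrank_fin_fun] at he
          exact_mod_cast he
        rwa [h6] at h5
      have h5 : e = 1 :=
        Nat.eq_one_of_dvd_coprimes (Nat.Coprime.pow_right j hcop) h4 h3
      rw [he, h5]; simp
    intro a ha b hb
    -- the commutator is killed by all characters
    have h1 : IsConj (⟨a, ha⟩ * ⟨b, hb⟩ * ⟨a, ha⟩⁻¹ * ⟨b, hb⟩⁻¹ : A) 1 := by
      apply irr_separates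
      intro χ
      obtain ⟨l, hl⟩ := lin_iff.mp ⟨isChar_of_irr χ.2, hlin χ⟩
      rw [hl, linFn_apply, linFn_apply]
      congr 1
      rw [map_mul, map_mul, map_mul, map_inv, map_inv, map_one, mul_comm (l _) (l _)]
      group
    rw [isConj_comm] at h1
    obtain ⟨c, hc⟩ := isConj_iff.mp h1
    have h2 : (⟨a, ha⟩ * ⟨b, hb⟩ * ⟨a, ha⟩⁻¹ * ⟨b, hb⟩⁻¹ : A) = 1 := by
      rw [← hc]; simp
    have h3 : a * b * a⁻¹ * b⁻¹ = 1 := congrArg Subtype.val h2
    rwa [mul_inv_eq_one, mul_inv_eq_iff_eq_mul] at h3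
  · rintro ⟨A, hA, hab, hcop, k, hk⟩ χ
    obtain ⟨d, hd0, hd⟩ := isIrr_one_eq χ.2
    have h1 := ito χ.2 A hab hd
    rw [hk] at h1
    obtain ⟨j, -, hj⟩ := (Nat.dvd_prime_pow hp).mp h1
    exact ⟨j, by rw [hd, hj]; push_cast; rfl⟩

end

end Cfsg.Agent.Lib.CharThompson
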