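import Cfsg.Agent.Lib.Coprime

set_option autoImplicit false

/-!
# Glauberman's lemma
-/

namespace Cfsg.Agent.Lib.GlaubLemma

open Subgroup Cfsg.Agent.Lib.Basic Cfsg.Agent.Lib.SchurZas Cfsg.Agent.Lib.Coprime
open scoped Pointwise

variable {G : Type*} [Group G] {Ω : Type*} [MulAction G Ω]

/-- **Glauberman's lemma**: existence of a fixed point. -/
theorem exists_fixed [Finite G] {A K : Subgroup G}
    (hAK : A ≤ normalizer (K : Set G)) (hcop : (Nat.card A).Coprime (Nat.card K))
    (hsolv : Group.IsSolvable A ∨ Group.IsSolvable K) (x : Ω)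
    (h : ∀ a ∈ A, ∃ k ∈ K, a • x = k • x) :
    ∃ k ∈ K, ∀ a ∈ A, a • (k • x) = k • x := by
  set L : Subgroup G := K ⊔ A with hL
  have hLK : L ≤ normalizer (K : Set G) := sup_le le_normalizer hAK
  set NL : Subgroup G := MulAction.stabilizer G x ⊓ L with hNL
  have hNLn : NL ≤ normalizer (K : Set G) := inf_le_right.trans hLK
  have hinf : K ⊓ A = ⊥ := disjoint_iff.mp (disjoint_of_coprime_natCard hcop.symm)
  have hsup : K ⊔ NL = L := by
    apply le_antisymm (sup_le le_sup_left inf_le_right)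
    apply sup_le le_sup_left
    intro a ha
    obtain ⟨k, hk, hconj⟩ := h a ha
    have h1 : k⁻¹ * a ∈ NL := by
      refine ⟨?_, L.mul_mem (L.inv_mem (Subgroup.mem_sup_left hk)) (Subgroup.mem_sup_right ha)⟩
      change (k⁻¹ * a) • x = x
      rw [mul_smul, hconj, inv_smul_smul]
    have e : a = k * (k⁻¹ * a) := by group
    rw [e]
    exact mul_mem (Subgroup.mem_sup_left hk) (Subgroup.mem_sup_right h1)
  have hcL : Nat.card L = Nat.card K * Nat.card A := card_sup_of_inf_eq_bot hAK hinf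
  have hc1 := card_sup_mul_card_inf hNLn
  rw [hsup, hcL] at hc1
  have hc2 : Nat.card A * Nat.card (K ⊓ NL : Subgroup G) = Nat.card NL := by
    apply Nat.eq_of_mul_eq_mul_left (Nat.card_pos (α := K))
    rw [← mul_assoc]; exact hc1
  have hDn : ((K ⊓ NL).subgroupOf NL).Normal := by
    rw [inf_subgroupOf_right]
    exact normal_subgroupOf_of_le_normalizer hNLn
  have hcD : Nat.card ((K ⊓ NL).subgroupOf NL) = Nat.card (K ⊓ NL : Subgroup G) :=
    Nat.card_congr (subgroupOfEquivOfLe inf_le_right).toEquiv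
  have hidx : ((K ⊓ NL).subgroupOf NL).index = Nat.card A := by
    have h1 := ((K ⊓ NL).subgroupOf NL).index_mul_card
    rw [hcD, ← hc2] at h1
    exact Nat.eq_of_mul_eq_mul_right Nat.card_pos h1
  have hcopD : (Nat.card ((K ⊓ NL).subgroupOf NL)).Coprime ((K ⊓ NL).subgroupOf NL).index := by
    rw [hcD, hidx]
    exact Nat.Coprime.coprime_dvd_left (card_dvd_of_le inf_le_left) hcop.symm
  obtain ⟨T', hT'⟩ := exists_right_complement'_of_coprime hcopD
  set T : Subgroup G := T'.map NL.subtype with hT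
  have hcT : Nat.card T = Nat.card A := by
    rw [hT, ← hidx, hT'.symm.index_eq_card]
    exact (Nat.card_congr (equivMapOfInjective T' _ NL.subtype_injective).toEquiv).symm
  have hTNL : T ≤ NL := map_subtype_le T'
  have hcop' : (Nat.card T).Coprime (Nat.card K) := by rwa [hcT]
  have hinf' : K ⊓ T = ⊥ := disjoint_iff.mp (disjoint_of_coprime_natCard hcop'.symm)
  have hsup' : K ⊔ A = K ⊔ T := by
    symm
    apply Subgroup.eq_of_le_of_card_ge (sup_le le_sup_left (hTNL.trans inf_le_right))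
    rw [← hL, hcL, card_sup_of_inf_eq_bot (hTNL.trans hNLn) hinf', hcT]
  obtain ⟨n, hn, hconj⟩ := conj_of_coprime' hAK hcop hcop' hsup' hsolv
  refine ⟨n⁻¹, K.inv_mem hn, fun a ha => ?_⟩
  have h1 : n * a * n⁻¹ ∈ T := by
    rw [← hconj, mem_conj_smul_iff]
    have e : n⁻¹ * (n * a * n⁻¹) * n = a := by group
    rw [e]; exact ha
  have h2 : (n * a * n⁻¹) • x = x := (hTNL h1).1
  calc a • (n⁻¹ • x) = n⁻¹ • ((n * a * n⁻¹) • x) := by
        rw [← mul_smul, ← mul_smul]; congr 1; group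
    _ = n⁻¹ • x := by rw [h2]

/-- **Glauberman's lemma**: the fixed points are conjugate under the fixed points. -/
theorem fixed_conj [Finite G] {A K : Subgroup G}
    (hAK : A ≤ normalizer (K : Set G)) (hcop : (Nat.card A).Coprime (Nat.card K))
    (hsolv : Group.IsSolvable A ∨ Group.IsSolvable K) {x y : Ω}
    (hx : ∀ a ∈ A, a • x = x) (hy : ∀ a ∈ A, a • y = y) (h : ∃ k ∈ K, k • x = y) :
    ∃ c ∈ K ⊓ centralizer (A : Set G), c • x = y := by
  obtain ⟨k, hk, hkx⟩ := h
  set D : Subgroup G := K ⊓ MulAction.stabilizer G x with hD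
  have hAD : A ≤ normalizer (D : Set G) := by
    intro a ha
    rw [mem_normalizer_iff]
    have key : ∀ b ∈ A, ∀ d, d ∈ D → b * d * b⁻¹ ∈ D := by
      intro b hb d hd
      refine ⟨(mem_normalizer_iff.mp (hAK hb) d).mp hd.1, ?_⟩
      change (b * d * b⁻¹) • x = x
      rw [mul_smul, mul_smul, hx _ (inv_mem hb), show d • x = x from hd.2, hx b hb]
    intro d
    refine ⟨key a ha d, fun hd => ?_⟩
    have := key a⁻¹ (inv_mem ha) _ hd
    have e : a⁻¹ * (a * d * a⁻¹) * a⁻¹⁻¹ = d := by group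
    rwa [e] at this
  obtain ⟨d, hd, hc⟩ := exists_mem_centralizer_coset hAD
    (hcop.coprime_dvd_right (card_dvd_of_le inf_le_left))
    (hsolv.imp_right (isSolvable_of_le inf_le_left)) k (by
      intro a ha
      refine ⟨K.mul_mem (K.inv_mem hk) ((mem_normalizer_iff.mp (hAK ha) k).mp hk), ?_⟩
      change (k⁻¹ * (a * k * a⁻¹)) • x = x
      rw [mul_smul, mul_smul, mul_smul, hx _ (inv_mem ha), hkx, hy a ha, ← hkx, inv_smul_smul])
  refine ⟨k * d, ⟨K.mul_mem hk hd.1, hc⟩, ?_⟩
  rw [mul_smul, show d • x = x from hd.2, hkx]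

end Cfsg.Agent.Lib.GlaubLemma
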