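import Cfsg.Agent.Lib.CharGC
import Cfsg.Agent.Lib.CharThompson
import Cfsg.Agent.Lib.GlaubLemma

set_option autoImplicit false

/-!
# Coprime action of solvable groups on characters
-/

namespace Cfsg.Agent.Lib.CharCo

open Cfsg Cfsg.Agent.Lib.CharBasic Cfsg.Agent.Lib.CharNormal Cfsg.Agent.Lib.CharClifford
open Cfsg.Agent.Lib.CharThompson Cfsg.Agent.Lib.CharGC
open scoped ComplexConjugate

noncomputable section

/-- The inner product, without `Fintype` data. -/
def ci {A : Type*} [Group A] [Finite A] (f g : A → ℂ) : ℂ :=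
  @classInner A _ (Fintype.ofFinite A) f g

theorem ci_eq {A : Type*} [Group A] [Fintype A] (f g : A → ℂ) : ci f g = classInner f g := by
  unfold ci
  rw [Subsingleton.elim (Fintype.ofFinite A) ‹Fintype A›]

theorem ci_equiv {A B : Type*} [Group A] [Group B] [Finite A] [Finite B] (e : A ≃* B)
    (f g : B → ℂ) : ci (fun a => f (e a)) (fun a => g (e a)) = ci f g := by
  have : Fintype A := Fintype.ofFinite A
  have : Fintype B := Fintype.ofFinite B
  rw [ci_eq, ci_eq, inner_equiv]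

variable {Γ : Type*} [Group Γ]

/-- Restriction. -/
def resS {N G : Subgroup Γ} (h : N ≤ G) (χ : G → ℂ) : N → ℂ := fun n => χ (Subgroup.inclusion h n)

theorem resS_isChar {N G : Subgroup Γ} (h : N ≤ G) {χ : G → ℂ} (hχ : IsCharacter G χ) :
    IsCharacter N (resS h χ) := isChar_comp (Subgroup.inclusion h) hχ

/-- Conjugation of a function. -/
def cjS (G : Subgroup Γ) {s : Γ} (hs : s ∈ Subgroup.normalizer (G : Set Γ)) (χ : G → ℂ) : G → ℂ :=
  fun g => χ (cE G hs g)

/-- Conjugation of an irreducible character. -/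
def cjI (G : Subgroup Γ) {s : Γ} (hs : s ∈ Subgroup.normalizer (G : Set Γ)) (χ : IrrCharacter G) :
    IrrCharacter G := irrEquiv (cE G hs) χ

theorem cjI_apply {G : Subgroup Γ} {s : Γ} (hs : s ∈ Subgroup.normalizer (G : Set Γ))
    (χ : IrrCharacter G) (g : G) : (cjI G hs χ).1 g = χ.1 (cE G hs g) := rfl

theorem cjI_coe {G : Subgroup Γ} {s : Γ} (hs : s ∈ Subgroup.normalizer (G : Set Γ))
    (χ : IrrCharacter G) : (cjI G hs χ).1 = cjS G hs χ.1 := rfl

theorem ci_cjS [Finite Γ] {G N : Subgroup Γ} (hNG : N ≤ G) {s : Γ}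
    (hsG : s ∈ Subgroup.normalizer (G : Set Γ)) (hsN : s ∈ Subgroup.normalizer (N : Set Γ))
    (χ : G → ℂ) (θ : N → ℂ) : ci (resS hNG (cjS G hsG χ)) (cjS N hsN θ) = ci (resS hNG χ) θ :=
  ci_equiv (cE N hsN) (resS hNG χ) θ

theorem cl_conj [Finite Γ] {G N : Subgroup Γ} (hNG : N ≤ G)
    (hG : G ≤ Subgroup.normalizer (N : Set Γ)) {χ : G → ℂ} (hχ : IsIrrCharacter G χ)
    {θ θ' : N → ℂ} (hθ : IsIrrCharacter N θ) (hθ' : IsIrrCharacter N θ')
    (h : ci (resS hNG χ) θ ≠ 0) (h' : ci (resS hNG χ) θ' ≠ 0) :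
    ∃ g, ∃ hg : g ∈ G, θ' = cjS N (hG hg) θ := by
  have : Fintype N := Fintype.ofFinite _
  have : Fintype G := Fintype.ofFinite _
  have : Fintype (N.subgroupOf G) := Fintype.ofFinite _
  have hn : (N.subgroupOf G).Normal :=
    (Subgroup.normal_subgroupOf_iff_le_normalizer hNG).mpr hG
  rw [ci_eq] at h h'
  have h1 := inner_subgroupOf hNG (resS hNG χ) θ
  have h2 := inner_subgroupOf hNG (resS hNG χ) θ'
  obtain ⟨x, hx⟩ := exists_cj_of_constituents (G := G) (N := N.subgroupOf G) hχ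
    ((isIrr_subgroupOf_iff hNG θ).mpr hθ) ((isIrr_subgroupOf_iff hNG θ').mpr hθ')
    (by rw [← h1] at h; exact h) (by rw [← h2] at h'; exact h')
  refine ⟨x, x.2, ?_⟩
  funext n
  exact congrFun hx ⟨⟨n, hNG n.2⟩, n.2⟩

theorem cl_deg [Finite Γ] {G N : Subgroup Γ} (hNG : N ≤ G)
    (hG : G ≤ Subgroup.normalizer (N : Set Γ)) {χ : G → ℂ} (hχ : IsIrrCharacter G χ)
    {θ : N → ℂ} (hθ : IsIrrCharacter N θ) (h : ci (resS hNG χ) θ ≠ 0) :
    ∃ t : ℕ, χ 1 = ci (resS hNG χ) θ * t * θ 1 := by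
  have : Fintype N := Fintype.ofFinite _
  have : Fintype G := Fintype.ofFinite _
  have : Fintype (N.subgroupOf G) := Fintype.ofFinite _
  have hn : (N.subgroupOf G).Normal :=
    (Subgroup.normal_subgroupOf_iff_le_normalizer hNG).mpr hG
  rw [ci_eq] at h ⊢
  have h1 := inner_subgroupOf hNG (resS hNG χ) θ
  have h3 := degree_eq (G := G) (N := N.subgroupOf G) hχ
    ((isIrr_subgroupOf_iff hNG θ).mpr hθ) (by rw [← h1] at h; exact h)
  rw [← h1]
  exact ⟨_, h3⟩

theorem ci_nat {A : Type*} [Group A] [Finite A] {χ ψ : A → ℂ} (h : IsCharacter A χ)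
    (h2 : IsIrrCharacter A ψ) : ∃ n : ℕ, ci χ ψ = n := by
  have : Fintype A := Fintype.ofFinite A
  rw [ci_eq]
  exact exists_nat_inner h h2

theorem cE_coe' {G : Subgroup Γ} {s : Γ} (hs : s ∈ Subgroup.normalizer (G : Set Γ)) (g : G) :
    ((cE G hs g : G) : Γ) = s * g * s⁻¹ := rfl

theorem cjI_one {N : Subgroup Γ} (h : (1 : Γ) ∈ Subgroup.normalizer (N : Set Γ))
    (ψ : IrrCharacter N) : cjI N h ψ = ψ := by
  apply Subtype.ext
  funext n
  exact congrArg ψ.1 (Subtype.ext (by rw [cE_coe']; simp))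

theorem cjI_mul {N : Subgroup Γ} {s t : Γ} (hs : s ∈ Subgroup.normalizer (N : Set Γ))
    (ht : t ∈ Subgroup.normalizer (N : Set Γ)) (hst : s * t ∈ Subgroup.normalizer (N : Set Γ))
    (ψ : IrrCharacter N) : cjI N hst ψ = cjI N ht (cjI N hs ψ) := by
  apply Subtype.ext
  funext n
  exact congrArg ψ.1 (Subtype.ext (by rw [cE_coe', cE_coe', cE_coe']; simp [mul_assoc]))

/-- The action on irreducible characters. -/
@[reducible] def actS {N S : Subgroup Γ} (hSN : S ≤ Subgroup.normalizer (N : Set Γ)) :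
    MulAction S (IrrCharacter N) where
  smul s ψ := cjI N (inv_mem (hSN s.2)) ψ
  one_smul ψ := by
    apply Subtype.ext
    funext n
    exact congrArg ψ.1 (Subtype.ext (by rw [cE_coe']; simp))
  mul_smul s t ψ := by
    apply Subtype.ext
    funext n
    exact congrArg ψ.1 (Subtype.ext (by rw [cE_coe', cE_coe', cE_coe']; simp [mul_assoc]))

theorem invI_iff {G S : Subgroup Γ} (hSG : S ≤ Subgroup.normalizer (G : Set Γ))
    {χ : IrrCharacter G} : InvF G S χ.1 ↔ ∀ s (hs : s ∈ S), cjI G (hSG hs) χ = χ := by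
  rw [invF_iff hSG]
  exact forall₂_congr fun s hs => ⟨fun h => Subtype.ext h, fun h => congrArg Subtype.val h⟩

theorem actS_fixed_iff {N S : Subgroup Γ} (hSN : S ≤ Subgroup.normalizer (N : Set Γ))
    (ψ : IrrCharacter N) : (letI := actS hSN; ∀ s : S, s • ψ = ψ) ↔ InvF N S ψ.1 := by
  rw [invI_iff hSN]
  constructor
  · intro h s hs
    have h1 := h ⟨s⁻¹, inv_mem hs⟩
    refine Eq.trans ?_ h1
    apply Subtype.ext
    funext n
    refine congrArg ψ.1 (Subtype.ext ?_)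
    change s * (n : Γ) * s⁻¹ = (s⁻¹)⁻¹ * (n : Γ) * ((s⁻¹)⁻¹)⁻¹
    rw [inv_inv]
  · intro h s
    exact h _ (inv_mem s.2)

/-- Weighted counting for a `p`-group. -/
theorem exists_inv_of_sum [Finite Γ] {p : ℕ} (hp : p.Prime) {N P : Subgroup Γ} (hP : IsPGroup p P)
    (hPN : P ≤ Subgroup.normalizer (N : Set Γ)) [Fintype (IrrCharacter N)]
    (f : IrrCharacter N → ℕ)
    (hf : ∀ s (hs : s ∈ P) (ψ : IrrCharacter N), f (cjI N (hPN hs) ψ) = f ψ)
    (hsum : ¬ p ∣ ∑ ψ, f ψ) : ∃ ψ : IrrCharacter N, InvF N P ψ.1 ∧ f ψ ≠ 0 := by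
  classical
  haveI := Fact.mk hp
  letI := actS hPN
  have h1 := sum_modEq hP f (fun g a => hf _ (inv_mem g.2) a)
  by_contra hcon
  push Not at hcon
  apply hsum
  rw [← Nat.modEq_zero_iff_dvd]
  refine h1.trans ?_
  rw [Finset.sum_eq_zero]
  intro ψ hψ
  apply hcon
  rw [← actS_fixed_iff hPN]
  exact (Finset.mem_filter.mp hψ).2

/-- If only one fixed point has a weight prime to `p`. -/
theorem sum_modEq_single [Finite Γ] {p : ℕ} (hp : p.Prime) {N P : Subgroup Γ} (hP : IsPGroup p P)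
    (hPN : P ≤ Subgroup.normalizer (N : Set Γ)) [Fintype (IrrCharacter N)]
    (f : IrrCharacter N → ℕ)
    (hf : ∀ s (hs : s ∈ P) (ψ : IrrCharacter N), f (cjI N (hPN hs) ψ) = f ψ)
    (φ : IrrCharacter N) (hφ : InvF N P φ.1)
    (h : ∀ ψ : IrrCharacter N, InvF N P ψ.1 → ψ ≠ φ → p ∣ f ψ) : ∑ ψ, f ψ ≡ f φ [MOD p] := by
  classical
  haveI := Fact.mk hp
  letI := actS hPN
  have h1 := sum_modEq hP f (fun g a => hf _ (inv_mem g.2) a)
  refine h1.trans ?_
  rw [← Finset.add_sum_erase _ _ (Finset.mem_filter.mpr ⟨Finset.mem_univ φ,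
    (actS_fixed_iff hPN φ).mpr hφ⟩)]
  have h2 : p ∣ ∑ x ∈ (Finset.univ.filter (fun a : IrrCharacter N => ∀ g : P, g • a = a)).erase φ,
      f x := by
    apply Finset.dvd_sum
    intro x hx
    rw [Finset.mem_erase, Finset.mem_filter] at hx
    exact h x ((actS_fixed_iff hPN x).mp hx.2.2) hx.1
  have h3 := (Nat.modEq_zero_iff_dvd).mpr h2
  exact Nat.ModEq.add_left (f φ) h3

/-- The degree of a character as a natural number. -/
theorem deg_dvd_card {A : Type*} [Group A] [Finite A] {χ : A → ℂ} (hχ : IsIrrCharacter A χ)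
    {d : ℕ} (hd : χ 1 = d) : d ∣ Nat.card A := by
  obtain ⟨n, ρ, hρ, hρθ⟩ := hχ
  have : Fintype A := Fintype.ofFinite _
  have h5 := CharInt.degree_dvd_card ρ
  rw [Module.finrank_fin_fun] at h5
  have h6 : n = d := by
    rw [← hρθ, Representation.char_one, Module.finrank_fin_fun] at hd
    exact_mod_cast hd
  rwa [h6] at h5

/-- Expansion of a restriction. -/
theorem res_sum {N G : Subgroup Γ} [Fintype N] (h : N ≤ G) {χ : G → ℂ}
    (hχ : IsCharacter G χ) (n : N) :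
    resS h χ n = ∑ ψ : IrrCharacter N, ci (resS h χ) ψ.1 * ψ.1 n := by
  have h1 := congrFun (char_eq_sum_inner (resS_isChar h hχ)) n
  rw [Finset.sum_apply] at h1
  simp only [Pi.smul_apply, smul_eq_mul, ← ci_eq] at h1
  exact h1

theorem ci_sum {A : Type*} [Group A] [Finite A] {ι : Type*} (u : Finset ι) (a : ι → ℂ)
    (f : ι → A → ℂ) (g : A → ℂ) : ci (fun x => ∑ i ∈ u, a i * f i x) g = ∑ i ∈ u, a i * ci (f i) g := by
  have : Fintype A := Fintype.ofFinite A
  simp only [ci_eq, classInner_def, Finset.sum_mul, Finset.mul_sum]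
  rw [Finset.sum_comm]
  refine Finset.sum_congr rfl fun i _ => Finset.sum_congr rfl fun x _ => ?_
  ring

/-- Compatibility of the correspondence for `p`-groups with normal subgroups, first half. -/
theorem compat_p_mp [Finite Γ] {p : ℕ} (hp : p.Prime) {G N P C M : Subgroup Γ}
    (hP : IsPGroup p P) (hPG : P ≤ Subgroup.normalizer (G : Set Γ))
    (hPN : P ≤ Subgroup.normalizer (N : Set Γ)) (hNG : N ≤ G)
    (hGN : G ≤ Subgroup.normalizer (N : Set Γ)) (hcop : Nat.Coprime (Nat.card G) (Nat.card P))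
    (hP1 : p ∣ Nat.card P)
    (hC : ∀ x, x ∈ C ↔ x ∈ G ∧ ∀ s ∈ P, x * s = s * x)
    (hM : ∀ x, x ∈ M ↔ x ∈ N ∧ ∀ s ∈ P, x * s = s * x)
    (hCG : C ≤ G) (hMN : M ≤ N) (hMC : M ≤ C) (χ : IrrCharacter G) (hχ : InvF G P χ.1)
    (θ : IrrCharacter N) (hθ : InvF N P θ.1) (β : IrrCharacter C) (γ : IrrCharacter M)
    (hβ : ∃ m : ℕ, ci (resS hCG χ.1) β.1 = m ∧ ¬ p ∣ m)
    (hγ : ∃ m : ℕ, ci (resS hMN θ.1) γ.1 = m ∧ ¬ p ∣ m)
    (h : ci (resS hNG χ.1) θ.1 ≠ 0) : ci (resS hMC β.1) γ.1 ≠ 0 := by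
  classical
  have : Fintype N := Fintype.ofFinite _
  have : Fintype G := Fintype.ofFinite _
  have : Fintype C := Fintype.ofFinite _
  have : Fintype M := Fintype.ofFinite _
  have hpi : Prime (p : ℤ) := Nat.prime_iff_prime_int.mp hp
  have hpG : ¬ p ∣ Nat.card G := fun h => by
    have := Nat.dvd_gcd h hP1
    rw [Nat.coprime_iff_gcd_eq_one.mp hcop] at this
    exact hp.one_lt.ne' (Nat.dvd_one.mp this)
  have gcG := gc hp G (Nat.card P) P C rfl hP hPG hcop hC hCG
  have gcN := gc hp N (Nat.card P) P M rfl hP hPN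
    (hcop.coprime_dvd_left (Subgroup.card_dvd_of_le hNG)) hM hMN
  -- multiplicities
  choose a ha using fun ψ : IrrCharacter N => ci_nat (resS_isChar hNG (isChar_of_irr χ.2)) ψ.2
  choose b hb using fun ψ : IrrCharacter N => ci_nat (resS_isChar hMN (isChar_of_irr ψ.2)) γ.2
  -- `p` does not divide `a θ`
  have haθ : ¬ p ∣ a θ := by
    obtain ⟨t, ht⟩ := cl_deg hNG hGN χ.2 θ.2 h
    obtain ⟨d, -, hd⟩ := isIrr_one_eq θ.2
    obtain ⟨e, -, he⟩ := isIrr_one_eq χ.2
    rw [ha, hd, he] at ht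
    have h1 : e = a θ * t * d := by exact_mod_cast ht
    intro h2
    apply hpG
    exact ((h2.trans (dvd_mul_right _ _)).trans (dvd_mul_right _ _)).trans
      (h1 ▸ deg_dvd_card χ.2 he)
  obtain ⟨k, hk, hpk⟩ := hγ
  -- the total multiplicity
  have hMG : M ≤ G := hMN.trans hNG
  obtain ⟨m, hm⟩ := ci_nat (resS_isChar hMG (isChar_of_irr χ.2)) γ.2
  have hsum : m = ∑ ψ : IrrCharacter N, a ψ * b ψ := by
    have h1 : resS hMG χ.1 = fun x => ∑ ψ : IrrCharacter N, (a ψ : ℂ) * resS hMN ψ.1 x := by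
      funext x
      have := res_sum hNG (isChar_of_irr χ.2) (Subgroup.inclusion hMN x)
      simp only [ha] at this
      exact this
    rw [h1, ci_sum] at hm
    simp only [hb] at hm
    exact_mod_cast hm.symm
  have hmod : m ≡ a θ * b θ [MOD p] := by
    rw [hsum]
    refine sum_modEq_single hp hP hPN (fun ψ => a ψ * b ψ) ?_ θ hθ ?_
    · intro s hs ψ
      have h1 : a (cjI N (hPN hs) ψ) = a ψ := by
        have h2 := ci_cjS hNG (hPG hs) (hPN hs) χ.1 ψ.1
        rw [show cjS G (hPG hs) χ.1 = χ.1 from (invF_iff hPG).mp hχ s hs, ← cjI_coe, ha, ha] at h2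
        exact_mod_cast h2
      have h3 : b (cjI N (hPN hs) ψ) = b ψ := by
        have h4 : resS hMN (cjI N (hPN hs) ψ).1 = resS hMN ψ.1 := by
          funext x
          refine congrArg ψ.1 (Subtype.ext ?_)
          rw [cE_coe']
          have := ((hM x).mp x.2).2 s hs
          change s * (x : Γ) * s⁻¹ = x
          rw [← this]; group
        have h5 := hb (cjI N (hPN hs) ψ)
        rw [h4, hb] at h5
        exact_mod_cast h5.symm
      simp only [h1, h3]
    · intro ψ hψ hne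
      apply Dvd.dvd.mul_left
      by_contra hpb
      apply hne
      refine gcN.inj ψ θ hψ hθ γ (b ψ) k ?_ hpb ?_ hpk
      · rw [← hb, ci_eq]; rfl
      · rw [← hk, ci_eq]; rfl
  have hbk : b θ = k := by
    have := hb θ
    rw [hk] at this
    exact_mod_cast this.symm
  have hpm : ¬ p ∣ m := by
    intro h1
    have h2 : p ∣ a θ * b θ := (hmod.dvd_iff dvd_rfl).mp h1
    rcases (hp.dvd_mul).mp h2 with h3 | h3
    · exact haθ h3
    · exact hpk (hbk ▸ h3)
  -- the other way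
  obtain ⟨n, hn, hpn⟩ := hβ
  obtain ⟨l, hl⟩ := ci_nat (resS_isChar hMC (isChar_of_irr β.2)) γ.2
  have h6 := comp_modEq (p := p) (i := Subgroup.inclusion hCG) (j := Subgroup.inclusion hMC)
    (isChar_of_irr χ.2) β n (by rw [← hn, ci_eq]; rfl) (by
      intro β' hne m' hm'
      by_contra hpm'
      exact hne ((gcG.exu χ hχ).unique ⟨m', hm', hpm'⟩ ⟨n, by rw [← hn, ci_eq]; rfl, hpn⟩)) γ
    (m := m) (k := l) (by rw [← hm, ci_eq]; rfl) (by rw [← hl, ci_eq]; rfl)
  intro h0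
  rw [hl] at h0
  have hl0 : l = 0 := by exact_mod_cast h0
  rw [hl0, Nat.cast_zero, mul_zero, Int.modEq_zero_iff_dvd] at h6
  exact hpm (by exact_mod_cast h6)

theorem cjI_of_mem {G : Subgroup Γ} {g : Γ} (hg : g ∈ G)
    (hgN : g ∈ Subgroup.normalizer (G : Set Γ)) (χ : IrrCharacter G) : cjI G hgN χ = χ := by
  apply Subtype.ext
  funext n
  exact isChar_classFn (isChar_of_irr χ.2) n ⟨g, hg⟩

theorem exists_inv_constituent_p [Finite Γ] {p : ℕ} (hp : p.Prime) {G N P : Subgroup Γ}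
    (hP : IsPGroup p P) (hPG : P ≤ Subgroup.normalizer (G : Set Γ))
    (hPN : P ≤ Subgroup.normalizer (N : Set Γ)) (hNG : N ≤ G)
    (hpG : ¬ p ∣ Nat.card G) (χ : IrrCharacter G) (hχ : InvF G P χ.1) :
    ∃ θ : IrrCharacter N, InvF N P θ.1 ∧ ci (resS hNG χ.1) θ.1 ≠ 0 := by
  classical
  have : Fintype N := Fintype.ofFinite _
  choose a ha using fun ψ : IrrCharacter N => ci_nat (resS_isChar hNG (isChar_of_irr χ.2)) ψ.2
  choose d hd0 hd using fun ψ : IrrCharacter N => isIrr_one_eq ψ.2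
  obtain ⟨e, -, he⟩ := isIrr_one_eq χ.2
  have hsum : e = ∑ ψ : IrrCharacter N, a ψ * d ψ := by
    have h1 := res_sum hNG (isChar_of_irr χ.2) 1
    simp only [ha, hd] at h1
    have h2 : resS hNG χ.1 1 = e := he
    rw [h2] at h1
    exact_mod_cast h1
  obtain ⟨ψ, hψ, hne⟩ := exists_inv_of_sum hp hP hPN (fun ψ => a ψ * d ψ) (by
      intro s hs ψ
      have h1 : a (cjI N (hPN hs) ψ) = a ψ := by
        have h2 := ci_cjS hNG (hPG hs) (hPN hs) χ.1 ψ.1
        rw [show cjS G (hPG hs) χ.1 = χ.1 from (invF_iff hPG).mp hχ s hs, ← cjI_coe, ha, ha] at h2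
        exact_mod_cast h2
      have h3 : d (cjI N (hPN hs) ψ) = d ψ := by
        have h4 := hd (cjI N (hPN hs) ψ)
        rw [cjI_apply, map_one, hd] at h4
        exact_mod_cast h4.symm
      simp only [h1, h3]) (by
      rw [← hsum]
      intro h
      exact hpG (h.trans (deg_dvd_card χ.2 he)))
  refine ⟨ψ, hψ, ?_⟩
  rw [ha]
  intro h
  apply hne
  have : a ψ = 0 := by exact_mod_cast h
  simp only [this, zero_mul]

theorem centralizer_normalizes {G N S C M : Subgroup Γ} (hGN : G ≤ Subgroup.normalizer (N : Set Γ))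
    (hC : ∀ x, x ∈ C ↔ x ∈ G ∧ ∀ s ∈ S, x * s = s * x)
    (hM : ∀ x, x ∈ M ↔ x ∈ N ∧ ∀ s ∈ S, x * s = s * x) :
    C ≤ Subgroup.normalizer (M : Set Γ) := by
  apply le_normalizer_of
  intro c hc x hx
  rw [hC] at hc
  rw [hM] at hx ⊢
  refine ⟨(Subgroup.mem_normalizer_iff.mp (hGN hc.1) x).mp hx.1, fun s hs => ?_⟩
  have h1 : Commute c s := hc.2 s hs
  have h2 : Commute x s := hx.2 s hs
  exact ((h1.mul_left h2).mul_left h1.inv_left).eq

/-- Compatibility of the correspondence for `p`-groups with normal subgroups. -/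
theorem compat_p [Finite Γ] {p : ℕ} (hp : p.Prime) {G N P C M : Subgroup Γ}
    (hP : IsPGroup p P) (hPG : P ≤ Subgroup.normalizer (G : Set Γ))
    (hPN : P ≤ Subgroup.normalizer (N : Set Γ)) (hNG : N ≤ G)
    (hGN : G ≤ Subgroup.normalizer (N : Set Γ)) (hcop : Nat.Coprime (Nat.card G) (Nat.card P))
    (hP1 : p ∣ Nat.card P)
    (hC : ∀ x, x ∈ C ↔ x ∈ G ∧ ∀ s ∈ P, x * s = s * x)
    (hM : ∀ x, x ∈ M ↔ x ∈ N ∧ ∀ s ∈ P, x * s = s * x)
    (hCG : C ≤ G) (hMN : M ≤ N) (hMC : M ≤ C) (χ : IrrCharacter G) (hχ : InvF G P χ.1)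
    (θ : IrrCharacter N) (hθ : InvF N P θ.1) (β : IrrCharacter C) (γ : IrrCharacter M)
    (hβ : ∃ m : ℕ, ci (resS hCG χ.1) β.1 = m ∧ ¬ p ∣ m)
    (hγ : ∃ m : ℕ, ci (resS hMN θ.1) γ.1 = m ∧ ¬ p ∣ m) :
    ci (resS hNG χ.1) θ.1 ≠ 0 ↔ ci (resS hMC β.1) γ.1 ≠ 0 := by
  constructor
  · exact compat_p_mp hp hP hPG hPN hNG hGN hcop hP1 hC hM hCG hMN hMC χ hχ θ hθ β γ hβ hγ
  · intro h
    have : Fintype M := Fintype.ofFinite _
    have hpG : ¬ p ∣ Nat.card G := fun h => by
      have := Nat.dvd_gcd h hP1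
      rw [Nat.coprime_iff_gcd_eq_one.mp hcop] at this
      exact hp.one_lt.ne' (Nat.dvd_one.mp this)
    have gcN := gc hp N (Nat.card P) P M rfl hP hPN
      (hcop.coprime_dvd_left (Subgroup.card_dvd_of_le hNG)) hM hMN
    obtain ⟨θ₁, hθ₁, hne⟩ := exists_inv_constituent_p hp hP hPG hPN hNG hpG χ hχ
    obtain ⟨γ₁, ⟨m₁, hm₁, hpm₁⟩, -⟩ := gcN.exu θ₁ hθ₁
    have hm₁' : ci (resS hMN θ₁.1) γ₁.1 = m₁ := by rw [ci_eq]; exact hm₁
    have h1 := compat_p_mp hp hP hPG hPN hNG hGN hcop hP1 hC hM hCG hMN hMC χ hχ θ₁ hθ₁ β γ₁ hβ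
      ⟨m₁, hm₁', hpm₁⟩ hne
    have hCM := centralizer_normalizes hGN hC hM
    obtain ⟨c, hc, hcγ⟩ := cl_conj hMC hCM β.2 γ₁.2 γ.2 h1 h
    have hcG : c ∈ G := hCG hc
    have hcN : c ∈ Subgroup.normalizer (N : Set Γ) := hGN hcG
    have hcG' : c ∈ Subgroup.normalizer (G : Set Γ) := Subgroup.le_normalizer hcG
    have h2 : InvF N P (cjI N hcN θ₁).1 := by
      intro s hs n n' hn
      rw [cjI_apply, cjI_apply]
      apply hθ₁ s hs
      rw [cE_coe', cE_coe', hn]
      have h3 : c * s = s * c := ((hC c).mp hc).2 s hs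
      have h4 : s⁻¹ * c⁻¹ = c⁻¹ * s⁻¹ := by rw [← mul_inv_rev, ← mul_inv_rev, h3]
      calc c * (s * n * s⁻¹) * c⁻¹ = (c * s) * n * (s⁻¹ * c⁻¹) := by group
        _ = (s * c) * n * (c⁻¹ * s⁻¹) := by rw [h3, h4]
        _ = s * (c * n * c⁻¹) * s⁻¹ := by group
    have h3 : ci (resS hMN (cjI N hcN θ₁).1) γ.1 = m₁ := by
      rw [hcγ, cjI_coe, ci_cjS hMN hcN (hCM hc)]
      exact hm₁'
    obtain ⟨m, hm, hpm⟩ := hγ
    have h4 : cjI N hcN θ₁ = θ := gcN.inj _ θ h2 hθ γ m₁ m (by rw [← h3, ci_eq]; rfl) hpm₁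
      (by rw [← hm, ci_eq]; rfl) hpm
    rw [← h4, ← cjI_of_mem hcG hcG' χ, cjI_coe, cjI_coe, ci_cjS hNG hcG' hcN]
    exact hne

/-- Hypotheses for the correspondence. -/
def Ok (S G C : Subgroup Γ) : Prop := S ≤ Subgroup.normalizer (G : Set Γ) ∧
  Nat.Coprime (Nat.card G) (Nat.card S) ∧ ∀ x, x ∈ C ↔ x ∈ G ∧ ∀ s ∈ S, x * s = s * x

/-- A solvable Glauberman correspondence. -/
structure SC (S : Subgroup Γ) [Finite Γ]
    (R : ∀ G C : Subgroup Γ, IrrCharacter G → IrrCharacter C → Prop) : Prop where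
  inv : ∀ G C, Ok S G C → ∀ χ β, R G C χ β → InvF G S χ.1
  exu : ∀ G C, Ok S G C → ∀ χ : IrrCharacter G, InvF G S χ.1 → ∃! β, R G C χ β
  inj : ∀ G C, Ok S G C → ∀ χ χ' β, R G C χ β → R G C χ' β → χ = χ'
  surj : ∀ G C, Ok S G C → ∀ β, ∃ χ, R G C χ β
  cjj : ∀ G C, Ok S G C → ∀ (x : Γ) (hxG : x ∈ Subgroup.normalizer (G : Set Γ))
    (_ : x ∈ Subgroup.normalizer (S : Set Γ)) (hxC : x ∈ Subgroup.normalizer (C : Set Γ)) χ β,
    R G C χ β → R G C (cjI G hxG χ) (cjI C hxC β)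
  compat : ∀ G C, Ok S G C → ∀ N M, Ok S N M → ∀ (hNG : N ≤ G) (hMC : M ≤ C),
    G ≤ Subgroup.normalizer (N : Set Γ) → ∀ χ β θ γ, R G C χ β → R N M θ γ →
      (ci (resS hNG χ.1) θ.1 ≠ 0 ↔ ci (resS hMC β.1) γ.1 ≠ 0)

/-- A nontrivial solvable group has a nontrivial `p`-quotient. -/
theorem exists_pResidual_ne_top {L : Type*} [Group L] [Finite L] [Nontrivial L]
    (hs : Group.IsSolvable L) : ∃ p : ℕ, p.Prime ∧ pResidual p L ≠ ⊤ := by
  have h1 : commutator L ≠ ⊤ := (Group.IsSolvable.commutator_lt_top_of_nontrivial L).ne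
  have hnt : Nontrivial (Abelianization L) := by
    rw [← not_subsingleton_iff_nontrivial]
    intro hsub
    apply h1
    rw [Subgroup.eq_top_iff']
    intro x
    have h2 : Abelianization.of x = 1 := Subsingleton.elim _ _
    rwa [← MonoidHom.mem_ker, Abelianization.ker_of] at h2
  have hfin : Finite (Abelianization L) := Quotient.finite _
  have hcard : Nat.card (Abelianization L) ≠ 1 := by
    have := Finite.one_lt_card (α := Abelianization L)
    omega
  obtain ⟨p, hp, hpd⟩ := Nat.exists_prime_and_dvd hcard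
  haveI := Fact.mk hp
  refine ⟨p, hp, ?_⟩
  set n := Nat.card (Abelianization L) with hn
  have hn0 : n ≠ 0 := Nat.card_pos.ne'
  set m := n / p ^ n.factorization p with hm
  have hmn : m * p ^ n.factorization p = n := by
    rw [mul_comm]; exact Nat.ordProj_mul_ordCompl_eq_self n p
  set f : L →* Abelianization L := (powMonoidHom m).comp Abelianization.of with hf
  have hfx : ∀ x, f x = (Abelianization.of x) ^ m := fun _ => rfl
  obtain ⟨y, hy⟩ := exists_prime_orderOf_dvd_card' p hpd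
  obtain ⟨z, hz⟩ := QuotientGroup.mk_surjective (s := commutator L) y
  have hker : f.ker ≠ ⊤ := by
    intro h
    have h2 : z ∈ f.ker := by rw [h]; exact Subgroup.mem_top z
    rw [MonoidHom.mem_ker, hfx] at h2
    have h3 : (Abelianization.of z) = y := hz
    rw [h3, ← orderOf_dvd_iff_pow_eq_one, hy] at h2
    exact Nat.not_dvd_ordCompl hp hn0 h2
  intro htop
  apply hker
  rw [eq_top_iff, ← htop]
  apply PRes.le_of_isPGroup_quot
  intro q
  obtain ⟨x, rfl⟩ := QuotientGroup.mk_surjective q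
  refine ⟨n.factorization p, ?_⟩
  rw [← QuotientGroup.mk_pow, QuotientGroup.eq_one_iff, MonoidHom.mem_ker, map_pow, hfx,
    ← pow_mul, hmn]
  exact pow_card_eq_one'

theorem sc_bot [Finite Γ] : SC (⊥ : Subgroup Γ) (fun G C χ β =>
    ∃ h : ∀ c : C, (c : Γ) ∈ G, ∀ c, β.1 c = χ.1 ⟨c, h c⟩) := by
  have hCG : ∀ G C : Subgroup Γ, Ok ⊥ G C → C = G := by
    intro G C h
    ext x
    rw [h.2.2 x]
    simp
  have hR : ∀ (G : Subgroup Γ) (χ β : IrrCharacter G),
      (∃ h : ∀ c : G, (c : Γ) ∈ G, ∀ c, β.1 c = χ.1 ⟨c, h c⟩) ↔ β = χ := by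
    intro G χ β
    constructor
    · rintro ⟨h, h'⟩
      apply Subtype.ext
      funext c
      exact h' c
    · rintro rfl
      exact ⟨fun c => c.2, fun c => rfl⟩
  constructor
  · intro G C hok χ β _ s hs g g' hg
    rw [Subgroup.mem_bot] at hs
    subst hs
    have e : g' = g := Subtype.ext (by rw [hg]; group)
    rw [e]
  · intro G C hok χ _
    have := hCG G C hok
    subst this
    simp only [hR]
    exact ⟨χ, rfl, fun _ h => h⟩
  · intro G C hok χ χ' β h h'
    have := hCG G C hok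
    subst this
    rw [hR] at h h'
    exact h.symm.trans h'
  · intro G C hok β
    have := hCG G C hok
    subst this
    exact ⟨β, (hR _ _ _).mpr rfl⟩
  · intro G C hok x hxG _ hxC χ β h
    have := hCG G C hok
    subst this
    rw [hR] at h ⊢
    rw [h]
  · intro G C hok N M hok' hNG hMC _ χ β θ γ h h'
    have := hCG G C hok
    subst this
    have := hCG N M hok'
    subst this
    rw [hR] at h h'
    rw [h, h']

/-- The solvable Glauberman correspondence. -/
theorem exists_SC [Finite Γ] : ∀ (n : ℕ) (S : Subgroup Γ), Nat.card S = n →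
    Group.IsSolvable S → ∃ R, SC S R := by
  classical
  intro n
  induction n using Nat.strong_induction_on with
  | _ n ih =>
    intro S hn hsolv
    by_cases hS1 : Nat.card S = 1
    · have hSbot : S = ⊥ := Subgroup.card_eq_one.mp hS1
      subst hSbot
      exact ⟨_, sc_bot⟩
    have hntS : Nontrivial S := by
      rw [← Finite.one_lt_card_iff_nontrivial]
      have := Nat.card_pos (α := S)
      omega
    obtain ⟨p, hp, hpT⟩ := exists_pResidual_ne_top hsolv
    haveI := Fact.mk hp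
    set T₀ := pResidual p S with hT₀
    set T := T₀.map S.subtype with hT
    have hTS : T ≤ S := Subgroup.map_subtype_le T₀
    have hTmem : ∀ s (hs : s ∈ S), s ∈ T ↔ (⟨s, hs⟩ : S) ∈ T₀ := by
      intro s hs
      constructor
      · rintro ⟨x, hx, hxs⟩
        have : x = ⟨s, hs⟩ := Subtype.ext hxs
        rwa [← this]
      · intro h
        exact ⟨_, h, rfl⟩
    have hTcard : Nat.card T < n := by
      rw [← hn]
      by_contra hcon
      have h1 : T = S := Subgroup.eq_of_le_of_card_ge hTS (not_lt.mp hcon)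
      apply hpT
      rw [Subgroup.eq_top_iff']
      rintro ⟨s, hs⟩
      rw [← hTmem s hs, h1]
      exact hs
    have hTchar : Subgroup.normalizer (S : Set Γ) ≤ Subgroup.normalizer (T : Set Γ) := by
      apply le_normalizer_of
      rintro x hx _ ⟨y, hy, rfl⟩
      have h1 := PRes.map_equiv (p := p) (cE S hx)
      have h2 : cE S hx y ∈ T₀ := by
        rw [hT₀, ← h1]
        exact ⟨y, hy, rfl⟩
      exact ⟨_, h2, rfl⟩
    obtain ⟨P₀⟩ := (inferInstance : Nonempty (Sylow p S))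
    set P := (P₀ : Subgroup S).map S.subtype with hPdef
    have hPS : P ≤ S := Subgroup.map_subtype_le _
    have hPp : IsPGroup p P := P₀.isPGroup'.map _
    have hgen : ∀ s ∈ S, ∃ a ∈ T, ∃ t ∈ P, s = a * t := by
      intro s hs
      obtain ⟨a, ha, t, ht, h⟩ := PRes.exists_mul (p := p) (G := S) (T := (P₀ : Subgroup S))
        P₀.not_dvd_index ⟨s, hs⟩
      exact ⟨a, ⟨a, ha, rfl⟩, t, ⟨t, ht, rfl⟩, congrArg Subtype.val h⟩
    have hpS : p ∣ Nat.card S := by
      by_contra hcon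
      apply hpT
      rw [Subgroup.eq_top_iff']
      intro s
      apply PRes.mem_of_coprime
      rw [Nat.coprime_comm, hp.coprime_iff_not_dvd]
      intro h
      exact hcon (h.trans (orderOf_dvd_natCard s))
    have hpP : p ∣ Nat.card P := by
      have h1 : Nat.card P = Nat.card (P₀ : Subgroup S) :=
        (Nat.card_congr ((P₀ : Subgroup S).equivMapOfInjective _ S.subtype_injective).toEquiv).symm
      rw [h1]
      exact P₀.dvd_card_of_dvd_card hpS
    have hTsolv : Group.IsSolvable T := SchurZas.isSolvable_of_le hTS hsolv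
    obtain ⟨R, hR⟩ := ih _ hTcard T rfl hTsolv
    -- facts on fixed points
    have hD : ∀ G : Subgroup Γ, ∀ x, x ∈ G ⊓ Subgroup.centralizer (T : Set Γ) ↔
        x ∈ G ∧ ∀ s ∈ T, x * s = s * x := by
      intro G x
      rw [Subgroup.mem_inf, Subgroup.mem_centralizer_iff]
      exact and_congr_right fun _ => forall₂_congr fun s _ => eq_comm
    have hOkT : ∀ G C, Ok S G C → Ok T G (G ⊓ Subgroup.centralizer (T : Set Γ)) := by
      intro G C h
      exact ⟨hTS.trans h.1, h.2.1.coprime_dvd_right (Subgroup.card_dvd_of_le hTS), hD G⟩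
    have hxD : ∀ (G : Subgroup Γ) (x : Γ), x ∈ Subgroup.normalizer (G : Set Γ) →
        x ∈ Subgroup.normalizer (S : Set Γ) →
        x ∈ Subgroup.normalizer ((G ⊓ Subgroup.centralizer (T : Set Γ) : Subgroup Γ) : Set Γ) := by
      intro G x hxG hxS
      have key : ∀ y, y ∈ Subgroup.normalizer (G : Set Γ) → y ∈ Subgroup.normalizer (S : Set Γ) →
          ∀ g, g ∈ G ⊓ Subgroup.centralizer (T : Set Γ) →
            y * g * y⁻¹ ∈ G ⊓ Subgroup.centralizer (T : Set Γ) := by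
        intro y hyG hyS g hg
        rw [hD] at hg ⊢
        refine ⟨(Subgroup.mem_normalizer_iff.mp hyG g).mp hg.1, fun s hs => ?_⟩
        have h1 : y⁻¹ * s * y ∈ T := by
          have := (Subgroup.mem_normalizer_iff.mp (inv_mem (hTchar hyS)) s).mp hs
          rwa [inv_inv] at this
        have h2 := hg.2 _ h1
        calc y * g * y⁻¹ * s = y * (g * (y⁻¹ * s * y)) * y⁻¹ := by group
          _ = y * ((y⁻¹ * s * y) * g) * y⁻¹ := by rw [h2]
          _ = s * (y * g * y⁻¹) := by group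
      rw [Subgroup.mem_normalizer_iff]
      intro g
      refine ⟨key x hxG hxS g, fun h => ?_⟩
      have := key x⁻¹ (inv_mem hxG) (inv_mem hxS) _ h
      have e : x⁻¹ * (x * g * x⁻¹) * x⁻¹⁻¹ = g := by group
      rwa [e] at this
    have hSD : ∀ G C, Ok S G C →
        S ≤ Subgroup.normalizer ((G ⊓ Subgroup.centralizer (T : Set Γ) : Subgroup Γ) : Set Γ) :=
      fun G C h s hs => hxD G s (h.1 hs) (Subgroup.le_normalizer hs)
    have hCD : ∀ G C, Ok S G C → C ≤ G ⊓ Subgroup.centralizer (T : Set Γ) := by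
      intro G C h x hx
      rw [hD]
      exact ⟨((h.2.2 x).mp hx).1, fun s hs => ((h.2.2 x).mp hx).2 s (hTS hs)⟩
    have hCP : ∀ G C, Ok S G C → ∀ x, x ∈ C ↔
        x ∈ G ⊓ Subgroup.centralizer (T : Set Γ) ∧ ∀ s ∈ P, x * s = s * x := by
      intro G C h x
      constructor
      · intro hx
        exact ⟨hCD G C h hx, fun s hs => ((h.2.2 x).mp hx).2 s (hPS hs)⟩
      · rintro ⟨hx, hx'⟩
        rw [hD] at hx
        rw [h.2.2]
        refine ⟨hx.1, fun s hs => ?_⟩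
        obtain ⟨a, ha, t, ht, rfl⟩ := hgen s hs
        have h1 : Commute x a := hx.2 a ha
        have h2 : Commute x t := hx' t ht
        exact (h1.mul_right h2).eq
    -- `S`-invariance on `D` is `P`-invariance
    have hinvD : ∀ (G : Subgroup Γ) (θ : (G ⊓ Subgroup.centralizer (T : Set Γ) : Subgroup Γ) → ℂ),
        P ≤ Subgroup.normalizer ((G ⊓ Subgroup.centralizer (T : Set Γ) : Subgroup Γ) : Set Γ) →
        (InvF _ P θ ↔ InvF _ S θ) := by
      intro G θ hPD
      constructor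
      · intro h s hs g g' hg
        obtain ⟨a, ha, t, ht, rfl⟩ := hgen s hs
        have h1 := ((hD G _).mp (cE _ (hPD ht) g).2).2 a ha
        rw [cE_coe'] at h1
        apply h t ht g g'
        rw [hg]
        calc a * t * g * (a * t)⁻¹ = a * (t * g * t⁻¹) * a⁻¹ := by group
          _ = (t * g * t⁻¹) * a * a⁻¹ := by rw [h1]
          _ = _ := by group
      · intro h s hs g g' hg
        exact h s (hPS hs) g g' hg
    have gcD : ∀ (G C : Subgroup Γ) [Fintype C] (h : Ok S G C),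
        GCP p (Subgroup.inclusion (hCD G C h))
        (InvF (G ⊓ Subgroup.centralizer (T : Set Γ)) P) := by
      intro G C _ h
      exact gc hp _ (Nat.card P) P C rfl hPp (hPS.trans (hSD G C h))
        ((h.2.1.coprime_dvd_right (Subgroup.card_dvd_of_le hPS)).coprime_dvd_left
          (Subgroup.card_dvd_of_le inf_le_left)) (hCP G C h) _
    -- equivariance
    have hequiv : ∀ G C, Ok S G C → ∀ (χ : IrrCharacter G)
        (θ : IrrCharacter (G ⊓ Subgroup.centralizer (T : Set Γ) : Subgroup Γ)),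
        R G (G ⊓ Subgroup.centralizer (T : Set Γ)) χ θ → (InvF G S χ.1 ↔ InvF _ S θ.1) := by
      intro G C h χ θ hR'
      rw [invI_iff h.1, invI_iff (hSD G C h)]
      constructor
      · intro hinv s hs
        have h1 := hR.cjj G _ (hOkT G C h) s (h.1 hs) (hTchar (Subgroup.le_normalizer hs))
          (hSD G C h hs) χ θ hR'
        rw [hinv s hs] at h1
        exact (hR.exu G _ (hOkT G C h) χ (hR.inv G _ (hOkT G C h) χ θ hR')).unique h1 hR'
      · intro hinv s hs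
        have h1 := hR.cjj G _ (hOkT G C h) s (h.1 hs) (hTchar (Subgroup.le_normalizer hs))
          (hSD G C h hs) χ θ hR'
        rw [hinv s hs] at h1
        exact hR.inj G _ (hOkT G C h) _ _ θ h1 hR'
    refine ⟨fun G C χ β => ∃ θ : IrrCharacter (G ⊓ Subgroup.centralizer (T : Set Γ) : Subgroup Γ),
      R G (G ⊓ Subgroup.centralizer (T : Set Γ)) χ θ ∧ InvF _ S θ.1 ∧
      ∃ (h : C ≤ G ⊓ Subgroup.centralizer (T : Set Γ)) (m : ℕ), ci (resS h θ.1) β.1 = m ∧ ¬ p ∣ m,
      ?_⟩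
    constructor
    · rintro G C h χ β ⟨θ, hθ, hinv, -⟩
      exact (hequiv G C h χ θ hθ).mpr hinv
    · intro G C h χ hχ
      have : Fintype C := Fintype.ofFinite _
      have hχT : InvF G T χ.1 := fun s hs => hχ s (hTS hs)
      obtain ⟨θ, hθ, hθu⟩ := hR.exu G _ (hOkT G C h) χ hχT
      have hinv := (hequiv G C h χ θ hθ).mp hχ
      obtain ⟨β, ⟨m, hm, hpm⟩, hβu⟩ := (gcD G C h).exu θ
        ((hinvD G θ.1 (hPS.trans (hSD G C h))).mpr hinv)
      refine ⟨β, ⟨θ, hθ, hinv, hCD G C h, m, by rw [← hm, ci_eq]; rfl, hpm⟩, ?_⟩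
      rintro β' ⟨θ', hθ', hinv', hCD', m', hm', hpm'⟩
      have h1 := hθu θ' hθ'
      subst h1
      exact hβu β' ⟨m', by rw [← hm', ci_eq]; rfl, hpm'⟩
    · rintro G C h χ χ' β ⟨θ, hθ, hinv, hCD₁, m, hm, hpm⟩ ⟨θ', hθ', hinv', hCD', m', hm', hpm'⟩
      have : Fintype C := Fintype.ofFinite _
      have h1 : θ = θ' := (gcD G C h).inj θ θ'
        ((hinvD G θ.1 (hPS.trans (hSD G C h))).mpr hinv)
        ((hinvD G θ'.1 (hPS.trans (hSD G C h))).mpr hinv') β m m' (by rw [← hm, ci_eq]; rfl) hpm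
        (by rw [← hm', ci_eq]; rfl) hpm'
      subst h1
      exact hR.inj G _ (hOkT G C h) χ χ' θ hθ hθ'
    · intro G C h β
      have : Fintype C := Fintype.ofFinite _
      obtain ⟨θ, hinv, m, hm, hpm⟩ := (gcD G C h).surj β
      obtain ⟨χ, hχ⟩ := hR.surj G _ (hOkT G C h) θ
      exact ⟨χ, θ, hχ, (hinvD G θ.1 (hPS.trans (hSD G C h))).mp hinv, hCD G C h, m,
        by rw [← hm, ci_eq]; rfl, hpm⟩
    · rintro G C h x hxG hxS hxC χ β ⟨θ, hθ, hinv, hCD₁, m, hm, hpm⟩
      have hxD' := hxD G x hxG hxS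
      refine ⟨cjI _ hxD' θ, hR.cjj G _ (hOkT G C h) x hxG (hTchar hxS) hxD' χ θ hθ, ?_, hCD₁, m,
        ?_, hpm⟩
      · intro s hs g g' hg
        rw [cjI_apply, cjI_apply]
        apply hinv (x * s * x⁻¹) ((Subgroup.mem_normalizer_iff.mp hxS s).mp hs)
        rw [cE_coe', cE_coe', hg]
        group
      · rw [cjI_coe, cjI_coe, ci_cjS hCD₁ hxD' hxC, hm]
    · rintro G C h N M h' hNG hMC hGN χ β θ γ ⟨φ, hφ, hinv, hCD₁, hm⟩ ⟨φ', hφ', hinv', hCD₂, hm'⟩
      have hDD : N ⊓ Subgroup.centralizer (T : Set Γ) ≤ G ⊓ Subgroup.centralizer (T : Set Γ) :=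
        inf_le_inf_right _ hNG
      rw [hR.compat G _ (hOkT G C h) N _ (hOkT N M h') hNG hDD hGN χ φ θ φ' hφ hφ']
      have hDN : G ⊓ Subgroup.centralizer (T : Set Γ) ≤
          Subgroup.normalizer ((N ⊓ Subgroup.centralizer (T : Set Γ) : Subgroup Γ) : Set Γ) :=
        centralizer_normalizes (S := T) hGN (hD G) (hD N)
      exact compat_p hp hPp (hPS.trans (hSD G C h)) (hPS.trans (hSD N M h')) hDD hDN
        ((h.2.1.coprime_dvd_right (Subgroup.card_dvd_of_le hPS)).coprime_dvd_left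
          (Subgroup.card_dvd_of_le inf_le_left)) hpP (hCP G C h) (hCP N M h') hCD₁ hCD₂ hMC
        φ ((hinvD G φ.1 (hPS.trans (hSD G C h))).mpr hinv)
        φ' ((hinvD N φ'.1 (hPS.trans (hSD N M h'))).mpr hinv') β γ hm hm'

end

end Cfsg.Agent.Lib.CharCo
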