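import Cfsg.Agent.Lib.CharCo

set_option autoImplicit false

/-!
# Coprime action of solvable groups on characters: consequences
-/

namespace Cfsg.Agent.Lib.CharCoB

open Cfsg Cfsg.Agent.Lib.CharBasic Cfsg.Agent.Lib.CharNormal Cfsg.Agent.Lib.CharClifford
open Cfsg.Agent.Lib.CharThompson Cfsg.Agent.Lib.CharGC Cfsg.Agent.Lib.CharCo
open scoped ComplexConjugate

noncomputable section

theorem card_of_rel {α β : Type*} {P : α → Prop} {R : α → β → Prop}
    (h1 : ∀ a b, R a b → P a) (h2 : ∀ a, P a → ∃! b, R a b) (h3 : ∀ a a' b, R a b → R a' b → a = a')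
    (h4 : ∀ b, ∃ a, R a b) : Nat.card {a : α // P a} = Nat.card β := by
  choose f hf using fun a : {a : α // P a} => (h2 a.1 a.2).exists
  apply Nat.card_congr
  refine Equiv.ofBijective f ⟨?_, ?_⟩
  · intro a b hab
    apply Subtype.ext
    exact h3 _ _ _ (hf a) (hab ▸ hf b)
  · intro b
    obtain ⟨a, ha⟩ := h4 b
    exact ⟨⟨a, h1 a b ha⟩, (h2 a (h1 a b ha)).unique (hf ⟨a, h1 a b ha⟩) ha⟩

variable {Γ : Type*} [Group Γ] [Finite Γ]

theorem card_inv_irr {S G C : Subgroup Γ} (hok : Ok S G C) (hsolv : Group.IsSolvable S) :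
    Nat.card {χ : IrrCharacter G // InvF G S χ.1} = Nat.card (IrrCharacter C) := by
  obtain ⟨R, hR⟩ := exists_SC _ S rfl hsolv
  exact card_of_rel (R := R G C) (fun χ β h => hR.inv G C hok χ β h) (hR.exu G C hok)
    (hR.inj G C hok) (hR.surj G C hok)

/-- The type `Γ` with the conjugation action. -/
def Cj (Γ : Type*) : Type _ := Γ

instance instMulActionCj (Γ : Type*) [Group Γ] : MulAction Γ (Cj Γ) where
  smul g x := (g * (show Γ from x) * g⁻¹ : Γ)
  one_smul x := by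
    have key : ∀ y : Γ, 1 * y * (1 : Γ)⁻¹ = y := fun y => by group
    exact key x
  mul_smul g h x := by
    have key : ∀ y : Γ, g * h * y * (g * h)⁻¹ = g * (h * y * h⁻¹) * g⁻¹ := fun y => by group
    exact key x

omit [Finite Γ] in
theorem cj_smul_def (g x : Γ) : (g • (show Cj Γ from x) : Cj Γ) = (g * x * g⁻¹ : Γ) := rfl

theorem card_inv_classes {S G C : Subgroup Γ} (hok : Ok S G C) (hsolv : Group.IsSolvable S) :
    Nat.card {K : ConjClasses G // ∀ s ∈ S, ∀ g g' : G, (g' : Γ) = s * g * s⁻¹ →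
      ConjClasses.mk g = K → ConjClasses.mk g' = K} = Nat.card (ConjClasses C) := by
  symm
  obtain ⟨hSG, hcop, hC⟩ := hok
  have hCG : C ≤ G := fun x hx => ((hC x).mp hx).1
  have hSn : ∀ s ∈ S, ∀ g ∈ G, s * g * s⁻¹ ∈ G := fun s hs g hg =>
    (Subgroup.mem_normalizer_iff.mp (hSG hs) g).mp hg
  have hcoe : ∀ a b : G, IsConj a b ↔ ∃ k ∈ G, k * (a : Γ) * k⁻¹ = b := by
    intro a b
    rw [isConj_iff]
    constructor
    · rintro ⟨k, hk⟩
      exact ⟨k, k.2, congrArg Subtype.val hk⟩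
    · rintro ⟨k, hk, h⟩
      exact ⟨⟨k, hk⟩, Subtype.ext h⟩
  have hcoeC : ∀ a b : C, IsConj a b ↔ ∃ k ∈ C, k * (a : Γ) * k⁻¹ = b := by
    intro a b
    rw [isConj_iff]
    constructor
    · rintro ⟨k, hk⟩
      exact ⟨k, k.2, congrArg Subtype.val hk⟩
    · rintro ⟨k, hk, h⟩
      exact ⟨⟨k, hk⟩, Subtype.ext h⟩
  have hfix : ∀ c ∈ C, ∀ a ∈ S, a • (show Cj Γ from c) = (show Cj Γ from c) := by
    intro c hc a ha
    rw [cj_smul_def]
    have := ((hC c).mp hc).2 a ha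
    change a * c * a⁻¹ = c
    rw [← this]; group
  apply Nat.card_congr
  refine Equiv.ofBijective (fun K => ⟨ConjClasses.map (Subgroup.inclusion hCG) K, ?_⟩) ⟨?_, ?_⟩
  · obtain ⟨c, rfl⟩ := ConjClasses.mk_surjective K
    intro s hs g g' hg hgK
    change ConjClasses.mk g = ConjClasses.mk (Subgroup.inclusion hCG c) at hgK
    change ConjClasses.mk g' = ConjClasses.mk (Subgroup.inclusion hCG c)
    rw [ConjClasses.mk_eq_mk_iff_isConj, hcoe] at hgK
    rw [ConjClasses.mk_eq_mk_iff_isConj, hcoe]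
    obtain ⟨k, hk, hkg⟩ := hgK
    refine ⟨s * k * s⁻¹, hSn s hs k hk, ?_⟩
    have h1 : (c : Γ) = s * c * s⁻¹ := by
      have := ((hC c).mp c.2).2 s hs
      rw [← this]; group
    rw [hg]
    change _ = (c : Γ)
    change k * (g : Γ) * k⁻¹ = c at hkg
    rw [h1, ← hkg]
    group
  · intro K L hKL
    obtain ⟨a, rfl⟩ := ConjClasses.mk_surjective K
    obtain ⟨b, rfl⟩ := ConjClasses.mk_surjective L
    have h1 := congrArg Subtype.val hKL
    change ConjClasses.mk (Subgroup.inclusion hCG a) = ConjClasses.mk (Subgroup.inclusion hCG b)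
      at h1
    rw [ConjClasses.mk_eq_mk_iff_isConj, hcoe] at h1
    rw [ConjClasses.mk_eq_mk_iff_isConj, hcoeC]
    obtain ⟨k, hk, hkab⟩ := h1
    obtain ⟨c, hc, hcab⟩ := GlaubLemma.fixed_conj (Ω := Cj Γ) hSG hcop.symm (Or.inl hsolv)
      (x := (show Cj Γ from (a : Γ))) (y := (show Cj Γ from (b : Γ))) (hfix a a.2) (hfix b b.2)
      ⟨k, hk, hkab⟩
    refine ⟨c, ?_, hcab⟩
    rw [hC]
    exact ⟨hc.1, fun s hs => ((Subgroup.mem_centralizer_iff.mp hc.2) s hs).symm⟩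
  · rintro ⟨K, hK⟩
    obtain ⟨g, rfl⟩ := ConjClasses.mk_surjective K
    obtain ⟨k, hk, hfx⟩ := GlaubLemma.exists_fixed (Ω := Cj Γ) hSG hcop.symm (Or.inl hsolv)
      (show Cj Γ from (g : Γ)) (by
        intro s hs
        have h1 := hK s hs g ⟨s * g * s⁻¹, hSn s hs g g.2⟩ rfl rfl
        rw [ConjClasses.mk_eq_mk_iff_isConj] at h1
        obtain ⟨k, hk, h2⟩ := (hcoe _ _).mp h1.symm
        exact ⟨k, hk, h2.symm⟩)
    have h1 : k * (g : Γ) * k⁻¹ ∈ C := by
      rw [hC]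
      refine ⟨G.mul_mem (G.mul_mem hk g.2) (G.inv_mem hk), fun s hs => ?_⟩
      have h2 : s * (k * (g : Γ) * k⁻¹) * s⁻¹ = k * (g : Γ) * k⁻¹ := hfx s hs
      calc k * (g : Γ) * k⁻¹ * s = s * (k * (g : Γ) * k⁻¹) * s⁻¹ * s := by rw [h2]
        _ = _ := by group
    refine ⟨ConjClasses.mk ⟨_, h1⟩, ?_⟩
    apply Subtype.ext
    change ConjClasses.mk (Subgroup.inclusion hCG ⟨_, h1⟩) = ConjClasses.mk g
    rw [ConjClasses.mk_eq_mk_iff_isConj]
    exact ((hcoe _ _).mpr ⟨k, hk, rfl⟩).symm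

/-- There is an irreducible character above. -/
theorem exists_above {M C : Subgroup Γ} (hMC : M ≤ C) (γ : IrrCharacter M) :
    ∃ β : IrrCharacter C, ci (resS hMC β.1) γ.1 ≠ 0 := by
  have : Fintype M := Fintype.ofFinite _
  have : Fintype C := Fintype.ofFinite _
  have : Fintype (M.subgroupOf C) := Fintype.ofFinite _
  set θ₁ : M.subgroupOf C → ℂ := fun n => γ.1 ⟨((n : C) : Γ), Subgroup.mem_subgroupOf.mp n.2⟩
    with hθ₁
  have h1 : IsIrrCharacter (M.subgroupOf C) θ₁ := (isIrr_subgroupOf_iff hMC γ.1).mpr γ.2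
  have h2 : IsCharacter C (indFun (M.subgroupOf C) θ₁) := CharInd.isChar_ind _ (isChar_of_irr h1)
  have h3 : indFun (M.subgroupOf C) θ₁ ≠ 0 := by
    intro h
    have h4 := congrFun h 1
    rw [CharInd.indFun_one] at h4
    obtain ⟨n, hn, hn'⟩ := isIrr_one_eq h1
    rw [hn'] at h4
    have h5 : ((M.subgroupOf C).index : ℂ) ≠ 0 :=
      Nat.cast_ne_zero.mpr Subgroup.index_ne_zero_of_finite
    exact mul_ne_zero h5 (Nat.cast_ne_zero.mpr hn.ne') h4
  obtain ⟨β, hβ⟩ := char_ne_zero_exists_constituent h2 h3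
  refine ⟨β, ?_⟩
  rw [CharInd.reciprocity _ _ _ (isChar_classFn (isChar_of_irr β.2)), ← classInner_conj_symm] at hβ
  have h4 := inner_subgroupOf hMC (resS hMC β.1) γ.1
  rw [ci_eq, ← h4]
  intro h5
  apply hβ
  have h6 : classInner (fun h : M.subgroupOf C => β.1 h) θ₁ = 0 := h5
  rw [h6, map_zero]

/-- Invariant characters above invariant characters. -/
theorem exists_inv_above {S G N : Subgroup Γ} (hsolv : Group.IsSolvable S)
    (hSG : S ≤ Subgroup.normalizer (G : Set Γ)) (hSN : S ≤ Subgroup.normalizer (N : Set Γ))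
    (hNG : N ≤ G) (hGN : G ≤ Subgroup.normalizer (N : Set Γ))
    (hcop : (Nat.card G).Coprime (Nat.card S)) (θ : IrrCharacter N) (hθ : InvF N S θ.1) :
    ∃ χ : IrrCharacter G, InvF G S χ.1 ∧ ci (resS hNG χ.1) θ.1 ≠ 0 := by
  set C : Subgroup Γ := G ⊓ Subgroup.centralizer (S : Set Γ) with hC
  set M : Subgroup Γ := N ⊓ Subgroup.centralizer (S : Set Γ) with hM
  have hok : Ok S G C := by
    refine ⟨hSG, hcop, fun x => ?_⟩
    rw [hC, Subgroup.mem_inf, Subgroup.mem_centralizer_iff]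
    exact and_congr_right fun _ => forall₂_congr fun s _ => eq_comm
  have hok' : Ok S N M := by
    refine ⟨hSN, hcop.coprime_dvd_left (Subgroup.card_dvd_of_le hNG), fun x => ?_⟩
    rw [hM, Subgroup.mem_inf, Subgroup.mem_centralizer_iff]
    exact and_congr_right fun _ => forall₂_congr fun s _ => eq_comm
  have hMC : M ≤ C := inf_le_inf_right _ hNG
  obtain ⟨R, hR⟩ := exists_SC _ S rfl hsolv
  obtain ⟨γ, hγ, -⟩ := hR.exu N M hok' θ hθ
  obtain ⟨β, hβ⟩ := exists_above hMC γ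
  obtain ⟨χ, hχ⟩ := hR.surj G C hok β
  exact ⟨χ, hR.inv G C hok χ β hχ, (hR.compat G C hok N M hok' hNG hMC hGN χ β θ γ hχ hγ).mpr hβ⟩

end

end Cfsg.Agent.Lib.CharCoB
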