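import Cfsg.Agent.Lib.CharCoB
import Cfsg.Agent.Lib.CharLin
import Cfsg.Agent.Lib.CoprimeB

set_option autoImplicit false

/-!
# Glauberman's lemma and characters
-/

namespace Cfsg.Agent.Lib.CharCoC

open Cfsg Cfsg.Agent.Lib.CharBasic Cfsg.Agent.Lib.CharNormal Cfsg.Agent.Lib.CharClifford
open Cfsg.Agent.Lib.CharThompson Cfsg.Agent.Lib.CharGC Cfsg.Agent.Lib.CharCo
open Cfsg.Agent.Lib.CharCoB Cfsg.Agent.Lib.CharLin
open scoped ComplexConjugate

noncomputable section

section Lin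

variable {G : Type*} [Group G] [Finite G] {M : Subgroup G} [hM : M.Normal]

/-- Orthogonality for linear characters trivial on `M`. -/
theorem sum_lin [Fintype {l : G →* ℂˣ // ∀ m ∈ M, l m = 1}]
    (hab : ∀ a b : G, a * b * a⁻¹ * b⁻¹ ∈ M) {g : G} (hg : g ∉ M) :
    ∑ l : {l : G →* ℂˣ // ∀ m ∈ M, l m = 1}, linFn l.1 g = 0 := by
  have hcomm : ∀ a b : G ⧸ M, a * b = b * a := by
    intro a b
    obtain ⟨a, rfl⟩ := QuotientGroup.mk_surjective a
    obtain ⟨b, rfl⟩ := QuotientGroup.mk_surjective b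
    rw [← QuotientGroup.mk_mul, ← QuotientGroup.mk_mul, eq_comm, QuotientGroup.eq]
    have := hab a⁻¹ b⁻¹
    have e : (b * a)⁻¹ * (a * b) = a⁻¹ * b⁻¹ * a⁻¹⁻¹ * b⁻¹⁻¹ := by group
    rw [e]; exact this
  have hgM : (g : G ⧸ M) ≠ 1 := fun h => hg ((QuotientGroup.eq_one_iff g).mp h)
  obtain ⟨l₀, hl₀⟩ := exists_lin_ne_one_of_comm hcomm hgM
  set l₁ : G →* ℂˣ := l₀.comp (QuotientGroup.mk' M) with hl₁
  have hl₁M : ∀ m ∈ M, l₁ m = 1 := by
    intro m hm
    rw [hl₁, MonoidHom.comp_apply, QuotientGroup.mk'_apply, (QuotientGroup.eq_one_iff m).mpr hm,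
      map_one]
  have hl₁g : (linFn l₁ g) ≠ 1 := by
    rw [linFn_apply]
    intro h
    exact hl₀ (Units.ext h)
  have h1 : ∑ l : {l : G →* ℂˣ // ∀ m ∈ M, l m = 1}, linFn l.1 g =
      linFn l₁ g * ∑ l : {l : G →* ℂˣ // ∀ m ∈ M, l m = 1}, linFn l.1 g := by
    rw [Finset.mul_sum]
    let e : {l : G →* ℂˣ // ∀ m ∈ M, l m = 1} ≃ {l : G →* ℂˣ // ∀ m ∈ M, l m = 1} :=
      { toFun := fun l => ⟨l₁ * l.1, fun m hm => by
          rw [MonoidHom.mul_apply, hl₁M m hm, l.2 m hm, one_mul]⟩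
        invFun := fun l => ⟨l₁⁻¹ * l.1, fun m hm => by
          rw [MonoidHom.mul_apply, MonoidHom.inv_apply, hl₁M m hm, l.2 m hm, inv_one, one_mul]⟩
        left_inv := fun l => by
          apply Subtype.ext
          ext g
          simp
        right_inv := fun l => by
          apply Subtype.ext
          ext g
          simp }
    refine (Fintype.sum_equiv e _ _ fun l => ?_).symm
    change linFn l₁ g * linFn l.1 g = linFn (l₁ * l.1) g
    rw [linFn_mul]; rfl
  have h2 : (1 - linFn l₁ g) * ∑ l : {l : G →* ℂˣ // ∀ m ∈ M, l m = 1}, linFn l.1 g = 0 := by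
    rw [sub_mul, one_mul, ← h1, sub_self]
  rcases mul_eq_zero.mp h2 with h3 | h3
  · exact absurd (by linear_combination -h3) hl₁g
  · exact h3

theorem lin_transitive (hab : ∀ a b : G, a * b * a⁻¹ * b⁻¹ ∈ M) {χ₀ χ₁ : G → ℂ}
    (h0 : IsIrrCharacter G χ₀) (h1 : IsIrrCharacter G χ₁) (ψ : IrrCharacter M)
    (hψ0 : ci (fun m : M => χ₀ m) ψ.1 ≠ 0) (hψ1 : ci (fun m : M => χ₁ m) ψ.1 ≠ 0) :
    ∃ l : G →* ℂˣ, (∀ m ∈ M, l m = 1) ∧ χ₁ = linFn l * χ₀ := by
  classical
  have : Fintype G := Fintype.ofFinite _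
  have : Fintype M := Fintype.ofFinite _
  have : Fintype {l : G →* ℂˣ // ∀ m ∈ M, l m = 1} := Fintype.ofFinite _
  by_contra hcon
  push Not at hcon
  have hz : ∀ l : {l : G →* ℂˣ // ∀ m ∈ M, l m = 1}, classInner χ₁ (linFn l.1 * χ₀) = 0 := by
    intro l
    exact irr_inner_ne h1 (isIrr_linFn_mul l.1 h0) (hcon l.1 l.2)
  have hsum : ∑ l : {l : G →* ℂˣ // ∀ m ∈ M, l m = 1}, classInner χ₁ (linFn l.1 * χ₀) =
      (Nat.card G : ℂ)⁻¹ * (Nat.card {l : G →* ℂˣ // ∀ m ∈ M, l m = 1} : ℂ) *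
        ∑ m : M, χ₁ m * conj (χ₀ m) := by
    simp only [classInner_def, Pi.mul_apply]
    rw [← Finset.mul_sum, Finset.sum_comm, mul_assoc]
    congr 1
    have h2 : ∀ g : G, ∑ l : {l : G →* ℂˣ // ∀ m ∈ M, l m = 1}, χ₁ g * conj (linFn l.1 g * χ₀ g) =
        if g ∈ M then (Nat.card {l : G →* ℂˣ // ∀ m ∈ M, l m = 1} : ℂ) * (χ₁ g * conj (χ₀ g))
        else 0 := by
      intro g
      have h3 : ∑ l : {l : G →* ℂˣ // ∀ m ∈ M, l m = 1}, χ₁ g * conj (linFn l.1 g * χ₀ g) =
          χ₁ g * conj (χ₀ g) * conj (∑ l : {l : G →* ℂˣ // ∀ m ∈ M, l m = 1}, linFn l.1 g) := by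
        rw [map_sum, Finset.mul_sum]
        refine Finset.sum_congr rfl fun l _ => ?_
        rw [map_mul]; ring
      rw [h3]
      split_ifs with hg
      · have h4 : ∀ l : {l : G →* ℂˣ // ∀ m ∈ M, l m = 1}, linFn l.1 g = 1 := by
          intro l
          rw [linFn_apply, l.2 g hg, Units.val_one]
        simp only [h4, Finset.sum_const, Finset.card_univ, nsmul_eq_mul, mul_one, map_natCast,
          Nat.card_eq_fintype_card]
        ring
      · rw [sum_lin hab hg, map_zero, mul_zero]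
    simp only [h2]
    rw [← Finset.sum_filter, Finset.mul_sum]
    rw [← Finset.sum_subtype (Finset.univ.filter (fun g : G => g ∈ M)) (by simp)
      (fun g => (Nat.card {l : G →* ℂˣ // ∀ m ∈ M, l m = 1} : ℂ) * (χ₁ g * conj (χ₀ g)))]
  rw [Finset.sum_eq_zero (fun l _ => hz l)] at hsum
  have h3 : ∑ m : M, χ₁ m * conj (χ₀ m) = 0 := by
    rcases mul_eq_zero.mp hsum.symm with h4 | h4
    · exfalso
      rcases mul_eq_zero.mp h4 with h5 | h5
      · exact inv_ne_zero (Nat.cast_ne_zero.mpr Nat.card_pos.ne') h5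
      · have : Nonempty {l : G →* ℂˣ // ∀ m ∈ M, l m = 1} := ⟨1, fun m _ => rfl⟩
        exact Nat.cast_ne_zero.mpr Nat.card_pos.ne' h5
    · exact h4
  have h4 : classInner (fun m : M => χ₁ m) (fun m : M => χ₀ m) = 0 := by
    rw [classInner_def, h3, mul_zero]
  have c0 := CharInd.isChar_res M (isChar_of_irr h0)
  have c1 := CharInd.isChar_res M (isChar_of_irr h1)
  rw [classFn_inner_eq_sum (isChar_classFn c1) (isChar_classFn c0)] at h4
  choose a ha using fun φ : IrrCharacter M => exists_nat_inner c1 φ.2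
  choose b hb using fun φ : IrrCharacter M => exists_nat_inner c0 φ.2
  simp only [ha, hb, Complex.conj_natCast] at h4
  have h5 : ∑ φ : IrrCharacter M, a φ * b φ = 0 := by exact_mod_cast h4
  rw [Finset.sum_eq_zero_iff] at h5
  have h6 := h5 ψ (Finset.mem_univ _)
  rw [ci_eq] at hψ0 hψ1
  rw [ha] at hψ1
  rw [hb] at hψ0
  rcases mul_eq_zero.mp h6 with h7 | h7
  · rw [h7] at hψ1; simp at hψ1
  · rw [h7] at hψ0; simp at hψ0

end Lin

section Act

variable {Γ : Type*} [Group Γ] [Finite Γ]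

/-- The permutation representation on irreducible characters. -/
def perm {G S : Subgroup Γ} (hSG : S ≤ Subgroup.normalizer (G : Set Γ)) :
    S →* Equiv.Perm (IrrCharacter G) :=
  letI := actS hSG
  MulAction.toPermHom S (IrrCharacter G)

omit [Finite Γ] in
theorem perm_apply {G S : Subgroup Γ} (hSG : S ≤ Subgroup.normalizer (G : Set Γ)) (s : S)
    (χ : IrrCharacter G) : perm hSG s χ = cjI G (inv_mem (hSG s.2)) χ := rfl

theorem perm_card_dvd {G S : Subgroup Γ} (hSG : S ≤ Subgroup.normalizer (G : Set Γ))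
    (N : Subgroup Γ) (hNG : N ≤ G) :
    Nat.card (perm hSG).range ∣ N.relIndex S := by
  have h1 : Nat.card (perm hSG).range = (perm hSG).ker.index := (Subgroup.index_ker _).symm
  rw [h1]
  apply Subgroup.index_dvd_of_le
  intro s hs
  rw [MonoidHom.mem_ker]
  ext1 χ
  rw [perm_apply]
  exact cjI_of_mem (inv_mem (hNG (Subgroup.mem_subgroupOf.mp hs))) _ χ

theorem fixed_iff {G S : Subgroup Γ} (hSG : S ≤ Subgroup.normalizer (G : Set Γ))
    (χ : IrrCharacter G) : (∀ a ∈ (perm hSG).range, a • χ = χ) ↔ InvF G S χ.1 := by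
  rw [← actS_fixed_iff hSG]
  constructor
  · intro h s
    have := h (perm hSG s) ⟨s, rfl⟩
    exact this
  · rintro h _ ⟨s, rfl⟩
    exact h s

/-- Invariant constituents below. -/
theorem exists_inv_below {S G N : Subgroup Γ}
    (hSG : S ≤ Subgroup.normalizer (G : Set Γ)) (hSN : S ≤ Subgroup.normalizer (N : Set Γ))
    (hNG : N ≤ G) (hGN : G ≤ Subgroup.normalizer (N : Set Γ))
    (hcop : (N.relIndex G).Coprime (N.relIndex S))
    (hsolv : Group.IsSolvable S ∨ ∃ n, (derivedSeries G n) ≤ N.subgroupOf G)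
    (χ : IrrCharacter G) (hχ : InvF G S χ.1) :
    ∃ θ : IrrCharacter N, InvF N S θ.1 ∧ ci (resS hNG χ.1) θ.1 ≠ 0 := by
  have : Fintype N := Fintype.ofFinite _
  set A := (perm hSN).range with hA
  set K := (perm hGN).range with hK
  have hAK : A ≤ Subgroup.normalizer (K : Set (Equiv.Perm (IrrCharacter N))) := by
    apply le_normalizer_of
    rintro _ ⟨s, rfl⟩ _ ⟨g, rfl⟩
    refine ⟨⟨s * g * (s : Γ)⁻¹, (Subgroup.mem_normalizer_iff.mp (hSG s.2) g).mp g.2⟩, ?_⟩
    ext1 θ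
    rw [Equiv.Perm.mul_apply, Equiv.Perm.mul_apply, ← map_inv, perm_apply, perm_apply, perm_apply,
      perm_apply]
    apply Subtype.ext
    funext n
    refine congrArg θ.1 (Subtype.ext ?_)
    rw [cE_coe', cE_coe', cE_coe', cE_coe']
    simp [mul_assoc]
  have hcop' : (Nat.card A).Coprime (Nat.card K) := by
    apply (hcop.symm.coprime_dvd_left (perm_card_dvd hSN N le_rfl)).coprime_dvd_right
    exact perm_card_dvd hGN N le_rfl
  have hsolv' : Group.IsSolvable A ∨ Group.IsSolvable K := by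
    rcases hsolv with h | ⟨n, hn⟩
    · left
      exact Group.isSolvable_of_surjective (perm hSN).rangeRestrict_surjective
    · right
      refine ⟨⟨n, ?_⟩⟩
      have h1 := map_derivedSeries_eq (f := (perm hGN).rangeRestrict)
        (perm hGN).rangeRestrict_surjective n
      rw [← h1, Subgroup.map_eq_bot_iff, MonoidHom.ker_rangeRestrict]
      refine hn.trans ?_
      intro s hs
      rw [MonoidHom.mem_ker]
      ext1 θ
      rw [perm_apply]
      exact cjI_of_mem (inv_mem (Subgroup.mem_subgroupOf.mp hs)) _ θ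
  -- a constituent
  obtain ⟨θ, hθ⟩ := char_ne_zero_exists_constituent (resS_isChar hNG (isChar_of_irr χ.2)) (by
    intro h
    have := congrFun h 1
    obtain ⟨d, hd, hd'⟩ := isIrr_one_eq χ.2
    have h2 : resS hNG χ.1 1 = d := hd'
    rw [h2, Pi.zero_apply] at this
    exact hd.ne' (by exact_mod_cast this))
  rw [← ci_eq] at hθ
  have hkey : ∀ (g : Γ) (hgG : g ∈ Subgroup.normalizer (G : Set Γ))
      (hgN : g ∈ Subgroup.normalizer (N : Set Γ)), cjI G hgG χ = χ →
      ci (resS hNG χ.1) (cjI N hgN θ).1 = ci (resS hNG χ.1) θ.1 := by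
    intro g hgG hgN h
    have := ci_cjS hNG hgG hgN χ.1 θ.1
    rw [← cjI_coe, h] at this
    exact this
  obtain ⟨k, ⟨g, rfl⟩, hfix⟩ := GlaubLemma.exists_fixed hAK hcop' hsolv' θ (by
    rintro _ ⟨s, rfl⟩
    have h1 : cjI G (inv_mem (hSG s.2)) χ = χ := (invI_iff hSG).mp hχ _ (inv_mem s.2)
    have h2 := hkey _ (inv_mem (hSG s.2)) (inv_mem (hSN s.2)) h1
    obtain ⟨g, hg, hgθ⟩ := cl_conj hNG hGN χ.2 θ.2 (cjI N (inv_mem (hSN s.2)) θ).2 hθ
      (by rw [h2]; exact hθ)
    refine ⟨perm hGN ⟨g⁻¹, inv_mem hg⟩, ⟨_, rfl⟩, ?_⟩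
    change cjI N _ θ = cjI N _ θ
    apply Subtype.ext
    rw [hgθ]
    funext n
    refine congrArg θ.1 (Subtype.ext ?_)
    rw [cE_coe', cE_coe']
    simp)
  refine ⟨_, (fixed_iff hSN _).mp hfix, ?_⟩
  change ci (resS hNG χ.1) (cjI N _ θ).1 ≠ 0
  rw [hkey _ (Subgroup.le_normalizer (inv_mem g.2)) _ (cjI_of_mem (inv_mem g.2) _ χ)]
  exact hθ

/-- Transitivity of being a constituent. -/
theorem ci_trans {N M G : Subgroup Γ} (hNM : N ≤ M) (hMG : M ≤ G) {θ : IrrCharacter N}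
    {ψ : IrrCharacter M} {χ : IrrCharacter G} (h1 : ci (resS hNM ψ.1) θ.1 ≠ 0)
    (h2 : ci (resS hMG χ.1) ψ.1 ≠ 0) : ci (resS (hNM.trans hMG) χ.1) θ.1 ≠ 0 := by
  classical
  have : Fintype M := Fintype.ofFinite _
  have h3 : resS (hNM.trans hMG) χ.1 =
      fun x => ∑ φ : IrrCharacter M, ci (resS hMG χ.1) φ.1 * resS hNM φ.1 x := by
    funext x
    exact res_sum hMG (isChar_of_irr χ.2) (Subgroup.inclusion hNM x)
  choose a ha using fun φ : IrrCharacter M => ci_nat (resS_isChar hMG (isChar_of_irr χ.2)) φ.2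
  choose b hb using fun φ : IrrCharacter M => ci_nat (resS_isChar hNM (isChar_of_irr φ.2)) θ.2
  rw [h3, ci_sum]
  simp only [ha, hb]
  rw [ha] at h2
  rw [hb] at h1
  have h4 : (∑ φ : IrrCharacter M, (a φ : ℂ) * b φ) = ((∑ φ, a φ * b φ : ℕ) : ℂ) := by push_cast; rfl
  rw [h4]
  intro h5
  have h6 : ∑ φ : IrrCharacter M, a φ * b φ = 0 := by exact_mod_cast h5
  rw [Finset.sum_eq_zero_iff] at h6
  rcases mul_eq_zero.mp (h6 ψ (Finset.mem_univ _)) with h7 | h7
  · rw [h7] at h2; simp at h2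
  · rw [h7] at h1; simp at h1

/-- The abelian step upwards. -/
theorem ab_step {S G M : Subgroup Γ}
    (hSG : S ≤ Subgroup.normalizer (G : Set Γ)) (hSM : S ≤ Subgroup.normalizer (M : Set Γ))
    (hMG : M ≤ G) (hab : ∀ a ∈ G, ∀ b ∈ G, a * b * a⁻¹ * b⁻¹ ∈ M)
    (hcop : (M.relIndex G).Coprime (M.relIndex S)) (ψ : IrrCharacter M) (hψ : InvF M S ψ.1) :
    ∃ χ : IrrCharacter G, InvF G S χ.1 ∧ ci (resS hMG χ.1) ψ.1 ≠ 0 := by
  have hGM : G ≤ Subgroup.normalizer (M : Set Γ) := by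
    apply le_normalizer_of
    intro g hg m hm
    have := hab g hg m (hMG hm)
    have e : g * m * g⁻¹ = g * m * g⁻¹ * m⁻¹ * m := by group
    rw [e]
    exact M.mul_mem this hm
  have hMn : (M.subgroupOf G).Normal := (Subgroup.normal_subgroupOf_iff_le_normalizer hMG).mpr hGM
  -- the group of linear characters
  let mulE : (G →* ℂˣ) →* Equiv.Perm (IrrCharacter G) :=
    { toFun := fun l =>
        { toFun := fun χ => ⟨linFn l * χ.1, isIrr_linFn_mul l χ.2⟩
          invFun := fun χ => ⟨linFn l⁻¹ * χ.1, isIrr_linFn_mul l⁻¹ χ.2⟩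
          left_inv := fun χ => by
            apply Subtype.ext
            change linFn l⁻¹ * (linFn l * χ.1) = χ.1
            have e : l⁻¹ * l = 1 := by ext g; simp
            rw [← mul_assoc, ← linFn_mul, e, linFn_one]
            funext g; simp
          right_inv := fun χ => by
            apply Subtype.ext
            change linFn l * (linFn l⁻¹ * χ.1) = χ.1
            have e : l * l⁻¹ = 1 := by ext g; simp
            rw [← mul_assoc, ← linFn_mul, e, linFn_one]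
            funext g; simp }
      map_one' := by
        ext1 χ
        apply Subtype.ext
        change linFn 1 * χ.1 = χ.1
        rw [linFn_one]
        funext g; simp
      map_mul' := fun l l' => by
        ext1 χ
        apply Subtype.ext
        change linFn (l * l') * χ.1 = linFn l * (linFn l' * χ.1)
        rw [linFn_mul, mul_assoc] }
  let L : Subgroup (G →* ℂˣ) :=
    { carrier := {l | ∀ m : G, (m : Γ) ∈ M → l m = 1}
      one_mem' := fun m _ => rfl
      mul_mem' := fun {a b} ha hb m hm => by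
        rw [MonoidHom.mul_apply, ha m hm, hb m hm, one_mul]
      inv_mem' := fun {a} ha m hm => by
        rw [MonoidHom.inv_apply, ha m hm, inv_one] }
  set A := (perm hSG).range with hA
  set K := L.map mulE with hK
  have hAK : A ≤ Subgroup.normalizer (K : Set (Equiv.Perm (IrrCharacter G))) := by
    apply le_normalizer_of
    rintro _ ⟨s, rfl⟩ _ ⟨l, hl, rfl⟩
    refine ⟨l.comp (cE G (inv_mem (hSG s.2))).toMonoidHom, ?_, ?_⟩
    · intro m hm
      apply hl
      exact (Subgroup.mem_normalizer_iff.mp (inv_mem (hSM s.2)) m).mp hm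
    · ext1 χ
      rw [Equiv.Perm.mul_apply, Equiv.Perm.mul_apply, ← map_inv, perm_apply, perm_apply]
      apply Subtype.ext
      funext g
      change linFn l (cE G (inv_mem (hSG s.2)) g) * χ.1 g =
        linFn l (cE G (inv_mem (hSG s.2)) g) * χ.1 _
      refine congrArg (fun z => linFn l (cE G (inv_mem (hSG s.2)) g) * χ.1 z) (Subtype.ext ?_)
      rw [cE_coe', cE_coe']
      simp [mul_assoc]
  have hcop' : (Nat.card A).Coprime (Nat.card K) := by
    refine Nat.Coprime.coprime_dvd_left (perm_card_dvd hSG M hMG) ?_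
    by_contra hcon
    obtain ⟨q, hq, hq1, hq2⟩ := Nat.Prime.not_coprime_iff_dvd.mp hcon
    haveI := Fact.mk hq
    obtain ⟨⟨x, hx⟩, hxo⟩ := exists_prime_orderOf_dvd_card' q hq2
    rw [Subgroup.orderOf_mk] at hxo
    obtain ⟨l, hl, rfl⟩ := hx
    have h1 : l ^ (M.relIndex G) = 1 := by
      ext g
      rw [MonoidHom.pow_apply, ← map_pow]
      have h2 : (g ^ (M.relIndex G) : G) ∈ M.subgroupOf G :=
        Subgroup.pow_index_mem (M.subgroupOf G) g
      rw [hl _ (Subgroup.mem_subgroupOf.mp h2)]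
      rfl
    have h3 : mulE l ^ (M.relIndex G) = 1 := by
      rw [← map_pow, h1, map_one]
    have h4 : q ∣ M.relIndex G := by
      rw [← hxo]
      exact orderOf_dvd_of_pow_eq_one h3
    have h5 := Nat.dvd_gcd h4 hq1
    rw [Nat.coprime_iff_gcd_eq_one.mp hcop] at h5
    exact hq.one_lt.ne' (Nat.dvd_one.mp h5)
  have hsolv' : Group.IsSolvable K := by
    refine Cfsg.Agent.Lib.CoprimeB.isSolvable_of_comm ⟨⟨?_⟩⟩
    rintro ⟨_, ⟨a, ha, rfl⟩⟩ ⟨_, ⟨b, hb, rfl⟩⟩
    apply Subtype.ext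
    change mulE a * mulE b = mulE b * mulE a
    have e : a * b = b * a := by ext g; simp [mul_comm]
    rw [← map_mul, e, map_mul]
  obtain ⟨χ₀, hχ₀⟩ := exists_above hMG ψ
  obtain ⟨k, ⟨l, hl, rfl⟩, hfix⟩ := GlaubLemma.exists_fixed hAK hcop' (Or.inr hsolv') χ₀ (by
    rintro _ ⟨s, rfl⟩
    have hsG := inv_mem (hSG s.2)
    have hsM := inv_mem (hSM s.2)
    have h1 : ci (resS hMG (cjI G hsG χ₀).1) ψ.1 ≠ 0 := by
      have h2 := ci_cjS hMG hsG hsM χ₀.1 ψ.1
      have h3 : cjI M hsM ψ = ψ := (invI_iff hSM).mp hψ _ (inv_mem s.2)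
      rw [← cjI_coe, ← cjI_coe, h3] at h2
      rw [h2]
      exact hχ₀
    have h4 : ∀ (χ : IrrCharacter G), ci (resS hMG χ.1) ψ.1 ≠ 0 →
        ci (fun m : M.subgroupOf G => χ.1 m) ((irrEquiv (Subgroup.subgroupOfEquivOfLe hMG) ψ)).1
          ≠ 0 := by
      intro χ h
      rw [← ci_equiv (Subgroup.subgroupOfEquivOfLe hMG)] at h
      exact h
    obtain ⟨l, hl, hll⟩ := lin_transitive (G := G) (M := M.subgroupOf G) (by
      intro a b
      exact hab a a.2 b b.2) χ₀.2 (cjI G hsG χ₀).2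
      (irrEquiv (Subgroup.subgroupOfEquivOfLe hMG) ψ) (h4 _ hχ₀) (h4 _ h1)
    refine ⟨mulE l, ⟨l, fun m hm => hl m (Subgroup.mem_subgroupOf.mpr hm), rfl⟩, ?_⟩
    exact Subtype.ext hll)
  refine ⟨_, (fixed_iff hSG _).mp hfix, ?_⟩
  have h5 : resS hMG (mulE l • χ₀).1 = resS hMG χ₀.1 := by
    funext m
    change linFn l (Subgroup.inclusion hMG m) * χ₀.1 (Subgroup.inclusion hMG m) = _
    rw [linFn_apply, hl _ m.2, Units.val_one, one_mul]
    rfl
  rw [h5]
  exact hχ₀

/-- Invariant characters above, solvable quotient. -/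
theorem exists_inv_above' {S G N : Subgroup Γ}
    (hSG : S ≤ Subgroup.normalizer (G : Set Γ)) (hSN : S ≤ Subgroup.normalizer (N : Set Γ))
    (hNG : N ≤ G) [hNn : (N.subgroupOf G).Normal]
    (hcop : (N.relIndex G).Coprime (N.relIndex S))
    (hsolv : Group.IsSolvable (G ⧸ N.subgroupOf G)) (θ : IrrCharacter N) (hθ : InvF N S θ.1) :
    ∃ χ : IrrCharacter G, InvF G S χ.1 ∧ ci (resS hNG χ.1) θ.1 ≠ 0 := by
  set N' := N.subgroupOf G with hN'
  set D : ℕ → Subgroup Γ := fun k =>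
    ((derivedSeries (G ⧸ N') k).comap (QuotientGroup.mk' N')).map G.subtype with hD
  have hDmem : ∀ k (g : G), (g : Γ) ∈ D k ↔ (g : G ⧸ N') ∈ derivedSeries (G ⧸ N') k := by
    intro k g
    constructor
    · rintro ⟨x, hx, hxg⟩
      have : x = g := Subtype.ext hxg
      rw [← this]
      exact hx
    · intro h
      exact ⟨g, h, rfl⟩
  have hDG : ∀ k, D k ≤ G := fun k => Subgroup.map_subtype_le _
  have hND : ∀ k, N ≤ D k := by
    intro k x hx
    have := (hDmem k ⟨x, hNG hx⟩)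
    apply this.mpr
    rw [(QuotientGroup.eq_one_iff _).mpr (Subgroup.mem_subgroupOf.mpr hx)]
    exact one_mem _
  have hcomm : ∀ k, ∀ a ∈ D k, ∀ b ∈ D k, a * b * a⁻¹ * b⁻¹ ∈ D (k + 1) := by
    intro k a ha b hb
    have haG := hDG k ha
    have hbG := hDG k hb
    have h1 := (hDmem k ⟨a, haG⟩).mp ha
    have h2 := (hDmem k ⟨b, hbG⟩).mp hb
    apply (hDmem (k + 1) (⟨a, haG⟩ * ⟨b, hbG⟩ * ⟨a, haG⟩⁻¹ * ⟨b, hbG⟩⁻¹)).mpr
    rw [derivedSeries_succ]
    exact Subgroup.commutator_mem_commutator h1 h2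
  have hDle : ∀ k, D (k + 1) ≤ D k := by
    intro k x hx
    have hxG := hDG _ hx
    have h1 := (hDmem (k + 1) ⟨x, hxG⟩).mp hx
    apply (hDmem k ⟨x, hxG⟩).mpr
    exact derivedSeries_antitone _ (Nat.le_succ k) h1
  have hSD : ∀ k, S ≤ Subgroup.normalizer ((D k : Subgroup Γ) : Set Γ) := by
    intro k
    apply le_normalizer_of
    intro s hs x hx
    have hxG := hDG _ hx
    have h1 := (hDmem k ⟨x, hxG⟩).mp hx
    have hmap : N' ≤ N'.comap (cE G (hSG hs)).toMonoidHom := by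
      intro y hy
      rw [Subgroup.mem_comap]
      rw [hN', Subgroup.mem_subgroupOf] at hy ⊢
      exact (Subgroup.mem_normalizer_iff.mp (hSN hs) y).mp hy
    have h2 := map_derivedSeries_le_derivedSeries
      (QuotientGroup.map N' N' (cE G (hSG hs)).toMonoidHom hmap) k ⟨_, h1, rfl⟩
    exact (hDmem k (cE G (hSG hs) ⟨x, hxG⟩)).mpr h2
  obtain ⟨n, hn⟩ := hsolv.solvable
  have hDn : D n = N := by
    apply le_antisymm _ (hND n)
    intro x hx
    have hxG := hDG _ hx
    have h1 := (hDmem n ⟨x, hxG⟩).mp hx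
    rw [hn, Subgroup.mem_bot, QuotientGroup.eq_one_iff] at h1
    exact Subgroup.mem_subgroupOf.mp h1
  have hD0 : D 0 = G := by
    apply le_antisymm (hDG 0)
    intro x hx
    exact (hDmem 0 ⟨x, hx⟩).mpr (by rw [derivedSeries_zero]; exact Subgroup.mem_top _)
  -- downward induction
  have key : ∀ j k, k + j = n → ∃ χ : IrrCharacter (D k), InvF (D k) S χ.1 ∧
      ci (resS (hND k) χ.1) θ.1 ≠ 0 := by
    intro j
    induction j with
    | zero =>
      intro k hk
      have hk' : k = n := by omega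
      subst hk'
      have aux : ∀ (X : Subgroup Γ) (hX : N ≤ X), X = N → ∃ χ : IrrCharacter X, InvF X S χ.1 ∧
          ci (resS hX χ.1) θ.1 ≠ 0 := by
        rintro X hX rfl
        refine ⟨θ, hθ, ?_⟩
        have : Fintype X := Fintype.ofFinite _
        have h1 : ci (resS hX θ.1) θ.1 = 1 := by
          rw [ci_eq]
          exact irr_inner_self θ.2
        rw [h1]
        exact one_ne_zero
      exact aux _ (hND k) hDn
    | succ j ih =>
      intro k hk
      obtain ⟨ψ, hψ, hne⟩ := ih (k + 1) (by omega)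
      have hc1 : ((D (k + 1)).relIndex (D k)).Coprime ((D (k + 1)).relIndex S) := by
        apply Nat.Coprime.coprime_dvd_left _ (hcop.coprime_dvd_right
          (Subgroup.relIndex_dvd_of_le_left S (hND (k + 1))))
        have h1 := Subgroup.relIndex_mul_relIndex N (D (k + 1)) (D k) (hND _) (hDle k)
        have h2 := Subgroup.relIndex_mul_relIndex N (D k) G (hND _) (hDG k)
        exact (Dvd.intro_left _ h1).trans (Dvd.intro _ h2)
      obtain ⟨χ, hχ, hne'⟩ := ab_step (hSD k) (hSD (k + 1)) (hDle k) (hcomm k) hc1 ψ hψ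
      refine ⟨χ, hχ, ?_⟩
      -- transitivity of constituents
      exact ci_trans (hND (k + 1)) (hDle k) hne hne'
  have aux : ∀ (X : Subgroup Γ) (hX : N ≤ X), X = G → (∃ χ : IrrCharacter X, InvF X S χ.1 ∧
      ci (resS hX χ.1) θ.1 ≠ 0) → ∃ χ : IrrCharacter G, InvF G S χ.1 ∧
      ci (resS hNG χ.1) θ.1 ≠ 0 := by
    rintro X hX rfl h
    exact h
  exact aux (D 0) (hND 0) hD0 (key n 0 (by omega))

end Act

end

end Cfsg.Agent.Lib.CharCoC
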