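import Cfsg.Agent.Lib.CharKer
import Cfsg.Agent.Lib.CharClifford
import Cfsg.Agent.Lib.CharDefectZero
import Cfsg.Agent.Lib.CharGlaub2
import Cfsg.Agent.Lib.CharCo
import Cfsg.Agent.Lib.FrobGrp

/-! Codegrees. -/

set_option autoImplicit false

namespace Cfsg.Agent.Lib.CharCod

open Cfsg Cfsg.Agent.Lib.CharBasic Cfsg.Agent.Lib.CharLin Cfsg.Agent.Lib.CharInt
open Cfsg.Agent.Lib.CharInd Cfsg.Agent.Lib.CharKer Cfsg.Agent.Lib.CharClifford
open Cfsg.Agent.Lib.CharNormal
open scoped ComplexConjugate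

noncomputable section

variable {G : Type*} [Group G] [Finite G]

theorem deg_cast (χ : IrrCharacter G) : (charDegree χ.1 : ℂ) = χ.1 1 :=
  CharGlaub2.charDegree_cast (isChar_of_irr χ.2)

theorem deg_pos (χ : IrrCharacter G) : 0 < charDegree χ.1 := by
  rw [Nat.pos_iff_ne_zero]
  intro h
  have := deg_cast χ
  rw [h] at this
  exact isIrr_one_ne_zero χ.2 (by rw [← this]; simp)

/-- The codegree decomposition, through the quotient by the kernel. -/
theorem cod (χ : IrrCharacter G) : ∃ (c : ℕ) (K : Subgroup G) (_ : K.Normal)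
    (ψ : IrrCharacter (G ⧸ K)), (∀ g : G, g ∈ K ↔ χ.1 g = χ.1 1) ∧
    (∀ g : G, χ.1 g = ψ.1 (g : G ⧸ K)) ∧ charDegree ψ.1 = charDegree χ.1 ∧
    (∀ x : G ⧸ K, ψ.1 x = ψ.1 1 → x = 1) ∧ Nat.card (G ⧸ K) = c * charDegree ψ.1 ∧ 0 < c ∧
    c ∣ Nat.card G ∧
    Nat.card G / (Nat.card {g : G // χ.1 g = χ.1 1} * charDegree χ.1) = c := by
  have hχ := isChar_of_irr χ.2
  have hKn := kerChar_normal hχ
  have hmem : ∀ g : G, g ∈ kerChar χ.1 hχ ↔ χ.1 g = χ.1 1 := fun g => mem_kerChar hχ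
  obtain ⟨K, hK⟩ : ∃ K, K = kerChar χ.1 hχ := ⟨_, rfl⟩
  rw [← hK] at hKn hmem
  obtain ⟨ψ, -, h2, h3⟩ := exists_quot hχ (N := K) (fun n hn => (hmem n).mp hn)
  have hψ := h3 χ.2
  have hdeg : charDegree ψ = charDegree χ.1 := by
    have h4 := deg_cast ⟨ψ, hψ⟩
    have h5 := deg_cast χ
    rw [h2 1] at h5
    have h6 : (charDegree ψ : ℂ) = charDegree χ.1 := h4.trans h5.symm
    exact_mod_cast h6
  obtain ⟨c, hc⟩ := CharCo.deg_dvd_card hψ (deg_cast ⟨ψ, hψ⟩).symm
  have hcK : Nat.card {g : G // χ.1 g = χ.1 1} = Nat.card K :=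
    Nat.card_congr (Equiv.subtypeEquivRight fun g => (hmem g).symm)
  have hGK : Nat.card G = Nat.card (G ⧸ K) * Nat.card K := Subgroup.card_eq_card_quotient_mul_card_subgroup K
  refine ⟨c, K, hKn, ⟨ψ, hψ⟩, hmem, h2, hdeg, ?_, ?_, ?_, ?_, ?_⟩
  · intro x hx
    obtain ⟨g, rfl⟩ := QuotientGroup.mk_surjective x
    have hx' : ψ (g : G ⧸ K) = ψ (1 : G ⧸ K) := hx
    rw [← h2 g] at hx'
    have h6 : ψ (1 : G ⧸ K) = χ.1 1 := (h2 1).symm
    rw [h6] at hx'
    exact (QuotientGroup.eq_one_iff g).mpr ((hmem g).mpr hx')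
  · rw [mul_comm]; exact hc
  · rw [Nat.pos_iff_ne_zero]
    rintro rfl
    rw [mul_zero] at hc
    exact Nat.card_pos.ne' hc
  · rw [hGK, hc]
    exact ⟨charDegree ψ * Nat.card K, by ring⟩
  · rw [hcK, hGK, hc]
    have h4 : 0 < Nat.card K * charDegree χ.1 := Nat.mul_pos Nat.card_pos (deg_pos χ)
    have h5 : charDegree ψ * c * Nat.card K = c * (Nat.card K * charDegree χ.1) := by
      rw [hdeg]; ring
    rw [h5]
    exact Nat.mul_div_cancel c h4

/-- A `p`-element of order `p` outside the kernel when the codegree is prime to `p`. -/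
theorem val_of_cod {p : ℕ} (hp : p.Prime) (χ : IrrCharacter G)
    (hcod : ¬ p ∣ Nat.card G / (Nat.card {g : G // χ.1 g = χ.1 1} * charDegree χ.1))
    {g : G} (hg : orderOf g = p) : χ.1 g = χ.1 1 ∨ χ.1 g = 0 := by
  have := Fact.mk hp
  obtain ⟨c, K, hKn, ψ, hmem, h2, hdeg, hf, hc, hc0, -, hcod'⟩ := cod χ
  rw [hcod'] at hcod
  by_cases hgK : g ∈ K
  · exact Or.inl ((hmem g).mp hgK)
  right
  rw [h2 g]
  cases nonempty_fintype (G ⧸ K)
  have hne : (g : G ⧸ K) ≠ 1 := fun h => hgK ((QuotientGroup.eq_one_iff g).mp h)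
  have hord : orderOf (g : G ⧸ K) = p := by
    apply orderOf_eq_prime _ hne
    rw [← QuotientGroup.mk_pow, ← hg, pow_orderOf_eq_one]
    rfl
  have hQ0 : Nat.card (G ⧸ K) ≠ 0 := Nat.card_pos.ne'
  refine CharDefectZero.vanish hp (Nat.ordProj_dvd (Nat.card (G ⧸ K)) p)
    (Nat.pow_succ_factorization_not_dvd hQ0 hp) ψ.2 (deg_cast ψ).symm ?_ _ (by rw [hord])
  have h3 : p ^ (Nat.card (G ⧸ K)).factorization p ∣ c * charDegree ψ.1 := by
    conv_rhs => rw [← hc]
    exact Nat.ordProj_dvd _ _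
  exact (Nat.Coprime.pow_left _ ((Nat.Prime.coprime_iff_not_dvd hp).mpr hcod)).dvd_of_dvd_mul_left h3

theorem prime_dvd_iff {p : ℕ} (hp : p.Prime) : p ∣ Nat.card G ↔ ∃ χ : IrrCharacter G,
    p ∣ (Nat.card G / (Nat.card {g : G // χ.1 g = χ.1 1} * charDegree χ.1)) := by
  classical
  cases nonempty_fintype G
  have := Fact.mk hp
  constructor
  · intro h
    by_contra hcon
    push Not at hcon
    obtain ⟨g, hg⟩ := exists_prime_orderOf_dvd_card' p h
    have hg1 : g ≠ 1 := by
      rintro rfl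
      rw [orderOf_one] at hg
      exact hp.one_lt.ne hg
    have h1 := column_orth_one g
    rw [if_neg hg1] at h1
    have h2 : ∀ χ : IrrCharacter G, ∃ m : ℕ, χ.1 g * χ.1 1 = m := by
      intro χ
      rcases val_of_cod hp χ (hcon χ) hg with h | h
      · exact ⟨charDegree χ.1 ^ 2, by rw [h, ← deg_cast χ]; push_cast; ring⟩
      · exact ⟨0, by rw [h]; simp⟩
    choose m hm using h2
    rw [Finset.sum_congr rfl fun χ _ => hm χ, ← Nat.cast_sum] at h1
    have h3 : ∑ χ : IrrCharacter G, m χ = 0 := by exact_mod_cast h1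
    rw [Finset.sum_eq_zero_iff] at h3
    have h4 := h3 ⟨fun _ => 1, isIrr_trivial⟩ (Finset.mem_univ _)
    have h5 := hm ⟨fun _ => 1, isIrr_trivial⟩
    rw [h4] at h5
    simp at h5
  · rintro ⟨χ, hχ⟩
    obtain ⟨c, K, hKn, ψ, hmem, h2, hdeg, hf, hc, hc0, hcG, hcod'⟩ := cod χ
    rw [hcod'] at hχ
    exact hχ.trans hcG

theorem eq_trivial_of_ker_top {χ : G → ℂ} (hχ : IsIrrCharacter G χ) (h : ∀ g, χ g = χ 1) :
    χ = fun _ => 1 := by
  cases nonempty_fintype G
  apply irr_eq_of_inner_ne_zero hχ isIrr_trivial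
  have h1 : χ = fun _ => χ 1 := funext h
  rw [h1, classInner_def]
  simp only [map_one, mul_one, Finset.sum_const, Finset.card_univ, nsmul_eq_mul]
  rw [← Nat.card_eq_fintype_card, ← mul_assoc, inv_mul_cancel₀ card_ne_zero', one_mul]
  exact isIrr_one_ne_zero hχ

/-- A prime dividing the order: some nonprincipal irreducible has degree prime to it. -/
theorem exists_prime_to {p : ℕ} (hp : p.Prime) (h : p ∣ Nat.card G) :
    ∃ χ : IrrCharacter G, χ.1 ≠ (fun _ => 1) ∧ ¬ p ∣ charDegree χ.1 := by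
  classical
  cases nonempty_fintype G
  by_contra hcon
  push Not at hcon
  have h1 := CharTable.sum_sq_degrees (fun χ : IrrCharacter G => charDegree χ.1)
    (fun χ => (deg_cast χ).symm)
  let χ₀ : IrrCharacter G := ⟨fun _ => 1, isIrr_trivial⟩
  rw [← Finset.add_sum_erase _ _ (Finset.mem_univ χ₀)] at h1
  have h2 : p ∣ ∑ χ ∈ Finset.univ.erase χ₀, charDegree χ.1 ^ 2 := by
    apply Finset.dvd_sum
    intro χ hχ
    rw [Finset.mem_erase] at hχ
    exact dvd_pow (hcon χ fun h => hχ.1 (Subtype.ext h)) (by norm_num)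
  have h3 : charDegree χ₀.1 = 1 := by
    have := deg_cast χ₀
    have h4 : χ₀.1 1 = 1 := rfl
    rw [h4] at this
    exact_mod_cast this
  rw [h3, one_pow] at h1
  rw [← h1] at h
  have := (Nat.dvd_add_left h2).mp h
  exact hp.one_lt.ne' (Nat.dvd_one.mp this)

section Prime

variable {G : Type*} [Group G] [Finite G]

/-- Prime codegree of a faithful character: a self-centralizing normal subgroup of order `p`. -/
theorem prime_cod (χ : IrrCharacter G) (hf : ∀ g : G, χ.1 g = χ.1 1 → g = 1) {p : ℕ}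
    (hp : p.Prime) (hc : Nat.card G = p * charDegree χ.1) :
    ∃ P : Subgroup G, P.Normal ∧ Nat.card P = p ∧
      ∀ g : G, (∀ x ∈ P, g * x = x * g) → g ∈ P := by
  classical
  cases nonempty_fintype G
  have := Fact.mk hp
  have hd0 := deg_pos χ
  have hne : χ.1 ≠ fun _ => 1 := by
    intro h
    have h1 : ∀ g : G, g = 1 := fun g => hf g (by rw [h])
    have h2 : Nat.card G = 1 := by
      rw [Nat.card_eq_one_iff_unique]
      exact ⟨⟨fun a b => by rw [h1 a, h1 b]⟩, ⟨1⟩⟩
    rw [h2] at hc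
    exact hp.one_lt.ne' (Nat.eq_one_of_mul_eq_one_right hc.symm)
  -- `χ(1) < p`
  have hlt : charDegree χ.1 < p := by
    have h1 := CharTable.sum_sq_degrees (fun χ : IrrCharacter G => charDegree χ.1)
      (fun χ => (deg_cast χ).symm)
    let χ₀ : IrrCharacter G := ⟨fun _ => 1, isIrr_trivial⟩
    have h2 : χ ≠ χ₀ := fun h => hne (congrArg Subtype.val h)
    have h3 : charDegree χ₀.1 ^ 2 + charDegree χ.1 ^ 2 ≤ Nat.card G := by
      rw [← h1, ← Finset.sum_pair (f := fun χ : IrrCharacter G => charDegree χ.1 ^ 2) (Ne.symm h2)]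
      exact Finset.sum_le_sum_of_subset (Finset.subset_univ _)
    have h4 := deg_pos χ₀
    have h5 : 1 ≤ charDegree χ₀.1 ^ 2 := Nat.one_le_pow _ _ h4
    rw [hc] at h3
    nlinarith
  have hpd : ¬ p ∣ charDegree χ.1 := fun h => by
    have := Nat.le_of_dvd hd0 h
    omega
  -- the Sylow subgroup
  obtain ⟨P⟩ : Nonempty (Sylow p G) := inferInstance
  have hPc : Nat.card P = p := by
    rw [P.card_eq_multiplicity, hc, Nat.factorization_mul hp.ne_zero hd0.ne']
    simp [hp.factorization, Nat.factorization_eq_zero_of_not_dvd hpd]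
  have hPi : (P : Subgroup G).index = charDegree χ.1 := by
    have h1 := (P : Subgroup G).card_mul_index
    have h2 : Nat.card (P : Subgroup G) = p := hPc
    rw [h2, hc] at h1
    exact Nat.eq_of_mul_eq_mul_left hp.pos h1
  have hPn : (P : Subgroup G).Normal := by
    have h1 : Nat.card (Sylow p G) ≡ 1 [MOD p] := card_sylow_modEq_one p G
    have h2 : Nat.card (Sylow p G) ∣ (P : Subgroup G).index := P.card_dvd_index
    rw [hPi] at h2
    have h3 := Nat.le_of_dvd hd0 h2
    have h4 : Nat.card (Sylow p G) = 1 := by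
      have h5 : 0 < Nat.card (Sylow p G) := Nat.card_pos
      rw [Nat.ModEq, Nat.mod_eq_of_lt (by omega), Nat.mod_eq_of_lt hp.one_lt] at h1
      exact h1
    have h6 : Subsingleton (Sylow p G) := (Nat.card_eq_one_iff_unique.mp h4).1
    exact P.normal_of_subsingleton
  refine ⟨P, hPn, hPc, ?_⟩
  obtain ⟨A, hA⟩ : ∃ A : Subgroup G, A = (P : Subgroup G) := ⟨_, rfl⟩
  rw [← hA] at hPn ⊢
  have hAc : Nat.card A = p := by rw [hA]; exact hPc
  cases nonempty_fintype A
  -- a constituent on `A`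
  have hcyc : IsCyclic A := isCyclic_of_prime_card hAc
  obtain ⟨a₀, ha₀⟩ := hcyc.exists_generator
  have hab : ∀ a b : A, a * b = b * a := by
    intro a b
    obtain ⟨i, hi⟩ := Subgroup.mem_zpowers_iff.mp (ha₀ a)
    obtain ⟨j, hj⟩ := Subgroup.mem_zpowers_iff.mp (ha₀ b)
    rw [← hi, ← hj, ← zpow_add, ← zpow_add, add_comm]
  have hres0 : (fun a : A => χ.1 a) ≠ 0 := fun h0 => isIrr_one_ne_zero χ.2 (congrFun h0 1)
  obtain ⟨θ, hθ⟩ := char_ne_zero_exists_constituent (isChar_res A (isChar_of_irr χ.2)) hres0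
  obtain ⟨lam, hlam⟩ := irr_lin_of_comm hab θ.2
  -- `lam` is not trivial
  have hlam1 : ∀ a : A, lam a = 1 → a = 1 := by
    intro a ha
    by_contra hne1
    -- then `lam = 1`
    have hgen : ∀ b : A, lam b = 1 := by
      have hzp : Subgroup.zpowers a = ⊤ := by
        apply Subgroup.eq_top_of_card_eq
        rw [Nat.card_zpowers, hAc]
        exact orderOf_eq_prime (by rw [← hAc]; exact pow_card_eq_one') hne1
      intro b
      have hb : b ∈ Subgroup.zpowers a := by rw [hzp]; trivial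
      obtain ⟨i, hi⟩ := Subgroup.mem_zpowers_iff.mp hb
      rw [← hi, map_zpow, ha, one_zpow]
    have h1 : θ.1 = fun _ => 1 := by
      rw [hlam]; funext b; rw [hgen b]; rfl
    have h2 := ker_of_trivial_constituent χ.2 (N := A) (by rw [← h1]; exact hθ)
    have h3 : ∀ b : A, b = 1 := fun b => Subtype.ext (hf b (h2 b b.2))
    have h4 : Nat.card A = 1 := by
      rw [Nat.card_eq_one_iff_unique]
      exact ⟨⟨fun x y => by rw [h3 x, h3 y]⟩, ⟨1⟩⟩
    rw [h4] at hAc
    exact hp.one_lt.ne hAc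
  obtain ⟨T, hT⟩ : ∃ T : Subgroup G, T = inertia θ.1 := ⟨_, rfl⟩
  have hTm : ∀ g : G, g ∈ T ↔ cj g θ.1 = θ.1 := fun g => by rw [hT]; exact mem_inertia
  have hAT : A ≤ T := by rw [hT]; exact le_inertia (isChar_classFn (isChar_of_irr θ.2))
  cases nonempty_fintype T
  obtain ⟨ψ, hψ, hind, -, hres⟩ := exists_clifford θ.2 hTm hAT χ.2 hθ
  obtain ⟨e, he⟩ := exists_nat_inner (isChar_res A (isChar_of_irr χ.2)) θ.2
  rw [he] at hres
  have hψ1 : ψ 1 = e := by
    have := congrFun hres 1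
    rw [Pi.smul_apply, hlam, smul_eq_mul] at this
    simp only [map_one, Units.val_one, mul_one] at this
    exact this
  have he0 : 0 < e := by
    rw [Nat.pos_iff_ne_zero]
    rintro rfl
    exact isIrr_one_ne_zero hψ (by rw [hψ1]; simp)
  -- degree computation
  have hTc : Nat.card T = p * e := by
    have h1 : χ.1 1 = (T.index : ℂ) * e := by rw [← hind, indFun_one, hψ1]
    rw [← deg_cast χ] at h1
    have h2 : charDegree χ.1 = T.index * e := by exact_mod_cast h1
    have h3 := T.card_mul_index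
    rw [hc, h2] at h3
    have h4 : 0 < T.index := Nat.pos_of_ne_zero Subgroup.index_ne_zero_of_finite
    have h5 : T.index * Nat.card T = T.index * (p * e) := by
      rw [mul_comm, h3]; ring
    exact Nat.eq_of_mul_eq_mul_left h4 h5
  -- norm bound
  have he1 : e = 1 := by
    have h1 := irr_inner_self hψ
    rw [classInner_self_eq] at h1
    have h2 : (Nat.card T : ℝ)⁻¹ * ∑ t : T, ‖ψ t‖ ^ 2 = 1 := by exact_mod_cast h1
    have h3 : (Nat.card T : ℝ) ≠ 0 := by exact_mod_cast Nat.card_pos.ne'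
    have h4 : ∑ t : T, ‖ψ t‖ ^ 2 = (Nat.card T : ℝ) := by
      field_simp at h2
      linarith
    have h5 : ∑ a : A, ‖ψ ⟨(a : G), hAT a.2⟩‖ ^ 2 ≤ ∑ t : T, ‖ψ t‖ ^ 2 := by
      have hinj : Function.Injective (fun a : A => (⟨(a : G), hAT a.2⟩ : T)) := by
        intro a b hab
        exact Subtype.ext (congrArg (fun t : T => (t : G)) hab)
      rw [← Finset.sum_image (f := fun t : T => ‖ψ t‖ ^ 2)
        (g := fun a : A => (⟨(a : G), hAT a.2⟩ : T)) (fun a _ b _ h => hinj h)]
      exact Finset.sum_le_sum_of_subset_of_nonneg (Finset.subset_univ _)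
        fun t _ _ => by positivity
    have h6 : ∀ a : A, ‖ψ ⟨(a : G), hAT a.2⟩‖ ^ 2 = (e : ℝ) ^ 2 := by
      intro a
      have h7 := congrFun hres a
      have h8 : ψ ⟨(a : G), hAT a.2⟩ = (e : ℂ) * (lam a : ℂ) := by
        have h9 : resLe hAT ψ a = ψ ⟨(a : G), hAT a.2⟩ := rfl
        rw [← h9, h7, Pi.smul_apply, hlam, smul_eq_mul]
      have h10 : ‖(lam a : ℂ)‖ = 1 := linFn_norm' lam a
      rw [h8, norm_mul, h10, mul_one, Complex.norm_natCast]
    rw [Finset.sum_congr rfl fun a _ => h6 a, Finset.sum_const, Finset.card_univ,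
      ← Nat.card_eq_fintype_card, hAc, nsmul_eq_mul, h4, hTc] at h5
    have h7 : p * e ^ 2 ≤ p * e := by exact_mod_cast h5
    have h8 := Nat.le_of_mul_le_mul_left h7 hp.pos
    nlinarith
  rw [he1, mul_one] at hTc
  have hTA : A = T := Subgroup.eq_of_le_of_card_ge hAT (by rw [hTc, hAc])
  intro g hg
  rw [hTA, hTm]
  funext a
  rw [cj_apply]
  have h9 : (⟨g * a * g⁻¹, hPn.conj_mem a a.2 g⟩ : A) = a := by
    apply Subtype.ext
    change g * (a : G) * g⁻¹ = a
    rw [hg a a.2, mul_inv_cancel_right]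
  rw [h9]

/-- `S4796`. -/
theorem prime_cod_frobenius (χ : IrrCharacter G) (hf : ∀ g : G, χ.1 g = χ.1 1 → g = 1) {p : ℕ}
    (hp : p.Prime) (hc : Nat.card G = p * charDegree χ.1) :
    (IsCyclic G ∧ Nat.card G = p) ∨ ∃ H : Subgroup G, IsFrobeniusComplement H ∧
      Nat.card ↥(frobeniusKernel H) = p := by
  classical
  have := Fact.mk hp
  obtain ⟨P, hPn, hPc, hcen⟩ := prime_cod χ hf hp hc
  have hPi : P.index = charDegree χ.1 := by
    have h1 := P.card_mul_index
    rw [hPc, hc] at h1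
    exact Nat.eq_of_mul_eq_mul_left hp.pos h1
  by_cases hd1 : charDegree χ.1 = 1
  · left
    rw [hd1, mul_one] at hc
    exact ⟨isCyclic_of_prime_card hc, hc⟩
  right
  -- `p ∤ χ(1)`: otherwise an element of order `p` outside `P`
  have hpd : Nat.Coprime (Nat.card P) P.index := by
    rw [hPc, hPi]
    rw [Nat.Prime.coprime_iff_not_dvd hp]
    intro hdvd
    -- degree bound
    have hd0 := deg_pos χ
    have h1 := Nat.le_of_dvd hd0 hdvd
    cases nonempty_fintype G
    have h2 := CharTable.sum_sq_degrees (fun χ : IrrCharacter G => charDegree χ.1)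
      (fun χ => (deg_cast χ).symm)
    let χ₀ : IrrCharacter G := ⟨fun _ => 1, isIrr_trivial⟩
    have h3 : χ ≠ χ₀ := by
      intro h
      apply hd1
      have := deg_cast χ
      rw [h] at this ⊢
      have h4 : χ₀.1 1 = 1 := rfl
      rw [h4] at this
      exact_mod_cast this
    have h4 : charDegree χ₀.1 ^ 2 + charDegree χ.1 ^ 2 ≤ Nat.card G := by
      rw [← h2, ← Finset.sum_pair (f := fun χ : IrrCharacter G => charDegree χ.1 ^ 2) (Ne.symm h3)]
      exact Finset.sum_le_sum_of_subset (Finset.subset_univ _)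
    have h5 := deg_pos χ₀
    have h6 : 1 ≤ charDegree χ₀.1 ^ 2 := Nat.one_le_pow _ _ h5
    rw [hc] at h4
    nlinarith
  obtain ⟨H, hH⟩ := Subgroup.exists_right_complement'_of_coprime hpd
  have hHc : Nat.card H = charDegree χ.1 := by
    rw [← hPi]
    exact hH.symm.index_eq_card.symm
  have hHi : H.index = p := by
    rw [← hPc]
    exact hH.index_eq_card
  have hdisj : ∀ x, x ∈ P → x ∈ H → x = 1 := by
    intro x hx hx'
    have := hH.disjoint
    rw [Subgroup.disjoint_def] at this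
    exact this hx hx'
  have hfrob : IsFrobeniusComplement H := by
    refine ⟨?_, ?_, ?_⟩
    · rintro rfl
      rw [Subgroup.card_bot] at hHc
      exact hd1 hHc.symm
    · rintro rfl
      rw [Subgroup.index_top] at hHi
      exact hp.one_lt.ne hHi
    · intro g hg
      rw [eq_bot_iff]
      intro y hy
      obtain ⟨hy1, hy2⟩ := Subgroup.mem_inf.mp hy
      rw [Subgroup.mem_bot]
      -- `g = x * h`
      obtain ⟨⟨⟨x, hx⟩, ⟨h, hh⟩⟩, hxh⟩ := hH.2 g
      simp only at hxh
      have hx1 : x ≠ 1 := by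
        rintro rfl
        rw [one_mul] at hxh
        exact hg (hxh ▸ hh)
      rw [Lib.FrobGrp.mem_conj_smul] at hy2
      -- `z = x⁻¹ y x ∈ H`
      have hz : x⁻¹ * y * x ∈ H := by
        have h1 := H.mul_mem (H.mul_mem hh hy2) (H.inv_mem hh)
        have h2 : h * (g⁻¹ * y * g) * h⁻¹ = x⁻¹ * y * x := by rw [← hxh]; group
        rw [h2] at h1
        exact h1
      -- `y⁻¹ (x⁻¹ y x) ∈ P ∩ H`
      have h3 : y⁻¹ * (x⁻¹ * y * x) = 1 := by
        apply hdisj
        · have h4 : y⁻¹ * (x⁻¹ * y * x) = (y⁻¹ * x⁻¹ * (y⁻¹)⁻¹) * x := by group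
          rw [h4]
          exact P.mul_mem (hPn.conj_mem _ (P.inv_mem hx) _) hx
        · exact H.mul_mem (H.inv_mem hy1) hz
      have h5 : x⁻¹ * y * x = y := (inv_mul_eq_one.mp h3).symm
      have h6 : y * x = x * y := by
        calc y * x = x * (x⁻¹ * y * x) := by group
          _ = x * y := by rw [h5]
      -- `x` generates `P`
      apply hdisj y _ hy1
      apply hcen
      intro z hz'
      have hzp : Subgroup.zpowers (⟨x, hx⟩ : P) = ⊤ := by
        apply Subgroup.eq_top_of_card_eq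
        rw [Nat.card_zpowers, hPc]
        exact orderOf_eq_prime (by rw [← hPc]; exact pow_card_eq_one')
          (fun h => hx1 (congrArg Subtype.val h))
      have hb : (⟨z, hz'⟩ : P) ∈ Subgroup.zpowers (⟨x, hx⟩ : P) := by rw [hzp]; trivial
      obtain ⟨i, hi⟩ := Subgroup.mem_zpowers_iff.mp hb
      have h7 : x ^ i = z := by
        have := congrArg Subtype.val hi
        simpa using this
      rw [← h7]
      exact (Commute.zpow_right h6 i : Commute y (x ^ i))
  exact ⟨H, hfrob, by rw [Lib.FrobGrp.card_frobeniusKernel hfrob, hHi]⟩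

end Prime

end

end Cfsg.Agent.Lib.CharCod
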