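import Cfsg.Agent.Lib.ChevGrA

/-!
# Graph data gD4a
-/

set_option autoImplicit false

namespace Cfsg.Agent.Lib.ChevAlg

open Cfsg.Lie

/-- graph data -/
def gD4a : GDat where
  p := 0
  rl := [0, 1, 6, 2, 7, 10, 3, 8, 4, 9, 11, 5, 18, 12, 14, 19, 15, 20, 13, 16, 21, 17, 22, 23]
  ll := [1, 1, 1, 1, 1, 1, 1, 1, 1, 1, 1, 1, 1, 1, 1, 1, 1, 1, 1, 1, 1, 1, 1, 1]
  el := [1, 1, -1, 1, -1, 1, -1, 1, -1, 1, 1, 1, 1, 1, 1, -1, 1, -1, 1, -1, 1, -1, 1, 1]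

theorem gD4a_ok : gD4a.Ok chevD4 := GDat.ok_of_chk (by decide +kernel)

end Cfsg.Agent.Lib.ChevAlg
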