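import Cfsg.Agent.Lib.ChevGrA

/-!
# Graph data gD4c
-/

set_option autoImplicit false

namespace Cfsg.Agent.Lib.ChevAlg

open Cfsg.Lie

/-- graph data -/
def gD4c : GDat where
  p := 0
  rl := [0, 1, 2, 6, 7, 10, 3, 4, 8, 9, 5, 11, 12, 18, 14, 15, 19, 20, 13, 16, 17, 21, 22, 23]
  ll := [1, 1, 1, 1, 1, 1, 1, 1, 1, 1, 1, 1, 1, 1, 1, 1, 1, 1, 1, 1, 1, 1, 1, 1]
  el := [1, 1, 1, -1, -1, 1, -1, -1, 1, 1, 1, 1, 1, 1, 1, 1, -1, -1, 1, -1, -1, 1, 1, 1]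

theorem gD4c_ok : gD4c.Ok chevD4 := GDat.ok_of_chk (by decide +kernel)

end Cfsg.Agent.Lib.ChevAlg
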