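import Cfsg.Agent.Lib.ChevStC

/-!
# Steinberg families: the generation condition for the seven types
-/

set_option autoImplicit false

namespace Cfsg.Agent.Lib.ChevAlg

open Cfsg.Lie Cfsg.Agent.Lib.ChevTab Matrix

/-- check of the generation condition -/
def chkGen1 (D : ChevalleyDatum) (r a b k : ℕ) : Bool :=
  let L := D.commTerms a b
  decide (a < D.nroots) && decide (b < D.nroots) && decide (a ≠ r) && decide (b ≠ r) && decide (b ≠ a) &&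
  decide (b ≠ D.nroots - 1 - a) && decide (k < L.length) &&
  decide ((L.getD k (0, 0, 0, 0)).1 = r) && (decide ((L.getD k (0, 0, 0, 0)).2.1 = 1) || decide ((L.getD k (0, 0, 0, 0)).2.1 = -1)) &&
  (decide ((L.getD k (0, 0, 0, 0)).2.2.1 = 1) || decide ((L.getD k (0, 0, 0, 0)).2.2.2 = 1)) &&
  ((L.take k).all fun c => decide (c.1 ≠ r)) && ((L.drop (k + 1)).all fun c => decide (c.1 ≠ r))

def chkGenD (D : ChevalleyDatum) (w : List (ℕ × ℕ × ℕ)) : Bool :=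
  decide (w.length = D.nroots) && (w.zipIdx.all fun p => chkGen1 D p.2 p.1.1 p.1.2.1 p.1.2.2)

lemma chkGen1_sound {D : ChevalleyDatum} {r a b k : ℕ} (h : chkGen1 D r a b k = true) :
    a < D.nroots ∧ b < D.nroots ∧ a ≠ r ∧ b ≠ r ∧
    b ≠ a ∧ b ≠ D.nroots - 1 - a ∧ ∃ (L₁ L₂ : List (ℕ × ℤ × ℕ × ℕ)) (c : ℕ × ℤ × ℕ × ℕ), D.commTerms a b = L₁ ++ c :: L₂ ∧ c.1 = r ∧
    (c.2.1 = 1 ∨ c.2.1 = -1) ∧ (c.2.2.1 = 1 ∨ c.2.2.2 = 1) ∧ (∀ c' ∈ L₁, c'.1 ≠ r) ∧ ∀ c' ∈ L₂, c'.1 ≠ r := by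
  simp only [chkGen1, Bool.and_eq_true, Bool.or_eq_true, decide_eq_true_eq, List.all_eq_true] at h
  obtain ⟨⟨⟨⟨⟨⟨⟨⟨⟨⟨⟨h1, h2⟩, h3⟩, h4⟩, h5⟩, h6⟩, h7⟩, h8⟩, h9⟩, h10⟩, h11⟩, h12⟩ := h
  rw [List.getD_eq_getElem _ _ h7] at h8 h9 h10
  refine ⟨h1, h2, h3, h4, h5, h6, (D.commTerms a b).take k, (D.commTerms a b).drop (k + 1), (D.commTerms a b)[k], ?_,
    h8, h9, h10, h11, h12⟩
  rw [← List.drop_eq_getElem_cons, List.take_append_drop]

lemma chkGenD_sound {D : ChevalleyDatum} {w : List (ℕ × ℕ × ℕ)} (h : chkGenD D w = true) : GenD D := by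
  simp only [chkGenD, Bool.and_eq_true, decide_eq_true_eq, List.all_eq_true] at h
  obtain ⟨h1, h2⟩ := h
  intro r hr
  have hr' : r < w.length := by omega
  have h3 : (w[r], r) ∈ w.zipIdx := by
    rw [List.mem_iff_getElem]
    exact ⟨r, by simpa using hr', by simp⟩
  obtain ⟨h4, h5, h6⟩ := chkGen1_sound (h2 _ h3)
  exact ⟨_, _, h4, h5, h6⟩

theorem genG2 : GenD chevG2 := chkGenD_sound (w := [(1, 5, 0), (0, 6, 0), (0, 8, 0), (0, 9, 0), (0, 8, 1), (0, 10, 0), (1, 11, 0), (0, 9, 1), (1, 9, 1), (3, 11, 0), (5, 11, 0), (6, 10, 0)]) (by decide +kernel)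

theorem genB2 : GenD chevB2 := chkGenD_sound (w := [(1, 4, 1), (0, 5, 0), (0, 6, 0), (0, 5, 1), (0, 6, 1), (1, 7, 0), (2, 7, 0), (3, 6, 1)]) (by decide +kernel)

theorem genD4 : GenD chevD4 := chkGenD_sound (w := [(1, 9, 0), (0, 14, 0), (0, 15, 0), (0, 16, 0), (0, 17, 0), (1, 17, 0), (0, 19, 0), (0, 20, 0), (0, 21, 0), (0, 22, 0), (1, 20, 0), (1, 21, 0), (2, 22, 0), (3, 22, 0), (1, 23, 0), (2, 23, 0), (3, 23, 0), (4, 23, 0), (6, 22, 0), (6, 23, 0), (7, 23, 0), (8, 23, 0), (9, 23, 0), (14, 22, 0)]) (by decide +kernel)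

theorem genF4 : GenD chevF4 := chkGenD_sound (w := [(1, 23, 0), (0, 24, 0), (0, 26, 0), (7, 14, 0), (0, 31, 0), (0, 32, 0), (1, 32, 0), (3, 33, 0), (3, 34, 0), (3, 35, 0), (3, 36, 0), (3, 37, 0), (3, 38, 0), (3, 39, 0), (3, 40, 0), (0, 42, 0), (0, 43, 0), (1, 43, 0), (7, 37, 0), (7, 38, 0), (7, 39, 0), (0, 45, 0), (1, 45, 0), (0, 46, 0), (1, 47, 0), (2, 46, 0), (2, 47, 0), (8, 40, 0), (9, 40, 0), (10, 40, 0), (4, 46, 0), (4, 47, 0), (5, 47, 0), (7, 44, 0), (8, 44, 0), (9, 44, 0), (10, 44, 0), (11, 44, 0), (12, 44, 0), (13, 44, 0), (14, 44, 0), (15, 46, 0), (15, 47, 0), (16, 47, 0), (33, 40, 0), (21, 47, 0), (23, 47, 0), (24, 46, 0)]) (by decide +kernel)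

theorem genE6 : GenD chevE6 := chkGenD_sound (w := [(1, 25, 0), (0, 46, 0), (0, 47, 0), (0, 48, 0), (0, 49, 0), (0, 50, 0), (0, 51, 0), (0, 52, 0), (0, 53, 0), (0, 54, 0), (0, 55, 0), (1, 53, 0), (1, 54, 0), (1, 55, 0), (2, 55, 0), (5, 55, 0), (0, 61, 0), (0, 62, 0), (0, 63, 0), (0, 64, 0), (0, 65, 0), (0, 66, 0), (0, 67, 0), (0, 68, 0), (0, 69, 0), (0, 70, 0), (1, 64, 0), (1, 65, 0), (1, 66, 0), (2, 66, 0), (1, 67, 0), (1, 68, 0), (1, 69, 0), (2, 67, 0), (2, 68, 0), (3, 67, 0), (4, 68, 0), (3, 69, 0), (4, 69, 0), (2, 70, 0), (3, 70, 0), (4, 70, 0), (5, 69, 0), (5, 70, 0), (6, 70, 0), (7, 70, 0), (1, 71, 0), (2, 71, 0), (3, 71, 0), (4, 71, 0), (5, 71, 0), (6, 71, 0), (7, 71, 0), (8, 71, 0), (9, 71, 0), (10, 71, 0), (16, 66, 0), (16, 69, 0), (16, 70, 0), (17, 70, 0), (18, 70, 0), (16, 71, 0), (17, 71, 0), (18, 71, 0), (19, 71, 0), (20, 71, 0), (21, 71, 0), (22, 71, 0),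 (23, 71, 0), (24, 71, 0), (25, 71, 0), (46, 70, 0)]) (by decide +kernel)

theorem genE7 : GenD chevE7 := chkGenD_sound (w := [(1, 32, 0), (0, 93, 0), (0, 94, 0), (0, 95, 0), (0, 96, 0), (0, 97, 0), (0, 98, 0), (0, 99, 0), (0, 100, 0), (0, 101, 0), (0, 102, 0), (0, 103, 0), (0, 104, 0), (0, 105, 0), (0, 106, 0), (0, 107, 0), (0, 108, 0), (0, 109, 0), (0, 110, 0), (0, 111, 0), (0, 112, 0), (0, 113, 0), (0, 114, 0), (0, 115, 0), (0, 116, 0), (0, 117, 0), (0, 118, 0), (0, 119, 0), (0, 120, 0), (0, 121, 0), (0, 122, 0), (0, 123, 0), (0, 124, 0), (1, 109, 0), (1, 110, 0), (1, 111, 0), (1, 112, 0), (1, 113, 0), (1, 114, 0), (1, 115, 0), (1, 116, 0), (1, 117, 0), (1, 118, 0), (2, 115, 0), (2, 116, 0), (2, 117, 0), (2, 118, 0), (3, 118, 0), (1, 119, 0), (1, 120, 0), (1, 121, 0), (1, 122, 0), (1, 123, 0), (2, 119, 0), (2, 120, 0), (2, 121, 0), (2, 122, 0), (3, 119, 0), (3, 120,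 0), (3, 121, 0), (4, 119, 0), (4, 120, 0), (5, 119, 0), (6, 120, 0), (5, 121, 0), (6, 121, 0), (4, 122, 0), (5, 122, 0), (6, 122, 0), (3, 123, 0), (4, 123, 0), (5, 123, 0), (6, 123, 0), (2, 124, 0), (3, 124, 0), (4, 124, 0), (5, 124, 0), (6, 124, 0), (7, 122, 0), (7, 123, 0), (8, 123, 0), (9, 123, 0), (10, 123, 0), (7, 124, 0), (8, 124, 0), (9, 124, 0), (10, 124, 0), (11, 124, 0), (12, 124, 0), (13, 124, 0), (14, 124, 0), (15, 124, 0), (16, 124, 0), (1, 125, 0), (2, 125, 0), (3, 125, 0), (4, 125, 0), (5, 125, 0), (6, 125, 0), (7, 125, 0), (8, 125, 0), (9, 125, 0), (10, 125, 0), (11, 125, 0), (12, 125, 0), (13, 125, 0), (14, 125, 0), (15, 125, 0), (16, 125, 0), (17, 125, 0), (18, 125, 0), (19, 125, 0), (20, 125, 0), (21, 125, 0), (22, 125, 0), (23, 125, 0), (24, 125, 0), (25, 125, 0), (26, 125, 0), (27, 125, 0), (28, 125, 0), (29, 125, 0), (30, 125, 0), (31, 125, 0), (32,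 125, 0), (93, 124, 0)]) (by decide +kernel)

theorem genE8 : GenD chevE8 := chkGenD_sound (w := [(1, 119, 0), (0, 120, 0), (0, 122, 0), (0, 125, 0), (0, 129, 0), (0, 134, 0), (0, 140, 0), (0, 146, 0), (0, 151, 0), (0, 155, 0), (0, 158, 0), (0, 160, 0), (0, 161, 0), (1, 161, 0), (0, 168, 0), (0, 173, 0), (0, 177, 0), (0, 180, 0), (0, 182, 0), (0, 183, 0), (1, 183, 0), (0, 187, 0), (0, 190, 0), (0, 192, 0), (0, 193, 0), (1, 193, 0), (0, 196, 0), (0, 198, 0), (0, 199, 0), (1, 199, 0), (0, 201, 0), (0, 202, 0), (1, 202, 0), (0, 203, 0), (1, 203, 0), (2, 203, 0), (0, 206, 0), (0, 208, 0), (0, 209, 0), (1, 209, 0), (0, 211, 0), (0, 212, 0), (1, 212, 0), (0, 213, 0), (1, 213, 0), (2, 213, 0), (0, 215, 0), (0, 216, 0), (1, 216, 0), (0, 217, 0), (1, 217, 0), (2, 217, 0), (0, 218, 0), (1, 218, 0), (2, 218, 0), (3, 218, 0), (0, 220, 0), (0, 221, 0), (1, 221, 0), (0, 222, 0), (1,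 222, 0), (2, 222, 0), (0, 223, 0), (1, 223, 0), (2, 223, 0), (3, 223, 0), (0, 224, 0), (1, 224, 0), (2, 224, 0), (3, 224, 0), (4, 224, 0), (0, 225, 0), (1, 225, 0), (2, 225, 0), (3, 225, 0), (4, 225, 0), (5, 225, 0), (6, 225, 0), (0, 227, 0), (0, 228, 0), (1, 228, 0), (0, 229, 0), (1, 229, 0), (2, 229, 0), (0, 230, 0), (1, 230, 0), (2, 230, 0), (3, 230, 0), (0, 231, 0), (1, 231, 0), (2, 231, 0), (3, 231, 0), (4, 231, 0), (0, 232, 0), (1, 232, 0), (2, 232, 0), (3, 232, 0), (4, 232, 0), (5, 232, 0), (0, 233, 0), (1, 233, 0), (2, 233, 0), (3, 233, 0), (4, 233, 0), (5, 233, 0), (0, 234, 0), (1, 234, 0), (2, 234, 0), (3, 234, 0), (4, 234, 0), (0, 235, 0), (1, 235, 0), (2, 235, 0), (3, 235, 0), (0, 236, 0), (1, 236, 0), (2, 236, 0), (0, 237, 0), (1, 237, 0), (0, 238, 0), (1, 239, 0), (2, 238, 0), (2, 239, 0), (3, 237, 0), (3, 238, 0), (3, 239, 0), (4, 236, 0), (4, 237, 0),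 (4, 238, 0), (4, 239, 0), (5, 235, 0), (5, 236, 0), (5, 237, 0), (5, 238, 0), (5, 239, 0), (6, 234, 0), (6, 235, 0), (6, 236, 0), (6, 237, 0), (6, 238, 0), (6, 239, 0), (7, 234, 0), (7, 235, 0), (7, 236, 0), (7, 237, 0), (7, 238, 0), (7, 239, 0), (8, 235, 0), (8, 236, 0), (8, 237, 0), (8, 238, 0), (8, 239, 0), (9, 236, 0), (9, 237, 0), (9, 238, 0), (9, 239, 0), (10, 237, 0), (10, 238, 0), (10, 239, 0), (11, 238, 0), (11, 239, 0), (12, 239, 0), (14, 233, 0), (14, 234, 0), (14, 235, 0), (14, 236, 0), (14, 237, 0), (14, 238, 0), (14, 239, 0), (15, 235, 0), (15, 236, 0), (15, 237, 0), (15, 238, 0), (15, 239, 0), (16, 236, 0), (16, 237, 0), (16, 238, 0), (16, 239, 0), (17, 237, 0), (17, 238, 0), (17, 239, 0), (18, 238, 0), (18, 239, 0), (19, 239, 0), (21, 236, 0), (21, 237, 0), (21, 238, 0), (21, 239, 0), (22, 237, 0), (22, 238, 0), (22, 239, 0), (23, 238, 0), (23, 239, 0),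 (24, 239, 0), (26, 237, 0), (26, 238, 0), (26, 239, 0), (27, 238, 0), (27, 239, 0), (28, 239, 0), (30, 238, 0), (30, 239, 0), (31, 239, 0), (33, 239, 0), (36, 237, 0), (36, 238, 0), (36, 239, 0), (37, 238, 0), (37, 239, 0), (38, 239, 0), (40, 238, 0), (40, 239, 0), (41, 239, 0), (43, 239, 0), (46, 238, 0), (46, 239, 0), (47, 239, 0), (49, 239, 0), (52, 239, 0), (56, 238, 0), (56, 239, 0), (57, 239, 0), (59, 239, 0), (62, 239, 0), (66, 239, 0), (71, 239, 0), (78, 238, 0), (78, 239, 0), (79, 239, 0), (81, 239, 0), (84, 239, 0), (88, 239, 0), (93, 239, 0), (99, 239, 0), (105, 239, 0), (110, 239, 0), (114, 239, 0), (117, 239, 0), (119, 239, 0), (120, 238, 0)]) (by decide +kernel)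

theorem gen_of (D : ChevalleyDatum) (hD : D ∈ [chevG2, chevB2, chevD4, chevF4, chevE6, chevE7, chevE8]) : GenD D := by
  simp only [List.mem_cons, List.not_mem_nil, or_false] at hD
  rcases hD with rfl | rfl | rfl | rfl | rfl | rfl | rfl
  · exact genG2
  · exact genB2
  · exact genD4
  · exact genF4
  · exact genE6
  · exact genE7
  · exact genE8

end Cfsg.Agent.Lib.ChevAlg
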