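import Cfsg.Agent.Lib.ChevTwH
import Cfsg.Agent.Lib.ChevTwE6

/-!
# Levels of the fixed Weyl groups (generated tables)
-/

set_option autoImplicit false

namespace Cfsg.Agent.Lib.ChevAlg

open Cfsg.Lie Cfsg.Agent.Lib.ChevTab Matrix

/-- step condition for one root and one class -/
def StepP (D : ChevalleyDatum) (J : List ℕ) (dist : ℕ → ℕ) (g : ℕ) : Prop :=
  (∀ a' ∈ J, 0 < D.cartan a' g) ∧ dist (wapp D J g) + J.length = dist g ∧ dist (wapp D J g) ≠ 0 ∧
      ∀ a' ∈ J, D.cartan a' (wapp D J g) < 0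

instance (D : ChevalleyDatum) (J : List ℕ) (dist : ℕ → ℕ) (g : ℕ) : Decidable (StepP D J dist g) := by
  unfold StepP; infer_instance

/-- step condition for one root -/
def StepQ (D : ChevalleyDatum) (n : ℕ) (J : ℕ → List ℕ) (JJ : List ℕ) (dist : ℕ → ℕ) (g : ℕ) : Prop :=
  ∀ i < n, ∀ a ∈ J i, a ∉ JJ ∨ D.cartan a g ≤ 0 ∨ StepP D (J i) dist g

instance (D : ChevalleyDatum) (n : ℕ) (J : ℕ → List ℕ) (JJ : List ℕ) (dist : ℕ → ℕ) (g : ℕ) : Decidable (StepQ D n J JJ dist g) := by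
  unfold StepQ; infer_instance

/-- step condition for the levels -/
def StepD (D : ChevalleyDatum) (G : GDat) (n : ℕ) (J : ℕ → List ℕ) (JJ : List ℕ) (dist : ℕ → ℕ) : Prop :=
  ∀ g < D.nroots, dist g = 0 ∨ G.ρ g ≠ g ∨ StepQ D n J JJ dist g

instance (D : ChevalleyDatum) (G : GDat) (n : ℕ) (J : ℕ → List ℕ) (JJ : List ℕ) (dist : ℕ → ℕ) : Decidable (StepD D G n J JJ dist) := by
  unfold StepD; infer_instance

section

variable {D : ChevalleyDatum} {K : Type*} [Field K] {Q : ChevO D K}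
  {G : GDat} (hG : G.Ok D) (hcp : ChP K G.p) {γ : MulAut ↥(D.group K)}
    (hγ : ∀ r < D.nroots, ∀ t, γ (xg Q r t) = Yg Q G r t) (φ : K ≃+* K)
  {n : ℕ} {J : ℕ → List ℕ} {π : ℕ → ℕ} (C : CD D G n J π)

theorem levT_of (hS : SuppD Q.C) {JJ JJ' : List ℕ} {b : ℕ} {dist : ℕ → ℕ} (L : LevD D JJ JJ' b dist) (hb : G.ρ b = b)
    (hst : ∀ i < n, ∀ a ∈ J i, a ∈ JJ → ∀ a' ∈ J i, a' ∈ JJ) (hstep : StepD D G n J JJ dist) :
    LevT (C.H hG hcp hγ φ) JJ JJ' b dist where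
  L := L
  bfix := Fin.ext hb
  stable i := hst i i.2
  step g h1 h2 i a ha haJ hpos := by
    have hnin : ninv ((C.H hG hcp hγ φ).wJ i) = (J i).length := (C.com i i.2).ninv hS (C.H hG hcp hγ φ) rfl
    have hw : (((C.H hG hcp hγ φ).wJ i g : Fin D.nroots) : ℕ) = wapp D (J i) g := mkTwJ_wJ _ _ i g
    rw [hnin, hw]
    rcases hstep g g.2 with h | h | h
    · exact absurd h h1
    · exact absurd (congrArg Fin.val h2) h
    · rcases h i i.2 a ha with h3 | h3 | h3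
      · exact absurd haJ h3
      · exact absurd hpos (not_lt.2 h3)
      · exact h3

end

/-- distances from the root 0 -/
def distE6a (g : ℕ) : ℕ := [1, 2, 3, 4, 5, 4, 5, 6, 6, 7, 8, 7, 8, 9, 10, 11, 5, 6, 7, 7, 8, 9, 8, 9, 10, 11, 8, 9, 10, 11, 9, 10, 11, 10, 11, 11, 12, 12, 13, 12, 13, 14, 12, 13, 14, 15, 12, 13, 14, 15, 14, 15, 16, 16, 17, 18, 12, 13, 14, 15, 16, 15, 16, 17, 17, 18, 19, 18, 19, 20, 21, 22].getD g 0

theorem levE6a : LevD chevE6 [0, 1, 2, 3, 4, 5] [0, 2, 3, 4, 5] 0 distE6a where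
  lt := by decide +kernel
  b_lt := by decide +kernel
  anti := by decide +kernel
  stab := by
    intro j
    have h : ∀ j < chevE6.rank, j ∈ ([0, 2, 3, 4, 5] : List ℕ) ↔ j ∈ ([0, 1, 2, 3, 4, 5] : List ℕ) ∧ chevE6.cartan j 0 = 0 := by decide +kernel
    by_cases hj : j < chevE6.rank
    · exact h j hj
    · have h1 : ∀ j ∈ ([0, 1, 2, 3, 4, 5] : List ℕ), j < chevE6.rank := by decide +kernel
      have h2 : ∀ j ∈ ([0, 2, 3, 4, 5] : List ℕ), j < chevE6.rank := by decide +kernel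
      exact ⟨fun h => absurd (h2 j h) hj, fun h => absurd (h1 j h.1) hj⟩
  dist_b := by decide +kernel
  step := by
    have h : ∀ g < chevE6.nroots, distE6a g = 0 ∨ ∀ j ∈ ([0, 1, 2, 3, 4, 5] : List ℕ), chevE6.cartan j g = 0 ∨
      (chevE6.cartan j g < 0 ∧ distE6a (chevE6.reflectRoot j g) = distE6a g + 1) ∨
      (0 < chevE6.cartan j g ∧ distE6a (chevE6.reflectRoot j g) + 1 = distE6a g ∧ distE6a (chevE6.reflectRoot j g) ≠ 0) := by decide +kernel
    intro g hg hne j hj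
    exact (h g hg).resolve_left hne j hj
  down := by
    have h : ∀ g < chevE6.nroots, distE6a g = 0 ∨ g = 0 ∨ ∃ j ∈ ([0, 1, 2, 3, 4, 5] : List ℕ), 0 < chevE6.cartan j g := by decide +kernel
    intro g hg hne
    exact (h g hg).resolve_left hne

theorem stepE6a : StepD chevE6 gE6 4 jE6 [0, 1, 2, 3, 4, 5] distE6a := by decide +kernel

theorem sumE6a (q : ℤ) : (∑ g ∈ Finset.range chevE6.nroots, if distE6a g = 0 ∨ gE6.ρ g ≠ g then 0 else q ^ (distE6a g - 1)) =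
    evN q [1, 1, 1, 0, 1, 1, 2, 1, 1, 1, 2, 2, 1, 1, 1, 2, 1, 1, 0, 1, 1, 1] := by
  rw [show chevE6.nroots = 72 from rfl]
  simp only [Finset.sum_range_succ, Finset.sum_range_zero, evN]
  simp [distE6a, gE6, GDat.ρ]
  ring

/-- distances from the root 11 -/
def distE6b (g : ℕ) : ℕ := [0, 0, 0, 0, 0, 0, 0, 0, 0, 0, 0, 1, 2, 3, 4, 5, 0, 0, 0, 0, 0, 0, 0, 0, 0, 0, 2, 3, 4, 5, 3, 4, 5, 4, 5, 5, 6, 6, 7, 6, 7, 8, 6, 7, 8, 9, 0, 0, 0, 0, 0, 0, 0, 0, 0, 0, 6, 7, 8, 9, 10, 0, 0, 0, 0, 0, 0, 0, 0, 0, 0, 0].getD g 0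

theorem levE6b : LevD chevE6 [0, 2, 3, 4, 5] [2, 3, 4] 11 distE6b where
  lt := by decide +kernel
  b_lt := by decide +kernel
  anti := by decide +kernel
  stab := by
    intro j
    have h : ∀ j < chevE6.rank, j ∈ ([2, 3, 4] : List ℕ) ↔ j ∈ ([0, 2, 3, 4, 5] : List ℕ) ∧ chevE6.cartan j 11 = 0 := by decide +kernel
    by_cases hj : j < chevE6.rank
    · exact h j hj
    · have h1 : ∀ j ∈ ([0, 2, 3, 4, 5] : List ℕ), j < chevE6.rank := by decide +kernel
      have h2 : ∀ j ∈ ([2, 3, 4] : List ℕ), j < chevE6.rank := by decide +kernel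
      exact ⟨fun h => absurd (h2 j h) hj, fun h => absurd (h1 j h.1) hj⟩
  dist_b := by decide +kernel
  step := by
    have h : ∀ g < chevE6.nroots, distE6b g = 0 ∨ ∀ j ∈ ([0, 2, 3, 4, 5] : List ℕ), chevE6.cartan j g = 0 ∨
      (chevE6.cartan j g < 0 ∧ distE6b (chevE6.reflectRoot j g) = distE6b g + 1) ∨
      (0 < chevE6.cartan j g ∧ distE6b (chevE6.reflectRoot j g) + 1 = distE6b g ∧ distE6b (chevE6.reflectRoot j g) ≠ 0) := by decide +kernel
    intro g hg hne j hj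
    exact (h g hg).resolve_left hne j hj
  down := by
    have h : ∀ g < chevE6.nroots, distE6b g = 0 ∨ g = 11 ∨ ∃ j ∈ ([0, 2, 3, 4, 5] : List ℕ), 0 < chevE6.cartan j g := by decide +kernel
    intro g hg hne
    exact (h g hg).resolve_left hne

theorem stepE6b : StepD chevE6 gE6 4 jE6 [0, 2, 3, 4, 5] distE6b := by decide +kernel

theorem sumE6b (q : ℤ) : (∑ g ∈ Finset.range chevE6.nroots, if distE6b g = 0 ∨ gE6.ρ g ≠ g then 0 else q ^ (distE6b g - 1)) =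
    evN q [1, 0, 1, 0, 1, 1, 0, 1, 0, 1] := by
  rw [show chevE6.nroots = 72 from rfl]
  simp only [Finset.sum_range_succ, Finset.sum_range_zero, evN]
  simp [distE6b, gE6, GDat.ρ]
  ring

/-- distances from the root 27 -/
def distE6c (g : ℕ) : ℕ := [0, 0, 0, 0, 0, 0, 0, 0, 0, 0, 0, 0, 0, 0, 0, 0, 0, 0, 0, 0, 0, 0, 0, 0, 0, 0, 0, 1, 2, 3, 0, 2, 3, 0, 3, 0, 0, 4, 0, 4, 5, 0, 4, 5, 6, 0, 0, 0, 0, 0, 0, 0, 0, 0, 0, 0, 0, 0, 0, 0, 0, 0, 0, 0, 0, 0, 0, 0, 0, 0, 0, 0].getD g 0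

theorem levE6c : LevD chevE6 [2, 3, 4] [3] 27 distE6c where
  lt := by decide +kernel
  b_lt := by decide +kernel
  anti := by decide +kernel
  stab := by
    intro j
    have h : ∀ j < chevE6.rank, j ∈ ([3] : List ℕ) ↔ j ∈ ([2, 3, 4] : List ℕ) ∧ chevE6.cartan j 27 = 0 := by decide +kernel
    by_cases hj : j < chevE6.rank
    · exact h j hj
    · have h1 : ∀ j ∈ ([2, 3, 4] : List ℕ), j < chevE6.rank := by decide +kernel
      have h2 : ∀ j ∈ ([3] : List ℕ), j < chevE6.rank := by decide +kernel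
      exact ⟨fun h => absurd (h2 j h) hj, fun h => absurd (h1 j h.1) hj⟩
  dist_b := by decide +kernel
  step := by
    have h : ∀ g < chevE6.nroots, distE6c g = 0 ∨ ∀ j ∈ ([2, 3, 4] : List ℕ), chevE6.cartan j g = 0 ∨
      (chevE6.cartan j g < 0 ∧ distE6c (chevE6.reflectRoot j g) = distE6c g + 1) ∨
      (0 < chevE6.cartan j g ∧ distE6c (chevE6.reflectRoot j g) + 1 = distE6c g ∧ distE6c (chevE6.reflectRoot j g) ≠ 0) := by decide +kernel
    intro g hg hne j hj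
    exact (h g hg).resolve_left hne j hj
  down := by
    have h : ∀ g < chevE6.nroots, distE6c g = 0 ∨ g = 27 ∨ ∃ j ∈ ([2, 3, 4] : List ℕ), 0 < chevE6.cartan j g := by decide +kernel
    intro g hg hne
    exact (h g hg).resolve_left hne

theorem stepE6c : StepD chevE6 gE6 4 jE6 [2, 3, 4] distE6c := by decide +kernel

theorem sumE6c (q : ℤ) : (∑ g ∈ Finset.range chevE6.nroots, if distE6c g = 0 ∨ gE6.ρ g ≠ g then 0 else q ^ (distE6c g - 1)) =
    evN q [1, 0, 1, 1, 0, 1] := by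
  rw [show chevE6.nroots = 72 from rfl]
  simp only [Finset.sum_range_succ, Finset.sum_range_zero, evN]
  simp [distE6c, gE6, GDat.ρ]
  ring

/-- distances from the root 0 -/
def distD4a (g : ℕ) : ℕ := [1, 2, 3, 3, 4, 5, 3, 4, 4, 5, 5, 5, 6, 6, 6, 7, 7, 8, 6, 7, 8, 8, 9, 10].getD g 0

theorem levD4a : LevD chevD4 [0, 1, 2, 3] [0, 2, 3] 0 distD4a where
  lt := by decide +kernel
  b_lt := by decide +kernel
  anti := by decide +kernel
  stab := by
    intro j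
    have h : ∀ j < chevD4.rank, j ∈ ([0, 2, 3] : List ℕ) ↔ j ∈ ([0, 1, 2, 3] : List ℕ) ∧ chevD4.cartan j 0 = 0 := by decide +kernel
    by_cases hj : j < chevD4.rank
    · exact h j hj
    · have h1 : ∀ j ∈ ([0, 1, 2, 3] : List ℕ), j < chevD4.rank := by decide +kernel
      have h2 : ∀ j ∈ ([0, 2, 3] : List ℕ), j < chevD4.rank := by decide +kernel
      exact ⟨fun h => absurd (h2 j h) hj, fun h => absurd (h1 j h.1) hj⟩
  dist_b := by decide +kernel
  step := by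
    have h : ∀ g < chevD4.nroots, distD4a g = 0 ∨ ∀ j ∈ ([0, 1, 2, 3] : List ℕ), chevD4.cartan j g = 0 ∨
      (chevD4.cartan j g < 0 ∧ distD4a (chevD4.reflectRoot j g) = distD4a g + 1) ∨
      (0 < chevD4.cartan j g ∧ distD4a (chevD4.reflectRoot j g) + 1 = distD4a g ∧ distD4a (chevD4.reflectRoot j g) ≠ 0) := by decide +kernel
    intro g hg hne j hj
    exact (h g hg).resolve_left hne j hj
  down := by
    have h : ∀ g < chevD4.nroots, distD4a g = 0 ∨ g = 0 ∨ ∃ j ∈ ([0, 1, 2, 3] : List ℕ), 0 < chevD4.cartan j g := by decide +kernel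
    intro g hg hne
    exact (h g hg).resolve_left hne

theorem stepD4a : StepD chevD4 gD4a 2 jD4 [0, 1, 2, 3] distD4a := by decide +kernel

theorem sumD4a (q : ℤ) : (∑ g ∈ Finset.range chevD4.nroots, if distD4a g = 0 ∨ gD4a.ρ g ≠ g then 0 else q ^ (distD4a g - 1)) =
    evN q [1, 1, 0, 0, 1, 1, 0, 0, 1, 1] := by
  rw [show chevD4.nroots = 24 from rfl]
  simp only [Finset.sum_range_succ, Finset.sum_range_zero, evN]
  simp [distD4a, gD4a, GDat.ρ]
  ring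

end Cfsg.Agent.Lib.ChevAlg
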