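import Cfsg.Agent.Lib.ChevTwF4c

/-!
# The groups `²F₄(q)`: orders, structure
-/

set_option autoImplicit false

namespace Cfsg.Agent.Lib.ChevAlg

open Cfsg.Lie Cfsg.Agent.Lib.ChevTab Matrix

section F4

variable {K : Type*} [Field K]

lemma copr_F4 (m : ℕ) : Nat.Coprime (2 ^ (2 * m + 1) - 1) (2 ^ m * 2 + 2) := by
  have h1 : 2 ^ (2 * m + 1) - 1 = (2 ^ m * 2 + 2) * (2 ^ m - 1) + 1 := by
    have h2 : 1 ≤ 2 ^ m := Nat.one_le_two_pow
    have h3 : 1 ≤ 2 ^ (2 * m + 1) := Nat.one_le_two_pow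
    zify [h2, h3]
    ring
  rw [h1, Nat.Coprime, Nat.gcd_comm, Nat.gcd_mul_left_add_right]
  exact Nat.gcd_one_right _

theorem exists_PkF4 [Fintype K] {m : ℕ} (hK : Fintype.card K = 2 ^ (2 * m + 1)) :
    ∃ (_ : CharP K 2) (P : Pk chevF4 gF4 K (2 ^ m)), (∀ t, P.φ (P.φ t) ^ 2 = t) ∧
      ∀ s : Kˣ, ∃ t : Kˣ, Units.map (P.φ : K →* K) t ^ 2 * t ^ 2 = s := by
  have hc : CharP K 2 := charP_of_pow Nat.prime_two (by omega) hK
  obtain ⟨Q, hS⟩ := exists_chevS chevF4 (by simp) K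
  obtain ⟨γ, hγ⟩ := auto_F4 (frob_surj Nat.prime_two) Q
  obtain ⟨φ, hφ⟩ := exists_frobP (K := K) Nat.prime_two m
  refine ⟨hc, ⟨Q, hS, γ, hγ, φ, hφ⟩, ?_, ?_⟩
  · intro t
    show φ (φ t) ^ 2 = t
    rw [hφ, hφ, ← pow_mul, ← pow_mul]
    have : 2 ^ m * (2 ^ m * 2) = Fintype.card K := by rw [hK]; ring
    rw [this, FiniteField.pow_card]
  · intro s
    have hcard : Nat.card Kˣ = 2 ^ (2 * m + 1) - 1 := by
      classical
      rw [Nat.card_eq_fintype_card, Fintype.card_units, hK]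
    have hcop : (Nat.card Kˣ).Coprime (2 ^ m * 2 + 2) := by rw [hcard]; exact copr_F4 m
    refine ⟨(powCoprime hcop).symm s, ?_⟩
    have h1 : ((powCoprime hcop).symm s) ^ (2 ^ m * 2 + 2) = s := (powCoprime hcop).apply_symm_apply s
    have h2 : Units.map (φ : K →* K) ((powCoprime hcop).symm s) = ((powCoprime hcop).symm s) ^ 2 ^ m := by
      apply Units.ext
      rw [Units.val_pow_eq_pow_val, ← hφ]; rfl
    conv_rhs => rw [← h1]
    show Units.map (φ : K →* K) ((powCoprime hcop).symm s) ^ 2 * _ = _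
    rw [h2, ← pow_mul, ← pow_add]

variable {e : ℕ} (P : Pk chevF4 gF4 K e) [hc : CharP K 2] (hφ : ∀ t, P.φ (P.φ t) ^ 2 = t)
  (hs : ∀ s : Kˣ, ∃ t : Kˣ, Units.map (P.φ : K →* K) t ^ 2 * t ^ 2 = s)

/-- words of the fixed Weyl group, in the generators -/
def cF4 (k : ℕ) : List ℕ := [[], [0], [1], [0, 1], [1, 0], [0, 1, 0], [1, 0, 1], [0, 1, 0, 1], [1, 0, 1, 0], [0, 1, 0, 1, 0],
  [1, 0, 1, 0, 1], [0, 1, 0, 1, 0, 1], [1, 0, 1, 0, 1, 0], [0, 1, 0, 1, 0, 1, 0], [1, 0, 1, 0, 1, 0, 1], [0, 1, 0, 1, 0, 1, 0, 1]].getD k []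

/-- words of the fixed Weyl group -/
def LF4 (k : ℕ) : List ℕ := (cF4 k).flatMap wF4

/-- half lengths -/
def nF4 (k : ℕ) : ℕ := [0, 1, 2, 3, 3, 4, 5, 6, 6, 7, 8, 9, 9, 10, 11, 12].getD k 0

theorem wrF4 : WrT chevF4 2 wF4 16 LF4 where
  pos := by decide
  lt := by decide +kernel
  wlt := by decide +kernel
  one := rfl
  mul := by decide +kernel
  back := by decide +kernel
  inj := by decide +kernel

lemma ninv_F4 {k : ℕ} (hk : k < 16) : ninv (ww P.Q (fl chevF4 (LF4 k))) = 2 * nF4 k := by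
  rw [ninv_ww, fl_map (wrF4.lt k hk)]
  exact (by decide +kernel : ∀ k < 16, ((List.range chevF4.nroots).filter fun r => decide (chevF4.nroots / 2 ≤ r ∧
    wapp chevF4 (LF4 k) r < chevF4.nroots / 2)).length = 2 * nF4 k) k hk

lemma ninv_wJ_F4 (i : Fin 2) : ninv ((HF4 P).wJ i) = [2, 4].getD i 0 := by
  have h1 : (HF4 P).wJ i = ww P.Q (fl chevF4 (wF4 i)) := rfl
  rw [h1, ninv_ww, fl_map (wrF4.wlt i i.2)]
  exact (by decide +kernel : ∀ i < 2, ((List.range chevF4.nroots).filter fun r => decide (chevF4.nroots / 2 ≤ r ∧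
    wapp chevF4 (wF4 i) r < chevF4.nroots / 2)).length = [2, 4].getD i 0) i i.2

variable [Fintype K]

include hφ in
lemma f4_card_PJ (i : Fin 2) : Nat.card ((TF4 P).FX (PJ P.Q ((HF4 P).J i))) ^ 2 = (Fintype.card K) ^ ninv ((HF4 P).wJ i) := by
  rw [ninv_wJ_F4]
  fin_cases i
  · have h1 : Nat.card ((TF4 P).FX (PJ P.Q [0, 3])) = Nat.card K := by
      apply comF4.card_FX gF4_ok (Or.inr hc) P.hγ P.φ (π := pF4) (by decide +kernel) (by decide +kernel) (by decide +kernel) P.hS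
        (fun (x : K) a => if a = 0 then P.φ x else x)
      · intro x a ha
        have : a = 0 ∨ a = 3 := by simpa using ha
        rcases this with rfl | rfl
        · rw [show gF4.lam (chevF4.simple 0) = 2 by decide +kernel]
          simp [pF4, hφ]
        · rw [show gF4.lam (chevF4.simple 3) = 1 by decide +kernel]
          simp [pF4]
      · intro x x' h
        simpa using h 3 (by simp)
      · intro t ht
        refine ⟨t 3, fun a ha => ?_⟩
        have h3 := ht 3 (by simp)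
        rw [show gF4.lam (chevF4.simple 3) = 1 by decide +kernel, pow_one, show pF4 3 = 0 from rfl] at h3
        have : a = 0 ∨ a = 3 := by simpa using ha
        rcases this with rfl | rfl
        · simp [h3]
        · simp
    show Nat.card ((TF4 P).FX (PJ P.Q [0, 3])) ^ 2 = Fintype.card K ^ 2
    rw [h1, Nat.card_eq_fintype_card]
  · have h1 : Nat.card ((TF4 P).FX (PJ P.Q [1, 2])) = Nat.card (K × K) := by
      symm
      apply Nat.card_congr
      refine Equiv.ofBijective (fun x => (⟨_, (f4_mem_FX P hφ).2 ⟨x.1, x.2, rfl⟩⟩ : (TF4 P).FX (PJ P.Q [1, 2]))) ⟨?_, ?_⟩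
      · rintro ⟨t, u⟩ ⟨t', u'⟩ h
        have h2 := congrArg Subtype.val h
        simp only [(b2r_pos P.Q).word P.φ] at h2
        obtain ⟨h3, -, h4, -⟩ := uniq_F4 P.Q _ _ _ _ _ _ _ _ h2
        exact Prod.ext h3 h4
      · rintro ⟨y, hy⟩
        obtain ⟨t, u, rfl⟩ := (f4_mem_FX P hφ).1 hy
        exact ⟨(t, u), rfl⟩
    show Nat.card ((TF4 P).FX (PJ P.Q [1, 2])) ^ 2 = Fintype.card K ^ 4
    rw [h1, Nat.card_prod, Nat.card_eq_fintype_card]
    ring

include hφ in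
theorem f4_card_FXpos : Nat.card ((TF4 P).FX (Pos chevF4)) = Fintype.card K ^ 12 := by
  have h1 := (f4_twG P hφ).card_FX_pos (f4_card_PJ P hφ)
  have h2 : Fintype.card K ^ (chevF4.nroots / 2) = (Fintype.card K ^ 12) ^ 2 := by
    rw [← pow_mul]; rfl
  rw [h2] at h1
  exact Nat.pow_left_injective (by norm_num : 2 ≠ 0) h1

include hφ in
lemma f4_card_FXinv {k : ℕ} (hk : k < 16) : Nat.card ((TF4 P).FX (Inv (ww P.Q (fl chevF4 (LF4 k))))) = Fintype.card K ^ nF4 k := by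
  have h0 := wrF4.mem (T := TF4 P) (fun _ => rfl) jdF4 hk
  have h1 := (f4_twG P hφ).card_FX (f4_card_PJ P hφ) h0.1 h0.2
  rw [ninv_F4 P hk, mul_comm, pow_mul] at h1
  exact Nat.pow_left_injective (by norm_num : 2 ≠ 0) h1

include P hφ hs in
theorem f4_card_U : Nat.card ↥(chevF4.posUnipotent K ⊓ twistedF4 K e) = Fintype.card K ^ 12 := by
  rw [f4_eq P hφ hs, posUnipotent_eq P.Q, inf_comm]
  exact f4_card_FXpos P hφ

include P hφ hs in
theorem f4_card_H : Nat.card ↥(chevF4.diagonalSubgroup K ⊓ twistedF4 K e) = (Fintype.card K - 1) ^ 2 := by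
  rw [f4_eq P hφ hs, inf_comm]
  exact card_torus_F4 P hφ

include P hφ hs in
theorem f4_card : Nat.card ↥(twistedF4 K e) = Fintype.card K ^ 12 * (Fintype.card K - 1) * (Fintype.card K ^ 3 + 1) *
    (Fintype.card K ^ 4 - 1) * (Fintype.card K ^ 6 + 1) := by
  have h1 := (f4_twG P hφ).card_sum (f4_torus_le P hφ hs)
  have h2 := card_torus_F4 P hφ
  have h3 := wrF4.sum (T := TF4 P) (fun _ => rfl) jdF4 (fun w => Nat.card ((TF4 P).FX (Inv w)))
  rw [h3, f4_card_FXpos P hφ, h2] at h1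
  have h4 : ∑ k ∈ Finset.range 16, Nat.card ((TF4 P).FX (Inv (ww P.Q (fl chevF4 (LF4 k))))) =
      ∑ k ∈ Finset.range 16, Fintype.card K ^ nF4 k :=
    Finset.sum_congr rfl fun k hk => f4_card_FXinv P hφ (Finset.mem_range.1 hk)
  rw [h4] at h1
  rw [h1]
  have hq1 : 1 ≤ Fintype.card K := Fintype.card_pos
  have hpow : 1 ≤ Fintype.card K ^ 4 := Nat.one_le_pow _ _ hq1
  generalize Fintype.card K = q at *
  simp only [Finset.sum_range_succ, Finset.sum_range_zero, nF4]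
  zify [hq1, hpow]
  simp
  ring

include P hφ hs in
theorem f4_bn : ∃ B : Cfsg.BNPair ↥(twistedF4 K e),
      B.B = (chevF4.borelSubgroup K ⊓ twistedF4 K e).subgroupOf (twistedF4 K e) ∧
      B.N = (chevF4.monomialSubgroup K ⊓ twistedF4 K e).subgroupOf (twistedF4 K e) :=
  ⟨(f4_twG P hφ).bnT (f4_torus_le P hφ hs) (fun i j a hi hj => Fin.ext (jdF4.dis i i.2 j j.2 a hi hj)), rfl, rfl⟩

omit [Fintype K] in
include hφ in
lemma f4_full (i : Fin 2) : ∃ t : ℕ → K, prodL P.Q (lst chevF4 (PJ P.Q ((HF4 P).J i))) t ∈ (TF4 P).Fx ∧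
    ∀ a ∈ (HF4 P).J i, t (chevF4.simple a) ≠ 0 := by
  fin_cases i
  · refine ⟨fun _ => 1, ?_, fun a _ => one_ne_zero⟩
    show prodL P.Q (lst chevF4 (PJ P.Q [0, 3])) (fun _ => (1 : K)) ∈ (TF4 P).Fx
    rw [comF4.prodL_eq P.hS]
    apply (f4_pair_iff P _).2
    simp
  · refine ⟨fun n => if n = 28 then 0 else 1, ?_, ?_⟩
    · show prodL P.Q (lst chevF4 (PJ P.Q [1, 2])) _ ∈ (TF4 P).Fx
      rw [lst_F4 P.hS, prod_F4]
      have := (b2r_pos P.Q).fix_of gF4_ok (Or.inr hc) P.hγ P.φ b2s_pos hφ 1 0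
      simpa using this
    · intro a ha
      have ha' : a ∈ [1, 2] := ha
      have : chevF4.simple a ≠ 28 := (by decide +kernel : ∀ a ∈ [1, 2], chevF4.simple a ≠ 28) a ha'
      simp [this]

omit [Fintype K] in
include P hφ in
theorem f4_core : ((chevF4.borelSubgroup K ⊓ twistedF4 K e).subgroupOf (twistedF4 K e)).normalCore = ⊥ :=
  (f4_twG P hφ).core (fun i j a hi hj => Fin.ext (jdF4.dis i i.2 j j.2 a hi hj)) (f4_full P hφ)

omit [Fintype K] in
lemma isChar_F4 (Q : ChevO chevF4 K) (c : Fin 4 → Kˣ) : IsChar Q.C (fun s => c 0 ^ chevF4.cartan 0 s * c 1 ^ chevF4.cartan 1 s *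
    c 2 ^ chevF4.cartan 2 s * c 3 ^ chevF4.cartan 3 s) := by
  have h : ∀ (i : ℕ) (hi : i < chevF4.rank) (x : Kˣ), IsChar Q.C (fun s => x ^ chevF4.cartan i s) := by
    intro i hi x
    have h1 := isChar_cp Q.C (chevF4.simple i) x
    have h2 : cp chevF4 (chevF4.simple i) x = fun s => x ^ chevF4.cartan i s := by
      funext s
      rw [cp, pairD_simple Q.C hi]
    rwa [h2] at h1
  exact isChar_mul Q (isChar_mul Q (isChar_mul Q (h 0 (by decide +kernel) _) (h 1 (by decide +kernel) _)) (h 2 (by decide +kernel) _))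
    (h 3 (by decide +kernel) _)

omit [Fintype K] in
lemma sq_ne_one_F4 {u : Kˣ} (h : u ≠ 1) : u ^ 2 ≠ 1 := by
  intro h1
  apply h
  apply Units.ext
  have h2 : (u : K) ^ 2 = 1 := by
    have := congrArg Units.val h1
    simpa using this
  rcases sq_eq_one_iff_of_ne_zero h2 with h3 | h3
  · exact h3
  · rw [h3, CharTwo.neg_eq]; rfl

include P hφ hs in
theorem f4_perf (hK : 2 < Fintype.card K) : commutator ↥(twistedF4 K e) = ⊤ := by
  classical
  apply top_of_CG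
  have hF : (TF4 P).Fx ≤ twistedF4 K e := (f4_eq P hφ hs).ge
  have A := f4_twG P hφ
  obtain ⟨u, hu⟩ : ∃ u : Kˣ, u ≠ 1 := by
    by_contra hcon
    push Not at hcon
    have : Fintype.card Kˣ ≤ 1 := Fintype.card_le_one_iff.2 (fun a b => by rw [hcon a, hcon b])
    rw [Fintype.card_units] at this
    omega
  have hmu : ∀ v : Kˣ, v ≠ 1 → Units.map (P.φ : K →* K) v ≠ 1 := by
    intro v hv h
    apply hv
    have h6 : P.φ (v : K) = P.φ ((1 : Kˣ) : K) := by
      rw [Units.val_one, map_one]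
      exact congrArg Units.val h
    exact Units.ext (P.φ.injective h6)
  have hpos0 : (TF4 P).FX (PJ P.Q [0, 3]) ≤ CG (twistedF4 K e) := by
    intro y hy
    have hcl : Clos P.Q.C (PJ P.Q [0, 3]) := (HF4 P).PJ_clos 0
    have hf := f4_h0 P hφ u
    rw [tF_dG] at hf
    have hne : ∀ r ∈ PJ P.Q [0, 3], (fun s => (![Units.map (P.φ : K →* K) u, 1, 1, u] : Fin 4 → Kˣ) 0 ^ chevF4.cartan 0 s *
        (![Units.map (P.φ : K →* K) u, 1, 1, u] : Fin 4 → Kˣ) 1 ^ chevF4.cartan 1 s *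
        (![Units.map (P.φ : K →* K) u, 1, 1, u] : Fin 4 → Kˣ) 2 ^ chevF4.cartan 2 s *
        (![Units.map (P.φ : K →* K) u, 1, 1, u] : Fin 4 → Kˣ) 3 ^ chevF4.cartan 3 s) r ≠ 1 := by
      intro r hr
      obtain ⟨a, ha, rfl⟩ := (comF4.mem_PJ P.hS).1 hr
      have : a = 0 ∨ a = 3 := by simpa using ha
      rcases this with rfl | rfl
      · show Units.map (P.φ : K →* K) u ^ chevF4.cartan 0 (chevF4.simple 0) * 1 ^ chevF4.cartan 1 (chevF4.simple 0) *
          1 ^ chevF4.cartan 2 (chevF4.simple 0) * u ^ chevF4.cartan 3 (chevF4.simple 0) ≠ 1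
        rw [show chevF4.cartan 0 (chevF4.simple 0) = 2 by decide +kernel, show chevF4.cartan 3 (chevF4.simple 0) = 0 by decide +kernel,
          _root_.one_zpow, _root_.one_zpow, mul_one, mul_one, zpow_zero, mul_one]
        exact_mod_cast sq_ne_one_F4 (hmu u hu)
      · show Units.map (P.φ : K →* K) u ^ chevF4.cartan 0 (chevF4.simple 3) * 1 ^ chevF4.cartan 1 (chevF4.simple 3) *
          1 ^ chevF4.cartan 2 (chevF4.simple 3) * u ^ chevF4.cartan 3 (chevF4.simple 3) ≠ 1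
        rw [show chevF4.cartan 0 (chevF4.simple 3) = 0 by decide +kernel, show chevF4.cartan 3 (chevF4.simple 3) = 2 by decide +kernel,
          _root_.one_zpow, _root_.one_zpow, mul_one, mul_one, zpow_zero, one_mul]
        exact_mod_cast sq_ne_one_F4 hu
    obtain ⟨z, hz, e1⟩ := torus_surj (Q := P.Q) (T := TF4 P) (PJ_sub _) hcl (isChar_F4 P.Q _) (f4_le P hφ hf) hne hy
    rw [e1]
    exact CG_comm hf (hF hz.1)
  have hpos1 : (TF4 P).FX (PJ P.Q [1, 2]) ≤ CG (twistedF4 K e) := by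
    intro y hy
    have hcl : Clos P.Q.C (PJ P.Q [1, 2]) := (HF4 P).PJ_clos 1
    have hf := f4_h1 P hφ hs u
    rw [tF_dG] at hf
    have hφu : ∀ v : Kˣ, Units.map (P.φ : K →* K) (Units.map (P.φ : K →* K) v) ^ 2 = v := by
      intro v
      apply Units.ext
      rw [Units.val_pow_eq_pow_val]
      exact hφ v
    have hsq : ∀ v w : Kˣ, v ^ 2 = w ^ 2 → v = w := by
      intro v w h
      by_contra hne
      have h1 : v * w⁻¹ ≠ 1 := fun h => hne (mul_inv_eq_one.1 h)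
      apply sq_ne_one_F4 h1
      rw [mul_pow, inv_pow, h, mul_inv_cancel]
    have n1 : Units.map (P.φ : K →* K) u ≠ u := by
      intro h
      apply hu
      have h1 := hφu u
      rw [h, h, pow_two] at h1
      exact mul_eq_left.1 h1
    have n2 : Units.map (P.φ : K →* K) u ^ 2 ≠ u := by
      intro h
      apply n1
      have h1 := hφu u
      rw [← h] at h1
      have h2 := hsq _ _ (h1.trans (by rw [h]))
      -- φ (φ u ^ 2 ^ ...) simplification
      have h3 : Units.map (P.φ : K →* K) (Units.map (P.φ : K →* K) u) ^ 2 = Units.map (P.φ : K →* K) u ^ 2 := by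
        rw [hφu, h]
      have h4 := hsq _ _ h3
      have h5 : P.φ (P.φ (u : K)) = P.φ (u : K) := congrArg Units.val h4
      exact Units.ext (P.φ.injective h5)
    have hne : ∀ r ∈ PJ P.Q [1, 2], (fun s => (![1, Units.map (P.φ : K →* K) u, u, 1] : Fin 4 → Kˣ) 0 ^ chevF4.cartan 0 s *
        (![1, Units.map (P.φ : K →* K) u, u, 1] : Fin 4 → Kˣ) 1 ^ chevF4.cartan 1 s *
        (![1, Units.map (P.φ : K →* K) u, u, 1] : Fin 4 → Kˣ) 2 ^ chevF4.cartan 2 s *
        (![1, Units.map (P.φ : K →* K) u, u, 1] : Fin 4 → Kˣ) 3 ^ chevF4.cartan 3 s) r ≠ 1 := by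
      intro r hr
      have hr' := (pj_F4 P.hS r).1 hr
      show 1 ^ chevF4.cartan 0 r * Units.map (P.φ : K →* K) u ^ chevF4.cartan 1 r * u ^ chevF4.cartan 2 r *
        1 ^ chevF4.cartan 3 r ≠ 1
      rw [_root_.one_zpow, _root_.one_zpow, one_mul, mul_one]
      have : r = 25 ∨ r = 27 ∨ r = 28 ∨ r = 30 := by simpa using hr'
      rcases this with rfl | rfl | rfl | rfl
      · rw [show chevF4.cartan 1 25 = -2 by decide +kernel, show chevF4.cartan 2 25 = 2 by decide +kernel]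
        intro h
        apply n1
        rw [_root_.zpow_neg, inv_mul_eq_one] at h
        exact hsq _ _ (by exact_mod_cast h)
      · rw [show chevF4.cartan 1 27 = 2 by decide +kernel, show chevF4.cartan 2 27 = -1 by decide +kernel]
        intro h
        apply n2
        rw [_root_.zpow_neg, mul_inv_eq_one, zpow_one] at h
        exact_mod_cast h
      · rw [show chevF4.cartan 1 28 = 0 by decide +kernel, show chevF4.cartan 2 28 = 1 by decide +kernel, zpow_zero, one_mul, zpow_one]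
        exact hu
      · rw [show chevF4.cartan 1 30 = 2 by decide +kernel, show chevF4.cartan 2 30 = 0 by decide +kernel, zpow_zero, mul_one]
        exact_mod_cast sq_ne_one_F4 (hmu u hu)
    obtain ⟨z, hz, e1⟩ := torus_surj (Q := P.Q) (T := TF4 P) (PJ_sub _) hcl (isChar_F4 P.Q _) (f4_le P hφ hf) hne hy
    rw [e1]
    exact CG_comm hf (hF hz.1)
  have hneg0 : (TF4 P).FX (NJ P.Q [0, 3]) ≤ CG (twistedF4 K e) := CG_neg A (i := 0) hpos0
  have hneg1 : (TF4 P).FX (NJ P.Q [1, 2]) ≤ CG (twistedF4 K e) := CG_neg A (i := 1) hpos1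
  have hneg : ∀ {J : List ℕ} {r : ℕ}, r ∈ NJ P.Q J ↔ r < 48 ∧ 47 - r ∈ PJ P.Q J := fun {J r} => Iff.rfl
  obtain ⟨s0, -, -, s3⟩ := f4_simple
  have k0 := (comF4.mem_PJ P.hS).2 ⟨0, by simp, rfl⟩
  have k3 := (comF4.mem_PJ P.hS).2 ⟨3, by simp, rfl⟩
  rw [s0] at k0
  rw [s3] at k3
  apply f4_gen P
  · intro t
    exact hpos0 ⟨f4_le P hφ (f4_m1 P t), Subgroup.mul_mem _ (xG_mem P.Q k0 _) (xG_mem P.Q k3 _)⟩
  · intro t
    exact hneg0 ⟨f4_le P hφ (f4_m2 P t), Subgroup.mul_mem _ (xG_mem P.Q (hneg.2 ⟨by norm_num, k0⟩) _)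
      (xG_mem P.Q (hneg.2 ⟨by norm_num, k3⟩) _)⟩
  · intro t u
    exact hpos1 ((f4_mem_FX P hφ).2 ⟨t, u, rfl⟩)
  · intro t u
    have h : ∀ r ∈ [20, 22, 19, 17], ∀ v, xG P.Q r v ∈ XS P.Q (NJ P.Q [1, 2]) := fun r hr v => by
      refine xG_mem P.Q (hneg.2 ⟨?_, (pj_F4 P.hS _).2 ?_⟩) v
      · exact (by decide : ∀ r ∈ [20, 22, 19, 17], r < 48) r hr
      · exact (by decide : ∀ r ∈ [20, 22, 19, 17], 47 - r ∈ [25, 27, 28, 30]) r hr
    exact hneg1 ⟨f4_fixN P hφ t u, Subgroup.mul_mem _ (Subgroup.mul_mem _ (h 20 (by simp) _) (h 22 (by simp) _))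
      (Subgroup.mul_mem _ (h 19 (by simp) _) (h 17 (by simp) _))⟩

lemma word_F4 : WordOrd chevF4 (wF4 0 ++ wF4 1) 8 where
  pos := by norm_num
  fix := by decide +kernel
  move t ht h0 := ((by decide +kernel : ∀ t < 8, t = 0 ∨ ∃ k < chevF4.rank,
    iter (wapp chevF4 (wF4 0 ++ wF4 1)) t (chevF4.simple k) ≠ chevF4.simple k) t ht).resolve_left (by omega)

omit [Fintype K] in
lemma ord_F4 : orderOf ((HF4 P).wJ 0 * (HF4 P).wJ 1) = 8 := orderOf_mkTwJ _ _ word_F4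

omit [Fintype K] in
lemma con_F4 (S : Set (Fin 2)) (h1 : S.Nonempty) (h2 : Sᶜ.Nonempty) :
    ∃ i ∈ S, ∃ j ∈ Sᶜ, (HF4 P).wJ i * (HF4 P).wJ j ≠ (HF4 P).wJ j * (HF4 P).wJ i := by
  apply path_conn (R := fun i j => (HF4 P).wJ i * (HF4 P).wJ j ≠ (HF4 P).wJ j * (HF4 P).wJ i) (fun i j h => h.symm) _ S h1 h2
  intro i hi
  obtain rfl : i = 0 := by omega
  exact noncomm_of_order (ord_F4 P) (by norm_num) ((HF4 P).wJ_sq _) ((HF4 P).wJ_sq _)

include P hφ hs in
theorem f4_simple_group (hK : 2 < Fintype.card K) : IsSimpleGroup ↥(twistedF4 K e) ∧ ¬ IsMulCommutative ↥(twistedF4 K e) :=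
  (f4_twG P hφ).simple (f4_torus_le P hφ hs) (fun i j a hi hj => Fin.ext (jdF4.dis i i.2 j j.2 a hi hj)) (con_F4 P) (f4_full P hφ)
    (f4_perf P hφ hs hK)

omit [Fintype K] in
include P hφ in
theorem f4_dih : ∃ φ : ↥(chevF4.monomialSubgroup K ⊓ twistedF4 K e) →* DihedralGroup 8, Function.Surjective φ ∧
      φ.ker = (chevF4.diagonalSubgroup K ⊓ twistedF4 K e).subgroupOf (chevF4.monomialSubgroup K ⊓ twistedF4 K e) := by
  have hcard : Nat.card (WT (TF4 P)) = 2 * 8 := by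
    have h1 : Nat.card (WT (TF4 P)) = (TwG.Wr (TF4 P)).card := Nat.subtype_card _ (fun _ => TwG.mem_Wr)
    have h2 := wrF4.sum (T := TF4 P) (fun _ => rfl) jdF4 (fun _ => 1)
    rw [h1]
    simpa using h2
  have hord : orderOf ((HF4 P).sJ 0 * (HF4 P).sJ 1) = 8 := by
    rw [← ord_F4 P]
    exact (orderOf_injective (WT (TF4 P)).subtype Subtype.val_injective ((HF4 P).sJ 0 * (HF4 P).sJ 1)).symm
  obtain ⟨E⟩ := exists_dih (n := 8) ((HF4 P).sJ_sq 0) ((HF4 P).sJ_sq 1) hord (by norm_num) hcard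
  exact (f4_twG P hφ).exists_phiT E.symm

end F4

end Cfsg.Agent.Lib.ChevAlg
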