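import Mathlib.GroupTheory.GroupAction.Quotient
import Mathlib.GroupTheory.Perm.Cycle.Type
import Mathlib.Data.Set.Card
import Mathlib.Algebra.Group.Action.End

/-!
Orders of normal subgroups of multiply transitive groups (elementwise form: `Δ` is an invariant set of points).
-/

set_option autoImplicit false

namespace Cfsg.Agent.Lib.MultTrans

open MulAction

variable {G : Type*} [Group G] {α : Type*} [MulAction G α]

/-- a nontrivial normal subgroup of a doubly transitive group is transitive -/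
theorem orbit_eq_of_twoTrans (Δ : Set α) (hinv : ∀ g : G, ∀ x ∈ Δ, g • x ∈ Δ)
    (h2 : ∀ x ∈ Δ, ∀ y ∈ Δ, ∀ z ∈ Δ, y ≠ x → z ≠ x → ∃ g : G, g • x = x ∧ g • y = z)
    (hf : ∀ g : G, (∀ x ∈ Δ, g • x = x) → g = 1) (N : Subgroup G) [hN : N.Normal] (hNb : N ≠ ⊥) :
    ∃ x ∈ Δ, orbit N x = Δ := by
  obtain ⟨⟨n, hn⟩, hn1'⟩ := Subgroup.ne_bot_iff_exists_ne_one.1 hNb
  have hn1 : n ≠ 1 := fun h' => hn1' (Subtype.ext h')
  have hmv : ∃ x ∈ Δ, n • x ≠ x := by
    by_contra hc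
    push Not at hc
    exact hn1 (hf n hc)
  obtain ⟨x, hx, hnx⟩ := hmv
  refine ⟨x, hx, ?_⟩
  ext z
  constructor
  · rintro ⟨m, rfl⟩
    exact hinv m x hx
  · intro hz
    by_cases hzx : z = x
    · rw [hzx]; exact mem_orbit_self x
    · obtain ⟨g, hg1, hg2⟩ := h2 x hx (n • x) (hinv n x hx) z hz hnx hzx
      refine ⟨⟨g * n * g⁻¹, hN.conj_mem n hn g⟩, ?_⟩
      show (g * n * g⁻¹) • x = z
      rw [mul_smul, mul_smul, inv_smul_eq_iff.2 hg1.symm, hg2]

theorem dvd_card_of_twoTrans (Δ : Set α) (hinv : ∀ g : G, ∀ x ∈ Δ, g • x ∈ Δ)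
    (h2 : ∀ x ∈ Δ, ∀ y ∈ Δ, ∀ z ∈ Δ, y ≠ x → z ≠ x → ∃ g : G, g • x = x ∧ g • y = z)
    (hf : ∀ g : G, (∀ x ∈ Δ, g • x = x) → g = 1) (N : Subgroup G) [hN : N.Normal] (hNb : N ≠ ⊥) :
    Δ.ncard ∣ Nat.card N := by
  obtain ⟨x, _, h⟩ := orbit_eq_of_twoTrans Δ hinv h2 hf N hNb
  rw [← h, ← MulAction.index_stabilizer]
  exact Subgroup.index_dvd_card _

/-- degree `p + 1` with `3 ∣ p + 1`, triply transitive: a nontrivial normal subgroup has order divisible by `p` -/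
theorem dvd_card_of_threeTrans [Finite G] (Δ : Set α) (hinv : ∀ g : G, ∀ x ∈ Δ, g • x ∈ Δ)
    (h3 : ∀ x ∈ Δ, ∀ y ∈ Δ, ∀ z ∈ Δ, ∀ w ∈ Δ, y ≠ x → z ≠ x → w ≠ x → z ≠ y → w ≠ y →
      ∃ g : G, g • x = x ∧ g • y = y ∧ g • z = w)
    (h2 : ∀ x ∈ Δ, ∀ y ∈ Δ, ∀ z ∈ Δ, y ≠ x → z ≠ x → ∃ g : G, g • x = x ∧ g • y = z)
    (hf : ∀ g : G, (∀ x ∈ Δ, g • x = x) → g = 1) (p : ℕ) (hΔ : Δ.ncard = p + 1)
    (hp : 3 ∣ p + 1) (hp3 : 3 < p + 1) (N : Subgroup G) [hN : N.Normal] (hNb : N ≠ ⊥) :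
    p ∣ Nat.card N := by
  obtain ⟨x0, hx0, horb⟩ := orbit_eq_of_twoTrans Δ hinv h2 hf N hNb
  by_cases hreg : ∃ x ∈ Δ, N ⊓ stabilizer G x ≠ ⊥
  · obtain ⟨x, hx, hne⟩ := hreg
    have hcard : (Δ \ {x}).ncard = p := by
      rw [Set.ncard_sdiff_singleton_of_mem hx, hΔ]; rfl
    have hne' : N.subgroupOf (stabilizer G x) ≠ ⊥ := by
      intro hb
      apply hne
      rw [Subgroup.subgroupOf_eq_bot] at hb
      exact hb.eq_bot
    have hinj : Nat.card (N.subgroupOf (stabilizer G x)) ∣ Nat.card N := by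
      have h1 : (N.subgroupOf (stabilizer G x)).map (stabilizer G x).subtype ≤ N := by
        rintro _ ⟨g, hg, rfl⟩
        exact hg
      rw [← Subgroup.card_map_of_injective (stabilizer G x).subtype_injective]
      exact Subgroup.card_dvd_of_le h1
    refine dvd_trans ?_ hinj
    rw [← hcard]
    apply dvd_card_of_twoTrans (G := stabilizer G x) (Δ \ {x})
    · rintro ⟨g, hg⟩ y ⟨hy1, hy2⟩
      refine ⟨hinv g y hy1, ?_⟩
      rw [Set.mem_singleton_iff] at hy2 ⊢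
      intro h
      apply hy2
      have h1 : g • y = g • x := h.trans (mem_stabilizer_iff.1 hg).symm
      exact MulAction.injective g h1
    · rintro y ⟨hy1, hy2⟩ z ⟨hz1, hz2⟩ w ⟨hw1, hw2⟩ hzy hwy
      obtain ⟨g, hg1, hg2, hg3⟩ := h3 x hx y hy1 z hz1 w hw1 hy2 hz2 hw2 hzy hwy
      exact ⟨⟨g, mem_stabilizer_iff.2 hg1⟩, hg2, hg3⟩
    · rintro ⟨g, hg⟩ h
      have : g = 1 := by
        apply hf
        intro y hy
        by_cases hyx : y = x
        · rw [hyx]; exact mem_stabilizer_iff.1 hg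
        · exact h y ⟨hy, hyx⟩
      exact Subtype.ext this
    · exact hne'
  · exfalso
    push Not at hreg
    have hcN : Nat.card N = p + 1 := by
      have h1 : Nat.card (orbit N x0) * Nat.card (stabilizer N x0) = Nat.card N := by
        rw [← Subgroup.card_mul_index (stabilizer N x0), MulAction.index_stabilizer, mul_comm]
        rfl
      have h2 : Nat.card (stabilizer N x0) = 1 := by
        have h3 : stabilizer N x0 = ⊥ := by
          rw [eq_bot_iff]
          intro g hg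
          have h4 : (g : G) ∈ N ⊓ stabilizer G x0 := ⟨g.2, hg⟩
          rw [hreg x0 hx0, Subgroup.mem_bot] at h4
          exact Subgroup.mem_bot.2 (Subtype.ext h4)
        rw [h3, Subgroup.card_bot]
      rw [h2, mul_one, horb] at h1
      rw [← h1, ← hΔ]; rfl
    haveI : Fact (Nat.Prime 3) := ⟨Nat.prime_three⟩
    obtain ⟨n, hn⟩ := exists_prime_orderOf_dvd_card' (G := N) 3 (by rw [hcN]; exact hp)
    -- x, y, z distinct
    have hfix : ∀ m : N, m ≠ 1 → ∀ x ∈ Δ, (m : G) • x ≠ x := by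
      intro m hm x hx h
      have h4 : (m : G) ∈ N ⊓ stabilizer G x := ⟨m.2, h⟩
      rw [hreg x hx, Subgroup.mem_bot] at h4
      exact hm (Subtype.ext h4)
    have hn1 : n ≠ 1 := by
      intro h; rw [h, orderOf_one] at hn; norm_num at hn
    have hn2 : n ^ 2 ≠ 1 := by
      intro h
      have := orderOf_dvd_of_pow_eq_one h
      rw [hn] at this
      norm_num at this
    set y := (n : G) • x0 with hy
    set z := (n : G) • y with hz
    have hyΔ : y ∈ Δ := hinv _ _ hx0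
    have hzΔ : z ∈ Δ := hinv _ _ hyΔ
    have hyx : y ≠ x0 := hfix n hn1 x0 hx0
    have hzy : z ≠ y := hfix n hn1 y hyΔ
    have hzx : z ≠ x0 := by
      have := hfix (n ^ 2) hn2 x0 hx0
      rwa [Subgroup.coe_pow, pow_two, mul_smul] at this
    -- a fourth point
    have hw : ∃ w ∈ Δ, w ∉ ({x0, y, z} : Set α) := by
      by_contra hc
      push Not at hc
      have hfin : Δ.Finite := Set.finite_of_ncard_pos (by omega)
      have h5 := Set.ncard_le_ncard (s := Δ) (t := {x0, y, z}) hc (Set.toFinite _)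
      have h6 : ({x0, y, z} : Set α).ncard ≤ 3 := by
        refine le_trans (Set.ncard_insert_le _ _) ?_
        have := Set.ncard_insert_le y {z}
        rw [Set.ncard_singleton] at this
        omega
      omega
    obtain ⟨w, hwΔ, hw⟩ := hw
    simp only [Set.mem_insert_iff, Set.mem_singleton_iff, not_or] at hw
    obtain ⟨g, hg1, hg2, hg3⟩ := h3 x0 hx0 y hyΔ z hzΔ w hwΔ hyx hzx hw.1 hzy hw.2.1
    have hcm : g * n * g⁻¹ ∈ N := hN.conj_mem n n.2 g
    have h7 : (n : G)⁻¹ * (g * n * g⁻¹) ∈ N ⊓ stabilizer G x0 := by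
      refine ⟨N.mul_mem (N.inv_mem n.2) hcm, ?_⟩
      show _ ∈ stabilizer G x0
      rw [mem_stabilizer_iff, mul_smul, mul_smul, mul_smul, inv_smul_eq_iff.2 hg1.symm, ← hy, hg2]
      exact inv_smul_eq_iff.2 hy
    rw [hreg x0 hx0, Subgroup.mem_bot, inv_mul_eq_one] at h7
    apply hw.2.2
    rw [← hg3, hz, h7]
    rw [← mul_smul, ← h7]
    have h8 : g * (n : G) = n * g := by
      have : (n : G) * g = g * n * g⁻¹ * g := by rw [← h7]
      rw [this]; group
    rw [h8, mul_smul, hg2]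

end Cfsg.Agent.Lib.MultTrans
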