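import Mathlib.GroupTheory.Sylow
import Mathlib.GroupTheory.Transfer
import Mathlib.GroupTheory.Subgroup.Simple
import Mathlib.GroupTheory.GroupAction.Primitive
import Mathlib.GroupTheory.GroupAction.Quotient
import Mathlib.GroupTheory.OrderOfElement

/-!
A simplicity criterion: a finite group in which every nontrivial normal subgroup has order divisible by the prime `p`,
with a Sylow `p`-subgroup `P` of order `p` and normaliser of order `p * r`, `r` prime, is simple.
-/

set_option autoImplicit false

namespace Cfsg.Agent.Lib.SimpleCrit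

open scoped Pointwise

theorem isSimple_of_sylow {G : Type*} [Group G] [Finite G] (p r : ℕ) [hp : Fact p.Prime] (hr : r.Prime)
    (P : Subgroup G) (hP : Nat.card P = p) (hPs : ¬ p ^ 2 ∣ Nat.card G)
    (hN : Nat.card (Subgroup.normalizer (P : Set G)) = p * r) (hcard : Nat.card G ≠ p * r)
    (hdiv : ∀ N : Subgroup G, N.Normal → N ≠ ⊥ → p ∣ Nat.card N) : IsSimpleGroup G := by
  classical
  have hnt : Nontrivial G := by
    have : Nontrivial P := by
      rw [← Finite.one_lt_card_iff_nontrivial, hP]; exact hp.out.one_lt
    exact Function.Injective.nontrivial P.subtype_injective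
  refine ⟨fun N hNn => ?_⟩
  by_cases hbot : N = ⊥
  · exact Or.inl hbot
  right
  have hpN := hdiv N hNn hbot
  -- P is a Sylow subgroup, and it is contained in N
  have hPN : P ≤ N := by
    obtain ⟨x, hx⟩ := exists_prime_orderOf_dvd_card' (G := N) p hpN
    -- P and the subgroup generated by x are Sylow p-subgroups
    have hfac : (Nat.card G).factorization p = 1 := by
      have h1 : (Nat.card G).factorization p < 2 := by
        by_contra h
        apply hPs
        exact (hp.out.pow_dvd_iff_le_factorization Nat.card_pos.ne').2 (by omega)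
      have h2 : 1 ≤ (Nat.card G).factorization p := by
        rw [← hp.out.pow_dvd_iff_le_factorization Nat.card_pos.ne', pow_one, ← hP]
        exact Subgroup.card_subgroup_dvd_card P
      omega
    let S : Sylow p G := Sylow.ofCard P (by rw [hP, hfac, pow_one])
    let Q : Sylow p G := Sylow.ofCard (Subgroup.zpowers (x : G)) (by
      rw [Nat.card_zpowers, hfac, pow_one, Subgroup.orderOf_coe, hx])
    obtain ⟨g, hg⟩ := MulAction.exists_smul_eq G Q S
    have h1 : (S : Subgroup G) = P := rfl
    have h2 : (Q : Subgroup G) = Subgroup.zpowers (x : G) := rfl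
    intro y hy
    rw [← h1, ← hg, Sylow.coe_subgroup_smul, Subgroup.mem_pointwise_smul_iff_inv_smul_mem, h2] at hy
    have h3 : (MulAut.conj g)⁻¹ • y ∈ N := by
      have : Subgroup.zpowers (x : G) ≤ N := by
        rw [Subgroup.zpowers_le]; exact x.2
      exact this hy
    have h4 : (MulAut.conj g)⁻¹ • y = g⁻¹ * y * g := by
      rw [← map_inv]; simp [MulAut.conj_apply, MulAut.smul_def]
    rw [h4] at h3
    have h5 := hNn.conj_mem _ h3 g
    have h6 : g * (g⁻¹ * y * g) * g⁻¹ = y := by group
    rwa [h6] at h5
  -- Frattini argument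
  have hfrat : N ⊔ Subgroup.normalizer (P : Set G) = ⊤ := by
    have hfac : (Nat.card N).factorization p = 1 := by
      have h1 : (Nat.card N).factorization p < 2 := by
        by_contra h
        apply hPs
        exact dvd_trans ((hp.out.pow_dvd_iff_le_factorization Nat.card_pos.ne').2 (by omega))
          (Subgroup.card_subgroup_dvd_card N)
      have h2 : 1 ≤ (Nat.card N).factorization p := by
        rw [← hp.out.pow_dvd_iff_le_factorization Nat.card_pos.ne', pow_one]; exact hpN
      omega
    have hcardPN : Nat.card (P.subgroupOf N) = p := by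
      rw [Nat.card_congr (Subgroup.subgroupOfEquivOfLe hPN).toEquiv, hP]
    let S : Sylow p N := Sylow.ofCard (P.subgroupOf N) (by rw [hcardPN, hfac, pow_one])
    have h1 := Sylow.normalizer_sup_eq_top S
    have h2 : (S : Subgroup N).map N.subtype = P := by
      show (P.subgroupOf N).map N.subtype = P
      rw [Subgroup.subgroupOf_map_subtype, inf_eq_left]; exact hPN
    rw [h2, sup_comm] at h1
    exact h1
  -- the index of N divides r
  have hPNP : P ≤ Subgroup.normalizer (P : Set G) := Subgroup.le_normalizer
  have h1 : N.index = N.relIndex (Subgroup.normalizer (P : Set G)) := by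
    rw [← Subgroup.relIndex_sup_right (K := N), sup_comm, hfrat, Subgroup.relIndex_top_right]
  have h2 : P.relIndex (Subgroup.normalizer (P : Set G)) = r := by
    have h4 := Subgroup.relIndex_mul_relIndex ⊥ P _ bot_le hPNP
    rw [Subgroup.relIndex_bot_left, Subgroup.relIndex_bot_left, hN, hP] at h4
    exact Nat.eq_of_mul_eq_mul_left hp.out.pos h4
  have hindex : N.index ∣ r := by
    rw [h1, ← h2]
    exact Subgroup.relIndex_dvd_of_le_left _ hPN
  rcases (Nat.dvd_prime hr).1 hindex with h | h
  · exact Subgroup.index_eq_one.1 h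
  exfalso
  -- the normaliser of P in N is P
  have hinf : N ⊓ Subgroup.normalizer (P : Set G) = P := by
    have h3 : Nat.card ↥(N ⊓ Subgroup.normalizer (P : Set G)) = p := by
      have h4 := Subgroup.relIndex_mul_relIndex ⊥ (N ⊓ Subgroup.normalizer (P : Set G))
        (Subgroup.normalizer (P : Set G)) bot_le inf_le_right
      rw [Subgroup.relIndex_bot_left, Subgroup.relIndex_bot_left, hN, Subgroup.inf_relIndex_right,
        ← h1, h] at h4
      exact Nat.eq_of_mul_eq_mul_right hr.pos h4
    symm
    apply Subgroup.eq_of_le_of_card_ge (le_inf hPN hPNP)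
    rw [h3, hP]
  have hfacN : (Nat.card N).factorization p = 1 := by
    have h1 : (Nat.card N).factorization p < 2 := by
      by_contra h
      apply hPs
      exact dvd_trans ((hp.out.pow_dvd_iff_le_factorization Nat.card_pos.ne').2 (by omega))
        (Subgroup.card_subgroup_dvd_card N)
    have h2 : 1 ≤ (Nat.card N).factorization p := by
      rw [← hp.out.pow_dvd_iff_le_factorization Nat.card_pos.ne', pow_one]; exact hpN
    omega
  have hcardPN : Nat.card (P.subgroupOf N) = p := by
    rw [Nat.card_congr (Subgroup.subgroupOfEquivOfLe hPN).toEquiv, hP]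
  let S : Sylow p N := Sylow.ofCard (P.subgroupOf N) (by rw [hcardPN, hfacN, pow_one])
  have hS : (S : Subgroup N) = P.subgroupOf N := rfl
  have hnorm : Subgroup.normalizer ((S : Subgroup N) : Set N) ≤ S := by
    intro x hx
    rw [hS, Subgroup.mem_subgroupOf, ← hinf]
    refine ⟨x.2, ?_⟩
    rw [Subgroup.mem_normalizer_iff] at hx
    show (x : G) ∈ Subgroup.normalizer (P : Set G)
    rw [Subgroup.mem_normalizer_iff]
    intro y
    constructor
    · intro hy
      have h3 := (hx ⟨y, hPN hy⟩).1 (by rw [hS, Subgroup.mem_subgroupOf]; exact hy)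
      rw [hS, Subgroup.mem_subgroupOf] at h3
      exact h3
    · intro hy
      have hyN : y ∈ N := by
        have h4 := hNn.conj_mem _ (hPN hy) (x : G)⁻¹
        have h5 : (x : G)⁻¹ * ((x : G) * y * (x : G)⁻¹) * (x : G)⁻¹⁻¹ = y := by group
        rwa [h5] at h4
      have h3 := (hx ⟨y, hyN⟩).2 (by rw [hS, Subgroup.mem_subgroupOf]; exact hy)
      rw [hS, Subgroup.mem_subgroupOf] at h3
      exact h3
  have hcomm : (S : Subgroup N) ≤ Subgroup.centralizer ((S : Subgroup N) : Set N) := by
    have hcyc : IsCyclic (S : Subgroup N) := isCyclic_of_prime_card (p := p) (by rw [hS, hcardPN])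
    intro x hx
    rw [Subgroup.mem_centralizer_iff]
    intro y hy
    have h4 := (IsCyclic.commGroup (α := (S : Subgroup N))).mul_comm ⟨y, hy⟩ ⟨x, hx⟩
    exact congrArg Subtype.val h4
  have hburn := hnorm.trans hcomm
  let K := (MonoidHom.transferSylow S hburn).ker
  have hK1 : ¬ p ∣ Nat.card K := MonoidHom.not_dvd_card_ker_transferSylow S hburn
  have hK2 := (MonoidHom.ker_transferSylow_isComplement' S hburn).card_mul
  have hcardS : Nat.card (S : Subgroup N) = p := by rw [hS, hcardPN]
  -- K consists of the elements of order prime to p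
  have hKmem : ∀ x : N, x ∈ K ↔ ¬ p ∣ orderOf x := by
    intro x
    constructor
    · intro hx hdvd
      apply hK1
      refine dvd_trans hdvd ?_
      have := orderOf_dvd_natCard (⟨x, hx⟩ : K)
      rwa [← Subgroup.orderOf_mk x hx] at *
    · intro hx
      rw [MonoidHom.mem_ker]
      have h3 : orderOf (MonoidHom.transferSylow S hburn x) ∣ orderOf x := orderOf_map_dvd _ x
      have h4 : orderOf (MonoidHom.transferSylow S hburn x) ∣ p := by
        have := orderOf_dvd_natCard (MonoidHom.transferSylow S hburn x)
        rwa [hcardS] at this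
      rcases (Nat.dvd_prime hp.out).1 h4 with h5 | h5
      · exact orderOf_eq_one_iff.1 h5
      · rw [h5] at h3; exact absurd h3 hx
  have hKn : (K.map N.subtype).Normal := by
    refine ⟨?_⟩
    rintro _ ⟨x, hx, rfl⟩ g
    refine ⟨⟨g * x * g⁻¹, hNn.conj_mem _ x.2 g⟩, ?_, rfl⟩
    have hx' : ¬ p ∣ orderOf x := (hKmem x).1 hx
    refine (hKmem _).2 ?_
    have h3 : orderOf (⟨g * x * g⁻¹, hNn.conj_mem _ x.2 g⟩ : N) = orderOf x := by
      rw [← Subgroup.orderOf_coe, ← Subgroup.orderOf_coe x]
      exact orderOf_injective (MulAut.conj g).toMonoidHom (MulAut.conj g).injective (x : G)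
    rw [h3]; exact hx'
  have hKbot : K.map N.subtype = ⊥ := by
    by_contra hne
    apply hK1
    have := hdiv _ hKn hne
    rwa [Nat.card_congr (K.equivMapOfInjective N.subtype N.subtype_injective).toEquiv.symm] at this
  have hK1' : Nat.card K = 1 := by
    rw [Nat.card_congr (K.equivMapOfInjective N.subtype N.subtype_injective).toEquiv, hKbot]
    exact Subgroup.card_bot
  apply hcard
  have h6 : Nat.card N = p := by
    rw [← hK2]
    show Nat.card K * Nat.card (S : Subgroup N) = p
    rw [hK1', hcardS, one_mul]
  rw [← Subgroup.card_mul_index N, h6, h]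

end Cfsg.Agent.Lib.SimpleCrit
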