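import Cfsg.Prelude
import Mathlib

/-!
Computing outer automorphism groups of groups with a self-centralising element of prime order
occurring to the first power in the group order.
-/

set_option autoImplicit false

namespace Cfsg.Agent.Lib.OutCrit

open Cfsg

variable {G : Type*} [Group G]

theorem card_out_one (h : ∀ α : MulAut G, ∃ c : G, ∀ x, c * α x * c⁻¹ = x) : Nat.card (Out G) = 1 := by
  have h1 : ∀ x : Out G, x = 1 := by
    intro x
    obtain ⟨α, rfl⟩ := QuotientGroup.mk_surjective x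
    obtain ⟨c, hc⟩ := h α
    rw [QuotientGroup.eq_one_iff]
    refine ⟨c⁻¹, ?_⟩
    ext x
    rw [MulAut.conj_apply, inv_inv]
    have := hc x
    calc c⁻¹ * x * c = c⁻¹ * (c * α x * c⁻¹) * c := by rw [this]
      _ = α x := by group
  have : Subsingleton (Out G) := ⟨fun a b => by rw [h1 a, h1 b]⟩
  exact Nat.card_unique

theorem card_out_two (β : MulAut G) (hβ : ¬ ∃ c : G, ∀ x, c * β x * c⁻¹ = x)
    (h : ∀ α : MulAut G, ∃ c : G, (∀ x, c * α x * c⁻¹ = x) ∨ (∀ x, c * α x * c⁻¹ = β x)) :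
    Nat.card (Out G) = 2 := by
  have h0 : (QuotientGroup.mk β : Out G) ≠ 1 := by
    intro h1
    rw [QuotientGroup.eq_one_iff] at h1
    obtain ⟨c, hc⟩ := h1
    apply hβ
    refine ⟨c⁻¹, fun x => ?_⟩
    rw [← hc, MulAut.conj_apply]
    group
  have h1 : ∀ x : Out G, x = 1 ∨ x = QuotientGroup.mk β := by
    intro x
    obtain ⟨α, rfl⟩ := QuotientGroup.mk_surjective x
    obtain ⟨c, hc | hc⟩ := h α
    · left
      rw [QuotientGroup.eq_one_iff]
      refine ⟨c⁻¹, ?_⟩
      ext x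
      rw [MulAut.conj_apply, inv_inv]
      have := hc x
      calc c⁻¹ * x * c = c⁻¹ * (c * α x * c⁻¹) * c := by rw [this]
        _ = α x := by group
    · right
      rw [eq_comm, QuotientGroup.eq]
      refine ⟨β⁻¹ c⁻¹, ?_⟩
      ext x
      rw [MulAut.conj_apply]
      apply β.injective
      have e1 : ∀ y, β (β⁻¹ y) = y := fun y => MulEquiv.apply_symm_apply β y
      have e2 : (β⁻¹ * α) x = β⁻¹ (α x) := rfl
      rw [map_mul, map_mul]
      simp only [map_inv, e1, e2, inv_inv, ← hc x]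
      group
  have h2 : (Set.univ : Set (Out G)) = {1, QuotientGroup.mk β} := by
    ext x
    simp only [Set.mem_univ, Set.mem_insert_iff, Set.mem_singleton_iff, true_iff]
    exact h1 x
  rw [← Set.ncard_univ, h2, Set.ncard_pair (Ne.symm h0)]

theorem pow_conj {u d : G} {m : ℕ} (hd : d * u = u ^ m * d) (k : ℕ) : d * u ^ k = u ^ (m * k) * d := by
  induction k with
  | zero => simp
  | succ k ih =>
    calc d * u ^ (k + 1) = (d * u ^ k) * u := by rw [pow_succ]; group
      _ = u ^ (m * k) * (d * u) := by rw [ih]; group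
      _ = u ^ (m * k) * (u ^ m * d) := by rw [hd]
      _ = (u ^ (m * k) * u ^ m) * d := by group
      _ = u ^ (m * (k + 1)) * d := by rw [← pow_add]; ring_nf

theorem pow_conj_pow {u d : G} {m : ℕ} (hd : d * u = u ^ m * d) (i k : ℕ) :
    d ^ i * u ^ k = u ^ (m ^ i * k) * d ^ i := by
  induction i with
  | zero => simp
  | succ i ih =>
    calc d ^ (i + 1) * u ^ k = d * (d ^ i * u ^ k) := by rw [pow_succ']; group
      _ = (d * u ^ (m ^ i * k)) * d ^ i := by rw [ih]; group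
      _ = u ^ (m * (m ^ i * k)) * d * d ^ i := by rw [pow_conj hd]
      _ = u ^ (m ^ (i + 1) * k) * d ^ (i + 1) := by
        rw [pow_succ' d, ← mul_assoc m, ← pow_succ' m]; group

/-- elements inducing the same power automorphism -/
theorem eq_pow_mul {u g e : G} {m p : ℕ} (hp : 0 < p) (hu : orderOf u = p)
    (hC : ∀ g, g * u = u * g → g ∈ Subgroup.zpowers u)
    (hg : g * u = u ^ m * g) (he : e * u = u ^ m * e) : ∃ j < p, e = u ^ j * g := by
  have h1 : (g⁻¹ * e) * u = u * (g⁻¹ * e) := by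
    calc (g⁻¹ * e) * u = g⁻¹ * (u ^ m * e) := by rw [mul_assoc, he]
      _ = g⁻¹ * (u ^ m * g) * (g⁻¹ * e) := by group
      _ = g⁻¹ * (g * u) * (g⁻¹ * e) := by rw [hg]
      _ = u * (g⁻¹ * e) := by group
  have hfin : IsOfFinOrder u := by
    rw [← orderOf_pos_iff, hu]; exact hp
  obtain ⟨k, hk⟩ := (hfin.mem_powers_iff_mem_zpowers).2 (hC _ h1)
  have hk' : u ^ k = g⁻¹ * e := hk
  refine ⟨(m * k) % p, Nat.mod_lt _ hp, ?_⟩
  rw [← hu, pow_mod_orderOf, ← pow_conj hg, hk']
  group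

theorem exists_conj_pow [Finite G] {p : ℕ} (hp : p.Prime) {u v : G} (hu : orderOf u = p) (hv : orderOf v = p)
    (h1 : ¬ p ^ 2 ∣ Nat.card G) : ∃ (c : G) (k : ℕ), c * v * c⁻¹ = u ^ k := by
  have := Fact.mk hp
  have hdvd : p ∣ Nat.card G := hu ▸ orderOf_dvd_natCard u
  have hfac : (Nat.card G).factorization p = 1 := by
    have h2 : 1 ≤ (Nat.card G).factorization p :=
      (hp.dvd_iff_one_le_factorization Nat.card_pos.ne').1 hdvd
    have h3 : ¬ 2 ≤ (Nat.card G).factorization p := by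
      intro h; exact h1 ((hp.pow_dvd_iff_le_factorization Nat.card_pos.ne').2 h)
    omega
  let P : Sylow p G := Sylow.ofCard (Subgroup.zpowers v) (by rw [Nat.card_zpowers, hv, hfac, pow_one])
  let Q : Sylow p G := Sylow.ofCard (Subgroup.zpowers u) (by rw [Nat.card_zpowers, hu, hfac, pow_one])
  obtain ⟨c, hc⟩ := MulAction.exists_smul_eq G P Q
  have h4 : c * v * c⁻¹ ∈ Subgroup.zpowers u := by
    have h5 : (Q : Subgroup G) = Subgroup.zpowers u := rfl
    rw [← h5, ← hc, Sylow.coe_subgroup_smul, Subgroup.mem_pointwise_smul_iff_inv_smul_mem]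
    have h6 : (MulAut.conj c)⁻¹ • (c * v * c⁻¹) = v := by
      rw [← map_inv, MulAut.smul_def, MulAut.conj_apply]; group
    rw [h6]
    exact Subgroup.mem_zpowers v
  have hfin : IsOfFinOrder u := isOfFinOrder_of_finite u
  obtain ⟨k, hk⟩ := (hfin.mem_powers_iff_mem_zpowers).2 h4
  exact ⟨c, k, hk.symm⟩

/-- normal form of an automorphism on a Frobenius-like subgroup -/
theorem normalise [Finite G] {p : ℕ} (hp : p.Prime) {u d : G} {m : ℕ} (hu : orderOf u = p)
    (hC : ∀ g, g * u = u * g → g ∈ Subgroup.zpowers u) (h1 : ¬ p ^ 2 ∣ Nat.card G)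
    (hd : d * u = u ^ m * d)
    (hgen : ∀ k < p, k ≠ 0 → ∃ i < p, (m ^ i * k) % p = 1 ∨ (m ^ i * k) % p = p - 1)
    (hm : ∀ j < p, ∃ i < p, (i + j) % p = (m * i) % p) (α : MulAut G) :
    ∃ c : G, (c * α u * c⁻¹ = u ∨ c * α u * c⁻¹ = u⁻¹) ∧ c * α d * c⁻¹ = d := by
  have hp0 : 0 < p := hp.pos
  obtain ⟨c, k, hc⟩ := exists_conj_pow hp hu (v := α u) (by rw [← hu]; exact MulEquiv.orderOf_eq α u) h1
  have hupow : ∀ n, u ^ (n % p) = u ^ n := by intro n; rw [← hu]; exact pow_mod_orderOf u n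
  have hk0 : k % p ≠ 0 := by
    intro h
    have h2 : u ^ k = 1 := by rw [← hupow, h, pow_zero]
    rw [h2] at hc
    have h3 : α u = 1 := by
      have : c * α u = c := by rw [mul_inv_eq_one] at hc; exact hc
      exact mul_eq_left.1 this
    have h4 : u = 1 := by
      apply α.injective; rw [h3, map_one]
    rw [h4, orderOf_one] at hu
    exact hp.one_lt.ne hu
  obtain ⟨i, _, hi⟩ := hgen (k % p) (Nat.mod_lt _ hp0) hk0
  have h2 : ∃ c : G, c * α u * c⁻¹ = u ∨ c * α u * c⁻¹ = u⁻¹ := by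
    refine ⟨d ^ i * c, ?_⟩
    have h3 : d ^ i * c * α u * (d ^ i * c)⁻¹ = u ^ (m ^ i * (k % p)) := by
      calc d ^ i * c * α u * (d ^ i * c)⁻¹ = d ^ i * (c * α u * c⁻¹) * (d ^ i)⁻¹ := by group
        _ = d ^ i * u ^ (k % p) * (d ^ i)⁻¹ := by rw [hc, hupow]
        _ = u ^ (m ^ i * (k % p)) * d ^ i * (d ^ i)⁻¹ := by rw [pow_conj_pow hd]
        _ = _ := by group
    rw [h3, ← hupow]
    rcases hi with hi | hi
    · left; rw [hi, pow_one]
    · right
      rw [hi]
      apply eq_inv_of_mul_eq_one_left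
      rw [← pow_succ, Nat.sub_add_cancel hp.one_lt.le, ← hu, pow_orderOf_eq_one]
  obtain ⟨c, hc⟩ := h2
  set e := c * α d * c⁻¹ with he
  have h3 : e * (c * α u * c⁻¹) = (c * α u * c⁻¹) ^ m * e := by
    rw [he, conj_pow]
    have h4 : α d * α u = α u ^ m * α d := by rw [← map_mul, hd, map_mul, map_pow]
    calc c * α d * c⁻¹ * (c * α u * c⁻¹) = c * (α d * α u) * c⁻¹ := by group
      _ = _ := by rw [h4]; group
  have h4 : e * u = u ^ m * e := by
    rcases hc with hc | hc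
    · rwa [hc] at h3
    · rw [hc, inv_pow] at h3
      calc e * u = u ^ m * ((u ^ m)⁻¹ * e) * u := by group
        _ = u ^ m * (e * u⁻¹) * u := by rw [h3]
        _ = _ := by group
  obtain ⟨j, hj, hj'⟩ := eq_pow_mul hp0 hu hC hd h4
  obtain ⟨i, _, hi⟩ := hm j hj
  refine ⟨u ^ i * c, ?_, ?_⟩
  · have h5 : u ^ i * c * α u * (u ^ i * c)⁻¹ = c * α u * c⁻¹ := by
      have h6 : Commute (u ^ i) (c * α u * c⁻¹) := by
        rcases hc with hc | hc
        · rw [hc]; exact (Commute.refl u).pow_left i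
        · rw [hc]; exact ((Commute.refl u).pow_left i).inv_right
      calc u ^ i * c * α u * (u ^ i * c)⁻¹ = u ^ i * (c * α u * c⁻¹) * (u ^ i)⁻¹ := by group
        _ = (c * α u * c⁻¹) * u ^ i * (u ^ i)⁻¹ := by rw [h6.eq]
        _ = _ := by group
    rw [h5]; exact hc
  · calc u ^ i * c * α d * (u ^ i * c)⁻¹ = u ^ i * e * (u ^ i)⁻¹ := by rw [he]; group
      _ = u ^ (i + j) * d * (u ^ i)⁻¹ := by rw [hj', pow_add]; group
      _ = u ^ (m * i) * d * (u ^ i)⁻¹ := by rw [← hupow, hi, hupow]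
      _ = d * u ^ i * (u ^ i)⁻¹ := by rw [pow_conj hd]
      _ = d := by group

/-- evaluation of positive words -/
def ev {M : Type*} [Monoid M] (w : List ℕ) (g : ℕ → M) : M := (w.map g).prod

theorem map_ev {M N : Type*} [Monoid M] [Monoid N] (f : M →* N) (w : List ℕ) (g : ℕ → M) :
    f (ev w g) = ev w (fun i => f (g i)) := by
  unfold ev
  rw [map_list_prod, List.map_map]; rfl

end Cfsg.Agent.Lib.OutCrit
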