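import Mathlib.GroupTheory.GroupAction.Quotient
import Mathlib.GroupTheory.Sylow
import Mathlib.GroupTheory.Index
import Mathlib.Data.Set.Card
import Mathlib.Order.Atoms

/-!
A point stabiliser is a maximal subgroup when no union of suborbits containing the point has a size dividing the degree.
-/

set_option autoImplicit false

namespace Cfsg.Agent.Lib.Coatom

open MulAction Finset

theorem ncard_orbit_mul {G X : Type*} [Group G] [MulAction G X] (K : Subgroup G) (x : X)
    (h : stabilizer G x ≤ K) : (orbit K x).ncard * Nat.card (stabilizer G x) = Nat.card K := by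
  rw [← MulAction.index_stabilizer, mul_comm]
  have h1 : Nat.card (stabilizer G x) = Nat.card (stabilizer K x) := by
    refine Nat.card_congr ⟨fun g => ⟨⟨g, h g.2⟩, g.2⟩, fun g => ⟨g, g.2⟩, fun _ => rfl, fun _ => rfl⟩
  rw [h1, Subgroup.card_mul_index]

theorem isCoatom_stabilizer {G X : Type*} [Group G] [Finite G] [MulAction G X] (x : X) (f : X → ℕ) (r : ℕ)
    (n : ℕ → ℕ) (hx : f x = 0) (hx0 : ∀ y ∈ orbit G x, f y = 0 → y = x)
    (hf : ∀ y ∈ orbit G x, ∀ z ∈ orbit G x, f y = f z → ∃ g ∈ stabilizer G x, g • y = z)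
    (hfr : ∀ y ∈ orbit G x, f y < r)
    (hn : ∀ i < r, {y | y ∈ orbit G x ∧ f y = i}.ncard = n i)
    (har : ∀ S ∈ (range r).powerset, 0 ∈ S → (∑ i ∈ S, n i) ∣ (∑ i ∈ range r, n i) → S = {0} ∨ S = range r)
    (hr : 1 < ∑ i ∈ range r, n i) : IsCoatom (stabilizer G x) := by
  classical
  have horbfin : (orbit G x).Finite := Set.finite_range _
  have hsum : ∀ S ⊆ range r, {y | y ∈ orbit G x ∧ f y ∈ S}.ncard = ∑ i ∈ S, n i := by
    intro S hS
    have h1 : {y | y ∈ orbit G x ∧ f y ∈ S} =
        ((horbfin.toFinset.filter (fun y => f y ∈ S) : Finset X) : Set X) := by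
      ext y; simp
    have hmaps : Set.MapsTo f ((horbfin.toFinset.filter (fun y => f y ∈ S) : Finset X) : Set X) (S : Set ℕ) := by
      intro y hy
      exact mem_coe.2 (mem_filter.1 (mem_coe.1 hy)).2
    rw [h1, Set.ncard_coe_finset, Finset.card_eq_sum_card_fiberwise hmaps]
    apply Finset.sum_congr rfl
    intro i hi
    rw [← hn i (mem_range.1 (hS hi))]
    rw [← Set.ncard_coe_finset]
    congr 1
    ext y
    simp only [coe_filter, mem_filter, Set.Finite.mem_toFinset, Set.mem_ofPred_eq]
    constructor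
    · rintro ⟨⟨h2, _⟩, h3⟩; exact ⟨h2, h3⟩
    · rintro ⟨h2, h3⟩; exact ⟨⟨h2, by rw [h3]; exact hi⟩, h3⟩
  have htot : (orbit G x).ncard = ∑ i ∈ range r, n i := by
    rw [← hsum (range r) (Subset.refl _)]
    congr 1
    ext y
    constructor
    · intro h; exact ⟨h, mem_range.2 (hfr y h)⟩
    · intro h; exact h.1
  have hG : (orbit G x).ncard * Nat.card (stabilizer G x) = Nat.card G := by
    rw [← MulAction.index_stabilizer, mul_comm, Subgroup.card_mul_index]
  constructor
  · intro htop
    rw [htop, Subgroup.card_top, htot] at hG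
    have hpos : 0 < Nat.card G := Nat.card_pos
    have : ∑ i ∈ range r, n i = 1 := by
      exact Nat.eq_of_mul_eq_mul_right hpos (by rw [one_mul]; exact hG)
    omega
  · intro K hK
    have hle := hK.le
    have hKc := ncard_orbit_mul K x hle
    have hsub : orbit K x ⊆ orbit G x := by
      rintro _ ⟨g, rfl⟩; exact ⟨g, rfl⟩
    set S := (range r).filter (fun i => ∃ y ∈ orbit K x, f y = i) with hS
    have hSr : S ⊆ range r := Finset.filter_subset _ _
    have hY : orbit K x = {y | y ∈ orbit G x ∧ f y ∈ S} := by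
      ext y
      constructor
      · intro hy
        refine ⟨hsub hy, ?_⟩
        rw [hS, mem_filter]
        exact ⟨mem_range.2 (hfr y (hsub hy)), y, hy, rfl⟩
      · rintro ⟨hy, hyS⟩
        rw [hS, mem_filter] at hyS
        obtain ⟨_, z, hz, hzy⟩ := hyS
        obtain ⟨g, hg, e⟩ := hf z (hsub hz) y hy hzy
        obtain ⟨k, hk⟩ := hz
        refine ⟨⟨g, hle hg⟩ * k, ?_⟩
        rw [← e, ← hk]
        show ((⟨g, hle hg⟩ * k : K) : G) • x = g • ((k : G) • x)
        rw [← mul_smul]; rfl
    have h0 : 0 ∈ S := by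
      rw [hS, mem_filter]
      exact ⟨mem_range.2 (by rw [← hx]; exact hfr x (mem_orbit_self x)), x, mem_orbit_self x, hx⟩
    have hcY : (orbit K x).ncard = ∑ i ∈ S, n i := by rw [hY, hsum S hSr]
    have hdvd : (∑ i ∈ S, n i) ∣ (∑ i ∈ range r, n i) := by
      rw [← hcY, ← htot]
      have h1 : Nat.card K ∣ Nat.card G := Subgroup.card_subgroup_dvd_card K
      rw [← hKc, ← hG] at h1
      exact Nat.dvd_of_mul_dvd_mul_right Nat.card_pos h1
    rcases har S (mem_powerset.2 hSr) h0 hdvd with h | h
    · exfalso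
      apply hK.not_ge
      intro k hk
      rw [mem_stabilizer_iff]
      have hkx : k • x ∈ orbit K x := ⟨⟨k, hk⟩, rfl⟩
      have h2 := hkx
      rw [hY] at h2
      have h3 := h2.2
      rw [h, mem_singleton] at h3
      exact hx0 _ (hsub hkx) h3
    · have h4 : Nat.card K = Nat.card G := by
        rw [← hKc, ← hG, hcY, htot, h]
      exact Subgroup.eq_top_of_card_eq K h4

end Cfsg.Agent.Lib.Coatom

namespace Cfsg.Agent.Lib.Coatom

open MulAction

theorem isCoatom_smul {G X : Type*} [Group G] [MulAction G X] {x : X} (h : IsCoatom (stabilizer G x)) (g : G) :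
    IsCoatom (stabilizer G (g • x)) := by
  rw [MulAction.stabilizer_smul_eq_stabilizer_map_conj]
  exact ((MulEquiv.mapSubgroup (MulAut.conj g)).isCoatom_iff (stabilizer G x)).2 h

end Cfsg.Agent.Lib.Coatom
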