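import Mathlib

/-! The Coxeter presentation of the symmetric group. -/

set_option linter.all false
set_option maxHeartbeats 400000

namespace Cfsg.Agent.Lib.Cox

open scoped Nat

variable {W : Type*} [Group W]

/-- relations of type `A_n` -/
structure Rel (n : ℕ) (s : ℕ → W) : Prop where
  sq : ∀ i, i < n → s i * s i = 1
  braid : ∀ i, i + 1 < n → s i * s (i + 1) * s i = s (i + 1) * s i * s (i + 1)
  comm : ∀ i j, i + 1 < j → j < n → s i * s j = s j * s i

theorem Rel.mono {n m : ℕ} {s : ℕ → W} (h : Rel n s) (hm : m ≤ n) : Rel m s :=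
  ⟨fun i hi => h.sq i (by omega), fun i hi => h.braid i (by omega), fun i j hi hj => h.comm i j hi (by omega)⟩

/-- coset representatives: `s n * s (n-1) * ... ` (k factors) -/
def c (n : ℕ) (s : ℕ → W) : ℕ → W
  | 0 => 1
  | k + 1 => c n s k * s (n - k)

theorem c_comm {n : ℕ} {s : ℕ → W} (h : Rel (n + 1) s) : ∀ k i, i + k < n → c n s k * s i = s i * c n s k := by
  intro k
  induction k with
  | zero => intro i _; rw [c, one_mul, mul_one]
  | succ k ih =>
    intro i hi
    rw [c, mul_assoc, ← h.comm i (n - k) (by omega) (by omega), ← mul_assoc, ih i (by omega), mul_assoc]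

theorem c_shift {n : ℕ} {s : ℕ → W} (h : Rel (n + 1) s) : ∀ k, k ≤ n + 1 → ∀ i, n + 1 ≤ i + k - 1 → 1 ≤ i + k → i ≤ n → 1 ≤ i →
    c n s k * s i = s (i - 1) * c n s k := by
  intro k
  induction k with
  | zero => intro _ i hi _ _ _; omega
  | succ k ih =>
    intro hk i hi _ hin hi1
    by_cases h1 : i + k = n + 1
    · obtain ⟨k', rfl⟩ : ∃ k', k = k' + 1 := ⟨k - 1, by omega⟩
      obtain ⟨j, rfl⟩ : ∃ j, i = j + 1 := ⟨i - 1, by omega⟩
      have e1 : n - (k' + 1) = j := by omega
      have e2 : n - k' = j + 1 := by omega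
      rw [c, c, e1, e2, Nat.add_sub_cancel]
      calc c n s k' * s (j + 1) * s j * s (j + 1) = c n s k' * (s (j + 1) * s j * s (j + 1)) := by group
        _ = c n s k' * (s j * s (j + 1) * s j) := by rw [h.braid j (by omega)]
        _ = (c n s k' * s j) * s (j + 1) * s j := by group
        _ = (s j * c n s k') * s (j + 1) * s j := by rw [c_comm h k' j (by omega)]
        _ = s j * (c n s k' * s (j + 1) * s j) := by group
    · have e : s (n - k) * s i = s i * s (n - k) := h.comm (n - k) i (by omega) (by omega)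
      rw [c, mul_assoc, e, ← mul_assoc, ih (by omega) i (by omega) (by omega) hin hi1, mul_assoc]

/-- the subgroup generated -/
def G (n : ℕ) (s : ℕ → W) : Subgroup W := Subgroup.closure {x | ∃ i, i < n ∧ s i = x}

theorem mem_G {n : ℕ} {s : ℕ → W} {i : ℕ} (hi : i < n) : s i ∈ G n s := Subgroup.subset_closure ⟨i, hi, rfl⟩

theorem G_mono {n m : ℕ} {s : ℕ → W} (h : n ≤ m) : G n s ≤ G m s := by
  apply Subgroup.closure_mono
  rintro _ ⟨i, hi, rfl⟩
  exact ⟨i, by omega, rfl⟩

theorem step {n : ℕ} {s : ℕ → W} (h : Rel (n + 1) s) (x : W) (hx : x ∈ G (n + 1) s) : ∃ y ∈ G n s, ∃ k, k ≤ n + 1 ∧ x = y * c n s k := by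
  have key : ∀ (i : ℕ), i < n + 1 → ∀ x : W, (∃ y ∈ G n s, ∃ k, k ≤ n + 1 ∧ x = y * c n s k) → ∃ y ∈ G n s, ∃ k, k ≤ n + 1 ∧ x * s i = y * c n s k := by
    rintro i hi _ ⟨y, hy, k, hk, rfl⟩
    by_cases h1 : i + k = n
    · refine ⟨y, hy, k + 1, by omega, ?_⟩
      have : n - k = i := by omega
      rw [c, this, mul_assoc]
    by_cases h2 : i + k < n
    · refine ⟨y * s i, (G n s).mul_mem hy (mem_G (by omega)), k, hk, ?_⟩
      rw [mul_assoc, c_comm h k i h2, mul_assoc]
    by_cases h3 : i + k = n + 1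
    · obtain ⟨k', rfl⟩ : ∃ k', k = k' + 1 := ⟨k - 1, by omega⟩
      refine ⟨y, hy, k', by omega, ?_⟩
      have : n - k' = i := by omega
      rw [c, this, mul_assoc, mul_assoc, h.sq i hi, mul_one]
    · refine ⟨y * s (i - 1), (G n s).mul_mem hy (mem_G (by omega)), k, hk, ?_⟩
      rw [mul_assoc, c_shift h k hk i (by omega) (by omega) (by omega) (by omega), mul_assoc]
  have hinv : ∀ i, i < n + 1 → (s i)⁻¹ = s i := fun i hi => inv_eq_of_mul_eq_one_left (h.sq i hi)
  refine Subgroup.closure_induction_right ?_ ?_ ?_ hx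
  · exact ⟨1, one_mem _, 0, by omega, by rw [c, mul_one]⟩
  · rintro x _ y ⟨i, hi, rfl⟩ hx
    exact key i hi x hx
  · rintro x _ y ⟨i, hi, rfl⟩ hx
    rw [hinv i hi]
    exact key i hi x hx

theorem card_le (n : ℕ) : ∀ {s : ℕ → W}, Rel n s → Finite (G n s) ∧ Nat.card (G n s) ≤ (n + 1)! := by
  induction n with
  | zero =>
    intro s _
    have : G 0 s = ⊥ := by
      rw [G, Subgroup.closure_eq_bot_iff]
      rintro _ ⟨i, hi, _⟩
      omega
    rw [this]
    exact ⟨inferInstance, by rw [Nat.card_unique]; decide⟩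
  | succ n ih =>
    intro s h
    obtain ⟨h1, h2⟩ := ih (h.mono (Nat.le_succ n))
    haveI := h1
    have hch : ∀ x : G (n + 1) s, ∃ p : G n s × Fin (n + 2), (x : W) = (p.1 : W) * c n s p.2 := by
      intro x
      obtain ⟨y, hy, k, hk, e⟩ := step h x.1 x.2
      exact ⟨(⟨y, hy⟩, ⟨k, by omega⟩), e⟩
    choose f hf using hch
    have hinj : Function.Injective f := by
      intro x y hxy
      apply Subtype.ext
      rw [hf x, hf y, hxy]
    refine ⟨Finite.of_injective f hinj, ?_⟩
    have h3 := Nat.card_le_card_of_injective f hinj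
    rw [Nat.card_prod, Nat.card_eq_fintype_card (α := Fin (n + 2)), Fintype.card_fin] at h3
    refine h3.trans ?_
    rw [Nat.factorial_succ (n + 1), mul_comm]
    exact Nat.mul_le_mul_left _ h2

theorem swap_rel (n : ℕ) : CoxeterMatrix.IsLiftable (CoxeterMatrix.A n) (fun i : Fin n => Equiv.swap i.castSucc i.succ) := by
  intro i j
  show (Equiv.swap i.castSucc i.succ * Equiv.swap j.castSucc j.succ) ^ (if i = j then 1 else (if (j : ℕ) + 1 = i ∨ (i : ℕ) + 1 = j then 3 else 2)) = 1
  split_ifs with h1 h2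
  · rw [h1, pow_one, Equiv.swap_mul_self]
  · -- adjacent
    have key : ∀ {a b d : Fin (n + 1)}, a ≠ b → b ≠ d → a ≠ d → (Equiv.swap a b * Equiv.swap b d) ^ 3 = 1 := by
      intro a b d hab hbd had
      have := Equiv.Perm.IsThreeCycle.orderOf (Equiv.Perm.isThreeCycle_swap_mul_swap_same (a := b) (b := a) (c := d) hab.symm hbd had)
      rw [Equiv.swap_comm b a] at this
      rw [← this, pow_orderOf_eq_one]
    rcases h2 with h2 | h2
    · have e : j.succ = i.castSucc := Fin.ext (by simp [h2])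
      have e2 : (Equiv.swap i.castSucc i.succ * Equiv.swap j.castSucc j.succ) = Equiv.swap i.succ i.castSucc * Equiv.swap i.castSucc j.castSucc := by
        rw [Equiv.swap_comm i.succ, Equiv.swap_comm j.castSucc, e]
      rw [e2]
      apply key
      · exact (Fin.castSucc_lt_succ).ne'
      · rw [← e]; exact (Fin.castSucc_lt_succ).ne'
      · intro h
        have := congrArg Fin.val h
        simp at this
        omega
    · have e : i.succ = j.castSucc := Fin.ext (by simp [h2])
      rw [e]
      apply key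
      · rw [← e]; exact (Fin.castSucc_lt_succ).ne
      · exact (Fin.castSucc_lt_succ).ne
      · intro h
        have := congrArg Fin.val h
        simp at this
        omega
  · have hd : Equiv.Perm.Disjoint (Equiv.swap i.castSucc i.succ) (Equiv.swap j.castSucc j.succ) := by
      have hne : ∀ a b : Fin n, a ≠ b → a.castSucc ≠ b.castSucc := fun a b h h' => h (Fin.castSucc_injective _ h')
      have hne2 : ∀ a b : Fin n, a ≠ b → a.succ ≠ b.succ := fun a b h h' => h (Fin.succ_injective _ h')
      have h3 : i.castSucc ≠ j.succ := by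
        intro h
        have := congrArg Fin.val h
        simp at this
        omega
      have h4 : i.succ ≠ j.castSucc := by
        intro h
        have := congrArg Fin.val h
        simp at this
        omega
      intro x
      by_cases hx1 : x = i.castSucc
      · right
        rw [hx1]
        exact Equiv.swap_apply_of_ne_of_ne (hne i j h1) h3
      · by_cases hx2 : x = i.succ
        · right
          rw [hx2]
          exact Equiv.swap_apply_of_ne_of_ne h4 (hne2 i j h1)
        · left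
          exact Equiv.swap_apply_of_ne_of_ne hx1 hx2
    rw [hd.commute.mul_pow, pow_two, pow_two, Equiv.swap_mul_self, Equiv.swap_mul_self, mul_one]

/-- the extended generators -/
noncomputable def ext {n : ℕ} (s : Fin n → W) (i : ℕ) : W := if h : i < n then s ⟨i, h⟩ else 1

theorem ext_of {n : ℕ} (s : Fin n → W) {i : ℕ} (h : i < n) : ext s i = s ⟨i, h⟩ := dif_pos h

theorem rel_of_liftable {n : ℕ} {s : Fin n → W} (h : CoxeterMatrix.IsLiftable (CoxeterMatrix.A n) s) : Rel n (ext s) := by
  have h' : ∀ i j : Fin n, (s i * s j) ^ (if i = j then 1 else (if (j : ℕ) + 1 = i ∨ (i : ℕ) + 1 = j then 3 else 2)) = 1 := h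
  have hsq : ∀ i : Fin n, s i * s i = 1 := by
    intro i
    have := h' i i
    rwa [if_pos rfl, pow_one] at this
  have hinv : ∀ i : Fin n, (s i)⁻¹ = s i := fun i => inv_eq_of_mul_eq_one_left (hsq i)
  refine ⟨?_, ?_, ?_⟩
  · intro i hi
    rw [ext_of s hi]
    exact hsq _
  · intro i hi
    rw [ext_of s hi, ext_of s (by omega : i < n)]
    have h1 := h' ⟨i, by omega⟩ ⟨i + 1, hi⟩
    rw [if_neg (by intro h; have := congrArg Fin.val h; simp at this), if_pos (Or.inr rfl), pow_succ, pow_two] at h1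
    have h2 : s ⟨i, by omega⟩ * s ⟨i + 1, hi⟩ * s ⟨i, by omega⟩ * (s ⟨i + 1, hi⟩ * s ⟨i, by omega⟩ * s ⟨i + 1, hi⟩) = 1 := by
      rw [← h1]; group
    rw [mul_eq_one_iff_eq_inv] at h2
    rw [h2, _root_.mul_inv_rev, _root_.mul_inv_rev, hinv, hinv]
    group
  · intro i j hij hj
    rw [ext_of s hj, ext_of s (by omega : i < n)]
    have h1 := h' ⟨i, by omega⟩ ⟨j, hj⟩
    rw [if_neg (by intro h; have := congrArg Fin.val h; simp at this; omega), if_neg (by
      rintro (h | h)
      · have : j + 1 = i := h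
        omega
      · have : i + 1 = j := h
        omega), pow_two] at h1
    have h2 : s ⟨i, by omega⟩ * s ⟨j, hj⟩ * (s ⟨i, by omega⟩ * s ⟨j, hj⟩) = 1 := h1
    rw [mul_eq_one_iff_eq_inv, _root_.mul_inv_rev, hinv, hinv] at h2
    exact h2

/-- the canonical map -/
noncomputable def Φ (n : ℕ) : (CoxeterMatrix.A n).Group →* Equiv.Perm (Fin (n + 1)) :=
  (CoxeterMatrix.A n).toCoxeterSystem.lift ⟨_, swap_rel n⟩

theorem Φ_simple (n : ℕ) (i : Fin n) : Φ n ((CoxeterMatrix.A n).toCoxeterSystem.simple i) = Equiv.swap i.castSucc i.succ :=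
  (CoxeterMatrix.A n).toCoxeterSystem.lift_apply_simple (swap_rel n) i

theorem Φ_surj (n : ℕ) : Function.Surjective (Φ n) := by
  rw [← MonoidHom.range_eq_top, eq_top_iff]
  intro x _
  have h1 : x ∈ Submonoid.closure (Set.range fun i : Fin n ↦ Equiv.swap i.castSucc i.succ) := by
    rw [Equiv.Perm.mclosure_swap_castSucc_succ]; trivial
  have h2 : Submonoid.closure (Set.range fun i : Fin n ↦ Equiv.swap i.castSucc i.succ) ≤ (Φ n).range.toSubmonoid := by
    rw [Submonoid.closure_le]
    rintro _ ⟨i, rfl⟩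
    exact ⟨_, Φ_simple n i⟩
  exact h2 h1

theorem Φ_bij (n : ℕ) : Function.Bijective (Φ n) := by
  have hrel : Rel n (ext (CoxeterMatrix.A n).toCoxeterSystem.simple) := by
    apply rel_of_liftable
    intro i j
    exact (CoxeterMatrix.A n).toCoxeterSystem.simple_mul_simple_pow i j
  have hG : G n (ext (CoxeterMatrix.A n).toCoxeterSystem.simple) = ⊤ := by
    rw [eq_top_iff, ← (CoxeterMatrix.A n).toCoxeterSystem.subgroup_closure_range_simple, Subgroup.closure_le]
    rintro _ ⟨i, rfl⟩
    have := mem_G (s := ext (CoxeterMatrix.A n).toCoxeterSystem.simple) i.2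
    rwa [ext_of _ i.2] at this
  obtain ⟨h1, h2⟩ := card_le n hrel
  rw [hG] at h1 h2
  haveI : Finite (CoxeterMatrix.A n).Group := Finite.of_equiv _ Subgroup.topEquiv.toEquiv
  have h3 : Nat.card (CoxeterMatrix.A n).Group ≤ Nat.card (Equiv.Perm (Fin (n + 1))) := by
    rw [← Subgroup.card_top (G := (CoxeterMatrix.A n).Group), Nat.card_perm, Nat.card_eq_fintype_card (α := Fin (n + 1)), Fintype.card_fin]
    exact h2
  have h4 : Nat.card (Equiv.Perm (Fin (n + 1))) ≤ Nat.card (CoxeterMatrix.A n).Group := Nat.card_le_card_of_surjective _ (Φ_surj n)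
  exact (Nat.bijective_iff_surjective_and_card _).mpr ⟨Φ_surj n, le_antisymm h3 h4⟩

theorem s2530 (n : ℕ) :
    ∃ cs : CoxeterSystem (CoxeterMatrix.A n) (Equiv.Perm (Fin (n + 1))), ∀ i : Fin n, cs.simple i = Equiv.swap i.castSucc i.succ := by
  refine ⟨(CoxeterMatrix.A n).toCoxeterSystem.map (MulEquiv.ofBijective (Φ n) (Φ_bij n)), fun i => ?_⟩
  rw [CoxeterSystem.map_simple]
  exact Φ_simple n i

end Cfsg.Agent.Lib.Cox
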