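import Mathlib
import Cfsg.Prelude.Def_Local
import Cfsg.Prelude.Def_ClassificationK
import Cfsg.Prelude.Def_EvenType
import Cfsg.Agent.Lib.Basic
import Cfsg.Agent.Lib.Cores
import Cfsg.Agent.Lib.Nilp
import Cfsg.Agent.Lib.Components
import Cfsg.Agent.Lib.ExSp
import Cfsg.Agent.Lib.StrongEmbB

/-!
# TI subgroups, automorphisms of abelian 2-groups, some standard facts
-/

open Subgroup
open scoped commutatorElement Pointwise

namespace Cfsg.Agent.Lib.TiSub

variable {G : Type*} [Group G]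

theorem mem_map_conj {B : Subgroup G} {g x : G} : x ∈ B.map (MulAut.conj g).toMonoidHom ↔ g⁻¹ * x * g ∈ B := by
  constructor
  · rintro ⟨y, hy, rfl⟩
    have : g⁻¹ * ((MulAut.conj g).toMonoidHom y) * g = y := by
      change g⁻¹ * (g * y * g⁻¹) * g = y
      group
    rw [this]; exact hy
  · intro h
    refine ⟨_, h, ?_⟩
    change g * (g⁻¹ * x * g) * g⁻¹ = x
    group

theorem mem_normalizer_of_map_eq {B : Subgroup G} {g : G} (h : B.map (MulAut.conj g).toMonoidHom = B) :
    g ∈ normalizer (B : Set G) := by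
  rw [mem_normalizer_iff]
  intro x
  constructor
  · intro hx
    rw [← h]
    exact ⟨x, hx, rfl⟩
  · intro hx
    rw [← h] at hx
    have := mem_map_conj.mp hx
    have h2 : g⁻¹ * (g * x * g⁻¹) * g = x := by group
    rwa [h2] at this

theorem map_eq_of_mem_normalizer {B : Subgroup G} {g : G} (h : g ∈ normalizer (B : Set G)) :
    B.map (MulAut.conj g).toMonoidHom = B := by
  ext x
  rw [mem_map_conj]
  have h1 := inv_mem h
  rw [mem_normalizer_iff] at h1
  have := h1 x
  rw [inv_inv] at this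
  exact this.symm

/-- S1757 -/
theorem ti_commute [Finite G] {A B : Subgroup G}
    (hBti : ∀ g : G, B.map (MulAut.conj g).toMonoidHom = B ∨ B.map (MulAut.conj g).toMonoidHom ⊓ B = ⊥)
    (hle : Nat.card A ≤ Nat.card B) (hAB : A ⊓ B = ⊥) (hN : B ≤ normalizer (A : Set G)) : ⁅A, B⁆ = ⊥ := by
  have hAN : ∀ a ∈ A, B.map (MulAut.conj a).toMonoidHom = B := by
    intro a ha
    by_contra hne
    have h1 := (hBti a).resolve_left hne
    set C := B.map (MulAut.conj a).toMonoidHom with hC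
    have hCcard : Nat.card C = Nat.card B :=
      Nat.card_congr (B.equivMapOfInjective _ (MulAut.conj a).injective).symm.toEquiv
    have hdis : Disjoint B C := by rw [disjoint_iff, inf_comm]; exact h1
    have hinj := mul_injective_of_disjoint hdis
    have hsub : ∀ q : B × C, (q.1 : G) * q.2 ∈ A ⊔ B := by
      rintro ⟨⟨b, hb⟩, ⟨c, hc⟩⟩
      refine mul_mem (mem_sup_right hb) ?_
      obtain ⟨d, hd, rfl⟩ := hc
      exact mul_mem (mul_mem (mem_sup_left ha) (mem_sup_right hd)) (inv_mem (mem_sup_left ha))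
    let φ : B × C → (A ⊔ B : Subgroup G) := fun q => ⟨(q.1 : G) * q.2, hsub q⟩
    have hφ : Function.Injective φ := fun q r h => hinj (congrArg Subtype.val h)
    have hcard : Nat.card (A ⊔ B : Subgroup G) ≤ Nat.card (B × C) := by
      rw [Cfsg.Agent.Lib.Basic.card_sup_of_inf_eq_bot hN hAB, Nat.card_prod, hCcard]
      exact Nat.mul_le_mul_right _ hle
    have hbij : Function.Bijective φ := by
      haveI := Fintype.ofFinite (B × C)
      haveI := Fintype.ofFinite (A ⊔ B : Subgroup G)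
      rw [Fintype.bijective_iff_injective_and_card]
      refine ⟨hφ, ?_⟩
      rw [← Nat.card_eq_fintype_card, ← Nat.card_eq_fintype_card]
      exact le_antisymm (Nat.card_le_card_of_injective φ hφ) hcard
    obtain ⟨⟨⟨b, hb⟩, ⟨c, hc⟩⟩, hq⟩ := hbij.2 ⟨a⁻¹, inv_mem (mem_sup_left ha)⟩
    have hq' : b * c = a⁻¹ := congrArg Subtype.val hq
    obtain ⟨d, hd, rfl⟩ := hc
    have h3 : b * (a * d * a⁻¹) = a⁻¹ := hq'
    have h4 : a = b⁻¹ * d⁻¹ := by
      have h5 : b * a * d = 1 := by
        calc b * a * d = b * (a * d * a⁻¹) * a := by group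
          _ = 1 := by rw [h3, inv_mul_cancel]
      calc a = b⁻¹ * (b * a * d) * d⁻¹ := by group
        _ = b⁻¹ * d⁻¹ := by rw [h5, mul_one]
    have h6 : a ∈ B := by rw [h4]; exact mul_mem (inv_mem hb) (inv_mem hd)
    exact hne (map_eq_of_mem_normalizer (le_normalizer h6))
  rw [commutator_eq_bot_iff_le_centralizer]
  intro a ha
  rw [mem_centralizer_iff]
  intro b hb
  have h1 : a ∈ normalizer (B : Set G) := mem_normalizer_of_map_eq (hAN a ha)
  have h2 : a * b * a⁻¹ * b⁻¹ ∈ A ⊓ B := by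
    refine mem_inf.mpr ⟨?_, ?_⟩
    · have h3 := (mem_normalizer_iff.mp (hN hb) a⁻¹).mp (inv_mem ha)
      have h4 : a * b * a⁻¹ * b⁻¹ = a * (b * a⁻¹ * b⁻¹) := by group
      rw [h4]; exact mul_mem ha h3
    · exact mul_mem ((mem_normalizer_iff.mp h1 b).mp hb) (inv_mem hb)
  rw [hAB, mem_bot] at h2
  calc b * a = (a * b * a⁻¹ * b⁻¹)⁻¹ * (a * b) := by group
    _ = a * b := by rw [h2, inv_one, one_mul]

/-- S1780, for a group in which all elements commute -/
theorem fix_all {A : Type*} [Group A] [Finite A] (hcomm : ∀ a b : A, a * b = b * a) (hA : IsPGroup 2 A)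
    (t : MulAut A) (ht : ∃ k : ℕ, t ^ 2 ^ k = 1) (hC : ∀ a : A, t (t a) = a → t a = a) : ∀ a : A, t a = a := by
  classical
  letI : CommGroup A := { (inferInstance : Group A) with mul_comm := hcomm }
  let C : Subgroup A :=
    { carrier := {a | t a = a}
      one_mem' := map_one t
      mul_mem' := fun {a b} ha hb => by
        change t (a * b) = a * b
        rw [map_mul, show t a = a from ha, show t b = b from hb]
      inv_mem' := fun {a} ha => by
        change t a⁻¹ = a⁻¹
        rw [map_inv, show t a = a from ha] }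
  have hCm : ∀ a, a ∈ C ↔ t a = a := fun a => Iff.rfl
  have hCC : C ≤ C.comap t.toMonoidHom := by
    intro a ha
    change t (t a) = t a
    rw [show t a = a from ha, show t a = a from ha]
  let F : Function.End (A ⧸ C) := fun q => QuotientGroup.map C C t.toMonoidHom hCC q
  have hF : ∀ (n : ℕ) (a : A), (F ^ n) (QuotientGroup.mk a) = QuotientGroup.mk ((t ^ n) a) := by
    intro n
    induction n with
    | zero => intro a; rfl
    | succ n ih =>
      intro a
      rw [pow_succ, pow_succ]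
      change (F ^ n) (F (QuotientGroup.mk a)) = QuotientGroup.mk ((t ^ n) (t a))
      rw [← ih]
      rfl
  obtain ⟨k, hk⟩ := ht
  have hFk : F ^ 2 ^ k = 1 := by
    funext q
    obtain ⟨a, rfl⟩ := QuotientGroup.mk_surjective q
    rw [hF, hk]
    rfl
  by_contra hne
  push Not at hne
  obtain ⟨a₀, ha₀⟩ := hne
  haveI := Fintype.ofFinite (A ⧸ C)
  haveI : Fact (Nat.Prime 2) := ⟨Nat.prime_two⟩
  have h1 := Equiv.Perm.card_fixedPoints_modEq hFk
  have h2 : 2 ∣ Fintype.card (A ⧸ C) := by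
    have h3 : IsPGroup 2 (A ⧸ C) := hA.to_quotient C
    obtain ⟨n, hn⟩ := IsPGroup.iff_card.mp h3
    rw [← Nat.card_eq_fintype_card, hn]
    rcases Nat.eq_zero_or_pos n with h0 | h0
    · exfalso
      rw [h0, pow_zero] at hn
      haveI := (Nat.card_eq_one_iff_unique.mp hn).1
      have h4 : (QuotientGroup.mk a₀ : A ⧸ C) = 1 := Subsingleton.elim _ _
      exact ha₀ ((hCm a₀).mp ((QuotientGroup.eq_one_iff a₀).mp h4))
    · exact dvd_pow_self 2 h0.ne'
  have h3 : 2 ∣ Fintype.card (Function.fixedPoints F) := (Nat.ModEq.dvd_iff h1 (dvd_refl 2)).mp h2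
  have h4 : (1 : A ⧸ C) ∈ Function.fixedPoints F := by
    change F 1 = 1
    exact map_one (QuotientGroup.map C C t.toMonoidHom hCC)
  have h5 : 1 < Fintype.card (Function.fixedPoints F) := by
    have : 0 < Fintype.card (Function.fixedPoints F) := Fintype.card_pos_iff.mpr ⟨⟨1, h4⟩⟩
    obtain ⟨m, hm⟩ := h3
    omega
  obtain ⟨⟨q, hq⟩, hq1⟩ := Fintype.exists_ne_of_one_lt_card h5 ⟨1, h4⟩
  obtain ⟨a, rfl⟩ := QuotientGroup.mk_surjective q
  have ha : t a ≠ a := by
    intro h
    apply hq1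
    apply Subtype.ext
    exact (QuotientGroup.eq_one_iff a).mpr h
  have h6 : a⁻¹ * t a ∈ C := by
    have h7 : (QuotientGroup.mk (t a) : A ⧸ C) = QuotientGroup.mk a := hq
    exact QuotientGroup.eq.mp h7.symm
  set c := a⁻¹ * t a with hc
  have hta : t a = a * c := by rw [hc, mul_inv_cancel_left]
  have hc1 : c ≠ 1 := fun h => ha (by rw [hta, h, mul_one])
  obtain ⟨m, hm⟩ := (IsPGroup.iff_orderOf.mp hA) c
  have hm0 : m ≠ 0 := by
    rintro rfl
    rw [pow_zero, orderOf_eq_one_iff] at hm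
    exact hc1 hm
  obtain ⟨m, rfl⟩ := Nat.exists_eq_succ_of_ne_zero hm0
  have hc2 : c ^ 2 ^ m ≠ 1 := by
    intro h
    have := orderOf_dvd_of_pow_eq_one h
    rw [hm] at this
    have h8 := Nat.le_of_dvd (by positivity) this
    rw [Nat.pow_succ] at h8
    have : 0 < 2 ^ m := by positivity
    omega
  have hc3 : c ^ 2 ^ m * c ^ 2 ^ m = 1 := by
    rw [← pow_add, ← two_mul, ← pow_succ', ← Nat.succ_eq_add_one, ← hm, pow_orderOf_eq_one]
  have h9 : t (a ^ 2 ^ m) = a ^ 2 ^ m * c ^ 2 ^ m := by rw [map_pow, hta, mul_pow]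
  have h10 : t (t (a ^ 2 ^ m)) = a ^ 2 ^ m := by
    rw [h9, map_mul, h9, map_pow, show t c = c from h6, mul_assoc, hc3, mul_one]
  have h11 := hC _ h10
  rw [h9] at h11
  exact hc2 (mul_eq_left.mp h11)

/-- S1781 -/
theorem ti_elementary [Finite G] {A : Subgroup G} (hA2 : IsPGroup 2 A) (hAa : IsMulCommutative A)
    (hti : ∀ h : G, A.map (MulAut.conj h).toMonoidHom = A ∨ A.map (MulAut.conj h).toMonoidHom ⊓ A = ⊥)
    (g : G) (hg : A.map (MulAut.conj g).toMonoidHom ≠ A) :
    Cfsg.IsElementaryAbelian 2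
        (A ⊓ normalizer ((A.map (MulAut.conj g).toMonoidHom : Subgroup G) : Set G)) ∨
      ⁅A, A.map (MulAut.conj g).toMonoidHom⁆ = ⊥ := by
  by_cases hel : ∀ a ∈ (A ⊓ normalizer ((A.map (MulAut.conj g).toMonoidHom : Subgroup G) : Set G)), a ^ 2 = 1
  · refine Or.inl ⟨?_, hel⟩
    exact Cfsg.Agent.Lib.Nilp.isMulCommutative_of_le inf_le_left hAa
  right
  push Not at hel
  obtain ⟨u, hu, hu2⟩ := hel
  obtain ⟨huA, huN⟩ := mem_inf.mp hu
  set B := A.map (MulAut.conj g).toMonoidHom with hB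
  have hAc := Cfsg.Agent.Lib.Nilp.isMulCommutative_iff_forall.mp hAa
  have hAB : A ⊓ B = ⊥ := by rw [inf_comm]; exact (hti g).resolve_left hg
  have hBcard : Nat.card B = Nat.card A :=
    Nat.card_congr (A.equivMapOfInjective _ (MulAut.conj g).injective).symm.toEquiv
  have hBc : ∀ x ∈ B, ∀ y ∈ B, x * y = y * x := by
    rintro x ⟨x', hx', rfl⟩ y ⟨y', hy', rfl⟩
    rw [← map_mul, ← map_mul, hAc x' hx' y' hy']
  have hB2 : IsPGroup 2 B := hA2.map _
  -- an element commuting with a nontrivial element of `A` normalizes `A`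
  have hnorm : ∀ b : G, ∀ w ∈ A, w ≠ 1 → b * w = w * b → b ∈ normalizer (A : Set G) := by
    intro b w hw hw1 hbw
    rcases hti b with h | h
    · exact mem_normalizer_of_map_eq h
    · exfalso
      have h1 : w ∈ A.map (MulAut.conj b).toMonoidHom ⊓ A := by
        refine mem_inf.mpr ⟨⟨w, hw, ?_⟩, hw⟩
        change b * w * b⁻¹ = w
        rw [hbw, mul_inv_cancel_right]
      rw [h, mem_bot] at h1
      exact hw1 h1
  have hcomm1 : ∀ b ∈ B, b * u ^ 2 = u ^ 2 * b → b * u = u * b := by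
    intro b hb hbu
    have h1 := hnorm b (u ^ 2) (pow_mem huA 2) hu2 hbu
    have h2 : b * u * b⁻¹ * u⁻¹ ∈ A ⊓ B := by
      refine mem_inf.mpr ⟨mul_mem ((mem_normalizer_iff.mp h1 u).mp huA) (inv_mem huA), ?_⟩
      have h3 := (mem_normalizer_iff.mp huN b⁻¹).mp (inv_mem hb)
      have h4 : b * u * b⁻¹ * u⁻¹ = b * (u * b⁻¹ * u⁻¹) := by group
      rw [h4]
      exact mul_mem hb h3
    rw [hAB, mem_bot] at h2
    calc b * u = (b * u * b⁻¹ * u⁻¹) * (u * b) := by group
      _ = u * b := by rw [h2, one_mul]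
  have hord : ∃ k : ℕ, u ^ 2 ^ k = 1 := by
    obtain ⟨k, hk⟩ := hA2 ⟨u, huA⟩
    exact ⟨k, congrArg Subtype.val hk⟩
  obtain ⟨k, hk⟩ := hord
  let t : MulAut B := B.normalizerMonoidHom ⟨u, huN⟩
  have ht : ∀ b : B, ((t b : B) : G) = u * b * u⁻¹ := fun b => rfl
  have htk : t ^ 2 ^ k = 1 := by
    change (B.normalizerMonoidHom ⟨u, huN⟩) ^ 2 ^ k = 1
    rw [← map_pow]
    have : (⟨u, huN⟩ : normalizer (B : Set G)) ^ 2 ^ k = 1 := Subtype.ext hk
    rw [this, map_one]
  have hfix := fix_all (A := B) (fun a b => Subtype.ext (hBc a a.2 b b.2)) hB2 t ⟨k, htk⟩ (by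
    intro b hb
    have h1 : u * (u * b * u⁻¹) * u⁻¹ = (b : G) := by
      have := congrArg Subtype.val hb
      rw [ht, ht] at this
      exact this
    have h2 : (b : G) * u ^ 2 = u ^ 2 * b := by
      calc (b : G) * u ^ 2 = (u * (u * b * u⁻¹) * u⁻¹) * u ^ 2 := by rw [h1]
        _ = u ^ 2 * b := by rw [pow_two]; group
    have h3 := hcomm1 b b.2 h2
    apply Subtype.ext
    rw [ht, ← h3, mul_inv_cancel_right])
  have hu1 : u ≠ 1 := fun h => hu2 (by rw [h, one_pow])
  have hBN : B ≤ normalizer (A : Set G) := by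
    intro b hb
    have h1 := congrArg Subtype.val (hfix ⟨b, hb⟩)
    rw [ht] at h1
    have h2 : u * b * u⁻¹ = b := h1
    refine hnorm b u huA hu1 ?_
    calc b * u = (u * b * u⁻¹) * u := by rw [h2]
      _ = u * b := by group
  have hBti : ∀ h : G, B.map (MulAut.conj h).toMonoidHom = B ∨ B.map (MulAut.conj h).toMonoidHom ⊓ B = ⊥ := by
    intro h
    rcases hti (g⁻¹ * h * g) with h1 | h1
    · left
      ext x
      rw [mem_map_conj, hB, mem_map_conj, mem_map_conj]
      have h2 := congrArg (fun S : Subgroup G => g⁻¹ * x * g ∈ S) h1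
      simp only [eq_iff_iff, mem_map_conj] at h2
      rw [← h2]
      have h3 : g⁻¹ * (h⁻¹ * x * h) * g = (g⁻¹ * h * g)⁻¹ * (g⁻¹ * x * g) * (g⁻¹ * h * g) := by group
      rw [h3]
    · right
      rw [eq_bot_iff]
      intro x hx
      obtain ⟨hx1, hx2⟩ := mem_inf.mp hx
      rw [hB, mem_map_conj, mem_map_conj] at hx1
      rw [hB, mem_map_conj] at hx2
      have h2 : g⁻¹ * x * g ∈ A.map (MulAut.conj (g⁻¹ * h * g)).toMonoidHom ⊓ A := by
        refine mem_inf.mpr ⟨?_, hx2⟩
        rw [mem_map_conj]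
        have h3 : g⁻¹ * (h⁻¹ * x * h) * g = (g⁻¹ * h * g)⁻¹ * (g⁻¹ * x * g) * (g⁻¹ * h * g) := by group
        rw [← h3]; exact hx1
      rw [h1, mem_bot] at h2
      rw [mem_bot]
      calc x = g * (g⁻¹ * x * g) * g⁻¹ := by group
        _ = 1 := by rw [h2, mul_one, mul_inv_cancel]
  exact ti_commute hBti hBcard.ge hAB hBN

/-- S1755 -/
theorem unique_inv {C : Type*} [Group C] [Finite C] (B : Subgroup C) (h : IsCyclic B) {u v : C} (hu : u ∈ B)
    (hv : v ∈ B) (hu2 : orderOf u = 2) (hv2 : orderOf v = 2) : u = v := by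
  classical
  haveI := h
  haveI := Fintype.ofFinite B
  have hd : 2 ∣ Fintype.card B := by
    rw [← hu2, ← Nat.card_eq_fintype_card, ← orderOf_mk u hu]
    exact orderOf_dvd_natCard _
  have h1 := IsCyclic.card_orderOf_eq_totient (α := B) hd
  have h2 : (Finset.univ.filter fun a : B => orderOf a = 2).card = 1 := by rw [h1]; rfl
  obtain ⟨a, ha⟩ := Finset.card_eq_one.mp h2
  have h3 : (⟨u, hu⟩ : B) ∈ (Finset.univ.filter fun a : B => orderOf a = 2) := by
    rw [Finset.mem_filter]; exact ⟨Finset.mem_univ _, by rw [orderOf_mk]; exact hu2⟩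
  have h4 : (⟨v, hv⟩ : B) ∈ (Finset.univ.filter fun a : B => orderOf a = 2) := by
    rw [Finset.mem_filter]; exact ⟨Finset.mem_univ _, by rw [orderOf_mk]; exact hv2⟩
  rw [ha, Finset.mem_singleton] at h3 h4
  exact congrArg Subtype.val (h3.trans h4.symm)

theorem exists_pow_orderOf_two {x : G} (hx : x ≠ 1) (h : ∃ k : ℕ, x ^ 2 ^ k = 1) :
    ∃ j : ℕ, orderOf (x ^ 2 ^ j) = 2 := by
  obtain ⟨k, hk⟩ := (Nat.dvd_prime_pow Nat.prime_two).mp (orderOf_dvd_of_pow_eq_one h.choose_spec)
  have hk0 : k ≠ 0 := by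
    rintro rfl
    exact hx (orderOf_eq_one_iff.mp (by simpa using hk.2))
  obtain ⟨j, rfl⟩ := Nat.exists_eq_succ_of_ne_zero hk0
  refine ⟨j, ?_⟩
  rw [orderOf_pow' x (by positivity), hk.2, Nat.gcd_eq_right (pow_dvd_pow 2 (Nat.le_succ j)), Nat.pow_succ,
    Nat.mul_div_cancel_left _ (by positivity)]

/-- S1755 -/
theorem sympl_ti [Finite G] {z : G} (hz : orderOf z = 2) {C : Subgroup G} (hC : C = centralizer ({z} : Set G))
    {F : Subgroup C} (hFn : F.Normal) (hzC : z ∈ C) (hzF : (⟨z, hzC⟩ : C) ∈ F) (hQ : Cfsg.IsOfSymplecticType F)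
    (B : Subgroup F) (hBc : B.Characteristic) (hBa : IsMulCommutative B) (g : G) :
    ((B.map F.subtype).map C.subtype).map (MulAut.conj g).toMonoidHom = (B.map F.subtype).map C.subtype ∨
      ((B.map F.subtype).map C.subtype).map (MulAut.conj g).toMonoidHom ⊓ (B.map F.subtype).map C.subtype = ⊥ := by
  have hBn : (B.map F.subtype).Normal := by
    haveI := hFn
    haveI := hBc
    exact ConjAct.normal_of_characteristic_of_normal
  have hBcyc : IsCyclic B := hQ.2 B hBc hBa
  have hcz : ∀ f : C, (f : G) * z = z * f := fun f => mem_centralizer_singleton_iff.mp (hC ▸ f.2)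
  -- the unique involution of `B` is `z`
  have hu : ∀ u : F, u ∈ B → orderOf u = 2 → ((u : C) : G) = z := by
    intro u huB hu2
    have hcen : u ∈ center F := by
      rw [mem_center_iff]
      intro f
      have h1 : f * u * f⁻¹ ∈ B := by
        haveI := hBc
        exact (inferInstance : B.Normal).conj_mem u huB f
      have h2 : orderOf (f * u * f⁻¹) = 2 :=
        (orderOf_injective (MulAut.conj f).toMonoidHom (MulAut.conj f).injective u).trans hu2
      have h3 := unique_inv B hBcyc h1 huB h2 hu2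
      calc f * u = (f * u * f⁻¹) * f := by group
        _ = u * f := by rw [h3]
    have hzcen : (⟨⟨z, hzC⟩, hzF⟩ : F) ∈ center F := by
      rw [mem_center_iff]
      intro f
      apply Subtype.ext
      apply Subtype.ext
      exact hcz f.1
    have hzcyc : IsCyclic (center F) := hQ.2 (center F) inferInstance inferInstance
    have hz2 : orderOf (⟨⟨z, hzC⟩, hzF⟩ : F) = 2 := by
      rw [orderOf_mk, orderOf_mk, hz]
    have h4 := unique_inv (center F) hzcyc hcen hzcen hu2 hz2
    rw [h4]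
  -- a nontrivial element of `B` (in `G`) has a power equal to `z`
  have hpow : ∀ x ∈ (B.map F.subtype).map C.subtype, x ≠ 1 → ∃ j : ℕ, orderOf (x ^ 2 ^ j) = 2 ∧ x ^ 2 ^ j = z := by
    rintro x ⟨y, ⟨w, hw, rfl⟩, rfl⟩ hx1
    have hw1 : w ≠ 1 := fun h => hx1 (by rw [h]; rfl)
    obtain ⟨k, hk⟩ := hQ.1 w
    obtain ⟨j, hj⟩ := exists_pow_orderOf_two hw1 ⟨k, hk⟩
    have h1 := hu (w ^ 2 ^ j) (pow_mem hw _) hj
    refine ⟨j, ?_, ?_⟩
    · have h2 : (C.subtype (F.subtype w)) ^ 2 ^ j = z := h1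
      rw [h2, hz]
    · exact h1
  by_cases hcap : ((B.map F.subtype).map C.subtype).map (MulAut.conj g).toMonoidHom ⊓
      (B.map F.subtype).map C.subtype = ⊥
  · exact Or.inr hcap
  left
  obtain ⟨⟨x, hx⟩, hx1'⟩ := (Subgroup.ne_bot_iff_exists_ne_one.mp hcap)
  have hx1 : x ≠ 1 := fun h => hx1' (Subtype.ext h)
  obtain ⟨hx2, hx3⟩ := mem_inf.mp hx
  obtain ⟨y, hy, rfl⟩ := hx2
  have hy1 : y ≠ 1 := fun h => hx1 (by rw [h]; exact map_one _)
  obtain ⟨i, hi, hi'⟩ := hpow y hy hy1
  obtain ⟨j, hj, hj'⟩ := hpow _ hx3 hx1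
  have hgy : (MulAut.conj g).toMonoidHom y = g * y * g⁻¹ := rfl
  -- both powers agree
  have hord : orderOf ((MulAut.conj g).toMonoidHom y) = orderOf y :=
    orderOf_injective (MulAut.conj g).toMonoidHom (MulAut.conj g).injective y
  have hgz : g * z * g⁻¹ = z := by
    have h1 : ((MulAut.conj g).toMonoidHom y) ^ 2 ^ i = g * z * g⁻¹ := by
      rw [← map_pow, hi']; rfl
    have h2 : orderOf (((MulAut.conj g).toMonoidHom y) ^ 2 ^ i) = 2 := by
      rw [← map_pow]
      exact (orderOf_injective (MulAut.conj g).toMonoidHom (MulAut.conj g).injective _).trans hi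
    have h3 : i = j := by
      rw [orderOf_pow' _ (by positivity)] at hi hj
      rw [hord] at hj
      have key : ∀ a : ℕ, orderOf y / (orderOf y).gcd (2 ^ a) = 2 → orderOf y = 2 ^ (a + 1) := by
        intro a ha
        have hyp : ∃ n : ℕ, orderOf y = 2 ^ n := by
          obtain ⟨v, ⟨w, hw, rfl⟩, rfl⟩ := hy
          obtain ⟨k, hk⟩ := hQ.1 w
          obtain ⟨n, hn⟩ := (Nat.dvd_prime_pow Nat.prime_two).mp (orderOf_dvd_of_pow_eq_one hk)
          refine ⟨n, ?_⟩
          rw [← hn.2]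
          exact (orderOf_injective C.subtype (subtype_injective _) _).trans
            (orderOf_injective F.subtype (subtype_injective _) _)
        obtain ⟨n, hn⟩ := hyp
        rw [hn] at ha ⊢
        rcases le_or_gt n a with h | h
        · rw [Nat.gcd_eq_left (pow_dvd_pow 2 h), Nat.div_self (by positivity)] at ha
          norm_num at ha
        · rw [Nat.gcd_eq_right (pow_dvd_pow 2 h.le), Nat.pow_div h.le (by norm_num)] at ha
          have h5 : n - a = 1 := Nat.pow_right_injective le_rfl (by simpa using ha)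
          congr 1
          omega
      have h6 := (key i hi).symm.trans (key j hj)
      have := Nat.pow_right_injective le_rfl h6
      omega
    rw [← h1, h3, hj']
  have hgC : g ∈ C := by
    rw [hC, mem_centralizer_singleton_iff]
    calc g * z = (g * z * g⁻¹) * g := by group
      _ = z * g := by rw [hgz]
  apply map_eq_of_mem_normalizer
  have h8 : (⟨g, hgC⟩ : C) ∈ normalizer ((B.map F.subtype : Subgroup C) : Set C) := by
    rw [normalizer_eq_top]; trivial
  exact (le_normalizer_map C.subtype) ⟨⟨g, hgC⟩, h8, rfl⟩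

end Cfsg.Agent.Lib.TiSub
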