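import Mathlib
import Cfsg.Prelude.Def_Local
import Cfsg.Agent.Lib.Basic
import Cfsg.Agent.Lib.Nilp
import Cfsg.Agent.Lib.ExSp
import Cfsg.Agent.Lib.TiSub

/-!
# Centralizers in extraspecial groups

* `card_le_aux`, `card_mul_card` : `|U| |C(U)| = |E| p` for `z ∈ U`
* `double_centralizer`
-/

open Subgroup
open scoped commutatorElement Pointwise

namespace Cfsg.Agent.Lib.ExSpC

open Cfsg.Agent.Lib.ExSp

variable {E : Type*} [Group E] {p : ℕ} {z : E}

/-- the centralizer of an element has index at most `p` in any subgroup -/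
theorem relIndex_centralizer_le [Finite E] [hp : Fact p.Prime] (D : Dat p z) (A : Subgroup E) (u : E) :
    (centralizer ({u} : Set E)).relIndex A ≤ p := by
  -- the map `a ↦ [a, u]` from `A` to `⟨z⟩`
  let f : A →* zpowers z := (((D.homL u).comp A.subtype).codRestrict (zpowers z) (fun a => D.comm a u))
  have hker : f.ker = (centralizer ({u} : Set E)).subgroupOf A := by
    ext a
    rw [MonoidHom.mem_ker, mem_subgroupOf, mem_centralizer_singleton_iff]
    rw [← commutatorElement_eq_one_iff_mul_comm]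
    constructor
    · intro h; exact congrArg Subtype.val h
    · intro h; exact Subtype.ext h
  have h1 : (centralizer ({u} : Set E)).relIndex A = Nat.card f.range := by
    rw [relIndex, ← hker, index_ker]
  rw [h1]
  calc Nat.card f.range ≤ Nat.card (zpowers z) := Subgroup.card_le_card_group _
    _ = p := by rw [Nat.card_zpowers, D.ord]

theorem relIndex_le [Finite E] [hp : Fact p.Prime] (D : Dat p z) (A : Subgroup E) (n : ℕ) :
    ∀ U : Subgroup E, Nat.card U ≤ n →
      (centralizer (U : Set E)).relIndex A ≤ (centralizer (A : Set E)).relIndex U := by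
  induction n with
  | zero => intro U h; exact absurd (Nat.le_zero.mp h) Nat.card_pos.ne'
  | succ n ih =>
    intro U hU
    by_cases hUA : U ≤ centralizer (A : Set E)
    · have h1 : A ≤ centralizer (U : Set E) := le_centralizer_iff.mp hUA
      rw [relIndex_eq_one.mpr h1, relIndex_eq_one.mpr hUA]
    · obtain ⟨u, hu, huA⟩ := SetLike.not_le_iff_exists.mp hUA
      rw [mem_centralizer_iff] at huA
      push Not at huA
      obtain ⟨a, ha, hau⟩ := huA
      let f : U →* zpowers z := (((D.homL a).comp U.subtype).codRestrict (zpowers z) (fun b => D.comm b a))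
      set V : Subgroup E := U ⊓ centralizer ({a} : Set E) with hV
      have hker : f.ker = V.subgroupOf U := by
        ext b
        rw [MonoidHom.mem_ker, mem_subgroupOf]
        constructor
        · intro h
          refine mem_inf.mpr ⟨b.2, ?_⟩
          rw [mem_centralizer_singleton_iff, ← commutatorElement_eq_one_iff_mul_comm]
          exact congrArg Subtype.val h
        · intro h
          have h2 := (mem_inf.mp h).2
          rw [mem_centralizer_singleton_iff, ← commutatorElement_eq_one_iff_mul_comm] at h2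
          exact Subtype.ext h2
      have hVU : V ≤ U := inf_le_left
      have hidx : V.relIndex U = p := by
        have h1 : V.relIndex U = Nat.card f.range := by rw [relIndex, ← hker, index_ker]
        have h2 : Nat.card f.range ∣ p := by
          have := Subgroup.card_subgroup_dvd_card f.range
          rwa [Nat.card_zpowers, D.ord] at this
        rcases (Nat.dvd_prime hp.out).mp h2 with h | h
        · exfalso
          have h3 : V.relIndex U = 1 := by rw [h1, h]
          rw [relIndex_eq_one] at h3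
          have h4 := (mem_inf.mp (h3 hu)).2
          rw [mem_centralizer_singleton_iff] at h4
          exact hau h4.symm
        · rw [h1, h]
      have huV : u ∉ V := fun h => hau (mem_centralizer_singleton_iff.mp (mem_inf.mp h).2).symm
      have hlt : Nat.card V < Nat.card U := by
        apply Cfsg.Agent.Lib.Basic.card_lt_card_of_lt
        exact lt_of_le_of_ne hVU (fun h => huV (h ▸ hu))
      have hsup : V ⊔ zpowers u = U := by
        have h1 : V ⊔ zpowers u ≤ U := sup_le hVU (by rw [zpowers_le]; exact hu)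
        have h2 := relIndex_mul_relIndex V (V ⊔ zpowers u) U le_sup_left h1
        rw [hidx] at h2
        have h3 : V.relIndex (V ⊔ zpowers u) ≠ 1 := by
          intro h
          rw [relIndex_eq_one] at h
          exact huV (h (mem_sup_right (mem_zpowers u)))
        have h4 : (V ⊔ zpowers u).relIndex U = 1 := by
          have h5 : V.relIndex (V ⊔ zpowers u) ∣ p := ⟨_, h2.symm⟩
          rcases (Nat.dvd_prime hp.out).mp h5 with h | h
          · exact absurd h h3
          · rw [h] at h2
            exact Nat.eq_of_mul_eq_mul_left hp.out.pos (by rw [h2, mul_one])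
        exact le_antisymm h1 (relIndex_eq_one.mp h4)
      have hcen : centralizer (U : Set E) = centralizer (V : Set E) ⊓ centralizer ({u} : Set E) := by
        apply le_antisymm
        · refine le_inf (centralizer_le hVU) ?_
          exact centralizer_le (Set.singleton_subset_iff.mpr hu)
        · have h1 : U ≤ centralizer ((centralizer (V : Set E) ⊓ centralizer ({u} : Set E) : Subgroup E) : Set E) := by
            rw [← hsup]
            refine sup_le ?_ ?_
            · rw [← le_centralizer_iff]; exact inf_le_left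
            · rw [zpowers_le, mem_centralizer_iff]
              intro c hc
              exact mem_centralizer_singleton_iff.mp (mem_inf.mp hc).2
          exact le_centralizer_iff.mp h1
      calc (centralizer (U : Set E)).relIndex A
          ≤ (centralizer (V : Set E)).relIndex A * (centralizer ({u} : Set E)).relIndex A := by
            rw [hcen]; exact relIndex_inf_le
        _ ≤ (centralizer (A : Set E)).relIndex V * p :=
            Nat.mul_le_mul (ih V (by omega)) (relIndex_centralizer_le D A u)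
        _ = (centralizer (A : Set E)).relIndex U := by
            have h1 : (centralizer (A : Set E) ⊓ U).relIndex U = (centralizer (A : Set E)).relIndex U :=
              inf_relIndex_right _ _
            have h2 : centralizer (A : Set E) ⊓ U ≤ V := by
              refine le_inf inf_le_right (inf_le_left.trans ?_)
              exact centralizer_le (Set.singleton_subset_iff.mpr ha)
            have h3 := relIndex_mul_relIndex _ V U h2 hVU
            rw [hidx, h1] at h3
            rw [← h3]
            congr 1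
            have h4 : (centralizer (A : Set E) ⊓ U) ⊓ V = centralizer (A : Set E) ⊓ V := by
              rw [inf_assoc, inf_eq_right.mpr hVU]
            rw [← inf_relIndex_right (centralizer (A : Set E)) V, ← h4, inf_relIndex_right]

theorem relIndex_eq [Finite E] [hp : Fact p.Prime] (D : Dat p z) (A U : Subgroup E) :
    (centralizer (U : Set E)).relIndex A = (centralizer (A : Set E)).relIndex U :=
  le_antisymm (relIndex_le D A _ U le_rfl) (relIndex_le D U _ A le_rfl)

theorem center_eq (D : Dat p z) : center E = zpowers z := by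
  apply le_antisymm
  · intro x hx
    exact D.cen x (fun y => ((mem_center_iff.mp hx) y).symm)
  · rw [zpowers_le, mem_center_iff]
    exact D.zc

theorem card_mul_card [Finite E] [hp : Fact p.Prime] (D : Dat p z) {U : Subgroup E} (hz : z ∈ U) :
    (centralizer (U : Set E)).index * p = Nat.card U := by
  have h1 := relIndex_eq D ⊤ U
  rw [relIndex_top_right, coe_top, centralizer_univ, center_eq D] at h1
  rw [h1, ← D.ord, ← Nat.card_zpowers, mul_comm]
  exact Cfsg.Agent.Lib.Basic.card_mul_relIndex (by rw [zpowers_le]; exact hz)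

theorem double_centralizer [Finite E] [hp : Fact p.Prime] (D : Dat p z) {U : Subgroup E} (hz : z ∈ U) :
    centralizer ((centralizer (U : Set E) : Subgroup E) : Set E) = U := by
  have hle : U ≤ centralizer ((centralizer (U : Set E) : Subgroup E) : Set E) := le_centralizer_iff.mp le_rfl
  have h1 := card_mul_card D hz
  have h2 := card_mul_card D (hle hz)
  have h3 : centralizer ((centralizer ((centralizer (U : Set E) : Subgroup E) : Set E) : Subgroup E) : Set E) =
      centralizer (U : Set E) :=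
    le_antisymm (centralizer_le hle) (le_centralizer_iff.mp le_rfl)
  rw [h3, h1] at h2
  exact (eq_of_le_of_card_ge hle h2.ge).symm

/-- transport of `Dat` along an isomorphism -/
theorem dat_map {E' : Type*} [Group E'] (D : Dat p z) (e : E ≃* E') : Dat p (e z) := by
  have hz : ∀ x : E, x ∈ zpowers z → e x ∈ zpowers (e z) := by
    intro x hx
    obtain ⟨n, rfl⟩ := mem_zpowers_iff.mp hx
    exact mem_zpowers_iff.mpr ⟨n, by rw [map_zpow]⟩
  refine ⟨?_, ?_, ?_, ?_⟩
  · exact (orderOf_injective e.toMonoidHom e.injective z).trans D.ord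
  · intro x
    obtain ⟨y, rfl⟩ := e.surjective x
    rw [← map_mul, D.zc, map_mul]
  · intro x y
    obtain ⟨x, rfl⟩ := e.surjective x
    obtain ⟨y, rfl⟩ := e.surjective y
    have : ⁅e x, e y⁆ = e ⁅x, y⁆ := by simp only [commutatorElement_def, map_mul, map_inv]
    rw [this]
    exact hz _ (D.comm x y)
  · intro x hx
    obtain ⟨x, rfl⟩ := e.surjective x
    refine hz _ (D.cen x (fun y => e.injective ?_))
    rw [map_mul, map_mul]
    exact hx (e y)

/-- S1756: an automorphism of order two fixing a subgroup of index at most two moves elements by central elements. -/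
theorem central_of_index_two [Finite E] {z : E} (D : Dat 2 z) (φ : MulAut E) (h2 : ∀ x, φ (φ x) = x) (H : Subgroup E)
    (hH : ∀ x ∈ H, φ x = x) (hi : H.index ≤ 2) : ∀ x : E, φ x * x⁻¹ ∈ center E := by
  have hi0 : H.index ≠ 0 := index_ne_zero_of_finite
  have h12 : H.index = 1 ∨ H.index = 2 := by omega
  rcases h12 with h | h
  · rw [index_eq_one] at h
    intro x
    rw [hH x (by rw [h]; trivial), mul_inv_cancel]
    exact one_mem _
  · intro x
    by_cases hx : x ∈ H
    · rw [hH x hx, mul_inv_cancel]; exact one_mem _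
    have hHn : H.Normal := normal_of_index_eq_two h
    have hzc : center E = zpowers z := center_eq D
    have hz2 : z ^ 2 = 1 := by rw [← D.ord, pow_orderOf_eq_one]
    have hz1 : z ≠ 1 := fun h => by have := D.ord; rw [h, orderOf_one] at this; norm_num at this
    have hφz : φ z = z := by
      have h3 : φ z ∈ center E := by
        rw [mem_center_iff]
        intro y
        obtain ⟨y, rfl⟩ := φ.surjective y
        rw [← map_mul, ← map_mul, D.zc]
      rw [hzc] at h3
      obtain ⟨n, hn⟩ := mem_zpowers_iff.mp h3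
      rcases Int.even_or_odd' n with ⟨m, hm | hm⟩
      · exfalso
        rw [hm, zpow_mul, zpow_ofNat, hz2, one_zpow, ← map_one φ] at hn
        exact hz1 (φ.injective hn).symm
      · rw [hm, zpow_add, zpow_mul, zpow_ofNat, hz2, one_zpow, one_mul, zpow_one] at hn
        exact hn.symm
    have hφc : ∀ c ∈ center E, φ c = c := by
      intro c hc
      rw [hzc] at hc
      obtain ⟨n, rfl⟩ := mem_zpowers_iff.mp hc
      rw [map_zpow, hφz]
    set c := x⁻¹ * φ x with hc
    have hxc : φ x = x * c := by rw [hc, mul_inv_cancel_left]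
    have hcH : ∀ k ∈ H, c * k = k * c := by
      intro k hk
      have h3 : φ (x * k * x⁻¹) = x * k * x⁻¹ := hH _ (hHn.conj_mem k hk x)
      rw [map_mul, map_mul, map_inv, hH k hk, hxc] at h3
      calc c * k = x⁻¹ * (x * c * k * (x * c)⁻¹) * x * c := by group
        _ = k * c := by rw [h3]; group
    have key : ∀ d : E, (∀ k ∈ H, d * k = k * d) → ∀ y : E, y ∉ H → d * y = y * d → d ∈ center E := by
      intro d hd y hy hdy
      rw [mem_center_iff]
      intro w
      by_cases hw : w ∈ H
      · exact (hd w hw).symm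
      · have h3 : w * y⁻¹ ∈ H := by
          rw [mul_mem_iff_of_index_two h]
          exact ⟨fun h => absurd h hw, fun h => absurd (inv_mem_iff.mp h) hy⟩
        calc w * d = (w * y⁻¹) * (y * d) := by group
          _ = (w * y⁻¹) * d * y := by rw [← hdy]; group
          _ = d * w := by rw [← hd _ h3]; group
    have hcc : φ c = c := by
      by_cases hcH' : c ∈ H
      · exact hH c hcH'
      · exact hφc c (key c hcH c hcH' rfl)
    have hc2 : c * c = 1 := by
      have h3 := h2 x
      rw [hxc, map_mul, hcc, hxc, mul_assoc] at h3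
      exact mul_eq_left.mp h3
    have hx2 : φ (x ^ 2) = x ^ 2 := hφc _ (by rw [hzc]; exact D.pow_mem x)
    have hxcx : c * x = x * c := by
      rw [map_pow, hxc, pow_two, pow_two] at hx2
      have h3 : c * x * c = x := by
        have h4 : x * (c * x * c) = x * x := by rw [← hx2]; group
        exact mul_left_cancel h4
      calc c * x = (c * x * c) * c := by rw [mul_assoc (c * x), hc2, mul_one]
        _ = x * c := by rw [h3]
    have h5 : c ∈ center E := key c hcH x hx hxcx
    have h6 : φ x * x⁻¹ = c := by rw [hxc, ← hxcx, mul_inv_cancel_right]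
    rw [h6]; exact h5

/-- S1784 (a), inside the extraspecial group -/
theorem comm_eq_center [Finite E] {z : E} (D : Dat 2 z) (φ : MulAut E) (h2 : ∀ x, φ (φ x) = x)
    (hne : ∃ x, φ x * x⁻¹ ∉ zpowers z) (Q₀ : Subgroup E) (hQ₀ : ∀ x, x ∈ Q₀ ↔ φ x * x⁻¹ ∈ zpowers z) :
    closure (Set.range fun x : E => φ x * x⁻¹) = (center Q₀).map Q₀.subtype := by
  haveI : Fact (Nat.Prime 2) := ⟨Nat.prime_two⟩
  set U : Subgroup E := closure (Set.range fun x : E => φ x * x⁻¹) with hU
  have hz2 : z ^ 2 = 1 := by rw [← D.ord, pow_orderOf_eq_one]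
  have hgen : ∀ x : E, φ x * x⁻¹ ∈ U := fun x => Subgroup.subset_closure ⟨x, rfl⟩
  have hφz : ∀ c ∈ zpowers z, φ c = c := by
    have h3 : φ z ∈ zpowers z := by
      rw [← center_eq D, mem_center_iff]
      intro y
      obtain ⟨y, rfl⟩ := φ.surjective y
      rw [← map_mul, ← map_mul, D.zc]
    have h4 : φ z = z := by
      obtain ⟨n, hn⟩ := mem_zpowers_iff.mp h3
      rcases Int.even_or_odd' n with ⟨m, hm | hm⟩
      · exfalso
        rw [hm, zpow_mul, zpow_ofNat, hz2, one_zpow, ← map_one φ] at hn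
        have h5 := D.ord
        rw [← φ.injective hn, orderOf_one] at h5
        norm_num at h5
      · rw [hm, zpow_add, zpow_mul, zpow_ofNat, hz2, one_zpow, one_mul, zpow_one] at hn
        exact hn.symm
    intro c hc
    obtain ⟨n, rfl⟩ := mem_zpowers_iff.mp hc
    rw [map_zpow, h4]
  -- elements of `⟨z⟩`
  have hcz : ∀ c ∈ zpowers z, c ≠ 1 → c = z := by
    intro c hc hc1
    obtain ⟨n, rfl⟩ := mem_zpowers_iff.mp hc
    rcases Int.even_or_odd' n with ⟨m, hm | hm⟩
    · exfalso; apply hc1; rw [hm, zpow_mul, zpow_ofNat, hz2, one_zpow]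
    · rw [hm, zpow_add, zpow_mul, zpow_ofNat, hz2, one_zpow, one_mul, zpow_one]
  have hnorm : ∀ x y : E, x * (φ y * y⁻¹) * x⁻¹ ∈ U := by
    intro x y
    have h3 : x * (φ y * y⁻¹) * x⁻¹ = (φ x * x⁻¹)⁻¹ * (φ (x * y) * (x * y)⁻¹) := by
      rw [map_mul]; group
    rw [h3]
    exact mul_mem (inv_mem (hgen x)) (hgen _)
  have hzU : z ∈ U := by
    obtain ⟨x, hx⟩ := hne
    have h3 : ¬ ∀ y : E, (φ x * x⁻¹) * y = y * (φ x * x⁻¹) := fun h => hx (D.cen _ h)
    push Not at h3
    obtain ⟨y, hy⟩ := h3
    have h4 : ⁅y, φ x * x⁻¹⁆ ≠ 1 := by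
      intro h
      exact hy (commutatorElement_eq_one_iff_mul_comm.mp h).symm
    rw [← hcz _ (D.comm y (φ x * x⁻¹)) h4, commutatorElement_def]
    exact mul_mem (hnorm y x) (inv_mem (hgen x))
  have hpair : ∀ p q : E, ⁅φ p * p⁻¹, q⁆ = ⁅p, φ q * q⁻¹⁆ := by
    intro p q
    have h3 : ⁅φ p, q⁆ = ⁅p, φ q⁆ := by
      have h4 : φ ⁅φ p, q⁆ = ⁅p, φ q⁆ := by
        rw [commutatorElement_def, commutatorElement_def]
        simp only [map_mul, map_inv, h2]
      rw [← h4, hφz _ (D.comm _ _)]
    have hinvl : ⁅p⁻¹, q⁆ = ⁅p, q⁆⁻¹ := by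
      have := D.zpow_left p q (-1)
      rwa [zpow_neg_one, zpow_neg_one] at this
    have hinvr : ⁅p, q⁻¹⁆ = ⁅p, q⁆⁻¹ := by
      have := D.zpow_right p q (-1)
      rwa [zpow_neg_one, zpow_neg_one] at this
    rw [D.mul_left, D.mul_right, h3, hinvl, hinvr]
  have hcen : centralizer (U : Set E) = Q₀ := by
    ext q
    rw [hQ₀]
    constructor
    · intro hq
      apply D.cen
      intro p
      have h3 : (φ p * p⁻¹) * q = q * (φ p * p⁻¹) := mem_centralizer_iff.mp hq _ (hgen p)
      have h4 := hpair p q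
      rw [commutatorElement_eq_one_iff_mul_comm.mpr h3] at h4
      exact (commutatorElement_eq_one_iff_mul_comm.mp h4.symm).symm
    · intro hq
      have h3 : U ≤ centralizer ({q} : Set E) := by
        rw [hU, Subgroup.closure_le]
        rintro _ ⟨p, rfl⟩
        change φ p * p⁻¹ ∈ centralizer ({q} : Set E)
        rw [mem_centralizer_singleton_iff, ← commutatorElement_eq_one_iff_mul_comm, hpair,
          commutatorElement_eq_one_iff_mul_comm]
        exact (D.cc hq p).eq
      rw [mem_centralizer_iff]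
      intro u hu
      exact mem_centralizer_singleton_iff.mp (h3 hu)
  have hUQ : U ≤ Q₀ := by
    rw [hU, Subgroup.closure_le]
    rintro _ ⟨p, rfl⟩
    change φ p * p⁻¹ ∈ Q₀
    rw [hQ₀, map_mul, map_inv, h2]
    have h3 : p * (φ p)⁻¹ * (φ p * p⁻¹)⁻¹ = ((φ p * p⁻¹) ^ 2)⁻¹ := by rw [pow_two]; group
    rw [h3]
    exact inv_mem (D.pow_mem _)
  have hdd := double_centralizer D hzU
  rw [hcen] at hdd
  apply le_antisymm
  · intro u hu
    refine ⟨⟨u, hUQ hu⟩, ?_, rfl⟩
    rw [SetLike.mem_coe, mem_center_iff]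
    intro q
    have h3 : (q : E) ∈ centralizer (U : Set E) := by rw [hcen]; exact q.2
    exact Subtype.ext (mem_centralizer_iff.mp h3 u hu).symm
  · rintro _ ⟨q, hq, rfl⟩
    change (q : E) ∈ U
    rw [← hdd, mem_centralizer_iff]
    intro r hr
    exact congrArg Subtype.val ((mem_center_iff.mp hq) ⟨r, hr⟩)

/-- S5395 for `Dat` -/
theorem inner_of_central [Finite E] {z : E} (D : Dat 2 z) (φ : E ≃* E) (hφ : ∀ x : E, φ x * x⁻¹ ∈ center E) :
    ∃ g : E, ∀ x : E, φ x = g * x * g⁻¹ := by
  classical
  haveI : Fact (Nat.Prime 2) := ⟨Nat.prime_two⟩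
  have hcz : ∀ c : E, c ∈ center E → c = 1 ∨ c = z := by
    intro c hc
    have h1 : c ∈ zpowers z := D.cen c (fun y => ((mem_center_iff.mp hc) y).symm)
    obtain ⟨n, rfl⟩ := mem_zpowers_iff.mp h1
    have h2 : z ^ 2 = 1 := by rw [← D.ord, pow_orderOf_eq_one]
    rcases Int.even_or_odd' n with ⟨m, hm | hm⟩
    · left; rw [hm, zpow_mul, zpow_ofNat, h2, one_zpow]
    · right; rw [hm, zpow_add, zpow_mul, zpow_ofNat, h2, one_zpow, one_mul, zpow_one]
  have hz1 : z ≠ 1 := fun h => by have := D.ord; rw [h, orderOf_one] at this; norm_num at this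
  by_cases hid : ∀ x : E, φ x = x
  · exact ⟨1, fun x => by rw [hid x]; group⟩
  let H : Subgroup E := 
    { carrier := {x | φ x = x}
      one_mem' := map_one φ
      mul_mem' := fun {a b} ha hb => by
        change φ (a * b) = a * b
        rw [map_mul, show φ a = a from ha, show φ b = b from hb]
      inv_mem' := fun {a} ha => by
        change φ a⁻¹ = a⁻¹
        rw [map_inv, show φ a = a from ha] }
  have hmul : ∀ x y : E, φ (x * y) * (x * y)⁻¹ = (φ x * x⁻¹) * (φ y * y⁻¹) := by
    intro x y
    have h1 := mem_center_iff.mp (hφ y) (φ x)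
    calc φ (x * y) * (x * y)⁻¹ = (φ x * (φ y * y⁻¹)) * x⁻¹ := by rw [map_mul]; group
      _ = (φ y * y⁻¹) * (φ x * x⁻¹) := by rw [h1]; group
      _ = (φ x * x⁻¹) * (φ y * y⁻¹) := (mem_center_iff.mp (hφ y) _).symm
  have hHm : ∀ x, x ∈ H ↔ φ x * x⁻¹ = 1 := fun x => by
    rw [mul_inv_eq_one]; exact Iff.rfl
  have hout : ∀ x, x ∉ H → φ x * x⁻¹ = z := fun x hx =>
    (hcz _ (hφ x)).resolve_left (fun h => hx ((hHm x).mpr h))
  have hzz : z * z = 1 := by rw [← pow_two, ← D.ord, pow_orderOf_eq_one]
  push Not at hid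
  obtain ⟨a, ha⟩ := hid
  have haH : a ∉ H := ha
  have hidx : H.index = 2 := by
    rw [index_eq_two_iff]
    refine ⟨a, fun b => ?_⟩
    by_cases hb : b ∈ H
    · right
      refine ⟨hb, fun h => haH ?_⟩
      rw [hHm] at h hb ⊢
      rw [hmul, hb, one_mul] at h
      exact h
    · left
      refine ⟨?_, hb⟩
      rw [hHm, hmul, hout b hb, hout a haH, hzz]
  have hzH : z ∈ H := by
    rw [hHm]
    rcases hcz _ (hφ z) with h | h
    · exact h
    · exfalso
      have : φ z = 1 := by
        calc φ z = (φ z * z⁻¹) * z := by group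
          _ = 1 := by rw [h, hzz]
      exact hz1 (by rw [← map_one φ] at this; exact φ.injective this)
  have hw : ∃ w ∈ H, (∀ y ∈ H, w * y = y * w) ∧ w ∉ zpowers z := by
    by_contra hcon
    push Not at hcon
    have DH : Dat 2 (⟨z, hzH⟩ : H) := by
      have hz' : ∀ c : H, (c : E) ∈ zpowers z → c ∈ zpowers (⟨z, hzH⟩ : H) := by
        intro c hc
        obtain ⟨n, hn⟩ := mem_zpowers_iff.mp hc
        exact mem_zpowers_iff.mpr ⟨n, Subtype.ext (by simpa using hn)⟩
      refine ⟨by rw [orderOf_mk]; exact D.ord, fun x => Subtype.ext (D.zc x), fun x y => hz' _ ?_, fun x hx => hz' _ ?_⟩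
      · exact D.comm x y
      · exact hcon x x.2 (fun y hy => congrArg Subtype.val (hx ⟨y, hy⟩))
    obtain ⟨m, hm⟩ := card_odd (Nat.card E) E z D le_rfl
    obtain ⟨n, hn⟩ := card_odd (Nat.card H) H _ DH le_rfl
    have h1 := H.card_mul_index
    rw [hidx, hm, hn, ← pow_succ] at h1
    have := Nat.pow_right_injective le_rfl h1
    omega
  obtain ⟨w, hwH, hwc, hwz⟩ := hw
  refine ⟨w, fun x => ?_⟩
  have hwx : ⁅w, x⁆ = φ x * x⁻¹ := by
    by_cases hx : x ∈ H
    · rw [(hHm x).mp hx, commutatorElement_eq_one_iff_mul_comm]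
      exact hwc x hx
    · rw [hout x hx]
      have h1 : ⁅w, x⁆ ∈ center E := by
        rw [mem_center_iff]; intro y; exact (D.comm_c w x y).eq
      rcases hcz _ h1 with h | h
      · exfalso
        apply hwz
        apply D.cen
        intro y
        by_cases hy : y ∈ H
        · exact hwc y hy
        · have h2 : y * x⁻¹ ∈ H := by
            rw [mul_mem_iff_of_index_two hidx]
            exact ⟨fun h => absurd h hy, fun h => absurd (inv_mem_iff.mp h) hx⟩
          have h3 : w * x = x * w := commutatorElement_eq_one_iff_mul_comm.mp h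
          calc w * y = (w * (y * x⁻¹)) * x := by group
            _ = (y * x⁻¹) * (w * x) := by rw [hwc _ h2, mul_assoc]
            _ = y * w := by rw [h3]; group
      · exact h
  calc φ x = (φ x * x⁻¹) * x := by group
    _ = ⁅w, x⁆ * x := by rw [hwx]
    _ = w * x * w⁻¹ := by rw [commutatorElement_def]; group

/-- S1784 -/
theorem comm_main {G : Type*} [Group G] [Finite G] {z : G} (hz : orderOf z = 2) {C : Subgroup G}
    (hC : C = centralizer ({z} : Set G)) {F : Subgroup C} (hFn : F.Normal)
    (hcF : centralizer (F : Set C) ≤ F) (hE : Cfsg.IsExtraspecial 2 F)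
    (α : G) (hα : orderOf α = 2) (hαC : α ∈ C) (hαQ : α ∉ F.map C.subtype) (Q₀ : Subgroup G)
    (hQ₀ : ∀ q : G, q ∈ Q₀ ↔ (q ∈ F.map C.subtype ∧ α * q * α⁻¹ * q⁻¹ ∈ zpowers z)) :
    closure ((fun q : G => α * q * α⁻¹ * q⁻¹) '' (F.map C.subtype : Set G)) = (center Q₀).map Q₀.subtype ∧
      (¬ Q₀ ≤ (F.map C.subtype ⊓ centralizer ({α} : Set G)) ⊔ zpowers z →
        ∃ q ∈ F.map C.subtype, q * α * q⁻¹ = α * z) := by
  haveI : Fact (Nat.Prime 2) := ⟨Nat.prime_two⟩
  obtain ⟨w, D⟩ := dat_of hE
  have hzC : z ∈ C := by rw [hC, mem_centralizer_singleton_iff]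
  have hcz : ∀ f : C, (f : G) * z = z * f := fun f => mem_centralizer_singleton_iff.mp (hC ▸ f.2)
  have hzF : (⟨z, hzC⟩ : C) ∈ F := by
    apply hcF
    rw [mem_centralizer_iff]
    intro f _
    exact Subtype.ext (hcz f)
  set Q : Subgroup G := F.map C.subtype with hQdef
  let e : F ≃* Q := F.equivMapOfInjective C.subtype (subtype_injective _)
  have he : ∀ f : F, ((e f : Q) : G) = ((f : C) : G) := fun f => rfl
  have hzQ : z ∈ Q := ⟨⟨z, hzC⟩, hzF, rfl⟩
  have hw : e w = ⟨z, hzQ⟩ := by
    have D1 := dat_map D e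
    have h1 : (⟨z, hzQ⟩ : Q) ∈ zpowers (e w) := by
      apply D1.cen
      intro y
      obtain ⟨f, rfl⟩ := e.surjective y
      exact Subtype.ext (hcz f.1).symm
    obtain ⟨n, hn⟩ := mem_zpowers_iff.mp h1
    have hz2 : (e w) ^ 2 = 1 := by rw [← D1.ord, pow_orderOf_eq_one]
    rcases Int.even_or_odd' n with ⟨m, hm | hm⟩
    · exfalso
      rw [hm, zpow_mul, zpow_ofNat, hz2, one_zpow] at hn
      have h3 : z = 1 := (congrArg Subtype.val hn).symm
      rw [h3, orderOf_one] at hz
      norm_num at hz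
    · rw [hm, zpow_add, zpow_mul, zpow_ofNat, hz2, one_zpow, one_mul, zpow_one] at hn
      exact hn
  have D1 : Dat 2 (⟨z, hzQ⟩ : Q) := hw ▸ dat_map D e
  have hαα : α * α = 1 := by rw [← pow_two, ← hα, pow_orderOf_eq_one]
  have hαN : α ∈ normalizer (Q : Set G) := by
    have h8 : (⟨α, hαC⟩ : C) ∈ normalizer (F : Set C) := by
      rw [normalizer_eq_top]; trivial
    exact (le_normalizer_map C.subtype) ⟨⟨α, hαC⟩, h8, rfl⟩
  let φ : MulAut Q := Q.normalizerMonoidHom ⟨α, hαN⟩
  have hφ : ∀ b : Q, ((φ b : Q) : G) = α * b * α⁻¹ := fun b => rfl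
  have h2 : ∀ b : Q, φ (φ b) = b := by
    intro b
    apply Subtype.ext
    rw [hφ, hφ]
    calc α * (α * b * α⁻¹) * α⁻¹ = (α * α) * b * (α * α)⁻¹ := by group
      _ = b := by rw [hαα]; group
  have hzp : ∀ b : Q, b ∈ zpowers (⟨z, hzQ⟩ : Q) ↔ (b : G) ∈ zpowers z := by
    intro b
    constructor
    · intro hb
      obtain ⟨n, rfl⟩ := mem_zpowers_iff.mp hb
      exact mem_zpowers_iff.mpr ⟨n, rfl⟩
    · intro hb
      obtain ⟨n, hn⟩ := mem_zpowers_iff.mp hb
      exact mem_zpowers_iff.mpr ⟨n, Subtype.ext hn⟩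
  have hne : ∃ x : Q, φ x * x⁻¹ ∉ zpowers (⟨z, hzQ⟩ : Q) := by
    by_contra hcon
    push Not at hcon
    obtain ⟨g, hg⟩ := inner_of_central D1 φ (fun x => by rw [center_eq D1]; exact hcon x)
    apply hαQ
    have hgC : (g : G) ∈ C := by
      obtain ⟨f, _, hf⟩ := g.2
      rw [← hf]; exact f.2
    have hgF : (⟨g, hgC⟩ : C) ∈ F := by
      obtain ⟨f, hf1, hf⟩ := g.2
      have : (⟨g, hgC⟩ : C) = f := Subtype.ext hf.symm
      rw [this]; exact hf1
    have h3 : (⟨g, hgC⟩ : C)⁻¹ * ⟨α, hαC⟩ ∈ F := by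
      apply hcF
      rw [mem_centralizer_iff]
      intro q hq
      have h4 := congrArg Subtype.val (hg ⟨q, ⟨q, hq, rfl⟩⟩)
      rw [hφ] at h4
      have h5 : α * (q : G) * α⁻¹ = g * (q : G) * (g : G)⁻¹ := h4
      apply Subtype.ext
      change (q : G) * ((g : G)⁻¹ * α) = (g : G)⁻¹ * α * q
      calc (q : G) * ((g : G)⁻¹ * α) = (g : G)⁻¹ * (g * q * (g : G)⁻¹) * α := by group
        _ = (g : G)⁻¹ * α * q := by rw [← h5]; group
    have h4 : (⟨α, hαC⟩ : C) = ⟨g, hgC⟩ * ((⟨g, hgC⟩ : C)⁻¹ * ⟨α, hαC⟩) := by group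
    exact ⟨⟨α, hαC⟩, by rw [h4]; exact mul_mem hgF h3, rfl⟩
  have hQ₀Q : Q₀ ≤ Q := fun q hq => ((hQ₀ q).mp hq).1
  have hmain := comm_eq_center D1 φ h2 hne (Q₀.subgroupOf Q) (by
    intro x
    rw [mem_subgroupOf, hQ₀, hzp]
    exact ⟨fun h => h.2, fun h => ⟨x.2, h⟩⟩)
  refine ⟨?_, ?_⟩
  · have h3 : closure ((fun q : G => α * q * α⁻¹ * q⁻¹) '' (Q : Set G)) =
        (closure (Set.range fun x : Q => φ x * x⁻¹)).map Q.subtype := by
      rw [MonoidHom.map_closure]
      congr 1
      ext y
      constructor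
      · rintro ⟨q, hq, rfl⟩
        exact ⟨_, ⟨⟨q, hq⟩, rfl⟩, rfl⟩
      · rintro ⟨_, ⟨q, rfl⟩, rfl⟩
        exact ⟨q, q.2, rfl⟩
    rw [h3, hmain]
    ext y
    constructor
    · rintro ⟨_, ⟨⟨q, hq⟩, hqc, rfl⟩, rfl⟩
      refine ⟨⟨q, hq⟩, ?_, rfl⟩
      rw [SetLike.mem_coe, mem_center_iff] at hqc ⊢
      intro r
      have := congrArg (fun x => ((x : Q) : G)) (congrArg Subtype.val (hqc ⟨⟨r, hQ₀Q r.2⟩, r.2⟩))
      exact Subtype.ext this
    · rintro ⟨⟨q, hq⟩, hqc, rfl⟩
      refine ⟨⟨q, hQ₀Q hq⟩, ⟨⟨⟨q, hQ₀Q hq⟩, hq⟩, ?_, rfl⟩, rfl⟩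
      rw [SetLike.mem_coe, mem_center_iff] at hqc ⊢
      intro r
      have := congrArg Subtype.val (hqc ⟨r.1, r.2⟩)
      exact Subtype.ext (Subtype.ext this)
  · intro hnot
    obtain ⟨q, hq, hq2⟩ := SetLike.not_le_iff_exists.mp hnot
    obtain ⟨hqQ, hqz⟩ := (hQ₀ q).mp hq
    refine ⟨q, hqQ, ?_⟩
    have h3 : α * q * α⁻¹ * q⁻¹ = z := by
      have hz2 : z ^ 2 = 1 := by rw [← hz, pow_orderOf_eq_one]
      obtain ⟨n, hn⟩ := mem_zpowers_iff.mp hqz
      rcases Int.even_or_odd' n with ⟨m, hm | hm⟩
      · exfalso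
        apply hq2
        apply mem_sup_left
        rw [hm, zpow_mul, zpow_ofNat, hz2, one_zpow] at hn
        refine mem_inf.mpr ⟨hqQ, ?_⟩
        rw [mem_centralizer_singleton_iff]
        calc q * α = (α * q * α⁻¹ * q⁻¹)⁻¹ * (α * q) := by group
          _ = α * q := by rw [← hn, inv_one, one_mul]
      · rw [hm, zpow_add, zpow_mul, zpow_ofNat, hz2, one_zpow, one_mul, zpow_one] at hn
        exact hn.symm
    have hαi : α⁻¹ = α := inv_eq_of_mul_eq_one_left hαα
    calc q * α * q⁻¹ = α⁻¹ * (α * q * α⁻¹ * q⁻¹) := by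
          rw [hαi, ← mul_assoc, ← mul_assoc, ← mul_assoc, hαα, one_mul]
      _ = α * z := by rw [h3, hαi]

end Cfsg.Agent.Lib.ExSpC
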