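import Cfsg.Agent.Lib.ExSpC

/-!
# Counting elements of order four in extraspecial 2-groups
-/

universe u v w

open Subgroup
open scoped commutatorElement Pointwise

namespace Cfsg.Agent.Lib.ExSpD

open Cfsg.Agent.Lib.ExSp Cfsg.Agent.Lib.ExSpC

variable {E : Type*} [Group E] {z : E}

/-- a maximal elementary abelian subgroup of the largest possible order is self-centralizing -/
theorem self_centralizing [Finite E] (D : Dat 2 z) {A : Subgroup E} (hA : Cfsg.IsElementaryAbelian 2 A) {m : ℕ}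
    (hcard : Nat.card E = 2 ^ (2 * m + 1)) (hAc : Nat.card A = 2 ^ (m + 1)) :
    centralizer (A : Set E) = A := by
  haveI : Fact (Nat.Prime 2) := ⟨Nat.prime_two⟩
  haveI := hA.1
  have hAle : A ≤ centralizer (A : Set E) := by
    intro x hx
    rw [mem_centralizer_iff]
    intro y hy
    exact congrArg Subtype.val (hA.1.is_comm.comm (⟨y, hy⟩ : A) ⟨x, hx⟩)
  -- `z ∈ A`
  have hzc : ∀ U : Subgroup E, z ∈ centralizer (U : Set E) := fun U => mem_centralizer_iff.mpr fun y _ => D.zc y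
  have hB : z ∈ centralizer (A : Set E) := hzc A
  have h1 := card_mul_card D hB
  have h2 : A ≤ centralizer ((centralizer (A : Set E) : Subgroup E) : Set E) := le_centralizer_iff.mp le_rfl
  -- `|C(C(A))| * ... `
  have h3 := (centralizer ((centralizer (A : Set E) : Subgroup E) : Set E)).card_mul_index
  have h4 : 2 ^ (m + 1) ∣ Nat.card (centralizer ((centralizer (A : Set E) : Subgroup E) : Set E)) := by
    rw [← hAc]; exact card_dvd_of_le h2
  obtain ⟨k, hk⟩ := h4
  have h5 : Nat.card (centralizer (A : Set E)) * k = 2 ^ (m + 1) := by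
    have e : 2 ^ (m + 1) * k * (centralizer ((centralizer (A : Set E) : Subgroup E) : Set E)).index = 2 ^ (2 * m + 1) := by
      rw [← hk, h3, hcard]
    have e2 : 2 ^ (2 * m + 1) * 2 = 2 ^ (m + 1) * 2 ^ (m + 1) := by
      rw [← pow_succ, ← pow_add]; congr 1; omega
    have e3 : 2 ^ (m + 1) * (Nat.card (centralizer (A : Set E)) * k) = 2 ^ (m + 1) * 2 ^ (m + 1) := by
      rw [← h1, ← e2, ← e]; ring
    exact Nat.eq_of_mul_eq_mul_left (by positivity) e3
  refine (eq_of_le_of_card_ge hAle ?_).symm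
  rw [hAc, ← h5]
  exact Nat.le_mul_of_pos_right _ (Nat.pos_of_ne_zero fun h => by
    rw [h, mul_zero] at h5
    exact (pow_pos (by norm_num : 0 < 2) (m + 1)).ne h5)

theorem sq_cases (D : Dat 2 z) (x : E) : x ^ 2 = 1 ∨ x ^ 2 = z := by
  obtain ⟨n, hn⟩ := mem_zpowers_iff.mp (D.pow_mem x)
  have h2 : z ^ 2 = 1 := by rw [← D.ord, pow_orderOf_eq_one]
  rw [← hn]
  rcases Int.even_or_odd' n with ⟨m, hm | hm⟩
  · left; rw [hm, zpow_mul, zpow_ofNat, h2, one_zpow]
  · right; rw [hm, zpow_add, zpow_mul, zpow_ofNat, h2, one_zpow, one_mul, zpow_one]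

theorem comm_cases (D : Dat 2 z) (x y : E) : ⁅x, y⁆ = 1 ∨ ⁅x, y⁆ = z := by
  obtain ⟨n, hn⟩ := mem_zpowers_iff.mp (D.comm x y)
  have h2 : z ^ 2 = 1 := by rw [← D.ord, pow_orderOf_eq_one]
  rw [← hn]
  rcases Int.even_or_odd' n with ⟨m, hm | hm⟩
  · left; rw [hm, zpow_mul, zpow_ofNat, h2, one_zpow]
  · right; rw [hm, zpow_add, zpow_mul, zpow_ofNat, h2, one_zpow, one_mul, zpow_one]

theorem z1 (D : Dat 2 z) : z ≠ 1 := fun h => by have := D.ord; rw [h, orderOf_one] at this; norm_num at this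

/-- toggling the square -/
theorem sq_mul (D : Dat 2 z) {y a : E} (ha : a ^ 2 = 1) (h : ⁅y, a⁆ = z) : (y * a) ^ 2 = y ^ 2 * z := by
  have h2 : z ^ 2 = 1 := by rw [← D.ord, pow_orderOf_eq_one]
  have h1 : y * a = z * (a * y) := by
    rw [← h, commutatorElement_def]; group
  calc (y * a) ^ 2 = (y * a) * (y * a) := by rw [pow_two]
    _ = (y * a) * (z * (a * y)) := by rw [← h1]
    _ = ((y * a) * z) * (a * y) := by group
    _ = z * (y * (a ^ 2) * y) := by rw [D.zc, pow_two]; group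
    _ = y ^ 2 * z := by rw [ha, mul_one, ← D.zc, pow_two]

/-- S2880 -/
theorem card_order_four [Finite E] (D : Dat 2 z) {m : ℕ} (hcard : Nat.card E = 2 ^ (2 * m + 1))
    {A : Subgroup E} (hA : Cfsg.IsElementaryAbelian 2 A) (hAc : Nat.card A = 2 ^ (m + 1)) :
    Nat.card {x : E // x ^ 2 = z} = 2 ^ (2 * m) - 2 ^ m := by
  classical
  haveI : Fact (Nat.Prime 2) := ⟨Nat.prime_two⟩
  have hsc := self_centralizing D hA hcard hAc
  have hzA : z ∈ A := by rw [← hsc]; exact mem_centralizer_iff.mpr fun y _ => D.zc y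
  have hAn : A.Normal := by
    refine ⟨fun a ha g => ?_⟩
    have e : g * a * g⁻¹ = ⁅g, a⁆ * a := by rw [commutatorElement_def]; group
    rw [e]
    refine mul_mem ?_ ha
    rcases comm_cases D g a with h | h <;> rw [h]
    · exact one_mem _
    · exact hzA
  have hAA : ∀ a ∈ A, ∀ b ∈ A, a * b = b * a := fun a ha b hb =>
    congrArg Subtype.val (hA.1.is_comm.comm (⟨a, ha⟩ : A) ⟨b, hb⟩)
  -- choice of `a₀` on cosets
  have hex : ∀ x : E, x ∉ A → ∃ a ∈ A, ⁅x, a⁆ = z := by
    intro x hx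
    rw [← hsc, mem_centralizer_iff] at hx
    push Not at hx
    obtain ⟨a, ha, hax⟩ := hx
    refine ⟨a, ha, (comm_cases D x a).resolve_left fun h => hax ?_⟩
    exact (commutatorElement_eq_one_iff_mul_comm.mp h).symm
  have hch : ∀ c : E ⧸ A, ∃ a ∈ A, ∀ x : E, (QuotientGroup.mk x : E ⧸ A) = c → x ∉ A → ⁅x, a⁆ = z := by
    intro c
    obtain ⟨x, rfl⟩ := QuotientGroup.mk_surjective c
    by_cases hx : x ∈ A
    · refine ⟨1, one_mem _, fun y hy hyA => ?_⟩
      exfalso
      apply hyA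
      have h1 := QuotientGroup.eq.mp hy
      have e : y = x * (y⁻¹ * x)⁻¹ := by group
      rw [e]; exact mul_mem hx (inv_mem h1)
    · obtain ⟨a, ha, hxa⟩ := hex x hx
      refine ⟨a, ha, fun y hy _ => ?_⟩
      have h1 := QuotientGroup.eq.mp hy
      have e : y = x * (y⁻¹ * x)⁻¹ := by group
      have h2 : ⁅(y⁻¹ * x)⁻¹, a⁆ = 1 := commutatorElement_eq_one_iff_mul_comm.mpr (hAA _ (inv_mem h1) a ha)
      rw [e, D.mul_left, hxa, h2, mul_one]
  choose a₀ ha₀ ha₀' using hch
  have ha2 : ∀ c, (a₀ c) ^ 2 = 1 := fun c => hA.2 _ (ha₀ c)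
  have hmk : ∀ x : E, ∀ c, (QuotientGroup.mk (x * a₀ c) : E ⧸ A) = QuotientGroup.mk x := by
    intro x c
    rw [QuotientGroup.eq]
    have e : (x * a₀ c)⁻¹ * x = (a₀ c)⁻¹ := by group
    rw [e]; exact inv_mem (ha₀ c)
  have hmem : ∀ x : E, ∀ c, x * a₀ c ∈ A ↔ x ∈ A := fun x c => by
    constructor
    · intro h
      have e : x = (x * a₀ c) * (a₀ c)⁻¹ := by group
      rw [e]; exact mul_mem h (inv_mem (ha₀ c))
    · intro h; exact mul_mem h (ha₀ c)
  have hz2 : z * z = 1 := by rw [← pow_two, ← D.ord, pow_orderOf_eq_one]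
  -- the bijection
  let e : {x : E // x ∉ A ∧ x ^ 2 = z} ≃ {x : E // x ∉ A ∧ x ^ 2 = 1} :=
    { toFun := fun x => ⟨x.1 * a₀ (QuotientGroup.mk x.1), fun h => x.2.1 ((hmem _ _).mp h), by
        rw [sq_mul D (ha2 _) (ha₀' _ x.1 rfl x.2.1), x.2.2, hz2]⟩
      invFun := fun x => ⟨x.1 * a₀ (QuotientGroup.mk x.1), fun h => x.2.1 ((hmem _ _).mp h), by
        rw [sq_mul D (ha2 _) (ha₀' _ x.1 rfl x.2.1), x.2.2, one_mul]⟩
      left_inv := fun x => Subtype.ext (by
        show x.1 * a₀ (QuotientGroup.mk x.1) * a₀ (QuotientGroup.mk (x.1 * a₀ (QuotientGroup.mk x.1))) = x.1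
        rw [hmk, mul_assoc, ← pow_two, ha2, mul_one])
      right_inv := fun x => Subtype.ext (by
        show x.1 * a₀ (QuotientGroup.mk x.1) * a₀ (QuotientGroup.mk (x.1 * a₀ (QuotientGroup.mk x.1))) = x.1
        rw [hmk, mul_assoc, ← pow_two, ha2, mul_one]) }
  have h1 := Nat.card_congr e
  have h2 : Nat.card {x : E // x ^ 2 = z} = Nat.card {x : E // x ∉ A ∧ x ^ 2 = z} := by
    apply Nat.card_congr
    exact Equiv.subtypeEquivRight fun x => ⟨fun h => ⟨fun hx => z1 D (by rw [← h]; exact hA.2 x hx), h⟩, fun h => h.2⟩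
  have h3 : Nat.card {x : E // x ∉ A} = Nat.card {x : E // x ∉ A ∧ x ^ 2 = z} + Nat.card {x : E // x ∉ A ∧ x ^ 2 = 1} := by
    haveI := Fintype.ofFinite E
    rw [Nat.card_eq_fintype_card, Nat.card_eq_fintype_card, Nat.card_eq_fintype_card, Fintype.card_subtype,
      Fintype.card_subtype, Fintype.card_subtype, ← Finset.card_union_of_disjoint]
    · congr 1
      ext x
      simp only [Finset.mem_filter, Finset.mem_univ, true_and, Finset.mem_union]
      constructor
      · intro hx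
        rcases sq_cases D x with h | h
        · exact Or.inr ⟨hx, h⟩
        · exact Or.inl ⟨hx, h⟩
      · rintro (h | h) <;> exact h.1
    · rw [Finset.disjoint_filter]
      rintro x - h h'
      exact z1 D (h.2.symm.trans h'.2)
  have h4 : Nat.card {x : E // x ∉ A} + Nat.card A = Nat.card E := by
    haveI := Fintype.ofFinite E
    have e1 : Nat.card A = Fintype.card {x : E // x ∈ A} := by rw [Nat.card_eq_fintype_card]
    rw [e1, Nat.card_eq_fintype_card, Nat.card_eq_fintype_card, Fintype.card_subtype_compl]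
    exact Nat.sub_add_cancel (Fintype.card_subtype_le _)
  rw [hAc, hcard] at h4
  rw [h2]
  have e1 : 2 ^ (2 * m + 1) = 2 * 2 ^ (2 * m) := by rw [pow_succ]; ring
  have e2 : 2 ^ (m + 1) = 2 * 2 ^ m := by rw [pow_succ]; ring
  omega

theorem order_four_iff (D : Dat 2 z) (x : E) : orderOf x = 4 ↔ x ^ 2 = z := by
  haveI : Fact (Nat.Prime 2) := ⟨Nat.prime_two⟩
  have h2 : z ^ 2 = 1 := by rw [← D.ord, pow_orderOf_eq_one]
  constructor
  · intro h
    refine (sq_cases D x).resolve_left fun h' => ?_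
    have := orderOf_dvd_of_pow_eq_one h'
    rw [h] at this
    norm_num at this
  · intro h
    have := orderOf_eq_prime_pow (p := 2) (n := 1) (x := x) (by rw [pow_one, h]; exact z1 D)
      (by rw [show 2 ^ (1 + 1) = 2 * 2 by norm_num, pow_mul, h, h2])
    rw [this]; norm_num

end Cfsg.Agent.Lib.ExSpD
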