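import Mathlib
import Cfsg.Agent.Lib.QuadB
import Cfsg.Agent.Lib.QuadC

/-! Failure of factorization, part A: offenders acting on a `p'`-group. -/

namespace Cfsg.Agent.Lib.FFA

open Subgroup Cfsg.Agent.Lib Cfsg.Agent.Lib.Basic Cfsg.Agent.Lib.Cores Cfsg.Agent.Lib.Coprime
  Cfsg.Agent.Lib.CoprimeB Cfsg.Agent.Lib.ThompsonJ Cfsg.Agent.Lib.Quadratic Cfsg.Agent.Lib.QuadA
  Cfsg.Agent.Lib.QuadB Cfsg.Agent.Lib.PNilp

open scoped commutatorElement Pointwise

universe u
variable {G : Type u} [Group G]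

theorem card_dvd_of_ea [Finite G] {p : ℕ} [hp : Fact p.Prime] {A : Subgroup G} (hA : Cfsg.IsElementaryAbelian p A) :
    ∃ n, Nat.card A = p ^ n := (IsPGroup.iff_card).mp (QuadC.isPGroup_of_ea hA)

theorem inf_zpowers_eq_bot {p : ℕ} [hp : Fact p.Prime] {x : G} {S : Subgroup G} (hx : x ^ p = 1) (hxS : x ∉ S) :
    S ⊓ zpowers x = ⊥ := by
  have hfin : Finite (zpowers x) := by
    have : IsOfFinOrder x := isOfFinOrder_iff_pow_eq_one.mpr ⟨p, hp.out.pos, hx⟩
    exact this.finite_zpowers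
  have h1 : Nat.card (S ⊓ zpowers x : Subgroup G) ∣ Nat.card (zpowers x) := card_dvd_of_le inf_le_right
  have h2 : Nat.card (zpowers x) ∣ p := by
    rw [Nat.card_zpowers]; exact orderOf_dvd_of_pow_eq_one hx
  rcases (Nat.dvd_prime hp.out).mp (h1.trans h2) with h | h
  · exact card_eq_one.mp h
  · exfalso
    apply hxS
    have h3 : S ⊓ zpowers x = zpowers x := by
      apply eq_of_le_of_card_ge inf_le_right
      rw [h]; exact Nat.le_of_dvd hp.out.pos h2
    exact (inf_eq_right.mp h3) (mem_zpowers x)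

/-- a hyperplane `B` of `A` with `[C_K(B), D] ≠ 1` -/
theorem exists_hyperplane [Finite G] {p : ℕ} [hp : Fact p.Prime] {A K D : Subgroup G}
    (hA : Cfsg.IsElementaryAbelian p A) (hAK : A ≤ normalizer (K : Set G)) (hcop : (Nat.card K).Coprime p)
    (hDA : D ≤ A) (hD : ¬ K ≤ centralizer (D : Set G)) :
    ∃ B : Subgroup G, B ≤ A ∧ B.relIndex A = p ∧ ¬ K ⊓ centralizer (B : Set G) ≤ centralizer (D : Set G) := by
  classical
  have hA' := ea_iff.mp hA
  let F : Set (Subgroup G) := {B | B ≤ A ∧ ¬ K ⊓ centralizer (B : Set G) ≤ centralizer (D : Set G)}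
  have hne : F.Nonempty := ⟨⊥, bot_le, by
    intro h
    apply hD
    refine le_trans (le_inf le_rfl ?_) h
    intro x _
    exact mem_centralizer_iff.mpr fun y hy => by
      rw [show y = 1 from mem_bot.mp hy, one_mul, mul_one]⟩
  obtain ⟨B, hBF, hBmax⟩ := (Set.toFinite F).exists_maximal hne
  refine ⟨B, hBF.1, ?_, hBF.2⟩
  have hBA : B ≠ A := by
    rintro rfl
    exact hBF.2 (inf_le_right.trans (centralizer_le hDA))
  obtain ⟨n, hn⟩ := card_dvd_of_ea hA
  -- `B⟨e⟩` for `e ∈ A \ B`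
  have hstep : ∀ e ∈ A, e ∉ B → K ⊓ centralizer (B : Set G) ⊓ centralizer ({e} : Set G) ≤ centralizer (D : Set G) := by
    intro e he heB
    by_contra hcon
    have hin : B ⊔ zpowers e ∈ F := by
      refine ⟨sup_le hBF.1 (zpowers_le.mpr he), fun h => hcon (le_trans ?_ h)⟩
      rintro x ⟨⟨hxK, hxB⟩, hxe⟩
      refine ⟨hxK, ?_⟩
      have : B ⊔ zpowers e ≤ centralizer ({x} : Set G) := by
        refine sup_le (fun b hb => mem_centralizer_singleton_iff.mpr (mem_centralizer_iff.mp hxB b hb)) (zpowers_le.mpr ?_)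
        exact mem_centralizer_singleton_iff.mpr (mem_centralizer_singleton_iff.mp hxe).symm
      exact mem_centralizer_iff.mpr fun y hy => mem_centralizer_singleton_iff.mp (this hy)
    have := hBmax hin le_sup_left
    exact heB (this (mem_sup_right (mem_zpowers e)))
  -- index
  have hAn : ∀ x ∈ A, x ∈ normalizer (B : Set G) := fun x hx => by
    refine (centralizer_le_normalizer (B : Set G)) ?_
    exact mem_centralizer_iff.mpr fun y hy => hA'.1 y (hBF.1 hy) x hx
  obtain ⟨a, haA, haB⟩ := SetLike.exists_of_lt (lt_of_le_of_ne hBF.1 hBA)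
  by_contra hidx
  have ha1 : a ^ p = 1 := hA'.2 a haA
  have hane : a ≠ 1 := fun h => haB (h ▸ one_mem B)
  have hcommB : ∀ b ∈ B, b * a = a * b := fun b hb => hA'.1 b (hBF.1 hb) a haA
  have hlt : B ⊔ zpowers a < A := by
    refine lt_of_le_of_ne (sup_le hBF.1 (zpowers_le.mpr haA)) fun h => hidx ?_
    have h1 : B.relIndex (B ⊔ zpowers a) ∣ p := by
      have h2 : B.relIndex (B ⊔ zpowers a) = B.relIndex (zpowers a) := by
        rw [sup_comm]
        refine relIndex_sup_of_normalizes fun b hb => ?_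
        refine (centralizer_le_normalizer _) (mem_centralizer_iff.mpr fun y hy => ?_)
        exact hA'.1 y (zpowers_le.mpr haA hy) b (hBF.1 hb)
      rw [h2]
      refine (relIndex_dvd_card _ _).trans ?_
      rw [Nat.card_zpowers]
      exact orderOf_dvd_of_pow_eq_one ha1
    rw [h] at h1
    rcases (Nat.dvd_prime hp.out).mp h1 with h3 | h3
    · exact absurd (relIndex_eq_one.mp h3) (fun h4 => hBA (le_antisymm hBF.1 h4))
    · exact h3
  obtain ⟨b, hbA, hbB⟩ := SetLike.exists_of_lt hlt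
  have hb1 : b ^ p = 1 := hA'.2 b hbA
  have hi1 : B ⊓ zpowers a = ⊥ := inf_zpowers_eq_bot ha1 haB
  have hi2 : (B ⊔ zpowers a) ⊓ zpowers b = ⊥ := inf_zpowers_eq_bot hb1 hbB
  have hza : zpowers a ≤ A := zpowers_le.mpr haA
  have hzb : zpowers b ≤ A := zpowers_le.mpr hbA
  have hEA : zpowers a ⊔ zpowers b ≤ A := sup_le hza hzb
  have hcard : Nat.card (zpowers a ⊔ zpowers b : Subgroup G) = p ^ 2 := by
    have h1 := card_sup_mul_inf_of_comm hA'.1 hza hzb
    have h2 : zpowers a ⊓ zpowers b = ⊥ := le_bot_iff.mp (hi2 ▸ inf_le_inf_right _ le_sup_right)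
    rw [h2, card_bot, mul_one, Nat.card_zpowers, Nat.card_zpowers, orderOf_eq_prime ha1 hane,
      orderOf_eq_prime hb1 (fun h => hbB (h ▸ one_mem _))] at h1
    rw [h1, sq]
  have hnorm : zpowers b ≤ normalizer (zpowers a : Set G) := fun x hx =>
    (centralizer_le_normalizer _) (mem_centralizer_iff.mpr fun y hy => hA'.1 y (hza hy) x (hzb hx))
  have hdis : ∀ e ∈ zpowers a ⊔ zpowers b, e ∈ B → e = 1 := by
    intro e he heB
    obtain ⟨x, hx, y, hy, rfl⟩ := (mem_sup_iff_left hnorm).mp he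
    have hy1 : y ∈ (B ⊔ zpowers a) ⊓ zpowers b := by
      refine ⟨?_, hy⟩
      have : y = x⁻¹ * (x * y) := by group
      rw [this]
      exact mul_mem (mem_sup_right (inv_mem hx)) (mem_sup_left heB)
    rw [hi2, mem_bot] at hy1
    subst hy1
    rw [mul_one] at heB ⊢
    have : x ∈ B ⊓ zpowers a := ⟨heB, hx⟩
    rwa [hi1, mem_bot] at this
  have hEK : zpowers a ⊔ zpowers b ≤ normalizer ((K ⊓ centralizer (B : Set G) : Subgroup G) : Set G) := by
    refine le_normalizer_inf (hEA.trans hAK) ?_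
    exact fun x hx => normalizer_centralizer_le (hAn x (hEA hx))
  have hgen := gen_of_elementary hp.out hcard (fun x hx => hA'.2 x (hEA hx)) hEK
    (Nat.Coprime.coprime_dvd_left (card_dvd_of_le inf_le_left) hcop)
  apply hBF.2
  rw [← hgen]
  unfold genCent
  rw [Subgroup.closure_le]
  rintro x ⟨hx, e, he, he1, hex⟩
  refine hstep e (hEA he) (fun heB => he1 (hdis e he heB)) ⟨hx, mem_centralizer_singleton_iff.mpr ?_⟩
  first | exact hex | exact hex.symm

/-- if `[C_K(B), A] ≠ 1` then `C_V(A) < C_V(B)` -/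
theorem centralizer_lt [Finite G] {p : ℕ} [hp : Fact p.Prime] {V A K B : Subgroup G}
    (hV : Cfsg.IsElementaryAbelian p V) (hA : Cfsg.IsElementaryAbelian p A)
    (hAV : A ≤ normalizer (V : Set G)) (hKV : K ≤ normalizer (V : Set G)) (hAK : A ≤ normalizer (K : Set G))
    (hcop : (Nat.card K).Coprime p) (hKf : K ⊓ centralizer (V : Set G) = ⊥) (hBA : B ≤ A)
    (hB : ¬ K ⊓ centralizer (B : Set G) ≤ centralizer (A : Set G)) :
    V ⊓ centralizer (A : Set G) < V ⊓ centralizer (B : Set G) := by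
  have hA' := ea_iff.mp hA
  refine lt_of_le_of_ne (inf_le_inf_left _ (centralizer_le hBA)) fun heq => ?_
  set K₀ := K ⊓ centralizer (B : Set G) with hK₀
  have hAB : A ≤ normalizer (B : Set G) := fun x hx =>
    (centralizer_le_normalizer _) (mem_centralizer_iff.mpr fun y hy => hA'.1 y (hBA hy) x hx)
  have hAK₀ : A ≤ normalizer (K₀ : Set G) := le_normalizer_inf hAK (fun x hx => normalizer_centralizer_le (hAB hx))
  have hK₀B : K₀ ≤ centralizer (B : Set G) := inf_le_right
  have hK₀V : K₀ ≤ normalizer (V : Set G) := inf_le_left.trans hKV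
  have hW : K₀ ≤ normalizer ((V ⊓ centralizer (B : Set G) : Subgroup G) : Set G) :=
    le_normalizer_inf hK₀V (fun x hx => normalizer_centralizer_le ((centralizer_le_normalizer _) (hK₀B hx)))
  -- three subgroups
  have h1 : ⁅⁅V ⊓ centralizer (B : Set G), K₀⁆, A⁆ = ⊥ := by
    rw [eq_bot_iff]
    refine (commutator_mono (commutator_le_of_normalizes hW) le_rfl).trans ?_
    rw [← heq, le_bot_iff, commutator_eq_bot_iff_le_centralizer]
    exact inf_le_right
  have h2 : ⁅⁅A, V ⊓ centralizer (B : Set G)⁆, K₀⁆ = ⊥ := by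
    have : ⁅A, V ⊓ centralizer (B : Set G)⁆ = ⊥ := by
      rw [← heq, commutator_comm, commutator_eq_bot_iff_le_centralizer]
      exact inf_le_right
    rw [this, commutator_bot_left]
  have h3 : ⁅⁅K₀, A⁆, V ⊓ centralizer (B : Set G)⁆ = ⊥ := three_subgroups (X := A) (Y := V ⊓ centralizer (B : Set G)) (Z := K₀) h2 h1
  have hLK : ⁅K₀, A⁆ ≤ K₀ := commutator_le_of_normalizes hAK₀
  have hL : ⁅K₀, A⁆ ≤ centralizer (V : Set G) := by
    refine thompson_PxQ (P := B) ((QuadC.isPGroup_of_ea hA).to_le hBA) (Q := ⁅K₀, A⁆)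
      (Nat.Coprime.coprime_dvd_left (card_dvd_of_le (hLK.trans inf_le_left)) hcop) (QuadC.isPGroup_of_ea hV)
      ?_ (hBA.trans hAV) (hLK.trans hK₀V) ?_
    · rw [← le_centralizer_iff]; exact hLK.trans inf_le_right
    · rw [← le_centralizer_iff, ← commutator_eq_bot_iff_le_centralizer]; exact h3
  have : ⁅K₀, A⁆ = ⊥ := by
    rw [eq_bot_iff, ← hKf]
    exact le_inf (hLK.trans inf_le_left) hL
  exact hB (commutator_eq_bot_iff_le_centralizer.mp this)

/-- the fundamental inequality -/
theorem card_le_aux [Finite G] {p : ℕ} [hp : Fact p.Prime] {V K : Subgroup G}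
    (hV : Cfsg.IsElementaryAbelian p V)
    (hKV : K ≤ normalizer (V : Set G))
    (hcop : (Nat.card K).Coprime p) (hKf : K ⊓ centralizer (V : Set G) = ⊥) (n : ℕ) :
    ∀ A : Subgroup G, Nat.card A ≤ n → Cfsg.IsElementaryAbelian p A → A ≤ normalizer (V : Set G) →
      A ≤ normalizer (K : Set G) → A ⊓ centralizer (K : Set G) = ⊥ →
      Nat.card A * Nat.card ↥(V ⊓ centralizer (A : Set G)) ≤ Nat.card V := by
  induction n with
  | zero => intro A h; exact absurd h (by have := Nat.card_pos (α := A); omega)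
  | succ n ih =>
    intro A hn hA hAV hAK hAf
    by_cases hKA : K ≤ centralizer (A : Set G)
    · have : A = ⊥ := by
        rw [eq_bot_iff, ← hAf]; exact le_inf le_rfl (le_centralizer_iff.mp hKA)
      subst this
      rw [card_bot, one_mul]
      exact card_le_of_le inf_le_left
    · obtain ⟨B, hBA, hidx, hB⟩ := exists_hyperplane hA hAK hcop le_rfl hKA
      have hlt := centralizer_lt hV hA hAV hKV hAK hcop hKf hBA hB
      have hcA : Nat.card B * p = Nat.card A := by rw [← hidx]; exact card_mul_relIndex hBA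
      have hBE : Cfsg.IsElementaryAbelian p B := ThompsonJ.ea_mono hA hBA
      have h1 := ih B (by
        have := Nat.card_pos (α := B)
        have := hp.out.two_le
        have : Nat.card B * 2 ≤ Nat.card A := by rw [← hcA]; exact Nat.mul_le_mul_left _ hp.out.two_le
        omega) hBE (hBA.trans hAV) (hBA.trans hAK) (le_bot_iff.mp (hAf ▸ inf_le_inf_right _ hBA))
      have h2 : p * Nat.card ↥(V ⊓ centralizer (A : Set G)) ≤ Nat.card ↥(V ⊓ centralizer (B : Set G)) := by
        have h3 := relIndex_mul_card hlt.le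
        rw [← h3]
        refine Nat.mul_le_mul_right _ ?_
        have h4 : (V ⊓ centralizer (A : Set G)).relIndex (V ⊓ centralizer (B : Set G)) ≠ 1 := by
          intro h; exact not_le_of_gt hlt (relIndex_eq_one.mp h)
        have h5 : IsPGroup p ↥(V ⊓ centralizer (B : Set G)) := (QuadC.isPGroup_of_ea hV).to_le inf_le_left
        obtain ⟨m, hm⟩ := (IsPGroup.iff_card).mp h5
        have h6 : (V ⊓ centralizer (A : Set G)).relIndex (V ⊓ centralizer (B : Set G)) ∣ p ^ m := by
          rw [← hm]; exact relIndex_dvd_card _ _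
        obtain ⟨j, _, hj⟩ := (Nat.dvd_prime_pow hp.out).mp h6
        rw [hj] at h4 ⊢
        have : j ≠ 0 := fun h => h4 (by rw [h, pow_zero])
        exact Nat.le_self_pow this p
      calc Nat.card A * Nat.card ↥(V ⊓ centralizer (A : Set G))
          = Nat.card B * (p * Nat.card ↥(V ⊓ centralizer (A : Set G))) := by rw [← hcA]; ring
        _ ≤ Nat.card B * Nat.card ↥(V ⊓ centralizer (B : Set G)) := Nat.mul_le_mul_left _ h2
        _ ≤ Nat.card V := h1

theorem card_le [Finite G] {p : ℕ} [hp : Fact p.Prime] {V K A : Subgroup G}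
    (hV : Cfsg.IsElementaryAbelian p V) (hA : Cfsg.IsElementaryAbelian p A)
    (hAV : A ≤ normalizer (V : Set G)) (hKV : K ≤ normalizer (V : Set G)) (hAK : A ≤ normalizer (K : Set G))
    (hcop : (Nat.card K).Coprime p) (hKf : K ⊓ centralizer (V : Set G) = ⊥) (hAf : A ⊓ centralizer (K : Set G) = ⊥) :
    Nat.card A * Nat.card ↥(V ⊓ centralizer (A : Set G)) ≤ Nat.card V :=
  card_le_aux hV hKV hcop hKf _ A le_rfl hA hAV hAK hAf

end Cfsg.Agent.Lib.FFA
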