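import Mathlib
import Cfsg.Agent.Lib.FFA

/-! Failure of factorization, part B: best offenders in the faithful situation. -/

namespace Cfsg.Agent.Lib.FFB

open Subgroup Cfsg.Agent.Lib Cfsg.Agent.Lib.Basic Cfsg.Agent.Lib.Cores Cfsg.Agent.Lib.Coprime
  Cfsg.Agent.Lib.CoprimeB Cfsg.Agent.Lib.ThompsonJ Cfsg.Agent.Lib.Quadratic Cfsg.Agent.Lib.QuadA
  Cfsg.Agent.Lib.QuadB Cfsg.Agent.Lib.PNilp Cfsg.Agent.Lib.FFA

open scoped commutatorElement Pointwise

universe u
variable {G : Type u} [Group G]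

/-- the faithful situation -/
structure FF (p : ℕ) (V H : Subgroup G) : Prop where
  hV : Cfsg.IsElementaryAbelian p V
  hHV : H ≤ Subgroup.normalizer (V : Set G)
  hf : H ⊓ Subgroup.centralizer (V : Set G) = ⊥
  hS1 : Subgroup.centralizer (Cfsg.pPrimeCore p ↥H : Set ↥H) ≤ Cfsg.pPrimeCore p ↥H

/-- `O_{p'}(H)` inside `G` -/
def KK (p : ℕ) (H : Subgroup G) : Subgroup G := (Cfsg.pPrimeCore p ↥H).map H.subtype

variable {p : ℕ} {V H : Subgroup G}

theorem KK_le : KK p H ≤ H := map_subtype_le _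

theorem KK_normal : H ≤ normalizer (KK p H : Set G) := by
  have := Cores.pPrimeCore_normal (G := H) p
  intro h hh
  rw [mem_normalizer_iff_conj_smul_eq]
  have hconj : ∀ g : H, ∀ x : G, x ∈ KK p H → (g : G) * x * (g : G)⁻¹ ∈ KK p H := by
    rintro g _ ⟨x, hx, rfl⟩
    exact ⟨g * x * g⁻¹, this.conj_mem x hx g, by simp⟩
  apply le_antisymm
  · rintro _ ⟨x, hx, rfl⟩
    exact hconj ⟨h, hh⟩ x hx
  · intro x hx
    refine ⟨h⁻¹ * x * h, ?_, by simp [MulAut.conj_apply]; group⟩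
    have := hconj ⟨h, hh⟩⁻¹ x hx
    simpa using this

theorem KK_coprime [Finite G] : (Nat.card (KK p H)).Coprime p := by
  have : Nat.card (KK p H) = Nat.card (Cfsg.pPrimeCore p ↥H) :=
    Nat.card_congr (equivMapOfInjective _ _ H.subtype_injective).symm.toEquiv
  rw [this]
  exact Cores.pPrimeCore_coprime p

theorem FF.cent (h : FF p V H) : H ⊓ centralizer (KK p H : Set G) ≤ KK p H := by
  rintro x ⟨hx, hc⟩
  refine ⟨⟨x, hx⟩, h.hS1 (mem_centralizer_iff.mpr fun y hy => Subtype.ext ?_), rfl⟩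
  exact mem_centralizer_iff.mp hc y ⟨y, hy, rfl⟩

theorem FF.ea [Finite G] [hp : Fact p.Prime] (h : FF p V H) {A : Subgroup G} (hAH : A ≤ H)
    (hA : Cfsg.IsBestOffenderOn p V A) : Cfsg.IsElementaryAbelian p A := by
  rw [ea_iff]
  have h1 : ⁅A, A⁆ = ⊥ := by
    rw [eq_bot_iff, ← h.hf]
    exact le_inf ((commutator_le.mpr fun x hx y hy => H.mul_mem (H.mul_mem (H.mul_mem (hAH hx) (hAH hy)) (H.inv_mem (hAH hx))) (H.inv_mem (hAH hy)))) hA.2.1
  refine ⟨fun x hx y hy => ?_, fun x hx => ?_⟩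
  · have := commutator_mem_commutator hx hy (H₁ := A) (H₂ := A)
    rw [h1, mem_bot, commutatorElement_eq_one_iff_mul_comm] at this
    exact this
  · have : x ^ p ∈ H ⊓ centralizer (V : Set G) := ⟨H.pow_mem (hAH hx) p, hA.2.2 x hx⟩
    rwa [h.hf, mem_bot] at this

theorem FF.inf_cent [Finite G] [hp : Fact p.Prime] (h : FF p V H) {A : Subgroup G} (hAH : A ≤ H)
    (hA : Cfsg.IsElementaryAbelian p A) : A ⊓ centralizer (KK p H : Set G) = ⊥ := by
  obtain ⟨n, hn⟩ := card_dvd_of_ea hA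
  apply eq_bot_of_card_coprime (n := p ^ n)
  · rw [← hn]; exact card_dvd_of_le inf_le_left
  · apply Nat.Coprime.pow_right
    exact Nat.Coprime.coprime_dvd_left (card_dvd_of_le ((inf_le_inf_right _ hAH).trans h.cent)) KK_coprime

theorem FF.card_le [Finite G] [hp : Fact p.Prime] (h : FF p V H) {A : Subgroup G} (hAH : A ≤ H)
    (hA : Cfsg.IsElementaryAbelian p A) :
    Nat.card A * Nat.card ↥(V ⊓ centralizer (A : Set G)) ≤ Nat.card V :=
  FFA.card_le h.hV hA (hAH.trans h.hHV) (KK_le.trans h.hHV) (hAH.trans KK_normal) KK_coprime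
    (le_bot_iff.mp (h.hf ▸ inf_le_inf_right _ KK_le)) (h.inf_cent hAH hA)

/-- best offenders are the elementary abelian subgroups with equality -/
theorem FF.best_iff [Finite G] [hp : Fact p.Prime] (h : FF p V H) {A : Subgroup G} (hAH : A ≤ H) :
    Cfsg.IsBestOffenderOn p V A ↔ Cfsg.IsElementaryAbelian p A ∧
      Nat.card A * Nat.card ↥(V ⊓ centralizer (A : Set G)) = Nat.card V := by
  constructor
  · intro hA
    have hea := h.ea hAH hA
    refine ⟨hea, le_antisymm (h.card_le hAH hea) ?_⟩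
    have h1 := hA.1 ⊥ bot_le
    have h2 : V ⊓ centralizer ((⊥ : Subgroup G) : Set G) = V := by
      rw [inf_eq_left]
      intro x _
      exact mem_centralizer_iff.mpr fun y hy => by
        rw [show y = 1 from mem_bot.mp hy, one_mul, mul_one]
    rwa [card_bot, one_mul, h2] at h1
  · rintro ⟨hea, hc⟩
    have hA' := ea_iff.mp hea
    refine ⟨fun B hB => hc ▸ h.card_le (hB.trans hAH) (ea_mono hea hB), ?_, fun a ha => ?_⟩
    · refine commutator_le.mpr fun x hx y hy => ?_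
      rw [commutatorElement_eq_one_iff_mul_comm.mpr (hA'.1 x hx y hy)]
      exact one_mem _
    · rw [hA'.2 a ha]; exact one_mem _

theorem FF.eq_bot_iff' (h : FF p V H) {A : Subgroup G} (hAH : A ≤ H) : ⁅V, A⁆ = ⊥ ↔ A = ⊥ := by
  constructor
  · intro h1
    rw [commutator_eq_bot_iff_le_centralizer, le_centralizer_iff] at h1
    rw [eq_bot_iff, ← h.hf]
    exact le_inf hAH h1
  · rintro rfl; exact commutator_bot_right V

/-- hyperplanes which are best offenders -/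
theorem FF.hyperplane [Finite G] [hp : Fact p.Prime] (h : FF p V H) {A : Subgroup G} (hAH : A ≤ H)
    (hA : Cfsg.IsBestOffenderOn p V A) {D : Subgroup G} (hDA : D ≤ A) (hD : D ≠ ⊥) :
    ∃ B : Subgroup G, B ≤ A ∧ B.relIndex A = p ∧ Cfsg.IsBestOffenderOn p V B ∧ ¬ D ≤ B ∧
      Nat.card ↥(V ⊓ centralizer (B : Set G)) = p * Nat.card ↥(V ⊓ centralizer (A : Set G)) := by
  obtain ⟨hea, hc⟩ := (h.best_iff hAH).mp hA
  have hKD : ¬ KK p H ≤ centralizer (D : Set G) := by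
    intro h1
    apply hD
    rw [eq_bot_iff, ← h.inf_cent (hDA.trans hAH) (ea_mono hea hDA)]
    exact le_inf le_rfl (le_centralizer_iff.mp h1)
  obtain ⟨B, hBA, hidx, hB⟩ := exists_hyperplane hea (hAH.trans KK_normal) (KK_coprime (p := p) (H := H)) hDA hKD
  have hKf : KK p H ⊓ centralizer (V : Set G) = ⊥ := le_bot_iff.mp (h.hf ▸ inf_le_inf_right _ KK_le)
  have hlt := centralizer_lt h.hV hea (hAH.trans h.hHV) (KK_le.trans h.hHV) (hAH.trans KK_normal)
    (KK_coprime (p := p) (H := H)) hKf hBA (fun h1 => hB (h1.trans (centralizer_le hDA)))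
  have hcA : Nat.card B * p = Nat.card A := by rw [← hidx]; exact card_mul_relIndex hBA
  have hBE : Cfsg.IsElementaryAbelian p B := ea_mono hea hBA
  have h2 : p * Nat.card ↥(V ⊓ centralizer (A : Set G)) ≤ Nat.card ↥(V ⊓ centralizer (B : Set G)) := by
    have h3 := relIndex_mul_card hlt.le
    rw [← h3]
    refine Nat.mul_le_mul_right _ ?_
    have h4 : (V ⊓ centralizer (A : Set G)).relIndex (V ⊓ centralizer (B : Set G)) ≠ 1 := by
      intro h; exact not_le_of_gt hlt (relIndex_eq_one.mp h)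
    have h5 : IsPGroup p ↥(V ⊓ centralizer (B : Set G)) := (QuadC.isPGroup_of_ea h.hV).to_le inf_le_left
    obtain ⟨m, hm⟩ := (IsPGroup.iff_card).mp h5
    have h6 : (V ⊓ centralizer (A : Set G)).relIndex (V ⊓ centralizer (B : Set G)) ∣ p ^ m := by
      rw [← hm]; exact relIndex_dvd_card _ _
    obtain ⟨j, _, hj⟩ := (Nat.dvd_prime_pow hp.out).mp h6
    rw [hj] at h4 ⊢
    have : j ≠ 0 := fun h => h4 (by rw [h, pow_zero])
    exact Nat.le_self_pow this p
  have h3 := h.card_le (hBA.trans hAH) hBE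
  have h4 : Nat.card B * (p * Nat.card ↥(V ⊓ centralizer (A : Set G))) = Nat.card V := by
    rw [← hc, ← hcA]; ring
  have h5 : Nat.card ↥(V ⊓ centralizer (B : Set G)) = p * Nat.card ↥(V ⊓ centralizer (A : Set G)) := by
    refine le_antisymm ?_ h2
    rw [← h4] at h3
    exact Nat.le_of_mul_le_mul_left h3 Nat.card_pos
  refine ⟨B, hBA, hidx, (h.best_iff (hBA.trans hAH)).mpr ⟨hBE, by rw [h5, h4]⟩, ?_, h5⟩
  intro h1
  exact hB (inf_le_right.trans (centralizer_le h1))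

/-- minimal nontrivially-acting best offender -/
def MinOff (p : ℕ) (V A : Subgroup G) : Prop :=
  Cfsg.IsBestOffenderOn p V A ∧ ⁅V, A⁆ ≠ ⊥ ∧
    ∀ B : Subgroup G, B ≤ A → Cfsg.IsBestOffenderOn p V B → ⁅V, B⁆ ≠ ⊥ → B = A

theorem exists_minOff [Finite G] {A : Subgroup G}
    (hA : Cfsg.IsBestOffenderOn p V A) (hV : ⁅V, A⁆ ≠ ⊥) : ∃ B : Subgroup G, B ≤ A ∧ MinOff p V B := by
  classical
  let F : Set (Subgroup G) := {B | B ≤ A ∧ Cfsg.IsBestOffenderOn p V B ∧ ⁅V, B⁆ ≠ ⊥}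
  obtain ⟨B, hB, hmin⟩ := (Set.toFinite F).exists_minimal ⟨A, le_rfl, hA, hV⟩
  refine ⟨B, hB.1, hB.2.1, hB.2.2, fun C hC h1 h2 => le_antisymm hC (hmin ⟨hC.trans hB.1, h1, h2⟩ hC)⟩

theorem FF.minOff_card [Finite G] [hp : Fact p.Prime] (h : FF p V H) {A : Subgroup G} (hAH : A ≤ H)
    (hA : MinOff p V A) : Nat.card A = p ∧ (V ⊓ centralizer (A : Set G)).relIndex V = p := by
  have hA0 : A ≠ ⊥ := fun h1 => hA.2.1 ((h.eq_bot_iff' hAH).mpr h1)
  obtain ⟨B, hBA, hidx, hB, hAB, hcB⟩ := h.hyperplane hAH hA.1 le_rfl hA0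
  have hBne : B ≠ A := by
    rintro rfl
    exact hAB le_rfl
  have hB0 : B = ⊥ := by
    rw [← h.eq_bot_iff' (hBA.trans hAH)]
    by_contra h1
    exact hBne (hA.2.2 B hBA hB h1)
  subst hB0
  rw [relIndex_bot_left] at hidx
  refine ⟨hidx, ?_⟩
  have h2 : V ⊓ centralizer ((⊥ : Subgroup G) : Set G) = V := by
    rw [inf_eq_left]
    intro x _
    exact mem_centralizer_iff.mpr fun y hy => by
      rw [show y = 1 from mem_bot.mp hy, one_mul, mul_one]
  rw [h2] at hcB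
  have h3 := relIndex_mul_card (show V ⊓ centralizer (A : Set G) ≤ V from inf_le_left)
  rw [hcB] at h3
  exact Nat.eq_of_mul_eq_mul_right Nat.card_pos h3

end Cfsg.Agent.Lib.FFB
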