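import Mathlib
import Cfsg.Agent.Lib.FFB

/-! Failure of factorization, part C: commutators with cyclic groups, decomposition of best offenders. -/

namespace Cfsg.Agent.Lib.FFC

open Subgroup Cfsg.Agent.Lib Cfsg.Agent.Lib.Basic Cfsg.Agent.Lib.Cores Cfsg.Agent.Lib.Coprime
  Cfsg.Agent.Lib.CoprimeB Cfsg.Agent.Lib.ThompsonJ Cfsg.Agent.Lib.Quadratic Cfsg.Agent.Lib.QuadA
  Cfsg.Agent.Lib.QuadB Cfsg.Agent.Lib.PNilp Cfsg.Agent.Lib.FFA Cfsg.Agent.Lib.FFB

open scoped commutatorElement Pointwise

universe u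
variable {G : Type u} [Group G]

/-- `[V,⟨a⟩] = {[v,a]}` has order `|V : C_V(a)|` -/
theorem card_commutator_zpowers [Finite G] {V : Subgroup G} (hV' : ∀ x ∈ V, ∀ y ∈ V, x * y = y * x) {a : G}
    (ha : a ∈ normalizer (V : Set G)) :
    Nat.card (⁅V, zpowers a⁆ : Subgroup G) = (V ⊓ centralizer (zpowers a : Set G)).relIndex V ∧
      ∀ x ∈ ⁅V, zpowers a⁆, ∃ v ∈ V, x = ⁅v, a⁆ := by
  have haV : zpowers a ≤ normalizer (V : Set G) := zpowers_le.mpr ha
  let f : V →* G := ⟨⟨fun w => ⁅(w : G), a⁆, by simp⟩, fun x y => by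
      change ⁅(x : G) * (y : G), a⁆ = _
      exact comm_mul_left_of hV' haV x.2 y.2 (mem_zpowers a)⟩
  have hker : f.ker = (V ⊓ centralizer (zpowers a : Set G)).subgroupOf V := by
    ext w
    rw [mem_subgroupOf, MonoidHom.mem_ker]
    change ⁅(w : G), a⁆ = 1 ↔ _
    rw [commutatorElement_eq_one_iff_mul_comm]
    constructor
    · intro h
      refine mem_inf.mpr ⟨w.2, mem_centralizer_iff.mpr fun y hy => ?_⟩
      obtain ⟨n, rfl⟩ := mem_zpowers_iff.mp hy
      exact ((show Commute (w : G) a from h).zpow_right n).symm.eq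
    · intro h
      exact (mem_centralizer_iff.mp (mem_inf.mp h).2 a (mem_zpowers a)).symm
  have hI : ∀ v ∈ V, ⁅v, a⁆ ∈ f.range := fun v hv => ⟨⟨v, hv⟩, rfl⟩
  have hrV : ∀ x ∈ f.range, x ∈ V := by
    rintro x ⟨w, rfl⟩
    exact comm_mem_of haV w.2 (mem_zpowers a)
  have hnI : ∀ g : G, g ∈ zpowers a → ∀ x ∈ f.range, g * x * g⁻¹ ∈ f.range := by
    rintro g hg x ⟨w, rfl⟩
    change g * ⁅(w : G), a⁆ * g⁻¹ ∈ _
    have hga : g * a * g⁻¹ = a := by
      obtain ⟨n, rfl⟩ := mem_zpowers_iff.mp hg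
      rw [((Commute.refl a).zpow_left n).eq]; group
    have : g * ⁅(w : G), a⁆ * g⁻¹ = ⁅g * (w : G) * g⁻¹, a⁆ := by
      calc g * ⁅(w : G), a⁆ * g⁻¹ = ⁅g * (w : G) * g⁻¹, g * a * g⁻¹⁆ := by
            simp only [_root_.commutatorElement_def]; group
        _ = _ := by rw [hga]
    rw [this]
    exact hI _ (conj_mem_of haV hg w.2)
  have hle : ⁅V, zpowers a⁆ = f.range := by
    apply le_antisymm
    · rw [commutator_le]
      intro v hv g hg
      have key : ∀ n : ℕ, ∀ v ∈ V, ⁅v, a ^ n⁆ ∈ f.range := by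
        intro n
        induction n with
        | zero => intro v _; simp
        | succ n ih =>
          intro v hv
          have : ⁅v, a ^ (n + 1)⁆ = ⁅v, a⁆ * (a * ⁅v, a ^ n⁆ * a⁻¹) := by
            simp only [_root_.commutatorElement_def, pow_succ']; group
          rw [this]
          exact mul_mem (hI v hv) (hnI a (mem_zpowers a) _ (ih v hv))
      have : ∃ n : ℕ, g = a ^ n := by
        obtain ⟨n, hn⟩ := (isOfFinOrder_of_finite a).mem_powers_iff_mem_zpowers.mpr hg
        exact ⟨n, hn.symm⟩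
      obtain ⟨n, rfl⟩ := this
      exact key n v hv
    · rintro x ⟨w, rfl⟩
      exact commutator_mem_commutator w.2 (mem_zpowers a)
  refine ⟨?_, ?_⟩
  · rw [hle, relIndex, ← hker]
    exact Nat.card_congr (QuotientGroup.quotientKerEquivRange f).toEquiv.symm
  · rw [hle]
    rintro x ⟨w, rfl⟩
    exact ⟨w, w.2, rfl⟩

variable {p : ℕ} {V H : Subgroup G}

theorem exists_zpowers [Finite G] [hp : Fact p.Prime] {A : Subgroup G} (hA : Nat.card A = p) :
    ∃ a : G, A = zpowers a ∧ orderOf a = p := by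
  have h1 : A ≠ ⊥ := by
    rintro rfl
    rw [card_bot] at hA
    exact hp.out.one_lt.ne hA
  obtain ⟨a, haA, ha1⟩ := (bot_or_exists_ne_one A).resolve_left h1
  have h2 : orderOf a = p := by
    have : orderOf a ∣ p := hA ▸ (Subgroup.orderOf_dvd_natCard A haA)
    rcases (Nat.dvd_prime hp.out).mp this with h | h
    · exact absurd (orderOf_eq_one_iff.mp h) ha1
    · exact h
  refine ⟨a, (eq_of_le_of_card_ge (zpowers_le.mpr haA) ?_).symm, h2⟩
  rw [Nat.card_zpowers, h2, hA]

theorem _root_.Cfsg.Agent.Lib.FFB.FF.minOff_comm [Finite G] [hp : Fact p.Prime] (h : FF p V H) {A : Subgroup G} (hAH : A ≤ H)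
    (hA : MinOff p V A) : Nat.card (⁅V, A⁆ : Subgroup G) = p := by
  obtain ⟨h1, h2⟩ := h.minOff_card hAH hA
  obtain ⟨a, rfl, ha⟩ := exists_zpowers h1
  rw [(card_commutator_zpowers (ea_iff.mp h.hV).1 (h.hHV (hAH (mem_zpowers a)))).1, h2]

theorem best_bot [Finite G] : Cfsg.IsBestOffenderOn p V (⊥ : Subgroup G) := by
  refine ⟨fun B hB => by rw [le_bot_iff.mp hB], by simp, fun a ha => ?_⟩
  rw [mem_bot.mp ha, one_pow]; exact one_mem _

/-- a best offender is a direct product of minimal ones -/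
theorem _root_.Cfsg.Agent.Lib.FFB.FF.decomp [Finite G] [hp : Fact p.Prime] (h : FF p V H) (n : ℕ) :
    ∀ A : Subgroup G, Nat.card A ≤ n → A ≤ H → Cfsg.IsBestOffenderOn p V A →
    ∃ (k : ℕ) (B : Fin k → Subgroup G), (∀ i, B i ≤ A ∧ MinOff p V (B i)) ∧ iSupIndep B ∧ ⨆ i, B i = A := by
  induction n with
  | zero => intro A hA; exact absurd hA (by have := Nat.card_pos (α := A); omega)
  | succ n ih =>
    intro A hn hAH hA
    by_cases hA0 : A = ⊥
    · subst hA0
      exact ⟨0, fun i => ⊥, fun i => i.elim0, fun i => i.elim0, by simp⟩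
    · obtain ⟨E, hEA, hE⟩ := exists_minOff hA (fun h1 => hA0 ((h.eq_bot_iff' hAH).mp h1))
      have hEH := hEA.trans hAH
      have hE0 : E ≠ ⊥ := fun h1 => hE.2.1 ((h.eq_bot_iff' hEH).mpr h1)
      obtain ⟨B, hBA, hidx, hB, hEB, -⟩ := h.hyperplane hAH hA hEA hE0
      have hea := ea_iff.mp (h.ea hAH hA)
      have hcE := (h.minOff_card hEH hE).1
      have hcA : Nat.card B * p = Nat.card A := by rw [← hidx]; exact card_mul_relIndex hBA
      obtain ⟨e, rfl, heo⟩ := exists_zpowers hcE
      have heB : e ∉ B := fun h1 => hEB (zpowers_le.mpr h1)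
      have hinf : B ⊓ zpowers e = ⊥ := inf_zpowers_eq_bot (p := p) (by rw [← heo]; exact pow_orderOf_eq_one e) heB
      have hsup : B ⊔ zpowers e = A := by
        apply eq_of_le_of_card_ge (sup_le hBA hEA)
        have h1 := card_sup_mul_inf_of_comm hea.1 hBA hEA
        rw [hinf, card_bot, mul_one, hcE, hcA] at h1
        exact h1.ge
      obtain ⟨k, C, hC1, hC2, hC3⟩ := ih B (by
        have := Nat.card_pos (α := B)
        have : Nat.card B * 2 ≤ Nat.card A := by rw [← hcA]; exact Nat.mul_le_mul_left _ hp.out.two_le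
        omega) (hBA.trans hAH) hB
      refine ⟨k + 1, Fin.cons (zpowers e) C, ?_, ?_, ?_⟩
      · intro i
        refine Fin.cases ⟨hEA, hE⟩ (fun j => ?_) i
        rw [Fin.cons_succ]
        exact ⟨(hC1 j).1.trans hBA, (hC1 j).2⟩
      · intro i
        refine Fin.cases ?_ (fun j => ?_) i
        · rw [Fin.cons_zero, disjoint_iff, eq_bot_iff, ← hinf, inf_comm]
          refine inf_le_inf_right _ ?_
          refine iSup₂_le fun i hi => ?_
          obtain ⟨j, rfl⟩ := Fin.exists_succ_eq.mpr hi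
          rw [Fin.cons_succ]
          exact (hC1 j).1
        · rw [Fin.cons_succ, disjoint_iff, eq_bot_iff]
          have hle : (⨆ j', ⨆ (_ : j' ≠ j.succ), (Fin.cons (zpowers e) C : Fin (k + 1) → Subgroup G) j') ≤
              zpowers e ⊔ ⨆ j', ⨆ (_ : j' ≠ j), C j' := by
            refine iSup₂_le fun i hi => ?_
            by_cases hi0 : i = 0
            · subst hi0; rw [Fin.cons_zero]; exact le_sup_left
            · obtain ⟨j', rfl⟩ := Fin.exists_succ_eq.mpr hi0
              rw [Fin.cons_succ]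
              refine le_sup_of_le_right (le_iSup₂_of_le j' (fun h1 => hi (by rw [h1])) le_rfl)
          set R := ⨆ j', ⨆ (_ : j' ≠ j), C j' with hR
          have hRB : R ≤ B := iSup₂_le fun j' _ => (hC1 j').1
          refine (inf_le_inf_left _ hle).trans ?_
          rintro x ⟨hxC, hx⟩
          have hnorm : R ≤ normalizer (zpowers e : Set G) := fun x hx =>
            (centralizer_le_normalizer _) (mem_centralizer_iff.mpr fun y hy => hea.1 y (hEA hy) x (hBA (hRB hx)))
          obtain ⟨y, hy, r, hr, rfl⟩ := (mem_sup_iff_left hnorm).mp hx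
          have hyB : y ∈ B := by
            have : y = (y * r) * r⁻¹ := by group
            rw [this]
            exact mul_mem ((hC1 j).1 hxC) (inv_mem (hRB hr))
          have hy1 : y = 1 := by
            have : y ∈ B ⊓ zpowers e := ⟨hyB, hy⟩
            rwa [hinf, mem_bot] at this
          subst hy1
          rw [one_mul] at hxC ⊢
          have := (disjoint_iff.mp (hC2 j)).le ⟨hxC, hr⟩
          exact this
      · rw [← hsup, ← hC3, sup_comm]
        apply le_antisymm
        · refine iSup_le fun i => ?_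
          refine Fin.cases ?_ (fun j => ?_) i
          · rw [Fin.cons_zero]; exact le_sup_left
          · rw [Fin.cons_succ]; exact le_sup_of_le_right (le_iSup C j)
        · refine sup_le ?_ (iSup_le fun j => ?_)
          · exact (le_iSup (Fin.cons (zpowers e) C : Fin (k + 1) → Subgroup G) 0)
          · have := le_iSup (Fin.cons (zpowers e) C : Fin (k + 1) → Subgroup G) j.succ
            rwa [Fin.cons_succ] at this

end Cfsg.Agent.Lib.FFC
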