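import Mathlib
import Cfsg.Agent.Lib.QuadC
import Cfsg.Agent.Lib.SL2
import Cfsg.Agent.Lib.DickD
import Cfsg.Agent.Lib.CoprimeB

/-! Action on an elementary abelian group of order `p²`: matrices. -/

namespace Cfsg.Agent.Lib.PlaneA

open Subgroup Cfsg.Agent.Lib Cfsg.Agent.Lib.Basic Cfsg.Agent.Lib.ThompsonJ Cfsg.Agent.Lib.QuadA

open scoped commutatorElement Pointwise

universe u
variable {G : Type u} [Group G] {p : ℕ}

abbrev V2 (p : ℕ) := Fin 2 → ZMod p

theorem pow_val_add [hp : Fact p.Prime] {u : G} (hu : u ^ p = 1) (a b : ZMod p) : u ^ (a + b).val = u ^ a.val * u ^ b.val := by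
  rw [ZMod.val_add, ← pow_add]
  exact (pow_eq_pow_mod _ hu).symm

theorem pow_val_cast [hp : Fact p.Prime] {u : G} (hu : u ^ p = 1) (n : ℕ) : u ^ (n : ZMod p).val = u ^ n := by
  rw [ZMod.val_natCast]
  exact (pow_eq_pow_mod _ hu).symm

/-- the coordinate map -/
theorem exists_coord [Finite G] [hp : Fact p.Prime] {W : Subgroup G} (hW : Cfsg.IsElementaryAbelian p W)
    (hcard : Nat.card W = p ^ 2) {u v : G} (hu : u ∈ W) (hv : v ∈ W) (hu1 : u ≠ 1) (hvu : v ∉ zpowers u) :
    ∃ ψ : Multiplicative (V2 p) ≃* W, ∀ x : V2 p, (ψ (Multiplicative.ofAdd x) : G) = u ^ (x 0).val * v ^ (x 1).val := by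
  have hW' := ea_iff.mp hW
  have hup : u ^ p = 1 := hW'.2 u hu
  have hvp : v ^ p = 1 := hW'.2 v hv
  have hcomm : Commute u v := hW'.1 u hu v hv
  let f : Multiplicative (V2 p) →* W :=
    { toFun := fun x => ⟨u ^ ((Multiplicative.toAdd x) 0).val * v ^ ((Multiplicative.toAdd x) 1).val,
        W.mul_mem (W.pow_mem hu _) (W.pow_mem hv _)⟩
      map_one' := by
        apply Subtype.ext
        simp
      map_mul' := by
        intro x y
        apply Subtype.ext
        change u ^ (Multiplicative.toAdd x 0 + Multiplicative.toAdd y 0).val * v ^ (Multiplicative.toAdd x 1 + Multiplicative.toAdd y 1).val =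
          (u ^ (Multiplicative.toAdd x 0).val * v ^ (Multiplicative.toAdd x 1).val) *
          (u ^ (Multiplicative.toAdd y 0).val * v ^ (Multiplicative.toAdd y 1).val)
        rw [pow_val_add hup, pow_val_add hvp]
        exact Commute.mul_mul_mul_comm (hcomm.pow_pow _ _) _ _ }
  have hinj : Function.Injective f := by
    rw [injective_iff_map_eq_one]
    intro x hx
    have h1 : u ^ ((Multiplicative.toAdd x) 0).val * v ^ ((Multiplicative.toAdd x) 1).val = 1 := congrArg Subtype.val hx
    have hvi : v ^ ((Multiplicative.toAdd x) 1).val ∈ zpowers u ⊓ zpowers v := by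
      refine mem_inf.mpr ⟨?_, npow_mem_zpowers _ _⟩
      have : v ^ ((Multiplicative.toAdd x) 1).val = (u ^ ((Multiplicative.toAdd x) 0).val)⁻¹ := by
        rw [eq_inv_iff_mul_eq_one, ← h1]
        exact (hcomm.symm.pow_pow _ _).eq
      rw [this]
      exact inv_mem (npow_mem_zpowers _ _)
    have hinf : zpowers u ⊓ zpowers v = ⊥ := by
      have h2 : Nat.card (zpowers u ⊓ zpowers v : Subgroup G) ∣ Nat.card (zpowers v) := card_dvd_of_le inf_le_right
      have h3 : Nat.card (zpowers v) ∣ p := by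
        rw [Nat.card_zpowers]; exact orderOf_dvd_of_pow_eq_one hvp
      rcases (Nat.dvd_prime hp.out).mp (h2.trans h3) with h | h
      · exact card_eq_one.mp h
      · exfalso
        apply hvu
        have h4 : zpowers u ⊓ zpowers v = zpowers v := by
          apply eq_of_le_of_card_ge inf_le_right
          rw [h]; exact Nat.le_of_dvd hp.out.pos h3
        exact (inf_eq_right.mp h4) (mem_zpowers v)
    rw [hinf, mem_bot] at hvi
    have hv0 : (Multiplicative.toAdd x) 1 = 0 := by
      have h2 : orderOf v = p := orderOf_eq_prime hvp (fun h => hvu (h ▸ one_mem _))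
      have h3 : p ∣ ((Multiplicative.toAdd x) 1).val := h2.symm.dvd.trans (orderOf_dvd_of_pow_eq_one hvi)
      have h4 := Nat.eq_zero_of_dvd_of_lt h3 (ZMod.val_lt _)
      exact (ZMod.val_eq_zero _).mp h4
    rw [hvi, mul_one] at h1
    have hu0 : (Multiplicative.toAdd x) 0 = 0 := by
      have h2 : orderOf u = p := orderOf_eq_prime hup hu1
      have h3 : p ∣ ((Multiplicative.toAdd x) 0).val := h2.symm.dvd.trans (orderOf_dvd_of_pow_eq_one h1)
      have h4 := Nat.eq_zero_of_dvd_of_lt h3 (ZMod.val_lt _)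
      exact (ZMod.val_eq_zero _).mp h4
    change Multiplicative.toAdd x = 0
    funext i
    fin_cases i
    · exact hu0
    · exact hv0
  have hbij : Function.Bijective f := by
    refine (Nat.bijective_iff_injective_and_card f).mpr ⟨hinj, ?_⟩
    rw [hcard]
    simp [Nat.card_eq_fintype_card, ZMod.card]
  exact ⟨MulEquiv.ofBijective f hbij, fun x => rfl⟩

/-- the matrix of the action -/
theorem exists_rep [Finite G] [hp : Fact p.Prime] {W E : Subgroup G} (hW : Cfsg.IsElementaryAbelian p W)
    (hcard : Nat.card W = p ^ 2) {u v : G} (hu : u ∈ W) (hv : v ∈ W) (hu1 : u ≠ 1) (hvu : v ∉ zpowers u)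
    (hE : E ≤ normalizer (W : Set G)) :
    ∃ M : E →* Matrix (Fin 2) (Fin 2) (ZMod p),
      (∀ x : E, M x = 1 → (x : G) ∈ centralizer (W : Set G)) ∧
      (∀ (x : E) (a b c d : ℕ), (x : G) * u * (x : G)⁻¹ = u ^ a * v ^ c → (x : G) * v * (x : G)⁻¹ = u ^ b * v ^ d →
        M x = !![(a : ZMod p), (b : ZMod p); (c : ZMod p), (d : ZMod p)]) := by
  obtain ⟨ψ, hψ⟩ := exists_coord hW hcard hu hv hu1 hvu
  have hW' := ea_iff.mp hW
  have hup : u ^ p = 1 := hW'.2 u hu
  have hvp : v ^ p = 1 := hW'.2 v hv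
  let T : E → (V2 p →+ V2 p) := fun x =>
    { toFun := fun y => Multiplicative.toAdd (ψ.symm (CoprimeB.act hE x (ψ (Multiplicative.ofAdd y))))
      map_zero' := by simp
      map_add' := by intro y z; simp }
  have hT1 : ∀ (x y : E) (z : V2 p), T (x * y) z = T x (T y z) := by
    intro x y z
    change Multiplicative.toAdd (ψ.symm (CoprimeB.act hE (x * y) (ψ (Multiplicative.ofAdd z)))) =
      Multiplicative.toAdd (ψ.symm (CoprimeB.act hE x (ψ (ψ.symm (CoprimeB.act hE y (ψ (Multiplicative.ofAdd z)))))))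
    rw [MulEquiv.apply_symm_apply, map_mul]
    rfl
  have hT0 : ∀ z : V2 p, T 1 z = z := by
    intro z
    change Multiplicative.toAdd (ψ.symm (CoprimeB.act hE 1 (ψ (Multiplicative.ofAdd z)))) = z
    rw [map_one]
    change Multiplicative.toAdd (ψ.symm (ψ (Multiplicative.ofAdd z))) = z
    rw [MulEquiv.symm_apply_apply]; rfl
  have hTψ : ∀ (x : E) (z : V2 p), ((ψ (Multiplicative.ofAdd (T x z)) : W) : G) =
      (x : G) * (ψ (Multiplicative.ofAdd z) : G) * (x : G)⁻¹ := by
    intro x z
    change ((ψ (ψ.symm (CoprimeB.act hE x (ψ (Multiplicative.ofAdd z)))) : W) : G) = _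
    rw [MulEquiv.apply_symm_apply]; rfl
  let L : E → (V2 p →ₗ[ZMod p] V2 p) := fun x => (T x).toZModLinearMap p
  have hL : ∀ x z, L x z = T x z := fun x z => rfl
  refine ⟨⟨⟨fun x => LinearMap.toMatrix' (L x), ?_⟩, ?_⟩, ?_, ?_⟩
  · have : L 1 = LinearMap.id := by
      apply LinearMap.ext; intro z; exact hT0 z
    rw [this, LinearMap.toMatrix'_id]
  · intro x y
    change LinearMap.toMatrix' (L (x * y)) = LinearMap.toMatrix' (L x) * LinearMap.toMatrix' (L y)
    have : L (x * y) = (L x).comp (L y) := by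
      apply LinearMap.ext; intro z; exact hT1 x y z
    rw [this, LinearMap.toMatrix'_comp]
  · intro x hx
    change LinearMap.toMatrix' (L x) = 1 at hx
    have h1 : L x = LinearMap.id := by
      rw [← LinearMap.toMatrix'_id] at hx
      exact LinearMap.toMatrix'.injective hx
    refine mem_centralizer_iff.mpr fun w hw => ?_
    obtain ⟨z, hz⟩ := ψ.surjective ⟨w, hw⟩
    have h2 := hTψ x (Multiplicative.toAdd z)
    have h3 : T x (Multiplicative.toAdd z) = Multiplicative.toAdd z := by
      have := congrArg (fun f => f (Multiplicative.toAdd z)) h1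
      exact this
    rw [h3] at h2
    have h4 : (ψ (Multiplicative.ofAdd (Multiplicative.toAdd z)) : G) = w := congrArg Subtype.val hz
    rw [h4] at h2
    calc w * (x : G) = ((x : G) * w * (x : G)⁻¹) * x := by rw [← h2]
      _ = x * w := by group
  · intro x a b c d h1 h2
    change LinearMap.toMatrix' (L x) = _
    have e0 : ∀ a b : ℕ, (ψ (Multiplicative.ofAdd (![(a : ZMod p), (b : ZMod p)] : V2 p)) : G) = u ^ a * v ^ b := by
      intro a b
      rw [hψ]
      simp only [Matrix.cons_val_zero, Matrix.cons_val_one]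
      rw [pow_val_cast hup, pow_val_cast hvp]
    have e1 : T x (Pi.single 0 1) = ![(a : ZMod p), (c : ZMod p)] := by
      have h3 := hTψ x (Pi.single 0 1)
      have h4 : (ψ (Multiplicative.ofAdd (Pi.single 0 1 : V2 p)) : G) = u := by
        have : (Pi.single 0 1 : V2 p) = ![((1 : ℕ) : ZMod p), ((0 : ℕ) : ZMod p)] := by
          funext i; fin_cases i <;> simp
        rw [this, e0]; simp
      rw [h4, h1, ← e0] at h3
      exact ψ.injective (Subtype.ext h3)
    have e2 : T x (Pi.single 1 1) = ![(b : ZMod p), (d : ZMod p)] := by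
      have h3 := hTψ x (Pi.single 1 1)
      have h4 : (ψ (Multiplicative.ofAdd (Pi.single 1 1 : V2 p)) : G) = v := by
        have : (Pi.single 1 1 : V2 p) = ![((0 : ℕ) : ZMod p), ((1 : ℕ) : ZMod p)] := by
          funext i; fin_cases i <;> simp
        rw [this, e0]; simp
      rw [h4, h2, ← e0] at h3
      exact ψ.injective (Subtype.ext h3)
    ext i j
    rw [LinearMap.toMatrix'_apply]
    have hs : ∀ j : Fin 2, (fun j' => if j' = j then (1 : ZMod p) else 0) = Pi.single j 1 := by
      intro j; funext j'; simp [Pi.single_apply]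
    fin_cases j
    · have : L x (Pi.single 0 1) = ![(a : ZMod p), (c : ZMod p)] := e1
      fin_cases i <;> simp [this]
    · have : L x (Pi.single 1 1) = ![(b : ZMod p), (d : ZMod p)] := e2
      fin_cases i <;> simp [this]

/-- a group generated by elements of order `p`, acting faithfully on a plane, and containing two
transvections with different centers, is `SL₂(p)` -/
theorem exists_sl [Finite G] [hp : Fact p.Prime] {W E : Subgroup G} (hW : Cfsg.IsElementaryAbelian p W)
    (hcard : Nat.card W = p ^ 2) {u v : G} (hu : u ∈ W) (hv : v ∈ W) (hu1 : u ≠ 1) (hvu : v ∉ zpowers u)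
    (hE : E ≤ normalizer (W : Set G)) (hf : E ⊓ centralizer (W : Set G) = ⊥) (S : Set G) (hS : E = closure S)
    (hSp : ∀ s ∈ S, s ^ p = 1) {a b : G} (ha : a ∈ E) (hb : b ∈ E) {l m : ℕ} (hau : a * u * a⁻¹ = u)
    (hav : a * v * a⁻¹ = u ^ l * v) (hl : ¬ p ∣ l) (hbv : b * v * b⁻¹ = v) (hbu : b * u * b⁻¹ = u * v ^ m)
    (hm : ¬ p ∣ m) :
    Nonempty (E ≃* Matrix.SpecialLinearGroup (Fin 2) (ZMod p)) := by
  subst hS
  obtain ⟨M, hM1, hM2⟩ := exists_rep hW hcard hu hv hu1 hvu hE
  -- determinants
  have hdet : ∀ x : (Subgroup.closure S), (M x).det = 1 := by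
    let d : (Subgroup.closure S) →* ZMod p := (Matrix.detMonoidHom).comp M
    have hd : ∀ x : (Subgroup.closure S), (x : G) ∈ S → d x = 1 := by
      intro x hx
      have h1 : x ^ p = 1 := Subtype.ext (hSp x hx)
      have h2 : d x ^ p = 1 := by rw [← map_pow, h1, map_one]
      rwa [ZMod.pow_card] at h2
    have htop : d = 1 := by
      refine MonoidHom.eq_of_eqOn_dense (closure_preimage_eq_top S) ?_
      intro x hx
      exact hd x hx
    intro x
    have := DFunLike.congr_fun htop x
    exact this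
  let φ : (Subgroup.closure S) →* Matrix.SpecialLinearGroup (Fin 2) (ZMod p) :=
    { toFun := fun x => ⟨M x, hdet x⟩
      map_one' := Subtype.ext (by simp)
      map_mul' := fun x y => Subtype.ext (by
        change M (x * y) = M x * M y
        rw [map_mul]) }
  have hinj : Function.Injective φ := by
    rw [injective_iff_map_eq_one]
    intro x hx
    have h1 : M x = 1 := congrArg Subtype.val hx
    have h2 : (x : G) ∈ Subgroup.closure S ⊓ centralizer (W : Set G) := mem_inf.mpr ⟨x.2, hM1 x h1⟩
    rw [hf, mem_bot] at h2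
    exact Subtype.ext h2
  have hrange : φ.range = ⊤ := by
    have hal : φ ⟨a, ha⟩ = SL2.t ((l : ℕ) : ZMod p) := by
      apply Subtype.ext
      change M ⟨a, ha⟩ = _
      rw [hM2 ⟨a, ha⟩ 1 l 0 1 (by simpa using hau) (by simpa using hav)]
      simp [SL2.t]
    have hbm : φ ⟨b, hb⟩ = SL2.s ((m : ℕ) : ZMod p) := by
      apply Subtype.ext
      change M ⟨b, hb⟩ = _
      rw [hM2 ⟨b, hb⟩ 1 0 m 1 (by simpa using hbu) (by simpa using hbv)]
      simp [SL2.s]
    apply DickD.gen_zmod
    · refine ⟨⟨a, ha⟩ ^ (((l : ℕ) : ZMod p)⁻¹).val, ?_⟩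
      rw [map_pow, hal, SL2.t_pow]
      congr 1
      rw [ZMod.natCast_val, ZMod.cast_id', id, inv_mul_cancel₀]
      intro h
      exact hl ((ZMod.natCast_eq_zero_iff _ _).mp h)
    · refine ⟨⟨b, hb⟩ ^ (((m : ℕ) : ZMod p)⁻¹).val, ?_⟩
      have hs : ∀ (c : ZMod p) (n : ℕ), (SL2.s c) ^ n = SL2.s (n * c) := by
        intro c n
        induction n with
        | zero =>
          rw [pow_zero]
          apply Subtype.ext
          ext i j
          fin_cases i <;> fin_cases j <;> simp [SL2.s]
        | succ n ih =>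
          rw [pow_succ, ih]
          apply Subtype.ext
          rw [Matrix.SpecialLinearGroup.coe_mul]
          ext i j
          fin_cases i <;> fin_cases j <;> simp [SL2.s, Matrix.mul_apply, Fin.sum_univ_two, add_mul]
      rw [map_pow, hbm, hs]
      congr 1
      rw [ZMod.natCast_val, ZMod.cast_id', id, inv_mul_cancel₀]
      intro h
      exact hm ((ZMod.natCast_eq_zero_iff _ _).mp h)
  exact ⟨MulEquiv.ofBijective φ ⟨hinj, MonoidHom.range_eq_top.mp hrange⟩⟩

end Cfsg.Agent.Lib.PlaneA
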