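import Mathlib
import Cfsg.Agent.Lib.FFC
import Cfsg.Agent.Lib.PlaneA
import Cfsg.Agent.Lib.SLn

/-! Failure of factorization, part D: pairs of transvection groups. -/

namespace Cfsg.Agent.Lib.FFD

open Subgroup Cfsg.Agent.Lib Cfsg.Agent.Lib.Basic Cfsg.Agent.Lib.Cores Cfsg.Agent.Lib.Coprime
  Cfsg.Agent.Lib.CoprimeB Cfsg.Agent.Lib.ThompsonJ Cfsg.Agent.Lib.Quadratic Cfsg.Agent.Lib.QuadA
  Cfsg.Agent.Lib.QuadB Cfsg.Agent.Lib.PNilp Cfsg.Agent.Lib.FFA Cfsg.Agent.Lib.FFB Cfsg.Agent.Lib.FFC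

open scoped commutatorElement Pointwise

universe u
variable {G : Type u} [Group G]

/-- generators acting trivially on `V/U` -/
theorem comm_mem_of_gen [Finite G] {V U : Subgroup G} (hUV : U ≤ V) (S : Set G)
    (hs : ∀ s ∈ S, ∀ v ∈ V, ⁅v, s⁆ ∈ U) : ∀ g ∈ closure S, g ∈ normalizer (U : Set G) ∧ ∀ v ∈ V, ⁅v, g⁆ ∈ U := by
  have hn : ∀ g : G, (∀ v ∈ V, ⁅v, g⁆ ∈ U) → g ∈ normalizer (U : Set G) := by
    intro g hg
    have h1 : ∀ u ∈ U, g * u * g⁻¹ ∈ U := by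
      intro u hu
      have h2 := hg u⁻¹ (hUV (U.inv_mem hu))
      have : g * u * g⁻¹ = u * ⁅u⁻¹, g⁆ := by rw [_root_.commutatorElement_def]; group
      rw [this]; exact U.mul_mem hu h2
    rw [mem_normalizer_iff_conj_smul_eq]
    apply eq_of_le_of_card_ge
    · rintro _ ⟨x, hx, rfl⟩; exact h1 x hx
    · exact (Nat.card_congr (equivSMul (MulAut.conj g) U).toEquiv).le
  intro g hg
  have key : ∀ v ∈ V, ⁅v, g⁆ ∈ U := by
    refine closure_induction (p := fun g _ => ∀ v ∈ V, ⁅v, g⁆ ∈ U) hs ?_ ?_ ?_ hg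
    · intro v _; simp
    · intro x y _ _ hx hy v hv
      have : ⁅v, x * y⁆ = ⁅v, x⁆ * (x * ⁅v, y⁆ * x⁻¹) := by simp only [_root_.commutatorElement_def]; group
      rw [this]
      exact U.mul_mem (hx v hv) ((mem_normalizer_iff.mp (hn x hx) _).mp (hy v hv))
    · intro x _ hx v hv
      have : ⁅v, x⁻¹⁆ = (x⁻¹ * ⁅v, x⁆ * x)⁻¹ := by simp only [_root_.commutatorElement_def]; group
      rw [this]
      have h1 := (mem_normalizer_iff.mp ((normalizer (U : Set G)).inv_mem (hn x hx)) _).mp (hx v hv)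
      rw [inv_inv] at h1
      exact U.inv_mem h1
  exact ⟨hn g key, key⟩

theorem commutator_iSup_right [Finite G] {ι : Sort*} {V : Subgroup G} (X : ι → Subgroup G)
    (hX : ∀ i, X i ≤ normalizer (V : Set G)) : ⁅V, ⨆ i, X i⁆ = ⨆ i, ⁅V, X i⁆ := by
  apply le_antisymm
  · rw [commutator_le]
    intro v hv g hg
    have hle : (⨆ i, ⁅V, X i⁆) ≤ V := iSup_le fun i => commutator_le_of_normalizes (hX i)
    have h1 : (⨆ i, X i) = closure (⋃ i, (X i : Set G)) := by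
      rw [Subgroup.closure_iUnion]; simp
    rw [h1] at hg
    refine (comm_mem_of_gen hle _ ?_ g hg).2 v hv
    intro s hs v hv
    obtain ⟨i, hi⟩ := Set.mem_iUnion.mp hs
    exact (le_iSup (fun i => ⁅V, X i⁆) i) (commutator_mem_commutator hv hi)
  · exact iSup_le fun i => commutator_mono le_rfl (le_iSup X i)

theorem commutator_sup_right [Finite G] {V X Y : Subgroup G}
    (hX : X ≤ normalizer (V : Set G)) (hY : Y ≤ normalizer (V : Set G)) : ⁅V, X ⊔ Y⁆ = ⁅V, X⁆ ⊔ ⁅V, Y⁆ := by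
  rw [sup_eq_iSup, commutator_iSup_right _ (by rintro (_ | _) <;> assumption), sup_eq_iSup]
  congr 1
  funext b
  cases b <;> rfl

/-- a `p`-group centralizes a group of order `p` it normalizes -/
theorem centralizes_of_card [Finite G] {p : ℕ} [hp : Fact p.Prime] {U P : Subgroup G} (hU : Nat.card U = p)
    (hP : IsPGroup p P) (h : P ≤ normalizer (U : Set G)) : ⁅U, P⁆ = ⊥ := by
  have hUp : IsPGroup p U := IsPGroup.of_card (n := 1) (by rw [hU, pow_one])
  have hU0 : U ≠ ⊥ := by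
    rintro rfl
    rw [card_bot] at hU
    exact hp.out.one_lt.ne hU
  have h1 := commutator_lt_of_pgroup hUp hP h hU0
  have h2 : Nat.card (⁅U, P⁆ : Subgroup G) ∣ p := hU ▸ card_dvd_of_le h1.le
  rcases (Nat.dvd_prime hp.out).mp h2 with h3 | h3
  · exact card_eq_one.mp h3
  · exact absurd (card_lt_card_of_lt h1) (by rw [hU, h3]; exact lt_irrefl _)

theorem commutator_sup_le {K A : Subgroup G} (hAK : A ≤ normalizer (K : Set G)) (hA : ∀ x ∈ A, ∀ y ∈ A, x * y = y * x) :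
    ⁅K ⊔ A, K ⊔ A⁆ ≤ K := by
  have hn : ∀ g ∈ K ⊔ A, g ∈ normalizer (K : Set G) := fun g hg => (sup_le le_normalizer hAK) hg
  rw [commutator_le]
  intro x hx y hy
  obtain ⟨k, hk, a, ha, rfl⟩ := (mem_sup_iff_left hAK).mp hx
  obtain ⟨l, hl, b, hb, rfl⟩ := (mem_sup_iff_left hAK).mp hy
  -- k a l b a⁻¹ k⁻¹ b⁻¹ l⁻¹
  have e : ⁅k * a, l * b⁆ = k * (a * l * a⁻¹) * ((a * b) * (a⁻¹) * k⁻¹ * (a * b * a⁻¹)⁻¹) * l⁻¹ * (l * (a * b * a⁻¹ * b⁻¹) * l⁻¹) := by
    simp only [_root_.commutatorElement_def]; group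
  have e2 : a * b * a⁻¹ * b⁻¹ = 1 := by rw [hA a ha b hb]; group
  rw [e, e2]
  have h1 : a * l * a⁻¹ ∈ K := (mem_normalizer_iff.mp (hAK ha) l).mp hl
  have h2 : (a * b) * (a⁻¹) * k⁻¹ * (a * b * a⁻¹)⁻¹ ∈ K := by
    have h3 : a * b * a⁻¹ ∈ A := A.mul_mem (A.mul_mem ha hb) (A.inv_mem ha)
    exact (mem_normalizer_iff.mp (hAK h3) k⁻¹).mp (K.inv_mem hk)
  simp only [mul_one, mul_inv_cancel]
  exact K.mul_mem (K.mul_mem (K.mul_mem hk h1) h2) (K.inv_mem hl)

/-- if `H ≅ SL₂(p)` has a normal `p'`-subgroup containing `H'` then `p ≤ 3` -/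
theorem prime_of_sl {p : ℕ} [hp : Fact p.Prime] {H : Type u} [Group H] [Finite H]
    (e : H ≃* Matrix.SpecialLinearGroup (Fin 2) (ZMod p)) {N : Subgroup H} (hN : (Nat.card N).Coprime p)
    (hc : commutator H ≤ N) : p = 2 ∨ p = 3 := by
  by_contra hcon
  push Not at hcon
  have h4 : 4 ≤ Nat.card (ZMod p) := by
    rw [Nat.card_eq_fintype_card, ZMod.card]
    have := hp.out.two_le
    omega
  obtain ⟨a, ha, ha2⟩ := SLn.exists_sq_ne_one h4
  have h1 : commutator (Matrix.SpecialLinearGroup (Fin 2) (ZMod p)) = ⊤ := SLn.commutator_eq_top' ha ha2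
  have h2 : commutator H = ⊤ := by
    have h3 : (commutator H).map e.toMonoidHom = commutator (Matrix.SpecialLinearGroup (Fin 2) (ZMod p)) := by
      rw [_root_.commutator_def, Subgroup.map_commutator, map_top_of_surjective _ e.surjective]
      rfl
    rw [h1] at h3
    have := congrArg (Subgroup.comap e.toMonoidHom) h3
    rwa [comap_map_eq_self_of_injective e.injective, comap_top] at this
  rw [h2, top_le_iff] at hc
  subst hc
  rw [card_top, Nat.card_congr e.toEquiv, SL2.card_SL2_eq, ZMod.card] at hN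
  exact hp.out.one_lt.ne' (Nat.Coprime.eq_one_of_dvd (Nat.coprime_comm.mp hN) (Dvd.intro _ rfl))

/-- faithful and quadratic: `p`-elements -/
theorem pow_eq_one_of_quad {p : ℕ} {V H : Subgroup G} (hV : Cfsg.IsElementaryAbelian p V)
    (hHV : H ≤ normalizer (V : Set G)) (hf : H ⊓ centralizer (V : Set G) = ⊥) (hq : ⁅⁅V, H⁆, H⁆ = ⊥) {a : G}
    (ha : a ∈ H) : a ^ p = 1 := by
  have : a ^ p ∈ H ⊓ centralizer (V : Set G) := mem_inf.mpr ⟨H.pow_mem ha p, pow_mem_centralizer hV hHV hq ha⟩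
  rwa [hf, mem_bot] at this

theorem eq_bot_of_coprime_quad [Finite G] {p : ℕ} [hp : Fact p.Prime] {V L : Subgroup G} (hV : Cfsg.IsElementaryAbelian p V)
    (hLV : L ≤ normalizer (V : Set G)) (hf : L ⊓ centralizer (V : Set G) = ⊥) (hL : (Nat.card L).Coprime p)
    (hq : ⁅⁅V, L⁆, L⁆ = ⊥) : L = ⊥ := by
  rw [eq_bot_iff]
  intro x hx
  have h1 := pow_eq_one_of_quad hV hLV hf hq hx
  have h2 : orderOf x ∣ p := orderOf_dvd_of_pow_eq_one h1
  have h3 : (orderOf x).Coprime p := Nat.Coprime.coprime_dvd_left (Subgroup.orderOf_dvd_natCard L hx) hL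
  exact mem_bot.mpr (orderOf_eq_one_iff.mp (Nat.Coprime.eq_one_of_dvd h3 h2))

theorem pair_main [Finite G] {p : ℕ} [hp : Fact p.Prime] {V H₁ L : Subgroup G} (hV : Cfsg.IsElementaryAbelian p V)
    (hHV : H₁ ≤ normalizer (V : Set G)) (hf : H₁ ⊓ centralizer (V : Set G) = ⊥) {a b : G}
    (hH : H₁ = zpowers a ⊔ zpowers b) (hap : a ^ p = 1) (hbp : b ^ p = 1)
    (hca : Nat.card (⁅V, zpowers a⁆ : Subgroup G) = p) (hcb : Nat.card (⁅V, zpowers b⁆ : Subgroup G) = p)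
    (hL : L ≤ H₁) (hL0 : L ≠ ⊥) (hLn : H₁ ≤ normalizer (L : Set G)) (hLc : (Nat.card L).Coprime p) :
    Nat.card (⁅V, H₁⁆ : Subgroup G) = p ^ 2 ∧ ⁅V, L⁆ = ⁅V, H₁⁆ ∧ H₁ ⊓ centralizer ((⁅V, H₁⁆ : Subgroup G) : Set G) = ⊥ ∧
      V ⊓ centralizer (L : Set G) ≤ centralizer (H₁ : Set G) ∧
      ∃ (u v : G) (l m : ℕ), u ∈ ⁅V, H₁⁆ ∧ v ∈ ⁅V, H₁⁆ ∧ u ≠ 1 ∧ v ∉ zpowers u ∧ a * u * a⁻¹ = u ∧
        a * v * a⁻¹ = u ^ l * v ∧ ¬ p ∣ l ∧ b * v * b⁻¹ = v ∧ b * u * b⁻¹ = u * v ^ m ∧ ¬ p ∣ m := by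
  have hV' := ea_iff.mp hV
  have hA : zpowers a ≤ H₁ := hH ▸ le_sup_left
  have hB : zpowers b ≤ H₁ := hH ▸ le_sup_right
  have hAp : IsPGroup p (zpowers a) := QuadC.isPGroup_of_ea (QuadC.ea_zpowers hap)
  have hBp : IsPGroup p (zpowers b) := QuadC.isPGroup_of_ea (QuadC.ea_zpowers hbp)
  have hLf : L ⊓ centralizer (V : Set G) = ⊥ := le_bot_iff.mp (hf ▸ inf_le_inf_right _ hL)
  have hLV : L ≤ normalizer (V : Set G) := hL.trans hHV
  have hsup : ⁅V, H₁⁆ = ⁅V, zpowers a⁆ ⊔ ⁅V, zpowers b⁆ := by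
    rw [hH]; exact commutator_sup_right (hA.trans hHV) (hB.trans hHV)
  have hWV : ⁅V, H₁⁆ ≤ V := commutator_le_of_normalizes hHV
  have hLW : ⁅V, L⁆ ≤ ⁅V, H₁⁆ := commutator_mono le_rfl hL
  -- invariant subgroups of order `p` are centralized
  have hcent : ∀ X : Subgroup G, Nat.card X = p → H₁ ≤ normalizer (X : Set G) → ⁅X, H₁⁆ = ⊥ := by
    intro X hX hXn
    rw [commutator_eq_bot_iff_le_centralizer, le_centralizer_iff, hH]
    refine sup_le ?_ ?_
    · rw [← le_centralizer_iff, ← commutator_eq_bot_iff_le_centralizer]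
      exact centralizes_of_card hX hAp (hA.trans hXn)
    · rw [← le_centralizer_iff, ← commutator_eq_bot_iff_le_centralizer]
      exact centralizes_of_card hX hBp (hB.trans hXn)
  have hne : ⁅V, zpowers a⁆ ≠ ⁅V, zpowers b⁆ := by
    intro heq
    have hW : ⁅V, H₁⁆ = ⁅V, zpowers a⁆ := by rw [hsup, ← heq, sup_idem]
    have h1 := hcent _ (hW ▸ hca) (le_normalizer_commutator_right _ _)
    apply hL0
    refine eq_bot_of_coprime_quad hV hLV hLf hLc ?_
    rw [eq_bot_iff, ← h1]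
    exact commutator_mono hLW hL
  have hAV : ⁅V, zpowers a⁆ ≤ V := (commutator_mono le_rfl hA).trans hWV
  have hBV : ⁅V, zpowers b⁆ ≤ V := (commutator_mono le_rfl hB).trans hWV
  have hinf : ⁅V, zpowers a⁆ ⊓ ⁅V, zpowers b⁆ = ⊥ := by
    have h1 : Nat.card (⁅V, zpowers a⁆ ⊓ ⁅V, zpowers b⁆ : Subgroup G) ∣ p := by
      have := card_dvd_of_le (inf_le_left : ⁅V, zpowers a⁆ ⊓ ⁅V, zpowers b⁆ ≤ ⁅V, zpowers a⁆)
      rwa [hca] at this
    rcases (Nat.dvd_prime hp.out).mp h1 with h | h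
    · exact card_eq_one.mp h
    · exfalso
      apply hne
      have h2 : ⁅V, zpowers a⁆ ⊓ ⁅V, zpowers b⁆ = ⁅V, zpowers a⁆ :=
        eq_of_le_of_card_ge inf_le_left (by rw [h, hca])
      exact eq_of_le_of_card_ge (inf_eq_left.mp h2) (by rw [hca, hcb])
  have hcW : Nat.card (⁅V, H₁⁆ : Subgroup G) = p ^ 2 := by
    have h1 := card_sup_mul_inf_of_comm hV'.1 hAV hBV
    rw [hinf, card_bot, mul_one, hca, hcb, ← hsup] at h1
    rw [h1, sq]
  have hcopLV : (Nat.card L).Coprime (Nat.card V) := by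
    obtain ⟨n, hn⟩ := card_dvd_of_ea hV
    rw [hn]; exact Nat.Coprime.pow_right _ hLc
  have hVc : IsMulCommutative V := hV.1
  -- `[V,L] = W`
  have hHL : H₁ ≤ normalizer ((⁅V, L⁆ : Subgroup G) : Set G) := CoprimeB.le_normalizer_commutator hHV hLn
  have hLW' : ⁅V, L⁆ = ⁅V, H₁⁆ := by
    have h1 : Nat.card (⁅V, L⁆ : Subgroup G) ∣ p ^ 2 := hcW ▸ card_dvd_of_le hLW
    obtain ⟨j, hj, hj2⟩ := (Nat.dvd_prime_pow hp.out).mp h1
    have hj0 : j ≠ 0 := by
      rintro rfl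
      rw [pow_zero, card_eq_one] at hj2
      apply hL0
      refine eq_bot_of_coprime_quad hV hLV hLf hLc ?_
      rw [hj2, commutator_bot_left]
    have hj1 : j ≠ 1 := by
      rintro rfl
      rw [pow_one] at hj2
      have h2 := hcent _ hj2 hHL
      apply hL0
      refine eq_bot_of_coprime_quad hV hLV hLf hLc ?_
      rw [eq_bot_iff, ← h2]
      exact commutator_mono le_rfl hL
    have hj3 : j = 2 := by omega
    exact eq_of_le_of_card_ge hLW (by rw [hj2, hj3, hcW])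
  have hsplit := abelian_sup_eq hVc hLV hcopLV
  have hsplit' := abelian_inf_eq_bot hVc hLV hcopLV
  have hCL : H₁ ≤ normalizer ((V ⊓ centralizer (L : Set G) : Subgroup G) : Set G) :=
    le_normalizer_inf hHV (fun x hx => normalizer_centralizer_le (hLn hx))
  have hC1 : ⁅V ⊓ centralizer (L : Set G), H₁⁆ = ⊥ := by
    rw [eq_bot_iff, ← hsplit', hLW']
    exact le_inf (commutator_le_of_normalizes hCL) (commutator_mono inf_le_left le_rfl)
  have hC2 : V ⊓ centralizer (L : Set G) ≤ centralizer (H₁ : Set G) := commutator_eq_bot_iff_le_centralizer.mp hC1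
  have hfW : H₁ ⊓ centralizer ((⁅V, H₁⁆ : Subgroup G) : Set G) = ⊥ := by
    rw [eq_bot_iff, ← hf]
    refine le_inf inf_le_left ?_
    rw [le_centralizer_iff]
    conv_lhs => rw [← hsplit]
    refine sup_le ?_ ?_
    · exact hC2.trans (centralizer_le inf_le_left)
    · rw [hLW', ← le_centralizer_iff]; exact inf_le_right
  refine ⟨hcW, hLW', hfW, hC2, ?_⟩
  -- basis
  obtain ⟨u, hu, huo⟩ := exists_zpowers hca
  obtain ⟨v, hv, hvo⟩ := exists_zpowers hcb
  have hup : u ^ p = 1 := by rw [← huo]; exact pow_orderOf_eq_one u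
  have hvp : v ^ p = 1 := by rw [← hvo]; exact pow_orderOf_eq_one v
  have hu1 : u ≠ 1 := by
    rintro rfl; rw [orderOf_one] at huo; exact hp.out.one_lt.ne huo
  have hv1 : v ≠ 1 := by
    rintro rfl; rw [orderOf_one] at hvo; exact hp.out.one_lt.ne hvo
  have huA : u ∈ ⁅V, zpowers a⁆ := hu ▸ mem_zpowers u
  have hvB : v ∈ ⁅V, zpowers b⁆ := hv ▸ mem_zpowers v
  have huW : u ∈ ⁅V, H₁⁆ := (commutator_mono le_rfl hA) huA
  have hvW : v ∈ ⁅V, H₁⁆ := (commutator_mono le_rfl hB) hvB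
  have hvu : v ∉ zpowers u := by
    intro h
    have : v ∈ ⁅V, zpowers a⁆ ⊓ ⁅V, zpowers b⁆ := mem_inf.mpr ⟨hu ▸ h, hvB⟩
    rw [hinf, mem_bot] at this
    exact hv1 this
  have hau : a * u * a⁻¹ = u := by
    have h1 := centralizes_of_card hca hAp (le_normalizer_commutator_right _ _)
    have h2 := commutator_mem_commutator huA (mem_zpowers a) (H₁ := ⁅V, zpowers a⁆) (H₂ := zpowers a)
    rw [h1, mem_bot, commutatorElement_eq_one_iff_mul_comm] at h2
    rw [← h2]; group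
  have hbv : b * v * b⁻¹ = v := by
    have h1 := centralizes_of_card hcb hBp (le_normalizer_commutator_right _ _)
    have h2 := commutator_mem_commutator hvB (mem_zpowers b) (H₁ := ⁅V, zpowers b⁆) (H₂ := zpowers b)
    rw [h1, mem_bot, commutatorElement_eq_one_iff_mul_comm] at h2
    rw [← h2]; group
  have hpw : ∀ x y : G, y ∈ zpowers x → ∃ n : ℕ, y = x ^ n := by
    intro x y hy
    obtain ⟨n, hn⟩ := (isOfFinOrder_of_finite x).mem_powers_iff_mem_zpowers.mpr hy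
    exact ⟨n, hn.symm⟩
  obtain ⟨l, hl⟩ : ∃ l : ℕ, a * v * a⁻¹ = u ^ l * v := by
    have h1 : ⁅v, a⁆⁻¹ ∈ zpowers u := by
      rw [← hu]; exact inv_mem (commutator_mem_commutator (hBV hvB) (mem_zpowers a))
    obtain ⟨n, hn⟩ := hpw _ _ h1
    refine ⟨n, ?_⟩
    rw [← hn, _root_.commutatorElement_def]; group
  obtain ⟨m, hm⟩ : ∃ m : ℕ, b * u * b⁻¹ = u * v ^ m := by
    have h1 : ⁅u, b⁆⁻¹ ∈ zpowers v := by
      rw [← hv]; exact inv_mem (commutator_mem_commutator (hAV huA) (mem_zpowers b))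
    obtain ⟨n, hn⟩ := hpw _ _ h1
    refine ⟨n, ?_⟩
    have h2 : u * v ^ n = v ^ n * u := hV'.1 _ (hAV huA) _ (V.pow_mem (hBV hvB) n)
    rw [h2, ← hn, _root_.commutatorElement_def]; group
  have hWuv : ∀ g : G, g ∈ H₁ → g * u = u * g → g * v = v * g → g = 1 := by
    intro g hg h1 h2
    have : g ∈ H₁ ⊓ centralizer ((⁅V, H₁⁆ : Subgroup G) : Set G) := by
      refine mem_inf.mpr ⟨hg, ?_⟩
      have h3 : ⁅V, H₁⁆ ≤ centralizer ({g} : Set G) := by
        rw [hsup]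
        refine sup_le ?_ ?_
        · rw [hu, zpowers_le]; exact mem_centralizer_singleton_iff.mpr h1.symm
        · rw [hv, zpowers_le]; exact mem_centralizer_singleton_iff.mpr h2.symm
      exact mem_centralizer_iff.mpr fun y hy => mem_centralizer_singleton_iff.mp (h3 hy)
    rwa [hfW, mem_bot] at this
  have ha1 : a ≠ 1 := by
    rintro rfl
    rw [zpowers_one_eq_bot, commutator_bot_right, card_bot] at hca
    exact hp.out.one_lt.ne hca
  have hb1 : b ≠ 1 := by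
    rintro rfl
    rw [zpowers_one_eq_bot, commutator_bot_right, card_bot] at hcb
    exact hp.out.one_lt.ne hcb
  refine ⟨u, v, l, m, huW, hvW, hu1, hvu, hau, hl, ?_, hbv, hm, ?_⟩
  · intro hpl
    apply ha1
    refine hWuv a (hA (mem_zpowers a)) (by rw [mul_inv_eq_iff_eq_mul] at hau; exact hau) ?_
    have : u ^ l = 1 := by
      obtain ⟨k, rfl⟩ := hpl
      rw [pow_mul, hup, one_pow]
    rw [this, one_mul, mul_inv_eq_iff_eq_mul] at hl
    exact hl
  · intro hpm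
    apply hb1
    refine hWuv b (hB (mem_zpowers b)) ?_ (by rw [mul_inv_eq_iff_eq_mul] at hbv; exact hbv)
    have : v ^ m = 1 := by
      obtain ⟨k, rfl⟩ := hpm
      rw [pow_mul, hvp, one_pow]
    rw [this, mul_one, mul_inv_eq_iff_eq_mul] at hm
    exact hm

end Cfsg.Agent.Lib.FFD
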