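import Mathlib
import Cfsg.Agent.Lib.FFD

/-! Failure of factorization, part E: two conjugate minimal offenders. -/

namespace Cfsg.Agent.Lib.FFE

open Subgroup Cfsg.Agent.Lib Cfsg.Agent.Lib.Basic Cfsg.Agent.Lib.Cores Cfsg.Agent.Lib.Coprime
  Cfsg.Agent.Lib.CoprimeB Cfsg.Agent.Lib.ThompsonJ Cfsg.Agent.Lib.Quadratic Cfsg.Agent.Lib.QuadA
  Cfsg.Agent.Lib.QuadB Cfsg.Agent.Lib.PNilp Cfsg.Agent.Lib.FFA Cfsg.Agent.Lib.FFB Cfsg.Agent.Lib.FFC
  Cfsg.Agent.Lib.FFD

open scoped commutatorElement Pointwise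

universe u
variable {G : Type u} [Group G] {p : ℕ} {V H : Subgroup G}

theorem smul_centralizer (y : G) (A : Subgroup G) :
    MulAut.conj y • centralizer (A : Set G) = centralizer ((MulAut.conj y • A : Subgroup G) : Set G) := by
  ext x
  rw [mem_pointwise_smul_iff_inv_smul_mem]
  constructor
  · intro h
    refine mem_centralizer_iff.mpr fun z hz => ?_
    have hz' : (MulAut.conj y)⁻¹ • z ∈ A := mem_pointwise_smul_iff_inv_smul_mem.mp hz
    have h1 := mem_centralizer_iff.mp h _ hz'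
    rw [← smul_mul', ← smul_mul'] at h1
    exact smul_left_cancel _ h1
  · intro h
    refine mem_centralizer_iff.mpr fun z hz => ?_
    have h1 := mem_centralizer_iff.mp h (MulAut.conj y • z) (smul_mem_pointwise_smul z _ _ hz)
    have h2 : MulAut.conj y • (z * ((MulAut.conj y)⁻¹ • x)) = MulAut.conj y • (((MulAut.conj y)⁻¹ • x) * z) := by
      rw [smul_mul', smul_mul', smul_inv_smul]; exact h1
    exact smul_left_cancel _ h2

theorem smul_inf_centralizer {y : G} (hy : y ∈ normalizer (V : Set G)) (A : Subgroup G) :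
    MulAut.conj y • (V ⊓ centralizer (A : Set G)) = V ⊓ centralizer ((MulAut.conj y • A : Subgroup G) : Set G) := by
  rw [smul_inf, smul_centralizer, conj_smul_eq_of_mem_normalizer hy]

theorem card_smul (y : G) (A : Subgroup G) : Nat.card (MulAut.conj y • A : Subgroup G) = Nat.card A :=
  (Nat.card_congr (equivSMul (MulAut.conj y) A).toEquiv).symm

theorem smul_commutator (y : G) (A B : Subgroup G) :
    MulAut.conj y • ⁅A, B⁆ = ⁅MulAut.conj y • A, MulAut.conj y • B⁆ :=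
  map_commutator A B (MulAut.conj y).toMonoidHom

theorem best_smul {A : Subgroup G} {y : G} (hy : y ∈ normalizer (V : Set G)) (hA : Cfsg.IsBestOffenderOn p V A) :
    Cfsg.IsBestOffenderOn p V (MulAut.conj y • A) := by
  have hV := conj_smul_eq_of_mem_normalizer hy
  have hcV : MulAut.conj y • centralizer (V : Set G) = centralizer (V : Set G) := by rw [smul_centralizer, hV]
  refine ⟨?_, ?_, ?_⟩
  · intro B hB
    have h1 := hA.1 ((MulAut.conj y)⁻¹ • B) (by rwa [← subset_pointwise_smul_iff])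
    have hBe : B = MulAut.conj y • ((MulAut.conj y)⁻¹ • B) := by rw [smul_inv_smul]
    rw [hBe, ← smul_inf_centralizer hy, card_smul, card_smul, ← smul_inf_centralizer hy, card_smul, card_smul]
    exact h1
  · rw [← smul_commutator, ← hcV]
    exact pointwise_smul_le_pointwise_smul_iff.mpr hA.2.1
  · rintro _ ⟨a, ha, rfl⟩
    have h1 := hA.2.2 a ha
    rw [← hcV]
    change (MulAut.conj y • a) ^ p ∈ _
    rw [← smul_pow']
    exact smul_mem_pointwise_smul _ _ _ h1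

theorem minOff_smul {A : Subgroup G} {y : G} (hy : y ∈ normalizer (V : Set G)) (hA : MinOff p V A) :
    MinOff p V (MulAut.conj y • A) := by
  have hV := conj_smul_eq_of_mem_normalizer hy
  refine ⟨best_smul hy hA.1, ?_, ?_⟩
  · intro h
    apply hA.2.1
    have : ⁅V, MulAut.conj y • A⁆ = MulAut.conj y • ⁅V, A⁆ := by rw [smul_commutator, hV]
    rw [this] at h
    rwa [← smul_bot (MulAut.conj y), smul_left_cancel_iff] at h
  · intro B hB h1 h2
    have hBe : B = MulAut.conj y • ((MulAut.conj y)⁻¹ • B) := by rw [smul_inv_smul]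
    have hy' : y⁻¹ ∈ normalizer (V : Set G) := inv_mem hy
    have h3 : (MulAut.conj y)⁻¹ • B = A := by
      refine hA.2.2 _ (by rwa [← subset_pointwise_smul_iff]) ?_ ?_
      · rw [← map_inv]; exact best_smul hy' h1
      · intro h
        apply h2
        rw [hBe]
        have : ⁅V, MulAut.conj y • ((MulAut.conj y)⁻¹ • B)⁆ = MulAut.conj y • ⁅V, (MulAut.conj y)⁻¹ • B⁆ := by
          rw [smul_commutator, hV]
        rw [this, h, smul_bot]
    rw [hBe, h3]

theorem map_conj_eq_smul (y : G) (A : Subgroup G) : A.map (MulAut.conj y).toMonoidHom = MulAut.conj y • A := rfl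

/-- two conjugate minimal offenders -/
theorem _root_.Cfsg.Agent.Lib.FFB.FF.pair [Finite G] [hp : Fact p.Prime] (h : FF p V H) {A : Subgroup G} (hAH : A ≤ H)
    (hA : MinOff p V A) {x : G} (hx : x ∈ KK p H) (hxA : x ∉ centralizer (A : Set G)) :
    A ⊔ MulAut.conj x • A ≤ H ∧ (p = 2 ∨ p = 3) ∧ Nat.card (⁅V, A ⊔ MulAut.conj x • A⁆ : Subgroup G) = p ^ 2 ∧
      (A ⊔ MulAut.conj x • A) ⊓ centralizer ((⁅V, A ⊔ MulAut.conj x • A⁆ : Subgroup G) : Set G) = ⊥ ∧
      Nonempty (↥(A ⊔ MulAut.conj x • A) ≃* Matrix.SpecialLinearGroup (Fin 2) (ZMod p)) ∧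
      ⁅V, (A ⊔ MulAut.conj x • A) ⊓ KK p H⁆ = ⁅V, A ⊔ MulAut.conj x • A⁆ ∧
      ∃ (a u v : G) (l m : ℕ), a ∈ A ∧ u ∈ ⁅V, A ⊔ MulAut.conj x • A⁆ ∧ v ∈ ⁅V, A ⊔ MulAut.conj x • A⁆ ∧ u ≠ 1 ∧ v ∉ zpowers u ∧
        a * u * a⁻¹ = u ∧ a * v * a⁻¹ = u ^ l * v ∧ ¬ p ∣ l ∧ (x * a * x⁻¹) * v * (x * a * x⁻¹)⁻¹ = v ∧
        (x * a * x⁻¹) * u * (x * a * x⁻¹)⁻¹ = u * v ^ m ∧ ¬ p ∣ m := by
  obtain ⟨hc1, hc2⟩ := h.minOff_card hAH hA
  have hxH : x ∈ H := KK_le hx
  have hxV := h.hHV hxH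
  have hA' : MinOff p V (MulAut.conj x • A) := minOff_smul hxV hA
  have hA'H : MulAut.conj x • A ≤ H := by
    rintro _ ⟨y, hy, rfl⟩
    exact H.mul_mem (H.mul_mem hxH (hAH hy)) (H.inv_mem hxH)
  have hca := h.minOff_comm hAH hA
  have hcb := h.minOff_comm hA'H hA'
  have hle : A ⊔ MulAut.conj x • A ≤ H := sup_le hAH hA'H
  obtain ⟨a, rfl, hao⟩ := exists_zpowers hc1
  have hconj : MulAut.conj x • zpowers a = zpowers (x * a * x⁻¹) := by
    rw [← map_conj_eq_smul, MonoidHom.map_zpowers]; rfl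
  have hap : a ^ p = 1 := by rw [← hao]; exact pow_orderOf_eq_one a
  have hbp : (x * a * x⁻¹) ^ p = 1 := by rw [conj_pow, hap]; group
  rw [hconj] at hcb hle ⊢
  set H₁ := zpowers a ⊔ zpowers (x * a * x⁻¹) with hH₁
  have hf : H₁ ⊓ centralizer (V : Set G) = ⊥ := le_bot_iff.mp (h.hf ▸ inf_le_inf_right _ hle)
  have hKa : ∀ k ∈ KK p H, a * k * a⁻¹ ∈ KK p H := fun k hk =>
    (mem_normalizer_iff.mp (KK_normal (hAH (mem_zpowers a))) k).mp hk
  have hk : x * a * x⁻¹ * a⁻¹ ∈ H₁ ⊓ KK p H := by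
    refine mem_inf.mpr ⟨H₁.mul_mem (mem_sup_right (mem_zpowers _)) (H₁.inv_mem (mem_sup_left (mem_zpowers a))), ?_⟩
    have : x * a * x⁻¹ * a⁻¹ = x * (a * x⁻¹ * a⁻¹) := by group
    rw [this]
    exact (KK p H).mul_mem hx (hKa _ ((KK p H).inv_mem hx))
  have hL0 : H₁ ⊓ KK p H ≠ ⊥ := by
    intro h0
    rw [h0, mem_bot] at hk
    apply hxA
    have h1 : x * a = a * x := by
      calc x * a = (x * a * x⁻¹ * a⁻¹) * a * x := by group
        _ = a * x := by rw [hk, one_mul]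
    refine mem_centralizer_iff.mpr fun y hy => ?_
    obtain ⟨n, rfl⟩ := mem_zpowers_iff.mp hy
    exact ((show Commute x a from h1).zpow_right n).symm.eq
  have hLn : H₁ ≤ normalizer ((H₁ ⊓ KK p H : Subgroup G) : Set G) := le_normalizer_inf le_normalizer (hle.trans KK_normal)
  have hLc : (Nat.card (H₁ ⊓ KK p H : Subgroup G)).Coprime p :=
    Nat.Coprime.coprime_dvd_left (card_dvd_of_le inf_le_right) KK_coprime
  obtain ⟨hW1, hW2, hW3, hW4, u, v, l, m, hu, hv, hu1, hvu, hau, hav, hl, hbv, hbu, hm⟩ :=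
    pair_main h.hV (hle.trans h.hHV) hf hH₁ hap hbp hca hcb inf_le_left hL0 hLn hLc
  have hWV : ⁅V, H₁⁆ ≤ V := commutator_le_of_normalizes (hle.trans h.hHV)
  have hsl : Nonempty (↥H₁ ≃* Matrix.SpecialLinearGroup (Fin 2) (ZMod p)) := by
    refine PlaneA.exists_sl (ea_mono h.hV hWV) hW1 hu hv hu1 hvu (le_normalizer_commutator_right _ _) hW3
      {a, x * a * x⁻¹} ?_ ?_ (mem_sup_left (mem_zpowers a)) (mem_sup_right (mem_zpowers _)) hau hav hl hbv hbu hm
    · rw [hH₁, zpowers_eq_closure, zpowers_eq_closure, ← Subgroup.closure_union]; rfl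
    · rintro s (rfl | rfl)
      · exact hap
      · exact hbp
  refine ⟨hle, ?_, hW1, hW3, hsl, hW2, a, u, v, l, m, mem_zpowers a, hu, hv, hu1, hvu, hau, hav, hl, hbv, hbu, hm⟩
  obtain ⟨e⟩ := hsl
  refine prime_of_sl e (N := (H₁ ⊓ KK p H).subgroupOf H₁) ?_ ?_
  · have : Nat.card ((H₁ ⊓ KK p H).subgroupOf H₁) = Nat.card (H₁ ⊓ KK p H : Subgroup G) :=
      Nat.card_congr (subgroupOfEquivOfLe inf_le_left).toEquiv
    rw [this]; exact hLc
  · have hH1 : H₁ ≤ KK p H ⊔ zpowers a := by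
      refine sup_le le_sup_right (zpowers_le.mpr ?_)
      have : x * a * x⁻¹ = (x * a * x⁻¹ * a⁻¹) * a := by group
      rw [this]
      exact mul_mem (mem_sup_left (mem_inf.mp hk).2) (mem_sup_right (mem_zpowers a))
    have hcomm : ∀ y ∈ zpowers a, ∀ z ∈ zpowers a, y * z = z * y := by
      intro y hy z hz
      obtain ⟨n, rfl⟩ := mem_zpowers_iff.mp hy
      obtain ⟨m, rfl⟩ := mem_zpowers_iff.mp hz
      exact ((Commute.refl a).zpow_zpow n m).eq
    have h1 : ⁅H₁, H₁⁆ ≤ KK p H := (commutator_mono hH1 hH1).trans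
      (commutator_sup_le ((zpowers_le.mpr (KK_normal (hAH (mem_zpowers a))))) hcomm)
    rw [_root_.commutator_def, commutator_le]
    intro y _ z _
    rw [mem_subgroupOf]
    refine mem_inf.mpr ⟨(⁅y, z⁆ : H₁).2, h1 ?_⟩
    exact commutator_mem_commutator y.2 z.2

end Cfsg.Agent.Lib.FFE
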