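import Mathlib
import Cfsg.Agent.Lib.FFE

/-! Failure of factorization, part F: the commutator of the `p'`-core with a minimal offender. -/

namespace Cfsg.Agent.Lib.FFF

open Subgroup Cfsg.Agent.Lib Cfsg.Agent.Lib.Basic Cfsg.Agent.Lib.Cores Cfsg.Agent.Lib.Coprime
  Cfsg.Agent.Lib.CoprimeB Cfsg.Agent.Lib.ThompsonJ Cfsg.Agent.Lib.Quadratic Cfsg.Agent.Lib.QuadA
  Cfsg.Agent.Lib.QuadB Cfsg.Agent.Lib.PNilp Cfsg.Agent.Lib.FFA Cfsg.Agent.Lib.FFB Cfsg.Agent.Lib.FFC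
  Cfsg.Agent.Lib.FFD Cfsg.Agent.Lib.FFE

open scoped commutatorElement Pointwise

universe u
variable {G : Type u} [Group G] {p : ℕ} {V H : Subgroup G}

/-- if all commutators `[x,a]` are `r`-elements then `[K,A]` is an `r`-group (coprime action) -/
theorem comm_isPGroup [Finite G] {A K : Subgroup G} (hAK : A ≤ normalizer (K : Set G))
    (hcop : (Nat.card A).Coprime (Nat.card K)) (hsolv : Group.IsSolvable A) {r : ℕ} [hr : Fact r.Prime]
    (hx : ∀ x ∈ K, ∀ a ∈ A, ∃ k : ℕ, ⁅x, a⁆ ^ r ^ k = 1) : IsPGroup r (⁅K, A⁆ : Subgroup G) := by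
  classical
  obtain ⟨R, hR⟩ := exists_invariant_sylow hAK hcop (Or.inl hsolv) r
  set R' : Subgroup G := (R : Subgroup K).map K.subtype with hR'
  have hR'p : IsPGroup r R' := R.2.map _
  -- `K = C_K(A) R`
  set C : Subgroup K := (centralizer (A : Set G)).subgroupOf K with hC
  have hidxR : ¬ r ∣ (R : Subgroup K).index := R.not_dvd_index
  have hidxC : ∀ t : ℕ, t.Prime → t ≠ r → ¬ t ∣ C.index := by
    intro t ht htr hdvd
    haveI : Fact t.Prime := ⟨ht⟩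
    obtain ⟨T, hT⟩ := exists_invariant_sylow hAK hcop (Or.inl hsolv) t
    have hTC : (T : Subgroup K) ≤ C := by
      intro x hxT
      rw [hC, mem_subgroupOf]
      refine mem_centralizer_iff.mpr fun a ha => ?_
      obtain ⟨k, hk⟩ := hx x x.2 a ha
      have hxT' : (x : G) ∈ (T : Subgroup K).map K.subtype := ⟨x, hxT, rfl⟩
      have h1 : ⁅(x : G), a⁆ ∈ (T : Subgroup K).map K.subtype := by
        have h2 : a * (x : G)⁻¹ * a⁻¹ ∈ (T : Subgroup K).map K.subtype :=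
          (mem_normalizer_iff.mp (hT ha) _).mp (inv_mem hxT')
        have : ⁅(x : G), a⁆ = x * (a * (x : G)⁻¹ * a⁻¹) := by rw [_root_.commutatorElement_def]; group
        rw [this]; exact mul_mem hxT' h2
      obtain ⟨j, hj⟩ := (T.2.map K.subtype) ⟨_, h1⟩
      have hj' : ⁅(x : G), a⁆ ^ t ^ j = 1 := congrArg Subtype.val hj
      have h3 : orderOf ⁅(x : G), a⁆ = 1 := by
        have h4 := orderOf_dvd_of_pow_eq_one hk
        have h5 := orderOf_dvd_of_pow_eq_one hj'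
        exact Nat.Coprime.eq_one_of_dvd (Nat.Coprime.coprime_dvd_left h4
          (Nat.Coprime.pow k j ((Nat.coprime_primes hr.out ht).mpr (Ne.symm htr)))) h5
      rw [orderOf_eq_one_iff, commutatorElement_eq_one_iff_mul_comm] at h3
      exact h3.symm
    exact T.not_dvd_index (hdvd.trans (index_dvd_of_le hTC))
  have hcopi : C.index.Coprime (R : Subgroup K).index := by
    refine Nat.Coprime.symm (Nat.coprime_of_dvd fun t ht h1 h2 => ?_)
    by_cases htr : t = r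
    · subst htr; exact hidxR h1
    · exact hidxC t ht htr h2
  have huniv := mul_eq_univ_of_coprime_index (Nat.Coprime.symm hcopi)
  -- conclude
  refine hR'p.to_le (commutator_le.mpr fun x hxK a ha => ?_)
  have h1 : (⟨x, hxK⟩ : K) ∈ ((R : Subgroup K) : Set K) * (C : Set K) := huniv ▸ Set.mem_univ _
  obtain ⟨y, hy, c, hc, hyc⟩ := h1
  have hyc' : (y : G) * (c : G) = x := congrArg Subtype.val hyc
  have hca : a * (c : G) = (c : G) * a := mem_centralizer_iff.mp (mem_subgroupOf.mp hc) a ha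
  have hyR : (y : G) ∈ R' := ⟨y, hy, rfl⟩
  have h2 : a * (y : G)⁻¹ * a⁻¹ ∈ R' := (mem_normalizer_iff.mp (hR ha) _).mp (inv_mem hyR)
  have : ⁅x, a⁆ = y * (a * (y : G)⁻¹ * a⁻¹) := by
    rw [← hyc', _root_.commutatorElement_def]
    calc (y : G) * c * a * ((y : G) * c)⁻¹ * a⁻¹ = y * (c * a) * (c : G)⁻¹ * (y : G)⁻¹ * a⁻¹ := by group
      _ = y * (a * c) * (c : G)⁻¹ * (y : G)⁻¹ * a⁻¹ := by rw [hca]
      _ = _ := by group
  rw [this]
  exact mul_mem hyR h2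

theorem pow_mem_of_sup {K A : Subgroup G} (hAK : A ≤ normalizer (K : Set G)) {n : ℕ} (hA : ∀ a ∈ A, a ^ n = 1) :
    ∀ y ∈ K ⊔ A, y ^ n ∈ K := by
  intro y hy
  obtain ⟨k, hk, a, ha, rfl⟩ := (mem_sup_iff_left hAK).mp hy
  have key : ∀ m : ℕ, ∃ k' ∈ K, (k * a) ^ m = k' * a ^ m := by
    intro m
    induction m with
    | zero => exact ⟨1, K.one_mem, by simp⟩
    | succ m ih =>
      obtain ⟨k', hk', h1⟩ := ih
      refine ⟨k * (a * k' * a⁻¹), K.mul_mem hk ((mem_normalizer_iff.mp (hAK ha) _).mp hk'), ?_⟩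
      rw [pow_succ', h1, pow_succ']; group
  obtain ⟨k', hk', h1⟩ := key n
  rw [h1, hA a ha, mul_one]; exact hk'

theorem _root_.Cfsg.Agent.Lib.FFB.FF.exists_not_mem [Finite G] [hp : Fact p.Prime] (h : FF p V H) {A : Subgroup G} (hAH : A ≤ H)
    (hA : MinOff p V A) : ∃ x ∈ KK p H, x ∉ centralizer (A : Set G) := by
  by_contra hcon
  push Not at hcon
  have h1 := h.inf_cent hAH (h.ea hAH hA.1)
  have h2 : A ≤ centralizer (KK p H : Set G) := le_centralizer_iff.mp hcon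
  have h3 : A = ⊥ := by rw [eq_bot_iff, ← h1]; exact le_inf le_rfl h2
  exact hA.2.1 ((h.eq_bot_iff' hAH).mpr h3)

/-- the prime `r` -/
theorem dvd_of_card {p r n : ℕ} (hpr : (p = 2 ∧ r = 3) ∨ (p = 3 ∧ r = 2)) (h1 : n ∣ p * (p ^ 2 - 1)) (h2 : n.Coprime p) :
    ∃ k, n = r ^ k := by
  rcases hpr with ⟨rfl, rfl⟩ | ⟨rfl, rfl⟩
  · have h3 : n ∣ 3 := by
      have : n ∣ 2 * 3 := by simpa using h1
      exact Nat.Coprime.dvd_of_dvd_mul_left h2 this
    obtain ⟨k, _, hk⟩ := (Nat.dvd_prime_pow Nat.prime_three).mp (show n ∣ 3 ^ 1 by simpa using h3)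
    exact ⟨k, hk⟩
  · have h3 : n ∣ 8 := by
      have : n ∣ 3 * 8 := by simpa using h1
      exact Nat.Coprime.dvd_of_dvd_mul_left h2 this
    obtain ⟨k, _, hk⟩ := (Nat.dvd_prime_pow Nat.prime_two).mp (show n ∣ 2 ^ 3 by simpa using h3)
    exact ⟨k, hk⟩

theorem _root_.Cfsg.Agent.Lib.FFB.FF.pair_isPGroup [Finite G] [hp : Fact p.Prime] (h : FF p V H) {A : Subgroup G} (hAH : A ≤ H)
    (hA : MinOff p V A) {x : G} (hx : x ∈ KK p H) (hxA : x ∉ centralizer (A : Set G)) {r : ℕ}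
    (hpr : (p = 2 ∧ r = 3) ∨ (p = 3 ∧ r = 2)) : IsPGroup r ↥((A ⊔ MulAut.conj x • A) ⊓ KK p H) := by
  obtain ⟨_, _, _, _, ⟨e⟩, _⟩ := h.pair hAH hA hx hxA
  have h1 : Nat.card ↥((A ⊔ MulAut.conj x • A) ⊓ KK p H) ∣ p * (p ^ 2 - 1) := by
    refine (card_dvd_of_le (inf_le_left (a := A ⊔ MulAut.conj x • A) (b := KK p H))).trans ?_
    rw [Nat.card_congr e.toEquiv, SL2.card_SL2_eq, ZMod.card]
  have h2 : (Nat.card ↥((A ⊔ MulAut.conj x • A) ⊓ KK p H)).Coprime p :=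
    Nat.Coprime.coprime_dvd_left (card_dvd_of_le inf_le_right) KK_coprime
  obtain ⟨k, hk⟩ := dvd_of_card hpr h1 h2
  exact IsPGroup.of_card hk

theorem _root_.Cfsg.Agent.Lib.FFB.FF.comm_pgroup [Finite G] [hp : Fact p.Prime] (h : FF p V H) {A : Subgroup G} (hAH : A ≤ H)
    (hA : MinOff p V A) {r : ℕ} [hr : Fact r.Prime]
    (hpr : (p = 2 ∧ r = 3) ∨ (p = 3 ∧ r = 2)) : IsPGroup r (⁅KK p H, A⁆ : Subgroup G) := by
  have hea := h.ea hAH hA.1
  have hcop : (Nat.card A).Coprime (Nat.card (KK p H)) := by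
    obtain ⟨n, hn⟩ := card_dvd_of_ea hea
    rw [hn]; exact Nat.Coprime.pow_left _ (Nat.Coprime.symm KK_coprime)
  refine comm_isPGroup (hAH.trans KK_normal) hcop (isSolvable_of_isPGroup (QuadC.isPGroup_of_ea hea)) ?_
  intro x hx a ha
  by_cases hxA : x ∈ centralizer (A : Set G)
  · refine ⟨0, ?_⟩
    have : ⁅x, a⁆ = 1 := commutatorElement_eq_one_iff_mul_comm.mpr (mem_centralizer_iff.mp hxA a ha).symm
    rw [this, one_pow]
  · have h1 := h.pair_isPGroup hAH hA hx hxA hpr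
    have h2 : ⁅x, a⁆ ∈ (A ⊔ MulAut.conj x • A) ⊓ KK p H := by
      refine mem_inf.mpr ⟨?_, ?_⟩
      · rw [_root_.commutatorElement_def]
        exact mul_mem (mem_sup_right ⟨a, ha, rfl⟩) (inv_mem (mem_sup_left ha))
      · have : ⁅x, a⁆ = x * (a * x⁻¹ * a⁻¹) := by rw [_root_.commutatorElement_def]; group
        rw [this]
        exact mul_mem hx ((mem_normalizer_iff.mp (KK_normal (hAH ha)) _).mp (inv_mem hx))
    obtain ⟨k, hk⟩ := h1 ⟨_, h2⟩
    exact ⟨k, congrArg Subtype.val hk⟩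

/-- `H₁ ∩ K ≤ [K,A]` -/
theorem _root_.Cfsg.Agent.Lib.FFB.FF.pair_le [Finite G] [hp : Fact p.Prime] (h : FF p V H) {A : Subgroup G} (hAH : A ≤ H)
    (hA : MinOff p V A) {x : G} (hx : x ∈ KK p H) :
    A ⊔ MulAut.conj x • A ≤ ⁅KK p H, A⁆ ⊔ A ∧ (A ⊔ MulAut.conj x • A) ⊓ KK p H ≤ ⁅KK p H, A⁆ := by
  have hAn : A ≤ normalizer ((⁅KK p H, A⁆ : Subgroup G) : Set G) := le_normalizer_commutator_right _ _
  have h1 : A ⊔ MulAut.conj x • A ≤ ⁅KK p H, A⁆ ⊔ A := by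
    refine sup_le le_sup_right ?_
    rintro _ ⟨a, ha, rfl⟩
    change x * a * x⁻¹ ∈ _
    have : x * a * x⁻¹ = ⁅x, a⁆ * a := by rw [_root_.commutatorElement_def]; group
    rw [this]
    exact mul_mem (mem_sup_left (commutator_mem_commutator hx ha)) (mem_sup_right ha)
  refine ⟨h1, ?_⟩
  have hDK : ⁅KK p H, A⁆ ≤ KK p H := commutator_le_of_normalizes (hAH.trans KK_normal)
  have hAK : A ⊓ KK p H = ⊥ := by
    obtain ⟨n, hn⟩ := card_dvd_of_ea (h.ea hAH hA.1)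
    apply eq_bot_of_card_coprime (n := p ^ n)
    · rw [← hn]; exact card_dvd_of_le inf_le_left
    · exact Nat.Coprime.pow_right _ (Nat.Coprime.coprime_dvd_left (card_dvd_of_le inf_le_right) KK_coprime)
  have h2 := sup_inf_assoc_of_le' hDK hAn
  rw [hAK, sup_bot_eq] at h2
  rw [h2]
  exact inf_le_inf_right _ h1

theorem sl23_noncomm {x : Type*} [Group x] (e : x ≃* Matrix.SpecialLinearGroup (Fin 2) (ZMod 3)) :
    ∃ i j : x, i ^ 4 = 1 ∧ j ^ 4 = 1 ∧ i * j ≠ j * i := by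
  let i₀ : Matrix.SpecialLinearGroup (Fin 2) (ZMod 3) := ⟨!![0, 1; -1, 0], by decide⟩
  let j₀ : Matrix.SpecialLinearGroup (Fin 2) (ZMod 3) := ⟨!![1, 1; 1, -1], by decide⟩
  refine ⟨e.symm i₀, e.symm j₀, ?_, ?_, ?_⟩
  · rw [← map_pow]
    have : i₀ ^ 4 = 1 := by decide
    rw [this, map_one]
  · rw [← map_pow]
    have : j₀ ^ 4 = 1 := by decide
    rw [this, map_one]
  · intro h
    rw [← map_mul, ← map_mul] at h
    have h1 := e.symm.injective h
    revert h1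
    decide

theorem _root_.Cfsg.Agent.Lib.FFB.FF.not_comm [Finite G] [hp : Fact p.Prime] (h : FF p V H) {A : Subgroup G} (hAH : A ≤ H)
    (hA : MinOff p V A) (hp3 : p = 3) : ¬ IsMulCommutative (⁅KK p H, A⁆ : Subgroup G) := by
  intro hcomm
  obtain ⟨x, hx, hxA⟩ := h.exists_not_mem hAH hA
  obtain ⟨hle, _, _, _, ⟨e⟩, _⟩ := h.pair hAH hA hx hxA
  subst hp3
  obtain ⟨i, j, hi, hj, hij⟩ := sl23_noncomm e
  have hea := ea_iff.mp (h.ea hAH hA.1)
  have hcube : ∀ y : ↥(A ⊔ MulAut.conj x • A), y ^ 4 = 1 → (y : G) ∈ ⁅KK 3 H, A⁆ := by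
    intro y hy
    have h1 : (y : G) ∈ KK 3 H ⊔ A := (sup_le_sup_right (commutator_le_of_normalizes (hAH.trans KK_normal)) A) ((h.pair_le hAH hA hx).1 y.2)
    have h2 := pow_mem_of_sup (hAH.trans KK_normal) hea.2 _ h1
    have h3 : (y : G) ^ 3 ∈ ⁅KK 3 H, A⁆ := (h.pair_le hAH hA hx).2 (mem_inf.mpr ⟨pow_mem y.2 3, h2⟩)
    have h4 : (y : G) ^ 4 = 1 := congrArg Subtype.val hy
    have h5 : (y : G) = ((y : G) ^ 3)⁻¹ := by
      rw [eq_inv_iff_mul_eq_one, ← pow_succ', h4]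
    rw [h5]; exact inv_mem h3
  apply hij
  have := hcomm.is_comm.comm ⟨(i : G), hcube i hi⟩ ⟨(j : G), hcube j hj⟩
  have h2 : (i : G) * (j : G) = (j : G) * (i : G) := congrArg Subtype.val this
  exact Subtype.ext h2

end Cfsg.Agent.Lib.FFF
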