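import Mathlib
import Cfsg.Agent.Lib.FFD
import Cfsg.Agent.Lib.FFE
import Cfsg.Agent.Lib.Subnorm

/-! Two subnormal subgroups irreducible on their commutators. -/

namespace Cfsg.Agent.Lib.FFG

open Subgroup Cfsg.Agent.Lib Cfsg.Agent.Lib.Basic Cfsg.Agent.Lib.Cores Cfsg.Agent.Lib.Coprime
  Cfsg.Agent.Lib.CoprimeB Cfsg.Agent.Lib.ThompsonJ Cfsg.Agent.Lib.Quadratic Cfsg.Agent.Lib.QuadA
  Cfsg.Agent.Lib.QuadB Cfsg.Agent.Lib.PNilp Cfsg.Agent.Lib.FFA Cfsg.Agent.Lib.FFB Cfsg.Agent.Lib.FFC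
  Cfsg.Agent.Lib.FFD Cfsg.Agent.Lib.FFE

open scoped commutatorElement Pointwise

universe u
variable {G : Type u} [Group G] {p : ℕ} {V : Subgroup G}

/-- irreducible on its commutator -/
structure Irr (p : ℕ) (V E : Subgroup G) : Prop where
  hV : Cfsg.IsElementaryAbelian p V
  hEV : E ≤ normalizer (V : Set G)
  hf : E ⊓ centralizer (V : Set G) = ⊥
  hOp : Cfsg.pCore p ↥E = ⊥
  hirr : ∀ U : Subgroup G, U ≤ ⁅V, E⁆ → E ≤ normalizer (U : Set G) → U = ⊥ ∨ U = ⁅V, E⁆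
  hc : 2 < Nat.card E

theorem Irr.quad [Finite G] [hp : Fact p.Prime] {E : Subgroup G} (h : Irr p V E) {S : Subgroup G} (hS : S ≤ E)
    (hSn : E ≤ normalizer (S : Set G)) (hq : ⁅⁅V, S⁆, S⁆ = ⊥) : S = ⊥ := by
  have h1 : ∀ a ∈ S, a ^ p = 1 := fun a ha =>
    pow_eq_one_of_quad h.hV (hS.trans h.hEV) (le_bot_iff.mp (h.hf ▸ inf_le_inf_right _ hS)) hq ha
  have h2 : (S.subgroupOf E).Normal := normal_subgroupOf_iff_le_normalizer hS |>.mpr hSn
  have h3 : IsPGroup p (S.subgroupOf E) := by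
    intro x
    refine ⟨1, ?_⟩
    apply Subtype.ext; apply Subtype.ext
    rw [pow_one]
    exact h1 _ (mem_subgroupOf.mp x.2)
  have h4 := le_pCore h2 h3
  rw [h.hOp, le_bot_iff, subgroupOf_eq_bot, disjoint_iff] at h4
  rwa [inf_eq_left.mpr hS] at h4

theorem Irr.ne_bot [Finite G] [hp : Fact p.Prime] {E : Subgroup G} (h : Irr p V E) : E ≠ ⊥ := by
  rintro rfl
  have := h.hc
  rw [card_bot] at this
  omega

theorem Irr.comm_le {E : Subgroup G} (h : Irr p V E) : ⁅V, E⁆ ≤ V := commutator_le_of_normalizes h.hEV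

theorem Irr.comm [Finite G] [hp : Fact p.Prime] {E : Subgroup G} (h : Irr p V E) : ⁅⁅V, E⁆, E⁆ = ⁅V, E⁆ := by
  have h1 : ⁅⁅V, E⁆, E⁆ ≤ ⁅V, E⁆ := commutator_mono h.comm_le le_rfl
  rcases h.hirr _ h1 (le_normalizer_commutator_right _ _) with h2 | h2
  · exact absurd (h.quad le_rfl le_normalizer h2) h.ne_bot
  · exact h2

theorem Irr.comm_ne [Finite G] [hp : Fact p.Prime] {E : Subgroup G} (h : Irr p V E) : ⁅V, E⁆ ≠ ⊥ := by
  intro h1
  exact h.ne_bot (h.quad le_rfl le_normalizer (by rw [h1, commutator_bot_left]))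

theorem Irr.cent [Finite G] [hp : Fact p.Prime] {E : Subgroup G} (h : Irr p V E) : ⁅V, E⁆ ⊓ centralizer (E : Set G) = ⊥ := by
  have h1 : E ≤ normalizer ((⁅V, E⁆ ⊓ centralizer (E : Set G) : Subgroup G) : Set G) :=
    le_normalizer_inf (le_normalizer_commutator_right _ _) (fun x hx => normalizer_centralizer_le (le_normalizer hx))
  rcases h.hirr _ inf_le_left h1 with h2 | h2
  · exact h2
  · exfalso
    have h3 : ⁅⁅V, E⁆, E⁆ = ⊥ := commutator_eq_bot_iff_le_centralizer.mpr (inf_eq_left.mp h2)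
    rw [h.comm] at h3
    exact h.comm_ne h3

theorem Irr.smul {E : Subgroup G} (h : Irr p V E) {g : G} (hg : g ∈ normalizer (V : Set G)) :
    Irr p V (MulAut.conj g • E) ∧ ⁅V, MulAut.conj g • E⁆ = MulAut.conj g • ⁅V, E⁆ := by
  have hV := conj_smul_eq_of_mem_normalizer hg
  have hcomm : ⁅V, MulAut.conj g • E⁆ = MulAut.conj g • ⁅V, E⁆ := by rw [smul_commutator, hV]
  have hcV : MulAut.conj g • centralizer (V : Set G) = centralizer (V : Set G) := by rw [smul_centralizer, hV]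
  have hn : ∀ U : Subgroup G, MulAut.conj g • E ≤ normalizer (U : Set G) → E ≤ normalizer (((MulAut.conj g)⁻¹ • U : Subgroup G) : Set G) := by
    intro U hU x hx
    have h1 := hU (smul_mem_pointwise_smul x (MulAut.conj g) E hx)
    rw [mem_normalizer_iff_conj_smul_eq] at h1 ⊢
    have h2 : MulAut.conj (MulAut.conj g • x) = MulAut.conj g * MulAut.conj x * (MulAut.conj g)⁻¹ := by
      rw [← map_inv, ← map_mul, ← map_mul]; rfl
    rw [h2, mul_smul, mul_smul] at h1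
    rw [eq_inv_smul_iff]
    exact h1
  refine ⟨⟨h.hV, ?_, ?_, ?_, ?_, ?_⟩, hcomm⟩
  · rintro _ ⟨x, hx, rfl⟩
    exact mul_mem (mul_mem hg (h.hEV hx)) (inv_mem hg)
  · rw [← hcV, ← smul_inf, h.hf, smul_bot]
  · exact pCore_eq_bot_of_equiv (equivSMul (MulAut.conj g) E) h.hOp
  · intro U hU hUn
    have h1 : (MulAut.conj g)⁻¹ • U ≤ ⁅V, E⁆ := by
      rw [hcomm] at hU
      rwa [← subset_pointwise_smul_iff]
    rcases h.hirr _ h1 (hn U hUn) with h2 | h2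
    · left
      rwa [inv_smul_eq_iff, smul_bot] at h2
    · right
      rw [hcomm, ← h2, smul_inv_smul]
  · rw [card_smul]; exact h.hc

theorem half [Finite G] [hp : Fact p.Prime] {E₁ E₂ : Subgroup G} (h1 : Irr p V E₁) (h2 : Irr p V E₂) {g : G} (hg : g ∈ E₂)
    (hI1 : ⁅V, E₁⁆ ⊓ MulAut.conj g • ⁅V, E₁⁆ = ⊥) (hI2 : ⁅MulAut.conj g • ⁅V, E₁⁆, E₁⁆ = ⊥) :
    Nat.card (⁅V, E₁⁆ : Subgroup G) ≤ Nat.card (⁅V, E₂⁆ : Subgroup G) ∧
      (Nat.card (⁅V, E₁⁆ : Subgroup G) = Nat.card (⁅V, E₂⁆ : Subgroup G) → ∀ x ∈ ⁅V, E₂⁆, ∃ v ∈ ⁅V, E₁⁆, x = ⁅v, g⁆) ∧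
      (E₁ ≤ normalizer ((⁅V, E₂⁆ : Subgroup G) : Set G) → ⁅V, E₁⁆ ≤ ⁅V, E₂⁆) := by
  have hV' := (ea_iff.mp h1.hV).1
  have hV1 := h1.comm_le
  have hgV := h2.hEV hg
  have hin : ∀ v ∈ ⁅V, E₁⁆, ⁅v, g⁆ ∈ ⁅V, E₂⁆ := fun v hv => commutator_mem_commutator (hV1 hv) hg
  have hconj : ∀ v ∈ ⁅V, E₁⁆, g * v * g⁻¹ ∈ MulAut.conj g • ⁅V, E₁⁆ := fun v hv => smul_mem_pointwise_smul v (MulAut.conj g) _ hv
  have hgv : ∀ v ∈ V, g * v * g⁻¹ ∈ V := fun v hv => (mem_normalizer_iff.mp hgV v).mp hv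
  let f : ↥(⁅V, E₁⁆ : Subgroup G) → ↥(⁅V, E₂⁆ : Subgroup G) := fun v => ⟨⁅(v : G), g⁆, hin v v.2⟩
  have hinj : Function.Injective f := by
    intro v w hvw
    have e : ⁅(v : G), g⁆ = ⁅(w : G), g⁆ := congrArg Subtype.val hvw
    rw [_root_.commutatorElement_def, _root_.commutatorElement_def] at e
    have e1 : (w : G)⁻¹ * v = g * ((w : G)⁻¹ * v) * g⁻¹ := by
      calc (w : G)⁻¹ * v = (w : G)⁻¹ * (v * g * (v : G)⁻¹ * g⁻¹) * (g * (v : G) * g⁻¹) := by group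
        _ = (w : G)⁻¹ * (w * g * (w : G)⁻¹ * g⁻¹) * (g * (v : G) * g⁻¹) := by rw [e]
        _ = _ := by group
    have hm : (w : G)⁻¹ * v ∈ ⁅V, E₁⁆ := mul_mem (inv_mem w.2) v.2
    have hm2 : (w : G)⁻¹ * v ∈ ⁅V, E₁⁆ ⊓ MulAut.conj g • ⁅V, E₁⁆ := by
      refine mem_inf.mpr ⟨hm, ?_⟩
      rw [e1]; exact hconj _ hm
    rw [hI1, mem_bot] at hm2
    apply Subtype.ext
    exact (inv_mul_eq_one.mp hm2).symm
  refine ⟨Nat.card_le_card_of_injective f hinj, ?_, ?_⟩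
  · intro hc x hx
    have hbij : Function.Bijective f := (Nat.bijective_iff_injective_and_card f).mpr ⟨hinj, hc⟩
    obtain ⟨v, hv⟩ := hbij.2 ⟨x, hx⟩
    exact ⟨v, v.2, (congrArg Subtype.val hv).symm⟩
  · intro hn
    rw [← h1.comm, commutator_le]
    intro v hv x hx
    have h3 : ⁅v, g⁆ ∈ ⁅V, E₂⁆ := hin v hv
    have h4 : x * ⁅v, g⁆⁻¹ * x⁻¹ ∈ ⁅V, E₂⁆ := (mem_normalizer_iff.mp (hn hx) _).mp (inv_mem h3)
    -- `g v⁻¹ g⁻¹` commutes with x
    have h5 : x * (g * v * g⁻¹) = (g * v * g⁻¹) * x := by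
      have := commutator_mem_commutator (hconj v hv) hx (H₁ := MulAut.conj g • ⁅V, E₁⁆) (H₂ := E₁)
      rw [hI2, mem_bot, commutatorElement_eq_one_iff_mul_comm] at this
      exact this.symm
    have h6 : ⁅v, x⁆ = ⁅v, g⁆ * (x * ⁅v, g⁆⁻¹ * x⁻¹) := by
      have e1 : x * ⁅v, g⁆⁻¹ * x⁻¹ = (g * v * g⁻¹) * (x * v⁻¹ * x⁻¹) := by
        rw [_root_.commutatorElement_def]
        calc x * (v * g * v⁻¹ * g⁻¹)⁻¹ * x⁻¹ = (x * (g * v * g⁻¹)) * v⁻¹ * x⁻¹ := by group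
          _ = (g * v * g⁻¹) * x * v⁻¹ * x⁻¹ := by rw [h5]
          _ = _ := by group
      rw [e1]; simp only [_root_.commutatorElement_def]; group
    rw [h6]
    exact mul_mem h3 h4

/-- the main contradiction -/
theorem case_contra [Finite G] [hp : Fact p.Prime] {E₁ E₂ : Subgroup G} (h1 : Irr p V E₁) (h2 : Irr p V E₂)
    (hIH1 : ∀ g ∈ E₂, MulAut.conj g • ⁅V, E₁⁆ ≠ ⁅V, E₁⁆ → ⁅V, E₁⁆ ⊓ MulAut.conj g • ⁅V, E₁⁆ = ⊥ ∧ ⁅MulAut.conj g • ⁅V, E₁⁆, E₁⁆ = ⊥)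
    (hIH2 : ∀ g ∈ E₁, MulAut.conj g • ⁅V, E₂⁆ ≠ ⁅V, E₂⁆ → ⁅V, E₂⁆ ⊓ MulAut.conj g • ⁅V, E₂⁆ = ⊥ ∧ ⁅MulAut.conj g • ⁅V, E₂⁆, E₂⁆ = ⊥)
    (h12 : ¬ ⁅V, E₁⁆ ≤ ⁅V, E₂⁆) {g : G} (hg : g ∈ E₂) (hne : MulAut.conj g • ⁅V, E₁⁆ ≠ ⁅V, E₁⁆) : False := by
  have hV' := (ea_iff.mp h1.hV).1
  obtain ⟨hI1, hI2⟩ := hIH1 g hg hne
  obtain ⟨c1, c2, c3⟩ := half h1 h2 hg hI1 hI2
  have hnn : ¬ E₁ ≤ normalizer ((⁅V, E₂⁆ : Subgroup G) : Set G) := fun h => h12 (c3 h)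
  obtain ⟨h, hh, hhn⟩ := SetLike.not_le_iff_exists.mp hnn
  have hhne : MulAut.conj h • ⁅V, E₂⁆ ≠ ⁅V, E₂⁆ := fun he => hhn (mem_normalizer_iff_conj_smul_eq.mpr he)
  obtain ⟨hJ1, hJ2⟩ := hIH2 h hh hhne
  obtain ⟨d1, -, -⟩ := half h2 h1 hh hJ1 hJ2
  have hcard := le_antisymm c1 d1
  have hsurj := c2 hcard
  set V₁ := ⁅V, E₁⁆ with hV₁
  set V₂ := ⁅V, E₂⁆ with hV₂
  set V₁' := MulAut.conj g • V₁ with hV₁'
  have hV1 : V₁ ≤ V := h1.comm_le
  have hV2 : V₂ ≤ V := h2.comm_le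
  have hgV := h2.hEV hg
  have hV1' : V₁' ≤ V := by
    rintro _ ⟨x, hx, rfl⟩
    exact (mem_normalizer_iff.mp hgV x).mp (hV1 hx)
  -- intersections
  have hgv : ∀ v ∈ V₁, g * v * g⁻¹ ∈ V₁' := fun v hv => smul_mem_pointwise_smul v (MulAut.conj g) _ hv
  have e0 : ∀ v : G, ⁅v, g⁆ = v * (g * v * g⁻¹)⁻¹ := fun v => by rw [_root_.commutatorElement_def]; group
  have hi12 : V₁ ⊓ V₂ = ⊥ := by
    rw [eq_bot_iff]
    intro x hx
    obtain ⟨v, hv, rfl⟩ := hsurj x (mem_inf.mp hx).2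
    have h3 : g * v * g⁻¹ ∈ V₁ ⊓ V₁' := by
      refine mem_inf.mpr ⟨?_, hgv v hv⟩
      have : g * v * g⁻¹ = ⁅v, g⁆⁻¹ * v := by rw [e0]; group
      rw [this]; exact mul_mem (inv_mem (mem_inf.mp hx).1) hv
    rw [hI1, mem_bot] at h3
    have h4 : v = 1 := by
      have : v = g⁻¹ * (g * v * g⁻¹) * g := by group
      rw [this, h3]; group
    rw [h4]; simp
  have hi1'2 : V₁' ⊓ V₂ = ⊥ := by
    rw [eq_bot_iff]
    intro x hx
    obtain ⟨v, hv, rfl⟩ := hsurj x (mem_inf.mp hx).2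
    have h3 : v ∈ V₁ ⊓ V₁' := by
      refine mem_inf.mpr ⟨hv, ?_⟩
      have : v = ⁅v, g⁆ * (g * v * g⁻¹) := by rw [e0]; group
      rw [this]; exact mul_mem (mem_inf.mp hx).1 (hgv v hv)
    rw [hI1, mem_bot] at h3
    rw [h3]; simp
  -- conjugates of V₁ under E₂ lie in V₁V₂
  have hW : ∀ g' ∈ E₂, MulAut.conj g' • V₁ ≤ V₁ ⊔ V₂ := by
    rintro g' hg' _ ⟨v, hv, rfl⟩
    change g' * v * g'⁻¹ ∈ _
    have : g' * v * g'⁻¹ = ⁅v, g'⁆⁻¹ * v := by rw [_root_.commutatorElement_def]; group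
    rw [this]
    exact mul_mem (mem_sup_right (inv_mem (commutator_mem_commutator (hV1 hv) hg'))) (mem_sup_left hv)
  have hc1' : Nat.card V₁' = Nat.card V₁ := card_smul _ _
  have hWeq : V₁ ⊔ V₂ = V₁ ⊔ V₁' := by
    symm
    apply eq_of_le_of_card_ge (sup_le le_sup_left (hW g hg))
    have e1 := card_sup_mul_inf_of_comm hV' hV1 hV2
    have e2 := card_sup_mul_inf_of_comm hV' hV1 hV1'
    rw [hi12, card_bot, mul_one] at e1
    rw [hI1, card_bot, mul_one] at e2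
    rw [e1, e2, hc1', hcard]
  have hcent : (V₁ ⊔ V₁') ⊓ centralizer (E₁ : Set G) ≤ V₁' := by
    rintro x hx
    obtain ⟨hx1, hx2⟩ := mem_inf.mp hx
    have hn : V₁' ≤ normalizer (V₁ : Set G) := le_normalizer_of_comm hV' hV1' hV1
    obtain ⟨v, hv, w, hw, rfl⟩ := (mem_sup_iff_left hn).mp hx1
    have hwc : w ∈ centralizer (E₁ : Set G) := (commutator_eq_bot_iff_le_centralizer.mp hI2) hw
    have hvc : v ∈ V₁ ⊓ centralizer (E₁ : Set G) := by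
      refine mem_inf.mpr ⟨hv, ?_⟩
      have : v = (v * w) * w⁻¹ := by group
      rw [this]; exact mul_mem hx2 (inv_mem hwc)
    rw [h1.cent, mem_bot] at hvc
    rw [hvc, one_mul]; exact hw
  have huniq : ∀ g' ∈ E₂, MulAut.conj g' • V₁ ≠ V₁ → MulAut.conj g' • V₁ = V₁' := by
    intro g' hg' hne'
    obtain ⟨-, h3⟩ := hIH1 g' hg' hne'
    apply eq_of_le_of_card_ge
    · refine le_trans (le_inf ?_ (commutator_eq_bot_iff_le_centralizer.mp h3)) hcent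
      rw [← hWeq]; exact hW g' hg'
    · rw [hc1', card_smul]
  -- the stabilizer
  set S := E₂ ⊓ normalizer (V₁ : Set G) with hS
  have hSE : S ≤ E₂ := inf_le_left
  have hmul : ∀ x y : G, MulAut.conj (x * y) • V₁ = MulAut.conj x • MulAut.conj y • V₁ := fun x y => by
    rw [map_mul, mul_smul]
  have hSV1' : ∀ y ∈ S, MulAut.conj y • V₁' = V₁' := by
    intro y hy
    obtain ⟨hyE, hyN⟩ := mem_inf.mp hy
    rw [mem_normalizer_iff_conj_smul_eq] at hyN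
    rw [hV₁', ← hmul]
    apply huniq _ (mul_mem hyE hg)
    intro h3
    apply hne
    rw [hmul] at h3
    exact smul_left_cancel (MulAut.conj y) (h3.trans hyN.symm)
  have hS2 : ∀ y ∈ E₂, y ∉ S → g⁻¹ * y ∈ S := by
    intro y hy hyS
    have h3 : MulAut.conj y • V₁ ≠ V₁ := fun h4 => hyS (mem_inf.mpr ⟨hy, mem_normalizer_iff_conj_smul_eq.mpr h4⟩)
    have h4 := huniq y hy h3
    refine mem_inf.mpr ⟨mul_mem (inv_mem hg) hy, ?_⟩
    rw [mem_normalizer_iff_conj_smul_eq, hmul, h4, hV₁', ← hmul, inv_mul_cancel, map_one, one_smul]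
  have hScent : S ≤ centralizer ((V₁ ⊔ V₁' : Subgroup G) : Set G) := by
    rw [le_centralizer_iff]
    refine sup_le ?_ ?_
    · rw [← commutator_eq_bot_iff_le_centralizer, eq_bot_iff, ← hi12]
      refine le_inf (commutator_le_of_normalizes inf_le_right) (commutator_mono hV1 hSE)
    · rw [← commutator_eq_bot_iff_le_centralizer, eq_bot_iff, ← hi1'2]
      refine le_inf (commutator_le_of_normalizes ?_) (commutator_mono hV1' hSE)
      exact fun y hy => mem_normalizer_iff_conj_smul_eq.mpr (hSV1' y hy)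
  have hSq : ⁅⁅V, S⁆, S⁆ = ⊥ := by
    rw [commutator_eq_bot_iff_le_centralizer]
    refine (commutator_mono le_rfl hSE).trans ?_
    rw [le_centralizer_iff]
    refine hScent.trans (centralizer_le ?_)
    rw [← hWeq]; exact (show V₂ ≤ V₁ ⊔ V₂ from le_sup_right)
  -- S normal in E₂
  have hSn : E₂ ≤ normalizer (S : Set G) := by
    intro x hx
    by_cases hxS : x ∈ S
    · exact le_normalizer hxS
    · have hgn : g ∈ normalizer (S : Set G) := by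
        rw [mem_normalizer_iff_conj_smul_eq]
        apply eq_of_le_of_card_ge _ (by rw [card_smul])
        rintro _ ⟨s, hs, rfl⟩
        change g * s * g⁻¹ ∈ S
        by_contra hcon
        have h3 : g * s * g⁻¹ ∈ E₂ := mul_mem (mul_mem hg (hSE hs)) (inv_mem hg)
        have h4 := hS2 _ h3 hcon
        have h5 : g⁻¹ ∈ S := by
          have : g⁻¹ = s⁻¹ * (g⁻¹ * (g * s * g⁻¹)) := by group
          rw [this]; exact mul_mem (inv_mem hs) h4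
        have h6 := (mem_inf.mp (inv_mem h5)).2
        rw [inv_inv, mem_normalizer_iff_conj_smul_eq] at h6
        exact hne h6
      have h3 := hS2 x hx hxS
      have : x = g * (g⁻¹ * x) := by group
      rw [this]
      exact mul_mem hgn (le_normalizer h3)
  have hS0 := h2.quad hSE hSn hSq
  -- |E₂| = 2
  have hle : Nat.card E₂ ≤ 2 := by
    have hall : ∀ y ∈ E₂, y = 1 ∨ y = g := by
      intro y hy
      by_cases hyS : y ∈ S
      · left; rwa [hS0, mem_bot] at hyS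
      · right
        have := hS2 y hy hyS
        rw [hS0, mem_bot] at this
        exact (inv_mul_eq_one.mp this).symm
    have : (E₂ : Set G) ⊆ {1, g} := fun y hy => hall y hy
    calc Nat.card E₂ = (E₂ : Set G).ncard := rfl
      _ ≤ ({1, g} : Set G).ncard := Set.ncard_le_ncard this (Set.toFinite _)
      _ ≤ 2 := (Set.ncard_insert_le _ _).trans (by rw [Set.ncard_singleton])
  exact absurd h2.hc (by omega)

theorem main [Finite G] [hp : Fact p.Prime] (n : ℕ) : ∀ E₁ E₂ : Subgroup G, Nat.card (E₁ ⊔ E₂ : Subgroup G) ≤ n →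
    Irr p V E₁ → Irr p V E₂ → (E₁.subgroupOf (E₁ ⊔ E₂)).IsSubnormal → (E₂.subgroupOf (E₁ ⊔ E₂)).IsSubnormal →
    ¬ ⁅V, E₁⁆ ≤ ⁅V, E₂⁆ → ¬ ⁅V, E₂⁆ ≤ ⁅V, E₁⁆ →
    ⁅V, E₁⁆ ⊓ ⁅V, E₂⁆ = ⊥ ∧ ⁅⁅V, E₁⁆, E₂⁆ = ⊥ ∧ ⁅⁅V, E₂⁆, E₁⁆ = ⊥ := by
  induction n with
  | zero => intro E₁ E₂ h; exact absurd h (by have := Nat.card_pos (α := (E₁ ⊔ E₂ : Subgroup G)); omega)
  | succ n ih =>
    intro E₁ E₂ hn h1 h2 hs1 hs2 h12 h21
    -- one-sided induction
    have hstep : ∀ A B : Subgroup G, A ⊔ B = E₁ ⊔ E₂ → Irr p V A → Irr p V B → (A.subgroupOf (E₁ ⊔ E₂)).IsSubnormal →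
        ¬ ⁅V, B⁆ ≤ ⁅V, A⁆ → ∀ g ∈ B, MulAut.conj g • ⁅V, A⁆ ≠ ⁅V, A⁆ →
        ⁅V, A⁆ ⊓ MulAut.conj g • ⁅V, A⁆ = ⊥ ∧ ⁅MulAut.conj g • ⁅V, A⁆, A⁆ = ⊥ := by
      intro A B hAB hA hB hsA hBA g hg hne
      obtain ⟨hA', hVA'⟩ := hA.smul (hB.hEV hg)
      set E := E₁ ⊔ E₂ with hE
      have hAE : A ≤ E := hAB ▸ le_sup_left
      have hgE : g ∈ E := (hAB ▸ le_sup_right : B ≤ E) hg
      have hA'E : MulAut.conj g • A ≤ E := by
        rintro _ ⟨x, hx, rfl⟩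
        exact mul_mem (mul_mem hgE (hAE hx)) (inv_mem hgE)
      have hFE : A ⊔ MulAut.conj g • A ≤ E := sup_le hAE hA'E
      -- a proper normal subgroup
      have hAne : A.subgroupOf E ≠ ⊤ := by
        intro h
        rw [subgroupOf_eq_top] at h
        exact hBA (commutator_mono le_rfl ((hAB ▸ le_sup_right : B ≤ E).trans h))
      obtain ⟨K, hK, hAK, hKt⟩ := hsA.exists_normal_and_le_and_lt_top_of_ne hAne
      have hFK : A ⊔ MulAut.conj g • A ≤ K.map E.subtype := by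
        refine sup_le ?_ ?_
        · intro x hx
          exact ⟨⟨x, hAE hx⟩, hAK (mem_subgroupOf.mpr hx), rfl⟩
        · rintro _ ⟨x, hx, rfl⟩
          refine ⟨⟨g, hgE⟩ * ⟨x, hAE hx⟩ * ⟨g, hgE⟩⁻¹, hK.conj_mem _ (hAK (mem_subgroupOf.mpr hx)) _, rfl⟩
      have hcard : Nat.card (A ⊔ MulAut.conj g • A : Subgroup G) ≤ n := by
        have h3 : Nat.card (A ⊔ MulAut.conj g • A : Subgroup G) ≤ Nat.card (K.map E.subtype) := card_le_of_le hFK
        have h4 : Nat.card (K.map E.subtype) = Nat.card K := Nat.card_congr (equivMapOfInjective _ _ E.subtype_injective).symm.toEquiv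
        have h5 : Nat.card K < Nat.card E := card_lt_of_ne_top hKt.ne
        omega
      have hsn : ∀ X : Subgroup G, (X.subgroupOf E).IsSubnormal → (X.subgroupOf (A ⊔ MulAut.conj g • A)).IsSubnormal := by
        intro X hX
        have := hX.comap (inclusion hFE)
        exact this
      have hsA' : ((MulAut.conj g • A).subgroupOf E).IsSubnormal := by
        apply Subnorm.conj_subgroupOf
        have : MulAut.conj g⁻¹ • E = E := conj_smul_eq_of_mem_normalizer (inv_mem (le_normalizer hgE))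
        rwa [this]
      have hcc : Nat.card (MulAut.conj g • ⁅V, A⁆ : Subgroup G) = Nat.card (⁅V, A⁆ : Subgroup G) := card_smul _ _
      have h6 := ih A (MulAut.conj g • A) hcard hA hA' (hsn _ hsA) (hsn _ hsA') (by
        rw [hVA']
        intro h
        exact hne (eq_of_le_of_card_ge h (by rw [hcc])).symm) (by
        rw [hVA']
        intro h
        exact hne (eq_of_le_of_card_ge h (by rw [hcc])))
      rw [hVA'] at h6
      exact ⟨h6.1, h6.2.2⟩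
    have hIH1 := hstep E₁ E₂ rfl h1 h2 hs1 h21
    have hIH2 := hstep E₂ E₁ (sup_comm _ _) h2 h1 hs2 h12
    have hn1 : E₂ ≤ normalizer ((⁅V, E₁⁆ : Subgroup G) : Set G) := by
      intro g hg
      rw [mem_normalizer_iff_conj_smul_eq]
      by_contra hne
      exact case_contra h1 h2 hIH1 hIH2 h12 hg hne
    have hn2 : E₁ ≤ normalizer ((⁅V, E₂⁆ : Subgroup G) : Set G) := by
      intro g hg
      rw [mem_normalizer_iff_conj_smul_eq]
      by_contra hne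
      exact case_contra h2 h1 hIH2 hIH1 h21 hg hne
    have hi : ⁅V, E₁⁆ ⊓ ⁅V, E₂⁆ = ⊥ := by
      rcases h1.hirr _ inf_le_left (le_normalizer_inf (le_normalizer_commutator_right _ _) hn2) with h | h
      · exact h
      · exact absurd (inf_eq_left.mp h) h12
    refine ⟨hi, ?_, ?_⟩
    · rw [eq_bot_iff, ← hi]
      exact le_inf (commutator_le_of_normalizes hn1) (commutator_mono h1.comm_le le_rfl)
    · rw [eq_bot_iff, ← hi]
      exact le_inf (commutator_mono h2.comm_le le_rfl) (commutator_le_of_normalizes hn2)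

/-- consequences of the main statement -/
theorem conseq [Finite G] [hp : Fact p.Prime] {E₁ E₂ : Subgroup G} (h1 : E₁ ≤ normalizer (V : Set G))
    (h2 : E₂ ≤ normalizer (V : Set G)) (hf : (E₁ ⊔ E₂) ⊓ centralizer (V : Set G) = ⊥)
    (hi : ⁅V, E₁⁆ ⊓ ⁅V, E₂⁆ = ⊥) (hc1 : ⁅⁅V, E₁⁆, E₂⁆ = ⊥) (hc2 : ⁅⁅V, E₂⁆, E₁⁆ = ⊥) :
    ⁅E₁, E₂⁆ = ⊥ ∧ E₁ ⊓ E₂ = ⊥ ∧ ⁅V, E₁ ⊔ E₂⁆ = ⁅V, E₁⁆ ⊔ ⁅V, E₂⁆ := by
  refine ⟨?_, ?_, commutator_sup_right h1 h2⟩
  · have h3 : ⁅⁅E₁, E₂⁆, V⁆ = ⊥ := by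
      refine three_subgroups (X := E₂) (Y := V) (Z := E₁) ?_ hc1
      rw [commutator_comm E₂ V]; exact hc2
    rw [commutator_eq_bot_iff_le_centralizer] at h3
    rw [eq_bot_iff, ← hf]
    refine le_inf ?_ h3
    rw [commutator_le]
    intro x hx y hy
    rw [_root_.commutatorElement_def]
    have hx' : x ∈ E₁ ⊔ E₂ := mem_sup_left hx
    have hy' : y ∈ E₁ ⊔ E₂ := mem_sup_right hy
    exact mul_mem (mul_mem (mul_mem hx' hy') (inv_mem hx')) (inv_mem hy')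
  · have h3 : ⁅V, E₁ ⊓ E₂⁆ = ⊥ := by
      rw [eq_bot_iff, ← hi]
      exact le_inf (commutator_mono le_rfl inf_le_left) (commutator_mono le_rfl inf_le_right)
    rw [commutator_eq_bot_iff_le_centralizer, le_centralizer_iff] at h3
    rw [eq_bot_iff, ← hf]
    exact le_inf (inf_le_left.trans le_sup_left) h3

theorem pCore_bot_of_subnormal [Finite G] {p : ℕ} [hp : Fact p.Prime] {E E₁ : Subgroup G} (hle : E₁ ≤ E)
    (hs : (E₁.subgroupOf E).IsSubnormal) (h : Cfsg.pCore p E = ⊥) : Cfsg.pCore p E₁ = ⊥ := by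
  refine pCore_eq_bot_of_equiv (subgroupOfEquivOfLe hle) ?_
  have h1 : ((Cfsg.pCore p (E₁.subgroupOf E)).map (E₁.subgroupOf E).subtype).IsSubnormal :=
    IsSubnormal.trans' (Normal.isSubnormal (Cores.pCore_normal (G := ↥(E₁.subgroupOf E)) p)) hs
  have h2 := Subnorm.le_pCore_of_isSubnormal h1 ((pCore_isPGroup p).map _)
  rw [h, le_bot_iff] at h2
  exact (Subgroup.map_eq_bot_iff_of_injective _ (E₁.subgroupOf E).subtype_injective).mp h2

end Cfsg.Agent.Lib.FFG
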