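import Mathlib
import Cfsg.Agent.Lib.FFF
import Cfsg.Agent.Lib.FFG

/-! Failure of factorization, part H: the subgroup `E = [K,A]A`. -/

namespace Cfsg.Agent.Lib.FFH

open Subgroup Cfsg.Agent.Lib Cfsg.Agent.Lib.Basic Cfsg.Agent.Lib.Cores Cfsg.Agent.Lib.Coprime
  Cfsg.Agent.Lib.CoprimeB Cfsg.Agent.Lib.ThompsonJ Cfsg.Agent.Lib.Quadratic Cfsg.Agent.Lib.QuadA
  Cfsg.Agent.Lib.QuadB Cfsg.Agent.Lib.PNilp Cfsg.Agent.Lib.FFA Cfsg.Agent.Lib.FFB Cfsg.Agent.Lib.FFC
  Cfsg.Agent.Lib.FFD Cfsg.Agent.Lib.FFE Cfsg.Agent.Lib.FFF Cfsg.Agent.Lib.FFG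

open scoped commutatorElement Pointwise

universe u
variable {G : Type u} [Group G] {p : ℕ} {V H : Subgroup G}

/-- the derived group centralizes a normalized group of prime order -/
theorem comm_centralizes_of_card [Finite G] {p : ℕ} [hp : Fact p.Prime] {U L : Subgroup G} (hU : Nat.card U = p)
    (h : L ≤ normalizer (U : Set G)) : ⁅L, L⁆ ≤ centralizer (U : Set G) := by
  obtain ⟨w, rfl, hw⟩ := exists_zpowers hU
  have key : ∀ x ∈ L, ∃ n : ℤ, x * w * x⁻¹ = w ^ n := by
    intro x hx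
    obtain ⟨n, hn⟩ := mem_zpowers_iff.mp ((mem_normalizer_iff.mp (h hx) w).mp (mem_zpowers w))
    exact ⟨n, hn.symm⟩
  rw [commutator_le]
  intro x hx y hy
  obtain ⟨m, hm⟩ := key x hx
  obtain ⟨n, hn⟩ := key y hy
  have hxz : ∀ k : ℤ, x * w ^ k * x⁻¹ = w ^ (m * k) := fun k => by rw [← conj_zpow, hm, ← zpow_mul]
  have hyz : ∀ k : ℤ, y * w ^ k * y⁻¹ = w ^ (n * k) := fun k => by rw [← conj_zpow, hn, ← zpow_mul]
  have e1 : (x * y) * w * (x * y)⁻¹ = w ^ (m * n) := by
    have : (x * y) * w * (x * y)⁻¹ = x * (y * w * y⁻¹) * x⁻¹ := by group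
    rw [this, hn, hxz]
  have e2 : (y * x) * w * (y * x)⁻¹ = w ^ (n * m) := by
    have : (y * x) * w * (y * x)⁻¹ = y * (x * w * x⁻¹) * y⁻¹ := by group
    rw [this, hm, hyz]
  have e3 : (x * y) * w * (x * y)⁻¹ = (y * x) * w * (y * x)⁻¹ := by rw [e1, e2, mul_comm]
  -- the commutator applied to w
  have hcw : ∀ c : G, c = ⁅x, y⁆ → c * ((y * x) * w * (y * x)⁻¹) * c⁻¹ = (y * x) * w * (y * x)⁻¹ := by
    rintro c rfl
    rw [← e3]
    conv_rhs => rw [e3]
    rw [e3, _root_.commutatorElement_def]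
    have : (x * y * x⁻¹ * y⁻¹) * ((y * x) * w * (y * x)⁻¹) * (x * y * x⁻¹ * y⁻¹)⁻¹ = (x * y) * w * (x * y)⁻¹ := by group
    rw [this, e3]
  -- `(yx)⟨w⟩(yx)⁻¹ = ⟨w⟩`
  have hyx : y * x ∈ normalizer (zpowers w : Set G) := mul_mem (h hy) (h hx)
  refine mem_centralizer_iff.mpr fun z hz => ?_
  have hz' : (y * x)⁻¹ * z * (y * x) ∈ zpowers w := by
    have := (mem_normalizer_iff.mp (inv_mem hyx) z).mp hz
    rwa [inv_inv] at this
  obtain ⟨k, hk⟩ := mem_zpowers_iff.mp hz'
  have e4 : z = ((y * x) * w * (y * x)⁻¹) ^ k := by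
    rw [conj_zpow, hk]; group
  have e5 := hcw _ rfl
  have e6 : Commute ⁅x, y⁆ ((y * x) * w * (y * x)⁻¹) := by
    have := mul_inv_eq_iff_eq_mul.mp e5
    exact this
  rw [e4]
  exact (e6.zpow_right k).eq.symm

/-- subgroups of an elementary abelian group of order `p²` -/
theorem sub_plane [Finite G] {p : ℕ} [hp : Fact p.Prime] {W U : Subgroup G} (hW : Nat.card W = p ^ 2) (hU : U ≤ W) :
    U = ⊥ ∨ Nat.card U = p ∨ U = W := by
  have h1 : Nat.card U ∣ p ^ 2 := hW ▸ card_dvd_of_le hU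
  obtain ⟨j, hj, hj2⟩ := (Nat.dvd_prime_pow hp.out).mp h1
  interval_cases j
  · left; rw [pow_zero, card_eq_one] at hj2; exact hj2
  · right; left; rw [hj2, pow_one]
  · right; right; exact eq_of_le_of_card_ge hU (by rw [hj2, hW])

theorem _root_.Cfsg.Agent.Lib.FFB.FF.pair_comm [Finite G] [hp : Fact p.Prime] (h : FF p V H) {A : Subgroup G} (hAH : A ≤ H)
    (hA : MinOff p V A) {x : G} (hx : x ∈ KK p H) (hxA : x ∉ centralizer (A : Set G)) (hp3 : p = 3)
    (hc : ⁅(A ⊔ MulAut.conj x • A) ⊓ KK p H, (A ⊔ MulAut.conj x • A) ⊓ KK p H⁆ = ⊥) : False := by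
  obtain ⟨hle, _, _, _, ⟨e⟩, _⟩ := h.pair hAH hA hx hxA
  subst hp3
  obtain ⟨i, j, hi, hj, hij⟩ := sl23_noncomm e
  have hea := ea_iff.mp (h.ea hAH hA.1)
  have hcube : ∀ y : ↥(A ⊔ MulAut.conj x • A), y ^ 4 = 1 → (y : G) ∈ (A ⊔ MulAut.conj x • A) ⊓ KK 3 H := by
    intro y hy
    have h1 : (y : G) ∈ KK 3 H ⊔ A := (sup_le_sup_right (commutator_le_of_normalizes (hAH.trans KK_normal)) A) ((h.pair_le hAH hA hx).1 y.2)
    have h2 := pow_mem_of_sup (hAH.trans KK_normal) hea.2 _ h1
    have h3 : (y : G) ^ 3 ∈ (A ⊔ MulAut.conj x • A) ⊓ KK 3 H := mem_inf.mpr ⟨pow_mem y.2 3, h2⟩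
    have h4 : (y : G) ^ 4 = 1 := congrArg Subtype.val hy
    have h5 : (y : G) = ((y : G) ^ 3)⁻¹ := by
      rw [eq_inv_iff_mul_eq_one, ← pow_succ', h4]
    rw [h5]; exact inv_mem h3
  apply hij
  have h6 := commutator_mem_commutator (hcube i hi) (hcube j hj)
  rw [hc, mem_bot, commutatorElement_eq_one_iff_mul_comm] at h6
  exact Subtype.ext h6

/-- `L = H₁ ∩ K` acts irreducibly -/
theorem _root_.Cfsg.Agent.Lib.FFB.FF.pair_irr [Finite G] [hp : Fact p.Prime] (h : FF p V H) {A : Subgroup G} (hAH : A ≤ H)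
    (hA : MinOff p V A) {x : G} (hx : x ∈ KK p H) (hxA : x ∉ centralizer (A : Set G)) :
    Irr p V ((A ⊔ MulAut.conj x • A) ⊓ KK p H) := by
  obtain ⟨hle, hp23, hW1, hW3, _, hW2, _⟩ := h.pair hAH hA hx hxA
  set H₁ := A ⊔ MulAut.conj x • A with hH₁
  set L := H₁ ⊓ KK p H with hL
  have hLH : L ≤ H := inf_le_left.trans hle
  have hLV : L ≤ normalizer (V : Set G) := hLH.trans h.hHV
  have hLc : (Nat.card L).Coprime p := Nat.Coprime.coprime_dvd_left (card_dvd_of_le inf_le_right) KK_coprime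
  have hLf : L ⊓ centralizer (V : Set G) = ⊥ := le_bot_iff.mp (h.hf ▸ inf_le_inf_right _ hLH)
  have hcopLV : (Nat.card L).Coprime (Nat.card V) := by
    obtain ⟨n, hn⟩ := card_dvd_of_ea h.hV
    rw [hn]; exact Nat.Coprime.pow_right _ hLc
  have hsplit' := abelian_inf_eq_bot h.hV.1 hLV hcopLV
  have hWV : ⁅V, H₁⁆ ≤ V := commutator_le_of_normalizes (hle.trans h.hHV)
  have hWL : ⁅V, H₁⁆ ⊓ centralizer (L : Set G) = ⊥ := by
    rw [eq_bot_iff, ← hsplit', hW2]
    exact le_inf (le_inf (inf_le_left.trans hWV) inf_le_right) inf_le_left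
  have hLn : H₁ ≤ normalizer (L : Set G) := le_normalizer_inf le_normalizer (hle.trans KK_normal)
  have hea := h.ea hAH hA.1
  have hAp := QuadC.isPGroup_of_ea hea
  have hxV := h.hHV (KK_le hx)
  have hAp' : IsPGroup p (MulAut.conj x • A : Subgroup G) := hAp.map _
  -- no invariant lines
  have hnoline : ∀ X : Subgroup G, X ≤ ⁅V, H₁⁆ → Nat.card X = p → H₁ ≤ normalizer (X : Set G) → False := by
    intro X hXW hX hXn
    have h1 : H₁ ≤ centralizer (X : Set G) := by
      refine sup_le ?_ ?_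
      · rw [← le_centralizer_iff, ← commutator_eq_bot_iff_le_centralizer]
        exact centralizes_of_card hX hAp (le_sup_left.trans hXn)
      · rw [← le_centralizer_iff, ← commutator_eq_bot_iff_le_centralizer]
        exact centralizes_of_card hX hAp' (le_sup_right.trans hXn)
    have h2 : X ≤ ⁅V, H₁⁆ ⊓ centralizer (L : Set G) := by
      refine le_inf hXW ?_
      rw [← le_centralizer_iff]; exact inf_le_left.trans h1
    rw [hWL, le_bot_iff] at h2
    rw [h2, card_bot] at hX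
    exact hp.out.one_lt.ne hX
  have hWn : ⁅V, H₁⁆ ≠ ⊥ := by
    intro h1
    rw [h1, card_bot] at hW1
    exact absurd hW1.symm (by
      have := Nat.one_lt_pow (two_ne_zero) hp.out.one_lt
      omega)
  have hL0 : L ≠ ⊥ := by
    intro h1
    rw [h1, commutator_bot_right] at hW2
    exact hWn hW2.symm
  refine ⟨h.hV, hLV, hLf, ?_, ?_, ?_⟩
  · rw [← card_eq_one]
    have h1 : Nat.card (Cfsg.pCore p L) ∣ Nat.card L := card_subgroup_dvd_card _
    obtain ⟨k, hk⟩ := (IsPGroup.iff_card).mp (Cores.pCore_isPGroup (G := L) p)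
    have h2 : (p ^ k).Coprime p := hk ▸ Nat.Coprime.coprime_dvd_left h1 hLc
    rw [hk]
    by_contra h3
    have : k ≠ 0 := fun h4 => h3 (by rw [h4, pow_zero])
    exact hp.out.one_lt.ne' (Nat.Coprime.eq_one_of_dvd h2.symm (dvd_pow_self p this))
  · intro U hU hUn
    rw [hW2] at hU ⊢
    rcases sub_plane hW1 hU with h1 | h1 | h1
    · exact Or.inl h1
    · exfalso
      rcases hp23 with hp2 | hp3
      · -- p = 2
        subst hp2
        have h2 : L ≤ centralizer (U : Set G) := by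
          intro g hg
          refine mem_centralizer_iff.mpr fun y hy => ?_
          have hgn := hUn hg
          -- U = {1, w}
          obtain ⟨w, hw, hwo⟩ := exists_zpowers h1
          subst hw
          have hcw : g * w * g⁻¹ = w := by
            have h3 : g * w * g⁻¹ ∈ zpowers w := (mem_normalizer_iff.mp hgn w).mp (mem_zpowers w)
            have h4 : ∀ z ∈ zpowers w, z = 1 ∨ z = w := by
              intro z hz
              obtain ⟨n, rfl⟩ := (isOfFinOrder_of_finite w).mem_powers_iff_mem_zpowers.mpr hz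
              rcases Nat.even_or_odd n with ⟨k, rfl⟩ | ⟨k, rfl⟩
              · left
                change w ^ (k + k) = 1
                rw [← two_mul, pow_mul, ← hwo, pow_orderOf_eq_one, one_pow]
              · right
                change w ^ (2 * k + 1) = w
                rw [pow_succ, pow_mul, ← hwo, pow_orderOf_eq_one, one_pow, one_mul]
            rcases h4 _ h3 with h5 | h5
            · exfalso
              have : w = 1 := by
                have e : w = g⁻¹ * (g * w * g⁻¹) * g := by group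
                rw [e, h5]; group
              rw [this, orderOf_one] at hwo
              exact absurd hwo (by norm_num)
            · exact h5
          obtain ⟨n, rfl⟩ := mem_zpowers_iff.mp hy
          exact ((show Commute g w from mul_inv_eq_iff_eq_mul.mp hcw).zpow_right n).symm.eq
        have h3 : U ≤ ⁅V, H₁⁆ ⊓ centralizer (L : Set G) := le_inf hU (le_centralizer_iff.mp h2)
        rw [hWL, le_bot_iff] at h3
        rw [h3, card_bot] at h1
        exact hp.out.one_lt.ne h1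
      · -- p = 3
        have h2 : ⁅L, L⁆ ≤ centralizer (U : Set G) := comm_centralizes_of_card h1 hUn
        have hLLn : H₁ ≤ normalizer ((⁅L, L⁆ : Subgroup G) : Set G) := CoprimeB.le_normalizer_commutator hLn hLn
        have h3 : H₁ ≤ normalizer ((⁅V, H₁⁆ ⊓ centralizer ((⁅L, L⁆ : Subgroup G) : Set G) : Subgroup G) : Set G) :=
          le_normalizer_inf (le_normalizer_commutator_right _ _) (fun x hx => normalizer_centralizer_le (hLLn hx))
        have hU2 : U ≤ ⁅V, H₁⁆ ⊓ centralizer ((⁅L, L⁆ : Subgroup G) : Set G) := le_inf hU (le_centralizer_iff.mp h2)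
        rcases sub_plane hW1 (inf_le_left : ⁅V, H₁⁆ ⊓ centralizer ((⁅L, L⁆ : Subgroup G) : Set G) ≤ ⁅V, H₁⁆) with h4 | h4 | h4
        · rw [h4, le_bot_iff] at hU2
          rw [hU2, card_bot] at h1
          exact hp.out.one_lt.ne h1
        · exact hnoline _ inf_le_left h4 h3
        · have h5 : ⁅L, L⁆ ≤ H₁ ⊓ centralizer ((⁅V, H₁⁆ : Subgroup G) : Set G) := by
            refine le_inf (((commutator_mono inf_le_left inf_le_left).trans ?_)) (le_centralizer_iff.mp (inf_eq_left.mp h4))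
            exact commutator_le_of_normalizes le_normalizer
          rw [hW3, le_bot_iff] at h5
          exact h.pair_comm hAH hA hx hxA hp3 h5
    · exact Or.inr h1
  · by_contra hcon
    push Not at hcon
    have h1 : Nat.card L ≠ 1 := fun h2 => hL0 (card_eq_one.mp h2)
    have h2 : Nat.card L = 2 := by
      have := Nat.card_pos (α := L)
      omega
    rcases hp23 with hp2 | hp3
    · subst hp2
      rw [h2] at hLc
      exact absurd hLc (by norm_num)
    · refine h.pair_comm hAH hA hx hxA hp3 ?_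
      have h3 : IsCyclic L := isCyclic_of_prime_card (p := 2) (hp := ⟨Nat.prime_two⟩) h2
      have h4 : IsMulCommutative L := ⟨⟨(IsCyclic.commGroup (α := L)).mul_comm⟩⟩
      exact commutator_eq_bot_iff_le_centralizer.mpr (le_centralizer_iff_isMulCommutative.mpr h4)

end Cfsg.Agent.Lib.FFH
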