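import Mathlib
import Cfsg.Agent.Lib.FFH

/-! Failure of factorization, part I: `E ≅ SL₂(p)`. -/

namespace Cfsg.Agent.Lib.FFI

open Subgroup Cfsg.Agent.Lib Cfsg.Agent.Lib.Basic Cfsg.Agent.Lib.Cores Cfsg.Agent.Lib.Coprime
  Cfsg.Agent.Lib.CoprimeB Cfsg.Agent.Lib.ThompsonJ Cfsg.Agent.Lib.Quadratic Cfsg.Agent.Lib.QuadA
  Cfsg.Agent.Lib.QuadB Cfsg.Agent.Lib.PNilp Cfsg.Agent.Lib.FFA Cfsg.Agent.Lib.FFB Cfsg.Agent.Lib.FFC
  Cfsg.Agent.Lib.FFD Cfsg.Agent.Lib.FFE Cfsg.Agent.Lib.FFF Cfsg.Agent.Lib.FFG Cfsg.Agent.Lib.FFH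

open scoped commutatorElement Pointwise

universe u
variable {G : Type u} [Group G] {p : ℕ} {V H : Subgroup G}

/-- `D = [K,A]` -/
def DD (p : ℕ) (H A : Subgroup G) : Subgroup G := ⁅KK p H, A⁆

/-- `E = [K,A]A` -/
def EE (p : ℕ) (H A : Subgroup G) : Subgroup G := ⁅KK p H, A⁆ ⊔ A

theorem DD_le {A : Subgroup G} (hAH : A ≤ H) : DD p H A ≤ KK p H := commutator_le_of_normalizes (hAH.trans KK_normal)

theorem DD_normal (A : Subgroup G) : KK p H ≤ normalizer ((DD p H A : Subgroup G) : Set G) := le_normalizer_commutator_left _ _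

theorem EE_le {A : Subgroup G} (hAH : A ≤ H) : EE p H A ≤ H := sup_le ((DD_le hAH).trans KK_le) hAH

/-- the conjugates of elements of `A` under `K` -/
def gens (p : ℕ) (H A : Subgroup G) : Set G := {g | ∃ y ∈ KK p H, ∃ a ∈ A, g = y * a * y⁻¹}

theorem EE_eq_closure (A : Subgroup G) : EE p H A = closure (gens p H A) := by
  apply le_antisymm
  · have hA : A ≤ closure (gens p H A) := fun a ha => subset_closure ⟨1, one_mem _, a, ha, by group⟩
    refine sup_le ?_ hA
    rw [commutator_le]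
    intro y hy a ha
    rw [_root_.commutatorElement_def]
    exact mul_mem (subset_closure ⟨y, hy, a, ha, rfl⟩) (inv_mem (hA ha))
  · rw [Subgroup.closure_le]
    rintro _ ⟨y, hy, a, ha, rfl⟩
    have : y * a * y⁻¹ = ⁅y, a⁆ * a := by rw [_root_.commutatorElement_def]; group
    rw [this]
    exact mul_mem (mem_sup_left (commutator_mem_commutator hy ha)) (mem_sup_right ha)

theorem KK_normalizes_EE (A : Subgroup G) : KK p H ≤ normalizer ((EE p H A : Subgroup G) : Set G) := by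
  intro k hk
  rw [mem_normalizer_iff_conj_smul_eq, EE_eq_closure]
  have hsub : ∀ k ∈ KK p H, MulAut.conj k • closure (gens p H A) ≤ closure (gens p H A) := by
    intro k hk
    have : MulAut.conj k • closure (gens p H A) = (closure (gens p H A)).map (MulAut.conj k).toMonoidHom := rfl
    rw [this, MonoidHom.map_closure, Subgroup.closure_le]
    rintro _ ⟨_, ⟨y, hy, a, ha, rfl⟩, rfl⟩
    refine subset_closure ⟨k * y, mul_mem hk hy, a, ha, ?_⟩
    change k * (y * a * y⁻¹) * k⁻¹ = _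
    group
  apply le_antisymm (hsub k hk)
  have := hsub k⁻¹ (inv_mem hk)
  rw [map_inv] at this
  rw [← subset_pointwise_smul_iff] at this
  simpa using this

/-- the data attached to a minimal offender -/
structure Dat (p : ℕ) (V H A W : Subgroup G) : Prop where
  eW : ⁅V, EE p H A⁆ = W
  dW : ⁅V, DD p H A⁆ = W
  card : Nat.card W = p ^ 2
  cent : V ⊓ centralizer (DD p H A : Set G) ≤ centralizer (EE p H A : Set G)
  faith : EE p H A ⊓ centralizer (W : Set G) = ⊥
  irr : Irr p V (DD p H A)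
  sl : ∀ X : Subgroup G, EE p H A ≤ X → ∀ S : Set G, X = closure S → (∀ s ∈ S, s ^ p = 1) → X ≤ normalizer (W : Set G) →
    X ⊓ centralizer (W : Set G) = ⊥ → Nonempty (X ≃* Matrix.SpecialLinearGroup (Fin 2) (ZMod p))

theorem _root_.Cfsg.Agent.Lib.FFB.FF.dat [Finite G] [hp : Fact p.Prime] (h : FF p V H) {A : Subgroup G} (hAH : A ≤ H)
    (hA : MinOff p V A) : (p = 2 ∨ p = 3) ∧ Dat p V H A (⁅V, EE p H A⁆) := by
  obtain ⟨x, hx, hxA⟩ := h.exists_not_mem hAH hA
  obtain ⟨hle, hp23, hW1, hW3, _, hW2, a, u, v, l, m, ha, hu, hv, hu1, hvu, hau, hav, hl, hbv, hbu, hm⟩ := h.pair hAH hA hx hxA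
  set W := ⁅V, A ⊔ MulAut.conj x • A⁆ with hW
  have hea := h.ea hAH hA.1
  -- the prime r
  obtain ⟨r, hr, hpr⟩ : ∃ r, Nat.Prime r ∧ ((p = 2 ∧ r = 3) ∨ (p = 3 ∧ r = 2)) := by
    rcases hp23 with h1 | h1
    · exact ⟨3, Nat.prime_three, Or.inl ⟨h1, rfl⟩⟩
    · exact ⟨2, Nat.prime_two, Or.inr ⟨h1, rfl⟩⟩
  haveI : Fact r.Prime := ⟨hr⟩
  have hD := h.comm_pgroup hAH hA hpr
  have hVA0 : ⁅V, A⁆ ≠ ⊥ := hA.2.1
  have hDH : DD p H A ≤ H := (DD_le hAH).trans KK_le
  have hDV : DD p H A ≤ normalizer (V : Set G) := hDH.trans h.hHV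
  -- all planes are equal
  have hplane : ∀ y ∈ KK p H, y ∉ centralizer (A : Set G) → ⁅V, A ⊔ MulAut.conj y • A⁆ = W := by
    intro y hy hyA
    obtain ⟨hle', _, hW1', hW3', _, hW2', _⟩ := h.pair hAH hA hy hyA
    have i1 := h.pair_irr hAH hA hx hxA
    have i2 := h.pair_irr hAH hA hy hyA
    set L₁ := (A ⊔ MulAut.conj x • A) ⊓ KK p H with hL₁
    set L₂ := (A ⊔ MulAut.conj y • A) ⊓ KK p H with hL₂
    by_contra hne
    have hl1 : L₁ ≤ DD p H A := (h.pair_le hAH hA hx).2
    have hl2 : L₂ ≤ DD p H A := (h.pair_le hAH hA hy).2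
    have hnil : Group.IsNilpotent (L₁ ⊔ L₂ : Subgroup G) := (hD.to_le (sup_le hl1 hl2)).isNilpotent
    have hs1 : (L₁.subgroupOf (L₁ ⊔ L₂)).IsSubnormal := Subnorm.isSubnormal_of_nilpotent hnil _
    have hs2 : (L₂.subgroupOf (L₁ ⊔ L₂)).IsSubnormal := Subnorm.isSubnormal_of_nilpotent hnil _
    have key := FFG.main _ L₁ L₂ le_rfl i1 i2 hs1 hs2 (by
      rw [hW2, hW2']
      intro h1
      exact hne (eq_of_le_of_card_ge h1 (by rw [hW1, hW1'])).symm) (by
      rw [hW2, hW2']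
      intro h1
      exact hne (eq_of_le_of_card_ge h1 (by rw [hW1, hW1'])))
    apply hVA0
    rw [eq_bot_iff, ← key.1, hW2, hW2']
    exact le_inf (commutator_mono le_rfl le_sup_left) (commutator_mono le_rfl le_sup_left)
  have hVAW : ⁅V, A⁆ ≤ W := commutator_mono le_rfl le_sup_left
  have hWV : W ≤ V := commutator_le_of_normalizes (hle.trans h.hHV)
  have hEW : ⁅V, EE p H A⁆ = W := by
    apply le_antisymm
    · rw [EE_eq_closure, commutator_le]
      intro v hv g hg
      refine (comm_mem_of_gen hWV _ ?_ g hg).2 v hv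
      rintro _ ⟨y, hy, a, ha, rfl⟩ v hv
      by_cases hyA : y ∈ centralizer (A : Set G)
      · have : y * a * y⁻¹ = a := by rw [← mem_centralizer_iff.mp hyA a ha]; group
        rw [this]; exact hVAW (commutator_mem_commutator hv ha)
      · rw [← hplane y hy hyA]
        exact commutator_mem_commutator hv (mem_sup_right ⟨a, ha, rfl⟩)
    · exact commutator_mono le_rfl (h.pair_le hAH hA hx).1
  rw [hEW]
  have hLD : (A ⊔ MulAut.conj x • A) ⊓ KK p H ≤ DD p H A := (h.pair_le hAH hA hx).2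
  have hDW : ⁅V, DD p H A⁆ = W := by
    apply le_antisymm
    · rw [← hEW]; exact commutator_mono le_rfl le_sup_left
    · rw [← hW2]; exact commutator_mono le_rfl hLD
  have hDc : (Nat.card (DD p H A)).Coprime p := Nat.Coprime.coprime_dvd_left (card_dvd_of_le (DD_le hAH)) KK_coprime
  have hcop : (Nat.card (DD p H A)).Coprime (Nat.card V) := by
    obtain ⟨n, hn⟩ := card_dvd_of_ea h.hV
    rw [hn]; exact Nat.Coprime.pow_right _ hDc
  have hsplit := abelian_sup_eq h.hV.1 hDV hcop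
  have hsplit' := abelian_inf_eq_bot h.hV.1 hDV hcop
  have hAD : A ≤ normalizer ((DD p H A : Subgroup G) : Set G) := le_normalizer_commutator_right _ _
  have hcent : V ⊓ centralizer (DD p H A : Set G) ≤ centralizer (EE p H A : Set G) := by
    have h1 : ⁅V ⊓ centralizer (DD p H A : Set G), A⁆ = ⊥ := by
      rw [eq_bot_iff, ← hsplit', hDW]
      refine le_inf (commutator_le_of_normalizes (le_normalizer_inf (hAH.trans h.hHV)
        (fun x hx => normalizer_centralizer_le (hAD hx)))) ((commutator_mono inf_le_left le_rfl).trans hVAW)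
    rw [commutator_eq_bot_iff_le_centralizer] at h1
    rw [le_centralizer_iff]
    refine sup_le ?_ (le_centralizer_iff.mp h1)
    rw [← le_centralizer_iff]; exact inf_le_right
  have hfaith : EE p H A ⊓ centralizer (W : Set G) = ⊥ := by
    rw [eq_bot_iff, ← h.hf]
    refine le_inf (inf_le_left.trans (EE_le hAH)) ?_
    rw [le_centralizer_iff]
    conv_lhs => rw [← hsplit]
    refine sup_le (hcent.trans (centralizer_le inf_le_left)) ?_
    rw [hDW, ← le_centralizer_iff]; exact inf_le_right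
  have i1 := h.pair_irr hAH hA hx hxA
  refine ⟨hp23, hEW, hDW, hW1, hcent, hfaith, ⟨h.hV, hDV, le_bot_iff.mp (h.hf ▸ inf_le_inf_right _ hDH), ?_, ?_, ?_⟩, ?_⟩
  · rw [← card_eq_one]
    have h1 : Nat.card (Cfsg.pCore p (DD p H A)) ∣ Nat.card (DD p H A) := card_subgroup_dvd_card _
    obtain ⟨k, hk⟩ := (IsPGroup.iff_card).mp (Cores.pCore_isPGroup (G := DD p H A) p)
    have h2 : (p ^ k).Coprime p := hk ▸ Nat.Coprime.coprime_dvd_left h1 hDc
    rw [hk]
    by_contra h3
    have : k ≠ 0 := fun h4 => h3 (by rw [h4, pow_zero])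
    exact hp.out.one_lt.ne' (Nat.Coprime.eq_one_of_dvd h2.symm (dvd_pow_self p this))
  · intro U hU hUn
    have h1 := i1.hirr U (by rw [hW2]; exact hDW ▸ hU) (hLD.trans hUn)
    rwa [hW2, ← hDW] at h1
  · exact lt_of_lt_of_le i1.hc (card_le_of_le hLD)
  · intro X hEX S hXS hSp hXn hXf
    have hHE := (h.pair_le hAH hA hx).1
    refine PlaneA.exists_sl (ea_mono h.hV hWV) hW1 hu hv hu1 hvu hXn hXf S hXS hSp
      (hEX (mem_sup_right ha)) (hEX (hHE (mem_sup_right ⟨a, ha, rfl⟩))) hau hav hl hbv hbu hm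

theorem gens_pow [Finite G] [hp : Fact p.Prime] (h : FF p V H) {A : Subgroup G} (hAH : A ≤ H)
    (hA : MinOff p V A) : ∀ s ∈ gens p H A, s ^ p = 1 := by
  rintro _ ⟨y, _, a, ha, rfl⟩
  rw [conj_pow, (ea_iff.mp (h.ea hAH hA.1)).2 a ha]
  group

theorem _root_.Cfsg.Agent.Lib.FFB.FF.sl [Finite G] [hp : Fact p.Prime] (h : FF p V H) {A : Subgroup G} (hAH : A ≤ H)
    (hA : MinOff p V A) : Nonempty (EE p H A ≃* Matrix.SpecialLinearGroup (Fin 2) (ZMod p)) := by
  have hd := (h.dat hAH hA).2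
  exact hd.sl _ le_rfl _ (EE_eq_closure A) (gens_pow h hAH hA) (le_normalizer_commutator_right _ _) hd.faith

/-- equal planes imply equal `E` -/
theorem _root_.Cfsg.Agent.Lib.FFB.FF.eq_of_plane [Finite G] [hp : Fact p.Prime] (h : FF p V H) {A B : Subgroup G} (hAH : A ≤ H)
    (hA : MinOff p V A) (hBH : B ≤ H) (hB : MinOff p V B) (hW : ⁅V, EE p H A⁆ = ⁅V, EE p H B⁆) : EE p H A = EE p H B := by
  have dA := (h.dat hAH hA).2
  have dB := (h.dat hBH hB).2
  set W := ⁅V, EE p H A⁆ with hWdef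
  rw [← hW] at dB
  have hEAV := (EE_le (p := p) hAH).trans h.hHV
  have hEBV := (EE_le (p := p) hBH).trans h.hHV
  set X := EE p H A ⊔ EE p H B with hX
  have hXW : ⁅V, X⁆ = W := by rw [hX, commutator_sup_right hEAV hEBV, dB.eW, dA.eW, sup_idem]
  have hXcl : X = closure (gens p H A ∪ gens p H B) := by
    rw [Subgroup.closure_union, ← EE_eq_closure, ← EE_eq_closure]
  -- faithful on W
  have hD' : DD p H A ⊔ DD p H B ≤ KK p H := sup_le (DD_le hAH) (DD_le hBH)
  have hDV : DD p H A ⊔ DD p H B ≤ normalizer (V : Set G) := (hD'.trans KK_le).trans h.hHV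
  have hcop : (Nat.card (DD p H A ⊔ DD p H B : Subgroup G)).Coprime (Nat.card V) := by
    obtain ⟨n, hn⟩ := card_dvd_of_ea h.hV
    rw [hn]; exact Nat.Coprime.pow_right _ (Nat.Coprime.coprime_dvd_left (card_dvd_of_le hD') KK_coprime)
  have hsplit := abelian_sup_eq h.hV.1 hDV hcop
  have hDW : ⁅V, DD p H A ⊔ DD p H B⁆ = W := by
    rw [commutator_sup_right (((DD_le hAH).trans KK_le).trans h.hHV) (((DD_le hBH).trans KK_le).trans h.hHV), dA.dW, dB.dW, sup_idem]
  have hXf : X ⊓ centralizer (W : Set G) = ⊥ := by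
    rw [eq_bot_iff, ← h.hf]
    refine le_inf (inf_le_left.trans (sup_le (EE_le hAH) (EE_le hBH))) ?_
    rw [le_centralizer_iff]
    conv_lhs => rw [← hsplit]
    refine sup_le ?_ ?_
    · have h1 : V ⊓ centralizer ((DD p H A ⊔ DD p H B : Subgroup G) : Set G) ≤ centralizer (X : Set G) := by
        rw [le_centralizer_iff]
        refine sup_le ?_ ?_
        · rw [← le_centralizer_iff]
          exact (inf_le_inf_left V (centralizer_le (show DD p H A ≤ DD p H A ⊔ DD p H B from le_sup_left))).trans dA.cent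
        · rw [← le_centralizer_iff]
          exact (inf_le_inf_left V (centralizer_le (show DD p H B ≤ DD p H A ⊔ DD p H B from le_sup_right))).trans dB.cent
      exact h1.trans (centralizer_le inf_le_left)
    · rw [hDW, ← le_centralizer_iff]; exact inf_le_right
  have hXn : X ≤ normalizer (W : Set G) := hXW ▸ le_normalizer_commutator_right _ _
  have hSp : ∀ s ∈ gens p H A ∪ gens p H B, s ^ p = 1 := by
    rintro s (hs | hs)
    · exact gens_pow h hAH hA s hs
    · exact gens_pow h hBH hB s hs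
  obtain ⟨e⟩ := dA.sl X le_sup_left _ hXcl hSp hXn hXf
  obtain ⟨eA⟩ := h.sl hAH hA
  obtain ⟨eB⟩ := h.sl hBH hB
  have h1 : EE p H A = X := eq_of_le_of_card_ge le_sup_left (by rw [Nat.card_congr e.toEquiv, Nat.card_congr eA.toEquiv])
  have h2 : EE p H B = X := eq_of_le_of_card_ge le_sup_right (by rw [Nat.card_congr e.toEquiv, Nat.card_congr eB.toEquiv])
  rw [h1, h2]

end Cfsg.Agent.Lib.FFI
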