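import Mathlib
import Cfsg.Agent.Lib.FFI

/-! Failure of factorization, part J: the structure theorem. -/

namespace Cfsg.Agent.Lib.FFJ

open Subgroup Cfsg.Agent.Lib Cfsg.Agent.Lib.Basic Cfsg.Agent.Lib.Cores Cfsg.Agent.Lib.Coprime
  Cfsg.Agent.Lib.CoprimeB Cfsg.Agent.Lib.ThompsonJ Cfsg.Agent.Lib.Quadratic Cfsg.Agent.Lib.QuadA
  Cfsg.Agent.Lib.QuadB Cfsg.Agent.Lib.PNilp Cfsg.Agent.Lib.FFA Cfsg.Agent.Lib.FFB Cfsg.Agent.Lib.FFC
  Cfsg.Agent.Lib.FFD Cfsg.Agent.Lib.FFE Cfsg.Agent.Lib.FFF Cfsg.Agent.Lib.FFG Cfsg.Agent.Lib.FFH Cfsg.Agent.Lib.FFI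

open scoped commutatorElement Pointwise

universe u
variable {G : Type u} [Group G] {p : ℕ} {V H : Subgroup G}

theorem smul_KK {y : G} (hy : y ∈ H) : MulAut.conj y • KK p H = KK p H :=
  conj_smul_eq_of_mem_normalizer (KK_normal hy)

theorem smul_DD {y : G} (hy : y ∈ H) (A : Subgroup G) : MulAut.conj y • DD p H A = DD p H (MulAut.conj y • A) := by
  unfold DD; rw [smul_commutator, smul_KK hy]

theorem smul_EE {y : G} (hy : y ∈ H) (A : Subgroup G) : MulAut.conj y • EE p H A = EE p H (MulAut.conj y • A) := by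
  unfold EE; rw [smul_sup, smul_commutator, smul_KK hy]

theorem smul_le {y : G} (hy : y ∈ H) {A : Subgroup G} (hA : A ≤ H) : MulAut.conj y • A ≤ H := by
  rintro _ ⟨x, hx, rfl⟩
  exact H.mul_mem (H.mul_mem hy (hA hx)) (H.inv_mem hy)

/-- different planes, part one -/
theorem _root_.Cfsg.Agent.Lib.FFB.FF.ne_plane [Finite G] [hp : Fact p.Prime] (h : FF p V H) {A B : Subgroup G} (hAH : A ≤ H)
    (hA : MinOff p V A) (hBH : B ≤ H) (hB : MinOff p V B) (hW : ⁅V, EE p H A⁆ ≠ ⁅V, EE p H B⁆) :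
    ⁅V, EE p H A⁆ ⊓ ⁅V, EE p H B⁆ = ⊥ ∧ ⁅⁅V, EE p H A⁆, DD p H B⁆ = ⊥ ∧ ⁅⁅V, EE p H B⁆, DD p H A⁆ = ⊥ := by
  have dA := (h.dat hAH hA).2
  have dB := (h.dat hBH hB).2
  have hsn : ∀ X Y : Subgroup G, X ≤ KK p H → Y ≤ KK p H → KK p H ≤ normalizer (X : Set G) → (X.subgroupOf (X ⊔ Y)).IsSubnormal := by
    intro X Y hX hY hn
    apply Normal.isSubnormal
    exact (normal_subgroupOf_iff_le_normalizer le_sup_left).mpr ((sup_le hX hY).trans hn)
  have key := FFG.main _ (DD p H A) (DD p H B) le_rfl dA.irr dB.irr (hsn _ _ (DD_le hAH) (DD_le hBH) (DD_normal A))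
    (by rw [sup_comm]; exact hsn _ _ (DD_le hBH) (DD_le hAH) (DD_normal B))
    (by
      rw [dA.dW, dB.dW]
      intro h1
      exact hW (eq_of_le_of_card_ge h1 (by rw [dA.card, dB.card])))
    (by
      rw [dA.dW, dB.dW]
      intro h1
      exact hW (eq_of_le_of_card_ge h1 (by rw [dA.card, dB.card])).symm)
  rwa [dA.dW, dB.dW] at key

/-- different planes: `B` normalizes the plane of `A` -/
theorem _root_.Cfsg.Agent.Lib.FFB.FF.plane_norm [Finite G] [hp : Fact p.Prime] (h : FF p V H) {A B : Subgroup G} (hAH : A ≤ H)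
    (hA : MinOff p V A) (hBH : B ≤ H) (hB : MinOff p V B) (hW : ⁅V, EE p H A⁆ ≠ ⁅V, EE p H B⁆) :
    B ≤ normalizer ((⁅V, EE p H A⁆ : Subgroup G) : Set G) := by
  intro b hb
  rw [mem_normalizer_iff_conj_smul_eq]
  by_contra hne
  have hbH : b ∈ H := hBH hb
  have hbV := h.hHV hbH
  have hV := conj_smul_eq_of_mem_normalizer hbV
  have hA'H : MulAut.conj b • A ≤ H := smul_le hbH hAH
  have hA' : MinOff p V (MulAut.conj b • A) := minOff_smul hbV hA
  have hWA' : ⁅V, EE p H (MulAut.conj b • A)⁆ = MulAut.conj b • ⁅V, EE p H A⁆ := by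
    rw [← smul_EE hbH, smul_commutator, hV]
  have dA' := (h.dat hA'H hA').2
  have hWB : MulAut.conj b • ⁅V, EE p H B⁆ = ⁅V, EE p H B⁆ :=
    conj_smul_eq_of_mem_normalizer (le_normalizer_commutator_right _ _ (mem_sup_right hb : b ∈ EE p H B))
  have h1 := h.ne_plane hAH hA hA'H hA' (by rw [hWA']; exact Ne.symm hne)
  have h2 := h.ne_plane hBH hB hA'H hA' (by
    rw [hWA', ← hWB]
    intro h3
    exact hW (smul_left_cancel _ h3).symm)
  -- D_{bA} centralizes W_A W_B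
  have h3 : ⁅V, EE p H A⁆ ⊔ ⁅V, EE p H B⁆ ≤ centralizer (DD p H (MulAut.conj b • A) : Set G) :=
    sup_le (commutator_eq_bot_iff_le_centralizer.mp h1.2.1) (commutator_eq_bot_iff_le_centralizer.mp h2.2.1)
  have h4 : ⁅V, EE p H (MulAut.conj b • A)⁆ ≤ ⁅V, EE p H A⁆ ⊔ ⁅V, EE p H B⁆ := by
    rw [hWA']
    rintro _ ⟨w, hw, rfl⟩
    change b * w * b⁻¹ ∈ _
    have : b * w * b⁻¹ = ⁅w, b⁆⁻¹ * w := by rw [_root_.commutatorElement_def]; group
    rw [this]
    have hwV : w ∈ V := (commutator_le_of_normalizes ((EE_le hAH).trans h.hHV)) hw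
    exact mul_mem (mem_sup_right (inv_mem (commutator_mem_commutator hwV (mem_sup_right hb : b ∈ EE p H B)))) (mem_sup_left hw)
  have h5 := commutator_eq_bot_iff_le_centralizer.mpr (h4.trans h3)
  have h6 := dA'.irr.comm
  rw [dA'.dW, h5] at h6
  have h7 := dA'.card
  rw [← h6, card_bot] at h7
  exact absurd h7.symm (by
    have := Nat.one_lt_pow (two_ne_zero) hp.out.one_lt
    omega)

theorem _root_.Cfsg.Agent.Lib.FFB.FF.K_norm [Finite G] [hp : Fact p.Prime] (h : FF p V H) {A : Subgroup G} (hAH : A ≤ H)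
    (hA : MinOff p V A) : KK p H ≤ normalizer ((⁅V, EE p H A⁆ : Subgroup G) : Set G) :=
  CoprimeB.le_normalizer_commutator (KK_le.trans h.hHV) (KK_normalizes_EE A)

theorem EE_le_normalizer [Finite G] {B X : Subgroup G} (hK : KK p H ≤ normalizer (X : Set G)) (hB : B ≤ normalizer (X : Set G)) :
    EE p H B ≤ normalizer (X : Set G) := by
  rw [EE_eq_closure, Subgroup.closure_le]
  rintro _ ⟨y, hy, b, hb, rfl⟩
  exact mul_mem (mul_mem (hK hy) (hB hb)) (inv_mem (hK hy))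

theorem _root_.Cfsg.Agent.Lib.FFB.FF.cent_plane [Finite G] [hp : Fact p.Prime] (h : FF p V H) {A B : Subgroup G} (hAH : A ≤ H)
    (hA : MinOff p V A) (hBH : B ≤ H) (hB : MinOff p V B) (hW : ⁅V, EE p H A⁆ ≠ ⁅V, EE p H B⁆) :
    ⁅⁅V, EE p H A⁆, EE p H B⁆ = ⊥ := by
  rw [eq_bot_iff, ← (h.ne_plane hAH hA hBH hB hW).1]
  refine le_inf (commutator_le_of_normalizes (EE_le_normalizer (h.K_norm hAH hA) (h.plane_norm hAH hA hBH hB hW))) ?_
  exact commutator_mono (commutator_le_of_normalizes ((EE_le hAH).trans h.hHV)) le_rfl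

/-- distinct `E`'s commute -/
theorem _root_.Cfsg.Agent.Lib.FFB.FF.commute [Finite G] [hp : Fact p.Prime] (h : FF p V H) {A B : Subgroup G} (hAH : A ≤ H)
    (hA : MinOff p V A) (hBH : B ≤ H) (hB : MinOff p V B) (hE : EE p H A ≠ EE p H B) :
    ⁅V, EE p H A⁆ ⊓ ⁅V, EE p H B⁆ = ⊥ ∧ ⁅⁅V, EE p H A⁆, EE p H B⁆ = ⊥ ∧ ⁅EE p H A, EE p H B⁆ = ⊥ ∧ EE p H A ⊓ EE p H B = ⊥ := by
  have hW : ⁅V, EE p H A⁆ ≠ ⁅V, EE p H B⁆ := fun h1 => hE (h.eq_of_plane hAH hA hBH hB h1)
  have h1 := (h.ne_plane hAH hA hBH hB hW).1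
  have h2 := h.cent_plane hAH hA hBH hB hW
  have h3 := h.cent_plane hBH hB hAH hA hW.symm
  have hEA := (EE_le (p := p) hAH)
  have hEB := (EE_le (p := p) hBH)
  obtain ⟨c1, c2, _⟩ := FFG.conseq (p := p) (V := V) (hEA.trans h.hHV) (hEB.trans h.hHV)
    (le_bot_iff.mp (h.hf ▸ inf_le_inf_right _ (sup_le hEA hEB))) h1 h2 h3
  exact ⟨h1, h2, c1, c2⟩

/-- the family of the `E`'s -/
def Fam (p : ℕ) (V H : Subgroup G) : Set (Subgroup G) := {E | ∃ A : Subgroup G, A ≤ H ∧ MinOff p V A ∧ E = EE p H A}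

theorem _root_.Cfsg.Agent.Lib.FFB.FF.sSup_fam [Finite G] [hp : Fact p.Prime] (h : FF p V H)
    (hS3 : H = ⨆ A : {A : Subgroup G // A ≤ H ∧ Cfsg.IsBestOffenderOn p V A}, (A : Subgroup G)) : sSup (Fam p V H) = H := by
  apply le_antisymm
  · refine sSup_le ?_
    rintro _ ⟨A, hA, _, rfl⟩
    exact EE_le hA
  · conv_lhs => rw [hS3]
    refine iSup_le fun A => ?_
    obtain ⟨k, B, h1, -, h3⟩ := h.decomp _ A le_rfl A.2.1 A.2.2
    rw [← h3]
    refine iSup_le fun i => ?_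
    exact le_trans (show B i ≤ EE p H (B i) from le_sup_right)
      (le_sSup ⟨B i, (h1 i).1.trans A.2.1, (h1 i).2, rfl⟩)

theorem centralizer_sSup_of [Finite G] {S : Set (Subgroup G)} {X : Subgroup G} (h : ∀ E ∈ S, ⁅X, E⁆ = ⊥) : ⁅X, sSup S⁆ = ⊥ := by
  rw [commutator_eq_bot_iff_le_centralizer, le_centralizer_iff]
  refine sSup_le fun E hE => ?_
  rw [← le_centralizer_iff, ← commutator_eq_bot_iff_le_centralizer]
  exact h E hE

/-- the complement of `E` -/
theorem _root_.Cfsg.Agent.Lib.FFB.FF.compl [Finite G] [hp : Fact p.Prime] (h : FF p V H)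
    (hS3 : H = ⨆ A : {A : Subgroup G // A ≤ H ∧ Cfsg.IsBestOffenderOn p V A}, (A : Subgroup G))
    {A : Subgroup G} (hAH : A ≤ H) (hA : MinOff p V A) :
    H ⊓ centralizer ((⁅V, EE p H A⁆ : Subgroup G) : Set G) = sSup (Fam p V H \ {EE p H A}) ∧
    ⁅EE p H A, sSup (Fam p V H \ {EE p H A})⁆ = ⊥ ∧ EE p H A ⊔ sSup (Fam p V H \ {EE p H A}) = H ∧
    ⁅V, sSup (Fam p V H \ {EE p H A})⁆ ≤ centralizer (EE p H A : Set G) := by
  set M := sSup (Fam p V H \ {EE p H A}) with hM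
  have dA := (h.dat hAH hA).2
  have hMH : M ≤ H := sSup_le (by rintro _ ⟨⟨B, hB, _, rfl⟩, _⟩; exact EE_le hB)
  have h1 : ⁅⁅V, EE p H A⁆, M⁆ = ⊥ := by
    apply centralizer_sSup_of
    rintro _ ⟨⟨B, hBH, hB, rfl⟩, hne⟩
    exact (h.commute hAH hA hBH hB (fun e => hne (by rw [Set.mem_singleton_iff, e]))).2.1
  have h2 : ⁅EE p H A, M⁆ = ⊥ := by
    apply centralizer_sSup_of
    rintro _ ⟨⟨B, hBH, hB, rfl⟩, hne⟩
    exact (h.commute hAH hA hBH hB (fun e => hne (by rw [Set.mem_singleton_iff, e]))).2.2.1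
  have h3 : EE p H A ⊔ M = H := by
    have e := h.sSup_fam hS3
    rw [hM, ← sSup_insert, Set.insert_diff_singleton, Set.insert_eq_of_mem (show EE p H A ∈ Fam p V H from ⟨A, hAH, hA, rfl⟩)]
    exact e
  have hMc : M ≤ centralizer ((⁅V, EE p H A⁆ : Subgroup G) : Set G) := by
    rw [le_centralizer_iff]; exact commutator_eq_bot_iff_le_centralizer.mp h1
  have hEM : EE p H A ≤ normalizer (M : Set G) := (commutator_eq_bot_iff_le_centralizer.mp h2).trans (centralizer_le_normalizer _)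
  refine ⟨?_, h2, h3, ?_⟩
  · apply le_antisymm
    · have h4 := sup_inf_assoc_of_le' (A := M) (B := EE p H A) hMc hEM
      rw [dA.faith, sup_bot_eq, sup_comm, h3] at h4
      rw [← h4]
    · exact le_inf hMH hMc
  · have h4 : ⁅V, M⁆ = ⨆ E : (Fam p V H \ {EE p H A} : Set (Subgroup G)), ⁅V, (E : Subgroup G)⁆ := by
      rw [hM, sSup_eq_iSup', commutator_iSup_right]
      rintro ⟨_, ⟨B, hBH, hB, rfl⟩, _⟩
      exact (EE_le hBH).trans h.hHV
    rw [h4]
    refine iSup_le ?_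
    rintro ⟨_, ⟨B, hBH, hB, rfl⟩, hne⟩
    exact commutator_eq_bot_iff_le_centralizer.mp (h.commute hBH hB hAH hA (fun e => hne (by rw [Set.mem_singleton_iff, e]))).2.1

theorem _root_.Cfsg.Agent.Lib.FFB.FF.exists_min [Finite G] [hp : Fact p.Prime] (h : FF p V H)
    (hS3 : H = ⨆ A : {A : Subgroup G // A ≤ H ∧ Cfsg.IsBestOffenderOn p V A}, (A : Subgroup G)) (hH : H ≠ ⊥) :
    ∃ A : Subgroup G, A ≤ H ∧ MinOff p V A := by
  by_contra hcon
  push Not at hcon
  apply hH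
  rw [hS3, eq_bot_iff]
  refine iSup_le fun A => ?_
  by_contra hA
  have hA0 : (A : Subgroup G) ≠ ⊥ := fun e => hA (e ▸ le_rfl)
  obtain ⟨B, hB, hB2⟩ := exists_minOff A.2.2 (fun e => hA0 ((h.eq_bot_iff' A.2.1).mp e))
  exact hcon B (hB.trans A.2.1) hB2

section structure_theorem

variable {ι : Type*} (f : ι → Subgroup G)

/-- `D` of each member -/
theorem _root_.Cfsg.Agent.Lib.FFB.FF.structure [Finite G] [hp : Fact p.Prime] (h : FF p V H)
    (hS3 : H = ⨆ A : {A : Subgroup G // A ≤ H ∧ Cfsg.IsBestOffenderOn p V A}, (A : Subgroup G)) (hH : H ≠ ⊥)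
    (hf1 : ∀ i, ∃ A : Subgroup G, A ≤ H ∧ MinOff p V A ∧ f i = EE p H A) (hinj : Function.Injective f)
    (hsurj : ∀ A : Subgroup G, A ≤ H → MinOff p V A → ∃ i, f i = EE p H A) :
    (p = 2 ∨ p = 3) ∧ (∀ i, H ≤ normalizer (f i : Set G) ∧ Nonempty (f i ≃* Matrix.SpecialLinearGroup (Fin 2) (ZMod p)) ∧
      Nat.card (⁅V, f i⁆ : Subgroup G) = p ^ 2) ∧ iSupIndep f ∧ ⨆ i, f i = H ∧
      iSupIndep (fun o : Option ι => o.elim (V ⊓ centralizer (H : Set G)) (fun i => ⁅V, f i⁆)) ∧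
      (V ⊓ centralizer (H : Set G)) ⊔ ⨆ i, ⁅V, f i⁆ = V := by
  have hfam : ∀ X : Subgroup G, X ∈ Fam p V H ↔ ∃ i, f i = X := by
    intro X
    constructor
    · rintro ⟨A, hA, hm, rfl⟩
      exact hsurj A hA hm
    · rintro ⟨i, rfl⟩
      obtain ⟨A, hA, hm, he⟩ := hf1 i
      exact ⟨A, hA, hm, he⟩
  have hsup : ⨆ i, f i = H := by
    rw [← h.sSup_fam hS3]
    apply le_antisymm
    · exact iSup_le fun i => le_sSup ((hfam _).mpr ⟨i, rfl⟩)
    · refine sSup_le fun X hX => ?_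
      obtain ⟨i, rfl⟩ := (hfam X).mp hX
      exact le_iSup f i
  obtain ⟨A₀, hA₀, hm₀⟩ := h.exists_min hS3 hH
  have hother : ∀ i A, A ≤ H → MinOff p V A → f i = EE p H A → ∀ j, j ≠ i → f j ≤ sSup (Fam p V H \ {EE p H A}) := by
    intro i A hA hm he j hj
    refine le_sSup ⟨(hfam _).mpr ⟨j, rfl⟩, ?_⟩
    rw [Set.mem_singleton_iff, ← he]
    exact fun e => hj (hinj e)
  have hfV : ∀ i, f i ≤ normalizer (V : Set G) := by
    intro i
    obtain ⟨A, hA, hm, he⟩ := hf1 i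
    rw [he]; exact (EE_le hA).trans h.hHV
  have hV' := (ea_iff.mp h.hV).1
  have hWV : ∀ i, ⁅V, f i⁆ ≤ V := fun i => commutator_le_of_normalizes (hfV i)
  -- for a member, everything else is centralized by `D`
  refine ⟨(h.dat hA₀ hm₀).1, ?_, ?_, hsup, ?_, ?_⟩
  · intro i
    obtain ⟨A, hA, hm, he⟩ := hf1 i
    rw [he]
    obtain ⟨c1, c2, c3, -⟩ := h.compl hS3 hA hm
    refine ⟨?_, h.sl hA hm, (h.dat hA hm).2.card⟩
    have h1 : sSup (Fam p V H \ {EE p H A}) ≤ normalizer (EE p H A : Set G) :=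
      (le_centralizer_iff.mp (commutator_eq_bot_iff_le_centralizer.mp c2)).trans (centralizer_le_normalizer _)
    have h2 := sup_le (le_normalizer (H := EE p H A)) h1
    rwa [c3] at h2
  · intro i
    obtain ⟨A, hA, hm, he⟩ := hf1 i
    obtain ⟨c1, c2, c3, -⟩ := h.compl hS3 hA hm
    have h1 : (⨆ j, ⨆ (_ : j ≠ i), f j) ≤ sSup (Fam p V H \ {EE p H A}) := iSup₂_le fun j hj => hother i A hA hm he j hj
    rw [disjoint_iff, eq_bot_iff]
    refine (inf_le_inf_left _ h1).trans ?_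
    rw [← c1, he, ← (h.dat hA hm).2.faith]
    exact le_inf inf_le_left (inf_le_right.trans inf_le_right)
  · intro o
    rcases o with _ | i
    · -- C_V(H)
      rw [disjoint_iff, eq_bot_iff]
      have hKV : KK p H ≤ normalizer (V : Set G) := KK_le.trans h.hHV
      have hcop : (Nat.card (KK p H)).Coprime (Nat.card V) := by
        obtain ⟨n, hn⟩ := card_dvd_of_ea h.hV
        rw [hn]; exact Nat.Coprime.pow_right _ KK_coprime
      rw [← abelian_inf_eq_bot h.hV.1 hKV hcop]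
      refine inf_le_inf (inf_le_inf_left _ (centralizer_le KK_le)) ?_
      refine iSup₂_le fun o ho => ?_
      rcases o with _ | j
      · exact absurd rfl ho
      · change ⁅V, f j⁆ ≤ _
        obtain ⟨A, hA, hm, he⟩ := hf1 j
        rw [he, ← (h.dat hA hm).2.dW]
        exact commutator_mono le_rfl (DD_le hA)
    · obtain ⟨A, hA, hm, he⟩ := hf1 i
      obtain ⟨c1, c2, c3, c4⟩ := h.compl hS3 hA hm
      have hd := (h.dat hA hm).2
      rw [disjoint_iff, eq_bot_iff]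
      have hDV : DD p H A ≤ normalizer (V : Set G) := hd.irr.hEV
      have hcop : (Nat.card (DD p H A)).Coprime (Nat.card V) := by
        obtain ⟨n, hn⟩ := card_dvd_of_ea h.hV
        rw [hn]; exact Nat.Coprime.pow_right _ (Nat.Coprime.coprime_dvd_left (card_dvd_of_le (DD_le hA)) KK_coprime)
      have h3 := abelian_inf_eq_bot h.hV.1 hDV hcop
      rw [← h3, inf_comm]
      refine inf_le_inf ?_ ?_
      · refine iSup₂_le fun o ho => ?_
        rcases o with _ | j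
        · exact inf_le_inf_left _ (centralizer_le ((DD_le hA).trans KK_le))
        · have hji : j ≠ i := fun e => ho (by rw [e])
          refine le_inf (hWV j) ?_
          have h4 : ⁅V, f j⁆ ≤ ⁅V, sSup (Fam p V H \ {EE p H A})⁆ := commutator_mono le_rfl (hother i A hA hm he j hji)
          exact (h4.trans c4).trans (centralizer_le (show DD p H A ≤ EE p H A from le_sup_left))
      · change ⁅V, f i⁆ ≤ _
        rw [he, hd.dW]
  · -- generation
    apply le_antisymm (sup_le inf_le_left (iSup_le hWV))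
    -- R = ⨆ D
    choose A hA hm he using hf1
    set R := ⨆ i, DD p H (A i) with hR
    have hRK : R ≤ KK p H := iSup_le fun i => DD_le (hA i)
    have hRV : R ≤ normalizer (V : Set G) := (hRK.trans KK_le).trans h.hHV
    have hcop : (Nat.card R).Coprime (Nat.card V) := by
      obtain ⟨n, hn⟩ := card_dvd_of_ea h.hV
      rw [hn]; exact Nat.Coprime.pow_right _ (Nat.Coprime.coprime_dvd_left (card_dvd_of_le hRK) KK_coprime)
    have h1 := abelian_sup_eq h.hV.1 hRV hcop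
    conv_lhs => rw [← h1]
    refine sup_le ?_ ?_
    · refine le_sup_of_le_left (le_inf inf_le_left ?_)
      rw [← hsup, le_centralizer_iff]
      refine iSup_le fun i => ?_
      rw [← le_centralizer_iff, he i]
      refine le_trans (inf_le_inf_left V (centralizer_le ?_)) (h.dat (hA i) (hm i)).2.cent
      exact (le_iSup (fun i => DD p H (A i)) i : DD p H (A i) ≤ R)
    · refine le_sup_of_le_right ?_
      rw [hR, commutator_iSup_right _ (fun i => ((DD_le (hA i)).trans KK_le).trans h.hHV)]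
      refine iSup_mono fun i => ?_
      rw [he i, (h.dat (hA i) (hm i)).2.dW]

end structure_theorem

end Cfsg.Agent.Lib.FFJ
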