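import Mathlib
import Cfsg.Agent.Lib.FFJ
import Cfsg.Agent.Lib.PSol
import Cfsg.Agent.Lib.QuadD

/-! Failure of factorization, part K: the dual Hall–Higman lemma; the semidirect product `V ⋊ G/C`. -/

namespace Cfsg.Agent.Lib.FFK

open Subgroup Cfsg.Agent.Lib Cfsg.Agent.Lib.Basic Cfsg.Agent.Lib.Cores Cfsg.Agent.Lib.Coprime
  Cfsg.Agent.Lib.CoprimeB Cfsg.Agent.Lib.ThompsonJ Cfsg.Agent.Lib.Quadratic Cfsg.Agent.Lib.QuadA
  Cfsg.Agent.Lib.QuadB Cfsg.Agent.Lib.PNilp Cfsg.Agent.Lib.FFA Cfsg.Agent.Lib.FFB Cfsg.Agent.Lib.FFC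
  Cfsg.Agent.Lib.FFD Cfsg.Agent.Lib.FFE Cfsg.Agent.Lib.FFF Cfsg.Agent.Lib.FFG Cfsg.Agent.Lib.FFH Cfsg.Agent.Lib.FFI
  Cfsg.Agent.Lib.FFJ

open scoped commutatorElement Pointwise

universe u
variable {G : Type u} [Group G]

/-- the dual of the Hall–Higman lemma -/
theorem centralizer_pPrimeCore_le [Finite G] {p : ℕ} [hp : Fact p.Prime] (hsol : Cfsg.IsPSolvable p G)
    (hO : Cfsg.pCore p G = ⊥) : centralizer (Cfsg.pPrimeCore p G : Set G) ≤ Cfsg.pPrimeCore p G := by
  set N := Cfsg.pPrimeCore p G with hN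
  haveI hNn : N.Normal := Cores.pPrimeCore_normal p
  set C := centralizer (N : Set G) with hC
  haveI hCn : C.Normal := by rw [hC]; infer_instance
  set Z := C ⊓ N with hZ
  haveI hZn : Z.Normal := inferInstance
  by_contra hcon
  let π := QuotientGroup.mk' Z
  have hπ : Function.Surjective π := QuotientGroup.mk'_surjective Z
  have hker : π.ker = Z := QuotientGroup.ker_mk' Z
  set Cb := C.map π with hCb
  haveI hCbn : Cb.Normal := hCn.map _ hπ
  have hCb0 : Cb ≠ ⊥ := by
    intro h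
    rw [hCb, Subgroup.map_eq_bot_iff, hker] at h
    exact hcon (h.trans inf_le_right)
  haveI : Nontrivial Cb := (Subgroup.nontrivial_iff_ne_bot _).mpr hCb0
  have hsolb : Cfsg.IsPSolvable p Cb := PSol.subgroup (PSol.quotient hsol Z) Cb
  have hZc : (Nat.card Z).Coprime p := Nat.Coprime.coprime_dvd_left (card_dvd_of_le inf_le_right) (Cores.pPrimeCore_coprime p)
  -- a normal subgroup of the quotient inside Cb
  have key : ∀ M : Subgroup (G ⧸ Z), M.Normal → M ≤ Cb → (Nat.card (M.comap π)).Coprime p → M = ⊥ := by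
    intro M hM hMC hc
    have h1 : M.comap π ≤ N := le_pPrimeCore (hM.comap π) hc
    have h2 : M.comap π ≤ C := by
      refine (comap_mono hMC).trans ?_
      rw [hCb, comap_map_eq, hker]
      exact sup_le le_rfl inf_le_left
    have h3 : M.comap π ≤ Z := le_inf h2 h1
    have h4 : M = (M.comap π).map π := (map_comap_eq_self_of_surjective hπ M).symm
    rw [h4, Subgroup.map_eq_bot_iff, hker]
    exact h3
  rcases PSol.core_ne_bot hsolb with h | h
  · -- a `p`-group
    have e : (Cfsg.pCore p Cb).map Cb.subtype = Cfsg.pCore p (G ⧸ Z) ⊓ Cb := Cores.map_pCore_eq_inf Cb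
    set M := Cfsg.pCore p (G ⧸ Z) ⊓ Cb with hM
    have hMn : M.Normal := by
      haveI := Cores.pCore_normal (G := G ⧸ Z) p
      infer_instance
    have hMp : IsPGroup p M := (Cores.pCore_isPGroup (G := G ⧸ Z) p).to_le inf_le_left
    apply h
    rw [← Subgroup.map_eq_bot_iff_of_injective _ Cb.subtype_injective, e]
    refine key M hMn inf_le_right ?_
    set L := M.comap π with hL
    haveI hLn : L.Normal := hMn.comap π
    have hLC : L ≤ C := by
      refine (comap_mono (inf_le_right : M ≤ Cb)).trans ?_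
      rw [hCb, comap_map_eq, hker]
      exact sup_le le_rfl inf_le_left
    -- L is nilpotent
    have hnil : Group.IsNilpotent L := by
      let f : L →* M := (π.comp L.subtype).codRestrict M (fun x => x.2)
      haveI : Group.IsNilpotent M := hMp.isNilpotent
      refine Subgroup.isNilpotent_of_ker_le_center f ?_
      intro x hx
      have hx' : π (x : G) = 1 := congrArg Subtype.val (MonoidHom.mem_ker.mp hx)
      have hxZ : (x : G) ∈ Z := by rw [← hker]; exact MonoidHom.mem_ker.mpr hx'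
      rw [mem_center_iff]
      intro y
      apply Subtype.ext
      exact (mem_centralizer_iff.mp (hLC y.2) x (mem_inf.mp hxZ).2).symm
    -- its Sylow `p`-subgroup is trivial
    have hLp : Cfsg.pCore p L = ⊥ := by
      have h1 := Cores.map_pCore_le (p := p) L
      rw [hO, le_bot_iff] at h1
      exact (Subgroup.map_eq_bot_iff_of_injective _ L.subtype_injective).mp h1
    obtain ⟨P⟩ : Nonempty (Sylow p L) := inferInstance
    have hPn : (P : Subgroup L).Normal := by
      have := (Group.isNilpotent_of_finite_tfae (G := L)).out 0 3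
      exact (this.mp hnil) p hp P
    have hPb : (P : Subgroup L) = ⊥ := by
      rw [eq_bot_iff, ← hLp]
      exact Cores.le_pCore hPn P.2
    have h2 := P.not_dvd_index
    rw [hPb, index_bot] at h2
    exact ((Nat.Prime.coprime_iff_not_dvd hp.out).mpr h2).symm
  · -- a `p'`-group
    have e : (Cfsg.pPrimeCore p Cb).map Cb.subtype = Cfsg.pPrimeCore p (G ⧸ Z) ⊓ Cb := Cores.map_pPrimeCore_eq_inf Cb
    set M := Cfsg.pPrimeCore p (G ⧸ Z) ⊓ Cb with hM
    have hMn : M.Normal := by
      haveI := Cores.pPrimeCore_normal (G := G ⧸ Z) p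
      infer_instance
    apply h
    rw [← Subgroup.map_eq_bot_iff_of_injective _ Cb.subtype_injective, e]
    refine key M hMn inf_le_right ?_
    rw [card_comap_eq π hπ, hker]
    exact Nat.Coprime.mul_left hZc (Nat.Coprime.coprime_dvd_left (card_dvd_of_le inf_le_left) (Cores.pPrimeCore_coprime p))

section semidirect

variable (V C : Subgroup G) [hVn : V.Normal] [hCn : C.Normal] (hC : C ≤ centralizer (V : Set G))

/-- the action of `G/C` on `V` -/
def phi : G ⧸ C →* MulAut V :=
  QuotientGroup.lift C (MulAut.conjNormal (H := V)) (fun g hg => by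
    apply MulEquiv.ext
    intro v
    apply Subtype.ext
    rw [MulAut.conjNormal_apply]
    have := mem_centralizer_iff.mp (hC hg) v v.2
    simp only [MulAut.one_apply]
    rw [← this]; group)

/-- `V ⋊ G/C` -/
abbrev Gam := V ⋊[phi V C hC] (G ⧸ C)

instance [Finite G] : Finite (Gam V C hC) := Finite.of_equiv _ SemidirectProduct.equivProd.symm

/-- the map `G → V ⋊ G/C` -/
def th : G →* Gam V C hC := SemidirectProduct.inr.comp (QuotientGroup.mk' C)

/-- the embedding of `V` -/
def iV : V →* Gam V C hC := SemidirectProduct.inl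

theorem iV_inj : Function.Injective (iV V C hC) := SemidirectProduct.inl_injective

theorem th_conj (g : G) (v : V) : th V C hC g * iV V C hC v * (th V C hC g)⁻¹ = iV V C hC ⟨g * v * g⁻¹, hVn.conj_mem v v.2 g⟩ := by
  have h1 := SemidirectProduct.inl_aut (φ := phi V C hC) (QuotientGroup.mk' C g) v
  rw [map_inv] at h1
  exact h1.symm

theorem th_ker : (th V C hC).ker = C := by
  have : (th V C hC).ker = (QuotientGroup.mk' C).ker := by
    ext x
    constructor
    · intro h
      exact MonoidHom.mem_ker.mpr (SemidirectProduct.inr_injective ((MonoidHom.mem_ker.mp h).trans (map_one _).symm))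
    · intro h
      rw [MonoidHom.mem_ker, th, MonoidHom.comp_apply, MonoidHom.mem_ker.mp h, map_one]
  rw [this, QuotientGroup.ker_mk']

/-- the image of a subgroup of `V` -/
def jj (U : Subgroup G) : Subgroup (Gam V C hC) := (U.subgroupOf V).map (iV V C hC)

variable {V C hC}

theorem mem_jj {U : Subgroup G} {x : Gam V C hC} : x ∈ jj V C hC U ↔ ∃ v : V, (v : G) ∈ U ∧ iV V C hC v = x := Iff.rfl

theorem iV_mem_jj {U : Subgroup G} {v : V} : iV V C hC v ∈ jj V C hC U ↔ (v : G) ∈ U := by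
  rw [mem_jj]
  constructor
  · rintro ⟨w, hw, hw2⟩
    rwa [← iV_inj V C hC hw2]
  · intro h; exact ⟨v, h, rfl⟩

theorem jj_le_jj {U W : Subgroup G} (hU : U ≤ V) : jj V C hC U ≤ jj V C hC W ↔ U ≤ W := by
  constructor
  · intro h x hx
    have := h (iV_mem_jj.mpr (show ((⟨x, hU hx⟩ : V) : G) ∈ U from hx))
    exact iV_mem_jj.mp this
  · intro h x hx
    obtain ⟨v, hv, rfl⟩ := mem_jj.mp hx
    exact iV_mem_jj.mpr (h hv)

theorem card_jj {U : Subgroup G} (hU : U ≤ V) : Nat.card (jj V C hC U) = Nat.card U := by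
  have h1 : Nat.card (jj V C hC U) = Nat.card (U.subgroupOf V) := card_map_inj _ (iV_inj V C hC) _
  rw [h1]
  exact Nat.card_congr (subgroupOfEquivOfLe hU).toEquiv

theorem exists_jj {X : Subgroup (Gam V C hC)} (hX : X ≤ jj V C hC V) : ∃ U : Subgroup G, U ≤ V ∧ X = jj V C hC U := by
  refine ⟨(X.comap (iV V C hC)).map V.subtype, map_subtype_le _, ?_⟩
  ext x
  constructor
  · intro hx
    obtain ⟨v, _, rfl⟩ := mem_jj.mp (hX hx)
    exact iV_mem_jj.mpr ⟨v, hx, rfl⟩
  · intro hx
    obtain ⟨v, hv, rfl⟩ := mem_jj.mp hx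
    obtain ⟨w, hw, hw2⟩ := hv
    have : w = v := Subtype.ext hw2
    subst this
    exact hw

theorem th_mem_map {Y : Subgroup G} (hCY : C ≤ Y) {g : G} : th V C hC g ∈ Y.map (th V C hC) ↔ g ∈ Y := by
  constructor
  · rintro ⟨y, hy, he⟩
    have : y⁻¹ * g ∈ (th V C hC).ker := by
      rw [MonoidHom.mem_ker, map_mul, map_inv, he, inv_mul_cancel]
    rw [th_ker] at this
    have h2 : g = y * (y⁻¹ * g) := by group
    rw [h2]; exact Y.mul_mem hy (hCY this)
  · intro h; exact ⟨g, h, rfl⟩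

theorem mem_cent_map {Y : Subgroup G} {v : V} :
    iV V C hC v ∈ centralizer ((Y.map (th V C hC) : Subgroup (Gam V C hC)) : Set (Gam V C hC)) ↔ (v : G) ∈ centralizer (Y : Set G) := by
  rw [mem_centralizer_iff, mem_centralizer_iff]
  constructor
  · intro h y hy
    have h1 := h _ ⟨y, hy, rfl⟩
    have h2 := th_conj V C hC y v
    rw [h1, mul_inv_cancel_right] at h2
    have h3 := congrArg Subtype.val (iV_inj V C hC h2)
    have h4 : (v : G) = y * v * y⁻¹ := h3
    rw [eq_mul_inv_iff_mul_eq] at h4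
    exact h4.symm
  · rintro h _ ⟨y, hy, rfl⟩
    have h1 := h y hy
    have h2 := th_conj V C hC y v
    have h3 : (⟨y * v * y⁻¹, hVn.conj_mem v v.2 y⟩ : V) = v := by
      apply Subtype.ext
      change y * v * y⁻¹ = v
      rw [h1]; group
    rw [h3, mul_inv_eq_iff_eq_mul] at h2
    exact h2

theorem inf_cent_map (Y : Subgroup G) :
    jj V C hC V ⊓ centralizer ((Y.map (th V C hC) : Subgroup (Gam V C hC)) : Set (Gam V C hC)) = jj V C hC (V ⊓ centralizer (Y : Set G)) := by
  ext x
  rw [mem_inf]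
  constructor
  · rintro ⟨hx, hc⟩
    obtain ⟨v, hv, rfl⟩ := mem_jj.mp hx
    exact iV_mem_jj.mpr (mem_inf.mpr ⟨hv, mem_cent_map.mp hc⟩)
  · intro hx
    obtain ⟨v, hv, rfl⟩ := mem_jj.mp hx
    exact ⟨iV_mem_jj.mpr (mem_inf.mp hv).1, mem_cent_map.mpr (mem_inf.mp hv).2⟩

theorem map_le_normalizer (Y : Subgroup G) {U : Subgroup G} (hU : U ≤ V) (hY : Y ≤ normalizer (U : Set G)) :
    Y.map (th V C hC) ≤ normalizer (jj V C hC U : Set (Gam V C hC)) := by
  rintro _ ⟨y, hy, rfl⟩
  rw [mem_normalizer_iff]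
  intro x
  constructor
  · intro hx
    obtain ⟨v, hv, rfl⟩ := mem_jj.mp hx
    rw [th_conj]
    exact iV_mem_jj.mpr ((mem_normalizer_iff.mp (hY hy) v).mp hv)
  · intro hx
    obtain ⟨w, hw, hw2⟩ := mem_jj.mp hx
    have h1 := th_conj V C hC y⁻¹ w
    have h2 : x = iV V C hC ⟨y⁻¹ * w * y⁻¹⁻¹, hVn.conj_mem w w.2 y⁻¹⟩ := by
      rw [← h1, hw2, map_inv]; group
    rw [h2]
    exact iV_mem_jj.mpr ((mem_normalizer_iff.mp ((normalizer (U : Set G)).inv_mem (hY hy)) w).mp hw)

theorem comm_map (Y : Subgroup G) {U : Subgroup G} (hU : U ≤ V) :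
    ⁅jj V C hC U, Y.map (th V C hC)⁆ = jj V C hC ⁅U, Y⁆ := by
  have key : ∀ (v : V) (y : G), ⁅iV V C hC v, th V C hC y⁆ = iV V C hC ⟨⁅(v : G), y⁆, by
      rw [_root_.commutatorElement_def]
      have : (v : G) * y * (v : G)⁻¹ * y⁻¹ = v * (y * (v : G)⁻¹ * y⁻¹) := by group
      rw [this]; exact V.mul_mem v.2 (hVn.conj_mem _ (V.inv_mem v.2) y)⟩ := by
    intro v y
    have h1 := th_conj V C hC y v⁻¹
    rw [_root_.commutatorElement_def]
    have e : iV V C hC v * th V C hC y * (iV V C hC v)⁻¹ * (th V C hC y)⁻¹ =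
        iV V C hC v * (th V C hC y * iV V C hC v⁻¹ * (th V C hC y)⁻¹) := by rw [map_inv]; group
    rw [e, h1, ← map_mul]
    congr 1
    apply Subtype.ext
    change (v : G) * (y * ((v⁻¹ : V) : G) * y⁻¹) = ⁅(v : G), y⁆
    rw [_root_.commutatorElement_def]
    simp only [InvMemClass.coe_inv]
    group
  apply le_antisymm
  · rw [commutator_le]
    rintro x hx _ ⟨y, hy, rfl⟩
    obtain ⟨v, hv, rfl⟩ := mem_jj.mp hx
    rw [key]
    exact iV_mem_jj.mpr (commutator_mem_commutator hv hy)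
  · -- the generators
    have h1 : ⁅U, Y⁆ ≤ ((⁅jj V C hC U, Y.map (th V C hC)⁆).comap (iV V C hC)).map V.subtype := by
      rw [commutator_le]
      intro u hu y hy
      refine ⟨⟨⁅u, y⁆, ?_⟩, ?_, rfl⟩
      · rw [_root_.commutatorElement_def]
        have : u * y * u⁻¹ * y⁻¹ = u * (y * u⁻¹ * y⁻¹) := by group
        rw [this]; exact V.mul_mem (hU hu) (hVn.conj_mem _ (V.inv_mem (hU hu)) y)
      · have := key ⟨u, hU hu⟩ y
        refine (mem_comap (K := ⁅jj V C hC U, Y.map (th V C hC)⁆)).mpr ?_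
        rw [← this]
        exact commutator_mem_commutator (iV_mem_jj.mpr hu) ⟨y, hy, rfl⟩
    intro x hx
    obtain ⟨v, hv, rfl⟩ := mem_jj.mp hx
    obtain ⟨w, hw, hw2⟩ := h1 hv
    have : w = v := Subtype.ext hw2
    subst this
    exact hw

theorem ea_jj {p : ℕ} {U : Subgroup G} (hU : Cfsg.IsElementaryAbelian p U) : Cfsg.IsElementaryAbelian p (jj V C hC U) :=
  ea_map (ea_comap hU V.subtype V.subtype_injective) _

/-- best offenders in `G` give best offenders in `Γ` -/
theorem best_map [Finite G] {p : ℕ} {A : Subgroup G} (hA : Cfsg.IsElementaryAbelian p A)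
    (hb : Cfsg.IsBestOffenderOn p V A) : Cfsg.IsBestOffenderOn p (jj V C hC V) (A.map (th V C hC)) := by
  have hcard : ∀ B : Subgroup G, B ≤ A → Nat.card B = Nat.card (B.map (th V C hC)) * Nat.card (B ⊓ C : Subgroup G) := by
    intro B _
    let f : B →* Gam V C hC := (th V C hC).comp B.subtype
    have h1 : Nat.card B = Nat.card f.range * Nat.card f.ker := by
      rw [card_eq_card_quotient_mul_card_subgroup f.ker, Nat.card_congr (QuotientGroup.quotientKerEquivRange f).toEquiv]
    have h2 : f.range = B.map (th V C hC) := by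
      rw [MonoidHom.range_eq_map, ← Subgroup.map_map, ← MonoidHom.range_eq_map, range_subtype]
    have h3 : f.ker = C.subgroupOf B := by
      rw [← MonoidHom.comap_ker, th_ker]; rfl
    rw [h1, h2, h3, ← inf_subgroupOf_left, Nat.card_congr (subgroupOfEquivOfLe inf_le_left).toEquiv]
  have hA' := ea_iff.mp hA
  refine ⟨?_, ?_, ?_⟩
  · intro B hB
    -- the preimage in A
    set B₀ := A ⊓ B.comap (th V C hC) with hB₀
    have hB₀A : B₀ ≤ A := inf_le_left
    have hmap : B₀.map (th V C hC) = B := by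
      apply le_antisymm
      · rintro _ ⟨x, hx, rfl⟩
        exact (mem_inf.mp hx).2
      · intro x hx
        obtain ⟨a, ha, rfl⟩ := hB hx
        exact ⟨a, mem_inf.mpr ⟨ha, hx⟩, rfl⟩
    have hi : B₀ ⊓ C = A ⊓ C := by
      apply le_antisymm (inf_le_inf_right _ hB₀A)
      refine le_inf (le_inf inf_le_left ?_) inf_le_right
      intro x hx
      have : th V C hC x = 1 := by
        rw [← MonoidHom.mem_ker, th_ker]; exact (mem_inf.mp hx).2
      rw [mem_comap, this]; exact B.one_mem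
    have h1 := hb.1 B₀ hB₀A
    have h2 := hcard B₀ hB₀A
    have h3 := hcard A le_rfl
    rw [← hmap, inf_cent_map, inf_cent_map, card_jj inf_le_left, card_jj inf_le_left]
    rw [h2, h3, hi] at h1
    have h4 : 0 < Nat.card (A ⊓ C : Subgroup G) := Nat.card_pos
    refine Nat.le_of_mul_le_mul_left ?_ h4
    calc Nat.card ↥(A ⊓ C) * (Nat.card ↥(map (th V C hC) B₀) * Nat.card ↥(V ⊓ centralizer (B₀ : Set G)))
        = Nat.card ↥(map (th V C hC) B₀) * Nat.card ↥(A ⊓ C) * Nat.card ↥(V ⊓ centralizer (B₀ : Set G)) := by ring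
      _ ≤ _ := h1
      _ = _ := by ring
  · refine (commutator_le.mpr ?_)
    rintro _ ⟨x, hx, rfl⟩ _ ⟨y, hy, rfl⟩
    rw [commutatorElement_eq_one_iff_mul_comm.mpr (by rw [← map_mul, hA'.1 x hx y hy, map_mul])]
    exact one_mem _
  · rintro _ ⟨x, hx, rfl⟩
    rw [← map_pow, hA'.2 x hx, map_one]
    exact one_mem _

/-- the faithful situation in `Γ` -/
theorem ff_map [Finite G] {p : ℕ} [hp : Fact p.Prime] (hV : Cfsg.IsElementaryAbelian p V) {Y : Subgroup G}
    (hY : Y ⊓ centralizer (V : Set G) ≤ C) (hsol : Cfsg.IsPSolvable p Y) (hO : Cfsg.pCore p (Y.map (th V C hC)) = ⊥) :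
    FF p (jj V C hC V) (Y.map (th V C hC)) := by
  refine ⟨ea_jj hV, map_le_normalizer Y le_rfl (le_normalizer_of_normal), ?_, ?_⟩
  · rw [eq_bot_iff]
    intro x hx
    obtain ⟨⟨y, hy, rfl⟩, hc⟩ := mem_inf.mp hx
    have h1 : y ∈ centralizer (V : Set G) := by
      refine mem_centralizer_iff.mpr fun v hv => ?_
      have h2 := mem_centralizer_iff.mp hc (iV V C hC ⟨v, hv⟩) (iV_mem_jj.mpr hv)
      have h3 := th_conj V C hC y ⟨v, hv⟩
      rw [← h2, mul_inv_cancel_right] at h3
      have h4 := congrArg Subtype.val (iV_inj V C hC h3)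
      have h5 : v = y * v * y⁻¹ := h4
      rw [eq_mul_inv_iff_mul_eq] at h5
      exact h5
    have h2 : y ∈ (th V C hC).ker := by rw [th_ker]; exact hY (mem_inf.mpr ⟨hy, h1⟩)
    exact mem_bot.mpr (MonoidHom.mem_ker.mp h2)
  · refine centralizer_pPrimeCore_le ?_ hO
    refine PSol.of_surjective hsol ((th V C hC).subgroupMap Y) ?_
    exact (th V C hC).subgroupMap_surjective Y

end semidirect

end Cfsg.Agent.Lib.FFK
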