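import Mathlib
import Cfsg.Agent.Lib.FFK
import Cfsg.Agent.Lib.HallHigman

/-! Failure of factorization, part L: `p`-solvable groups. -/

namespace Cfsg.Agent.Lib.FFL

open Subgroup Cfsg.Agent.Lib Cfsg.Agent.Lib.Basic Cfsg.Agent.Lib.Cores Cfsg.Agent.Lib.Coprime
  Cfsg.Agent.Lib.CoprimeB Cfsg.Agent.Lib.ThompsonJ Cfsg.Agent.Lib.Quadratic Cfsg.Agent.Lib.QuadA
  Cfsg.Agent.Lib.QuadB Cfsg.Agent.Lib.PNilp Cfsg.Agent.Lib.FFA Cfsg.Agent.Lib.FFB Cfsg.Agent.Lib.FFC
  Cfsg.Agent.Lib.FFD Cfsg.Agent.Lib.FFE Cfsg.Agent.Lib.FFF Cfsg.Agent.Lib.FFG Cfsg.Agent.Lib.FFH Cfsg.Agent.Lib.FFI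
  Cfsg.Agent.Lib.FFJ Cfsg.Agent.Lib.FFK Cfsg.Agent.Lib.QuadC Cfsg.Agent.Lib.QuadD

open scoped commutatorElement Pointwise

universe u v
variable {G : Type u} [Group G]

theorem pCore_bot_of_surj {p : ℕ} {L : Type v} [Group L] (f : G →* L) (hf : Function.Surjective f) {N : Subgroup G} [N.Normal]
    (hN : f.ker = N) (h : Cfsg.pCore p (G ⧸ N) = ⊥) : Cfsg.pCore p L = ⊥ := by
  subst hN
  exact pCore_eq_bot_of_equiv (QuotientGroup.quotientKerEquivOfSurjective f hf) h

theorem lift_sub {L : Type v} [Group L] (f : G →* L) {E' : Subgroup L} (hE' : E' ≤ f.range) {N : Subgroup G}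
    (hN : f.ker = N) [hn : (N.subgroupOf (E'.comap f)).Normal] :
    Nonempty ((E'.comap f) ⧸ (N.subgroupOf (E'.comap f)) ≃* E') := by
  subst hN
  let g : (E'.comap f) →* E' := (f.comp (E'.comap f).subtype).codRestrict E' (fun x => x.2)
  have hg : Function.Surjective g := by
    rintro ⟨y, hy⟩
    obtain ⟨x, rfl⟩ := hE' hy
    exact ⟨⟨x, hy⟩, rfl⟩
  have hk : f.ker.subgroupOf (E'.comap f) = g.ker := by
    ext x
    constructor
    · intro h
      exact MonoidHom.mem_ker.mpr (Subtype.ext (MonoidHom.mem_ker.mp (mem_subgroupOf.mp h)))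
    · intro h
      exact mem_subgroupOf.mpr (MonoidHom.mem_ker.mpr (congrArg Subtype.val (MonoidHom.mem_ker.mp h)))
  exact ⟨(QuotientGroup.quotientMulEquivOfEq hk).trans (QuotientGroup.quotientKerEquivOfSurjective g hg)⟩

theorem pCore_ozc [Finite G] {p : ℕ} [Fact p.Prime] : letI := ozc_normal (G := G) p
    Cfsg.pCore p (G ⧸ centralizer (ozc p G : Set G)) = ⊥ := by
  haveI := ozc_normal (G := G) p
  refine pCore_quotient_eq_bot_of fun D hD hCD hk => ?_
  haveI := hD
  exact eq_centralizer_of_gen (V := ozc p G) (fun S : Sylow p G => oz p (S : Subgroup G)) (fun S => le_centralizer_oz) rfl hCD hk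

/-- `J(G)` acts on `Γ` as a group generated by best offenders -/
theorem J_gen [Finite G] {p : ℕ} [hp : Fact p.Prime] {V C K : Subgroup G} [V.Normal] [C.Normal] {hC : C ≤ centralizer (V : Set G)}
    (hV : Cfsg.IsElementaryAbelian p V) (hVK : V ≤ K) (H : Subgroup (Gam V C hC)) (hH : H = (Cfsg.thompsonSubgroupOf p K).map (th V C hC)) :
    H = ⨆ A : {A : Subgroup (Gam V C hC) // A ≤ H ∧ Cfsg.IsBestOffenderOn p (jj V C hC V) A}, (A : Subgroup (Gam V C hC)) := by
  apply le_antisymm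
  · conv_lhs => rw [hH]
    rw [J_eq, sSup_eq_iSup', Subgroup.map_iSup]
    refine iSup_le fun A => ?_
    have h1 : (A : Subgroup G).map (th V C hC) ≤ H := by
      rw [hH, J_eq]; exact map_mono (le_sSup A.2)
    have h2 := best_map (hC := hC) A.2.2.1 (bestOffender_of_max hVK hV (le_normalizer_of_normal) A.2)
    exact le_iSup (fun A : {A : Subgroup (Gam V C hC) // A ≤ H ∧ Cfsg.IsBestOffenderOn p (jj V C hC V) A} => (A : Subgroup (Gam V C hC)))
      ⟨_, h1, h2⟩
  · exact iSup_le fun A => A.2.1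

theorem pCore_map_top {p : ℕ} {V C : Subgroup G} [V.Normal] [C.Normal] {hC : C ≤ centralizer (V : Set G)}
    (h : Cfsg.pCore p (G ⧸ C) = ⊥) : Cfsg.pCore p ((⊤ : Subgroup G).map (th V C hC)) = ⊥ := by
  refine pCore_bot_of_surj ((th V C hC).codRestrict ((⊤ : Subgroup G).map (th V C hC)) (fun x => mem_map_of_mem _ (mem_top x))) ?_ ?_ h
  · rintro ⟨_, x, _, rfl⟩
    exact ⟨x, rfl⟩
  · rw [MonoidHom.ker_codRestrict, th_ker]

theorem isPSolvable_top [Finite G] {p : ℕ} [Fact p.Prime] (h : Cfsg.IsPSolvable p G) : Cfsg.IsPSolvable p (⊤ : Subgroup G) :=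
  PSol.subgroup h ⊤

/-- `|A| ≤ |V C_A(V)|` -/
theorem maxEA_of [Finite G] {p : ℕ} [hp : Fact p.Prime] (hsol : Cfsg.IsPSolvable p G) {V : Subgroup G} [V.Normal]
    (hV : Cfsg.IsElementaryAbelian p V) (hO : Cfsg.pCore p (G ⧸ centralizer (V : Set G)) = ⊥) {A : Subgroup G}
    (hA : A ∈ maxEA p (⊤ : Subgroup G)) : V ⊔ (A ⊓ centralizer (V : Set G)) ∈ maxEA p (centralizer (V : Set G)) := by
  set C := centralizer (V : Set G) with hCdef
  have hff : FF p (jj V C le_rfl V) ((⊤ : Subgroup G).map (th V C le_rfl)) :=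
    ff_map hV inf_le_right (isPSolvable_top hsol) (pCore_map_top hO)
  have hA' := ea_iff.mp hA.2.1
  have hV' := ea_iff.mp hV
  have h1 := hff.card_le (A := A.map (th V C le_rfl)) (map_mono le_top) (ea_map hA.2.1 _)
  rw [inf_cent_map, card_jj inf_le_left, card_jj le_rfl] at h1
  have hcard : Nat.card A = Nat.card (A.map (th V C le_rfl)) * Nat.card (A ⊓ C : Subgroup G) := by
    let f : A →* Gam V C le_rfl := (th V C le_rfl).comp A.subtype
    have h1 : Nat.card A = Nat.card f.range * Nat.card f.ker := by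
      rw [card_eq_card_quotient_mul_card_subgroup f.ker, Nat.card_congr (QuotientGroup.quotientKerEquivRange f).toEquiv]
    have h2 : f.range = A.map (th V C le_rfl) := by
      rw [MonoidHom.range_eq_map, ← Subgroup.map_map, ← MonoidHom.range_eq_map, range_subtype]
    have h3 : f.ker = C.subgroupOf A := by
      rw [← MonoidHom.comap_ker, th_ker]; rfl
    rw [h1, h2, h3, ← inf_subgroupOf_left, Nat.card_congr (subgroupOfEquivOfLe inf_le_left).toEquiv]
  have hVC : V ≤ C := fun x hx => mem_centralizer_iff.mpr fun y hy => hV'.1 y hy x hx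
  have hn : A ⊓ C ≤ normalizer (V : Set G) := le_normalizer_of_normal
  have hB1 := card_sup_mul_card_inf hn
  have hinf : V ⊓ (A ⊓ C) = V ⊓ A := by
    apply le_antisymm (inf_le_inf_left _ inf_le_left)
    exact le_inf inf_le_left (le_inf inf_le_right (inf_le_left.trans hVC))
  rw [hinf] at hB1
  have hle : Nat.card (V ⊓ A : Subgroup G) ≤ Nat.card ↥(V ⊓ centralizer (A : Set G)) := by
    refine card_le_of_le (le_inf inf_le_left (inf_le_right.trans ?_))
    exact fun x hx => mem_centralizer_iff.mpr fun y hy => hA'.1 y hy x hx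
  have hea : Cfsg.IsElementaryAbelian p (V ⊔ (A ⊓ C) : Subgroup G) := by
    rw [ea_iff]
    have hel : ∀ x ∈ V ⊔ (A ⊓ C), ∃ v ∈ V, ∃ a ∈ A ⊓ C, v * a = x := fun x hx => (mem_sup_iff_left hn).mp hx
    have hva : ∀ v ∈ V, ∀ a ∈ A ⊓ C, v * a = a * v := fun v hv a ha => mem_centralizer_iff.mp (mem_inf.mp ha).2 v hv
    constructor
    · intro x hx y hy
      obtain ⟨v, hv, a, ha, rfl⟩ := hel x hx
      obtain ⟨w, hw, b, hb, rfl⟩ := hel y hy
      have c1 : Commute v w := hV'.1 v hv w hw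
      have c2 : Commute v b := hva v hv b hb
      have c3 : Commute a w := (hva w hw a ha).symm
      have c4 : Commute a b := hA'.1 a (mem_inf.mp ha).1 b (mem_inf.mp hb).1
      exact (Commute.mul_left (c1.mul_right c2) (c3.mul_right c4)).eq
    · intro x hx
      obtain ⟨v, hv, a, ha, rfl⟩ := hel x hx
      have c2 : Commute v a := hva v hv a ha
      rw [c2.mul_pow, hV'.2 v hv, hA'.2 a (mem_inf.mp ha).1, one_mul]
  have hfin : Nat.card A ≤ Nat.card (V ⊔ (A ⊓ C) : Subgroup G) := by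
    have h4 : 0 < Nat.card (V ⊓ A : Subgroup G) := Nat.card_pos
    refine Nat.le_of_mul_le_mul_right ?_ h4
    rw [hB1]
    calc Nat.card A * Nat.card (V ⊓ A : Subgroup G)
        ≤ Nat.card A * Nat.card ↥(V ⊓ centralizer (A : Set G)) := Nat.mul_le_mul_left _ hle
      _ = (Nat.card (A.map (th V C le_rfl)) * Nat.card ↥(V ⊓ centralizer (A : Set G))) * Nat.card (A ⊓ C : Subgroup G) := by
          rw [hcard]; ring
      _ ≤ Nat.card V * Nat.card (A ⊓ C : Subgroup G) := Nat.mul_le_mul_right _ h1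
  refine ⟨sup_le hVC inf_le_right, hea, fun D hD hDE => ?_⟩
  exact (hA.2.2 D le_top hDE).trans hfin

/-- `[Ω₁(Z(J(C))), J(G)] ≤ V` -/
theorem comm_le [Finite G] {p : ℕ} [hp : Fact p.Prime] (hsol : Cfsg.IsPSolvable p G) {V : Subgroup G} [V.Normal]
    (hV : Cfsg.IsElementaryAbelian p V) (hO : Cfsg.pCore p (G ⧸ centralizer (V : Set G)) = ⊥) :
    ⁅Cfsg.omegaOne p (Cfsg.centerThompsonOf p (centralizer (V : Set G))), Cfsg.thompsonSubgroup p G⁆ ≤ V := by
  set Z := Cfsg.omegaOne p (Cfsg.centerThompsonOf p (centralizer (V : Set G))) with hZ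
  have hA : ∀ A ∈ maxEA p (⊤ : Subgroup G), ∀ z ∈ Z, ∀ a ∈ A, ⁅z, a⁆ ∈ V := by
    intro A hA z hz a ha
    have hB := maxEA_of hsol hV hO hA
    have hcomm : ∀ x ∈ Cfsg.centerThompsonOf p (centralizer (V : Set G)), ∀ y ∈ Cfsg.centerThompsonOf p (centralizer (V : Set G)), x * y = y * x := by
      intro x hx y hy
      exact (mem_centralizer_iff.mp (mem_inf.mp hy).2 x (mem_inf.mp hx).1)
    obtain ⟨hz1, hz2⟩ := (mem_omega_of_comm hcomm).mp hz
    have hzC : z ∈ centralizer (V : Set G) := J_le _ _ (mem_inf.mp hz1).1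
    have hzB : z ∈ V ⊔ (A ⊓ centralizer (V : Set G)) := by
      refine mem_of_centralizes hB hzC hz2 ?_
      have h1 : V ⊔ (A ⊓ centralizer (V : Set G)) ≤ Cfsg.thompsonSubgroupOf p (centralizer (V : Set G)) := by
        rw [J_eq]; exact le_sSup hB
      exact centralizer_le h1 (mem_inf.mp hz1).2
    obtain ⟨v, hv, c, hc, rfl⟩ := (mem_sup_iff_left (le_normalizer_of_normal : A ⊓ centralizer (V : Set G) ≤ normalizer (V : Set G))).mp hzB
    have hca : c * a = a * c := (ea_iff.mp hA.2.1).1 c (mem_inf.mp hc).1 a ha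
    have e : ⁅v * c, a⁆ = v * (a * v⁻¹ * a⁻¹) := by
      rw [_root_.commutatorElement_def]
      calc v * c * a * (v * c)⁻¹ * a⁻¹ = v * (c * a) * c⁻¹ * v⁻¹ * a⁻¹ := by group
        _ = v * (a * c) * c⁻¹ * v⁻¹ * a⁻¹ := by rw [hca]
        _ = _ := by group
    rw [e]
    exact V.mul_mem hv ((inferInstance : V.Normal).conj_mem _ (V.inv_mem hv) a)
  rw [commutator_le]
  intro z hz g hg
  rw [QuadC.thompson_eq] at hg
  -- the subgroup of elements acting trivially
  have h1 : sSup (maxEA p (⊤ : Subgroup G)) ≤ (centralizer ((Z.map (QuotientGroup.mk' V) : Subgroup (G ⧸ V)) : Set (G ⧸ V))).comap (QuotientGroup.mk' V) := by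
    refine sSup_le fun A hA' a ha => ?_
    rw [mem_comap, mem_centralizer_iff]
    rintro _ ⟨z, hz, rfl⟩
    have h2 : QuotientGroup.mk' V ⁅z, a⁆ = 1 := (QuotientGroup.eq_one_iff _).mpr (hA A hA' z hz a ha)
    rw [map_commutatorElement, commutatorElement_eq_one_iff_mul_comm] at h2
    exact h2
  have h3 := mem_centralizer_iff.mp (mem_comap.mp (h1 hg)) _ ⟨z, hz, rfl⟩
  rw [← commutatorElement_eq_one_iff_mul_comm, ← map_commutatorElement] at h3
  exact (QuotientGroup.eq_one_iff _).mp h3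

/-- Thompson factorization fails: a normal `SL₂(p)` -/
theorem exists_sl_of [Finite G] {p : ℕ} [hp : Fact p.Prime] (hsol : Cfsg.IsPSolvable p G) (hO : Cfsg.pPrimeCore p G = ⊥)
    (hnf : ¬ Cfsg.IsThompsonFactorizable p G) : (p = 2 ∨ p = 3) ∧
    ∃ E : Subgroup G, centralizer (ozc p G : Set G) ≤ E ∧ E ≤ Cfsg.thompsonSubgroup p G ⊔ centralizer (ozc p G : Set G) ∧
      Cfsg.thompsonSubgroup p G ⊔ centralizer (ozc p G : Set G) ≤ normalizer (E : Set G) ∧
      ∃ hn : ((centralizer (ozc p G : Set G)).subgroupOf E).Normal,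
        Nonempty ((E ⧸ (centralizer (ozc p G : Set G)).subgroupOf E) ≃* Matrix.SpecialLinearGroup (Fin 2) (ZMod p)) := by
  haveI hVn := ozc_normal (G := G) p
  have hcore := HallHigman.centralizer_pCore_le p hsol hO
  have hV := ea_ozc hcore
  set V := ozc p G with hVdef
  have hO' : Cfsg.pCore p (G ⧸ centralizer (V : Set G)) = ⊥ := pCore_ozc
  rw [factorizable_iff_le hO, ← hVdef] at hnf
  set C := centralizer (V : Set G) with hCdef
  set J := Cfsg.thompsonSubgroup p G with hJ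
  have hJ' : J = Cfsg.thompsonSubgroupOf p (⊤ : Subgroup G) := thompson_eq_of_top p
  haveI hJn : J.Normal := by
    haveI := thompson_char (G := G) (p := p)
    infer_instance
  set T := th V C le_rfl with hT
  have hle : J.map T ≤ (⊤ : Subgroup G).map T := map_mono le_top
  have hnorm : ((J.map T).subgroupOf ((⊤ : Subgroup G).map T)).Normal := by
    refine (normal_subgroupOf_iff_le_normalizer hle).mpr ?_
    have h1 := le_normalizer_map (H := J) T
    rw [normalizer_eq_top] at h1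
    exact h1
  have hOJ : Cfsg.pCore p (J.map T) = ⊥ :=
    FFG.pCore_bot_of_subnormal hle hnorm.isSubnormal (pCore_map_top hO')
  have hff : FF p (jj V C le_rfl V) (J.map T) := ff_map hV inf_le_right (PSol.subgroup hsol J) hOJ
  have hgen := J_gen (C := C) (hC := le_rfl) hV (le_top : V ≤ ⊤) (J.map T) (by rw [hJ'])
  have hne : J.map T ≠ ⊥ := by
    intro h
    rw [Subgroup.map_eq_bot_iff, hT, th_ker] at h
    exact hnf h
  obtain ⟨A, hA, hm⟩ := hff.exists_min hgen hne
  refine ⟨(hff.dat hA hm).1, (EE p (J.map T) A).comap T, ?_, ?_, ?_, ?_⟩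
  · intro x hx
    have : T x = 1 := by
      rw [← MonoidHom.mem_ker, hT, th_ker]; exact hx
    rw [mem_comap, this]; exact one_mem _
  · intro x hx
    obtain ⟨j, hj, hjx⟩ := EE_le hA (mem_comap.mp hx)
    have h1 : j⁻¹ * x ∈ C := by
      rw [← th_ker V C le_rfl, MonoidHom.mem_ker, map_mul, map_inv]
      change (T j)⁻¹ * T x = 1
      rw [hjx, inv_mul_cancel]
    have h2 : x = j * (j⁻¹ * x) := by group
    rw [h2]
    exact mul_mem (mem_sup_left hj) (mem_sup_right h1)
  · obtain ⟨c1, c2, c3, -⟩ := hff.compl hgen hA hm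
    have h1 : J.map T ≤ normalizer (EE p (J.map T) A : Set (Gam V C le_rfl)) := by
      have h1 : sSup (Fam p (jj V C le_rfl V) (J.map T) \ {EE p (J.map T) A}) ≤ normalizer (EE p (J.map T) A : Set (Gam V C le_rfl)) :=
        (le_centralizer_iff.mp (commutator_eq_bot_iff_le_centralizer.mp c2)).trans (centralizer_le_normalizer _)
      have h2 := sup_le (le_normalizer (H := EE p (J.map T) A)) h1
      rwa [c3] at h2
    have h2 : J ⊔ C ≤ (normalizer (EE p (J.map T) A : Set (Gam V C le_rfl))).comap T := by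
      refine sup_le (map_le_iff_le_comap.mp h1) ?_
      intro x hx
      have : T x = 1 := by
        rw [← MonoidHom.mem_ker, hT, th_ker]; exact hx
      rw [mem_comap, this]; exact one_mem _
    refine h2.trans ?_
    exact le_normalizer_comap T
  · have hker : T.ker = C := th_ker V C le_rfl
    have hn : (C.subgroupOf ((EE p (J.map T) A).comap T)).Normal := inferInstance
    refine ⟨hn, ?_⟩
    have hr : EE p (J.map T) A ≤ T.range := (EE_le hA).trans (map_le_range _ _)
    obtain ⟨e⟩ := lift_sub T hr hker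
    obtain ⟨e2⟩ := hff.sl hA hm
    exact ⟨e.trans e2⟩

end Cfsg.Agent.Lib.FFL
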