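import Mathlib

/-! Fixed-point-free elements of prime order. -/

set_option autoImplicit false

namespace Cfsg.Agent.Lib.FixFree

open MulAction

variable {G Ω : Type*} [Group G] [Finite G] [MulAction G Ω] [Fintype Ω]

theorem orb_dvd [IsPretransitive G Ω] {p : ℕ} [Fact p.Prime] (P : Sylow p G) (ω : Ω) (j : ℕ) (h : p ^ j ∣ Fintype.card Ω) :
    ∃ i, j ≤ i ∧ Nat.card (orbit (P : Subgroup G) ω) = p ^ i := by
  have hp : p.Prime := Fact.out
  obtain ⟨a, ha⟩ := IsPGroup.iff_card.1 P.2
  have h1 : Nat.card (orbit (P : Subgroup G) ω) * Nat.card (stabilizer (P : Subgroup G) ω) = Nat.card (P : Subgroup G) := by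
    rw [← Nat.card_prod]
    exact Nat.card_congr (orbitProdStabilizerEquivGroup (P : Subgroup G) ω)
  have h2 : Nat.card (stabilizer (P : Subgroup G) ω) ∣ p ^ a := by
    rw [← ha]; exact Subgroup.card_subgroup_dvd_card _
  obtain ⟨b, hb, hb'⟩ := (Nat.dvd_prime_pow hp).1 h2
  have h3 : p ^ b ∣ Nat.card (stabilizer G ω) := by
    have h4 : (stabilizer (P : Subgroup G) ω).map (P : Subgroup G).subtype ≤ stabilizer G ω := by
      rintro _ ⟨x, hx, rfl⟩
      exact hx
    have h5 := Subgroup.card_dvd_of_le h4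
    rwa [Subgroup.card_map_of_injective (P : Subgroup G).subtype_injective, hb'] at h5
  have h6 : Nat.card G = Fintype.card Ω * Nat.card (stabilizer G ω) := by
    have := index_stabilizer_of_transitive G ω
    rw [← Subgroup.card_mul_index (stabilizer G ω), this, Nat.card_eq_fintype_card (α := Ω), mul_comm]
  have h7 : p ^ (j + b) ∣ Nat.card G := by
    rw [h6, pow_add]; exact mul_dvd_mul h h3
  have h8 : p ^ (j + b) ∣ Nat.card (P : Subgroup G) := P.pow_dvd_card_of_pow_dvd_card h7
  rw [ha] at h8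
  have h9 : j + b ≤ a := (Nat.pow_dvd_pow_iff_le_right hp.one_lt).1 h8
  refine ⟨a - b, by omega, ?_⟩
  rw [hb', ha] at h1
  have hpos : 0 < p ^ b := pow_pos hp.pos b
  apply Nat.eq_of_mul_eq_mul_right hpos
  rw [h1, ← pow_add]
  congr 1; omega

theorem ppow [FaithfulSMul G Ω] [IsPretransitive G Ω] (p k : ℕ) (hp : p.Prime) (hk : 1 ≤ k) (hΩ : Fintype.card Ω = p ^ k) :
    ∃ g : G, orderOf g = p ∧ ∀ ω : Ω, g • ω ≠ ω := by
  haveI := Fact.mk hp
  obtain ⟨P⟩ := (inferInstance : Nonempty (Sylow p G))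
  have hne : Nonempty Ω := by
    rw [← Fintype.card_pos_iff, hΩ]; exact pow_pos hp.pos k
  obtain ⟨ω₀⟩ := hne
  have horb : ∀ ω : Ω, ω ∈ orbit (P : Subgroup G) ω₀ := by
    obtain ⟨i, hi, hi'⟩ := orb_dvd P ω₀ k (by rw [hΩ])
    have h1 : (orbit (P : Subgroup G) ω₀) = Set.univ := by
      have h2 : (Set.univ : Set Ω).ncard ≤ (orbit (P : Subgroup G) ω₀).ncard := by
        rw [Set.ncard_univ, ← Nat.card_coe_set_eq, hi', Nat.card_eq_fintype_card, hΩ]
        exact Nat.pow_le_pow_right hp.pos hi
      exact Set.eq_of_subset_of_ncard_le (Set.subset_univ _) h2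
    intro ω; rw [h1]; trivial
  haveI : Nontrivial (P : Subgroup G) := by
    obtain ⟨i, hi, hi'⟩ := orb_dvd P ω₀ k (by rw [hΩ])
    by_contra hnt
    rw [not_nontrivial_iff_subsingleton] at hnt
    have h1 : Nat.card (orbit (P : Subgroup G) ω₀) ≤ 1 := by
      have : Subsingleton (orbit (P : Subgroup G) ω₀) := by
        constructor
        rintro ⟨_, x, rfl⟩ ⟨_, y, rfl⟩
        rw [Subsingleton.elim x y]
      exact Finite.card_le_one_iff_subsingleton.2 this
    rw [hi'] at h1
    have h3 : p ^ 1 ≤ p ^ i := Nat.pow_le_pow_right hp.pos (by omega)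
    have h4 := hp.two_le
    rw [pow_one] at h3
    omega
  haveI hcn : Nontrivial (Subgroup.center (P : Subgroup G)) := P.2.center_nontrivial
  have hdvd : p ∣ Nat.card (Subgroup.center (P : Subgroup G)) := by
    have hcp : IsPGroup p (Subgroup.center (P : Subgroup G)) := P.2.to_subgroup _
    obtain ⟨n, hn, hn'⟩ := (IsPGroup.nontrivial_iff_card hcp).1 hcn
    rw [hn']; exact dvd_pow_self p hn.ne'
  obtain ⟨z, hz⟩ := exists_prime_orderOf_dvd_card' p hdvd
  have hz1 : ((z : (P : Subgroup G)) : G) ≠ 1 := by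
    intro h
    have : z = 1 := Subtype.ext (Subtype.ext h)
    rw [this, orderOf_one] at hz
    exact hp.one_lt.ne hz
  refine ⟨((z : (P : Subgroup G)) : G), by rw [Subgroup.orderOf_coe, Subgroup.orderOf_coe, hz], ?_⟩
  intro ω hω
  apply hz1
  apply FaithfulSMul.eq_of_smul_eq_smul (α := Ω)
  intro ω'
  obtain ⟨x, hx⟩ := horb ω
  obtain ⟨y, hy⟩ := horb ω'
  have e1 : ω' = (y * x⁻¹ : (P : Subgroup G)) • ω := by
    rw [← hx, ← hy]
    change y • ω₀ = (y * x⁻¹) • x • ω₀
    rw [← mul_smul]; congr 1; group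
  have hc := Subgroup.mem_center_iff.1 z.2 (y * x⁻¹)
  have e2 : (z : (P : Subgroup G)) • ω' = ω' := by
    rw [e1, ← mul_smul, ← hc, mul_smul]
    congr 1
  rw [one_smul]
  exact e2

theorem mp [FaithfulSMul G Ω] [IsPretransitive G Ω] (p m : ℕ) (hp : p.Prime) (hm : 1 ≤ m) (hmp : m ≤ p) (hΩ : Fintype.card Ω = m * p) :
    ∃ g : G, orderOf g = p ∧ ∀ ω : Ω, g • ω ≠ ω := by
  classical
  haveI := Fact.mk hp
  by_cases hmeq : m = p
  · exact ppow p 2 hp (by norm_num) (by rw [hΩ, hmeq, pow_two])
  have hlt : m < p := lt_of_le_of_ne hmp hmeq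
  obtain ⟨P⟩ := (inferInstance : Nonempty (Sylow p G))
  have hne : Nonempty Ω := by
    rw [← Fintype.card_pos_iff, hΩ]; exact Nat.mul_pos hm hp.pos
  obtain ⟨ω₀⟩ := hne
  have horb : ∀ ω : Ω, Nat.card (orbit (P : Subgroup G) ω) = p := by
    intro ω
    obtain ⟨i, hi, hi'⟩ := orb_dvd P ω 1 (by rw [hΩ, pow_one]; exact dvd_mul_left p m)
    have h1 : Nat.card (orbit (P : Subgroup G) ω) ≤ m * p := by
      rw [← hΩ, Nat.card_coe_set_eq, ← Nat.card_eq_fintype_card]; exact Set.ncard_le_card _
    have h2 : i < 2 := by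
      by_contra h
      have h3 : p ^ 2 ≤ p ^ i := Nat.pow_le_pow_right hp.pos (by omega)
      rw [hi'] at h1
      have : m * p < p * p := Nat.mul_lt_mul_of_pos_right hlt hp.pos
      nlinarith
    have : i = 1 := by omega
    rw [hi', this, pow_one]
  obtain ⟨a, ha⟩ := IsPGroup.iff_card.1 P.2
  have hidx : ∀ ω : Ω, (stabilizer (P : Subgroup G) ω).index = p := by
    intro ω
    rw [index_stabilizer, ← Nat.card_coe_set_eq, horb]
  have ha1 : 1 ≤ a := by
    by_contra h
    have : a = 0 := by omega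
    rw [this, pow_zero] at ha
    have h1 := Subgroup.index_dvd_card (stabilizer (P : Subgroup G) ω₀)
    rw [hidx, ha] at h1
    exact hp.one_lt.ne' (Nat.dvd_one.1 h1)
  have hnorm : ∀ ω : Ω, (stabilizer (P : Subgroup G) ω).Normal := by
    intro ω
    apply Subgroup.normal_of_index_eq_minFac_card
    rw [hidx, ha, Nat.Prime.pow_minFac hp (by omega)]
  have hstab : ∀ (ω : Ω) (x : (P : Subgroup G)), stabilizer (P : Subgroup G) (x • ω) = stabilizer (P : Subgroup G) ω := by
    intro ω x
    have := hnorm ω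
    ext y
    rw [mem_stabilizer_iff, mem_stabilizer_iff]
    have e : y • x • ω = x • ω ↔ (x⁻¹ * y * x) • ω = ω := by
      rw [mul_smul, mul_smul, inv_smul_eq_iff]
    rw [e, ← mem_stabilizer_iff, ← mem_stabilizer_iff]
    constructor
    · intro h
      have := (hnorm ω).conj_mem _ h x
      have e2 : x * (x⁻¹ * y * x) * x⁻¹ = y := by group
      rwa [e2] at this
    · intro h
      have := (hnorm ω).conj_mem _ h x⁻¹
      rwa [inv_inv] at this
  -- exists an element of P moving everything
  have hex : ∃ x : (P : Subgroup G), ∀ ω : Ω, x • ω ≠ ω := by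
    by_contra hcon
    push Not at hcon
    haveI : Fintype (P : Subgroup G) := Fintype.ofFinite _
    haveI : Fintype (orbitRel.Quotient (P : Subgroup G) Ω) := Fintype.ofFinite _
    -- number of orbits
    have hcnt : Fintype.card (orbitRel.Quotient (P : Subgroup G) Ω) * p = Fintype.card Ω := by
      have h1 : Nat.card Ω = ∑ q : orbitRel.Quotient (P : Subgroup G) Ω, Nat.card q.orbit := by
        rw [← Nat.card_sigma]
        exact Nat.card_congr (selfEquivSigmaOrbits' (P : Subgroup G) Ω)
      have h2 : ∀ q : orbitRel.Quotient (P : Subgroup G) Ω, Nat.card q.orbit = p := by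
        intro q
        induction q using Quotient.inductionOn' with
        | _ ω => exact horb ω
      rw [← Nat.card_eq_fintype_card (α := Ω), h1, Finset.sum_congr rfl (fun q _ => h2 q), Finset.sum_const, Finset.card_univ, smul_eq_mul]
    have hm' : Fintype.card (orbitRel.Quotient (P : Subgroup G) Ω) = m := by
      rw [hΩ] at hcnt
      exact Nat.eq_of_mul_eq_mul_right hp.pos hcnt
    -- union bound
    have hcov : (Finset.univ : Finset (P : Subgroup G)) ⊆ Finset.univ.biUnion (fun q : orbitRel.Quotient (P : Subgroup G) Ω =>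
        (Finset.univ.filter (fun x : (P : Subgroup G) => x ∈ stabilizer (P : Subgroup G) (Quotient.out q)))) := by
      intro x _
      obtain ⟨ω, hω⟩ := hcon x
      rw [Finset.mem_biUnion]
      refine ⟨Quotient.mk'' ω, Finset.mem_univ _, ?_⟩
      rw [Finset.mem_filter]
      refine ⟨Finset.mem_univ _, ?_⟩
      have h1 : (orbitRel (P : Subgroup G) Ω).r (Quotient.out (Quotient.mk'' ω : orbitRel.Quotient (P : Subgroup G) Ω)) ω :=
        Quotient.exact (Quotient.out_eq _)
      obtain ⟨y, hy⟩ := h1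
      have h2 : y • ω = Quotient.out (Quotient.mk'' ω : orbitRel.Quotient (P : Subgroup G) Ω) := hy
      rw [← h2, hstab]
      exact hω
    have h1 := (Finset.card_le_card hcov).trans Finset.card_biUnion_le
    have h2 : ∀ q : orbitRel.Quotient (P : Subgroup G) Ω, (Finset.univ.filter (fun x : (P : Subgroup G) => x ∈ stabilizer (P : Subgroup G) (Quotient.out q))).card * p = p ^ a := by
      intro q
      have h3 := Subgroup.card_mul_index (stabilizer (P : Subgroup G) (Quotient.out q))
      rw [hidx, ha] at h3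
      rw [← h3]
      congr 1
      rw [Nat.card_eq_fintype_card, Fintype.card_subtype]
    have h3 : (Finset.univ : Finset (P : Subgroup G)).card = p ^ a := by
      rw [Finset.card_univ, ← Nat.card_eq_fintype_card, ha]
    have h4 : p ^ a * p ≤ m * p ^ a := by
      calc p ^ a * p ≤ (∑ q : orbitRel.Quotient (P : Subgroup G) Ω, (Finset.univ.filter (fun x : (P : Subgroup G) => x ∈ stabilizer (P : Subgroup G) (Quotient.out q))).card) * p := by
            rw [← h3]; exact Nat.mul_le_mul_right _ h1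
        _ = ∑ q : orbitRel.Quotient (P : Subgroup G) Ω, p ^ a := by
            rw [Finset.sum_mul]; exact Finset.sum_congr rfl (fun q _ => h2 q)
        _ = m * p ^ a := by rw [Finset.sum_const, Finset.card_univ, hm', smul_eq_mul]
    have h5 : 0 < p ^ a := pow_pos hp.pos a
    rw [mul_comm m] at h4
    have := Nat.le_of_mul_le_mul_left h4 h5
    omega
  obtain ⟨x, hx⟩ := hex
  refine ⟨(x : G), ?_, hx⟩
  rw [Subgroup.orderOf_coe]
  apply orderOf_eq_prime
  · apply Subtype.ext
    apply FaithfulSMul.eq_of_smul_eq_smul (α := Ω)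
    intro ω
    have := hnorm ω
    have h1 : x ^ p ∈ stabilizer (P : Subgroup G) ω := by
      have h2 := Subgroup.pow_index_mem (stabilizer (P : Subgroup G) ω) x
      rwa [hidx] at h2
    rw [OneMemClass.coe_one, one_smul]
    exact h1
  · rintro rfl
    exact hx ω₀ (one_smul _ _)

end Cfsg.Agent.Lib.FixFree
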