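import Cfsg.Agent.Lib.SimpleCrit
import Mathlib.GroupTheory.Perm.Cycle.Type

/-!
Self-centralising elements of prime order: normal subgroups of order prime to p, normalisers, simplicity.
-/

set_option autoImplicit false
set_option linter.style.haveILetI false

namespace Cfsg.Agent.Lib.FpfCrit

open scoped Pointwise

variable {G : Type*} [Group G] [Finite G] {p : ℕ} [hp : Fact p.Prime] {t : G}

/-- if conjugation by t fixes only the identity of an invariant finite subgroup, its order is 1 modulo p -/
theorem card_mod (ht : t ^ p = 1) {S : Set G} (hS : ∀ x ∈ S, t * x * t⁻¹ ∈ S) (h1 : (1 : G) ∈ S)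
    (hfix : ∀ x ∈ S, t * x = x * t → x = 1) : S.ncard % p = 1 := by
  classical
  haveI := Fintype.ofFinite S
  let f : Function.End S := fun x => ⟨t * x * t⁻¹, hS x x.2⟩
  have hf : ∀ n : ℕ, ∀ x : S, (((f ^ n) x : S) : G) = t ^ n * x * (t ^ n)⁻¹ := by
    intro n
    induction n with
    | zero => intro x; simp [Function.End.one_def]
    | succ n ih =>
      intro x
      rw [pow_succ']
      show t * (((f ^ n) x : S) : G) * t⁻¹ = _
      rw [ih x, pow_succ']; group
  have h2 : f ^ p ^ 1 = 1 := by
    rw [pow_one]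
    funext x
    apply Subtype.ext
    rw [hf, ht]
    simp [Function.End.one_def]
  have h3 := Equiv.Perm.card_fixedPoints_modEq h2
  have h4 : Fintype.card (Function.fixedPoints f) = 1 := by
    rw [Fintype.card_eq_one_iff]
    refine ⟨⟨⟨1, h1⟩, ?_⟩, ?_⟩
    · apply Subtype.ext; show t * 1 * t⁻¹ = 1; group
    · rintro ⟨x, hx⟩
      apply Subtype.ext
      apply Subtype.ext
      apply hfix x x.2
      have : t * (x : G) * t⁻¹ = x := congrArg Subtype.val hx
      rw [mul_inv_eq_iff_eq_mul] at this; exact this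
  rw [h4] at h3
  have h5 : S.ncard = Fintype.card S := by
    rw [← Nat.card_eq_fintype_card]; rfl
  rw [h5]
  have h6 : Fintype.card S % p = 1 % p := h3
  rw [h6, Nat.mod_eq_of_lt hp.out.one_lt]

theorem not_comm (ht : orderOf t = p) (hC : ∀ g, g * t = t * g → g ∈ Subgroup.zpowers t) {N : Subgroup G}
    (hpN : ¬ p ∣ Nat.card N) {x : G} (hx : x ∈ N) (h : t * x = x * t) : x = 1 := by
  have h1 := hC x h.symm
  have h2 : orderOf x ∣ p := by
    have := orderOf_dvd_natCard (⟨x, h1⟩ : Subgroup.zpowers t)
    rwa [Subgroup.orderOf_mk, Nat.card_zpowers, ht] at this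
  have h3 : orderOf x ∣ Nat.card N := by
    have := orderOf_dvd_natCard (⟨x, hx⟩ : N)
    rwa [Subgroup.orderOf_mk] at this
  rcases (Nat.dvd_prime hp.out).1 h2 with h4 | h4
  · exact orderOf_eq_one_iff.1 h4
  · rw [h4] at h3; exact absurd h3 hpN

theorem fpf_prime (ht : orderOf t = p) (hC : ∀ g, g * t = t * g → g ∈ Subgroup.zpowers t) {N : Subgroup G} (hN : N.Normal)
    (hpN : ¬ p ∣ Nat.card N) {q : ℕ} (hq : q.Prime) : q ^ (Nat.card N).factorization q % p = 1 := by
  classical
  haveI : Fact q.Prime := ⟨hq⟩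
  haveI : Fintype (Sylow q N) := Fintype.ofFinite _
  let τ : MulAut N := MulAut.conjNormal t
  have hτ : τ ^ p = 1 := by
    have : τ ^ p = MulAut.conjNormal (t ^ p) := (map_pow _ _ _).symm
    rw [this, ← ht, pow_orderOf_eq_one, map_one]
  let f : Function.End (Sylow q N) := fun S => τ • S
  have hf : ∀ n : ℕ, ∀ S, (f ^ n) S = (τ ^ n) • S := by
    intro n
    induction n with
    | zero => intro S; rw [pow_zero, pow_zero, one_smul]; rfl
    | succ n ih =>
      intro S
      rw [pow_succ', pow_succ', mul_smul, ← ih S]; rfl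
  have h2 : f ^ p ^ 1 = 1 := by
    rw [pow_one]; funext S; rw [hf, hτ, one_smul]; rfl
  have h3 : Fintype.card (Sylow q N) % p = Fintype.card (Function.fixedPoints f) % p := Equiv.Perm.card_fixedPoints_modEq h2
  have h4 : ¬ p ∣ Fintype.card (Sylow q N) := by
    intro h
    apply hpN
    rw [← Nat.card_eq_fintype_card] at h
    obtain ⟨S⟩ : Nonempty (Sylow q N) := inferInstance
    rw [S.card_eq_index_normalizer] at h
    exact h.trans (Subgroup.index_dvd_card _)
  have h5 : 0 < Fintype.card (Function.fixedPoints f) := by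
    rw [Nat.pos_iff_ne_zero]
    intro h
    rw [h] at h3
    exact h4 (Nat.dvd_of_mod_eq_zero (by rw [h3]; rfl))
  obtain ⟨S, hS⟩ := Fintype.card_pos_iff.1 h5
  have hS' : τ • S = S := hS
  have hcard : Nat.card S = q ^ (Nat.card N).factorization q := S.card_eq_multiplicity
  rw [← hcard]
  have h6 : ((S : Subgroup N).map N.subtype : Set G).ncard = Nat.card S :=
    (Nat.card_congr ((S : Subgroup N).equivMapOfInjective _ N.subtype_injective).toEquiv).symm
  rw [← h6]
  apply card_mod (t := t) (by rw [← ht, pow_orderOf_eq_one])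
  · rintro _ ⟨x, hx, rfl⟩
    refine ⟨τ • x, ?_, ?_⟩
    · have : τ • x ∈ ((τ • S : Sylow q N) : Subgroup N) := Subgroup.smul_mem_pointwise_smul x τ _ hx
      rw [hS'] at this; exact this
    · exact MulAut.conjNormal_apply t x
  · exact one_mem _
  · rintro _ ⟨x, _, rfl⟩ h
    exact not_comm ht hC hpN x.2 h

theorem card_normalizer (ht : orderOf t = p) (hC : ∀ g, g * t = t * g → g ∈ Subgroup.zpowers t)
    (hp2 : ¬ p ^ 2 ∣ Nat.card G) :
    Nat.card (Subgroup.normalizer ((Subgroup.zpowers t : Subgroup G) : Set G)) = p * (Nat.card G / p % p) := by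
  classical
  set P := Subgroup.zpowers t with hP
  have hcP : Nat.card P = p := by rw [Nat.card_zpowers, ht]
  have hfac : (Nat.card G).factorization p = 1 := by
    have h1 : (Nat.card G).factorization p < 2 := by
      by_contra h
      apply hp2
      exact (hp.out.pow_dvd_iff_le_factorization Nat.card_pos.ne').2 (by omega)
    have h2 : 1 ≤ (Nat.card G).factorization p := by
      rw [← hp.out.pow_dvd_iff_le_factorization Nat.card_pos.ne', pow_one, ← hcP]
      exact Subgroup.card_subgroup_dvd_card P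
    omega
  let S : Sylow p G := Sylow.ofCard P (by rw [hcP, hfac, pow_one])
  set K := Subgroup.normalizer (P : Set G) with hK
  have hmod : K.index % p = 1 := by
    have h1 := S.card_eq_index_normalizer
    have h2 : Nat.card (Sylow p G) % p = 1 % p := card_sylow_modEq_one p G
    rw [h1, Nat.mod_eq_of_lt hp.out.one_lt] at h2
    exact h2
  -- K acts on G by conjugation
  letI : MulAction K G := MulAction.compHom G (MulAut.conj.comp K.subtype)
  have hsm : ∀ (k : K) (x : G), k • x = (k : G) * x * (k : G)⁻¹ := fun k x => rfl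
  have htK : t ∈ K := Subgroup.le_normalizer (Subgroup.mem_zpowers t)
  have hst : Nat.card (MulAction.stabilizer K t) = p := by
    rw [← hcP]
    refine Nat.card_congr (Equiv.ofBijective (fun k => ⟨((k : K) : G), ?_⟩) ⟨?_, ?_⟩)
    · apply hC
      have := k.2
      rw [MulAction.mem_stabilizer_iff, hsm, mul_inv_eq_iff_eq_mul] at this
      exact this
    · intro a b h
      have h' : ((a : K) : G) = ((b : K) : G) := by
        have := congrArg (fun z : P => (z : G)) h
        exact this
      exact Subtype.ext (Subtype.ext h')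
    · rintro ⟨x, hx⟩
      refine ⟨⟨⟨x, Subgroup.le_normalizer hx⟩, ?_⟩, rfl⟩
      rw [MulAction.mem_stabilizer_iff, hsm, mul_inv_eq_iff_eq_mul]
      obtain ⟨n, rfl⟩ := Subgroup.mem_zpowers_iff.1 hx
      exact (Commute.zpow_left (Commute.refl t) n)
  have horb : Nat.card K = Nat.card (MulAction.orbit K t) * p := by
    rw [← Nat.card_congr (MulAction.orbitProdStabilizerEquivGroup K t), Nat.card_prod, hst]
  have ho1 : Nat.card (MulAction.orbit K t) < p := by
    have hsub : MulAction.orbit K t ⊆ (P : Set G) \ {1} := by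
      rintro _ ⟨k, rfl⟩
      refine ⟨?_, ?_⟩
      · show k • t ∈ P
        rw [hsm]
        exact (Subgroup.mem_normalizer_iff.1 k.2 t).1 (Subgroup.mem_zpowers t)
      · intro h
        have h' : (k : G) * t * (k : G)⁻¹ = 1 := h
        rw [mul_inv_eq_one, mul_eq_left] at h'
        rw [h', orderOf_one] at ht
        exact hp.out.one_lt.ne ht
    have h1 := Set.ncard_le_ncard hsub (Set.toFinite _)
    have h2 : ((P : Set G) \ {1}).ncard + 1 = (P : Set G).ncard :=
      Set.ncard_sdiff_singleton_add_one (one_mem P) (Set.toFinite _)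
    have h3 : (P : Set G).ncard = p := hcP
    have h4 : Nat.card (MulAction.orbit K t) = (MulAction.orbit K t).ncard := rfl
    omega
  have h1 := K.card_mul_index
  rw [horb] at h1
  have h2 : Nat.card G / p = Nat.card (MulAction.orbit K t) * K.index := by
    rw [← h1, mul_assoc, mul_comm p, ← mul_assoc, Nat.mul_div_cancel _ hp.out.pos]
  rw [horb, h2, Nat.mul_mod, hmod, mul_one, Nat.mod_mod, Nat.mod_eq_of_lt ho1, mul_comm]

theorem isSimple (ht : orderOf t = p) (hC : ∀ g, g * t = t * g → g ∈ Subgroup.zpowers t)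
    (hp2 : ¬ p ^ 2 ∣ Nat.card G) (hr : (Nat.card G / p % p).Prime) (hne : Nat.card G ≠ p * (Nat.card G / p % p))
    (hdiv : ∀ N : Subgroup G, N.Normal → ¬ p ∣ Nat.card N → N = ⊥) : IsSimpleGroup G := by
  refine SimpleCrit.isSimple_of_sylow p _ hr (Subgroup.zpowers t) (by rw [Nat.card_zpowers, ht]) hp2
    (card_normalizer ht hC hp2) hne ?_
  intro N hN hNb
  by_contra h
  exact hNb (hdiv N hN h)

/-- numeric consequence: primes dividing the order of a normal subgroup of order prime to p -/
theorem prime_pow (ht : orderOf t = p) (hC : ∀ g, g * t = t * g → g ∈ Subgroup.zpowers t) {N : Subgroup G} (hN : N.Normal)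
    (hpN : ¬ p ∣ Nat.card N) {q : ℕ} (hq : q.Prime) (hqN : q ∣ Nat.card N) :
    ∃ k, 0 < k ∧ q ^ k ∣ Nat.card G ∧ q ^ k % p = 1 := by
  refine ⟨(Nat.card N).factorization q, ?_, ?_, fpf_prime ht hC hN hpN hq⟩
  · exact hq.factorization_pos_of_dvd Nat.card_pos.ne' hqN
  · exact (Nat.ordProj_dvd _ _).trans (Subgroup.card_subgroup_dvd_card N)

end Cfsg.Agent.Lib.FpfCrit
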