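import Mathlib
import Cfsg.Agent.Lib.Hall
import Cfsg.Agent.Lib.CharBurnside

/-!
Solvability criteria: the theorems of Kegel-Wielandt and P. Hall.
-/

set_option autoImplicit false

namespace Cfsg.Agent.Lib.SolvCrit

open Subgroup Cfsg.Agent.Lib.Basic Cfsg.Agent.Lib.Cores Cfsg.Agent.Lib.SchurZas
open scoped Pointwise

universe u

theorem isSolvable_of_normal {G : Type*} [Group G] (N : Subgroup G) [N.Normal]
    (hN : Group.IsSolvable N) (hQ : Group.IsSolvable (G ⧸ N)) : Group.IsSolvable G :=
  solvable_of_ker_le_range N.subtype (QuotientGroup.mk' N) (by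
    rw [QuotientGroup.ker_mk', range_subtype])

theorem isSolvable_of_eq_top {G : Type*} [Group G] {H : Subgroup G} (h : H = ⊤)
    (hs : Group.IsSolvable H) : Group.IsSolvable G := by
  subst h
  exact solvable_of_surjective (f := (topEquiv (G := G)).toMonoidHom) (topEquiv (G := G)).surjective

/-- A `p`-subgroup fixes a coset of a subgroup of index prime to `p`. -/
theorem exists_forall_conj_mem {G : Type*} [Group G] [Finite G] {p : ℕ} [Fact p.Prime]
    {M H : Subgroup G} (hM : IsPGroup p M) (hH : ¬ p ∣ H.index) :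
    ∃ g : G, ∀ m ∈ M, g⁻¹ * m * g ∈ H := by
  have : Finite (G ⧸ H) := inferInstance
  obtain ⟨x, hx⟩ := hM.nonempty_fixed_point_of_prime_not_dvd_card (G ⧸ H) hH
  obtain ⟨g, rfl⟩ := QuotientGroup.mk_surjective x
  refine ⟨g, fun m hm => ?_⟩
  have h1 := hx ⟨m, hm⟩
  have h2 : ((m * g : G) : G ⧸ H) = (g : G ⧸ H) := h1
  have h3 := QuotientGroup.eq.mp h2.symm
  rwa [← mul_assoc] at h3

theorem normalClosure_solvable {G : Type*} [Group G] [Finite G] {p : ℕ} [Fact p.Prime]
    {M H₁ H : Subgroup G} (hM : IsPGroup p M) (hn : H₁ ≤ normalizer (M : Set G))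
    (hH : ¬ p ∣ H.index) (hs : Group.IsSolvable H)
    (h1 : ∀ g : G, ∃ x ∈ H₁, ∃ y ∈ H, g = x * y) : Group.IsSolvable (normalClosure (M : Set G)) := by
  have hMH : M ≤ H := by
    obtain ⟨g, hg⟩ := exists_forall_conj_mem hM hH
    obtain ⟨x, hx, y, hy, rfl⟩ := h1 g
    intro m hm
    have h2 : x * m * x⁻¹ ∈ M := (mem_normalizer_iff.mp (hn hx) m).mp hm
    have h3 := hg _ h2
    have e : (x * y)⁻¹ * (x * m * x⁻¹) * (x * y) = y⁻¹ * m * y := by group
    rw [e] at h3
    have h4 := mul_mem (mul_mem hy h3) (inv_mem hy)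
    have e2 : y * (y⁻¹ * m * y) * y⁻¹ = m := by group
    rwa [e2] at h4
  have hle : normalClosure (M : Set G) ≤ H := by
    rw [normalClosure, closure_le]
    intro z hz
    rw [Group.mem_conjugatesOfSet_iff] at hz
    obtain ⟨m, hm, hc⟩ := hz
    rw [isConj_iff] at hc
    obtain ⟨g, rfl⟩ := hc
    obtain ⟨x, hx, y, hy, hxy⟩ := h1 g⁻¹
    have e : g * m * g⁻¹ = y⁻¹ * (x⁻¹ * m * x) * y := by
      have : g = (x * y)⁻¹ := by rw [← hxy, inv_inv]
      rw [this]; group
    rw [e]
    have h2 : x⁻¹ * m * x ∈ M := by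
      have := (mem_normalizer_iff.mp (hn (inv_mem hx)) m).mp hm
      simpa using this
    exact mul_mem (mul_mem (inv_mem hy) (hMH h2)) hy
  exact solvable_of_solvable_injective (inclusion_injective hle)

theorem three_solvable_aux (n : ℕ) : ∀ (G : Type u) [Group G] [Finite G], Nat.card G ≤ n →
    ∀ H₁ H₂ H₃ : Subgroup G, Group.IsSolvable H₁ → Group.IsSolvable H₂ → Group.IsSolvable H₃ →
    (∀ g : G, ∃ x ∈ H₁, ∃ y ∈ H₂, g = x * y) → (∀ g : G, ∃ x ∈ H₁, ∃ y ∈ H₃, g = x * y) →
    H₂.index.Coprime H₃.index → Group.IsSolvable G := by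
  induction n with
  | zero => intro G _ _ h; exact absurd h (by have := Nat.card_pos (α := G); omega)
  | succ n ih =>
    intro G _ _ hcard H₁ H₂ H₃ h₁ h₂ h₃ h12 h13 hcop
    by_cases hH1 : H₁ = ⊥
    · have : H₂ = ⊤ := by
        rw [eq_top_iff]; intro g _
        obtain ⟨x, hx, y, hy, rfl⟩ := h12 g
        rw [hH1, mem_bot] at hx; rw [hx, one_mul]; exact hy
      exact isSolvable_of_eq_top this h₂
    have hn1 : Nontrivial H₁ := (nontrivial_iff_ne_bot _).mpr hH1
    obtain ⟨p, hp, M, hMn, hMp, hM⟩ := exists_normal_pgroup_of_solvable h₁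
    have : Fact p.Prime := ⟨hp⟩
    obtain ⟨M', hM'⟩ : ∃ M', M' = M.map H₁.subtype := ⟨_, rfl⟩
    have hM'p : IsPGroup p M' := hM' ▸ hMp.map _
    have hM'0 : M' ≠ ⊥ := by
      rw [hM']
      intro h
      exact hM ((Subgroup.map_eq_bot_iff_of_injective _ H₁.subtype_injective).mp h)
    have hn : H₁ ≤ normalizer (M' : Set G) := by
      have h1 : M'.subgroupOf H₁ = M := by
        rw [hM']; exact comap_map_eq_self_of_injective H₁.subtype_injective M
      exact (normal_subgroupOf_iff_le_normalizer (hM' ▸ map_subtype_le M)).mp (by rw [h1]; exact hMn)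
    have hNs : Group.IsSolvable (normalClosure (M' : Set G)) := by
      by_cases hd : p ∣ H₂.index
      · have hd3 : ¬ p ∣ H₃.index := fun h => hp.one_lt.ne'
          (Nat.dvd_one.mp (hcop ▸ Nat.dvd_gcd hd h))
        exact normalClosure_solvable hM'p hn hd3 h₃ h13
      · exact normalClosure_solvable hM'p hn hd h₂ h12
    obtain ⟨N, hN⟩ : ∃ N, N = normalClosure (M' : Set G) := ⟨_, rfl⟩
    rw [← hN] at hNs
    have hNn : N.Normal := hN ▸ normalClosure_normal
    have hN0 : N ≠ ⊥ := by
      intro h
      apply hM'0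
      rw [eq_bot_iff, ← h, hN]
      exact fun x hx => subset_normalClosure hx
    have hlt := card_quotient_lt hN0
    have hfs := QuotientGroup.mk'_surjective N
    have hprod : ∀ A B : Subgroup G, (∀ g : G, ∃ x ∈ A, ∃ y ∈ B, g = x * y) →
        ∀ g : G ⧸ N, ∃ x ∈ A.map (QuotientGroup.mk' N), ∃ y ∈ B.map (QuotientGroup.mk' N), g = x * y := by
      intro A B h g
      obtain ⟨g, rfl⟩ := hfs g
      obtain ⟨x, hx, y, hy, rfl⟩ := h g
      exact ⟨_, mem_map_of_mem _ hx, _, mem_map_of_mem _ hy, map_mul _ _ _⟩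
    have hsol : ∀ A : Subgroup G, Group.IsSolvable A → Group.IsSolvable (A.map (QuotientGroup.mk' N)) :=
      fun A hA => solvable_of_surjective ((QuotientGroup.mk' N).subgroupMap_surjective A)
    have := ih (G ⧸ N) (by omega) (H₁.map (QuotientGroup.mk' N)) (H₂.map (QuotientGroup.mk' N))
      (H₃.map (QuotientGroup.mk' N)) (hsol _ h₁) (hsol _ h₂) (hsol _ h₃) (hprod _ _ h12) (hprod _ _ h13)
      (hcop.of_dvd (index_map_dvd _ hfs) (index_map_dvd _ hfs))
    exact isSolvable_of_normal N hNs this

/-- Kegel-Wielandt: `G = H₁ H₂ = H₁ H₃` with solvable factors and coprime indices of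
`H₂`, `H₃`. -/
theorem three_solvable {G : Type u} [Group G] [Finite G] {H₁ H₂ H₃ : Subgroup G}
    (h₁ : Group.IsSolvable H₁) (h₂ : Group.IsSolvable H₂) (h₃ : Group.IsSolvable H₃)
    (h12 : ∀ g : G, ∃ x ∈ H₁, ∃ y ∈ H₂, g = x * y) (h13 : ∀ g : G, ∃ x ∈ H₁, ∃ y ∈ H₃, g = x * y)
    (hcop : H₂.index.Coprime H₃.index) : Group.IsSolvable G :=
  three_solvable_aux _ G le_rfl H₁ H₂ H₃ h₁ h₂ h₃ h12 h13 hcop

/-- Wielandt: three solvable subgroups with pairwise coprime indices. -/
theorem three_solvable_coprime {G : Type u} [Group G] [Finite G] {H₁ H₂ H₃ : Subgroup G}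
    (h₁ : Group.IsSolvable H₁) (h₂ : Group.IsSolvable H₂) (h₃ : Group.IsSolvable H₃)
    (h12 : H₁.index.Coprime H₂.index) (h13 : H₁.index.Coprime H₃.index)
    (h23 : H₂.index.Coprime H₃.index) : Group.IsSolvable G := by
  have key : ∀ A B : Subgroup G, A.index.Coprime B.index → ∀ g : G, ∃ x ∈ A, ∃ y ∈ B, g = x * y := by
    intro A B h g
    have h1 := mul_eq_univ_of_coprime_index h
    have h2 : g ∈ (A : Set G) * (B : Set G) := by rw [h1]; trivial
    obtain ⟨x, hx, y, hy, rfl⟩ := h2
    exact ⟨x, hx, y, hy, rfl⟩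
  exact three_solvable h₁ h₂ h₃ (key _ _ h12) (key _ _ h13) h23

/-- Groups whose order has at most two prime divisors are solvable. -/
theorem solvable_of_two_primes {G : Type u} [Group G] [Finite G] {p q : ℕ} (hp : p.Prime)
    (hq : q.Prime) (h : ∀ r : ℕ, r.Prime → r ∣ Nat.card G → r = p ∨ r = q) :
    Group.IsSolvable G := by
  have hn := Nat.card_pos (α := G)
  by_cases hpq : p = q
  · subst hpq
    have h1 : Nat.card G = p ^ (Nat.card G).factorization p * p ^ 0 := by
      rw [pow_zero, mul_one]
      apply Nat.eq_of_factorization_eq hn.ne' (pow_ne_zero _ hp.ne_zero)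
      intro r
      by_cases hr : r.Prime
      · by_cases hrp : r = p
        · subst hrp
          rw [hr.factorization_pow, Finsupp.single_eq_same]
        · rw [hp.factorization_pow, Finsupp.single_apply, if_neg (Ne.symm hrp)]
          apply Nat.factorization_eq_zero_of_not_dvd
          intro hd
          rcases h r hr hd with h | h <;> exact hrp h
      · rw [Nat.factorization_eq_zero_of_not_prime _ hr, Nat.factorization_eq_zero_of_not_prime _ hr]
    exact CharBurnside.burnside_paqb _ G p p _ _ hp hp h1 rfl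
  · have h1 : Nat.card G = p ^ (Nat.card G).factorization p * q ^ (Nat.card G).factorization q := by
      apply Nat.eq_of_factorization_eq hn.ne'
        (mul_ne_zero (pow_ne_zero _ hp.ne_zero) (pow_ne_zero _ hq.ne_zero))
      intro r
      rw [Nat.factorization_mul (pow_ne_zero _ hp.ne_zero) (pow_ne_zero _ hq.ne_zero),
        Finsupp.add_apply, hp.factorization_pow, hq.factorization_pow, Finsupp.single_apply,
        Finsupp.single_apply]
      by_cases hr : r.Prime
      · by_cases hrp : p = r
        · subst hrp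
          rw [if_pos rfl, if_neg (fun h => hpq h.symm), add_zero]
        · by_cases hrq : q = r
          · subst hrq
            rw [if_pos rfl, if_neg hpq, zero_add]
          · rw [if_neg hrp, if_neg hrq]
            apply Nat.factorization_eq_zero_of_not_dvd
            intro hd
            rcases h r hr hd with h | h
            · exact hrp h.symm
            · exact hrq h.symm
      · rw [Nat.factorization_eq_zero_of_not_prime _ hr, if_neg (fun (h : p = r) => hr (h ▸ hp)),
          if_neg (fun (h : q = r) => hr (h ▸ hq)), add_zero]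
    exact CharBurnside.burnside_paqb _ G p q _ _ hp hq h1 rfl

/-- Either at most two primes divide `n`, or there are three distinct ones. -/
theorem two_or_three (n : ℕ) : (∃ p q : ℕ, p.Prime ∧ q.Prime ∧ ∀ r : ℕ, r.Prime → r ∣ n → r = p ∨ r = q) ∨
    ∃ p q r : ℕ, p.Prime ∧ q.Prime ∧ r.Prime ∧ p ∣ n ∧ q ∣ n ∧ r ∣ n ∧ p ≠ q ∧ p ≠ r ∧ q ≠ r := by
  by_cases h1 : ∃ p : ℕ, p.Prime ∧ p ∣ n
  · obtain ⟨p, hp, hpn⟩ := h1
    by_cases h2 : ∃ q : ℕ, q.Prime ∧ q ∣ n ∧ p ≠ q
    · obtain ⟨q, hq, hqn, hpq⟩ := h2
      by_cases h3 : ∃ r : ℕ, r.Prime ∧ r ∣ n ∧ p ≠ r ∧ q ≠ r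
      · obtain ⟨r, hr, hrn, hpr, hqr⟩ := h3
        exact Or.inr ⟨p, q, r, hp, hq, hr, hpn, hqn, hrn, hpq, hpr, hqr⟩
      · push Not at h3
        left
        refine ⟨p, q, hp, hq, fun r hr hrn => ?_⟩
        by_cases hpr : p = r
        · exact Or.inl hpr.symm
        · exact Or.inr (h3 r hr hrn hpr).symm
    · push Not at h2
      exact Or.inl ⟨p, p, hp, hp, fun r hr hrn => Or.inl (h2 r hr hrn).symm⟩
  · push Not at h1
    exact Or.inl ⟨2, 2, Nat.prime_two, Nat.prime_two, fun r hr hrn => absurd hrn (h1 r hr)⟩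

/-- P. Hall: a group with a `p`-complement for each prime `p` is solvable. -/
theorem hall_complements_aux (n : ℕ) : ∀ (G : Type u) [Group G] [Finite G], Nat.card G ≤ n →
    (∀ p : ℕ, p.Prime → ∃ H : Subgroup G, H.index = p ^ (Nat.card G).factorization p) →
    Group.IsSolvable G := by
  induction n with
  | zero => intro G _ _ h; exact absurd h (by have := Nat.card_pos (α := G); omega)
  | succ n ih =>
    intro G _ _ hcard h
    have hn := Nat.card_pos (α := G)
    rcases two_or_three (Nat.card G) with ⟨p, q, hp, hq, hpq⟩ | ⟨p, q, r, hp, hq, hr, hpn, hqn, hrn, hpq, hpr, hqr⟩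
    · exact solvable_of_two_primes hp hq hpq
    · -- each p-complement is solvable
      have key : ∀ p : ℕ, p.Prime → p ∣ Nat.card G → ∀ H : Subgroup G,
          H.index = p ^ (Nat.card G).factorization p → Group.IsSolvable H := by
        intro p hp hpn H hH
        have hpos : 0 < (Nat.card G).factorization p := hp.factorization_pos_of_dvd hn.ne' hpn
        have hcm := H.card_mul_index
        have hlt : Nat.card H < Nat.card G := by
          rw [hH] at hcm
          rw [← hcm]
          exact lt_mul_of_one_lt_right Nat.card_pos (Nat.one_lt_pow hpos.ne' hp.one_lt)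
        refine ih H (by omega) (fun q hq => ?_)
        have hfac : (Nat.card H).factorization q + (H.index).factorization q = (Nat.card G).factorization q := by
          rw [← hcm, Nat.factorization_mul Nat.card_pos.ne' (FiniteIndex.index_ne_zero), Finsupp.add_apply]
        rw [hH, hp.factorization_pow, Finsupp.single_apply] at hfac
        by_cases hqp : p = q
        · subst hqp
          rw [if_pos rfl] at hfac
          refine ⟨⊤, ?_⟩
          rw [index_top, show (Nat.card H).factorization p = 0 by omega, pow_zero]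
        · rw [if_neg hqp, add_zero] at hfac
          obtain ⟨K, hK⟩ := h q hq
          refine ⟨K.subgroupOf H, ?_⟩
          have hcop : H.index.Coprime K.index := by
            rw [hH, hK]; exact Nat.Coprime.pow _ _ ((Nat.coprime_primes hp hq).mpr hqp)
          rw [hfac, ← hK]
          show K.relIndex H = K.index
          have h1 := card_inf_of_coprime_index hcop
          have h2 := relIndex_mul_index (H := H ⊓ K) (K := H) inf_le_left
          rw [h1, inf_relIndex_left, mul_comm H.index] at h2
          exact Nat.eq_of_mul_eq_mul_right (Nat.pos_of_ne_zero index_ne_zero_of_finite) h2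
      obtain ⟨H, hH⟩ := h p hp
      obtain ⟨K, hK⟩ := h q hq
      obtain ⟨L, hL⟩ := h r hr
      refine three_solvable_coprime (key p hp hpn H hH) (key q hq hqn K hK) (key r hr hrn L hL) ?_ ?_ ?_
      · rw [hH, hK]; exact Nat.Coprime.pow _ _ ((Nat.coprime_primes hp hq).mpr hpq)
      · rw [hH, hL]; exact Nat.Coprime.pow _ _ ((Nat.coprime_primes hp hr).mpr hpr)
      · rw [hK, hL]; exact Nat.Coprime.pow _ _ ((Nat.coprime_primes hq hr).mpr hqr)

theorem solvable_of_hall_complements {G : Type u} [Group G] [Finite G]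
    (h : ∀ p : ℕ, p.Prime → ∃ H : Subgroup G, H.index = p ^ (Nat.card G).factorization p) :
    Group.IsSolvable G := hall_complements_aux _ G le_rfl h

/-- Subgroups of prime power index at all levels. -/
theorem prime_power_index_aux (n : ℕ) : ∀ (G : Type u) [Group G] [Finite G], Nat.card G ≤ n →
    (∀ H : Subgroup G, H ≠ ⊥ → ∀ p : ℕ, p.Prime → p ∣ Nat.card H →
      ∃ K : Subgroup H, K ≠ ⊤ ∧ ∃ k : ℕ, K.index = p ^ k) → Group.IsSolvable G := by
  induction n with
  | zero => intro G _ _ h; exact absurd h (by have := Nat.card_pos (α := G); omega)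
  | succ n ih =>
    intro G _ _ hcard h
    rcases two_or_three (Nat.card G) with ⟨p, q, hp, hq, hpq⟩ | ⟨p, q, r, hp, hq, hr, hpn, hqn, hrn, hpq, hpr, hqr⟩
    · exact solvable_of_two_primes hp hq hpq
    have hbot : (⊤ : Subgroup G) ≠ ⊥ := by
      intro hb
      have : Nat.card G = 1 := by rw [← Subgroup.card_top, hb, card_bot]
      rw [this] at hpn
      exact hp.one_lt.ne' (Nat.dvd_one.mp hpn)
    have key : ∀ p : ℕ, p.Prime → p ∣ Nat.card G → ∃ K : Subgroup G, Group.IsSolvable K ∧
        ∃ k : ℕ, K.index = p ^ k := by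
      intro p hp hpn
      obtain ⟨K, hK, k, hk⟩ := h ⊤ hbot p hp (by rw [Subgroup.card_top]; exact hpn)
      have hK' : K.map (⊤ : Subgroup G).subtype ≠ ⊤ := by
        intro h
        apply hK
        rw [eq_top_iff]
        intro x _
        have : (x : G) ∈ K.map (⊤ : Subgroup G).subtype := by rw [h]; trivial
        obtain ⟨y, hy, hyx⟩ := this
        rwa [← Subtype.ext hyx]
      refine ⟨K.map (⊤ : Subgroup G).subtype, ?_, k, ?_⟩
      · have hlt := card_lt_of_ne_top hK'
        refine ih _ (by omega) (fun H hH q hq hqH => ?_)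
        obtain ⟨L, hL, l, hl⟩ := h (H.map (K.map (⊤ : Subgroup G).subtype).subtype)
          (fun h => hH ((Subgroup.map_eq_bot_iff_of_injective _ (subtype_injective _)).mp h)) q hq (by
            rwa [card_map_of_injective (subtype_injective _)])
        let e : H ≃* H.map (K.map (⊤ : Subgroup G).subtype).subtype :=
          H.equivMapOfInjective _ (subtype_injective _)
        refine ⟨L.comap e.toMonoidHom, ?_, l, ?_⟩
        · intro hc
          apply hL
          rw [eq_top_iff]
          intro x _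
          have : e.symm x ∈ L.comap e.toMonoidHom := by rw [hc]; trivial
          rw [mem_comap] at this
          simpa using this
        · rw [← hl]; exact index_comap_of_surjective _ e.surjective
      · rw [index_map_subtype, hk, index_top, mul_one]
    obtain ⟨H, hH, a, ha⟩ := key p hp hpn
    obtain ⟨K, hK, b, hb⟩ := key q hq hqn
    obtain ⟨L, hL, c, hc⟩ := key r hr hrn
    refine three_solvable_coprime hH hK hL ?_ ?_ ?_
    · rw [ha, hb]; exact Nat.Coprime.pow _ _ ((Nat.coprime_primes hp hq).mpr hpq)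
    · rw [ha, hc]; exact Nat.Coprime.pow _ _ ((Nat.coprime_primes hp hr).mpr hpr)
    · rw [hb, hc]; exact Nat.Coprime.pow _ _ ((Nat.coprime_primes hq hr).mpr hqr)

/-- The product of two permuting subgroups is their join. -/
theorem coe_sup_of_permute {G : Type*} [Group G] {A B : Subgroup G}
    (h : (A : Set G) * (B : Set G) = (B : Set G) * (A : Set G)) :
    ((A ⊔ B : Subgroup G) : Set G) = (A : Set G) * (B : Set G) := by
  let C : Subgroup G :=
    { carrier := (A : Set G) * (B : Set G)
      one_mem' := ⟨1, A.one_mem, 1, B.one_mem, one_mul 1⟩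
      mul_mem' := by
        rintro _ _ ⟨a, ha, b, hb, rfl⟩ ⟨a', ha', b', hb', rfl⟩
        have h1 : b * a' ∈ (A : Set G) * (B : Set G) := by rw [h]; exact ⟨b, hb, a', ha', rfl⟩
        obtain ⟨a'', ha'', b'', hb'', he⟩ := h1
        refine ⟨a * a'', A.mul_mem ha ha'', b'' * b', B.mul_mem hb'' hb', ?_⟩
        have he' : a'' * b'' = b * a' := he
        calc a * a'' * (b'' * b') = a * (a'' * b'') * b' := by group
          _ = a * (b * a') * b' := by rw [he']
          _ = _ := by group
      inv_mem' := by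
        rintro _ ⟨a, ha, b, hb, rfl⟩
        show (a * b)⁻¹ ∈ (A : Set G) * (B : Set G)
        rw [h, mul_inv_rev]
        exact ⟨b⁻¹, B.inv_mem hb, a⁻¹, A.inv_mem ha, rfl⟩ }
  have h1 : A ⊔ B = C := by
    apply le_antisymm
    · apply sup_le
      · intro a ha; exact ⟨a, ha, 1, B.one_mem, mul_one a⟩
      · intro b hb; exact ⟨1, A.one_mem, b, hb, one_mul b⟩
    · rintro _ ⟨a, ha, b, hb, rfl⟩
      exact mul_mem (mem_sup_left ha) (mem_sup_right hb)
  rw [h1]
  rfl

theorem card_sup_of_permute {G : Type*} [Group G] [Finite G] {A B : Subgroup G}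
    (h : (A : Set G) * (B : Set G) = (B : Set G) * (A : Set G)) :
    Nat.card (A ⊔ B : Subgroup G) * Nat.card (A ⊓ B : Subgroup G) = Nat.card A * Nat.card B := by
  rw [← card_mul_mul_card_inf A B, ← coe_sup_of_permute h]
  rfl

/-- The members of a Sylow system generate `π`-Hall subgroups. -/
theorem sylow_system_aux {G : Type*} [Group G] [Finite G] (S : ℕ → Subgroup G)
    (hS : ∀ p, p.Prime → Nat.card (S p) = p ^ (Nat.card G).factorization p)
    (hperm : ∀ p q, p.Prime → q.Prime → (S p : Set G) * (S q : Set G) = (S q : Set G) * (S p : Set G))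
    (T : Finset ℕ) : (∀ p ∈ T, p.Prime) →
      (∀ r, r.Prime → ((⨆ p ∈ T, S p : Subgroup G) : Set G) * (S r : Set G) =
        (S r : Set G) * ((⨆ p ∈ T, S p : Subgroup G) : Set G)) ∧
      Nat.card (⨆ p ∈ T, S p : Subgroup G) = ∏ p ∈ T, p ^ (Nat.card G).factorization p := by
  classical
  induction T using Finset.induction_on with
  | empty =>
    intro _
    simp only [Finset.notMem_empty, iSup_false, iSup_bot, Finset.prod_empty, card_bot, and_true,
      coe_bot]
    intro r _
    ext x; simp
  | insert q T hq ih =>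
    intro hT
    have hqp := hT q (Finset.mem_insert_self q T)
    obtain ⟨ih1, ih2⟩ := ih (fun p hp => hT p (Finset.mem_insert_of_mem hp))
    rw [Finset.iSup_insert, sup_comm, Finset.prod_insert hq, mul_comm]
    constructor
    · intro r hr
      rw [coe_sup_of_permute (ih1 q hqp), mul_assoc, hperm q r hqp hr, ← mul_assoc, ih1 r hr,
        mul_assoc]
    · have h1 := card_sup_of_permute (ih1 q hqp)
      have hcop : (Nat.card (⨆ p ∈ T, S p : Subgroup G)).Coprime (Nat.card (S q)) := by
        rw [ih2, hS q hqp]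
        apply Nat.Coprime.pow_right
        apply Nat.Coprime.prod_left
        intro p hp
        apply Nat.Coprime.pow_left
        rw [Nat.coprime_primes (hT p (Finset.mem_insert_of_mem hp)) hqp]
        rintro rfl; exact hq hp
      have h2 : (⨆ p ∈ T, S p : Subgroup G) ⊓ S q = ⊥ :=
        disjoint_iff.mp (disjoint_of_coprime_natCard hcop)
      rw [h2, card_bot, mul_one, ih2, hS q hqp] at h1
      exact h1

theorem solvable_of_sylow_system {G : Type u} [Group G] [Finite G]
    (S : (p : Nat.Primes) → Sylow (p : ℕ) G)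
    (hS : ∀ p q : Nat.Primes, (S p : Set G) * (S q : Set G) = (S q : Set G) * (S p : Set G)) :
    Group.IsSolvable G := by
  classical
  apply solvable_of_hall_complements
  intro p hp
  have hn := Nat.card_pos (α := G)
  by_cases hpn : p ∣ Nat.card G
  swap
  · exact ⟨⊤, by rw [index_top, Nat.factorization_eq_zero_of_not_dvd hpn, pow_zero]⟩
  let S' : ℕ → Subgroup G := fun q => if h : q.Prime then (S ⟨q, h⟩ : Subgroup G) else ⊥
  have hS' : ∀ q (h : q.Prime), S' q = (S ⟨q, h⟩ : Subgroup G) := fun q h => dif_pos h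
  obtain ⟨h1, h2⟩ := sylow_system_aux S'
    (fun q hq => by
      have : Fact q.Prime := ⟨hq⟩
      rw [hS' q hq]; exact (S ⟨q, hq⟩).card_eq_multiplicity)
    (fun q r hq hr => by rw [hS' q hq, hS' r hr]; exact hS ⟨q, hq⟩ ⟨r, hr⟩)
    ((Nat.card G).primeFactors.erase p)
    (fun q hq => Nat.prime_of_mem_primeFactors (Finset.mem_of_mem_erase hq))
  refine ⟨(⨆ q ∈ (Nat.card G).primeFactors.erase p, S' q : Subgroup G), ?_⟩
  · have h3 := (⨆ q ∈ (Nat.card G).primeFactors.erase p, S' q : Subgroup G).card_mul_index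
    have h4 : (∏ q ∈ (Nat.card G).primeFactors.erase p, q ^ (Nat.card G).factorization q) *
        p ^ (Nat.card G).factorization p = Nat.card G := by
      rw [mul_comm, Finset.mul_prod_erase _ (fun q => q ^ (Nat.card G).factorization q)
        (Nat.mem_primeFactors.mpr ⟨hp, hpn, hn.ne'⟩)]
      exact Nat.prod_factorization_pow_eq_self hn.ne'
    rw [h2] at h3
    have hpos : 0 < ∏ q ∈ (Nat.card G).primeFactors.erase p, q ^ (Nat.card G).factorization q := by
      rw [← h2]; exact Nat.card_pos
    exact Nat.eq_of_mul_eq_mul_left hpos (h3.trans h4.symm)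

end Cfsg.Agent.Lib.SolvCrit
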