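import Mathlib
import Cfsg.Agent.Lib.ThompsonP
import Cfsg.Agent.Lib.SolvCrit

/-!
The Hughes–Thompson–Kegel theorem: if all elements outside a proper normal subgroup `H` satisfy
`g ^ p = 1`, then `H` is nilpotent (and of index `p` unless `G` is a `p`-group).  In particular a
finite group with a fixed-point-free automorphism of prime order is nilpotent (Thompson).
-/

set_option autoImplicit false
set_option linter.all false
set_option linter.style.haveILetI false
set_option linter.unusedSectionVars false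

namespace Cfsg.Agent.Lib.FpfNilp
open Subgroup Cfsg Cfsg.Agent.Lib.ThompsonJ Cfsg.Agent.Lib.CoprimeB Cfsg.Agent.Lib.Basic
open Cfsg.Agent.Lib.Coprime Cfsg.Agent.Lib.PNilp Cfsg.Agent.Lib.Cores Cfsg.Agent.Lib.ThompsonP
open Cfsg.Agent.Lib.Nilp
open scoped commutatorElement Pointwise

universe u

variable {G : Type u} [Group G]

/-- all elements outside `H` have order dividing `p` -/
def Out (p : ℕ) (H : Subgroup G) : Prop := ∀ g : G, g ∉ H → g ^ p = 1

theorem Out.subgroup {p : ℕ} {H : Subgroup G} (h : Out p H) (L : Subgroup G) : Out p (H.subgroupOf L) :=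
  fun g hg => Subtype.ext (by rw [coe_pow]; exact h g (fun hh => hg hh))

theorem Out.quotient {p : ℕ} {H : Subgroup G} (h : Out p H) (N : Subgroup G) [N.Normal] :
    Out p (H.map (QuotientGroup.mk' N)) := by
  intro y hy
  obtain ⟨g, rfl⟩ := QuotientGroup.mk'_surjective N y
  rw [← map_pow, h g (fun hg => hy (mem_map_of_mem _ hg)), map_one]

theorem fpf {p : ℕ} {H U : Subgroup G} (h : Out p H) (hU : U ≤ H) (hUc : (Nat.card U).Coprime p)
    {e : G} (he : e ∉ H) {u : G} (hu : u ∈ U) (hc : e * u = u * e) : u = 1 := by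
  have h1 : (e * u) ^ p = 1 := h _ (fun hh => he ((H.mul_mem_cancel_right (hU hu)).mp hh))
  have h2 : (e * u) ^ p = e ^ p * u ^ p := (show Commute e u from hc).mul_pow p
  rw [h2, h e he, one_mul] at h1
  have h3 := orderOf_dvd_of_pow_eq_one h1
  have h4 : orderOf u ∣ Nat.card U := by
    have := orderOf_dvd_natCard (⟨u, hu⟩ : U)
    rwa [orderOf_mk] at this
  exact orderOf_eq_one_iff.mp (Nat.eq_one_of_dvd_coprimes hUc h4 h3)

theorem mem_of_zpow_mem {p : ℕ} [hp : Fact p.Prime] {H : Subgroup G} {x : G} (hx : x ^ p = 1) (hxH : x ∉ H)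
    {k : ℤ} (hk : x ^ k ∈ H) : x ^ k = 1 := by
  by_cases hd : (p : ℤ) ∣ k
  · obtain ⟨j, rfl⟩ := hd
    rw [zpow_mul, zpow_natCast, hx, one_zpow]
  · exfalso
    apply hxH
    have hcop : IsCoprime k (p : ℤ) := by
      rw [Int.isCoprime_iff_gcd_eq_one, Int.gcd_comm]
      exact (Int.isCoprime_iff_gcd_eq_one.mp ((Nat.prime_iff_prime_int.mp hp.out).coprime_iff_not_dvd.mpr hd))
    obtain ⟨a, b, hab⟩ := hcop
    have h1 : x = (x ^ k) ^ a := by
      rw [← zpow_mul]
      conv_lhs => rw [← zpow_one x, ← hab, zpow_add, zpow_mul x b, mul_comm a k]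
      rw [show (x ^ b) ^ (p : ℤ) = 1 by rw [← zpow_mul, mul_comm, zpow_mul, zpow_natCast, hx, one_zpow], mul_one]
    rw [h1]
    exact H.zpow_mem hk a

theorem zpowers_inf {p : ℕ} [Fact p.Prime] {H : Subgroup G} {x : G} (hx : x ^ p = 1) (hxH : x ∉ H) :
    zpowers x ⊓ H = ⊥ := by
  rw [eq_bot_iff]
  rintro y ⟨hy, hyH⟩
  obtain ⟨k, rfl⟩ := mem_zpowers_iff.mp hy
  exact mem_bot.mpr (mem_of_zpow_mem hx hxH hyH)

theorem central_fix [Finite G] {p : ℕ} [hp : Fact p.Prime] {H U : Subgroup G} (h : Out p H) (hU : U ≤ H)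
    (hUc : (Nat.card U).Coprime p) {x z : G} (hx : x ∉ H) (hz : z ∈ H) (hzp : z ^ p = 1)
    (hxz : x * z = z * x) (hxU : x ∈ normalizer (U : Set G)) (hzU : z ∈ normalizer (U : Set G)) :
    z ∈ centralizer (U : Set G) := by
  by_cases hz1 : z = 1
  · rw [hz1]; exact one_mem _
  have hxp : x ^ p = 1 := h x hx
  have hx1 : x ≠ 1 := fun h1 => hx (h1 ▸ one_mem H)
  have hxo : orderOf x = p := orderOf_eq_prime hxp hx1
  have hzo : orderOf z = p := orderOf_eq_prime hzp hz1
  have hinf : zpowers x ⊓ zpowers z = ⊥ := by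
    rw [eq_bot_iff, ← zpowers_inf hxp hx]
    exact inf_le_inf_left _ (by rw [zpowers_le]; exact hz)
  have hnorm : zpowers z ≤ normalizer (zpowers x : Set G) := by
    rw [zpowers_le]
    apply centralizer_le_normalizer _
    rw [mem_centralizer_iff]
    intro y hy
    obtain ⟨k, rfl⟩ := mem_zpowers_iff.mp hy
    exact ((show Commute x z from hxz).zpow_left k)
  have hcard := card_sup_of_inf_eq_bot hnorm hinf
  rw [Nat.card_zpowers, Nat.card_zpowers, hxo, hzo, ← pow_two] at hcard
  have hel : ∀ e ∈ zpowers x ⊔ zpowers z, ∃ i j : ℤ, e = x ^ i * z ^ j := by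
    intro e he
    obtain ⟨a, ha, b, hb, rfl⟩ := (mem_sup_iff_left hnorm).mp he
    obtain ⟨i, rfl⟩ := mem_zpowers_iff.mp ha
    obtain ⟨j, rfl⟩ := mem_zpowers_iff.mp hb
    exact ⟨i, j, rfl⟩
  have hcomm : Commute x z := hxz
  have hE := gen_of_elementary (K := U) hp.out hcard (by
      intro e he
      obtain ⟨i, j, rfl⟩ := hel e he
      rw [((hcomm.zpow_left i).zpow_right j).mul_pow, ← zpow_natCast, ← zpow_natCast, ← zpow_mul, ← zpow_mul,
        mul_comm i, mul_comm j, zpow_mul, zpow_mul, zpow_natCast, zpow_natCast, hxp, hzp, one_zpow, one_zpow, one_mul])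
    (sup_le (by rw [zpowers_le]; exact hxU) (by rw [zpowers_le]; exact hzU)) hUc
  have hle : U ≤ centralizer {z} := by
    rw [← hE, genCent, closure_le]
    rintro u ⟨hu, a, ha, ha1, hau⟩
    rw [SetLike.mem_coe, mem_centralizer_iff]
    intro w hw
    rw [Set.mem_singleton_iff] at hw
    subst hw
    by_cases haH : a ∈ H
    · obtain ⟨i, j, rfl⟩ := hel a ha
      have h1 : x ^ i ∈ H := (H.mul_mem_cancel_right (H.zpow_mem hz j)).mp haH
      have h2 := mem_of_zpow_mem hxp hx h1
      rw [h2, one_mul] at ha1 hau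
      -- `w ∈ zpowers (w ^ j)`
      have h3 : w ∈ zpowers (w ^ j) := by
        by_contra h4
        apply ha1
        exact mem_of_zpow_mem (H := zpowers (w ^ j)) hzp h4 (mem_zpowers _)
      obtain ⟨k, hk⟩ := mem_zpowers_iff.mp h3
      have h4 : Commute (w ^ j) u := hau
      have h5 := h4.zpow_left k
      rw [hk] at h5
      exact h5
    · have := fpf h hU hUc haH hu hau
      rw [this, mul_one, one_mul]
  rw [mem_centralizer_iff]
  intro u hu
  exact (mem_centralizer_iff.mp (hle hu) z rfl).symm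

/-- the averaging argument for Frobenius-type actions -/
theorem avg_fix [Finite G] {p : ℕ} (hp0 : 0 < p) {N S : Subgroup G} [hNn : N.Normal]
    (hN : ∀ x ∈ N, ∀ y ∈ N, x * y = y * x)
    (hcop : (Nat.card S).Coprime (Nat.card N)) {y : G} (hyS : y ∈ normalizer (S : Set G))
    (hfix : ∀ i, 0 < i → i < p → ∀ u ∈ S, y ^ i * u = u * y ^ i → u = 1)
    (htr : ∀ t ∈ S, ∀ n ∈ N, (n * (t * y * t⁻¹)) ^ p = (t * y * t⁻¹) ^ p) : S ≤ centralizer (N : Set G) := by
  classical
  let _ : CommGroup N := { mul_comm := fun x y => Subtype.ext (hN x x.2 y y.2) }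
  let φ : G →* MulAut N := MulAut.conjNormal
  have hφ : ∀ (g : G) (n : N), ((φ g n : N) : G) = g * n * g⁻¹ := fun g n => rfl
  have hpow : ∀ (g : G) (n : N) (k : ℕ), ((n : G) * g) ^ k = ((∏ i ∈ Finset.range k, φ (g ^ i) n : N) : G) * g ^ k := by
    intro g n k
    induction k with
    | zero => simp
    | succ k ih =>
      rw [pow_succ, ih, Finset.prod_range_succ, coe_mul, hφ, pow_succ]
      group
  have htr' : ∀ t ∈ S, ∀ n : N, ∏ i ∈ Finset.range p, φ ((t * y * t⁻¹) ^ i) n = 1 := by
    intro t ht n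
    have h1 := htr t ht n n.2
    rw [hpow] at h1
    exact Subtype.ext (by rw [mul_eq_right] at h1; exact h1)
  haveI : Fintype S := Fintype.ofFinite S
  let T : N → N := fun n => ∏ s : S, φ (s : G) n
  have hTmul : ∀ a b, T (a * b) = T a * T b := by
    intro a b
    simp only [T, map_mul, Finset.prod_mul_distrib]
  have hT1 : T 1 = 1 := by simp [T]
  -- the bijection
  have hbij : ∀ i, 0 < i → i < p → ∀ n : N, ∏ t : S, φ ((t : G) * y ^ i * (t : G)⁻¹) n = T (φ (y ^ i) n) := by
    intro i hi hip n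
    have hyi : y ^ i ∈ normalizer (S : Set G) := pow_mem hyS i
    let e : S → S := fun t => ⟨(t : G) * (y ^ i * (t : G)⁻¹ * (y ^ i)⁻¹),
      S.mul_mem t.2 ((mem_normalizer_iff.mp hyi _).mp (S.inv_mem t.2))⟩
    have he : Function.Injective e := by
      intro a b hab
      have h1 : (a : G) * (y ^ i * (a : G)⁻¹ * (y ^ i)⁻¹) = b * (y ^ i * (b : G)⁻¹ * (y ^ i)⁻¹) := congrArg Subtype.val hab
      have h2 : y ^ i * ((a : G)⁻¹ * b) = ((a : G)⁻¹ * b) * y ^ i := by
        have h3 : (b : G)⁻¹ * ((a : G) * (y ^ i * (a : G)⁻¹ * (y ^ i)⁻¹)) * (y ^ i * b) = (b : G)⁻¹ * (b * (y ^ i * (b : G)⁻¹ * (y ^ i)⁻¹)) * (y ^ i * b) := by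
          rw [h1]
        have h4 : (b : G)⁻¹ * ((a : G) * (y ^ i * (a : G)⁻¹ * (y ^ i)⁻¹)) * (y ^ i * b) = (b : G)⁻¹ * a * y ^ i * ((a : G)⁻¹ * b) := by group
        have h5 : (b : G)⁻¹ * (b * (y ^ i * (b : G)⁻¹ * (y ^ i)⁻¹)) * (y ^ i * b) = y ^ i := by group
        rw [h4, h5] at h3
        calc y ^ i * ((a : G)⁻¹ * b) = ((a : G)⁻¹ * b) * ((b : G)⁻¹ * a * y ^ i * ((a : G)⁻¹ * b)) := by group
          _ = ((a : G)⁻¹ * b) * y ^ i := by rw [h3]
      have h6 := hfix i hi hip _ (S.mul_mem (S.inv_mem a.2) b.2) h2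
      exact Subtype.ext (inv_mul_eq_one.mp h6)
    have hbe : Function.Bijective e := Finite.injective_iff_bijective.mp he
    have h7 : T (φ (y ^ i) n) = ∏ s : S, φ (s : G) (φ (y ^ i) n) := rfl
    rw [h7, ← Function.Bijective.prod_comp hbe (fun s : S => φ (s : G) (φ (y ^ i) n))]
    refine Finset.prod_congr rfl fun t _ => ?_
    rw [← MulAut.mul_apply, ← map_mul]
    congr 2
    simp only [e]
    group
  have key : ∀ n : N, T n = n ^ Nat.card S := by
    intro n
    have h1 : ∏ t : S, ∏ i ∈ Finset.range p, φ ((t : G) * y ^ i * (t : G)⁻¹) n = 1 := by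
      apply Finset.prod_eq_one
      intro t _
      rw [← htr' t t.2 n]
      refine Finset.prod_congr rfl fun i _ => ?_
      rw [conj_pow]
    rw [Finset.prod_comm] at h1
    obtain ⟨q, rfl⟩ : ∃ q, p = q + 1 := ⟨p - 1, by omega⟩
    rw [Finset.prod_range_succ'] at h1
    have h2 : ∏ t : S, φ ((t : G) * y ^ 0 * (t : G)⁻¹) n = n ^ Nat.card S := by
      simp [Finset.prod_const, Nat.card_eq_fintype_card]
    have h3 : ∏ i ∈ Finset.range q, ∏ t : S, φ ((t : G) * y ^ (i + 1) * (t : G)⁻¹) n = T (∏ i ∈ Finset.range q, φ (y ^ (i + 1)) n) := by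
      let Th : N →* N := { toFun := T, map_one' := hT1, map_mul' := hTmul }
      have h4 : T (∏ i ∈ Finset.range q, φ (y ^ (i + 1)) n) = ∏ i ∈ Finset.range q, T (φ (y ^ (i + 1)) n) := map_prod Th _ _
      rw [h4]
      refine Finset.prod_congr rfl fun i hi => ?_
      exact hbij (i + 1) (by omega) (by have := Finset.mem_range.mp hi; omega) n
    have h4 : ∏ i ∈ Finset.range q, φ (y ^ (i + 1)) n = n⁻¹ := by
      have h5 := htr' 1 (one_mem S) n
      rw [Finset.prod_range_succ'] at h5
      simp only [one_mul, inv_one, mul_one, pow_zero, map_one, MulAut.one_apply] at h5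
      exact eq_inv_of_mul_eq_one_left h5
    rw [h2, h3, h4] at h1
    have h5 : T n⁻¹ * T n = 1 := by rw [← hTmul, inv_mul_cancel, hT1]
    have h6 := mul_left_cancel (h1.trans h5.symm)
    exact h6.symm
  -- `T n` is fixed by `S`
  have hTfix : ∀ (s : S) (n : N), φ (s : G) (T n) = T n := by
    intro s n
    simp only [T, map_prod]
    rw [← Function.Bijective.prod_comp (Group.mulLeft_bijective s) (fun t : S => φ (t : G) n)]
    refine Finset.prod_congr rfl fun t _ => ?_
    rw [← MulAut.mul_apply, ← map_mul]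
    rfl
  intro s hs
  rw [mem_centralizer_iff]
  intro n hn
  have h1 := hTfix ⟨s, hs⟩ ⟨n, hn⟩
  rw [key] at h1
  rw [map_pow] at h1
  have h2 : φ s ⟨n, hn⟩ = ⟨n, hn⟩ := by
    have h3 : (φ s ⟨n, hn⟩ * (⟨n, hn⟩ : N)⁻¹) ^ Nat.card S = 1 := by
      rw [mul_pow, h1, inv_pow, mul_inv_cancel]
    have h4 := orderOf_dvd_of_pow_eq_one h3
    have h5 := orderOf_dvd_natCard (φ s ⟨n, hn⟩ * (⟨n, hn⟩ : N)⁻¹)
    have h6 := orderOf_eq_one_iff.mp (Nat.eq_one_of_dvd_coprimes hcop h4 h5)
    exact mul_inv_eq_one.mp h6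
  have h3 := congrArg Subtype.val h2
  rw [hφ] at h3
  change s * n * s⁻¹ = n at h3
  rw [mul_inv_eq_iff_eq_mul] at h3
  exact h3.symm

theorem pow_eq_of_out {p : ℕ} {H : Subgroup G} [H.Normal] (h : Out p H) {g n : G} (hg : g ∉ H) (hn : n ∈ H) :
    (n * g) ^ p = g ^ p := by
  rw [h g hg, h (n * g) (fun hh => hg ((H.mul_mem_cancel_left hn).mp hh))]

theorem nilp_aux {p : ℕ} [hp : Fact p.Prime] (n : ℕ) : ∀ (G : Type u) [Group G] [Finite G],
    Nat.card G ≤ n → ∀ H : Subgroup G, H.Normal → H ≠ ⊤ → Out p H → Group.IsNilpotent H := by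
  induction n with
  | zero => intro G _ _ h; exact absurd h (by have := Nat.card_pos (α := G); omega)
  | succ n ih =>
  intro G _ _ hcard H hHn hHtop hout
  by_contra hnil
  -- proper subgroups
  have hsub : ∀ L : Subgroup G, L ≠ ⊤ → ¬ L ≤ H → ∀ X : Subgroup G, X ≤ H → X ≤ L → Group.IsNilpotent X := by
    intro L hL hLH X hXH hXL
    have h1 := ih L (by have := card_lt_of_ne_top hL; omega) (H.subgroupOf L) inferInstance
      (by rw [Ne, subgroupOf_eq_top]; exact hLH) (hout.subgroup L)
    exact NilpB.nilpotent_of_injective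
      (⟨⟨fun x => ⟨⟨x, hXL x.2⟩, hXH x.2⟩, rfl⟩, fun _ _ => rfl⟩ : X →* H.subgroupOf L)
      (fun a b hab => Subtype.ext (congrArg (fun z : H.subgroupOf L => ((z : L) : G)) hab)) h1
  -- quotients
  have hquo : ∀ N : Subgroup G, ∀ _ : N.Normal, N ≤ H → N ≠ ⊥ → Group.IsNilpotent (H.map (QuotientGroup.mk' N)) := by
    intro N hN hNH hN0
    apply ih (G ⧸ N) (by have := card_quotient_lt hN0; omega) _ inferInstance _ (hout.quotient N)
    intro ht
    apply hHtop
    have h1 : (H.map (QuotientGroup.mk' N)).comap (QuotientGroup.mk' N) =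
        (⊤ : Subgroup (G ⧸ N)).comap (QuotientGroup.mk' N) := congrArg (comap _) ht
    rw [comap_map_eq, QuotientGroup.ker_mk', comap_top, sup_eq_left.mpr hNH] at h1
    exact h1
  -- two minimal normal subgroups
  have huniq : ∀ N M : Subgroup G, ∀ _ : N.Normal, ∀ _ : M.Normal, N ≤ H → M ≤ H → N ⊓ M = ⊥ → N = ⊥ ∨ M = ⊥ := by
    intro N M hN hM hNH hMH hNM
    by_contra hcon
    push Not at hcon
    apply hnil
    have h1 := hquo N hN hNH hcon.1
    have h2 := hquo M hM hMH hcon.2
    refine NilpB.nilpotent_of_injective (((QuotientGroup.mk' N).subgroupMap H).prod ((QuotientGroup.mk' M).subgroupMap H)) ?_ inferInstance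
    rw [injective_iff_map_eq_one]
    intro x hx
    have h3 : QuotientGroup.mk' N (x : G) = 1 := congrArg (fun z => ((z.1 : H.map (QuotientGroup.mk' N)) : G ⧸ N)) hx
    have h4 : QuotientGroup.mk' M (x : G) = 1 := congrArg (fun z => ((z.2 : H.map (QuotientGroup.mk' M)) : G ⧸ M)) hx
    have h5 : (x : G) ∈ N ⊓ M := ⟨(QuotientGroup.eq_one_iff _).mp h3, (QuotientGroup.eq_one_iff _).mp h4⟩
    rw [hNM, mem_bot] at h5
    exact Subtype.ext h5
  obtain ⟨x₀, hx₀⟩ : ∃ x : G, x ∉ H := by
    by_contra hcon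
    push Not at hcon
    exact hHtop (eq_top_iff.mpr fun x _ => hcon x)
  -- Frattini
  have hfrat : ∀ (q : ℕ) [Fact q.Prime] (Q : Sylow q H), ¬ normalizer (((Q : Subgroup H).map H.subtype : Subgroup G) : Set G) ≤ H := by
    intro q _ Q hle
    have h1 := Sylow.normalizer_sup_eq_top Q
    rw [sup_eq_right.mpr hle] at h1
    exact hHtop h1
  -- `H` is solvable
  have hsolv : Group.IsSolvable H := by
    by_contra hs
    have hmin : ∀ N : Subgroup G, ∀ _ : N.Normal, N ≤ H → N = ⊥ ∨ N = H := by
      intro N hN hNH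
      by_contra hcon
      push Not at hcon
      apply hs
      have h1 : (N ⊔ zpowers x₀) ⊓ H = N := by
        have h2 := sup_inf_assoc_of_le' (A := N) (B := zpowers x₀) (C := H) hNH (by rw [normalizer_eq_top]; exact le_top)
        rw [← h2, zpowers_inf (hout x₀ hx₀) hx₀, sup_bot_eq]
      have h3 : N ⊔ zpowers x₀ ≠ ⊤ := by
        intro ht
        rw [ht, top_inf_eq] at h1
        exact hcon.2 h1.symm
      have h4 : Group.IsNilpotent N := hsub _ h3 (fun hle => hx₀ (hle (mem_sup_right (mem_zpowers x₀)))) N hNH le_sup_left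
      have h5 := hquo N hN hNH hcon.1
      haveI : Group.IsSolvable N := inferInstance
      haveI : Group.IsSolvable (H.map (QuotientGroup.mk' N)) := inferInstance
      refine solvable_of_ker_le_range (inclusion hNH) ((QuotientGroup.mk' N).subgroupMap H) ?_
      intro x hx
      have h6 : QuotientGroup.mk' N (x : G) = 1 := congrArg Subtype.val hx
      exact ⟨⟨x, (QuotientGroup.eq_one_iff _).mp h6⟩, rfl⟩
    have hodd : ∀ q : ℕ, q.Prime → q ∣ Nat.card H → q = 2 := by
      intro q hq hqd
      by_contra hq2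
      haveI : Fact q.Prime := ⟨hq⟩
      obtain ⟨Q⟩ := (inferInstance : Nonempty (Sylow q H))
      have hHq : ¬ IsPGroup q H := fun h => hnil h.isNilpotent
      have hQ0 : (Q : Subgroup H) ≠ ⊥ := Q.ne_bot_of_dvd_card hqd
      set Q' := (Q : Subgroup H).map H.subtype with hQ'
      have hQ'p : IsPGroup q Q' := Q.2.map _
      have hQ'0 : Q' ≠ ⊥ := by rw [hQ', Ne, map_eq_bot_iff_of_injective _ H.subtype_injective]; exact hQ0
      have hinj : ∀ x ∈ (Q : Subgroup H), H.subtype x = 1 → x = 1 := fun x _ hx => H.subtype_injective (by rw [hx, map_one])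
      have hgood : ∀ X : Subgroup G, X ≤ Q' → X ≠ ⊥ → normalizer (Q' : Set G) ≤ normalizer (X : Set G) →
          ∀ Y : Subgroup H, Y.map H.subtype ≤ normalizer (X : Set G) → PNil q Y := by
        intro X hX hX0 hle Y hY
        have h1 : normalizer (X : Set G) ≠ ⊤ := by
          intro ht
          rcases hmin X (normalizer_eq_top_iff.mp ht) (hX.trans (map_subtype_le _)) with h2 | h2
          · exact hX0 h2
          · exact hHq (hQ'p.to_le (h2 ▸ hX))
        have h2 : ¬ normalizer (X : Set G) ≤ H := fun h => hfrat q Q (hle.trans h)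
        have h3 := hsub _ h1 h2 (Y.map H.subtype) (map_subtype_le _) hY
        exact (pNil_of_isNilpotent h3).of_injective (Y.equivMapOfInjective _ H.subtype_injective).toMonoidHom
          (Y.equivMapOfInjective _ H.subtype_injective).injective
      have hPN : PNil q H := by
        apply thompson hq2 Q
        · apply hgood _ (J_le q Q') (J_ne_bot hQ'p hQ'0) (normalizer_le_J q Q')
          rw [hQ', ← map_J q hinj]
          exact le_normalizer_map H.subtype
        · apply hgood _ inf_le_left (Zc_ne_bot hQ'p hQ'0) (normalizer_le_Zc Q')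
          change map H.subtype (centralizer _) ≤ normalizer ((Zc (map H.subtype (Q : Subgroup H)) : Subgroup G) : Set G)
          rw [← map_Zc hinj]
          refine le_trans ?_ (le_normalizer_map H.subtype)
          exact map_mono (centralizer_le_normalizer _)
      obtain ⟨k, hk⟩ := pNil_iff_core.mp hPN
      haveI := pPrimeCore_characteristic (G := H) q
      rcases hmin ((pPrimeCore q H).map H.subtype) inferInstance (map_subtype_le _) with h1 | h1
      · rw [map_eq_bot_iff_of_injective _ H.subtype_injective] at h1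
        rw [h1, index_bot] at hk
        exact hHq (IsPGroup.of_card hk)
      · have h2 : Nat.card (pPrimeCore q H) = Nat.card H := by
          rw [← card_map_inj _ H.subtype_injective, h1]
        have h3 := pPrimeCore_not_dvd (G := H) q
        rw [h2] at h3
        exact h3 hqd
    have h2 : IsPGroup 2 H := by
      haveI : Fact (Nat.Prime 2) := ⟨Nat.prime_two⟩
      obtain ⟨k, hk⟩ : ∃ k, Nat.card H = 2 ^ k :=
        ⟨_, Nat.eq_prime_pow_of_unique_prime_dvd Nat.card_pos.ne' (fun {q} hq hqd => hodd q hq hqd)⟩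
      exact IsPGroup.of_card hk
    haveI : Fact (Nat.Prime 2) := ⟨Nat.prime_two⟩
    exact hnil h2.isNilpotent
  -- minimal normal subgroup
  have hH0 : H ≠ ⊥ := by
    rintro rfl
    exact hnil inferInstance
  obtain ⟨N, hNn, hN0, hNH, hNmin⟩ := exists_minimal_normal H hH0
  haveI := hNn
  have hNs : Group.IsSolvable N := SchurZas.isSolvable_of_le hNH hsolv
  obtain ⟨hNab, r, hr, hNr⟩ := minimal_normal_solvable_elementary hNs hN0 (fun M hM hMN => hNmin M hM hMN)
  haveI : Fact r.Prime := ⟨hr⟩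
  have hNc : ∀ x ∈ N, ∀ y ∈ N, x * y = y * x := isMulCommutative_iff_forall.mp hNab
  have hNrp : IsPGroup r N := fun x => ⟨1, by rw [pow_one]; exact Subtype.ext (hNr x x.2)⟩
  obtain ⟨s, hs, hsr, hsd⟩ : ∃ s : ℕ, s.Prime ∧ s ≠ r ∧ s ∣ Nat.card H := by
    by_contra hcon
    push Not at hcon
    apply hnil
    obtain ⟨k, hk⟩ : ∃ k, Nat.card H = r ^ k :=
      ⟨_, Nat.eq_prime_pow_of_unique_prime_dvd Nat.card_pos.ne' (fun {q} hq hqd => by
        by_contra hne; exact hcon q hq hne hqd)⟩
    exact (IsPGroup.of_card hk).isNilpotent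
  haveI : Fact s.Prime := ⟨hs⟩
  obtain ⟨S₀⟩ := (inferInstance : Nonempty (Sylow s H))
  set S := (S₀ : Subgroup H).map H.subtype with hS
  have hSH : S ≤ H := map_subtype_le _
  have hSp : IsPGroup s S := S₀.2.map _
  have hS0 : S ≠ ⊥ := by
    rw [hS, Ne, map_eq_bot_iff_of_injective _ H.subtype_injective]; exact S₀.ne_bot_of_dvd_card hsd
  have hNscop : (Nat.card N).Coprime s := by
    obtain ⟨k, hk⟩ := hNrp.exists_card_eq
    rw [hk]; exact Nat.Coprime.pow_left k ((Nat.coprime_primes hr hs).mpr (Ne.symm hsr))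
  have hcopSN : (Nat.card S).Coprime (Nat.card N) := (card_coprime_of_isPGroup hNscop hSp).symm
  have hnormN : ∀ X : Subgroup G, X ≤ normalizer (N : Set G) := fun X => by rw [normalizer_eq_top]; exact le_top
  -- `N S` is normal
  have hTn : (N ⊔ S).Normal := by
    set f := QuotientGroup.mk' N with hf
    have hfs : Function.Surjective f := QuotientGroup.mk'_surjective N
    haveI hHb := hquo N hNn hNH hN0
    have h1 : Function.Surjective (f.subgroupMap H) := f.subgroupMap_surjective H
    let Sb : Sylow s (H.map f) := S₀.mapSurjective h1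
    have h2 : (Sb : Subgroup (H.map f)).Normal := inferInstance
    haveI h3 : (Sb : Subgroup (H.map f)).Characteristic := Sb.characteristic_of_normal h2
    haveI h4 : ((Sb : Subgroup (H.map f)).map (H.map f).subtype).Normal := inferInstance
    have h5 : (Sb : Subgroup (H.map f)).map (H.map f).subtype = S.map f := by
      change ((S₀ : Subgroup H).map (f.subgroupMap H)).map (H.map f).subtype = ((S₀ : Subgroup H).map H.subtype).map f
      rw [Subgroup.map_map, Subgroup.map_map]
      rfl
    rw [h5] at h4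
    have h6 : N ⊔ S = (S.map f).comap f := by
      rw [comap_map_eq, QuotientGroup.ker_mk', sup_comm]
    rw [h6]; infer_instance
  -- `C_S(N) = 1`
  have hC : S ⊓ centralizer (N : Set G) = ⊥ := by
    set C := S ⊓ centralizer (N : Set G) with hCdef
    set D := (N ⊔ S) ⊓ centralizer (N : Set G) with hDdef
    haveI hDn : D.Normal := inferInstance
    have hNcN : N ≤ centralizer (N : Set G) := fun x hx => by
      rw [mem_centralizer_iff]; exact fun y hy => hNc y hy x hx
    have hD : D = N ⊔ C := (sup_inf_assoc_of_le' hNcN (hnormN S)).symm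
    have hchar : ∀ x, x ∈ C ↔ x ∈ D ∧ x ^ Nat.card S = 1 := by
      intro x
      constructor
      · intro hx
        refine ⟨⟨mem_sup_right hx.1, hx.2⟩, ?_⟩
        have : (⟨x, hx.1⟩ : S) ^ Nat.card S = 1 := pow_card_eq_one'
        exact congrArg Subtype.val this
      · rintro ⟨hx, hxp⟩
        rw [hD] at hx
        obtain ⟨m, hm, c, hc, rfl⟩ := (mem_sup_iff_left (hnormN C)).mp hx
        have h1 : Commute m c := mem_centralizer_iff.mp hc.2 m hm
        rw [h1.mul_pow] at hxp
        have h2 : c ^ Nat.card S = 1 := by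
          have : (⟨c, hc.1⟩ : S) ^ Nat.card S = 1 := pow_card_eq_one'
          exact congrArg Subtype.val this
        rw [h2, mul_one] at hxp
        have h3 : m = 1 := by
          have h4 := orderOf_dvd_of_pow_eq_one hxp
          have h5 : orderOf m ∣ Nat.card N := by
            have := orderOf_dvd_natCard (⟨m, hm⟩ : N)
            rwa [orderOf_mk] at this
          exact orderOf_eq_one_iff.mp (Nat.eq_one_of_dvd_coprimes hcopSN h4 h5)
        rw [h3, one_mul]; exact hc
    haveI hCn : C.Normal := by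
      refine ⟨fun x hx g => ?_⟩
      rw [hchar] at hx ⊢
      exact ⟨hDn.conj_mem x hx.1 g, by rw [conj_pow, hx.2, mul_one, mul_inv_cancel]⟩
    have h1 : N ⊓ C = ⊥ := by
      rw [eq_bot_iff]
      refine (inf_le_inf_left N (inf_le_left : C ≤ S)).trans ?_
      rw [Subgroup.inf_eq_bot_of_coprime hcopSN.symm]
    exact (huniq N C hNn hCn hNH (inf_le_left.trans hSH) h1).resolve_left hN0
  obtain ⟨y, hyS, hyH⟩ : ∃ y ∈ normalizer (S : Set G), y ∉ H := by
    by_contra hcon
    push Not at hcon
    exact hfrat s S₀ hcon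
  have hyp := hout y hyH
  by_cases hsp : s = p
  · -- `s = p`
    subst hsp
    have hynorm : zpowers y ≤ normalizer (S : Set G) := by rw [zpowers_le]; exact hyS
    have hS1p : IsPGroup s (S ⊔ zpowers y : Subgroup G) := by
      obtain ⟨a, ha⟩ := hSp.exists_card_eq
      have h1 : Nat.card (zpowers y) ∣ s := by rw [Nat.card_zpowers]; exact orderOf_dvd_of_pow_eq_one hyp
      have h2 := (card_sup_dvd hynorm).trans (mul_dvd_mul_left (Nat.card S) h1)
      rw [ha, ← pow_succ] at h2
      obtain ⟨b, -, hb⟩ := (Nat.dvd_prime_pow hs).mp h2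
      exact IsPGroup.of_card hb
    set S1 := S ⊔ zpowers y with hS1
    haveI : Group.IsNilpotent S1 := hS1p.isNilpotent
    haveI : (S.subgroupOf S1).Normal := normal_subgroupOf_sup hynorm
    have h1 : S.subgroupOf S1 ≠ ⊥ := by
      rw [Ne, subgroupOf_eq_bot, disjoint_iff, inf_eq_left.mpr (le_sup_left : S ≤ S1)]
      exact hS0
    have h2 := normal_inf_center_ne_bot (S.subgroupOf S1) h1
    obtain ⟨z, hz, hzp⟩ : ∃ z ∈ S.subgroupOf S1 ⊓ center S1, orderOf z = s := by
      have h3 : IsPGroup s (S.subgroupOf S1 ⊓ center S1 : Subgroup S1) := hS1p.to_subgroup _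
      haveI : Nontrivial (S.subgroupOf S1 ⊓ center S1 : Subgroup S1) := (nontrivial_iff_ne_bot _).mpr h2
      obtain ⟨k, hk, hk2⟩ := h3.nontrivial_iff_card.mp inferInstance
      obtain ⟨z, hz⟩ := exists_prime_orderOf_dvd_card' (G := (S.subgroupOf S1 ⊓ center S1 : Subgroup S1)) s
        (by rw [hk2]; exact dvd_pow_self s hk.ne')
      exact ⟨z, z.2, by rw [orderOf_coe]; exact hz⟩
    have hzS : (z : G) ∈ S := hz.1
    have hzz : (z : G) ^ s = 1 := by
      have : z ^ s = 1 := by rw [← hzp]; exact pow_orderOf_eq_one z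
      exact congrArg Subtype.val this
    have hyz : y * (z : G) = z * y := congrArg Subtype.val
      (mem_center_iff.mp hz.2 ⟨y, mem_sup_right (mem_zpowers y)⟩)
    have h3 := central_fix hout hNH hNscop hyH (hSH hzS) hzz hyz (hnormN ⊤ trivial) (hnormN ⊤ trivial)
    have h4 : (z : G) ∈ S ⊓ centralizer (N : Set G) := ⟨hzS, h3⟩
    rw [hC, mem_bot] at h4
    have h5 : z = 1 := Subtype.ext h4
    rw [h5, orderOf_one] at hzp
    exact hs.one_lt.ne hzp
  · -- `s ≠ p`
    have hScp : (Nat.card S).Coprime p := by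
      obtain ⟨k, hk⟩ := hSp.exists_card_eq
      rw [hk]; exact Nat.Coprime.pow_left k ((Nat.coprime_primes hs hp.out).mpr hsp)
    have h1 : S ≤ centralizer (N : Set G) := by
      apply avg_fix hp.out.pos hNc hcopSN hyS
      · intro i hi hip u hu hc
        refine fpf hout hSH hScp (e := y ^ i) ?_ hu hc
        intro hyi
        have h2 := mem_of_zpow_mem hyp hyH (k := (i : ℤ)) (by rw [zpow_natCast]; exact hyi)
        rw [zpow_natCast] at h2
        have h3 := orderOf_eq_prime hyp (fun h => hyH (h ▸ one_mem H))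
        have h4 := orderOf_dvd_of_pow_eq_one h2
        rw [h3] at h4
        exact absurd (Nat.le_of_dvd hi h4) (by omega)
      · intro t ht m hm
        refine pow_eq_of_out hout ?_ (hNH hm)
        intro hh
        apply hyH
        have := hHn.conj_mem _ hh t⁻¹
        have h3 : t⁻¹ * (t * y * t⁻¹) * t⁻¹⁻¹ = y := by group
        rwa [h3] at this
    apply hS0
    rw [← hC, inf_eq_left.mpr h1]

/-- Hughes–Thompson–Kegel -/
theorem nilp_of_out {p : ℕ} [Fact p.Prime] [Finite G] {H : Subgroup G} (hHn : H.Normal) (hH : H ≠ ⊤)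
    (h : Out p H) : Group.IsNilpotent H := nilp_aux _ G le_rfl H hHn hH h

/-- the index is `p` unless `G` is a `p`-group -/
theorem index_of_out {p : ℕ} [hp : Fact p.Prime] [Finite G] {H : Subgroup G} (hHn : H.Normal) (hH : H ≠ ⊤)
    (h : Out p H) (hG : ¬ IsPGroup p G) : H.index = p := by
  by_contra hne
  have hQp : IsPGroup p (G ⧸ H) := by
    intro y
    obtain ⟨g, rfl⟩ := QuotientGroup.mk_surjective y
    refine ⟨1, ?_⟩
    rw [pow_one, ← QuotientGroup.mk_pow]
    by_cases hg : g ∈ H
    · exact (QuotientGroup.eq_one_iff _).mpr (H.pow_mem hg p)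
    · rw [h g hg]; rfl
  -- an intermediate normal subgroup
  haveI : Nontrivial (G ⧸ H) := by
    rw [← not_subsingleton_iff_nontrivial]
    intro hs
    apply hH
    rw [eq_top_iff]
    intro g _
    exact (QuotientGroup.eq_one_iff g).mp (Subsingleton.elim _ _)
  haveI := hQp.isNilpotent
  have h1 := normal_inf_center_ne_bot (⊤ : Subgroup (G ⧸ H)) top_ne_bot
  rw [top_inf_eq] at h1
  haveI : Nontrivial (center (G ⧸ H)) := (nontrivial_iff_ne_bot _).mpr h1
  obtain ⟨k, hk, hk2⟩ := (hQp.to_subgroup (center (G ⧸ H))).nontrivial_iff_card.mp inferInstance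
  obtain ⟨z₀, hz₀⟩ := exists_prime_orderOf_dvd_card' (G := center (G ⧸ H)) p
    (by rw [hk2]; exact dvd_pow_self p hk.ne')
  have hz₀' : orderOf (z₀ : G ⧸ H) = p := by rw [orderOf_coe]; exact hz₀
  set Z := zpowers (z₀ : G ⧸ H) with hZ
  haveI hZn : Z.Normal := by
    refine ⟨fun x hx g => ?_⟩
    obtain ⟨k, rfl⟩ := mem_zpowers_iff.mp hx
    have h2 := mem_center_iff.mp ((center (G ⧸ H)).zpow_mem z₀.2 k) g
    rw [h2, mul_inv_cancel_right]
    exact hx
  set K := Z.comap (QuotientGroup.mk' H) with hK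
  have hHK : H ≤ K := by
    intro x hx
    rw [hK, mem_comap]
    have : QuotientGroup.mk' H x = 1 := (QuotientGroup.eq_one_iff x).mpr hx
    rw [this]; exact one_mem _
  have hKtop : K ≠ ⊤ := by
    intro ht
    apply hne
    have h2 : Z = ⊤ := by
      rw [eq_top_iff]
      intro y _
      obtain ⟨g, rfl⟩ := QuotientGroup.mk'_surjective H y
      have : g ∈ K := by rw [ht]; trivial
      exact this
    rw [index_eq_card, ← card_top (G := G ⧸ H), ← h2, hZ, Nat.card_zpowers, hz₀']
  have hKn : K.Normal := by rw [hK]; infer_instance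
  have hKnil := nilp_of_out hKn hKtop (fun g hg => h g (fun hh => hg (hHK hh)))
  obtain ⟨z, hz⟩ := QuotientGroup.mk'_surjective H (z₀ : G ⧸ H)
  have hzK : z ∈ K := by rw [hK, mem_comap, hz]; exact mem_zpowers _
  have hzH : z ∉ H := by
    intro hh
    have h2 : (z₀ : G ⧸ H) = 1 := by rw [← hz]; exact (QuotientGroup.eq_one_iff z).mpr hh
    rw [h2, orderOf_one] at hz₀'
    exact hp.out.one_lt.ne hz₀'
  have hzp := h z hzH
  -- a prime `q ≠ p`
  obtain ⟨q, hq, hqp, hqd⟩ : ∃ q : ℕ, q.Prime ∧ q ≠ p ∧ q ∣ Nat.card G := by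
    by_contra hcon
    push Not at hcon
    apply hG
    obtain ⟨k, hk⟩ : ∃ k, Nat.card G = p ^ k :=
      ⟨_, Nat.eq_prime_pow_of_unique_prime_dvd Nat.card_pos.ne' (fun {q} hq hqd => by
        by_contra hne; exact hcon q hq hne hqd)⟩
    exact IsPGroup.of_card hk
  haveI : Fact q.Prime := ⟨hq⟩
  obtain ⟨u, hu⟩ := exists_prime_orderOf_dvd_card' (G := G) q hqd
  have huH : u ∈ H := by
    by_contra hn
    have h2 := orderOf_dvd_of_pow_eq_one (h u hn)
    rw [hu] at h2
    exact hqp ((Nat.prime_dvd_prime_iff_eq hq hp.out).mp h2)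
  have huK := hHK huH
  have hcomm : z * u = u * z := by
    have hup : IsPGroup q (zpowers (⟨u, huK⟩ : K)) := by
      apply IsPGroup.of_card (n := 1)
      rw [Nat.card_zpowers, orderOf_mk, hu, pow_one]
    obtain ⟨Q, hQ⟩ := hup.exists_le_sylow
    have hQn : (Q : Subgroup K).Normal := inferInstance
    have h1 := frobCond_of_isNilpotent hKnil (Q : Subgroup K) Q.2 ⟨z, hzK⟩
      (by rw [normalizer_eq_top]; trivial) (by
        rw [orderOf_mk]
        exact Nat.Coprime.coprime_dvd_left (orderOf_dvd_of_pow_eq_one hzp)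
          ((Nat.coprime_primes hp.out hq).mpr (Ne.symm hqp)))
    have h2 := mem_centralizer_iff.mp h1 ⟨u, huK⟩ (hQ (mem_zpowers _))
    exact (congrArg Subtype.val h2).symm
  have h3 := fpf h (U := zpowers u) (by rw [zpowers_le]; exact huH)
    (by rw [Nat.card_zpowers, hu]; exact (Nat.coprime_primes hq hp.out).mpr hqp) hzH (mem_zpowers u) hcomm
  rw [h3, orderOf_one] at hu
  exact hq.one_lt.ne hu

/-- Thompson: a finite group with a fixed-point-free automorphism of prime order is nilpotent -/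
theorem isNilpotent_of_fpf {p : ℕ} [hp : Fact p.Prime] [Finite G] (φ : MulAut G) (hord : orderOf φ = p)
    (hφ : ∀ g : G, φ g = g → g = 1) : Group.IsNilpotent G := by
  let A := zpowers φ
  let Γ := G ⋊[A.subtype] A
  haveI : Finite A := by
    have h1 : IsOfFinOrder φ := orderOf_pos_iff.mp (by rw [hord]; exact hp.out.pos)
    exact (finite_zpowers (a := φ)).mpr h1
  haveI : Finite Γ := Finite.of_equiv (G × A) SemidirectProduct.equivProd.symm
  let H : Subgroup Γ := (SemidirectProduct.inl : G →* Γ).range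
  have hHk : H = (SemidirectProduct.rightHom : Γ →* A).ker := SemidirectProduct.range_inl_eq_ker_rightHom
  have hHn : H.Normal := by rw [hHk]; infer_instance
  have hφ1 : φ ≠ 1 := by
    intro h
    rw [h, orderOf_one] at hord
    exact hp.out.one_lt.ne hord
  have hHtop : H ≠ ⊤ := by
    intro ht
    have h1 : (SemidirectProduct.inr (⟨φ, mem_zpowers φ⟩ : A) : Γ) ∈ H := by rw [ht]; trivial
    rw [hHk, MonoidHom.mem_ker, SemidirectProduct.rightHom_inr] at h1
    exact hφ1 (congrArg Subtype.val h1)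
  have hout : Out p H := by
    intro x hx
    have hxr : x.right ≠ 1 := by
      intro h1
      apply hx
      rw [hHk, MonoidHom.mem_ker]
      exact h1
    -- `x.right` is fixed-point-free
    have hφp : φ ^ p = 1 := by rw [← hord]; exact pow_orderOf_eq_one φ
    have hψ : ∀ g : G, (x.right : MulAut G) g = g → g = 1 := by
      intro g hg
      apply hφ
      have h1 : φ ∈ zpowers (x.right : MulAut G) := by
        by_contra hn
        obtain ⟨j, hj⟩ := mem_zpowers_iff.mp x.right.2
        have h2 : φ ^ j ∈ zpowers (x.right : MulAut G) := by rw [hj]; exact mem_zpowers _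
        have h3 := mem_of_zpow_mem hφp hn h2
        rw [hj] at h3
        exact hxr (Subtype.ext h3)
      obtain ⟨k, hk⟩ := mem_zpowers_iff.mp h1
      rw [← hk]
      have h4 : (x.right : MulAut G) ∈ MulAction.stabilizer (MulAut G) g := hg
      exact (MulAction.stabilizer (MulAut G) g).zpow_mem h4 k
    have hsurj := MonoidHom.FixedPointFree.commutatorMap_surjective (φ := ((x.right : MulAut G) : G →* G)) (fun g hg => hψ g hg)
    obtain ⟨h, hh⟩ := hsurj x.left
    have hx2 : x = SemidirectProduct.inl h * SemidirectProduct.inr x.right * (SemidirectProduct.inl h)⁻¹ := by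
      have e1 : (SemidirectProduct.inl ((x.right : MulAut G) h) : Γ) =
          SemidirectProduct.inr x.right * SemidirectProduct.inl h * SemidirectProduct.inr x.right⁻¹ :=
        SemidirectProduct.inl_aut (φ := A.subtype) x.right h
      have e2 : x.left = h * ((x.right : MulAut G) h)⁻¹ := by
        rw [← hh, MonoidHom.commutatorMap_apply, div_eq_mul_inv]; rfl
      conv_lhs => rw [← SemidirectProduct.inl_left_mul_inr_right x, e2, map_mul, map_inv, e1]
      rw [map_inv]
      group
    rw [hx2, conj_pow, ← map_pow]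
    have h5 : x.right ^ p = 1 := by
      have h6 : Nat.card A = p := by rw [Nat.card_zpowers]; exact hord
      rw [← h6]; exact pow_card_eq_one'
    rw [h5, map_one, mul_one, mul_inv_cancel]
  have hnil := nilp_of_out hHn hHtop hout
  exact NilpB.nilpotent_of_injective (SemidirectProduct.inl : G →* Γ).rangeRestrict
    (fun a b hab => SemidirectProduct.inl_injective (congrArg Subtype.val hab)) hnil

end Cfsg.Agent.Lib.FpfNilp
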