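import Cfsg.Agent.Lib.Basic

/-!
Products over conjugacy classes in a normal abelian `p`-subgroup under a quadratic action.
-/

set_option autoImplicit false
set_option linter.unusedSectionVars false
set_option linter.style.haveILetI false
set_option linter.unusedVariables false

namespace Cfsg.Agent.Lib.GlcA

open Finset

section
variable {M A : Type*} [CommGroup M] [Group A]

/-- the homomorphism `a ↦ [a, v]` of a quadratic action -/
def cc (α : A →* MulAut M) (hq : ∀ a b v, α b (α a v * v⁻¹) = α a v * v⁻¹) (v : M) : A →* M where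
  toFun a := α a v * v⁻¹
  map_one' := by simp
  map_mul' a b := by
    have h1 : α b v = (α b v * v⁻¹) * v := by group
    have h2 : α (a * b) v = (α b v * v⁻¹) * α a v := by
      rw [map_mul, MulAut.mul_apply]
      conv_lhs => rw [h1]
      rw [map_mul, hq]
    rw [h2, mul_comm (α a v * v⁻¹), mul_assoc]

variable [Fintype A] [DecidableEq M]

/-- the set of values of `cc` -/
def UU (α : A →* MulAut M) (v : M) : Finset M := univ.image fun a => α a v * v⁻¹

theorem orbit_prod (α : A →* MulAut M) (m p : ℕ) (x : M) (n : ℕ) :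
    ∀ D : Finset M, D.card ≤ n → (∀ a, ∀ d ∈ D, α a d ∈ D) → (∀ d ∈ D, (∀ a, α a d = d) → d ^ m = x) →
      (∀ d ∈ D, (d ^ m) ^ p = x ^ p) →
      (∀ d ∈ D, (¬ ∀ a, α a d = d) → p ∣ (UU α d).card ∧ (∏ u ∈ UU α d, u) ^ m = 1) →
      (∏ d ∈ D, d) ^ m = x ^ D.card := by
  induction n with
  | zero =>
    intro D hD _ _ _ _
    have h0 : D = ∅ := Finset.card_eq_zero.1 (Nat.le_zero.1 hD)
    subst h0
    simp
  | succ n ih =>
    intro D hD hinv h1 h2 h3
    by_cases hemp : D = ∅
    · subst hemp; simp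
    obtain ⟨d, hd⟩ := Finset.nonempty_iff_ne_empty.2 hemp
    by_cases hfix : ∀ a, α a d = d
    · have h4 := ih (D.erase d) (by rw [Finset.card_erase_of_mem hd]; omega) (fun a e he => by
        rw [Finset.mem_erase] at he ⊢
        refine ⟨fun h => he.1 ((α a).injective (h.trans (hfix a).symm)), hinv a e he.2⟩)
        (fun e he => h1 e (Finset.mem_of_mem_erase he)) (fun e he => h2 e (Finset.mem_of_mem_erase he))
        (fun e he => h3 e (Finset.mem_of_mem_erase he))
      rw [← Finset.mul_prod_erase D (fun e => e) hd, mul_pow, h4, h1 d hd hfix, Finset.card_erase_of_mem hd, ← pow_succ']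
      congr 1
      have := Finset.card_pos.2 ⟨d, hd⟩
      omega
    · set O : Finset M := univ.image fun a => α a d with hO
      have hOD : O ⊆ D := by
        intro e he
        obtain ⟨a, -, rfl⟩ := Finset.mem_image.1 he
        exact hinv a d hd
      have hOU : O = (UU α d).image fun u => u * d := by
        ext e
        simp only [hO, UU, Finset.mem_image, Finset.mem_univ, true_and]
        constructor
        · rintro ⟨a, rfl⟩
          exact ⟨_, ⟨a, rfl⟩, by group⟩
        · rintro ⟨_, ⟨a, rfl⟩, rfl⟩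
          exact ⟨a, by group⟩
      have hOc : O.card = (UU α d).card := by
        rw [hOU, Finset.card_image_of_injective _ (mul_left_injective d)]
      have hdO : d ∈ O := Finset.mem_image.2 ⟨1, Finset.mem_univ _, by simp⟩
      obtain ⟨h5, h6⟩ := h3 d hd hfix
      have hOp : (∏ e ∈ O, e) ^ m = x ^ O.card := by
        rw [hOU, Finset.prod_image (fun a _ b _ h => mul_left_injective d h), Finset.prod_mul_distrib, Finset.prod_const, mul_pow, h6,
          one_mul, Finset.card_image_of_injective _ (mul_left_injective d)]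
        obtain ⟨k, hk⟩ := h5
        rw [hk, ← pow_mul, mul_comm (p * k) m, pow_mul, pow_mul, h2 d hd, ← pow_mul]
      have h4 := ih (D \ O) (by
          rw [Finset.card_sdiff_of_subset hOD]
          have := Finset.card_pos.2 ⟨d, hdO⟩
          omega) (fun a e he => by
          rw [Finset.mem_sdiff] at he ⊢
          refine ⟨hinv a e he.1, fun h => he.2 ?_⟩
          obtain ⟨b, -, hb⟩ := Finset.mem_image.1 h
          refine Finset.mem_image.2 ⟨a⁻¹ * b, Finset.mem_univ _, ?_⟩
          rw [map_mul, MulAut.mul_apply, hb, map_inv, MulAut.inv_apply_self])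
        (fun e he => h1 e (Finset.mem_sdiff.1 he).1) (fun e he => h2 e (Finset.mem_sdiff.1 he).1)
        (fun e he => h3 e (Finset.mem_sdiff.1 he).1)
      rw [← Finset.prod_sdiff hOD, mul_pow, h4, hOp, ← pow_add, Finset.card_sdiff_of_subset hOD]
      congr 1
      have := Finset.card_le_card hOD
      omega

/-- the square of the product of the values -/
theorem prod_sq (α : A →* MulAut M) (hq : ∀ a b v, α b (α a v * v⁻¹) = α a v * v⁻¹) (v : M) :
    (∏ u ∈ UU α v, u) ^ 2 = 1 := by
  have hU : ∀ u, u ∈ UU α v ↔ ∃ a, cc α hq v a = u := by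
    intro u
    simp only [UU, Finset.mem_image, Finset.mem_univ, true_and]
    rfl
  have h1 : ∏ u ∈ UU α v, u = ∏ u ∈ UU α v, u⁻¹ := by
    refine Finset.prod_nbij' (fun u => u⁻¹) (fun u => u⁻¹) ?_ ?_ ?_ ?_ ?_
    · intro u hu
      obtain ⟨a, rfl⟩ := (hU u).1 hu
      exact (hU _).2 ⟨a⁻¹, map_inv _ _⟩
    · intro u hu
      obtain ⟨a, rfl⟩ := (hU u).1 hu
      exact (hU _).2 ⟨a⁻¹, map_inv _ _⟩
    · intro u _; exact inv_inv u
    · intro u _; exact inv_inv u
    · intro u _; exact (inv_inv u).symm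
  rw [Finset.prod_inv_distrib] at h1
  rw [pow_two]
  nth_rw 1 [h1]
  exact inv_mul_cancel _

theorem pairing {t : M} (ht : t * t = 1) (ht1 : t ≠ 1) (n : ℕ) : ∀ D : Finset M, D.card ≤ n → (∀ u ∈ D, u * u = 1) →
    (∀ u ∈ D, t * u ∈ D) → ∃ k, D.card = 2 * k ∧ ∏ u ∈ D, u = t ^ k := by
  induction n with
  | zero =>
    intro D hD _ _
    have h0 : D = ∅ := Finset.card_eq_zero.1 (Nat.le_zero.1 hD)
    subst h0
    exact ⟨0, by simp, by simp⟩
  | succ n ih =>
    intro D hD h1 h2
    by_cases hemp : D = ∅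
    · subst hemp; exact ⟨0, by simp, by simp⟩
    obtain ⟨d, hd⟩ := Finset.nonempty_iff_ne_empty.2 hemp
    have htd : t * d ≠ d := fun h => ht1 (mul_eq_right.1 h)
    have htdm : t * d ∈ D.erase d := Finset.mem_erase.2 ⟨htd, h2 d hd⟩
    obtain ⟨k, hk, hk'⟩ := ih ((D.erase d).erase (t * d)) (by
      rw [Finset.card_erase_of_mem htdm, Finset.card_erase_of_mem hd]; omega)
      (fun u hu => h1 u (Finset.mem_of_mem_erase (Finset.mem_of_mem_erase hu))) (fun u hu => by
        rw [Finset.mem_erase, Finset.mem_erase] at hu ⊢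
        refine ⟨fun h => hu.2.1 (mul_left_cancel h), fun h => hu.1 ?_, h2 u hu.2.2⟩
        rw [← h, ← mul_assoc, ht, one_mul])
    refine ⟨k + 1, ?_, ?_⟩
    · rw [Finset.card_erase_of_mem htdm, Finset.card_erase_of_mem hd] at hk
      have h3 := Finset.card_pos.2 ⟨_, htdm⟩
      rw [Finset.card_erase_of_mem hd] at h3
      omega
    · rw [← Finset.mul_prod_erase D (fun e => e) hd, ← Finset.mul_prod_erase (D.erase d) (fun e => e) htdm, hk', pow_succ']
      have : d * (t * d * t ^ k) = t * (d * d) * t ^ k := by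
        rw [mul_assoc t d, mul_left_comm, mul_assoc t, mul_assoc d]
      rw [this, h1 d hd, mul_one]

theorem prod_four (α : A →* MulAut M) (hq : ∀ a b v, α b (α a v * v⁻¹) = α a v * v⁻¹) (v : M)
    (h2 : ∀ u ∈ UU α v, u * u = 1) (h4 : 4 ∣ (UU α v).card) : ∏ u ∈ UU α v, u = 1 := by
  have hU : ∀ u, u ∈ UU α v ↔ ∃ a, cc α hq v a = u := by
    intro u
    simp only [UU, Finset.mem_image, Finset.mem_univ, true_and]
    rfl
  by_cases hall : ∀ u ∈ UU α v, u = 1
  · exact Finset.prod_eq_one hall
  push Not at hall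
  obtain ⟨t, ht, ht1⟩ := hall
  obtain ⟨k, hk, hk'⟩ := pairing (h2 t ht) ht1 _ (UU α v) le_rfl h2 (fun u hu => by
    obtain ⟨a, rfl⟩ := (hU t).1 ht
    obtain ⟨b, rfl⟩ := (hU u).1 hu
    exact (hU _).2 ⟨a * b, map_mul _ _ _⟩)
  rw [hk']
  obtain ⟨l, hl⟩ := h4
  have h5 : k = 2 * l := by omega
  rw [h5, pow_mul, pow_two, h2 t ht, one_pow]

end

end Cfsg.Agent.Lib.GlcA
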