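import Cfsg.Agent.Lib.Involve
import Cfsg.Agent.Lib.Coprime
import Cfsg.Agent.Lib.CoprimeB
import Cfsg.Agent.Lib.PPart
import Cfsg.Agent.Lib.SylRel
import Cfsg.Agent.Lib.Nilp
import Cfsg.Agent.Lib.MinAct

/-!
Sections isomorphic to the symmetric group of degree 4.
-/

set_option autoImplicit false
set_option linter.unusedSectionVars false
set_option linter.style.haveILetI false
set_option linter.unusedVariables false

namespace Cfsg.Agent.Lib.S4A

open Subgroup Cfsg Cfsg.Agent.Lib.Involve Cfsg.Agent.Lib.SylRel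
open scoped commutatorElement Pointwise

universe u v w

theorem eq_one_of_pow {X : Type*} [Group X] {x : X} {m n : ℕ} (hm : x ^ m = 1) (hn : x ^ n = 1) (h : m.Coprime n) : x = 1 := by
  have h1 := Nat.dvd_gcd (orderOf_dvd_of_pow_eq_one hm) (orderOf_dvd_of_pow_eq_one hn)
  rw [h.gcd_eq_one] at h1
  exact orderOf_eq_one_iff.1 (Nat.dvd_one.1 h1)

theorem mem_of_pow {X : Type*} [Group X] {N : Subgroup X} [N.Normal] {x : X} {m n : ℕ} (hm : x ^ m ∈ N) (hn : x ^ n ∈ N) (h : m.Coprime n) :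
    x ∈ N := by
  rw [← QuotientGroup.eq_one_iff]
  refine eq_one_of_pow (m := m) (n := n) ?_ ?_ h
  · exact (QuotientGroup.eq_one_iff _).2 hm
  · exact (QuotientGroup.eq_one_iff _).2 hn

/-- a subgroup of index 4 whose action is large -/
theorem surj_of_index {Y : Type u} [Group Y] [Finite Y] {B : Subgroup Y} (hB : B.index = 4) {x y : Y} (hx : x ∈ B) (hy : y ∈ B)
    {a b : ℕ} (hxa : x ^ 3 ^ a = 1) (hyb : y ^ 2 ^ b = 1) (hxN : x ∉ B.normalCore) (hyN : y ∉ B.normalCore) :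
    Involves (Equiv.Perm (Fin 4)) Y := by
  have hcard : Nat.card (Y ⧸ B) = 4 := hB
  let φ := MulAction.toPermHom Y (Y ⧸ B)
  have hker : φ.ker = B.normalCore := (Subgroup.normalCore_eq_ker B).symm
  have h1 : Nat.card φ.range = B.normalCore.relIndex B * 4 := by
    rw [← Subgroup.index_ker, hker, ← hB, Subgroup.relIndex_mul_index (Subgroup.normalCore_le B)]
  have h0 : B.normalCore.relIndex B ≠ 0 := by
    intro h
    have h2 : Nat.card φ.range = 0 := by rw [h1, h, zero_mul]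
    exact Nat.card_pos.ne' h2
  have h3 : 3 ∣ B.normalCore.relIndex B := by
    by_contra h
    apply hxN
    have h2 : x ^ B.normalCore.relIndex B ∈ B.normalCore := Subgroup.pow_relIndex_mem _ hx
    refine mem_of_pow h2 (n := 3 ^ a) (by rw [hxa]; exact one_mem _) ?_
    exact (Nat.Coprime.pow_right a ((Nat.Prime.coprime_iff_not_dvd Nat.prime_three).2 h).symm)
  have h2 : 2 ∣ B.normalCore.relIndex B := by
    by_contra h
    apply hyN
    have h2 : y ^ B.normalCore.relIndex B ∈ B.normalCore := Subgroup.pow_relIndex_mem _ hy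
    refine mem_of_pow h2 (n := 2 ^ b) (by rw [hyb]; exact one_mem _) ?_
    exact (Nat.Coprime.pow_right b ((Nat.Prime.coprime_iff_not_dvd Nat.prime_two).2 h).symm)
  have h6 : 6 ∣ B.normalCore.relIndex B := (by decide : Nat.Coprime 2 3).mul_dvd_of_dvd_of_dvd h2 h3
  have hfin : Finite (Y ⧸ B) := inferInstance
  have e : (Y ⧸ B) ≃ Fin 4 := Finite.equivFinOfCardEq hcard
  have hP : Nat.card (Equiv.Perm (Y ⧸ B)) = 24 := by
    rw [Nat.card_congr e.permCongr]
    simp [Nat.card_eq_fintype_card, Fintype.card_perm]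
    rfl
  have hr : φ.range = ⊤ := by
    apply Subgroup.eq_top_of_le_card
    rw [hP, h1]
    obtain ⟨k, hk⟩ := h6
    rw [hk] at h0 ⊢
    have : 0 < k := by
      rcases Nat.eq_zero_or_pos k with rfl | h
      · simp at h0
      · exact h
    omega
  refine involves_of_surj ((e.permCongrHom).toMonoidHom.comp φ) ?_
  exact e.permCongrHom.surjective.comp (MonoidHom.range_eq_top.1 hr)

variable {G : Type u} [Group G]

/-- fixed points of 2-elements -/
theorem exists_fix {V : Subgroup G} (hV : ∀ x ∈ V, ∀ y ∈ V, x * y = y * x) (hV2 : ∀ v ∈ V, v * v = 1) (b : ℕ) :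
    ∀ y : G, y ∈ normalizer (V : Set G) → ∀ w ∈ V, w ≠ 1 → y ^ 2 ^ b * w = w * y ^ 2 ^ b → ∃ v ∈ V, v ≠ 1 ∧ y * v = v * y := by
  induction b with
  | zero => intro y hy w hw hw1 h; exact ⟨w, hw, hw1, by simpa using h⟩
  | succ b ih =>
    intro y hy w hw hw1 h
    obtain ⟨v, hv, hv1, hvy⟩ := ih (y ^ 2) (Subgroup.pow_mem _ hy 2) w hw hw1 (by rw [← pow_mul, ← pow_succ']; exact h)
    have hyv : y * v * y⁻¹ ∈ V := (mem_normalizer_iff.1 hy v).1 hv
    by_cases hu : v * (y * v * y⁻¹) = 1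
    · refine ⟨v, hv, hv1, ?_⟩
      have h1 : y * v * y⁻¹ = v := by
        have h2 := hV2 v hv
        rw [← hu] at h2
        exact (mul_left_cancel h2).symm
      rwa [mul_inv_eq_iff_eq_mul] at h1
    · refine ⟨v * (y * v * y⁻¹), mul_mem hv hyv, hu, ?_⟩
      have h1 : y * (v * (y * v * y⁻¹)) * y⁻¹ = v * (y * v * y⁻¹) := by
        have h2 : y * (v * (y * v * y⁻¹)) * y⁻¹ = (y * v * y⁻¹) * (y ^ 2 * v * (y ^ 2)⁻¹) := by
          rw [pow_two]; group
        rw [h2, hvy, mul_inv_cancel_right, hV _ hyv _ hv]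
      rwa [mul_inv_eq_iff_eq_mul] at h1

/-- the basic configuration -/
theorem s4_of_plane [Finite G] {V : Subgroup G} (hV : ∀ x ∈ V, ∀ y ∈ V, x * y = y * x) (hV2 : ∀ v ∈ V, v * v = 1) {x y : G}
    (hxV : x ∈ normalizer (V : Set G)) (hyV : y ∈ normalizer (V : Set G)) (hx3 : ∀ v ∈ V, x ^ 3 * v = v * x ^ 3)
    (hfix : ∀ v ∈ V, x * v = v * x → v = 1) {a b : ℕ} (hxa : x ^ 3 ^ a = 1) (hyb : y ^ 2 ^ b = 1) (hxy : y * x * y⁻¹ = x⁻¹)
    (hne : V ≠ ⊥) : Involves (Equiv.Perm (Fin 4)) G := by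
  obtain ⟨w, hw, hw1⟩ : ∃ w ∈ V, w ≠ 1 := by
    obtain ⟨w, hw⟩ := (Subgroup.ne_bot_iff_exists_ne_one (H := V)).1 hne
    exact ⟨w, w.2, fun h => hw (Subtype.ext h)⟩
  obtain ⟨v, hv, hv1, hvy⟩ := exists_fix hV hV2 b y hyV w hw hw1 (by rw [hyb, one_mul, mul_one])
  have hyv : y * v * y⁻¹ = v := by rw [hvy]; group
  obtain ⟨v2, hv2⟩ : ∃ v2, v2 = x * v * x⁻¹ := ⟨_, rfl⟩
  obtain ⟨v3, hv3⟩ : ∃ v3, v3 = x * v2 * x⁻¹ := ⟨_, rfl⟩
  have hv2V : v2 ∈ V := by rw [hv2]; exact (mem_normalizer_iff.1 hxV v).1 hv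
  have hv3V : v3 ∈ V := by rw [hv3]; exact (mem_normalizer_iff.1 hxV v2).1 hv2V
  have hxv3 : x * v3 * x⁻¹ = v := by
    have h1 : x * v3 * x⁻¹ = x ^ 3 * v * (x ^ 3)⁻¹ := by
      rw [hv3, hv2, show x ^ 3 = x * x * x by rw [pow_succ, pow_two]]; group
    rw [h1, hx3 v hv]; group
  have h123 : v * v2 * v3 = 1 := by
    apply hfix _ (mul_mem (mul_mem hv hv2V) hv3V)
    have h1 : x * (v * v2 * v3) * x⁻¹ = v * v2 * v3 := by
      have h2 : x * (v * v2 * v3) * x⁻¹ = (x * v * x⁻¹) * (x * v2 * x⁻¹) * (x * v3 * x⁻¹) := by group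
      rw [h2, ← hv2, ← hv3, hxv3, mul_assoc, hV _ hv3V _ hv, ← mul_assoc, hV _ hv2V _ hv]
    rwa [mul_inv_eq_iff_eq_mul] at h1
  have e12 : v * v2 = v3 := by
    have h1 := hV2 v3 hv3V
    rw [← h123] at h1
    exact (mul_right_cancel h1).symm
  have e21 : v2 * v = v3 := by rw [hV _ hv2V _ hv, e12]
  have e13 : v * v3 = v2 := by rw [← e12, ← mul_assoc, hV2 v hv, one_mul]
  have e31 : v3 * v = v2 := by rw [hV _ hv3V _ hv, e13]
  have e23 : v2 * v3 = v := by rw [← e21, ← mul_assoc, hV2 v2 hv2V, one_mul]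
  have e32 : v3 * v2 = v := by rw [hV _ hv3V _ hv2V, e23]
  have i1 : v⁻¹ = v := inv_eq_of_mul_eq_one_left (hV2 v hv)
  have i2 : v2⁻¹ = v2 := inv_eq_of_mul_eq_one_left (hV2 v2 hv2V)
  have i3 : v3⁻¹ = v3 := inv_eq_of_mul_eq_one_left (hV2 v3 hv3V)
  have n2 : v2 ≠ 1 := by
    intro h; apply hv1; rw [h] at hv2
    have : x * v * x⁻¹ = 1 := hv2.symm
    rwa [mul_inv_eq_one, mul_eq_left] at this
  have n3 : v3 ≠ 1 := by
    intro h; apply n2; rw [h] at hv3
    have : x * v2 * x⁻¹ = 1 := hv3.symm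
    rwa [mul_inv_eq_one, mul_eq_left] at this
  have n12 : v ≠ v2 := by
    intro h; apply n3; rw [← e12, ← h]; exact hV2 v hv
  have n13 : v ≠ v3 := by
    intro h; apply n2; rw [← e13, ← h]; exact hV2 v hv
  have n23 : v2 ≠ v3 := by
    intro h; apply hv1; rw [← e23, ← h]; exact hV2 v2 hv2V
  let U : Subgroup G :=
    { carrier := {1, v, v2, v3}
      mul_mem' := by
        rintro g h (rfl | rfl | rfl | rfl) (rfl | rfl | rfl | rfl) <;>
          simp only [one_mul, mul_one, e12, e21, e13, e31, e23, e32, hV2 _ hv, hV2 _ hv2V, hV2 _ hv3V, Set.mem_insert_iff,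
            Set.mem_singleton_iff, true_or, or_true]
      one_mem' := Set.mem_insert _ _
      inv_mem' := by
        rintro g (rfl | rfl | rfl | rfl) <;>
          simp only [inv_one, i1, i2, i3, Set.mem_insert_iff, Set.mem_singleton_iff, true_or, or_true] }
  have memU : ∀ g, g ∈ U ↔ g = 1 ∨ g = v ∨ g = v2 ∨ g = v3 := fun g => Iff.rfl
  have hUcard : Nat.card U = 4 := by
    show Nat.card ((({1, v, v2, v3} : Set G)) : Type _) = 4
    rw [Nat.card_coe_set_eq, Set.ncard_insert_of_notMem, Set.ncard_insert_of_notMem, Set.ncard_pair n23]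
    · simp [n12, n13]
    · simp [hv1.symm, n2.symm, n3.symm]
  have hUV : U ≤ V := by
    intro g hg
    rcases (memU g).1 hg with rfl | rfl | rfl | rfl
    · exact one_mem _
    · exact hv
    · exact hv2V
    · exact hv3V
  have hmemN : ∀ {g : G}, (∀ u ∈ U, g * u * g⁻¹ ∈ U) → g ∈ normalizer (U : Set G) := by
    intro g hg
    have h1 : U.map (MulAut.conj g).toMonoidHom = U := by
      apply Subgroup.eq_of_le_of_card_ge
      · rintro _ ⟨u, hu, rfl⟩; exact hg u hu
      · rw [Subgroup.card_map_of_injective (MulAut.conj g).injective]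
    rw [mem_normalizer_iff]
    intro u
    constructor
    · exact hg u
    · intro h
      rw [← h1] at h
      obtain ⟨u', hu', h2⟩ := h
      have h3 : g * u' * g⁻¹ = g * u * g⁻¹ := h2
      have h4 : u' = u := by
        have := mul_right_cancel h3
        exact mul_left_cancel this
      exact h4 ▸ hu'
  have hxU : x ∈ normalizer (U : Set G) := by
    apply hmemN
    intro u hu
    rw [memU] at hu ⊢
    rcases hu with rfl | rfl | rfl | rfl
    · left; group
    · right; right; left; exact hv2.symm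
    · right; right; right; exact hv3.symm
    · right; left; exact hxv3
  have hyv2 : y * v2 * y⁻¹ = v3 := by
    have h1 : y * v2 * y⁻¹ = (y * x * y⁻¹) * (y * v * y⁻¹) * (y * x * y⁻¹)⁻¹ := by rw [hv2]; group
    rw [h1, hxy, hyv]
    have h2 : x * v3 * x⁻¹ = x * (x⁻¹ * v * x⁻¹⁻¹) * x⁻¹ := by rw [hxv3]; group
    exact (mul_left_cancel (mul_right_cancel h2)).symm
  have hyU : y ∈ normalizer (U : Set G) := by
    apply hmemN
    intro u hu
    rw [memU] at hu ⊢
    rcases hu with h | h | h | h <;> rw [h]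
    · left; group
    · right; left; exact hyv
    · right; right; right; exact hyv2
    · right; right; left
      have h1 : y * v3 * y⁻¹ = (y * v * y⁻¹) * (y * v2 * y⁻¹) := by rw [← e12]; group
      rw [h1, hyv, hyv2, e13]
  -- the complement
  set B : Subgroup G := closure {x, y} with hB
  have hxB : x ∈ B := subset_closure (by simp)
  have hyB : y ∈ B := subset_closure (by simp)
  have hBU : B ≤ normalizer (U : Set G) := by
    rw [hB, closure_le]
    rintro g (rfl | rfl)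
    · exact hxU
    · exact hyU
  have hBX : B ≤ normalizer (zpowers x : Set G) := by
    rw [hB, closure_le]
    rintro g (rfl | rfl)
    · exact Subgroup.le_normalizer (mem_zpowers g)
    · show g ∈ normalizer (zpowers x : Set G)
      rw [mem_normalizer_iff]
      intro u
      constructor
      · intro hu
        obtain ⟨n, rfl⟩ := mem_zpowers_iff.1 hu
        rw [← conj_zpow, hxy]
        exact zpow_mem (inv_mem (mem_zpowers x)) n
      · intro hu
        obtain ⟨n, hn⟩ := mem_zpowers_iff.1 hu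
        have h1 : u = g⁻¹ * x ^ n * g := by rw [hn]; group
        have h2 : g⁻¹ * x * g = x⁻¹ := by
          have h3 := congrArg (fun z => (g⁻¹ * z * g)⁻¹) hxy
          simp only [inv_inv, mul_inv_rev] at h3
          have h4 : g⁻¹ * x * g = (g⁻¹ * (g * x * g⁻¹) * g)⁻¹ := by
            rw [hxy]; group
          rw [h4]; group
        rw [h1]
        have h3 : g⁻¹ * x ^ n * g = (g⁻¹ * x * g) ^ n := by
          have := (conj_zpow (i := n) (a := g⁻¹) (b := x)).symm
          rw [inv_inv] at this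
          exact this
        rw [h3, h2]
        exact zpow_mem (inv_mem (mem_zpowers x)) n
  have hUB : U ⊓ B = ⊥ := by
    rw [eq_bot_iff]
    rintro u ⟨hu, huB⟩
    have h1 : u * x * u⁻¹ * x⁻¹ ∈ zpowers x := mul_mem ((mem_normalizer_iff.1 (hBX huB) x).1 (mem_zpowers x)) (inv_mem (mem_zpowers x))
    have h2 : u * x * u⁻¹ * x⁻¹ ∈ U := by
      have : u * (x * u⁻¹ * x⁻¹) ∈ U := mul_mem hu ((mem_normalizer_iff.1 hxU u⁻¹).1 (inv_mem hu))
      simpa [mul_assoc] using this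
    have h3 : u * x * u⁻¹ * x⁻¹ = 1 := by
      refine eq_one_of_pow (m := 2) (n := 3 ^ a) ?_ ?_ (Nat.Coprime.pow_right a (by decide))
      · rw [pow_two]; exact hV2 _ (hUV h2)
      · obtain ⟨n, hn⟩ := mem_zpowers_iff.1 h1
        rw [← hn, ← zpow_natCast, zpow_comm, zpow_natCast, hxa, one_zpow]
    rw [Subgroup.mem_bot]
    apply hfix u (hUV hu)
    rw [mul_inv_eq_one, mul_inv_eq_iff_eq_mul] at h3
    exact h3.symm
  have hidx : (B.subgroupOf (U ⊔ B)).index = 4 := by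
    show B.relIndex (U ⊔ B) = 4
    rw [Cfsg.Agent.Lib.CoprimeB.relIndex_sup_of_normalizes hBU, ← Subgroup.inf_relIndex_right, inf_comm, hUB, relIndex_bot_left, hUcard]
  have hUY : U ≤ U ⊔ B := le_sup_left
  have hBY : B ≤ U ⊔ B := le_sup_right
  have hcore : ∀ g : G, ∀ hg : g ∈ B, (⟨g, hBY hg⟩ : (U ⊔ B : Subgroup G)) ∈ (B.subgroupOf (U ⊔ B)).normalCore → ∀ u ∈ U, g * u = u * g := by
    intro g hg h u hu
    have h1 := (Subgroup.normalCore_normal (B.subgroupOf (U ⊔ B))).conj_mem _ h ⟨u, hUY hu⟩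
    have h2 := Subgroup.normalCore_le _ h1
    have h3 : u * g * u⁻¹ ∈ B := h2
    have h4 : u * g * u⁻¹ * g⁻¹ ∈ B := mul_mem h3 (inv_mem hg)
    have h5 : u * g * u⁻¹ * g⁻¹ ∈ U := by
      have : u * (g * u⁻¹ * g⁻¹) ∈ U := mul_mem hu ((mem_normalizer_iff.1 (hBU hg) u⁻¹).1 (inv_mem hu))
      simpa [mul_assoc] using this
    have h6 : u * g * u⁻¹ * g⁻¹ = 1 := by
      have : u * g * u⁻¹ * g⁻¹ ∈ U ⊓ B := ⟨h5, h4⟩
      rwa [hUB] at this
    rw [mul_inv_eq_one, mul_inv_eq_iff_eq_mul] at h6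
    exact h6.symm
  refine involves_trans ?_ (involves_subgroup (U ⊔ B))
  refine surj_of_index hidx (x := ⟨x, hBY hxB⟩) (y := ⟨y, hBY hyB⟩) (show x ∈ B from hxB) (show y ∈ B from hyB) (a := a) (b := b)
    (Subtype.ext hxa) (Subtype.ext hyb) ?_ ?_
  · intro h
    exact hv1 (hfix v hv (hcore x hxB h v (by rw [memU]; simp)))
  · intro h
    have h1 := hcore y hyB h v2 (by rw [memU]; simp)
    rw [← mul_inv_eq_iff_eq_mul, hyv2] at h1
    exact n23 h1.symm

theorem coprime_of_pows [Finite G] {x : G} {a : ℕ} (hxa : x ^ 3 ^ a = 1) {T : Subgroup G} (hT : IsPGroup 2 T) :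
    (Nat.card (zpowers x)).Coprime (Nat.card T) := by
  haveI : Fact (Nat.Prime 2) := ⟨Nat.prime_two⟩
  obtain ⟨k, hk⟩ := hT.exists_card_eq
  rw [Nat.card_zpowers, hk]
  refine Nat.Coprime.coprime_dvd_left (orderOf_dvd_of_pow_eq_one hxa) (Nat.Coprime.pow _ _ (by decide))

theorem s4_of_act_aux (n : ℕ) : ∀ (G : Type u) [Group G] [Finite G] (T : Subgroup G) (x y : G), Nat.card T ≤ n → IsPGroup 2 T →
    x ∈ normalizer (T : Set G) → y ∈ normalizer (T : Set G) → (∃ a : ℕ, x ^ 3 ^ a = 1) → (∃ b : ℕ, y ^ 2 ^ b = 1) →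
    y * x * y⁻¹ = x⁻¹ → (∀ t ∈ T, x ^ 3 * t = t * x ^ 3) → ¬ (∀ t ∈ T, x * t = t * x) → Involves (Equiv.Perm (Fin 4)) G := by
  haveI : Fact (Nat.Prime 2) := ⟨Nat.prime_two⟩
  induction n using Nat.strong_induction_on with
  | _ n ih =>
  intro G _ _ T x y hn hT hx hy hxa hyb hxy hx3 hxT
  obtain ⟨a, hxa⟩ := hxa
  obtain ⟨b, hyb⟩ := hyb
  set D : Subgroup G := (frattini T).map T.subtype with hD
  have hDT : D ≤ T := map_subtype_le _
  have hND := Cfsg.Agent.Lib.MinAct.normalizer_le_normalizer_char (P := T) (frattini T)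
  rw [← hD] at hND
  have hAT : zpowers x ≤ normalizer (T : Set G) := zpowers_le.2 hx
  have hcop := coprime_of_pows hxa hT
  by_cases hD0 : D = ⊥
  · -- `T` is elementary abelian
    have hfr : frattini T = ⊥ := by
      rw [hD] at hD0
      exact (Subgroup.map_eq_bot_iff_of_injective _ T.subtype_injective).1 hD0
    have hc : ∀ u ∈ T, ∀ v ∈ T, u * v = v * u := by
      intro u hu v hv
      have h1 : ⁅(⟨u, hu⟩ : T), ⟨v, hv⟩⁆ ∈ commutator T := commutator_mem_commutator (mem_top _) (mem_top _)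
      have h2 := Cfsg.Agent.Lib.Nilp.commutator_le_frattini hT h1
      rw [hfr, mem_bot, commutatorElement_eq_one_iff_mul_comm] at h2
      exact congrArg Subtype.val h2
    have h2 : ∀ u ∈ T, u * u = 1 := by
      intro u hu
      have h1 := Cfsg.Agent.Lib.Nilp.pow_mem_frattini hT ⟨u, hu⟩
      rw [hfr, mem_bot] at h1
      have h3 := congrArg Subtype.val h1
      rw [← pow_two]; exact h3
    have hVT : ⁅T, zpowers x⁆ ≤ T := Cfsg.Agent.Lib.Coprime.commutator_le_of_normalizes hAT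
    have hyx : y ∈ normalizer (zpowers x : Set G) := by
      have h1 : (zpowers x).map (MulAut.conj y).toMonoidHom = zpowers x := by
        rw [MonoidHom.map_zpowers]
        show zpowers (y * x * y⁻¹) = _
        rw [hxy, zpowers_inv]
      rw [mem_normalizer_iff]
      intro u
      constructor
      · intro hu; rw [← h1]; exact ⟨u, hu, rfl⟩
      · intro hu
        rw [← h1] at hu
        obtain ⟨u', hu', h2⟩ := hu
        have h3 : y * u' * y⁻¹ = y * u * y⁻¹ := h2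
        rw [← mul_left_cancel (mul_right_cancel h3)]; exact hu'
    refine s4_of_plane (V := ⁅T, zpowers x⁆) (fun u hu v hv => hc u (hVT hu) v (hVT hv)) (fun u hu => h2 u (hVT hu)) (x := x) (y := y)
      ?_ ?_ (fun v hv => hx3 v (hVT hv)) ?_ hxa hyb hxy ?_
    · exact Cfsg.Agent.Lib.Coprime.le_normalizer_commutator_right (zpowers x) T (mem_zpowers x)
    · exact Cfsg.Agent.Lib.CoprimeB.le_normalizer_commutator (A := zpowers y) (zpowers_le.2 hy) (zpowers_le.2 hyx) (mem_zpowers y)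
    · intro v hv hxv
      have h3 := Cfsg.Agent.Lib.CoprimeB.abelian_inf_eq_bot (A := zpowers x) (V := T) ⟨⟨fun u v => Subtype.ext (hc u u.2 v v.2)⟩⟩ hAT hcop
      have h4 : v ∈ (T ⊓ centralizer (zpowers x : Set G)) ⊓ ⁅T, zpowers x⁆ := by
        refine ⟨⟨hVT hv, mem_centralizer_iff.2 ?_⟩, hv⟩
        intro u hu
        obtain ⟨k, rfl⟩ := mem_zpowers_iff.1 hu
        exact (Commute.zpow_left (show Commute x v from hxv) k)
      rwa [h3] at h4
    · intro h
      apply hxT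
      intro t ht
      have h3 : ⁅t, x⁆ ∈ ⁅T, zpowers x⁆ := commutator_mem_commutator ht (mem_zpowers x)
      rw [h, mem_bot, commutatorElement_eq_one_iff_mul_comm] at h3
      exact h3.symm
  · -- the quotient by the Frattini subgroup
    have hxD : x ∈ normalizer (D : Set G) := hND hx
    have hyD : y ∈ normalizer (D : Set G) := hND hy
    have hTD : T ≤ normalizer (D : Set G) := Subgroup.le_normalizer.trans hND
    set N : Subgroup G := normalizer (D : Set G) with hN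
    have hDN : D ≤ N := Subgroup.le_normalizer
    haveI hDn : (D.subgroupOf N).Normal := by rw [hN]; exact normal_in_normalizer
    let π := QuotientGroup.mk' (D.subgroupOf N)
    refine involves_trans (H := N ⧸ D.subgroupOf N) ?_ (involves_trans (involves_quot (D.subgroupOf N)) (involves_subgroup N))
    have hTc : Nat.card ((T.subgroupOf N).map π) < Nat.card T := by
      have h1 : Nat.card (T.subgroupOf N) = Nat.card T := Nat.card_congr (subgroupOfEquivOfLe hTD).toEquiv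
      rw [← h1]
      refine lt_of_le_of_ne (Nat.card_le_card_of_surjective _ (π.subgroupMap_surjective (T.subgroupOf N))) fun h => ?_
      apply hD0
      rw [eq_bot_iff]
      intro d hd
      have h2 : Function.Injective (π.subgroupMap (T.subgroupOf N)) := by
        exact ((Nat.bijective_iff_surjective_and_card _).2 ⟨π.subgroupMap_surjective (T.subgroupOf N), h.symm⟩).1
      have h3 : (⟨⟨d, hDN hd⟩, hDT hd⟩ : T.subgroupOf N) = 1 := by
        apply h2
        apply Subtype.ext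
        show π ⟨d, hDN hd⟩ = π 1
        rw [map_one]
        exact (QuotientGroup.eq_one_iff _).2 hd
      have h4 := congrArg (fun z : T.subgroupOf N => ((z : N) : G)) h3
      exact h4
    have hnorm : ∀ g : G, ∀ hg : g ∈ N, g ∈ normalizer (T : Set G) → π ⟨g, hg⟩ ∈ normalizer (((T.subgroupOf N).map π : Subgroup (N ⧸ D.subgroupOf N)) : Set (N ⧸ D.subgroupOf N)) := by
      intro g hg hgT
      have h1 : (⟨g, hg⟩ : N) ∈ normalizer ((T.subgroupOf N : Subgroup N) : Set N) := by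
        rw [mem_normalizer_iff]
        intro u
        exact (mem_normalizer_iff.1 hgT u)
      exact Subgroup.le_normalizer_map π (Subgroup.mem_map_of_mem π h1)
    refine ih (Nat.card ((T.subgroupOf N).map π)) (by omega) (N ⧸ D.subgroupOf N) ((T.subgroupOf N).map π) (π ⟨x, hxD⟩) (π ⟨y, hyD⟩) le_rfl
      ?_ (hnorm x hxD hx) (hnorm y hyD hy) ⟨a, ?_⟩ ⟨b, ?_⟩ ?_ ?_ ?_
    · exact (hT.comap_of_injective N.subtype N.subtype_injective).map π
    · rw [← map_pow, ← map_one π]; congr 1; exact Subtype.ext hxa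
    · rw [← map_pow, ← map_one π]; congr 1; exact Subtype.ext hyb
    · rw [← map_inv, ← map_inv, ← map_mul, ← map_mul]; congr 1; exact Subtype.ext hxy
    · rintro _ ⟨t, ht, rfl⟩
      rw [← map_pow, ← map_mul, ← map_mul]; congr 1; exact Subtype.ext (hx3 t ht)
    · intro h
      apply hxT
      have h1 : zpowers x ≤ centralizer (T : Set G) := by
        refine Cfsg.Agent.Lib.Coprime.le_centralizer_of_frattini hAT (hcop.coprime_dvd_right (card_subgroup_dvd_card _)) ?_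
        intro u hu t ht
        rw [← hD]
        have h2 : ∀ k : ℤ, π (⟨x, hxD⟩ ^ k) * π ⟨t, hTD ht⟩ = π ⟨t, hTD ht⟩ * π (⟨x, hxD⟩ ^ k) := by
          intro k
          rw [map_zpow]
          exact Commute.zpow_left (show Commute (π ⟨x, hxD⟩) (π ⟨t, hTD ht⟩) from h _ ⟨⟨t, hTD ht⟩, ht, rfl⟩) k
        obtain ⟨k, rfl⟩ := mem_zpowers_iff.1 hu
        have h3 := h2 k
        have h4 : π ((⟨x, hxD⟩ : N) ^ k * ⟨t, hTD ht⟩ * ((⟨x, hxD⟩ : N) ^ k)⁻¹ * (⟨t, hTD ht⟩ : N)⁻¹) = 1 := by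
          rw [map_mul, map_mul, map_mul, map_inv, map_inv, h3]; group
        have h5 := (QuotientGroup.eq_one_iff (N := D.subgroupOf N) _).1 h4
        exact h5
      intro t ht
      exact (mem_centralizer_iff.1 (h1 (mem_zpowers x)) t ht).symm

/-- an element of order a power of 3 inverted by a 2-element and acting nontrivially on a 2-group -/
theorem s4_of_act [Finite G] {T : Subgroup G} (hT : IsPGroup 2 T) {x y : G} (hx : x ∈ normalizer (T : Set G))
    (hy : y ∈ normalizer (T : Set G)) (hxa : ∃ a : ℕ, x ^ 3 ^ a = 1) (hyb : ∃ b : ℕ, y ^ 2 ^ b = 1) (hxy : y * x * y⁻¹ = x⁻¹)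
    (hxT : x ∉ centralizer (T : Set G)) : Involves (Equiv.Perm (Fin 4)) G := by
  classical
  obtain ⟨a, hxa⟩ := hxa
  have hex : ∃ m : ℕ, x ^ 3 ^ m ∈ centralizer (T : Set G) := ⟨a, by rw [hxa]; exact one_mem _⟩
  have hm := Nat.find_spec hex
  have hmin := fun k => Nat.find_min hex (m := k)
  set m := Nat.find hex with hmd
  have hm0 : m ≠ 0 := by
    intro h
    rw [h] at hm
    exact hxT (by simpa using hm)
  obtain ⟨k, hk⟩ := Nat.exists_eq_succ_of_ne_zero hm0
  have h1 := hmin k (by omega)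
  have hinv : ∀ n : ℕ, y * x ^ n * y⁻¹ = (x ^ n)⁻¹ := by
    intro n; rw [← conj_pow, hxy, inv_pow]
  refine s4_of_act_aux (Nat.card T) G T (x ^ 3 ^ k) y le_rfl hT (Subgroup.pow_mem _ hx _) hy ⟨a, ?_⟩ hyb (hinv _) ?_ ?_
  · rw [← pow_mul, mul_comm, pow_mul, hxa, one_pow]
  · intro t ht
    rw [← pow_mul, ← pow_succ]
    rw [hk] at hm
    exact (mem_centralizer_iff.1 hm t ht).symm
  · intro h
    apply h1
    rw [mem_centralizer_iff]
    intro t ht
    exact (h t ht).symm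

theorem pow_mem_aux {X : Type*} [Group X] {x : X} {n : ℕ} (h : x ^ n = 1) {u : X} (hu : u ∈ zpowers x) : u ^ n = 1 := by
  obtain ⟨k, rfl⟩ := mem_zpowers_iff.1 hu
  rw [← zpow_natCast, zpow_comm, zpow_natCast, h, one_zpow]

theorem parity {Z : Type*} [Group Z] {a z : Z} (h : z * a * z⁻¹ = a⁻¹) (n : ℕ) :
    (Even n → z ^ n * a * (z ^ n)⁻¹ = a) ∧ (Odd n → z ^ n * a * (z ^ n)⁻¹ = a⁻¹) := by
  induction n with
  | zero => simp
  | succ n ih =>
    have e : z ^ (n + 1) * a * (z ^ (n + 1))⁻¹ = z * (z ^ n * a * (z ^ n)⁻¹) * z⁻¹ := by rw [pow_succ']; group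
    constructor
    · intro hn
      have h1 : Odd n := by
        rcases Nat.even_or_odd n with h1 | h1
        · exact absurd hn (by rw [Nat.not_even_iff_odd]; exact h1.add_one)
        · exact h1
      rw [e, ih.2 h1]
      have h2 : z * a⁻¹ * z⁻¹ = (z * a * z⁻¹)⁻¹ := by group
      rw [h2, h, inv_inv]
    · intro hn
      have h1 : Even n := by
        rcases Nat.even_or_odd n with h1 | h1
        · exact h1
        · exact absurd hn (by rw [Nat.not_odd_iff_even]; exact h1.add_one)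
      rw [e, ih.1 h1, h]

/-- lifting a 3-element inverted by some element -/
theorem exists_lift_inv {X : Type u} [Group X] [Finite X] {Z : Type v} [Group Z] (g : X →* Z) (hg : Function.Surjective g) {a b : Z}
    (ha : ∃ k : ℕ, a ^ 3 ^ k = 1) (ha1 : a ≠ 1) (hb : b * a * b⁻¹ = a⁻¹) :
    ∃ t y : X, (∃ k : ℕ, t ^ 3 ^ k = 1) ∧ (∃ l : ℕ, y ^ 2 ^ l = 1) ∧ y * t * y⁻¹ = t⁻¹ ∧ g t ≠ 1 := by
  haveI : Fact (Nat.Prime 2) := ⟨Nat.prime_two⟩
  haveI : Fact (Nat.Prime 3) := ⟨Nat.prime_three⟩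
  obtain ⟨k, ha⟩ := ha
  have haa : a⁻¹ ≠ a := by
    intro h
    apply ha1
    refine eq_one_of_pow (m := 2) (n := 3 ^ k) ?_ ha (Nat.Coprime.pow_right k (by decide))
    rw [pow_two]; nth_rewrite 1 [← h]; exact inv_mul_cancel a
  set M : Subgroup X := (zpowers a).comap g with hM
  obtain ⟨P, hP, -⟩ := exists_sylIn (p := 3) (bot_le : (⊥ : Subgroup X) ≤ M) (IsPGroup.of_bot)
  have hPa : ∃ g₀ ∈ P, g g₀ = a := by
    obtain ⟨m, hm⟩ := hg a
    obtain ⟨i, j, hij, ⟨c, hc⟩, hj⟩ := Cfsg.Agent.Lib.PPart.decomp 3 m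
    have hgj : g (m ^ j) = 1 := by
      refine eq_one_of_pow (m := orderOf (m ^ j)) (n := 3 ^ k) ?_ ?_ (Nat.Coprime.pow_right k hj)
      · rw [← map_pow, pow_orderOf_eq_one, map_one]
      · rw [map_pow, hm, ← pow_mul, mul_comm, pow_mul, ha, one_pow]
    have hgi : g (m ^ i) = a := by
      have h1 := congrArg g hij
      rw [map_mul, hgj, mul_one, hm] at h1
      exact h1.symm
    have hi : m ^ i ∈ M := by
      show g (m ^ i) ∈ zpowers a
      rw [hgi]; exact mem_zpowers a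
    have hp : IsPGroup 3 (zpowers (m ^ i)) := by
      intro u
      refine ⟨c, Subtype.ext ?_⟩
      exact pow_mem_aux (orderOf_dvd_iff_pow_eq_one.1 hc) u.2
    obtain ⟨h, hh, hhP⟩ := hP.conj_le (zpowers_le.2 hi) hp
    refine ⟨_, hhP _ (mem_zpowers _), ?_⟩
    obtain ⟨n, hn⟩ := mem_zpowers_iff.1 (show g h ∈ zpowers a from hh)
    rw [map_mul, map_mul, map_inv, hgi, ← hn]; group
  obtain ⟨g₀, hg₀, hg₀a⟩ := hPa
  obtain ⟨b', hb'⟩ := hg b
  obtain ⟨d, hd, hdP⟩ := hP.frattini (g := b') (fun x hx => by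
    show g (b' * x * b'⁻¹) ∈ zpowers a
    obtain ⟨n, hn⟩ := mem_zpowers_iff.1 (show g x ∈ zpowers a from hx)
    rw [map_mul, map_mul, map_inv, hb', ← hn, ← conj_zpow, hb]
    exact zpow_mem (inv_mem (mem_zpowers a)) n)
  obtain ⟨y₁, hy₁⟩ : ∃ y₁, y₁ = d * b' := ⟨_, rfl⟩
  rw [← hy₁] at hdP
  have hy₁a : g y₁ * a * (g y₁)⁻¹ = a⁻¹ := by
    obtain ⟨n, hn⟩ := mem_zpowers_iff.1 (show g d ∈ zpowers a from hd)
    rw [hy₁, map_mul, hb', ← hn]
    have h1 : a ^ n * b * a * (a ^ n * b)⁻¹ = a ^ n * (b * a * b⁻¹) * (a ^ n)⁻¹ := by group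
    rw [h1, hb]; group
  have hy₁P : y₁ ∈ normalizer (P : Set X) := by
    have h1 : P.map (MulAut.conj y₁).toMonoidHom = P := by
      apply Subgroup.eq_of_le_of_card_ge
      · rintro _ ⟨u, hu, rfl⟩; exact hdP u hu
      · rw [Subgroup.card_map_of_injective (MulAut.conj y₁).injective]
    rw [mem_normalizer_iff]
    intro u
    constructor
    · intro hu; exact hdP u hu
    · intro hu
      rw [← h1] at hu
      obtain ⟨u', hu', h2⟩ := hu
      have h3 : y₁ * u' * y₁⁻¹ = y₁ * u * y₁⁻¹ := h2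
      rw [← mul_left_cancel (mul_right_cancel h3)]; exact hu'
  obtain ⟨m, n, hmn, ⟨l, hl⟩, hn⟩ := Cfsg.Agent.Lib.PPart.decomp 2 y₁
  -- the `2'`-part centralizes `a`
  have hna : g (y₁ ^ n) * a * (g (y₁ ^ n))⁻¹ = a := by
    rw [map_pow]
    refine (parity hy₁a n).1 ?_
    by_contra hno
    rw [Nat.not_even_iff_odd] at hno
    have h1 := (parity hy₁a n).2 hno
    rw [← map_pow] at h1
    have ho : Odd (orderOf (y₁ ^ n)) := Nat.Coprime.odd_of_right hn
    have h2 := (parity h1 (orderOf (y₁ ^ n))).2 ho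
    rw [← map_pow, pow_orderOf_eq_one, map_one, one_mul, inv_one, mul_one] at h2
    exact haa h2.symm
  have hma : g (y₁ ^ m) * a * (g (y₁ ^ m))⁻¹ = a⁻¹ := by
    have h1 : g y₁ * a * (g y₁)⁻¹ = g (y₁ ^ m) * (g (y₁ ^ n) * a * (g (y₁ ^ n))⁻¹) * (g (y₁ ^ m))⁻¹ := by
      conv_lhs => rw [hmn]
      rw [map_mul]; group
    rw [hna, hy₁a] at h1
    exact h1.symm
  obtain ⟨y, hy⟩ : ∃ y, y = y₁ ^ m := ⟨_, rfl⟩
  rw [← hy] at hma hl
  have hyP : y ∈ normalizer (P : Set X) := by rw [hy]; exact Subgroup.pow_mem _ hy₁P m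
  have hyl : y ^ 2 ^ l = 1 := orderOf_dvd_iff_pow_eq_one.1 hl
  have hy2a : g (y ^ 2) * a * (g (y ^ 2))⁻¹ = a := by
    rw [map_pow]; exact (parity hma 2).1 (by decide)
  -- fixed points
  have hD : P ⊓ g.ker ≤ P := inf_le_left
  have hyD : zpowers (y ^ 2) ≤ normalizer ((P ⊓ g.ker : Subgroup X) : Set X) := by
    rw [zpowers_le]
    have h1 : y ^ 2 ∈ normalizer (P : Set X) := Subgroup.pow_mem _ hyP 2
    rw [mem_normalizer_iff] at h1 ⊢
    intro u
    constructor
    · rintro ⟨hu1, hu2⟩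
      exact ⟨(h1 u).1 hu1, (MonoidHom.normal_ker g).conj_mem u hu2 _⟩
    · rintro ⟨hu1, hu2⟩
      refine ⟨(h1 u).2 hu1, ?_⟩
      have h2 := (MonoidHom.normal_ker g).conj_mem _ hu2 (y ^ 2)⁻¹
      have e : (y ^ 2)⁻¹ * (y ^ 2 * u * (y ^ 2)⁻¹) * (y ^ 2)⁻¹⁻¹ = u := by group
      rwa [e] at h2
  obtain ⟨e, he, hec⟩ := Cfsg.Agent.Lib.Coprime.exists_mem_centralizer_coset hyD (by
      obtain ⟨c, hc⟩ := (hP.isPGroup.to_le hD).exists_card_eq
      rw [Nat.card_zpowers, hc]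
      refine Nat.Coprime.coprime_dvd_left (orderOf_dvd_of_pow_eq_one (n := 2 ^ l) ?_) (Nat.Coprime.pow _ _ (by decide))
      rw [← pow_mul, mul_comm, pow_mul, hyl, one_pow]) (Or.inl (by
        haveI : IsMulCommutative (zpowers (y ^ 2)) := inferInstance
        exact Cfsg.Agent.Lib.CoprimeB.isSolvable_of_comm inferInstance)) g₀ (fun u hu => by
      have huP : u ∈ normalizer (P : Set X) := zpowers_le.2 (Subgroup.pow_mem _ hyP 2) hu
      refine ⟨P.mul_mem (P.inv_mem hg₀) ((mem_normalizer_iff.1 huP g₀).1 hg₀), ?_⟩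
      show g (g₀⁻¹ * (u * g₀ * u⁻¹)) = 1
      rw [map_mul, map_mul, map_mul, map_inv, map_inv, hg₀a]
      obtain ⟨n, rfl⟩ := mem_zpowers_iff.1 hu
      have h1 : Commute (g (y ^ 2)) a := by
        have := hy2a
        rwa [mul_inv_eq_iff_eq_mul] at this
      have h2 : Commute (g ((y ^ 2) ^ n)) a := by
        rw [map_zpow]; exact h1.zpow_left n
      rw [h2.eq]; group)
  set g₁ := g₀ * e with hg₁
  have hg₁P : g₁ ∈ P := mul_mem hg₀ he.1
  have hg₁a : g g₁ = a := by rw [hg₁, map_mul, hg₀a, show g e = 1 from he.2, mul_one]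
  have hg₁y : y ^ 2 * g₁ = g₁ * y ^ 2 := mem_centralizer_iff.1 hec _ (mem_zpowers _)
  have htP : g₁⁻¹ * (y * g₁ * y⁻¹) ∈ P := mul_mem (inv_mem hg₁P) ((mem_normalizer_iff.1 hyP g₁).1 hg₁P)
  refine ⟨g₁⁻¹ * (y * g₁ * y⁻¹), y, ?_, ⟨l, hyl⟩, ?_, ?_⟩
  · obtain ⟨k, hk⟩ := hP.isPGroup ⟨_, htP⟩
    exact ⟨k, congrArg Subtype.val hk⟩
  · have h1 : y * (g₁⁻¹ * (y * g₁ * y⁻¹)) * y⁻¹ = (y * g₁ * y⁻¹)⁻¹ * (y ^ 2 * g₁ * (y ^ 2)⁻¹) := by
      rw [pow_two]; group
    rw [h1, hg₁y]; group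
  · rw [map_mul, map_mul, map_mul, map_inv, map_inv, hg₁a, hma]
    intro h
    apply ha1
    refine eq_one_of_pow (m := 2) (n := 3 ^ k) ?_ ha (Nat.Coprime.pow_right k (by decide))
    rw [pow_two]
    have h2 := congrArg (fun z => z⁻¹) h
    simpa using h2

/-- lifting through the quotient by a self-centralizing normal 2-subgroup -/
theorem s4_of_quotient {M : Type u} [Group M] [Finite M] {Q : Subgroup M} [Q.Normal] (hQ : IsPGroup 2 Q)
    (hc : centralizer (Q : Set M) ≤ Q) {a b : M ⧸ Q} (ha : ∃ k : ℕ, a ^ 3 ^ k = 1) (ha1 : a ≠ 1) (hb : b * a * b⁻¹ = a⁻¹) :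
    Involves (Equiv.Perm (Fin 4)) M := by
  obtain ⟨t, y, ht, hy, hyt, hgt⟩ := exists_lift_inv (QuotientGroup.mk' Q) (QuotientGroup.mk'_surjective Q) ha ha1 hb
  refine s4_of_act hQ (x := t) (y := y) ?_ ?_ ht hy hyt ?_
  · rw [normalizer_eq_top_iff.2 inferInstance]; exact mem_top _
  · rw [normalizer_eq_top_iff.2 inferInstance]; exact mem_top _
  · intro h
    exact hgt ((QuotientGroup.eq_one_iff t).2 (hc h))

/-- `SL(2,2)` inside `M / Q` gives a section isomorphic to the symmetric group of degree 4 -/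
theorem s4_of_sl {M : Type u} [Group M] [Finite M] {Q : Subgroup M} [Q.Normal] (hQ : IsPGroup 2 Q)
    (hc : centralizer (Q : Set M) ≤ Q) (f : Matrix.SpecialLinearGroup (Fin 2) (ZMod 2) →* M ⧸ Q) (hf : Function.Injective f) :
    Involves (Equiv.Perm (Fin 4)) M := by
  have h1 : ∃ a b : Matrix.SpecialLinearGroup (Fin 2) (ZMod 2), a ^ 3 = 1 ∧ a ≠ 1 ∧ b * a * b⁻¹ = a⁻¹ := by decide +revert
  obtain ⟨a, b, ha, ha1, hb⟩ := h1
  refine s4_of_quotient hQ hc (a := f a) (b := f b) ⟨1, ?_⟩ ?_ ?_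
  · rw [pow_one, ← map_pow, ha, map_one]
  · intro h; exact ha1 (hf (h.trans (map_one f).symm))
  · rw [← map_inv, ← map_inv, ← map_mul, ← map_mul, hb]

end Cfsg.Agent.Lib.S4A
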