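import Cfsg.Agent.Lib.FFL
import Cfsg.Agent.Lib.ZPN
import Cfsg.Agent.Lib.S4A
import Cfsg.Agent.Lib.PNInd

/-!
Failure of factorization for the Thompson subgroup generated by the abelian subgroups of largest order.
-/

set_option autoImplicit false
set_option linter.unusedSectionVars false
set_option linter.style.haveILetI false
set_option linter.unusedVariables false

namespace Cfsg.Agent.Lib.ThB

open Subgroup Cfsg.Agent.Lib Cfsg.Agent.Lib.Basic Cfsg.Agent.Lib.Cores Cfsg.Agent.Lib.Coprime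
  Cfsg.Agent.Lib.CoprimeB Cfsg.Agent.Lib.ThompsonJ Cfsg.Agent.Lib.Quadratic Cfsg.Agent.Lib.QuadA
  Cfsg.Agent.Lib.QuadB Cfsg.Agent.Lib.PNilp Cfsg.Agent.Lib.FFA Cfsg.Agent.Lib.FFB Cfsg.Agent.Lib.FFC
  Cfsg.Agent.Lib.FFD Cfsg.Agent.Lib.FFE Cfsg.Agent.Lib.FFF Cfsg.Agent.Lib.FFG Cfsg.Agent.Lib.FFH Cfsg.Agent.Lib.FFI
  Cfsg.Agent.Lib.FFJ Cfsg.Agent.Lib.FFK Cfsg.Agent.Lib.FFL Cfsg.Agent.Lib.QuadC Cfsg.Agent.Lib.QuadD Cfsg.Agent.Lib.ZJ Cfsg.Agent.Lib.SylRel

open scoped commutatorElement Pointwise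

universe u v
variable {G : Type u} [Group G]

/-- a nontrivial abelian offender yields a minimal offender -/
theorem exists_minOff_of_abelian [Finite G] {p : ℕ} [hp : Fact p.Prime] {V H : Subgroup G} (h : FF p V H) {A : Subgroup G}
    (hAH : A ≤ H) (hAp : IsPGroup p A) (hAab : ∀ x ∈ A, ∀ y ∈ A, x * y = y * x) (hA0 : A ≠ ⊥)
    (hoff : Nat.card V ≤ Nat.card A * Nat.card ↥(V ⊓ centralizer (A : Set G))) : ∃ B : Subgroup G, B ≤ A ∧ MinOff p V B := by
  classical
  have hVc := (ea_iff.mp h.hV).1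
  let val : Subgroup G → ℕ := fun B => Nat.card B * Nat.card ↥(V ⊓ centralizer (B : Set G))
  obtain ⟨B, ⟨hBA, hB0⟩, hmax⟩ := Set.exists_max_image {B : Subgroup G | B ≤ A ∧ B ≠ ⊥} val (Set.toFinite _) ⟨A, le_rfl, hA0⟩
  have hBV : B ≤ normalizer (V : Set G) := (hBA.trans hAH).trans h.hHV
  have hbest : ∀ B' : Subgroup G, B' ≤ B → val B' ≤ val B := by
    intro B' hB'
    by_cases hb : B' = ⊥
    · subst hb
      have h1 : val ⊥ ≤ Nat.card V := by
        show Nat.card (⊥ : Subgroup G) * Nat.card ↥(V ⊓ centralizer ((⊥ : Subgroup G) : Set G)) ≤ Nat.card V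
        rw [Subgroup.card_bot, one_mul]
        exact Subgroup.card_le_of_le inf_le_left
      exact h1.trans (hoff.trans (hmax A ⟨le_rfl, hA0⟩))
    · exact hmax B' ⟨hB'.trans hBA, hb⟩
  have hcomm : ⁅B, B⁆ ≤ centralizer (V : Set G) := by
    rw [commutator_le]
    intro x hx y hy
    rw [commutatorElement_eq_one_iff_mul_comm.2 (hAab x (hBA hx) y (hBA hy))]
    exact one_mem _
  obtain ⟨h1, h2⟩ := timmesfeld hVc hcomm hBV hbest (le_refl V)
  set A' : Subgroup G := B ⊓ centralizer ((⁅V, B⁆ : Subgroup G) : Set G) with hA'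
  have hA'B : A' ≤ B := inf_le_left
  have hA'V : A' ≤ normalizer (V : Set G) := hA'B.trans hBV
  have hA'0 : A' ≠ ⊥ := by
    intro h0
    rw [h0] at h2
    have h3 : V ≤ ⁅V, B⁆ ⊔ (V ⊓ centralizer (B : Set G)) := by
      rw [← h2]
      refine le_inf le_rfl ?_
      intro x _
      rw [mem_centralizer_iff]
      intro y hy
      rw [mem_bot.1 hy]; group
    have h4 : ⁅V, B⁆ ≤ ⁅⁅V, B⁆, B⁆ := by
      have h6 : ⁅V, B⁆ ≤ V := commutator_le_of_normalizes hBV
      have h7 := commutator_sup_left hVc hBV h6 (inf_le_left : V ⊓ centralizer (B : Set G) ≤ V)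
      have h8 : ⁅V ⊓ centralizer (B : Set G), B⁆ = ⊥ := by
        rw [commutator_eq_bot_iff_le_centralizer]; exact inf_le_right
      rw [h8, sup_bot_eq] at h7
      rw [← h7]
      exact commutator_mono h3 le_rfl
    have h5 : ⁅V, B⁆ = ⊥ := by
      refine eq_bot_of_commutator (A := B) (isPGroup_of_ea h.hV) hBV (fun a ha => ?_) (commutator_le_of_normalizes hBV)
        (le_antisymm (commutator_le_of_normalizes (le_normalizer_commutator_right _ _)) h4)
      obtain ⟨k, hk⟩ := hAp ⟨a, hBA ha⟩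
      refine ⟨k, ?_⟩
      have h9 := congrArg Subtype.val hk
      have h10 : a ^ p ^ k = 1 := h9
      rw [h10]; exact one_mem _
    exact hB0 ((h.eq_bot_iff' (hBA.trans hAH)).1 h5)
  have hq : ⁅⁅V, A'⁆, A'⁆ = ⊥ := by
    rw [commutator_eq_bot_iff_le_centralizer]
    refine (commutator_mono le_rfl hA'B).trans ?_
    intro x hx
    rw [mem_centralizer_iff]
    intro y hy
    exact (mem_centralizer_iff.1 hy.2 x hx).symm
  have hbo : Cfsg.IsBestOffenderOn p V A' := by
    refine ⟨fun B' hB' => ?_, ?_, fun a ha => ?_⟩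
    · have h3 := hbest B' (hB'.trans hA'B)
      exact h3.trans h1.le
    · exact (commutator_mono hA'B hA'B).trans hcomm
    · exact pow_mem_centralizer h.hV hA'V hq ha
  obtain ⟨B', hB', hmin⟩ := exists_minOff hbo (fun h3 => hA'0 ((h.eq_bot_iff' ((hA'B.trans hBA).trans hAH)).1 h3))
  exact ⟨B', (hB'.trans hA'B).trans hBA, hmin⟩

theorem card_map_ker {H : Type v} [Group H] [Finite G] (f : G →* H) (A : Subgroup G) :
    Nat.card A = Nat.card (A.map f) * Nat.card (A ⊓ f.ker : Subgroup G) := by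
  have h1 := Subgroup.card_mul_index (f.ker.subgroupOf A)
  have h2 : Nat.card (f.ker.subgroupOf A) = Nat.card (A ⊓ f.ker : Subgroup G) := by
    rw [← inf_subgroupOf_left]
    exact Nat.card_congr (subgroupOfEquivOfLe inf_le_left).toEquiv
  have h3 : (f.ker.subgroupOf A).index = Nat.card (A.map f) := by
    let g : A →* H := f.comp A.subtype
    have h4 : g.ker = f.ker.subgroupOf A := rfl
    have h5 : g.range = A.map f := by
      rw [MonoidHom.range_eq_map, ← Subgroup.map_map, ← MonoidHom.range_eq_map, range_subtype]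
    rw [← h4, index_ker, h5]
  rw [← h1, h2, h3, mul_comm]

section
variable {V C : Subgroup G} [hVn : V.Normal] [hCn : C.Normal]

/-- the offender coming from an abelian subgroup of largest order -/
theorem minOff_of_fam [Finite G] {p : ℕ} [hp : Fact p.Prime] {hC : C ≤ centralizer (V : Set G)} (hV : Cfsg.IsElementaryAbelian p V)
    (hCV : centralizer (V : Set G) ≤ C) (hsol : Cfsg.IsPSolvable p G)
    (hO : Cfsg.pCore p (G ⧸ C) = ⊥) {P A : Subgroup G} (hP : IsPGroup p P) (hVP : V ≤ P) (hA : A ∈ ZJ.Fam 0 P) (hAC : ¬ A ≤ C) :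
    FF p (jj V C hC V) ((⊤ : Subgroup G).map (th V C hC)) ∧
      ∃ B : Subgroup (Gam V C hC), B ≤ A.map (th V C hC) ∧ MinOff p (jj V C hC V) B := by
  have hff : FF p (jj V C hC V) ((⊤ : Subgroup G).map (th V C hC)) :=
    ff_map hV (inf_le_right.trans hCV) (isPSolvable_top hsol) (pCore_map_top hO)
  refine ⟨hff, ?_⟩
  obtain ⟨hAP, hAab, hAmax⟩ := hA
  refine exists_minOff_of_abelian hff (Subgroup.map_mono le_top) ((hP.to_le hAP).map _) ?_ ?_ ?_
  · rintro _ ⟨x, hx, rfl⟩ _ ⟨y, hy, rfl⟩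
    rw [← map_mul, hAab.1 x hx y hy, map_mul]
  · intro h
    apply hAC
    rw [Subgroup.map_eq_bot_iff, th_ker] at h
    exact h
  · rw [inf_cent_map, card_jj inf_le_left, card_jj le_rfl]
    have hVc := (ea_iff.mp hV).1
    have h1 := card_map_ker (th V C hC) A
    rw [th_ker] at h1
    -- the abelian subgroup `V C_A(V)`
    have hcommB : ∀ x ∈ V ⊔ (A ⊓ C), ∀ y ∈ V ⊔ (A ⊓ C), x * y = y * x := by
      have key : V ⊔ (A ⊓ C) ≤ centralizer ((V ⊔ (A ⊓ C) : Subgroup G) : Set G) := by
        rw [QuadA.centralizer_sup]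
        refine sup_le (le_inf ?_ ?_) (le_inf ?_ ?_)
        · intro x hx; exact mem_centralizer_iff.2 fun y hy => hVc y hy x hx
        · intro x hx
          exact mem_centralizer_iff.2 fun y hy => (mem_centralizer_iff.1 (hC hy.2) x hx).symm
        · exact inf_le_right.trans hC
        · intro x hx; exact mem_centralizer_iff.2 fun y hy => hAab.1 y hy.1 x hx.1
      intro x hx y hy
      exact (mem_centralizer_iff.1 (key hx) y hy).symm
    have h2 := hAmax (V ⊔ (A ⊓ C)) (sup_le hVP (inf_le_left.trans hAP)) ⟨hcommB, fun x _ => by rw [pow_zero]⟩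
    have h3 := card_sup_mul_inf_of_comm hcommB (le_sup_left : V ≤ V ⊔ (A ⊓ C)) (le_sup_right : A ⊓ C ≤ V ⊔ (A ⊓ C))
    have h4 : Nat.card (V ⊓ (A ⊓ C) : Subgroup G) ≤ Nat.card (V ⊓ centralizer (A : Set G) : Subgroup G) := by
      refine Subgroup.card_le_of_le (le_inf inf_le_left ?_)
      intro x hx
      exact mem_centralizer_iff.2 fun y hy => hAab.1 y hy x hx.2.1
    have h5 : 0 < Nat.card (A ⊓ C : Subgroup G) := Nat.card_pos
    refine Nat.le_of_mul_le_mul_right ?_ h5
    calc Nat.card V * Nat.card (A ⊓ C : Subgroup G) = _ := h3.symm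
      _ ≤ Nat.card A * Nat.card (V ⊓ centralizer (A : Set G) : Subgroup G) := Nat.mul_le_mul h2 h4
      _ = _ := by rw [h1]; ring

/-- `SL(2,p)` in the quotient -/
theorem sl_of_minOff [Finite G] {p : ℕ} [hp : Fact p.Prime] {hC : C ≤ centralizer (V : Set G)}
    (hff : FF p (jj V C hC V) ((⊤ : Subgroup G).map (th V C hC))) {B : Subgroup (Gam V C hC)}
    (hB : B ≤ (⊤ : Subgroup G).map (th V C hC)) (hmin : MinOff p (jj V C hC V) B) :
    (p = 2 ∨ p = 3) ∧ (∃ f : Matrix.SpecialLinearGroup (Fin 2) (ZMod p) →* G ⧸ C, Function.Injective f) ∧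
      (p = 3 → ¬ ∀ K : Subgroup (G ⧸ C), K.Normal → (Nat.card K).Coprime p → ∀ x ∈ K, ∀ y ∈ K, x * y = y * x) := by
  obtain ⟨x, hx, hxB⟩ := hff.exists_not_mem hB hmin
  obtain ⟨hle, hp23, -, -, ⟨e⟩, -⟩ := hff.pair hB hmin hx hxB
  set H : Subgroup (Gam V C hC) := (⊤ : Subgroup G).map (th V C hC) with hH
  let ir : G ⧸ C →* Gam V C hC := SemidirectProduct.inr
  have hir : Function.Injective ir := SemidirectProduct.inr_injective
  have hHr : ∀ y ∈ H, ∃ z, ir z = y := by
    rintro _ ⟨g, -, rfl⟩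
    exact ⟨QuotientGroup.mk' C g, rfl⟩
  refine ⟨hp23, ?_, ?_⟩
  · have hr : ∀ y : ↥(B ⊔ MulAut.conj x • B), (y : Gam V C hC) ∈ ir.range := fun y => hHr _ (hle y.2)
    let g : ↥(B ⊔ MulAut.conj x • B) →* ir.range := (B ⊔ MulAut.conj x • B).subtype.codRestrict ir.range hr
    refine ⟨((MonoidHom.ofInjective hir).symm.toMonoidHom.comp g).comp e.symm.toMonoidHom, ?_⟩
    have hg : Function.Injective g := by
      intro a b hab
      exact Subtype.ext (congrArg (fun z : ir.range => (z : Gam V C hC)) hab)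
    exact ((MonoidHom.ofInjective hir).symm.injective.comp hg).comp e.symm.injective
  · intro hp3 hcon
    apply hff.not_comm hB hmin hp3
    have hKn : ((KK p H).comap ir).Normal := by
      refine ⟨fun n hn g => ?_⟩
      have h1 : ir g ∈ normalizer ((KK p H : Subgroup _) : Set (Gam V C hC)) := by
        apply KK_normal
        obtain ⟨g', rfl⟩ := QuotientGroup.mk'_surjective C g
        exact ⟨g', mem_top _, rfl⟩
      show ir (g * n * g⁻¹) ∈ KK p H
      rw [map_mul, map_mul, map_inv]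
      exact (mem_normalizer_iff.1 h1 _).1 hn
    have hKc : (Nat.card ((KK p H).comap ir)).Coprime p := by
      refine Nat.Coprime.coprime_dvd_left ?_ (KK_coprime (p := p) (H := H))
      have h1 : Nat.card ((KK p H).comap ir) = Nat.card (((KK p H).comap ir).map ir) := (card_map_inj ir hir _).symm
      rw [h1]
      exact card_dvd_of_le (map_comap_le _ _)
    have h1 := hcon _ hKn hKc
    have h2 : ∀ a ∈ KK p H, ∀ b ∈ KK p H, a * b = b * a := by
      intro a ha b hb
      obtain ⟨a', rfl⟩ := hHr a (KK_le ha)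
      obtain ⟨b', rfl⟩ := hHr b (KK_le hb)
      rw [← map_mul, h1 a' ha b' hb, map_mul]
    have h3 : ⁅KK p H, B⁆ ≤ KK p H := commutator_le_of_normalizes (hB.trans KK_normal)
    exact ⟨⟨fun a b => Subtype.ext (h2 a (h3 a.2) b (h3 b.2))⟩⟩

end

theorem isPSolvable_of_pNil {M : Type u} [Group M] [Finite M] {p : ℕ} [hp : Fact p.Prime] {Q : Subgroup M} [hQn : Q.Normal]
    (hQ : IsPGroup p Q) (h : PNil p (M ⧸ Q)) : Cfsg.IsPSolvable p M := by
  obtain ⟨K, hK, hKc, k, hk⟩ := h
  set L : Subgroup M := K.comap (QuotientGroup.mk' Q) with hL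
  have hQL : Q ≤ L := by
    intro x hx
    show QuotientGroup.mk' Q x ∈ K
    have : QuotientGroup.mk' Q x = 1 := (QuotientGroup.eq_one_iff x).2 hx
    rw [this]; exact one_mem _
  have hLi : L.index = p ^ k := by
    rw [hL, Subgroup.index_comap_of_surjective _ (QuotientGroup.mk'_surjective Q), hk]
  have hQr : Q.relIndex L = Nat.card K := by
    have h1 := Subgroup.relIndex_mul_index hQL
    have h2 := Subgroup.card_mul_index K
    have h3 : Q.index = Nat.card (M ⧸ Q) := rfl
    rw [hLi, h3, ← h2, hk] at h1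
    exact Nat.eq_of_mul_eq_mul_right (pow_pos hp.out.pos k) h1
  refine ⟨3, ![⊥, Q, L, ⊤], rfl, rfl, ?_, ?_, ?_⟩
  · refine Fin.monotone_iff_le_succ.2 ?_
    intro i
    fin_cases i
    · exact bot_le
    · exact hQL
    · exact le_top
  · intro i
    fin_cases i
    · show (⊥ : Subgroup M).Normal; infer_instance
    · exact hQn
    · exact hK.comap _
    · show (⊤ : Subgroup M).Normal; infer_instance
  · intro i
    fin_cases i
    · left
      obtain ⟨m, hm⟩ := hQ.exists_card_eq
      exact ⟨m, by show (⊥ : Subgroup M).relIndex Q = _; rw [relIndex_bot_left, hm]⟩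
    · right
      show (Q.relIndex L).Coprime p
      rw [hQr]; exact hKc
    · left
      exact ⟨k, by show L.relIndex ⊤ = _; rw [relIndex_top_right, hLi]⟩

theorem coatom_quot {M : Type u} [Group M] {Q S : Subgroup M} [Q.Normal] (hQS : Q ≤ S) (h : IsCoatom S) :
    IsCoatom (S.map (QuotientGroup.mk' Q)) := by
  have hc : (S.map (QuotientGroup.mk' Q)).comap (QuotientGroup.mk' Q) = S := by
    rw [Subgroup.comap_map_eq, QuotientGroup.ker_mk', sup_eq_left.2 hQS]
  refine ⟨fun h1 => ?_, fun K hK => ?_⟩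
  · rw [h1, Subgroup.comap_top] at hc
    exact h.1 hc.symm
  · have h1 : S < K.comap (QuotientGroup.mk' Q) := by
      refine lt_of_le_of_ne ?_ ?_
      · rw [← hc]; exact Subgroup.comap_mono hK.le
      · intro h2
        apply hK.ne
        rw [h2, Subgroup.map_comap_eq_self_of_surjective (QuotientGroup.mk'_surjective Q)]
    have h2 := h.2 _ h1
    rw [← Subgroup.map_comap_eq_self_of_surjective (QuotientGroup.mk'_surjective Q) K, h2,
      Subgroup.map_top_of_surjective _ (QuotientGroup.mk'_surjective Q)]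

/-- the main alternative -/
theorem key {M : Type u} [Group M] [Finite M] {p : ℕ} [hp : Fact p.Prime] {S : Subgroup M} (hS : SylIn p S ⊤) (hmax : IsCoatom S)
    (hc : centralizer ((Cfsg.pCore p M : Subgroup M) : Set M) ≤ Cfsg.pCore p M) (hq : PNil p (M ⧸ Cfsg.pCore p M))
    (hfree : p ≠ 2 ∨ ¬ Cfsg.Involves (Equiv.Perm (Fin 4)) M) :
    (∀ A ∈ ZJ.Fam 0 S, A ≤ Cfsg.pCore p M) ∨ (∀ z ∈ S, (∀ s ∈ S, s * z = z * s) → z ∈ center M) := by
  by_cases h1 : ∀ A ∈ ZJ.Fam 0 S, A ≤ Cfsg.pCore p M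
  · exact Or.inl h1
  right
  push Not at h1
  obtain ⟨A, hA, hAQ⟩ := h1
  haveI hQn := Cores.pCore_normal (G := M) p
  have hQp : IsPGroup p (Cfsg.pCore p M) := Cores.pCore_isPGroup p
  have hQS : Cfsg.pCore p M ≤ S := by
    obtain ⟨g, -, hg⟩ := hS.conj_le le_top hQp
    intro x hx
    have h2 := hQn.conj_mem x hx g⁻¹
    have h3 := hg _ h2
    have e : g * (g⁻¹ * x * g⁻¹⁻¹) * g⁻¹ = x := by group
    rwa [e] at h3
  have hVQ : oz p (Cfsg.pCore p M) ≤ Cfsg.pCore p M := oz_le
  have hea : Cfsg.IsElementaryAbelian p (oz p (Cfsg.pCore p M)) := ea_oz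
  haveI hVn : (oz p (Cfsg.pCore p M)).Normal := by
    refine ⟨fun n hn g => ?_⟩
    have h2 := oz_conj (p := p) g (Cfsg.pCore p M)
    have h3 : (Cfsg.pCore p M).map (MulAut.conj g).toMonoidHom = Cfsg.pCore p M := by
      apply ZJ.map_conj_eq_of_mem
      rw [normalizer_eq_top_iff.2 hQn]; exact mem_top _
    rw [h3] at h2
    rw [← h2]
    exact ⟨n, hn, rfl⟩
  by_cases hCS : centralizer ((oz p (Cfsg.pCore p M) : Subgroup M) : Set M) ≤ S
  · -- failure of factorization
    exfalso
    have hCQ : centralizer ((oz p (Cfsg.pCore p M) : Subgroup M) : Set M) ≤ Cfsg.pCore p M :=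
      Cores.le_pCore inferInstance (hS.isPGroup.to_le hCS)
    have hQC : Cfsg.pCore p M ≤ centralizer ((oz p (Cfsg.pCore p M) : Subgroup M) : Set M) := le_centralizer_oz
    have hO : Cfsg.pCore p (M ⧸ Cfsg.pCore p M) = ⊥ := Cores.pCore_quotient_pCore p
    obtain ⟨hff, B, hB, hmin⟩ := minOff_of_fam (hC := hQC) hea hCQ (isPSolvable_of_pNil hQp hq) hO hS.isPGroup (hVQ.trans hQS) hA hAQ
    obtain ⟨hp23, ⟨f, hf⟩, h3⟩ := sl_of_minOff hff (hB.trans (Subgroup.map_mono le_top)) hmin
    rcases hp23 with h2 | h2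
    · subst h2
      rcases hfree with h4 | h4
      · exact h4 rfl
      · exact h4 (S4A.s4_of_sl hQp hc f hf)
    · refine h3 h2 fun K hK hKc => ?_
      exact ZPN.comm_of_max (P := S.map (QuotientGroup.mk' (Cfsg.pCore p M))) (hS.isPGroup.map _) (coatom_quot hQS hmax) hKc
  · -- the centralizer is large
    have hab : ∀ x ∈ Cfsg.pCore p M ⊓ centralizer (Cfsg.pCore p M : Set M), ∀ y ∈ Cfsg.pCore p M ⊓ centralizer (Cfsg.pCore p M : Set M),
        x * y = y * x := fun x hx y hy => mem_centralizer_iff.1 hy.2 x hx.1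
    have hnC : ¬ centralizer ((Cfsg.pCore p M ⊓ centralizer (Cfsg.pCore p M : Set M) : Subgroup M) : Set M) ≤ S := by
      intro hcon
      apply hCS
      have h2 : IsPGroup p (centralizer ((oz p (Cfsg.pCore p M) : Subgroup M) : Set M)) := by
        refine PNInd.isPGroup_of_no_pprime fun g hg hgo => ?_
        have h3 : g ∈ centralizer ((Cfsg.pCore p M ⊓ centralizer (Cfsg.pCore p M : Set M) : Subgroup M) : Set M) := by
          have h4 : zpowers g ≤ centralizer ((Cfsg.pCore p M ⊓ centralizer (Cfsg.pCore p M : Set M) : Subgroup M) : Set M) := by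
            refine abelian_trivial_of_prime_order ⟨⟨fun a b => Subtype.ext (hab a a.2 b b.2)⟩⟩ ?_ ?_ ?_
            · rw [normalizer_eq_top_iff.2 inferInstance]; exact le_top
            · obtain ⟨k, hk⟩ := (hQp.to_le (inf_le_left : Cfsg.pCore p M ⊓ centralizer (Cfsg.pCore p M : Set M) ≤ _)).exists_card_eq
              rw [Nat.card_zpowers, hk]
              exact Nat.Coprime.pow_right k hgo
            · intro v hv hvo a ha
              have h5 : v ^ p = 1 := by
                obtain ⟨k, hk⟩ := hQp ⟨v, hv.1⟩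
                have h6 : v ^ p ^ k = 1 := congrArg Subtype.val hk
                have h7 := orderOf_dvd_of_pow_eq_one h6
                have h8 := (Nat.prime_dvd_prime_iff_eq hvo hp.out).1 (hvo.dvd_of_dvd_pow h7)
                rw [← h8]; exact pow_orderOf_eq_one v
              have h6 : v ∈ oz p (Cfsg.pCore p M) := mem_oz.2 ⟨hv.1, hv.2, h5⟩
              obtain ⟨n, rfl⟩ := mem_zpowers_iff.1 ha
              have h7 : Commute g v := (mem_centralizer_iff.1 hg v h6).symm
              exact h7.zpow_left n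
          exact h4 (mem_zpowers g)
        have h4 : g ∈ S := hcon h3
        obtain ⟨k, hk⟩ := hS.isPGroup ⟨g, h4⟩
        have h5 : g ^ p ^ k = 1 := congrArg Subtype.val hk
        exact S4A.eq_one_of_pow (pow_orderOf_eq_one g) h5 (Nat.Coprime.pow_right k hgo)
      exact (Cores.le_pCore inferInstance h2).trans hQS
    have htop : S ⊔ centralizer ((Cfsg.pCore p M ⊓ centralizer (Cfsg.pCore p M : Set M) : Subgroup M) : Set M) = ⊤ :=
      hmax.2 _ (left_lt_sup.2 hnC)
    intro z hz hzc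
    have hzQ : z ∈ centralizer (Cfsg.pCore p M : Set M) := mem_centralizer_iff.2 fun y hy => hzc y (hQS hy)
    have hzZ : z ∈ Cfsg.pCore p M ⊓ centralizer (Cfsg.pCore p M : Set M) := ⟨hc hzQ, hzQ⟩
    have h2 : S ⊔ centralizer ((Cfsg.pCore p M ⊓ centralizer (Cfsg.pCore p M : Set M) : Subgroup M) : Set M) ≤ centralizer {z} := by
      refine sup_le ?_ ?_
      · intro s hs
        rw [mem_centralizer_singleton_iff]
        exact hzc s hs
      · intro s hs
        rw [mem_centralizer_singleton_iff]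
        exact (mem_centralizer_iff.1 hs z hzZ).symm
    rw [htop] at h2
    rw [mem_center_iff]
    intro g
    have := h2 (mem_top g)
    rwa [mem_centralizer_singleton_iff] at this

end Cfsg.Agent.Lib.ThB
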