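import Cfsg.Agent.Lib.GlcA
import Cfsg.Agent.Lib.ThB

/-!
Glauberman's theorem on central elements: group theoretic steps.
-/

set_option autoImplicit false
set_option linter.unusedSectionVars false
set_option linter.style.haveILetI false
set_option linter.unusedVariables false

namespace Cfsg.Agent.Lib.GlcB

open Subgroup Cfsg.Agent.Lib Cfsg.Agent.Lib.Basic Cfsg.Agent.Lib.Cores Cfsg.Agent.Lib.Coprime
  Cfsg.Agent.Lib.CoprimeB Cfsg.Agent.Lib.ThompsonJ Cfsg.Agent.Lib.Quadratic Cfsg.Agent.Lib.QuadA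
  Cfsg.Agent.Lib.QuadB Cfsg.Agent.Lib.FFA Cfsg.Agent.Lib.FFB Cfsg.Agent.Lib.QuadC Cfsg.Agent.Lib.QuadD Cfsg.Agent.Lib.ZJ
  Cfsg.Agent.Lib.SylRel Cfsg.Agent.Lib.GlcA

open scoped commutatorElement Pointwise

universe u v
variable {G : Type u} [Group G]

theorem eq_of_coprime_pow {M : Type*} [Group M] {p : ℕ} {w : M} {k n : ℕ} (hw : w ^ p ^ k = 1) (hn : w ^ n = 1)
    (hc : Nat.Coprime n p) : w = 1 := by
  have h1 : orderOf w ∣ p ^ k := orderOf_dvd_of_pow_eq_one hw
  have h2 : orderOf w ∣ n := orderOf_dvd_of_pow_eq_one hn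
  have h3 : orderOf w = 1 := Nat.eq_one_of_dvd_coprimes (hc.symm.pow_left k) h1 h2
  exact orderOf_eq_one_iff.1 h3

/-- the final counting argument -/
theorem final [Finite G] {p : ℕ} [hp : Fact p.Prime] {V A P : Subgroup G} [hVn : V.Normal] (hVp : IsPGroup p V)
    (hV : ∀ x ∈ V, ∀ y ∈ V, x * y = y * x)
    (hq : ∀ v ∈ V, ∀ a ∈ A, ∀ b ∈ A, b * (a * v * a⁻¹ * v⁻¹) * b⁻¹ = a * v * a⁻¹ * v⁻¹)
    (hAp : IsPGroup p A) {x z : G} (hz : z ∈ V) {m : ℕ} (hzm : z ^ m = x)
    (hP : ¬ p ∣ P.index) (hzP : ∀ g ∈ P, g * z * g⁻¹ = z)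
    (hxp : ∀ g : G, g * x ^ p * g⁻¹ = x ^ p)
    (hfix : ∀ g : G, (∀ a ∈ A, a * (g * x * g⁻¹) * a⁻¹ = g * x * g⁻¹) → g * x * g⁻¹ = x)
    (hm : p ≠ 2 ∨ (p = 2 ∧ m = 2) ∨ (p = 2 ∧ m = 1 ∧ ∀ g : G, (A ⊓ centralizer {g * z * g⁻¹}).relIndex A ≠ 2)) :
    ∀ g : G, g * x * g⁻¹ = x := by
  classical
  letI : CommGroup V := { (inferInstance : Group V) with mul_comm := fun a b => Subtype.ext (hV a a.2 b b.2) }
  haveI : Fintype G := Fintype.ofFinite G
  haveI : Fintype A := Fintype.ofFinite A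
  haveI : Fintype V := Fintype.ofFinite V
  have hxV : x ∈ V := by rw [← hzm]; exact V.pow_mem hz m
  let β : G →* MulAut V := MulAut.conjNormal
  have hβ : ∀ g (v : V), ((β g v : V) : G) = g * v * g⁻¹ := fun g v => MulAut.conjNormal_apply g v
  let α : A →* MulAut V := β.comp A.subtype
  have hα : ∀ (a : A) (v : V), ((α a v : V) : G) = a * v * (a : G)⁻¹ := fun a v => hβ a v
  have hq' : ∀ (a b : A) (v : V), α b (α a v * v⁻¹) = α a v * v⁻¹ := by
    intro a b v
    apply Subtype.ext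
    rw [hα, Subgroup.coe_mul, hα, Subgroup.coe_inv]
    exact hq v v.2 a a.2 b b.2
  set z' : V := ⟨z, hz⟩ with hz'
  set x' : V := ⟨x, hxV⟩ with hx'
  have hzx : z' ^ m = x' := Subtype.ext hzm
  set D : Finset V := Finset.univ.image fun g : G => β g z' with hD
  have hDinv : ∀ g : G, ∀ d ∈ D, β g d ∈ D := by
    intro g d hd
    obtain ⟨h, -, rfl⟩ := Finset.mem_image.1 hd
    exact Finset.mem_image.2 ⟨g * h, Finset.mem_univ _, by rw [map_mul, MulAut.mul_apply]⟩
  have hcardUU : ∀ v : V, (UU α v).card = (cc α hq' v).ker.index := by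
    intro v
    rw [index_ker]
    have h1 : ((cc α hq' v).range : Set V) = (UU α v : Set V) := by
      ext w
      simp only [UU, Finset.coe_image, Finset.coe_univ, Set.image_univ, MonoidHom.coe_range]
      rfl
    have h2 : Nat.card (cc α hq' v).range = ((cc α hq' v).range : Set V).ncard := (Nat.card_coe_set_eq _)
    rw [h2, h1, Set.ncard_coe_finset]
  have hker : ∀ (v : V) (a : A), a ∈ (cc α hq' v).ker ↔ α a v = v := by
    intro v a
    rw [MonoidHom.mem_ker]
    show α a v * v⁻¹ = 1 ↔ _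
    rw [mul_inv_eq_one]
  have hcase : ∀ d ∈ D, (¬ ∀ a, α a d = d) → p ∣ (UU α d).card ∧ (∏ u ∈ UU α d, u) ^ m = 1 := by
    intro d hd hnf
    have hne : (cc α hq' d).ker ≠ ⊤ := by
      intro h
      exact hnf fun a => (hker d a).1 (by rw [h]; exact Subgroup.mem_top _)
    obtain ⟨k, hk⟩ := (hAp.index (cc α hq' d).ker)
    have hpd : p ∣ (UU α d).card := by
      rw [hcardUU, hk]
      apply dvd_pow_self
      rintro rfl
      rw [pow_zero, Subgroup.index_eq_one] at hk
      exact hne hk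
    refine ⟨hpd, ?_⟩
    have hsq := prod_sq α hq' d
    rcases hm with h2 | ⟨h2, hm2⟩ | ⟨h2, hm1, h3⟩
    · obtain ⟨l, hl⟩ := hVp (∏ u ∈ UU α d, u)
      have h4 : ∏ u ∈ UU α d, u = 1 := by
        refine eq_of_coprime_pow hl hsq ?_
        exact (Nat.coprime_primes Nat.prime_two hp.out).2 (Ne.symm h2)
      rw [h4, one_pow]
    · rw [hm2]; exact hsq
    · rw [hm1, pow_one]
      subst h2
      have hzx' : z = x := by rw [← hzm, hm1, pow_one]
      refine prod_four α hq' d ?_ ?_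
      · intro u hu
        obtain ⟨a, -, rfl⟩ := Finset.mem_image.1 hu
        obtain ⟨g, -, rfl⟩ := Finset.mem_image.1 hd
        have h4 : ∀ h : G, (β h z') ^ 2 = x' ^ 2 := by
          intro h
          apply Subtype.ext
          rw [Subgroup.coe_pow, hβ, Subgroup.coe_pow]
          show (h * z * h⁻¹) ^ 2 = x ^ 2
          rw [hzx', conj_pow]
          exact hxp h
        have h5 : α a (β g z') = β (a * g) z' := by
          show β a (β g z') = _
          rw [map_mul, MulAut.mul_apply]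
        rw [← pow_two, mul_pow, inv_pow, h5, h4, h4, mul_inv_cancel]
      · rw [hcardUU, hk]
        have hk2 : 2 ≤ k := by
          by_contra hcon
          have : k = 0 ∨ k = 1 := by omega
          rcases this with rfl | rfl
          · rw [pow_zero, Subgroup.index_eq_one] at hk
            exact hne hk
          · rw [pow_one] at hk
            obtain ⟨g, -, rfl⟩ := Finset.mem_image.1 hd
            apply h3 g
            rw [← hk, Subgroup.relIndex]
            congr 1
            ext a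
            rw [hker, Subgroup.mem_subgroupOf, Subgroup.mem_inf, mem_centralizer_singleton_iff]
            constructor
            · rintro ⟨-, h4⟩
              apply Subtype.ext
              rw [hα, hβ]
              show (a : G) * (g * z * g⁻¹) * (a : G)⁻¹ = g * z * g⁻¹
              rw [h4]; group
            · intro h4
              refine ⟨a.2, ?_⟩
              have h5 := congrArg Subtype.val h4
              rw [hα, hβ] at h5
              have h6 : (a : G) * (g * z * g⁻¹) * (a : G)⁻¹ = g * z * g⁻¹ := h5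
              rw [mul_inv_eq_iff_eq_mul] at h6
              exact h6
        exact (Nat.pow_dvd_pow 2 hk2 : 2 ^ 2 ∣ 2 ^ k)
  have hmain := orbit_prod α m p x' D.card D le_rfl (fun a d hd => hDinv a d hd) (fun d hd hf => by
      obtain ⟨g, -, rfl⟩ := Finset.mem_image.1 hd
      apply Subtype.ext
      have h1 : (((β g z') ^ m : V) : G) = g * x * g⁻¹ := by
        rw [Subgroup.coe_pow, hβ, conj_pow]
        show g * z ^ m * g⁻¹ = _
        rw [hzm]
      rw [h1]
      refine hfix g fun a ha => ?_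
      rw [← h1]
      have h2 := congrArg Subtype.val (hf ⟨a, ha⟩)
      have h3 : α ⟨a, ha⟩ ((β g z') ^ m) = (β g z') ^ m := by rw [map_pow, hf]
      have h4 := congrArg Subtype.val h3
      rw [hα] at h4
      exact h4) (fun d hd => by
      obtain ⟨g, -, rfl⟩ := Finset.mem_image.1 hd
      apply Subtype.ext
      rw [Subgroup.coe_pow, Subgroup.coe_pow, hβ, Subgroup.coe_pow, conj_pow, conj_pow]
      show g * (z ^ m) ^ p * g⁻¹ = x ^ p
      rw [hzm]; exact hxp g) hcase
  -- the product is invariant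
  have hY : ∀ g : G, β g (∏ d ∈ D, d) = ∏ d ∈ D, d := by
    intro g
    rw [map_prod]
    refine Finset.prod_bij (fun d _ => β g d) (fun d hd => hDinv g d hd) (fun a _ b _ h => (β g).injective h) (fun d hd => ?_)
      (fun d _ => rfl)
    refine ⟨β g⁻¹ d, hDinv g⁻¹ d hd, ?_⟩
    rw [← MulAut.mul_apply, ← map_mul, mul_inv_cancel, map_one, MulAut.one_apply]
  -- the number of conjugates
  have hDc : Nat.Coprime D.card p := by
    letI : MulAction G V := MulAction.compHom V β
    have h1 : D.card = (MulAction.orbit G z').ncard := by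
      rw [← Set.ncard_coe_finset]
      congr 1
      ext d
      simp only [hD, Finset.coe_image, Finset.coe_univ, Set.image_univ, Set.mem_range]
      rfl
    rw [h1, ← MulAction.index_stabilizer]
    have h2 : P ≤ MulAction.stabilizer G z' := by
      intro g hg
      rw [MulAction.mem_stabilizer_iff]
      show β g z' = z'
      apply Subtype.ext
      rw [hβ]
      exact hzP g hg
    have h3 := Subgroup.index_dvd_of_le h2
    refine ((Nat.Prime.coprime_iff_not_dvd hp.out).2 fun h => hP (h.trans h3)).symm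
  intro g
  have h1 := congrArg (β g) hmain
  rw [map_pow, map_pow, hY, hmain] at h1
  -- (g x g⁻¹)^|D| = x^|D|
  have h2 : (β g x' * x'⁻¹) ^ D.card = 1 := by
    rw [mul_pow, inv_pow, ← h1, mul_inv_cancel]
  obtain ⟨l, hl⟩ := hVp (β g x' * x'⁻¹)
  have h3 := eq_of_coprime_pow hl h2 hDc
  have h4 := congrArg Subtype.val (mul_inv_eq_one.1 h3)
  rw [hβ] at h4
  exact h4

/-- a quadratic member of the Thompson family -/
theorem exists_quad [Finite G] {p : ℕ} [hp : Fact p.Prime] {V P A : Subgroup G} (hV : ∀ x ∈ V, ∀ y ∈ V, x * y = y * x) (hVP : V ≤ P)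
    (hPV : P ≤ normalizer (V : Set G)) (hP : IsPGroup p P) (hA : A ∈ ZJ.Fam 0 P) (hAV : ¬ A ≤ centralizer (V : Set G)) :
    ∃ B ∈ ZJ.Fam 0 P, ¬ B ≤ centralizer (V : Set G) ∧
      ∀ v ∈ V, ∀ a ∈ B, ∀ b ∈ B, b * (a * v * a⁻¹ * v⁻¹) * b⁻¹ = a * v * a⁻¹ * v⁻¹ := by
  obtain ⟨hAP, hAab, hAmax⟩ := hA
  have hAN : A ≤ normalizer (V : Set G) := hAP.trans hPV
  -- abelian subgroups `B C_V(B)`
  have hab : ∀ B : Subgroup G, B ≤ A → ∀ x ∈ B ⊔ (V ⊓ centralizer (B : Set G)), ∀ y ∈ B ⊔ (V ⊓ centralizer (B : Set G)), x * y = y * x := by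
    intro B hB
    have key : B ⊔ (V ⊓ centralizer (B : Set G)) ≤ centralizer ((B ⊔ (V ⊓ centralizer (B : Set G)) : Subgroup G) : Set G) := by
      rw [QuadA.centralizer_sup]
      refine sup_le (le_inf ?_ ?_) (le_inf ?_ ?_)
      · intro x hx; exact mem_centralizer_iff.2 fun y hy => hAab.1 y (hB hy) x (hB hx)
      · intro x hx
        exact mem_centralizer_iff.2 fun y hy => (mem_centralizer_iff.1 hy.2 x hx).symm
      · exact inf_le_right
      · intro x hx; exact mem_centralizer_iff.2 fun y hy => hV y hy.1 x hx.1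
    intro x hx y hy
    exact (mem_centralizer_iff.1 (key hx) y hy).symm
  have hCA : V ⊓ centralizer (A : Set G) ≤ A := by
    have h1 := hAmax (A ⊔ (V ⊓ centralizer (A : Set G))) (sup_le hAP (inf_le_left.trans hVP)) ⟨hab A le_rfl, fun x _ => by rw [pow_zero]⟩
    have h2 : A = A ⊔ (V ⊓ centralizer (A : Set G)) := Subgroup.eq_of_le_of_card_ge le_sup_left h1
    exact le_sup_right.trans h2.ge
  have hcard : ∀ B : Subgroup G, B ≤ A → Nat.card ↥(B ⊔ (V ⊓ centralizer (B : Set G))) * Nat.card ↥(B ⊓ V) =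
      Nat.card B * Nat.card ↥(V ⊓ centralizer (B : Set G)) := by
    intro B hB
    have h1 := card_sup_mul_inf_of_comm (hab B hB) (le_sup_left : B ≤ B ⊔ (V ⊓ centralizer (B : Set G))) le_sup_right
    have h2 : B ⊓ (V ⊓ centralizer (B : Set G)) = B ⊓ V := by
      apply le_antisymm
      · exact le_inf inf_le_left (inf_le_right.trans inf_le_left)
      · exact le_inf inf_le_left (le_inf inf_le_right fun x hx => mem_centralizer_iff.2 fun y hy => hAab.1 y (hB hy) x (hB hx.1))
    rwa [h2] at h1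
  have hle : ∀ B : Subgroup G, B ≤ A → Nat.card ↥(B ⊔ (V ⊓ centralizer (B : Set G))) ≤ Nat.card A := fun B hB =>
    hAmax _ (sup_le (hB.trans hAP) (inf_le_left.trans hVP)) ⟨hab B hB, fun x _ => by rw [pow_zero]⟩
  have hVA : V ⊓ centralizer (A : Set G) = A ⊓ V := by
    apply le_antisymm
    · exact le_inf hCA inf_le_left
    · exact le_inf inf_le_right fun x hx => mem_centralizer_iff.2 fun y hy => hAab.1 y hy x hx.1
  have hbest : ∀ B : Subgroup G, B ≤ A → Nat.card B * Nat.card ↥(V ⊓ centralizer (B : Set G)) ≤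
      Nat.card A * Nat.card ↥(V ⊓ centralizer (A : Set G)) := by
    intro B hB
    rw [← hcard B hB, hVA]
    exact Nat.mul_le_mul (hle B hB) (Subgroup.card_le_of_le (inf_le_inf_right _ hB))
  have hcomm : ⁅A, A⁆ ≤ centralizer (V : Set G) := by
    rw [commutator_le]
    intro x hx y hy
    rw [commutatorElement_eq_one_iff_mul_comm.2 (hAab.1 x hx y hy)]
    exact one_mem _
  obtain ⟨h1, h2⟩ := timmesfeld hV hcomm hAN hbest (le_refl V)
  set A' : Subgroup G := A ⊓ centralizer ((⁅V, A⁆ : Subgroup G) : Set G) with hA'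
  have hA'A : A' ≤ A := inf_le_left
  have hWV : ⁅V, A⁆ ≤ V := commutator_le_of_normalizes hAN
  set B : Subgroup G := A' ⊔ (V ⊓ centralizer (A' : Set G)) with hB
  have hBc : Nat.card B = Nat.card A := by
    have h3 := hcard A' hA'A
    rw [← h1, hVA] at h3
    have h4 : A' ⊓ V = A ⊓ V := by
      apply le_antisymm (inf_le_inf_right _ hA'A)
      refine le_inf (le_inf inf_le_left ?_) inf_le_right
      intro x hx
      exact mem_centralizer_iff.2 fun y hy => hV y (hWV hy) x hx.2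
    rw [h4] at h3
    exact Nat.eq_of_mul_eq_mul_right Nat.card_pos h3
  have hBP : B ≤ P := sup_le (hA'A.trans hAP) (inf_le_left.trans hVP)
  have hBfam : B ∈ ZJ.Fam 0 P := ⟨hBP, ⟨hab A' hA'A, fun x _ => by rw [pow_zero]⟩, fun X hX hXab => by rw [hBc]; exact hAmax X hX hXab⟩
  refine ⟨B, hBfam, fun hcon => ?_, ?_⟩
  · have h3 : V ≤ ⁅V, A⁆ ⊔ (V ⊓ centralizer (A : Set G)) := by
      rw [← h2]
      refine le_inf le_rfl fun x hx => mem_centralizer_iff.2 fun y hy => ?_
      exact (mem_centralizer_iff.1 (hcon (Subgroup.mem_sup_left hy)) x hx).symm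
    have h4 : ⁅V, A⁆ ≤ ⁅⁅V, A⁆, A⁆ := by
      have h7 := commutator_sup_left hV hAN hWV (inf_le_left : V ⊓ centralizer (A : Set G) ≤ V)
      have h8 : ⁅V ⊓ centralizer (A : Set G), A⁆ = ⊥ := by
        rw [commutator_eq_bot_iff_le_centralizer]; exact inf_le_right
      rw [h8, sup_bot_eq] at h7
      rw [← h7]
      exact commutator_mono h3 le_rfl
    have h5 : ⁅V, A⁆ = ⊥ := by
      refine eq_bot_of_commutator (A := A) (hP.to_le hVP) hAN (fun a ha => ?_) hWV
        (le_antisymm (commutator_le_of_normalizes (le_normalizer_commutator_right _ _)) h4)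
      obtain ⟨k, hk⟩ := hP ⟨a, hAP ha⟩
      refine ⟨k, ?_⟩
      have h9 := congrArg Subtype.val hk
      have h10 : a ^ p ^ k = 1 := h9
      rw [h10]; exact one_mem _
    apply hAV
    rw [commutator_eq_bot_iff_le_centralizer] at h5
    intro a ha
    exact mem_centralizer_iff.2 fun v hv => (mem_centralizer_iff.1 (h5 hv) a ha).symm
  · -- quadratic
    have hN : V ⊓ centralizer (A' : Set G) ≤ centralizer (V : Set G) := fun x hx => mem_centralizer_iff.2 fun y hy => hV y hy x hx.1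
    have hdec : ∀ b ∈ B, ∃ a ∈ A', ∃ w ∈ V ⊓ centralizer (A' : Set G), b = a * w := by
      intro b hb
      have hnn : V ⊓ centralizer (A' : Set G) ≤ normalizer (A' : Set G) := by
        intro w hw
        refine GRep.mem_normalizer_of_map_le fun x hx => ?_
        have := mem_centralizer_iff.1 hw.2 x hx
        rw [← this, mul_inv_cancel_right]; exact hx
      obtain ⟨a, ha, w, hw, rfl⟩ := (Basic.mem_sup_iff_left hnn).1 hb
      exact ⟨a, ha, w, hw, rfl⟩
    intro v hv a ha b hb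
    obtain ⟨a₁, ha₁, w₁, hw₁, rfl⟩ := hdec a ha
    obtain ⟨b₁, hb₁, w₂, hw₂, rfl⟩ := hdec b hb
    have e1 : (a₁ * w₁) * v * (a₁ * w₁)⁻¹ * v⁻¹ = a₁ * v * a₁⁻¹ * v⁻¹ := by
      have : w₁ * v * w₁⁻¹ = v := by rw [hV w₁ hw₁.1 v hv]; group
      have h5 : (a₁ * w₁) * v * (a₁ * w₁)⁻¹ * v⁻¹ = a₁ * (w₁ * v * w₁⁻¹) * a₁⁻¹ * v⁻¹ := by group
      rw [h5, this]
    rw [e1]
    have hmem : a₁ * v * a₁⁻¹ * v⁻¹ ∈ ⁅V, A⁆ := by
      rw [commutator_comm]
      exact commutator_mem_commutator (hA'A ha₁) hv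
    have h6 : w₂ * (a₁ * v * a₁⁻¹ * v⁻¹) * w₂⁻¹ = a₁ * v * a₁⁻¹ * v⁻¹ := by
      rw [hV w₂ hw₂.1 _ (hWV hmem)]; group
    have h7 : b₁ * (a₁ * v * a₁⁻¹ * v⁻¹) * b₁⁻¹ = a₁ * v * a₁⁻¹ * v⁻¹ := by
      rw [← mem_centralizer_iff.1 hb₁.2 _ hmem, mul_inv_cancel_right]
    calc b₁ * w₂ * (a₁ * v * a₁⁻¹ * v⁻¹) * (b₁ * w₂)⁻¹ = b₁ * (w₂ * (a₁ * v * a₁⁻¹ * v⁻¹) * w₂⁻¹) * b₁⁻¹ := by group
      _ = _ := by rw [h6, h7]

end Cfsg.Agent.Lib.GlcB
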