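import Cfsg.Agent.Lib.Invol
import Mathlib.GroupTheory.Perm.Cycle.Type

/-!
# Counting involutions, isolated involutions, involution fusion
-/

set_option autoImplicit false

namespace Cfsg.Agent.Lib.InvolB

open Subgroup Cfsg.Agent.Lib.Basic Cfsg.Agent.Lib.Invol
open scoped Pointwise

variable {G : Type*} [Group G]

theorem exists_involution [Finite G] (h : Even (Nat.card G)) : ∃ t : G, orderOf t = 2 :=
  exists_prime_orderOf_dvd_card' 2 h.two_dvd

theorem card_involutions_add_one [Finite G] :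
    Nat.card {t : G // orderOf t = 2} + 1 = Nat.card {g : G // g * g = 1} := by
  rw [← Finite.card_option]
  refine Nat.card_eq_of_bijective
    (fun o : Option {t : G // orderOf t = 2} => (o.elim ⟨1, one_mul 1⟩ (fun t => ⟨t.1, mul_self t.2⟩) :
      {g : G // g * g = 1})) ⟨?_, ?_⟩
  · rintro (_ | s) (_ | t) h
    · rfl
    · exact absurd (congrArg Subtype.val h).symm (ne_one t.2)
    · exact absurd (congrArg Subtype.val h) (ne_one s.2)
    · have h1 : (⟨s.1, mul_self s.2⟩ : {g : G // g * g = 1}) = ⟨t.1, mul_self t.2⟩ := h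
      exact congrArg some (Subtype.ext (Subtype.mk.inj h1))
  · rintro ⟨g, hg⟩
    by_cases h1 : g = 1
    · exact ⟨none, Subtype.ext h1.symm⟩
    · exact ⟨some ⟨g, orderOf_eq_two hg h1⟩, rfl⟩

theorem even_card_sq_eq_one [Finite G] (h : Even (Nat.card G)) :
    Even (Nat.card {g : G // g * g = 1}) := by
  classical
  haveI := Fintype.ofFinite G
  have h1 := Equiv.Perm.card_fixedPoints_modEq (α := G) (f := ((fun g => g⁻¹) : Function.End G))
    (p := 2) (n := 1) (by
    rw [pow_one]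
    refine (pow_two (M := Function.End G) _).trans ?_
    funext g
    exact inv_inv g)
  rw [Nat.card_eq_fintype_card] at h
  have h2 : Fintype.card (Function.fixedPoints (fun g : G => g⁻¹)) =
      Nat.card {g : G // g * g = 1} := by
    rw [← Nat.card_eq_fintype_card]
    refine Nat.card_congr (Equiv.subtypeEquivRight fun g => ?_)
    show g⁻¹ = g ↔ g * g = 1
    rw [inv_eq_iff_mul_eq_one]
  rw [h2] at h1
  rw [Nat.even_iff] at h ⊢
  rw [← h]
  exact h1.symm

theorem odd_card_involutions [Finite G] (h : Even (Nat.card G)) :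
    Odd (Nat.card {t : G // orderOf t = 2}) := by
  have h1 := even_card_sq_eq_one h
  rw [← card_involutions_add_one] at h1
  rw [Nat.even_add_one] at h1
  exact Nat.not_even_iff_odd.mp h1

/-! ### 2-groups generated by two involutions -/

theorem isPGroup_closure [Finite G] {x y : G} (hx : orderOf x = 2) (hy : orderOf y = 2) {a : ℕ}
    (ha : orderOf (x * y) = 2 ^ a) : IsPGroup 2 (closure ({x, y} : Set G)) := by
  by_cases hxy : x = y
  · subst hxy
    have : closure ({x, x} : Set G) = zpowers x := by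
      rw [Set.pair_eq_singleton, zpowers_eq_closure]
    rw [this]
    exact IsPGroup.of_card (n := 1) (by rw [Nat.card_zpowers, hx, pow_one])
  · have h1 := mul_self hx
    have h2 := mul_self hy
    have hinj := dihHom_injective h1 h2 hxy (ne_one hx) (ne_one hy)
    have e1 := (dihHom h1 h2).ofInjective hinj
    rw [dihHom_range h1 h2] at e1
    refine IsPGroup.of_card (n := a + 1) ?_
    rw [← Nat.card_congr e1.toEquiv, DihedralGroup.nat_card, ha, pow_succ, mul_comm]

/-- if `x,y` are involutions and `m` odd there is `k` with `x (z^k y z^{-k}) = z^m`, `z = xy` -/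
theorem exists_conj_mul_eq {x y : G} (hx : x * x = 1) (hy : y * y = 1) {m : ℕ} (hm : Odd m) :
    ∃ k : ℤ, x * ((x * y) ^ k * y * ((x * y) ^ k)⁻¹) = (x * y) ^ m := by
  obtain ⟨l, hl⟩ := hm
  refine ⟨-l, ?_⟩
  have h1 := zpow_conj hx hy (-l)
  have h2 : (x * y) ^ (-(l : ℤ)) * y * ((x * y) ^ (-(l : ℤ)))⁻¹ =
      ((x * y) ^ (-(l : ℤ)) * x * ((x * y) ^ (-(l : ℤ)))⁻¹) * (x * y) := by
    have h3 : y = x * (x * y) := by rw [← mul_assoc, hx, one_mul]
    have h4 : (x * y) * ((x * y) ^ (-(l : ℤ)))⁻¹ = ((x * y) ^ (-(l : ℤ)))⁻¹ * (x * y) := by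
      rw [← zpow_neg, ← zpow_one_add, ← zpow_add_one, add_comm]
    calc (x * y) ^ (-(l : ℤ)) * y * ((x * y) ^ (-(l : ℤ)))⁻¹
        = (x * y) ^ (-(l : ℤ)) * (x * (x * y)) * ((x * y) ^ (-(l : ℤ)))⁻¹ := by rw [← h3]
      _ = (x * y) ^ (-(l : ℤ)) * x * ((x * y) * ((x * y) ^ (-(l : ℤ)))⁻¹) := by
          simp only [mul_assoc]
      _ = _ := by rw [h4]; simp only [mul_assoc]
  rw [h2, h1, ← mul_assoc x, ← mul_assoc x x, hx, one_mul, ← zpow_add_one, ← zpow_natCast]
  congr 1
  rw [hl]; push_cast; ring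

/-! ### isolated involutions -/

/-- `u` is isolated in the Sylow subgroup `P` -/
def Isolated (P : Sylow 2 G) (u : G) : Prop := ∀ g : G, g * u * g⁻¹ ∈ P → g * u * g⁻¹ = u

theorem Isolated.of_mem [Finite G] {P S : Sylow 2 G} {u : G} (h : Isolated P u)
    (hu : u ∈ S) {g : G} (hg : g * u * g⁻¹ ∈ S) : g * u * g⁻¹ = u := by
  obtain ⟨c, hc⟩ := MulAction.exists_smul_eq G S P
  have key : ∀ x : G, x ∈ S → c * x * c⁻¹ ∈ P := by
    intro x hx
    have : c * x * c⁻¹ ∈ ((c • S : Sylow 2 G) : Subgroup G) := by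
      refine SchurZas.mem_conj_smul_iff.mpr ?_
      have e : c⁻¹ * (c * x * c⁻¹) * c = x := by group
      rw [e]; exact hx
    rw [hc] at this
    exact this
  have h1 := h c (key u hu)
  have h2 := h (c * g) (by
    have := key _ hg
    have e : c * g * u * (c * g)⁻¹ = c * (g * u * g⁻¹) * c⁻¹ := by group
    rw [e]; exact this)
  have h3 : c * (g * u * g⁻¹) * c⁻¹ = u := by
    have e : c * (g * u * g⁻¹) * c⁻¹ = c * g * u * (c * g)⁻¹ := by group
    rw [e, h2]
  have h4 : g * u * g⁻¹ = c⁻¹ * (c * (g * u * g⁻¹) * c⁻¹) * c := by group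
  rw [h4, h3]
  have h5 : c⁻¹ * (c * u * c⁻¹) * c = u := by group
  rw [h1] at h5
  exact h5

theorem Isolated.of_isPGroup [Finite G] {P : Sylow 2 G} {u : G} (h : Isolated P u)
    {K : Subgroup G} (hK : IsPGroup 2 K) (hu : u ∈ K) {g : G} (hg : g * u * g⁻¹ ∈ K) :
    g * u * g⁻¹ = u := by
  obtain ⟨S, hS⟩ := hK.exists_le_sylow
  exact h.of_mem (hS hu) (hS hg)

/-- conjugates `v` of an isolated involution `u`: `u v` has odd order -/
theorem Isolated.odd_orderOf [Finite G] {P : Sylow 2 G} {u : G} (h : Isolated P u)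
    (hu : orderOf u = 2) (g : G) : Odd (orderOf (u * (g * u * g⁻¹))) := by
  set v := g * u * g⁻¹ with hv
  have hvo : orderOf v = 2 := by
    rw [hv, show g * u * g⁻¹ = MulAut.conj g u from rfl, MulEquiv.orderOf_eq]; exact hu
  obtain ⟨a, m, hm, ham⟩ := Nat.exists_eq_two_pow_mul_odd (orderOf_pos (u * v)).ne'
  obtain ⟨k, hk⟩ := exists_conj_mul_eq (mul_self hu) (mul_self hvo) hm
  have e : (u * v) ^ k * v * ((u * v) ^ k)⁻¹ = ((u * v) ^ k * g) * u * ((u * v) ^ k * g)⁻¹ := by
    rw [hv]; group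
  set v' := (u * v) ^ k * v * ((u * v) ^ k)⁻¹ with hv'
  have hv'o : orderOf v' = 2 := by
    rw [hv', show (u * v) ^ k * v * ((u * v) ^ k)⁻¹ = MulAut.conj ((u * v) ^ k) v from rfl,
      MulEquiv.orderOf_eq]
    exact hvo
  have h1 : orderOf (u * v') = 2 ^ a := by
    have hm0 : m ≠ 0 := by rintro rfl; exact absurd hm (by decide)
    rw [hk, orderOf_pow_of_dvd hm0 (by rw [ham]; exact dvd_mul_left _ _), ham,
      Nat.mul_div_cancel _ (Nat.pos_of_ne_zero hm0)]
  have h2 := isPGroup_closure hu hv'o h1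
  have h3 : v' = u := by
    rw [e]
    refine h.of_isPGroup h2 (subset_closure (by simp)) ?_
    rw [← e]
    exact subset_closure (by simp)
  rw [h3, mul_self hu] at h1
  rw [orderOf_one] at h1
  rw [ham, ← h1, one_mul]
  exact hm

theorem isPGroup_closure_of_mem_sylow [Finite G] (S : Sylow 2 G) {x : G} (hx : x ∈ S) :
    ∃ k, orderOf x = 2 ^ k := by
  obtain ⟨k, hk⟩ := S.isPGroup'.exists_card_eq
  have h1 := orderOf_dvd_natCard (⟨x, hx⟩ : (S : Subgroup G))
  rw [← orderOf_coe] at h1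
  change orderOf x ∣ Nat.card S at h1
  rw [hk] at h1
  obtain ⟨j, -, hj⟩ := (Nat.dvd_prime_pow Nat.prime_two).mp h1
  exact ⟨j, hj⟩

/-- non-conjugate involutions: there is an involution commuting with both -/
theorem exists_commuting [Finite G] {s t : G} (hs : orderOf s = 2) (ht : orderOf t = 2)
    (hnc : ¬ IsConj s t) : Even (orderOf (s * t)) := by
  by_contra h
  rw [Nat.not_even_iff_odd] at h
  obtain ⟨k, hk⟩ := conj_of_odd (mul_self hs) (mul_self ht) h
  exact hnc (isConj_iff.mpr ⟨_, hk⟩)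

end Cfsg.Agent.Lib.InvolB
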