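import Cfsg.Agent.Lib.GlcB
import Cfsg.Agent.Lib.InvolB
import Cfsg.Agent.Lib.BaerSuzuki

/-!
Glauberman's theorem on central elements: the constrained case.
-/

set_option autoImplicit false
set_option linter.unusedSectionVars false
set_option linter.style.haveILetI false
set_option linter.unusedVariables false

namespace Cfsg.Agent.Lib.GlcC

open Subgroup Cfsg.Agent.Lib Cfsg.Agent.Lib.Basic Cfsg.Agent.Lib.Cores Cfsg.Agent.Lib.Coprime
  Cfsg.Agent.Lib.CoprimeB Cfsg.Agent.Lib.ThompsonJ Cfsg.Agent.Lib.Quadratic Cfsg.Agent.Lib.QuadA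
  Cfsg.Agent.Lib.QuadB Cfsg.Agent.Lib.FFA Cfsg.Agent.Lib.FFB Cfsg.Agent.Lib.QuadC Cfsg.Agent.Lib.QuadD Cfsg.Agent.Lib.ZJ
  Cfsg.Agent.Lib.SylRel Cfsg.Agent.Lib.GlcA Cfsg.Agent.Lib.GlcB

open scoped commutatorElement Pointwise

universe u v
variable {G : Type u} [Group G]

theorem mem_of_coprime_pow {N : Subgroup G} {x : G} {m n : ℕ} (hm : x ^ m ∈ N) (hn : x ^ n ∈ N) (h : m.Coprime n) : x ∈ N := by
  have h1 : (Int.gcd m n : ℤ) = (m : ℤ) * Int.gcdA m n + (n : ℤ) * Int.gcdB m n := Int.gcd_eq_gcd_ab m n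
  have h2 : Int.gcd (m : ℤ) (n : ℤ) = 1 := by rw [Int.gcd_natCast_natCast]; exact h
  rw [h2] at h1
  have h3 : x = (x ^ m) ^ (Int.gcdA m n) * (x ^ n) ^ (Int.gcdB m n) := by
    rw [← zpow_natCast x m, ← zpow_natCast x n, ← zpow_mul, ← zpow_mul, ← zpow_add, ← h1]
    simp
  rw [h3]
  exact N.mul_mem (N.zpow_mem hm _) (N.zpow_mem hn _)

/-- a transvection on a normal abelian 2-subgroup -/
theorem s4_of_transv [Finite G] {V : Subgroup G} [hVn : V.Normal] (hV : ∀ x ∈ V, ∀ y ∈ V, x * y = y * x) (hV2 : IsPGroup 2 V) {a : G}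
    (haV : a ∉ centralizer (V : Set G)) (ha2 : a ^ 2 ∈ centralizer (V : Set G))
    (hidx : (V ⊓ centralizer {a}).relIndex V ≤ 2) (hO : Cfsg.pCore 2 (G ⧸ centralizer (V : Set G)) = ⊥) :
    Cfsg.Involves (Equiv.Perm (Fin 4)) G := by
  classical
  set C : Subgroup G := centralizer (V : Set G) with hC
  have hmk : ∀ x : G, (QuotientGroup.mk' C x = 1) ↔ x ∈ C := fun x => QuotientGroup.eq_one_iff x
  set A : G ⧸ C := QuotientGroup.mk' C a with hA
  have hA1 : A ≠ 1 := fun h => haV ((hmk a).1 h)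
  have hA2 : A ^ 2 = 1 := by rw [hA, ← map_pow]; exact (hmk _).2 ha2
  have hAo : orderOf A = 2 := orderOf_eq_prime hA2 hA1
  -- Baer--Suzuki
  have hBS : ∃ g : G ⧸ C, ¬ IsPGroup 2 (closure {A, g * A * g⁻¹}) := by
    by_contra hcon
    push Not at hcon
    have h1 := BaerSuzuki.mem_pCore (p := 2) hcon
    rw [hO] at h1
    exact hA1 (mem_bot.1 h1)
  obtain ⟨g', hg'⟩ := hBS
  obtain ⟨g, rfl⟩ := QuotientGroup.mk'_surjective C g'
  set b : G := g * a * g⁻¹ with hb
  have hB : QuotientGroup.mk' C b = QuotientGroup.mk' C g * A * (QuotientGroup.mk' C g)⁻¹ := by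
    rw [hb, map_mul, map_mul, map_inv]
  set B : G ⧸ C := QuotientGroup.mk' C b with hBdef
  rw [← hB] at hg'
  have hB2 : B ^ 2 = 1 := by rw [hB, conj_pow, hA2, mul_one, mul_inv_cancel]
  have hB1 : B ≠ 1 := by
    intro h
    rw [hB, mul_inv_eq_one] at h
    exact hA1 (mul_eq_left.1 h)
  have hBo : orderOf B = 2 := orderOf_eq_prime hB2 hB1
  rcases Nat.eq_two_pow_or_exists_odd_prime_and_dvd (orderOf (A * B)) with ⟨k, hk⟩ | ⟨r, hr, hrd, hro⟩
  · exact absurd (InvolB.isPGroup_closure hAo hBo hk) hg'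
  obtain ⟨l, hl⟩ := hrd
  have hABpos : 0 < orderOf (A * B) := orderOf_pos _
  have hl0 : 0 < l := Nat.pos_of_ne_zero fun h => by rw [h, mul_zero] at hl; omega
  set τ : G := (a * b) ^ l with hτ
  have hτo : orderOf (QuotientGroup.mk' C τ) = r := by
    rw [hτ, map_pow, map_mul, orderOf_pow_of_dvd hl0.ne' ⟨r, by rw [hl, mul_comm]⟩, hl, Nat.mul_div_cancel _ hl0]
  have hAA : A * A = 1 := by rw [← pow_two]; exact hA2
  have hBB : B * B = 1 := by rw [← pow_two]; exact hB2
  have hAinv : A⁻¹ = A := inv_eq_of_mul_eq_one_left hAA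
  have hBinv : B⁻¹ = B := inv_eq_of_mul_eq_one_left hBB
  have hinv : A * QuotientGroup.mk' C τ * A⁻¹ = (QuotientGroup.mk' C τ)⁻¹ := by
    rw [hτ, map_pow, map_mul, ← conj_pow, ← inv_pow]
    congr 1
    show A * (A * B) * A⁻¹ = (A * B)⁻¹
    rw [mul_inv_rev, hAinv, hBinv, ← mul_assoc A A B, hAA, one_mul]
  have hτC : τ ∉ C := by
    intro h
    have h1 := (hmk τ).2 h
    rw [h1, orderOf_one] at hτo
    exact hr.one_lt.ne hτo
  have hτr : τ ^ r ∈ C := by
    rw [← hmk, map_pow, ← hτo, pow_orderOf_eq_one]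
  -- commutators with `τ`
  have hconjV : ∀ x : G, ∀ v ∈ V, x * v * x⁻¹ ∈ V := fun x v hv => hVn.conj_mem v hv x
  have hCa : ∀ x : G, (V ⊓ centralizer {x}) = (V ⊓ centralizer {x} : Subgroup G) := fun _ => rfl
  have hidxb : (V ⊓ centralizer {b}).relIndex V ≤ 2 := by
    have h1 : (V ⊓ centralizer {b} : Subgroup G) = (V ⊓ centralizer {a} : Subgroup G).map (MulAut.conj g).toMonoidHom := by
      ext x
      constructor
      · rintro ⟨hx1, hx2⟩
        refine ⟨g⁻¹ * x * g, ⟨?_, ?_⟩, ?_⟩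
        · have := hconjV g⁻¹ x hx1; rwa [inv_inv] at this
        · replace hx2 := mem_centralizer_singleton_iff.1 (show x ∈ centralizer {b} from hx2)
          show g⁻¹ * x * g ∈ centralizer {a}
          rw [mem_centralizer_singleton_iff]
          have h2 : g⁻¹ * x * g * a = g⁻¹ * (x * b) * g := by rw [hb]; group
          rw [h2, hx2, hb]; group
        · show g * (g⁻¹ * x * g) * g⁻¹ = x
          group
      · rintro ⟨y, ⟨hy1, hy2⟩, rfl⟩
        refine ⟨hconjV g y hy1, ?_⟩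
        replace hy2 := mem_centralizer_singleton_iff.1 (show y ∈ centralizer {a} from hy2)
        show g * y * g⁻¹ ∈ centralizer {b}
        rw [mem_centralizer_singleton_iff]
        have h2 : g * y * g⁻¹ * b = g * (y * a) * g⁻¹ := by rw [hb]; group
        rw [h2, hy2, hb]; group
    have h2 : V = V.map (MulAut.conj g).toMonoidHom := (normal_iff_map_conj_eq.1 hVn g).symm
    have h3 := Cfsg.Agent.Lib.SylRel.card_map_conj g (V ⊓ centralizer {a} : Subgroup G)
    have h4 := relIndex_mul_card (inf_le_left : V ⊓ centralizer {b} ≤ V)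
    have h5 := relIndex_mul_card (inf_le_left : V ⊓ centralizer {a} ≤ V)
    rw [h1, h3, ← h5] at h4
    rw [h1]
    rw [Nat.eq_of_mul_eq_mul_right Nat.card_pos h4]
    exact hidx
  -- the index of the centralizer of `τ`
  have hidxτ : (V ⊓ centralizer {τ}).relIndex V ≤ 4 := by
    have h1 : (V ⊓ centralizer {a}) ⊓ (V ⊓ centralizer {b}) ≤ V ⊓ centralizer {τ} := by
      intro x hx
      refine ⟨hx.1.1, ?_⟩
      have h2 := (mem_centralizer_singleton_iff).1 hx.1.2
      have h3 := (mem_centralizer_singleton_iff).1 hx.2.2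
      show x ∈ centralizer {τ}
      rw [mem_centralizer_singleton_iff]
      have h4 : Commute x (a * b) := (show Commute x a from h2).mul_right h3
      exact h4.pow_right l
    have h2 : ((V ⊓ centralizer {a}) ⊓ (V ⊓ centralizer {b})).relIndex V ≤ (V ⊓ centralizer {a}).relIndex V * (V ⊓ centralizer {b}).relIndex V :=
      relIndex_inf_le
    have h3 : (V ⊓ centralizer {τ}).relIndex V ≤ ((V ⊓ centralizer {a}) ⊓ (V ⊓ centralizer {b})).relIndex V := by
      refine Nat.le_of_dvd ?_ (relIndex_dvd_of_le_left V h1)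
      exact Nat.pos_of_ne_zero index_ne_zero_of_finite
    calc _ ≤ _ := h3
      _ ≤ _ := h2
      _ ≤ 2 * 2 := Nat.mul_le_mul hidx hidxb
  -- the commutator map
  let c : V →* V := MonoidHom.mk' (fun v => ⟨τ * v * τ⁻¹ * (v : G)⁻¹, V.mul_mem (hconjV τ v v.2) (V.inv_mem v.2)⟩) (by
    intro v w
    apply Subtype.ext
    show τ * ((v : G) * w) * τ⁻¹ * ((v : G) * w)⁻¹ = (τ * v * τ⁻¹ * (v : G)⁻¹) * (τ * w * τ⁻¹ * (w : G)⁻¹)
    have h1 : (τ * v * τ⁻¹ * (v : G)⁻¹) * (τ * w * τ⁻¹ * (w : G)⁻¹) = (τ * v * τ⁻¹) * ((v : G)⁻¹ * (τ * w * τ⁻¹ * (w : G)⁻¹)) := by group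
    rw [h1, hV _ (V.inv_mem v.2) _ (V.mul_mem (hconjV τ w w.2) (V.inv_mem w.2))]
    group)
  have hcval : ∀ v : V, ((c v : V) : G) = τ * v * τ⁻¹ * (v : G)⁻¹ := fun v => rfl
  have hcker : c.ker = (V ⊓ centralizer {τ}).subgroupOf V := by
    ext v
    rw [MonoidHom.mem_ker, mem_subgroupOf, mem_inf, mem_centralizer_singleton_iff]
    constructor
    · intro h
      have h1 := congrArg Subtype.val h
      rw [hcval] at h1
      have h2 : τ * v * τ⁻¹ * (v : G)⁻¹ = 1 := h1
      rw [mul_inv_eq_one, mul_inv_eq_iff_eq_mul] at h2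
      exact ⟨v.2, h2.symm⟩
    · rintro ⟨-, h⟩
      apply Subtype.ext
      rw [hcval, OneMemClass.coe_one, ← h]; group
  have hcard : Nat.card c.range ≤ 4 := by
    rw [← index_ker, hcker]; exact hidxτ
  have hfix : ∀ n ∈ c.range, τ * (n : G) = n * τ → n = 1 := by
    rintro _ ⟨v, rfl⟩ h
    rw [hcval] at h
    set w := τ * v * τ⁻¹ * (v : G)⁻¹ with hw
    have hwV : w ∈ V := (c v).2
    have h1 : ∀ k : ℕ, τ ^ k * v * (τ ^ k)⁻¹ = w ^ k * v := by
      intro k
      induction k with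
      | zero => simp
      | succ k ih =>
        have h2 : τ ^ (k + 1) * v * (τ ^ (k + 1))⁻¹ = τ * (τ ^ k * v * (τ ^ k)⁻¹) * τ⁻¹ := by rw [pow_succ']; group
        rw [h2, ih]
        have h3 : τ * w ^ k * τ⁻¹ = w ^ k := by
          have : Commute τ (w ^ k) := (show Commute τ w from h).pow_right k
          rw [this.eq]; group
        have h4 : τ * (w ^ k * v) * τ⁻¹ = (τ * w ^ k * τ⁻¹) * (τ * v * τ⁻¹) := by group
        have h5 : τ * v * τ⁻¹ = w * v := by rw [hw]; group
        rw [h4, h3, h5, ← mul_assoc, pow_succ]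
    have h6 := h1 r
    have h7 : τ ^ r * v * (τ ^ r)⁻¹ = v := by
      rw [← mem_centralizer_iff.1 hτr v v.2]; group
    rw [h7] at h6
    have h8 : w ^ r = 1 := (mul_eq_right.1 h6.symm)
    obtain ⟨k, hk⟩ := hV2 ⟨w, hwV⟩
    have hk' : w ^ 2 ^ k = 1 := congrArg Subtype.val hk
    have h9 : w = 1 := eq_of_coprime_pow hk' h8 (by
      rw [Nat.coprime_comm]; exact (Nat.coprime_two_left).2 hro)
    exact Subtype.ext h9
  have hr3 : r = 3 := by
    by_contra hne
    -- a nontrivial commutator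
    have hex : ∃ v : V, c v ≠ 1 := by
      by_contra hcon
      push Not at hcon
      apply hτC
      rw [hC, mem_centralizer_iff]
      intro v hv
      have h1 := congrArg Subtype.val (hcon ⟨v, hv⟩)
      rw [hcval] at h1
      have h2 : τ * v * τ⁻¹ * v⁻¹ = 1 := h1
      rw [mul_inv_eq_one, mul_inv_eq_iff_eq_mul] at h2
      exact h2.symm
    obtain ⟨v, hv⟩ := hex
    have hstep : ∀ i : ℕ, ∃ n : c.range, ((n : V) : G) = τ ^ i * (c v : V) * (τ ^ i)⁻¹ ∧ n ≠ 1 := by
      intro i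
      have h1 : τ ^ i * (c v : V) * (τ ^ i)⁻¹ = ((c ⟨τ ^ i * v * (τ ^ i)⁻¹, hconjV _ v v.2⟩ : V) : G) := by
        rw [hcval, hcval]
        have h2 : τ * (τ ^ i * v * (τ ^ i)⁻¹) * τ⁻¹ = τ ^ i * (τ * v * τ⁻¹) * (τ ^ i)⁻¹ := by
          have h3 : τ * τ ^ i = τ ^ i * τ := by rw [← pow_succ', pow_succ]
          calc τ * (τ ^ i * v * (τ ^ i)⁻¹) * τ⁻¹ = (τ * τ ^ i) * v * (τ * τ ^ i)⁻¹ := by group
            _ = _ := by rw [h3]; group
        show _ = τ * (τ ^ i * v * (τ ^ i)⁻¹) * τ⁻¹ * (τ ^ i * v * (τ ^ i)⁻¹)⁻¹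
        rw [h2]; group
      refine ⟨⟨_, ⟨_, rfl⟩⟩, h1.symm, ?_⟩
      intro h
      have h4 := congrArg (fun n : c.range => ((n : V) : G)) h
      have h5 : τ ^ i * (c v : V) * (τ ^ i)⁻¹ = 1 := by rw [h1]; exact h4
      apply hv
      apply Subtype.ext
      rw [mul_inv_eq_one] at h5
      exact mul_eq_left.1 h5
    choose e he1 he2 using hstep
    haveI : Fintype c.range := Fintype.ofFinite _
    have hmap : ∀ i ∈ Finset.range 4, e i ∈ (Finset.univ : Finset c.range).erase 1 := fun i _ =>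
      Finset.mem_erase.2 ⟨he2 i, Finset.mem_univ _⟩
    have hcc : ((Finset.univ : Finset c.range).erase 1).card < (Finset.range 4).card := by
      rw [Finset.card_erase_of_mem (Finset.mem_univ _), Finset.card_univ, ← Nat.card_eq_fintype_card, Finset.card_range]
      omega
    obtain ⟨i, hi, j, hj, hij, heq⟩ := Finset.exists_ne_map_eq_of_card_lt_of_maps_to hcc hmap
    rw [Finset.mem_range] at hi hj
    -- some small power of `τ` centralizes the commutator
    have hkey : ∀ i j : ℕ, i < j → j < 4 → e i = e j → False := by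
      intro i j hij hj heq
      have h1 := congrArg (fun n : c.range => ((n : V) : G)) heq
      simp only [he1] at h1
      have h2 : τ ^ (j - i) ∈ centralizer {((c v : V) : G)} := by
        rw [mem_centralizer_singleton_iff]
        have h3 : τ ^ j = τ ^ i * τ ^ (j - i) := by rw [← pow_add]; congr 1; omega
        rw [h3] at h1
        have h4 : τ ^ (j - i) * ((c v : V) : G) * (τ ^ (j - i))⁻¹ = (c v : V) := by
          have h5 : τ ^ i * τ ^ (j - i) * ((c v : V) : G) * (τ ^ i * τ ^ (j - i))⁻¹ =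
            τ ^ i * (τ ^ (j - i) * ((c v : V) : G) * (τ ^ (j - i))⁻¹) * (τ ^ i)⁻¹ := by group
          rw [h5] at h1
          exact (mul_left_cancel (mul_right_cancel h1)).symm
        rwa [mul_inv_eq_iff_eq_mul] at h4
      have h6 : τ ^ r ∈ centralizer {((c v : V) : G)} := by
        rw [mem_centralizer_singleton_iff]
        exact (mem_centralizer_iff.1 hτr _ (c v).2).symm
      have h7 : Nat.Coprime (j - i) r := by
        have h8 : ¬ r ∣ (j - i) := by
          intro hd
          have := Nat.le_of_dvd (by omega) hd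
          have hr2 := hr.two_le
          have : r ≠ 2 := by rintro rfl; exact absurd hro (by decide)
          omega
        exact ((Nat.Prime.coprime_iff_not_dvd hr).2 h8).symm
      have h9 := mem_of_coprime_pow h2 h6 h7
      rw [mem_centralizer_singleton_iff] at h9
      exact hv (hfix _ ⟨v, rfl⟩ h9)
    rcases lt_or_gt_of_ne hij with h | h
    · exact hkey i j h hj heq
    · exact hkey j i h hi heq.symm
  rw [hr3] at hτo
  obtain ⟨t, y, ht, hy, hty, ht1⟩ := S4A.exists_lift_inv (QuotientGroup.mk' C) (QuotientGroup.mk'_surjective C)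
    (a := QuotientGroup.mk' C τ) (b := A) ⟨1, by rw [pow_one, ← hτo, pow_orderOf_eq_one]⟩ (fun h => hτC ((hmk τ).1 h)) hinv
  have hnorm : ∀ x : G, x ∈ normalizer (V : Set G) := fun x => by rw [normalizer_eq_top_iff.2 hVn]; exact mem_top x
  exact S4A.s4_of_act hV2 (hnorm t) (hnorm y) ht hy hty fun h => ht1 ((hmk t).2 h)

/-- the constrained case of Glauberman's theorem -/
theorem group_key [Finite G] {p : ℕ} [hp : Fact p.Prime] {S V : Subgroup G} (hS : SylIn p S ⊤)
    (hc : centralizer (Cfsg.pCore p G : Set G) ≤ Cfsg.pCore p G) (hVdef : V = Cfsg.pCore p G ⊓ centralizer (Cfsg.pCore p G : Set G))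
    {x : G} (hxS : x ∈ S) (hxc : ∀ s ∈ S, s * x * s⁻¹ = x)
    (hcase : p ≠ 2 ∨ (∃ w ∈ S, (∀ s ∈ S, s * w * s⁻¹ = w) ∧ w ^ p = x) ∨ ¬ Cfsg.Involves (Equiv.Perm (Fin 4)) G)
    (hxp : ∀ g : G, g * x ^ p * g⁻¹ = x ^ p)
    (hJ : ∀ g ∈ normalizer ((Cfsg.thompsonSubgroupAOf S : Subgroup G) : Set G), g * x * g⁻¹ = x)
    (hA : ∀ A ∈ ZJ.Fam 0 S, ¬ A ≤ centralizer (V : Set G) → ∀ g : G,
      (∀ a ∈ A, a * (g * x * g⁻¹) * a⁻¹ = g * x * g⁻¹) → g * x * g⁻¹ = x)
    (hN : ∀ T : Subgroup G, T ≤ S → S ≤ normalizer (T : Set G) → ¬ T ≤ Cfsg.pCore p G →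
      ∀ g ∈ normalizer (T : Set G), g * x * g⁻¹ = x) : ∀ g : G, g * x * g⁻¹ = x := by
  classical
  haveI hQn := Cores.pCore_normal (G := G) p
  have hQp : IsPGroup p (Cfsg.pCore p G) := Cores.pCore_isPGroup p
  have hQS : Cfsg.pCore p G ≤ S := by
    obtain ⟨g, -, hg⟩ := hS.conj_le le_top hQp
    intro y hy
    have h2 := hQn.conj_mem y hy g⁻¹
    have h3 := hg _ h2
    have e : g * (g⁻¹ * y * g⁻¹⁻¹) * g⁻¹ = y := by group
    rwa [e] at h3
  haveI hVn : V.Normal := by rw [hVdef]; infer_instance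
  have hVQ : V ≤ Cfsg.pCore p G := by rw [hVdef]; exact inf_le_left
  have hVab : ∀ x ∈ V, ∀ y ∈ V, x * y = y * x := by
    intro x hx y hy
    rw [hVdef] at hx hy
    exact mem_centralizer_iff.1 hy.2 x hx.1
  have hVp : IsPGroup p V := hQp.to_le hVQ
  have hQC : Cfsg.pCore p G ≤ centralizer (V : Set G) := by
    intro y hy
    rw [mem_centralizer_iff]
    intro v hv
    rw [hVdef] at hv
    exact (mem_centralizer_iff.1 hv.2 y hy).symm
  have hcentV : ∀ w ∈ S, (∀ s ∈ S, s * w * s⁻¹ = w) → w ∈ V := by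
    intro w hwS hw
    have h1 : w ∈ centralizer (Cfsg.pCore p G : Set G) := by
      rw [mem_centralizer_iff]
      intro y hy
      have h2 := hw y (hQS hy)
      rwa [mul_inv_eq_iff_eq_mul] at h2
    rw [hVdef]; exact ⟨hc h1, h1⟩
  have hxV : x ∈ V := hcentV x hxS hxc
  have hPidx : ¬ p ∣ S.index := by
    have := hS.not_dvd
    rwa [relIndex_top_right] at this
  set C : Subgroup G := centralizer (V : Set G) with hC
  have hCx : ∀ g ∈ C, g * x * g⁻¹ = x := by
    intro g hg
    rw [← mem_centralizer_iff.1 hg x hxV]; group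
  -- Frattini
  have hfrat : ∀ K : Subgroup G, K.Normal → K ≤ C ⊔ (S ⊓ K) → ∀ g : G, ∃ c ∈ C, ∃ n ∈ normalizer ((S ⊓ K : Subgroup G) : Set G), g = c * n := by
    intro K hK hKC g
    have hT : SylIn p (S ⊓ K) K := hS.inf_normal le_top (by rw [normalizer_eq_top_iff.2 hK])
    obtain ⟨d, hd, h1⟩ := hT.frattini (g := g) fun y hy => hK.conj_mem y hy g
    have hn : d * g ∈ normalizer ((S ⊓ K : Subgroup G) : Set G) := GRep.mem_normalizer_of_map_le h1
    have hdC := hKC hd
    have hnC : C ≤ normalizer (C : Set G) := le_normalizer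
    have hnn : (S ⊓ K : Subgroup G) ≤ normalizer (C : Set G) := by
      haveI : C.Normal := by rw [hC]; infer_instance
      rw [normalizer_eq_top_iff.2 this]; exact le_top
    obtain ⟨c, hcC, t, ht, rfl⟩ := (Basic.mem_sup_iff_left hnn).1 hdC
    have htn : t ∈ normalizer ((S ⊓ K : Subgroup G) : Set G) := le_normalizer ht
    haveI : C.Normal := by rw [hC]; infer_instance
    refine ⟨t⁻¹ * c⁻¹ * t, ?_, t⁻¹ * ((c * t) * g), mul_mem (inv_mem htn) hn, by group⟩
    have := this.conj_mem c⁻¹ (inv_mem hcC) t⁻¹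
    rwa [inv_inv] at this
  have hCn : C.Normal := by rw [hC]; infer_instance
  by_cases hall : ∀ A ∈ ZJ.Fam 0 S, A ≤ C
  · -- factorization
    intro g
    obtain ⟨c, hcC, n, hn, rfl⟩ := hfrat C hCn le_sup_left g
    have hnJ : n ∈ normalizer ((Cfsg.thompsonSubgroupAOf S : Subgroup G) : Set G) := by
      rw [ZJ.thompsonA_eq]
      refine GRep.mem_normalizer_of_map_le ?_
      have h1 : sSup (ZJ.Fam 0 S) ≤ (sSup (ZJ.Fam 0 S)).comap (MulAut.conj n).toMonoidHom := by
        refine sSup_le fun A hA' => ?_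
        rw [← map_le_iff_le_comap]
        refine le_sSup (show A.map (MulAut.conj n).toMonoidHom ∈ ZJ.Fam 0 S from ⟨?_, hA'.2.1.map _, fun B hB hBa => ?_⟩)
        · rintro _ ⟨y, hy, rfl⟩
          have h2 : n * y * n⁻¹ ∈ (S ⊓ C : Subgroup G) := (mem_normalizer_iff.1 hn y).1 ⟨hA'.1 hy, hall A hA' hy⟩
          exact h2.1
        · rw [Cfsg.Agent.Lib.SylRel.card_map_conj]
          exact hA'.2.2 B hB hBa
      exact fun y hy => h1 hy
    have h2 : c * n * x * (c * n)⁻¹ = c * (n * x * n⁻¹) * c⁻¹ := by group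
    rw [h2, hJ n hnJ, hCx c hcC]
  push Not at hall
  obtain ⟨A₀, hA₀, hA₀C⟩ := hall
  obtain ⟨B, hB, hBC, hBq⟩ := exists_quad hVab (hVQ.trans hQS) (by rw [normalizer_eq_top_iff.2 hVn]; exact le_top) hS.isPGroup hA₀ hA₀C
  have hBp : IsPGroup p B := hS.isPGroup.to_le hB.1
  by_cases hp2 : p = 2
  swap
  · exact final (P := S) (m := 1) hVp hVab hBq hBp hxV (pow_one x) hPidx hxc hxp (hA B hB hBC) (Or.inl hp2)
  subst hp2
  rcases hcase with h | ⟨w, hwS, hwc, hwx⟩ | hfree
  · exact absurd rfl h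
  · exact final (P := S) (m := 2) hVp hVab hBq hBp (hcentV w hwS hwc) hwx hPidx hwc hxp (hA B hB hBC) (Or.inr (Or.inl ⟨rfl, rfl⟩))
  by_cases hO : Cfsg.pCore 2 (G ⧸ C) = ⊥
  · refine final (P := S) (m := 1) hVp hVab hBq hBp hxV (pow_one x) hPidx hxc hxp (hA B hB hBC) (Or.inr (Or.inr ⟨rfl, rfl, fun g hrel => ?_⟩))
    apply hfree
    -- the conjugate `v`
    set v := g * x * g⁻¹ with hv
    have hvV : v ∈ V := hVn.conj_mem x hxV g
    set B₀ : Subgroup G := B ⊓ centralizer {v} with hB₀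
    have hvB : v ∉ B := by
      intro hvB
      have h1 : B ⊓ centralizer {v} = B := by
        refine inf_eq_left.2 fun b hb => mem_centralizer_singleton_iff.2 (hB.2.1.1 b hb v hvB)
      rw [← hB₀] at h1
      rw [h1, relIndex_self] at hrel
      exact absurd hrel (by norm_num)
    have hcardB := relIndex_mul_card (inf_le_left : B ⊓ centralizer {v} ≤ B)
    rw [← hB₀, hrel] at hcardB
    -- the abelian group `B₀ ⟨v⟩`
    have hab : ∀ a ∈ B₀ ⊔ zpowers v, ∀ b ∈ B₀ ⊔ zpowers v, a * b = b * a := by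
      have key : B₀ ⊔ zpowers v ≤ centralizer ((B₀ ⊔ zpowers v : Subgroup G) : Set G) := by
        rw [QuadA.centralizer_sup]
        refine sup_le (le_inf ?_ ?_) (le_inf ?_ ?_)
        · intro a ha; exact mem_centralizer_iff.2 fun b hb => hB.2.1.1 b hb.1 a ha.1
        · intro a ha
          refine mem_centralizer_iff.2 fun b hb => ?_
          have h1 : Commute a v := mem_centralizer_singleton_iff.1 ha.2
          obtain ⟨k, rfl⟩ := hb
          exact (h1.zpow_right k).symm
        · rw [zpowers_le]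
          exact mem_centralizer_iff.2 fun b hb => mem_centralizer_singleton_iff.1 hb.2
        · exact fun a ha => mem_centralizer_iff.2 fun b hb => by
            obtain ⟨i, rfl⟩ := ha
            obtain ⟨j, rfl⟩ := hb
            exact ((Commute.refl v).zpow_zpow j i)
      intro a ha b hb
      exact (mem_centralizer_iff.1 (key ha) b hb).symm
    have hB'S : B₀ ⊔ zpowers v ≤ S := sup_le (inf_le_left.trans hB.1) (zpowers_le.2 (hQS (hVQ hvV)))
    have hlt : B₀ < B₀ ⊔ zpowers v := by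
      refine lt_of_le_of_ne le_sup_left fun h => hvB ?_
      have h1 : v ∈ B₀ := by rw [h]; exact mem_sup_right (mem_zpowers v)
      exact h1.1
    have hge : Nat.card B ≤ Nat.card ↥(B₀ ⊔ zpowers v) := by
      have h1 := relIndex_mul_card hlt.le
      have h2 : 2 ≤ B₀.relIndex (B₀ ⊔ zpowers v) := by
        have h3 : B₀.relIndex (B₀ ⊔ zpowers v) ≠ 1 := fun h => hlt.not_ge (relIndex_eq_one.1 h)
        have h4 : B₀.relIndex (B₀ ⊔ zpowers v) ≠ 0 := index_ne_zero_of_finite
        omega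
      rw [← h1, ← hcardB]
      exact Nat.mul_le_mul_right _ h2
    have hfam : B₀ ⊔ zpowers v ∈ ZJ.Fam 0 S := ⟨hB'S, ⟨hab, fun y _ => by rw [pow_zero]⟩, fun X hX hXa => (hB.2.2 X hX hXa).trans hge⟩
    have hvx : v ≠ x := by
      intro h
      have h1 : B ⊓ centralizer {v} = B := by
        refine inf_eq_left.2 fun b hb => mem_centralizer_singleton_iff.2 ?_
        have h2 := hxc b (hB.1 hb)
        rw [h]
        rwa [mul_inv_eq_iff_eq_mul] at h2
      rw [← hB₀] at h1
      rw [h1, relIndex_self] at hrel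
      exact absurd hrel (by norm_num)
    have hle : B₀ ⊔ zpowers v ≤ C := by
      by_contra hcon
      refine hvx (hA _ hfam hcon g fun a ha => ?_)
      rw [← hv, hab a ha v (mem_sup_right (mem_zpowers v))]; group
    have hB₀C : B₀ = B ⊓ C := by
      apply le_antisymm
      · exact le_inf inf_le_left (le_sup_left.trans hle)
      · refine inf_le_inf_left _ fun c hc' => mem_centralizer_singleton_iff.2 ?_
        exact (mem_centralizer_iff.1 hc' v hvV).symm
    -- an element outside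
    have hex : ∃ a ∈ B, a ∉ B₀ := by
      by_contra hcon
      push Not at hcon
      have h1 : B₀ = B := le_antisymm inf_le_left hcon
      rw [h1, relIndex_self] at hrel
      exact absurd hrel (by norm_num)
    obtain ⟨a, haB, haB₀⟩ := hex
    have haC : a ∉ C := fun h => haB₀ (by rw [hB₀C]; exact ⟨haB, h⟩)
    have hsq : ∀ b ∈ B, b ∉ B₀ → a * b ∈ B₀ := by
      intro b hb hbn
      have h1 : (B₀.subgroupOf B).index = 2 := hrel
      have h2 := (Subgroup.mul_mem_iff_of_index_two h1 (a := ⟨a, haB⟩) (b := ⟨b, hb⟩))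
      rw [mem_subgroupOf, mem_subgroupOf, mem_subgroupOf] at h2
      exact h2.2 ⟨fun h => absurd h haB₀, fun h => absurd h hbn⟩
    have ha2 : a ^ 2 ∈ C := by
      have h1 := hsq a haB haB₀
      rw [hB₀C] at h1
      rw [pow_two]; exact h1.2
    -- the centralizers of `a` and of `B` in `V`
    have hVa : V ⊓ centralizer {a} ≤ V ⊓ centralizer (B : Set G) := by
      refine le_inf inf_le_left fun y hy => mem_centralizer_iff.2 fun b hb => ?_
      have hya : y * a = a * y := mem_centralizer_singleton_iff.1 hy.2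
      by_cases hbB : b ∈ B₀
      · rw [hB₀C] at hbB
        exact (mem_centralizer_iff.1 hbB.2 y hy.1).symm
      · have h1 := hsq b hb hbB
        rw [hB₀C] at h1
        have h2 := mem_centralizer_iff.1 h1.2 y hy.1
        have h3 : a * (y * b) = a * (b * y) := by
          calc a * (y * b) = (a * y) * b := by group
            _ = y * (a * b) := by rw [← hya]; group
            _ = _ := by rw [h2]; group
        exact (mul_left_cancel h3).symm
    have hBab : ∀ y ∈ B₀ ⊔ V, ∀ z ∈ B₀ ⊔ V, y * z = z * y := by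
      have key : B₀ ⊔ V ≤ centralizer ((B₀ ⊔ V : Subgroup G) : Set G) := by
        rw [QuadA.centralizer_sup]
        refine sup_le (le_inf ?_ ?_) (le_inf ?_ ?_)
        · intro a ha; exact mem_centralizer_iff.2 fun b hb => hB.2.1.1 b hb.1 a ha.1
        · rw [hB₀C]; exact inf_le_right
        · intro y hy
          refine mem_centralizer_iff.2 fun b hb => ?_
          have hb' : b ∈ B₀ := hb
          rw [hB₀C] at hb'
          exact (mem_centralizer_iff.1 hb'.2 y hy).symm
        · intro y hy; exact mem_centralizer_iff.2 fun z hz => hVab z hz y hy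
      intro a ha b hb
      exact (mem_centralizer_iff.1 (key ha) b hb).symm
    have hle2 := hB.2.2 (B₀ ⊔ V) (sup_le (inf_le_left.trans hB.1) (hVQ.trans hQS)) ⟨hBab, fun y _ => by rw [pow_zero]⟩
    have hcs := card_sup_mul_inf_of_comm hBab (le_sup_left : B₀ ≤ B₀ ⊔ V) le_sup_right
    have hsub : B₀ ⊓ V ≤ V ⊓ centralizer {a} := by
      intro y hy
      refine ⟨hy.2, mem_centralizer_singleton_iff.2 ?_⟩
      exact hB.2.1.1 y hy.1.1 a haB
    have hidx : (V ⊓ centralizer {a}).relIndex V ≤ 2 := by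
      have h1 := relIndex_mul_card (inf_le_left : V ⊓ centralizer {a} ≤ V)
      have h2 := Subgroup.card_le_of_le hsub
      have h3 : Nat.card B₀ * Nat.card V ≤ Nat.card B * Nat.card ↥(V ⊓ centralizer {a}) := by
        rw [← hcs]; exact Nat.mul_le_mul hle2 h2
      rw [← hcardB, ← h1] at h3
      have h4 : 0 < Nat.card B₀ * Nat.card ↥(V ⊓ centralizer {a}) := Nat.mul_pos Nat.card_pos Nat.card_pos
      have h5 : (V ⊓ centralizer {a}).relIndex V * (Nat.card B₀ * Nat.card ↥(V ⊓ centralizer {a})) ≤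
          2 * (Nat.card B₀ * Nat.card ↥(V ⊓ centralizer {a})) := by
        calc _ = Nat.card B₀ * ((V ⊓ centralizer {a}).relIndex V * Nat.card ↥(V ⊓ centralizer {a})) := by ring
          _ ≤ _ := h3
          _ = _ := by ring
      exact Nat.le_of_mul_le_mul_right h5 h4
    exact s4_of_transv hVab hVp haC ha2 hidx hO
  · -- `O_2(G/C) ≠ 1`
    set K : Subgroup G := (Cfsg.pCore 2 (G ⧸ C)).comap (QuotientGroup.mk' C) with hK
    haveI hKn : K.Normal := by
      haveI := Cores.pCore_normal (G := G ⧸ C) 2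
      rw [hK]; infer_instance
    have hi : ¬ 2 ∣ S.index := hPidx
    have hKle : K ≤ C ⊔ (S ⊓ K) := by
      have h1 := QuadB.le_sup_sylow (ZJ.le_comap_pCore (p := 2) (C := C)) ZJ.relIndex_comap_pCore (hS.isPGroup.toSylow hi)
      exact h1
    have hTn : S ≤ normalizer ((S ⊓ K : Subgroup G) : Set G) := by
      intro s hs
      refine GRep.mem_normalizer_of_map_le fun y hy => ⟨S.mul_mem (S.mul_mem hs hy.1) (S.inv_mem hs), hKn.conj_mem y hy.2 s⟩
    have hTQ : ¬ (S ⊓ K : Subgroup G) ≤ Cfsg.pCore 2 G := by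
      intro h
      apply hO
      have h1 : K ≤ C := hKle.trans (sup_le le_rfl (h.trans hQC))
      rw [eq_bot_iff]
      intro y hy
      obtain ⟨g, rfl⟩ := QuotientGroup.mk'_surjective C y
      have h2 : g ∈ K := hy
      exact (QuotientGroup.eq_one_iff g).2 (h1 h2)
    intro g
    obtain ⟨c, hcC, n, hn, rfl⟩ := hfrat K hKn hKle g
    have h2 : c * n * x * (c * n)⁻¹ = c * (n * x * n⁻¹) * c⁻¹ := by group
    rw [h2, hN _ inf_le_left hTn hTQ n hn, hCx c hcC]

end Cfsg.Agent.Lib.GlcC
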