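import Cfsg.Agent.Lib.LabB

/-!
Labelled fusion systems, continued: every labelled automorphism of a fully normalized subgroup is good, and the
labels of the identity.
-/

set_option autoImplicit false
set_option linter.unusedSectionVars false
set_option linter.style.haveILetI false
set_option linter.unusedVariables false

namespace Cfsg.Agent.Lib.LabC

open Cfsg Cfsg.FusionSystem Cfsg.Agent.Lib.FusBase Cfsg.Agent.Lib.FusSat Cfsg.Agent.Lib.StrongEmb
open Cfsg.Agent.Lib.FusAlperin Cfsg.Agent.Lib.FusNormal Cfsg.Agent.Lib.FusNormalB Cfsg.Agent.Lib.SylRel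
open Cfsg.Agent.Lib.FusSub Cfsg.Agent.Lib.FusPuig Cfsg.Agent.Lib.FusNK Cfsg.Agent.Lib.FusNKB Cfsg.Agent.Lib.FusMor Cfsg.Agent.Lib.FusGroup
open Cfsg.Agent.Lib.FusHyp Cfsg.Agent.Lib.FusHypB Cfsg.Agent.Lib.LabA Cfsg.Agent.Lib.LabB

universe u

variable {Ω : Type u} [Group Ω] {S : Subgroup Ω} {F : FusionSystem S} {p : ℕ} [Finite S] [Fact p.Prime]
variable {P Q R K : Subgroup Ω} {f g h : Ω → Ω} {s t k : Ω}

/-- a map of `F` between subgroups of `N_S(P)` containing `P` and stabilizing `P` is a map of `N_F(P)` -/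
theorem norm_mor {E : FusionSystem (normalizerIn S P)} (hE : F.IsNormalizerSystem P E) (hP : P ≤ S) (hPR : P ≤ R)
    (hR : R ≤ normalizerIn S P) (hf : Mor F R f) (hfP : ∀ x ∈ P, f x ∈ P) : Mor E R f := by
  have hfin : Finite P := finite_of_le hP
  have hPP : Iso F P P f := (hf.restrict hPR).iso_of_map hfP
  rw [norm_iff hE]
  have hsup : R ⊔ P = R := sup_eq_left.2 hPR
  refine ⟨hR, fun x hx => ?_, f, by rw [hsup]; exact hf, fun _ _ => rfl, autOf hPP, trivial, fun x hx => ?_⟩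
  · have := map_normalizer hf hPR hx (mem_normalizerIn.1 (hR hx)).2
    rwa [hPP.img_eq] at this
  · rw [fn_mem _ hx]; rfl

theorem norm_F {E : FusionSystem (normalizerIn S P)} (hE : F.IsNormalizerSystem P E) (hf : Mor E R f) : Mor F R f :=
  FusNKB.NKMor.mor ((norm_iff hE).1 hf)

/-- `P` is normal in `N_F(P)` -/
theorem norm_normal {E : FusionSystem (normalizerIn S P)} (hE : F.IsNormalizerSystem P E) (hP : P ≤ S) : E.IsNormal P := by
  rw [isNormal_iff]
  refine ⟨le_normalizerIn hP, fun R f hf => ?_⟩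
  obtain ⟨hR, hfR, k, hk, hkf, κ, _, hκ⟩ := (norm_iff hE).1 hf
  have hkP : ∀ x ∈ P, k x ∈ P := fun x hx => by rw [hκ x hx]; exact fn_mem' _ hx
  have hfin : Finite P := finite_of_le hP
  refine ⟨k, norm_mor hE hP le_sup_right (sup_le hR (le_normalizerIn hP)) hk hkP, hkf, ?_⟩
  exact ((hk.restrict le_sup_right).iso_of_map hkP).img_eq

/-- maps of `N_F(P)` have good labels -/
theorem exists_good_lab (hS : IsPGroup p S) (hF : F.IsSaturated p) (hK : KS F p K) (hP : F.IsFullyNormalized P)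
    {E : FusionSystem (normalizerIn S P)} (hE : F.IsNormalizerSystem P E) :
    ∀ R f, Mor E R f → ∃ s g, Lab F p K (R ⊔ P) g s ∧ (∀ x ∈ R, g x = f x) ∧ (∀ x ∈ P, g x ∈ P) ∧
      BB F p K P hP.1 g s := by
  have hEs := norm_saturated hS hF hP hE
  have hNS : normalizerIn S P ≤ S := normalizerIn_le
  have hfinN : Finite ↥(normalizerIn S P) := finite_of_le hNS
  have hNp : IsPGroup p ↥(normalizerIn S P) := isPGroup_le hS hNS
  have hPN : P ≤ normalizerIn S P := le_normalizerIn hP.1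
  have hEn := norm_normal hE hP.1
  refine alperin hNp hEs (fun R f => ∃ s g, Lab F p K (R ⊔ P) g s ∧ (∀ x ∈ R, g x = f x) ∧ (∀ x ∈ P, g x ∈ P) ∧
      BB F p K P hP.1 g s) ?_ ?_ ?_ ?_ ?_
  · rintro R f g ⟨s, g', h1, h2, h3, h4⟩ hfg
    exact ⟨s, g', h1, fun x hx => by rw [h2 x hx, hfg x hx], h3, h4⟩
  · rintro R Q f g hf hg hfg ⟨s, f', h1, h2, h3, h4⟩ ⟨t, g', h1', h2', h3', h4'⟩
    have hmap : ∀ x ∈ R ⊔ P, f' x ∈ Q ⊔ P := by
      have h5 := h1.mor
      refine Mor_map_sup h5 (fun x hx => ?_) fun x hx => Subgroup.mem_sup_right (h3 x hx)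
      rw [h2 x hx]; exact Subgroup.mem_sup_left (hfg x hx)
    refine ⟨t * s, fun x => g' (f' x), h1.comp h1' hmap, fun x hx => ?_, fun x hx => h3' _ (h3 x hx), h4.comp hK h4'⟩
    show g' (f' x) = g (f x)
    rw [h2 x hx, h2' _ (hfg x hx)]
  · rintro R Q f g hf hg hgf hfg ⟨s, f', h1, h2, h3, h4⟩
    obtain ⟨g', hg', h5⟩ := h1.inv hK
    have hfinP : Finite P := finite_of_le hP.1
    have himP : img P f' = P := ((h1.mor.restrict le_sup_right).iso_of_map h3).img_eq
    have him : img (R ⊔ P) f' = Q ⊔ P := by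
      rw [img_sup h1.mor, himP, img_congr h2, hf.img_eq]
    rw [him] at hg'
    refine ⟨s⁻¹, g', hg', fun y hy => ?_, fun y hy => ?_, h4.inv hK fun x hx => h5 x (Subgroup.mem_sup_right hx)⟩
    · obtain ⟨x, hx, rfl⟩ := hf.mem_right.1 hy
      rw [hgf x hx, ← h2 x hx]
      exact h5 x (Subgroup.mem_sup_left hx)
    · rw [← himP] at hy
      obtain ⟨x, hx, rfl⟩ := (h1.mor.restrict le_sup_right).mem_img.1 hy
      rw [h5 x (Subgroup.mem_sup_right hx)]; exact hx
  · rintro R Q f hQ hf ⟨s, f', h1, h2, h3, h4⟩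
    exact ⟨s, f', h1.restrict (sup_le_sup_right hQ _), fun x hx => h2 x (hQ hx), h3, h4⟩
  · intro R hR f hf
    have hFN : E.IsFullyNormalized R := by
      rcases hR with rfl | h
      · exact S_FN E
      · exact h.2.1
    have hPR : P ≤ R := by
      rcases hR with rfl | h
      · exact hPN
      · exact normal_le_centric_radical hNp hEn h.1 (essential_radical hNp h)
    have hRN : R ≤ normalizerIn S P := hFN.1
    have hRS : R ≤ S := hRN.trans hNS
    have hsup : R ⊔ P = R := sup_eq_left.2 hPR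
    obtain ⟨β, hβ, x, hx, h1⟩ := FA_decomp hNp (FN_FA hNp hEs hFN) (autOf_mem hf)
    have hfx : ∀ y ∈ R, f y = fn (β : MulAut R) (x * y * x⁻¹) := by
      intro y hy
      rw [← (h1 y hy).2, fn_mem _ hy]; rfl
    -- inclusion of automorphism groups
    have hle : E.autGroup R ≤ F.autGroup R := by
      intro α hα
      rw [mem_autGroup hRN] at hα
      rw [mem_autGroup hRS]
      exact norm_F hE hα
    have hβF : Subgroup.inclusion hle β ∈ pResidual p (F.autGroup R) :=
      Cfsg.Agent.Lib.PRes.map_mem (p := p) (Subgroup.inclusion hle) hβ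
    -- restriction to P
    have hinvP : ∀ γ : E.autGroup R, ∀ y ∈ P, fn (γ : MulAut R) y ∈ P := by
      intro γ y hy
      exact StronglyClosed_mem (normal_stronglyClosed hEn) (iso_fn hRN γ.2).mor (hPR hy) hy
    have hres : ∀ γ : E.autGroup R, γ ∈ Subgroup.closure {γ : E.autGroup R | Nat.Coprime (orderOf γ) p} →
        ∃ γ' : F.autGroup P, γ' ∈ pResidual p (F.autGroup P) ∧ ∀ y ∈ P, fn (γ' : MulAut P) y = fn (γ : MulAut R) y := by
      have hfinP : Finite P := finite_of_le hP.1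
      have hex : ∀ γ : E.autGroup R, ∃ γ' : F.autGroup P, ∀ y ∈ P, fn (γ' : MulAut P) y = fn (γ : MulAut R) y := by
        intro γ
        have h2 : Iso F P P (fn (γ : MulAut R)) :=
          ((norm_F hE (iso_fn hRN γ.2).mor).restrict hPR).iso_of_map (hinvP γ)
        exact ⟨⟨autOf h2, autOf_mem h2⟩, fun y hy => by rw [fn_mem _ hy]; rfl⟩
      intro γ hγ
      induction hγ using Subgroup.closure_induction with
      | mem γ hγ =>
        obtain ⟨γ', h2⟩ := hex γ
        refine ⟨γ', Cfsg.Agent.Lib.PRes.mem_of_coprime ?_, h2⟩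
        refine Nat.Coprime.coprime_dvd_left ?_ hγ
        rw [orderOf_dvd_iff_pow_eq_one]
        have h3 : ∀ n : ℕ, ∀ y ∈ P, fn ((γ' ^ n : F.autGroup P) : MulAut P) y = fn ((γ ^ n : E.autGroup R) : MulAut R) y := by
          intro n
          induction n with
          | zero => intro y hy; rw [pow_zero, pow_zero]; exact (fn_one hy).trans (fn_one (hPR hy)).symm
          | succ n ih =>
            intro y hy
            rw [pow_succ, pow_succ, Subgroup.coe_mul, Subgroup.coe_mul, fn_mul _ _ hy, fn_mul _ _ (hPR hy), h2 y hy,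
              ih _ (hinvP γ y hy)]
        apply Subtype.ext
        refine fn_ext fun y hy => ?_
        rw [h3 _ y hy, pow_orderOf_eq_one]
        exact (fn_one (hPR hy)).trans (fn_one hy).symm
      | one => exact ⟨1, Subgroup.one_mem _, fun y hy => (fn_one hy).trans (fn_one (hPR hy)).symm⟩
      | mul a b _ _ iha ihb =>
        obtain ⟨a', ha', h2⟩ := iha
        obtain ⟨b', hb', h3⟩ := ihb
        refine ⟨a' * b', Subgroup.mul_mem _ ha' hb', fun y hy => ?_⟩
        rw [Subgroup.coe_mul, Subgroup.coe_mul, fn_mul _ _ hy, fn_mul _ _ (hPR hy), h3 y hy, h2 _ (hinvP b y hy)]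
      | inv a _ iha =>
        obtain ⟨a', ha', h2⟩ := iha
        refine ⟨a'⁻¹, Subgroup.inv_mem _ ha', fun y hy => ?_⟩
        have hy' : fn ((a⁻¹ : E.autGroup R) : MulAut R) y ∈ P := hinvP a⁻¹ y hy
        have h3 := h2 _ hy'
        have h4 : fn (a : MulAut R) (fn ((a⁻¹ : E.autGroup R) : MulAut R) y) = y := fn_fn_inv _ (hPR hy)
        rw [h4] at h3
        have h5 : fn ((a'⁻¹ : F.autGroup P) : MulAut P) (fn (a' : MulAut P) (fn ((a⁻¹ : E.autGroup R) : MulAut R) y)) =
          fn ((a⁻¹ : E.autGroup R) : MulAut R) y := fn_inv_fn _ hy'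
        rw [h3] at h5
        exact h5
    obtain ⟨β', hβ', hββ'⟩ := hres β hβ
    have hL1 : Lab F p K R f (1 * x) :=
      ((Lab.conj hRS (hNS hx)).comp (Lab.res hRS _ hβF) fun y hy => (h1 y hy).1).congr fun y hy => (hfx y hy).symm
    have hB1 : BB F p K P hP.1 f (1 * x) := by
      have hxN : x ∈ normalizerIn S P := hx
      have h2 := (BB.conj (F := F) (p := p) (K := K) (hP := hP.1) hxN).comp hK (BB.res hβ')
      refine h2.congr fun y hy => ?_
      show fn (β' : MulAut P) (x * y * x⁻¹) = f y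
      rw [hββ' _ (normalizerIn_conj_mem hxN hy), hfx y (hPR hy)]
    exact ⟨1 * x, f, by rw [hsup]; exact hL1, fun _ _ => rfl, hB1.map, hB1⟩

/-- the labels of a map on an intermediate subgroup -/
theorem step4 (hS : IsPGroup p S) (hF : F.IsSaturated p) (hK : KS F p K) (hP : F.IsFullyNormalized P)
    (hIH : ∀ R : Subgroup Ω, Nat.card P < Nat.card R → ∀ hR : F.IsFullyNormalized R, LP F p K R hR.1)
    (hPR : P < R) (hR : R ≤ normalizerIn S P) (hf : Lab F p K R f s) (hfP : ∀ x ∈ P, f x ∈ P) : BB F p K P hP.1 f s := by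
  obtain ⟨E, hE⟩ := exists_norm F hP.1
  have hEs := norm_saturated hS hF hP hE
  have hNS : normalizerIn S P ≤ S := normalizerIn_le
  have hfinN : Finite ↥(normalizerIn S P) := finite_of_le hNS
  have hNp : IsPGroup p ↥(normalizerIn S P) := isPGroup_le hS hNS
  have hgood := exists_good_lab hS hF hK hP hE
  have hRS : R ≤ S := hR.trans hNS
  have hfinR : Finite R := finite_of_le hRS
  -- good label for f
  obtain ⟨s₀, g₀, h1, h2, h3, h4⟩ := hgood R f (norm_mor hE hP.1 hPR.le hR hf.mor hfP)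
  have hsup : R ⊔ P = R := sup_eq_left.2 hPR.le
  rw [hsup] at h1
  have h1 : Lab F p K R f s₀ := h1.congr h2
  have h4 : BB F p K P hP.1 f s₀ := h4.congr fun x hx => h2 x (hPR.le hx)
  have he : Lab F p K R (fun x => x) (s₀⁻¹ * s) := by
    obtain ⟨g', hg', h5⟩ := h1.inv hK
    exact (hf.comp hg' fun x hx => mem_img_of_mem hx).congr h5
  -- move R
  obtain ⟨R', hRR', hR'⟩ := exists_FN E hR
  obtain ⟨ρ, hρ⟩ := isConj_iff.1 hRR'
  obtain ⟨r, g₁, h5, h6, h7, h8⟩ := hgood R ρ hρ.mor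
  rw [hsup] at h5
  have h5 : Lab F p K R ρ r := h5.congr h6
  have h8 : BB F p K P hP.1 ρ r := h8.congr fun x hx => h6 x (hPR.le hx)
  have hrS := h5.mem hK.le
  have hR'N : R' ≤ normalizerIn S P := hρ.le_right
  have hfinP : Finite P := finite_of_le hP.1
  have hρP : Iso F P P ρ := ((norm_F hE hρ.mor).restrict hPR.le).iso_of_map h8.map
  have hPR' : P ≤ R' := by
    intro x hx
    obtain ⟨y, hy, rfl⟩ := hρP.mem_right.1 hx
    exact hρ.map_mem (hPR.le hy)
  have he' : Lab F p K R' (fun x => x) (r * (s₀⁻¹ * s) * r⁻¹) := by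
    obtain ⟨g', hg', h9⟩ := h5.inv hK
    rw [hρ.img_eq] at hg'
    have h10 : ∀ y ∈ R', g' y ∈ R := by
      intro y hy
      obtain ⟨x, hx, rfl⟩ := hρ.mem_right.1 hy
      rw [h9 x hx]; exact hx
    have h11 := (hg'.comp he h10).comp h5 h10
    rw [← mul_assoc] at h11
    refine h11.congr fun y hy => ?_
    obtain ⟨x, hx, rfl⟩ := hρ.mem_right.1 hy
    show ρ (g' (ρ x)) = ρ x
    rw [h9 x hx]
  -- R' is fully centralized in F
  have hcent : ∀ Q : Subgroup Ω, P ≤ Q → centralizerIn (normalizerIn S P) Q = centralizerIn S Q := by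
    intro Q hPQ
    apply le_antisymm
    · intro x hx
      rw [mem_centralizerIn] at hx ⊢
      exact ⟨hNS hx.1, hx.2⟩
    · intro x hx
      rw [mem_centralizerIn] at hx ⊢
      refine ⟨centralizerIn_le_normalizerIn (mem_centralizerIn.2 ⟨hx.1, fun y hy => hx.2 y (hPQ hy)⟩), hx.2⟩
  have hFC : F.IsFullyCentralized R' := by
    refine ⟨hR'N.trans hNS, fun Q hQ => ?_⟩
    obtain ⟨θ, hθ⟩ := isConj_iff.1 hQ
    set P₂ := img P θ with hP₂
    have hθP : Iso F P P₂ θ := (hθ.mor.restrict hPR').iso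
    obtain ⟨θ', hθ', h9, h10⟩ := hθP.symm
    obtain ⟨a, G, ha, hG, hGa, hGN⟩ := extend_to_FN hS hF hP hθ'
    have hQN : Q ≤ normalizerIn S P₂ := by
      intro y hy
      obtain ⟨x, hx, rfl⟩ := hθ.mem_right.1 hy
      have := map_normalizer hθ.mor hPR' hx (mem_normalizerIn.1 (hR'N hx)).2
      exact this
    have hGP : ∀ x ∈ P₂, G x ∈ P := by
      intro x hx
      rw [hGa x hx]
      exact ha.map_mem (hθ'.map_mem hx)
    have hθG : Mor F R' (fun x => G (θ x)) := hθ.mor.comp hG fun x hx => hQN (hθ.map_mem hx)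
    have hEG : Mor E R' (fun x => G (θ x)) :=
      norm_mor hE hP.1 hPR' hR'N hθG fun x hx => hGP _ (hθP.map_mem hx)
    have hEc : E.IsConj R' (img R' (fun x => G (θ x))) := hEG.iso.isConj
    have h11 := (FN_FC hNp hEs hR').2 _ hEc
    have him : img R' (fun x => G (θ x)) = img Q G := by
      rw [← img_img _ _ hθ.mor, hθ.img_eq]
    have hP₂Q : P₂ ≤ Q := by
      rw [hP₂, ← hθ.img_eq]; exact img_mono hPR'
    have hPim : P ≤ img R' (fun x => G (θ x)) := by
      have hf1 : Iso F P P (fun x => G (θ x)) := (hθG.restrict hPR').iso_of_map fun x hx => hGP _ (hθP.map_mem hx)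
      rw [← hf1.img_eq]
      exact img_mono hPR'
    rw [hcent _ hPR', hcent _ hPim, him] at h11
    have hCN : centralizerIn S Q ≤ normalizerIn S P₂ := by
      intro x hx
      rw [mem_centralizerIn] at hx
      exact centralizerIn_le_normalizerIn (mem_centralizerIn.2 ⟨hx.1, fun y hy => hx.2 y (hP₂Q hy)⟩)
    refine le_trans ?_ h11
    have h12 : ∀ x ∈ centralizerIn S Q, G x ∈ centralizerIn S (img Q G) := fun x hx =>
      map_centralizer hG hQN (hCN hx) hx
    have hfinC : Finite ↥(centralizerIn S (img Q G)) := finite_of_le centralizerIn_le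
    have hGC : Mor F (centralizerIn S Q) G := hG.restrict hCN
    rw [hGC.iso.card_eq]
    exact Subgroup.card_le_of_le (img_le_iff.2 h12)
  -- conclusion
  obtain ⟨R₃, hR₃c, hR₃⟩ := exists_FN F hFC.1
  have hcard : Nat.card P < Nat.card R₃ := by
    rw [← isConj_card hR₃c, ← isConj_card hRR']
    exact lt_of_le_of_ne (Subgroup.card_le_of_le hPR.le) fun h' => hPR.ne (Subgroup.eq_of_le_of_card_ge hPR.le h'.ge)
  obtain ⟨k, hk, c, hc, hkc⟩ := ker_of_LP hS hF hK hR₃ (hIH R₃ hcard hR₃) hFC hR₃c he'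
  obtain ⟨β, hβ, x, k', hk', hr, h13⟩ := h8
  have hxS := (mem_normalizerIn.1 x.2).1
  have hcP : c ∈ centralizerIn S P := by
    rw [mem_centralizerIn] at hc ⊢
    exact ⟨hc.1, fun y hy => hc.2 y (hPR' hy)⟩
  have hcS := (mem_centralizerIn.1 hcP).1
  have hc' : (x : Ω)⁻¹ * c * x ∈ centralizerIn S P := by
    rw [mem_centralizerIn]
    refine ⟨S.mul_mem (S.mul_mem (S.inv_mem hxS) hcS) hxS, fun y hy => ?_⟩
    have h14 := (mem_centralizerIn.1 hcP).2 _ (normalizerIn_conj_mem x.2 hy)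
    have h15 : y * ((x : Ω)⁻¹ * c * x) = (x : Ω)⁻¹ * (((x : Ω) * y * (x : Ω)⁻¹) * c) * x := by group
    rw [h15, h14]; group
  set c' := (x : Ω)⁻¹ * c * x with hc'def
  have hc'S := (mem_centralizerIn.1 hc').1
  have hBc : BB F p K P hP.1 (fun y => y) c' := by
    refine (BB.conj (F := F) (p := p) (K := K) (hP := hP.1) (centralizerIn_le_normalizerIn hc')).congr fun y hy => ?_
    show c' * y * c'⁻¹ = y
    rw [← (mem_centralizerIn.1 hc').2 y hy]; group
  have h16 := hBc.comp hK h4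
  refine (h16.lab ?_)
  -- (s₀ c')⁻¹ s ∈ K
  have h17 : s₀⁻¹ * s = r⁻¹ * (k * c) * r := by rw [← hkc]; group
  have h18 : (s₀ * c')⁻¹ * s = c'⁻¹ * (s₀⁻¹ * s) := by group
  rw [h18, h17, hr, hc'def]
  have h19 : ((x : Ω)⁻¹ * c * x)⁻¹ * (((x : Ω) * k')⁻¹ * (k * c) * (x * k')) =
      (((x : Ω)⁻¹ * c * x)⁻¹ * k'⁻¹ * ((x : Ω)⁻¹ * c * x)) * (((x : Ω)⁻¹ * c * x)⁻¹ * ((x : Ω)⁻¹ * k * x) * ((x : Ω)⁻¹ * c * x)) * k' := by
    group
  rw [h19, ← hc'def]
  exact K.mul_mem (K.mul_mem (hK.norm' hc'S (K.inv_mem hk')) (hK.norm' hc'S (hK.norm' hxS hk))) hk'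

/-- elementary steps -/
theorem step3 (hS : IsPGroup p S) (hF : F.IsSaturated p) (hK : KS F p K) (hP : F.IsFullyNormalized P) (hPS : P < S)
    (hIH : ∀ R : Subgroup Ω, Nat.card P < Nat.card R → ∀ hR : F.IsFullyNormalized R, LP F p K R hR.1) :
    ∀ R f s, Lab F p K R f s → ∀ P' ≤ R, ∀ χ r χ' r', Lab F p K (normalizerIn S P') χ r → img P' χ = P →
      Lab F p K (normalizerIn S (img P' f)) χ' r' → img (img P' f) χ' = P →
      ∀ h : Ω → Ω, (∀ x ∈ P', h (χ x) = χ' (f x)) → BB F p K P hP.1 h (r' * s * r⁻¹) := by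
  have hfinP : Finite P := finite_of_le hP.1
  -- the principle
  have prin : ∀ M f s P', P' < M → M ≤ normalizerIn S P' → Lab F p K M f s → ∀ χ r χ' r',
      Lab F p K (normalizerIn S P') χ r → img P' χ = P →
      Lab F p K (normalizerIn S (img P' f)) χ' r' → img (img P' f) χ' = P →
      ∀ h : Ω → Ω, (∀ x ∈ P', h (χ x) = χ' (f x)) → BB F p K P hP.1 h (r' * s * r⁻¹) := by
    intro M f s P' hM hMN hf χ r χ' r' hχ hχP hχ' hχ'P h hh
    have hP'S : P' ≤ S := hM.le.trans hf.le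
    have hP'N := le_normalizerIn hP'S
    have hχM := hχ.restrict hMN
    obtain ⟨g', hg', h1⟩ := hχM.inv hK
    have hg'M : ∀ y ∈ img M χ, g' y ∈ M := by
      intro y hy
      obtain ⟨x, hx, rfl⟩ := hχM.mor.mem_img.1 hy
      rw [h1 x hx]; exact hx
    have hfN : ∀ x ∈ M, f x ∈ normalizerIn S (img P' f) := fun x hx =>
      map_normalizer hf.mor hM.le hx (mem_normalizerIn.1 (hMN hx)).2
    have hL : Lab F p K (img M χ) (fun y => χ' (f (g' y))) (r' * s * r⁻¹) := by
      have := (hg'.comp hf hg'M).comp hχ' (fun y hy => hfN _ (hg'M y hy))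
      rwa [← mul_assoc] at this
    have hPM : P < img M χ := by
      rw [← hχP]
      refine lt_of_le_of_ne (img_mono hM.le) fun e => ?_
      have h2 : Nat.card P' = Nat.card (img P' χ) := (hχM.mor.restrict hM.le).iso.card_eq
      have h3 : Nat.card M = Nat.card (img M χ) := hχM.mor.iso.card_eq
      have hfM : Finite M := finite_of_le hf.le
      apply hM.ne
      refine Subgroup.eq_of_le_of_card_ge hM.le ?_
      rw [h3, ← e, ← h2]
    have hMN' : img M χ ≤ normalizerIn S P := by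
      intro y hy
      obtain ⟨x, hx, rfl⟩ := hχM.mor.mem_img.1 hy
      have := map_normalizer hχM.mor hM.le hx (mem_normalizerIn.1 (hMN hx)).2
      rwa [hχP] at this
    have hval : ∀ x ∈ P', χ' (f (g' (χ x))) = h (χ x) := by
      intro x hx
      rw [h1 x (hM.le hx), hh x hx]
    have hmapP : ∀ y ∈ P, χ' (f (g' y)) ∈ P := by
      intro y hy
      rw [← hχP] at hy
      obtain ⟨x, hx, rfl⟩ := (hχM.mor.restrict hM.le).mem_img.1 hy
      rw [h1 x (hM.le hx), ← hχ'P]
      exact mem_img_of_mem (mem_img_of_mem hx)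
    have h4 := step4 hS hF hK hP hIH hPM hMN' hL hmapP
    refine h4.congr fun y hy => ?_
    rw [← hχP] at hy
    obtain ⟨x, hx, rfl⟩ := (hχM.mor.restrict hM.le).mem_img.1 hy
    exact hval x hx
  have hlt : ∀ P' χ r, Lab F p K (normalizerIn S P') χ r → img P' χ = P → P' ≤ S → P' < normalizerIn S P' := by
    intro P' χ r hχ hχP hP'S
    refine lt_normalizerIn hS (lt_of_le_of_ne hP'S ?_)
    rintro rfl
    have h2 : Nat.card P' = Nat.card (img P' χ) := (hχ.mor.restrict (le_normalizerIn hP'S)).iso.card_eq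
    rw [hχP] at h2
    exact hPS.ne (Subgroup.eq_of_le_of_card_ge hPS.le h2.le)
  intro R f s hRf
  induction hRf with
  | @conj R s hR hs =>
    intro P' hP' χ r χ' r' hχ hχP hχ' hχ'P h hh
    have hP'S := hP'.trans hR
    exact prin (normalizerIn S P') _ s P' (hlt P' χ r hχ hχP hP'S) le_rfl (Lab.conj normalizerIn_le hs) χ r χ' r' hχ hχP hχ' hχ'P h hh
  | @res R hR β hβ =>
    intro P' hP' χ r χ' r' hχ hχP hχ' hχ'P h hh
    have hP'S := hP'.trans hR
    by_cases hPR : P' = R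
    · subst hPR
      have him : img P' (fn (β : MulAut P')) = P' := (iso_fn hR β.2).img_eq
      rw [him] at hχ' hχ'P
      have hP'N := le_normalizerIn hP'S
      have hχi : Iso F P' P χ := ⟨hχ.mor.restrict hP'N, hχP⟩
      obtain ⟨χ₁, hχ₁, h1, h2⟩ := hχi.symm
      -- χ' χ⁻¹
      have h3 : BB F p K P hP.1 (fun y => χ' (χ₁ y)) (r' * 1 * r⁻¹) := by
        have himid : img P' (fun x => x) = P' := img_id
        refine prin (normalizerIn S P') (fun x => x) 1 P' (hlt P' χ r hχ hχP hP'S) le_rfl (Lab.one normalizerIn_le) χ r χ' r' hχ hχP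
          (by rw [himid]; exact hχ') (by rw [himid]; exact hχ'P) _ fun x hx => ?_
        show χ' (χ₁ (χ x)) = χ' x
        rw [h1 x hx]
      -- χ β χ⁻¹
      have h4 : autEquiv hχi β ∈ pResidual p (F.autGroup P) :=
        Cfsg.Agent.Lib.PRes.map_mem (p := p) (autEquiv hχi).toMonoidHom hβ
      have h5 := (BB.res (F := F) (p := p) (K := K) (hP := hP.1) h4).comp hK h3
      have h6 : r' * 1 * r⁻¹ * 1 = r' * 1 * r⁻¹ := mul_one _
      rw [h6] at h5
      refine h5.congr fun y hy => ?_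
      obtain ⟨x, hx, rfl⟩ := hχi.mem_right.1 hy
      show χ' (χ₁ (fn ((autEquiv hχi β : F.autGroup P) : MulAut P) (χ x))) = h (χ x)
      rw [autEquiv_fn hχi β hx, h1 _ (fn_mem' _ hx), hh x hx]
    · have hlt' : P' < R := lt_of_le_of_ne hP' hPR
      have hfR : Finite R := finite_of_le hR
      have h1 := lt_normalizerIn' (isPGroup_le hS hR) hlt'
      refine prin (R ⊓ Subgroup.normalizer (P' : Set Ω)) _ 1 P' h1 (fun x hx => mem_normalizerIn.2 ⟨hR hx.1, hx.2⟩)
        ((Lab.res hR β hβ).restrict inf_le_left) χ r χ' r' hχ hχP hχ' hχ'P h hh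
  | @lab R f s k hf hk ih =>
    intro P' hP' χ r χ' r' hχ hχP hχ' hχ'P h hh
    refine (ih P' hP' χ r χ' r' hχ hχP hχ' hχ'P h hh).lab ?_
    have hrS := hχ.mem hK.le
    have : (r' * s * r⁻¹)⁻¹ * (r' * (s * k) * r⁻¹) = r * k * r⁻¹ := by group
    rw [this]
    exact hK.norm r hrS _ hk
  | @comp R Q f g s t hf hg hfg ih1 ih2 =>
    intro P' hP' χ r χ' r' hχ hχP hχ' hχ'P h hh
    have hfP' := hf.mor.restrict hP'
    set P₁ := img P' f with hP₁
    have hP₁Q : P₁ ≤ Q := img_le_iff.2 fun x hx => hfg x (hP' hx)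
    have him : img P' (fun x => g (f x)) = img P₁ g := (img_img f g hfP').symm
    rw [him] at hχ' hχ'P
    have hP'S : P' ≤ S := hfP'.le
    have hP'N := le_normalizerIn hP'S
    have hP₁S : P₁ ≤ S := hP₁Q.trans hg.le
    -- a good map for P₁
    have hχi : Iso F P' P χ := ⟨hχ.mor.restrict hP'N, hχP⟩
    obtain ⟨χ₁, hχ₁, h1, h2⟩ := hfP'.iso.symm
    obtain ⟨a, G, ha, hG, hGa, hGN⟩ := extend_to_FN hS hF hP (hχ₁.trans hχi)
    obtain ⟨r₁, hr₁⟩ := Lab.exists_lab hS hF hK _ _ hG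
    have hGi : img P₁ G = P := by
      have h3 : Iso F P₁ P (fun x => a (χ (χ₁ x))) := (hχ₁.trans hχi).trans ha
      rw [img_congr hGa]; exact h3.img_eq
    -- inverse functions
    obtain ⟨χm, hχm, h3, h4⟩ := hχi.symm
    have hGi' : Iso F P₁ P G := ⟨hG.restrict (le_normalizerIn hP₁S), hGi⟩
    obtain ⟨Gm, hGm, h5, h6⟩ := hGi'.symm
    have hA := ih1 P' hP' χ r G r₁ hχ hχP hr₁ hGi (fun y => G (f (χm y))) (fun x hx => by
      show G (f (χm (χ x))) = G (f x); rw [h3 x hx])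
    have hB := ih2 P₁ hP₁Q G r₁ χ' r' hr₁ hGi hχ' hχ'P (fun y => χ' (g (Gm y))) (fun x hx => by
      show χ' (g (Gm (G x))) = χ' (g x); rw [h5 x hx])
    have hAB := hA.comp hK hB
    have h7 : r' * t * r₁⁻¹ * (r₁ * s * r⁻¹) = r' * (t * s) * r⁻¹ := by group
    rw [h7] at hAB
    refine hAB.congr fun y hy => ?_
    obtain ⟨x, hx, rfl⟩ := hχi.mem_right.1 hy
    show χ' (g (Gm (G (f (χm (χ x)))))) = h (χ x)
    rw [h3 x hx, h5 _ (mem_img_of_mem hx), hh x hx]
  | @restrict R Q f s hf hQ ih =>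
    intro P' hP'
    exact ih P' (hP'.trans hQ)
  | @congr R f g s hf hfg ih =>
    intro P' hP' χ r χ' r' hχ hχP hχ' hχ'P h hh
    have him : img P' f = img P' g := img_congr fun x hx => hfg x (hP' hx)
    rw [← him] at hχ' hχ'P
    exact ih P' hP' χ r χ' r' hχ hχP hχ' hχ'P h fun x hx => by rw [hh x hx, hfg x (hP' hx)]

theorem LP_all (hS : IsPGroup p S) (hF : F.IsSaturated p) (hK : KS F p K) :
    ∀ P, ∀ hP : F.IsFullyNormalized P, LP F p K P hP.1 := by
  intro P
  induction hn : Nat.card S - Nat.card P using Nat.strong_induction_on generalizing P with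
  | _ n ih =>
  intro hP
  by_cases hPS : P = S
  · subst hPS
    exact LP_S hK
  have hPlt : P < S := lt_of_le_of_ne hP.1 hPS
  have hIH : ∀ R : Subgroup Ω, Nat.card P < Nat.card R → ∀ hR : F.IsFullyNormalized R, LP F p K R hR.1 := by
    intro R hPR hR
    have := Subgroup.card_le_of_le hR.1
    exact ih _ (by omega) R rfl hR
  intro f s hf hfP
  have hfin : Finite P := finite_of_le hP.1
  have hPP : Iso F P P f := hf.mor.iso_of_map hfP
  have h1 : img P f = P := hPP.img_eq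
  have h2 : img P (fun x => x) = P := img_id
  have h3 := step3 hS hF hK hP hPlt hIH P f s hf P le_rfl (fun x => x) 1 (fun x => x) 1 (Lab.one normalizerIn_le) h2
    (Lab.one normalizerIn_le) (by rw [h1]; exact h2) f (fun x _ => rfl)
  rwa [one_mul, inv_one, mul_one] at h3

/-- **labels of the identity** -/
theorem ker (hS : IsPGroup p S) (hF : F.IsSaturated p) (hK : KS F p K) (hQ : F.IsFullyCentralized Q) {e : Ω}
    (he : Lab F p K Q (fun x => x) e) : ∃ k ∈ K, ∃ c ∈ centralizerIn S Q, e = k * c := by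
  obtain ⟨R, hQR, hR⟩ := exists_FN F hQ.1
  exact ker_of_LP hS hF hK hR (LP_all hS hF hK R hR) hQ hQR he

/-- **extension of labelled maps** -/
theorem ext_lab (hS : IsPGroup p S) (hF : F.IsSaturated p) (hK : KS F p K) (hQ : F.IsFullyCentralized Q)
    (hf : Lab F p K P f s) (hPQ : img P f = Q) :
    ∃ g, Lab F p K (Nx S P f) g s ∧ ∀ x ∈ P, g x = f x := by
  have hPi : Iso F P Q f := ⟨hf.mor, hPQ⟩
  obtain ⟨G, hG, hGf⟩ := (receptive_iff.1 (FC_receptive hS hF hQ)).2 P f hPi
  obtain ⟨t, ht⟩ := Lab.exists_lab hS hF hK _ _ hG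
  have hPN : P ≤ Nx S P f := hf.mor.le_Nx
  have h1 : Lab F p K P f t := (ht.restrict hPN).congr hGf
  have he : Lab F p K Q (fun x => x) (s * t⁻¹) := by
    obtain ⟨g', hg', h5⟩ := h1.inv hK
    rw [hPQ] at hg'
    have h6 : ∀ y ∈ Q, g' y ∈ P := by
      intro y hy
      obtain ⟨x, hx, rfl⟩ := hPi.mem_right.1 hy
      rw [h5 x hx]; exact hx
    refine (hg'.comp hf h6).congr fun y hy => ?_
    obtain ⟨x, hx, rfl⟩ := hPi.mem_right.1 hy
    show f (g' (f x)) = f x
    rw [h5 x hx]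
  obtain ⟨k, hk, c, hc, hkc⟩ := ker hS hF hK hQ he
  have hcS := (mem_centralizerIn.1 hc).1
  have hc2 := (mem_centralizerIn.1 hc).2
  refine ⟨fun x => c * G x * c⁻¹, ((ht.comp (Lab.conj (F := F) (p := p) (K := K) le_rfl hcS) fun x hx => hG.mem hx).labl hK ?_), fun x hx => ?_⟩
  · have h7 : s = k * c * t := by rw [← hkc]; group
    rw [h7]
    have : k * c * t * (c * t)⁻¹ = k := by group
    rw [this]; exact hk
  · show c * G x * c⁻¹ = f x
    rw [hGf x hx, ← hc2 _ (hPi.map_mem hx)]; group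

end Cfsg.Agent.Lib.LabC
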