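import Cfsg.Agent.Lib.ThC
import Cfsg.Agent.Lib.GlcC
import Cfsg.Agent.Lib.LabC

/-!
Glauberman's theorem on central elements for fusion systems.
-/

set_option autoImplicit false
set_option linter.unusedSectionVars false
set_option linter.style.haveILetI false
set_option linter.unusedVariables false

namespace Cfsg.Agent.Lib.GlcD

open Cfsg Cfsg.FusionSystem Cfsg.Agent.Lib.FusBase Cfsg.Agent.Lib.FusSat Cfsg.Agent.Lib.StrongEmb
open Cfsg.Agent.Lib.FusAlperin Cfsg.Agent.Lib.FusNormal Cfsg.Agent.Lib.FusNormalB Cfsg.Agent.Lib.SylRel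
open Cfsg.Agent.Lib.FusSub Cfsg.Agent.Lib.FusPuig Cfsg.Agent.Lib.FusNK Cfsg.Agent.Lib.FusNKB Cfsg.Agent.Lib.FusMor Cfsg.Agent.Lib.FusGroup
open Cfsg.Agent.Lib.FusHyp Cfsg.Agent.Lib.FusHypB Cfsg.Agent.Lib.FusInv Cfsg.Agent.Lib.FusInvB Cfsg.Agent.Lib.FusModel
open Cfsg.Agent.Lib.MdlA Cfsg.Agent.Lib.MdlB Cfsg.Agent.Lib.MdlC Cfsg.Agent.Lib.MdlD Cfsg.Agent.Lib.PNilp
open Cfsg.Agent.Lib.NilA Cfsg.Agent.Lib.NilB Cfsg.Agent.Lib.NilC Cfsg.Agent.Lib.NilE Cfsg.Agent.Lib.CSecA Cfsg.Agent.Lib.CSecB Cfsg.Agent.Lib.FusSimple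
open Cfsg.Agent.Lib.QfA Cfsg.Agent.Lib.QfB Cfsg.Agent.Lib.QfC Cfsg.Agent.Lib.QfD Cfsg.Agent.Lib.QfE Cfsg.Agent.Lib.QfG Cfsg.Agent.Lib.Involve
open Cfsg.Agent.Lib.ThfA Cfsg.Agent.Lib.ThC

open scoped commutatorElement

universe u

variable {Ω : Type u} [Group Ω] {S : Subgroup Ω} {F : FusionSystem S} {p : ℕ} [Finite S] [Fact p.Prime]
variable {P Q R X Y : Subgroup Ω} {f g h : Ω → Ω} {s t k z : Ω}

/-- `z` is fixed by all maps normalizing `X` -/
def AX (F : FusionSystem S) (z : Ω) (X : Subgroup Ω) : Prop :=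
  ∀ R ψ, Mor F R ψ → X ≤ R → (∀ x ∈ X, ψ x ∈ X) → z ∈ R → ψ z = z

theorem z_mem_of_cent (hzS : z ∈ S) (hzc : ∀ s ∈ S, s * z = z * s) (hP : P ≤ S) (h : centralizerIn S P ≤ P) : z ∈ P :=
  h (mem_centralizerIn.2 ⟨hzS, fun x hx => hzc x (hP hx)⟩)

theorem star (hS : IsPGroup p S) (hF : F.IsSaturated p) (hzS : z ∈ S) (hzc : ∀ s ∈ S, s * z = z * s)
    {C : Subgroup Ω → Prop} (hconj : ∀ X ψ, C X → Mor F X ψ → C (img X ψ)) (hup : ∀ X Y, C X → X ≤ Y → Y ≤ S → C Y)
    (hS0 : ∀ f, Iso F S S f → f z = z) {n : ℕ} (hAX : ∀ Y, C Y → n < Nat.card (normalizerIn S Y) → AX F z Y) :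
    ∀ R ψ, Mor F R ψ → C R → n ≤ Nat.card R → ∀ x ∈ R, (x = z ↔ ψ x = z) := by
  refine alperin hS hF (fun R ψ => C R → n ≤ Nat.card R → ∀ x ∈ R, (x = z ↔ ψ x = z)) ?_ ?_ ?_ ?_ ?_
  · intro P f g h hfg hC hn x hx
    rw [← hfg x hx]; exact h hC hn x hx
  · intro P Q f g hf hg hfQ h1 h2 hC hn x hx
    have hCQ : C Q := hup _ _ (hconj P f hC hf) (img_le_iff.2 hfQ) hg.le
    have hfin : Finite Q := finite_of_le hg.le
    have hcard : Nat.card P ≤ Nat.card Q := by
      rw [hf.iso.card_eq]; exact Subgroup.card_le_of_le (img_le_iff.2 hfQ)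
    rw [h1 hC hn x hx]
    exact h2 hCQ (hn.trans hcard) _ (hfQ x hx)
  · intro P Q f g hf hg h1 h2 h3 hC hn y hy
    have hCP : C P := by
      have := hconj Q g hC hg.mor
      rwa [hg.img_eq] at this
    have hcard : n ≤ Nat.card P := by rw [← hg.card_eq]; exact hn
    have := h3 hCP hcard (g y) (hg.map_mem hy)
    rw [h2 y hy] at this
    exact this.symm
  · intro P Q f hQP hf h1 hC hn x hx
    have hfin : Finite P := finite_of_le hf.le
    exact h1 (hup Q P hC hQP hf.le) (hn.trans (Subgroup.card_le_of_le hQP)) x (hQP hx)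
  · intro P hP f hf hC hn x hx
    have hzP : z ∈ P := by
      rcases hP with rfl | hP
      · exact hzS
      · exact z_mem_of_cent hzS hzc hf.le_left (centric_self hP.1)
    have hfz : f z = z := by
      by_cases hPS : P = S
      · subst hPS; exact hS0 f hf
      · have hlt := lt_normalizerIn hS (lt_of_le_of_ne hf.le_left hPS)
        have hc := card_lt_of_lt hlt normalizerIn_le
        exact hAX P hC (lt_of_le_of_lt hn hc) P f hf.mor le_rfl (fun x hx => hf.map_mem hx) hzP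
    constructor
    · rintro rfl; exact hfz
    · intro h; exact hf.mor.inj hx hzP (h.trans hfz.symm)

/-- downward induction -/
theorem ag (hS : IsPGroup p S) (hF : F.IsSaturated p) (hzS : z ∈ S) (hzc : ∀ s ∈ S, s * z = z * s)
    {C : Subgroup Ω → Prop} (hCS : ∀ X, C X → X ≤ S) (hconj : ∀ X ψ, C X → Mor F X ψ → C (img X ψ))
    (hup : ∀ X Y, C X → X ≤ Y → Y ≤ S → C Y) (hS0 : ∀ f, Iso F S S f → f z = z)
    (hstep : ∀ X, C X → F.IsFullyNormalized X →
      (∀ Y, C Y → Nat.card (normalizerIn S X) < Nat.card (normalizerIn S Y) → AX F z Y) → AX F z X) :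
    ∀ X, C X → AX F z X := by
  intro X
  induction hn : Nat.card S - Nat.card (normalizerIn S X) using Nat.strong_induction_on generalizing X with
  | _ n ih =>
  intro hCX
  have hXS := hCS X hCX
  have hIH : ∀ Y, C Y → Nat.card (normalizerIn S X) < Nat.card (normalizerIn S Y) → AX F z Y := by
    intro Y hCY hlt
    have h1 := Subgroup.card_le_of_le (normalizerIn_le (S := S) (P := Y))
    exact ih _ (by omega) Y rfl hCY
  obtain ⟨X₁, hXX₁, hX₁⟩ := exists_FN F hXS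
  obtain ⟨φ, hφ⟩ := isConj_iff.1 hXX₁
  obtain ⟨a, G, ha, hG, hGa, hGN⟩ := extend_to_FN hS hF hX₁ hφ
  have hXN : X ≤ normalizerIn S X := le_normalizerIn hXS
  have hGX : img X G = X₁ := by
    rw [img_congr hGa]; exact (hφ.trans ha).img_eq
  have hCX₁ : C X₁ := by
    have := hconj X G hCX (hG.restrict hXN)
    rwa [hGX] at this
  by_cases hcard : Nat.card (normalizerIn S X) = Nat.card (normalizerIn S X₁)
  · have hFN : F.IsFullyNormalized X := by
      refine ⟨hXS, fun Q hQ => ?_⟩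
      rw [hcard]
      exact hX₁.2 Q (isConj_trans (isConj_symm hXX₁) hQ)
    exact hstep X hCX hFN hIH
  have hlt : Nat.card (normalizerIn S X) < Nat.card (normalizerIn S X₁) :=
    lt_of_le_of_ne (hX₁.2 X (isConj_symm hXX₁)) hcard
  have hAX₁ := hIH X₁ hCX₁ hlt
  have hzN : z ∈ normalizerIn S X := by
    refine mem_normalizerIn.2 ⟨hzS, ?_⟩
    have hfX : Finite X := finite_of_le hXS
    refine mem_normalizer_of_conj_mem fun x hx => ?_
    rw [← hzc x (hXS hx), mul_inv_cancel_right]; exact hx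
  have hGz : G z = z :=
    (star hS hF hzS hzc hconj hup hS0 hIH _ G hG (hup X _ hCX hXN normalizerIn_le) le_rfl z hzN).1 rfl
  intro R ψ hψ hXR hψX hzR
  set Y : Subgroup Ω := X ⊔ Subgroup.zpowers z with hY
  have hzY : z ∈ Y := Subgroup.mem_sup_right (Subgroup.mem_zpowers z)
  have hXY : X ≤ Y := le_sup_left
  have hYR : Y ≤ R := sup_le hXR (by rw [Subgroup.zpowers_le]; exact hzR)
  have hYN : Y ≤ normalizerIn S X := sup_le hXN (by rw [Subgroup.zpowers_le]; exact hzN)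
  have hψXX : img X ψ = X := by
    have hfX : Finite X := finite_of_le hXS
    exact ((hψ.restrict hXR).iso_of_map hψX).img_eq
  have hψY : ∀ y ∈ Y, ψ y ∈ normalizerIn S X := by
    intro y hy
    have h1 := map_normalizer (hψ.restrict hYR) hXY hy (mem_normalizerIn.1 (hYN hy)).2
    rwa [hψXX] at h1
  obtain ⟨k, hk, hk1, hk2⟩ := (hG.restrict hYN).iso.symm
  have hkX : ∀ x ∈ X₁, k x ∈ X := by
    intro x hx
    rw [← hGX] at hx
    obtain ⟨y, hy, rfl⟩ := (hG.restrict hXN).mem_img.1 hx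
    rw [hk1 y (hXY hy)]; exact hy
  have hχ : Mor F (img Y G) (fun y => G (ψ (k y))) :=
    (hk.mor.comp (hψ.restrict hYR) fun y hy => hk.map_mem hy).comp hG fun y hy => hψY _ (hk.map_mem hy)
  have hX₁Y : X₁ ≤ img Y G := by rw [← hGX]; exact img_mono hXY
  have hzYG : z ∈ img Y G := by
    have := mem_img_of_mem (f := G) hzY
    rwa [hGz] at this
  have h3 := hAX₁ _ _ hχ hX₁Y (fun x hx => by
    rw [← hGX]; exact mem_img_of_mem (hψX _ (hkX x hx))) hzYG
  have hkz : k z = z := by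
    have := hk1 z hzY
    rwa [hGz] at this
  have h4 : G (ψ z) = G z := by
    have h5 : G (ψ (k z)) = z := h3
    rw [hkz] at h5
    rw [h5, hGz]
  exact hG.inj (hψY z hzY) hzN h4

theorem ag_all (hS : IsPGroup p S) (hF : F.IsSaturated p) (hzS : z ∈ S) (hzc : ∀ s ∈ S, s * z = z * s)
    {C : Subgroup Ω → Prop} (hCS : ∀ X, C X → X ≤ S) (hconj : ∀ X ψ, C X → Mor F X ψ → C (img X ψ))
    (hup : ∀ X Y, C X → X ≤ Y → Y ≤ S → C Y) (hS0 : ∀ f, Iso F S S f → f z = z)
    (hstep : ∀ X, C X → F.IsFullyNormalized X →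
      (∀ Y, C Y → Nat.card (normalizerIn S X) < Nat.card (normalizerIn S Y) → AX F z Y) → AX F z X) :
    ∀ R ψ, Mor F R ψ → C R → z ∈ R → ψ z = z := by
  intro R ψ hψ hC hz
  have h1 := ag hS hF hzS hzc hCS hconj hup hS0 hstep
  exact (star hS hF hzS hzc hconj hup hS0 (n := 0) (fun Y hY _ => h1 Y hY) R ψ hψ hC (Nat.zero_le _) z hz).1 rfl

/-- a measure for systems over `S` -/
noncomputable def mu (F : FusionSystem S) : ℕ :=
  letI := Fintype.ofFinite (Subgroup S)
  ∑ P : Subgroup S, Nat.card (F.autGroup (P.map S.subtype))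

theorem mu_lt {E : FusionSystem S} (hS : IsPGroup p S) (hF : F.IsSaturated p) (h : E ≤ F) (hn : ¬ F ≤ E) : mu E < mu F := by
  classical
  letI := Fintype.ofFinite (Subgroup S)
  have hle : ∀ P : Subgroup S, Nat.card (E.autGroup (P.map S.subtype)) ≤ Nat.card (F.autGroup (P.map S.subtype)) := by
    intro P
    haveI : Finite (P.map S.subtype) := finite_of_le (Subgroup.map_subtype_le P)
    exact Subgroup.card_le_of_le (autGroup_mono h)
  refine Finset.sum_lt_sum (fun P _ => hle P) ?_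
  by_contra hcon
  push Not at hcon
  apply hn
  refine alperin_le hS hF fun P hP => ?_
  have hPS : P ≤ S := by
    rcases hP with rfl | hP
    · exact le_rfl
    · exact hP.2.1.1
  have h1 := hcon (P.subgroupOf S) (Finset.mem_univ _)
  rw [Subgroup.map_subgroupOf_eq_of_le hPS] at h1
  haveI : Finite P := finite_of_le hPS
  exact (Subgroup.eq_of_le_of_card_ge (autGroup_mono h) h1).ge

/-- the arithmetic alternatives -/
def HZ (F : FusionSystem S) (p : ℕ) (z : Ω) : Prop :=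
  p ≠ 2 ∨ (∃ w ∈ S, (∀ s ∈ S, s * w = w * s) ∧ w ^ p = z) ∨ F.IsSectionFree p (Equiv.Perm (Fin 4))

/-- the theorem for `F` -/
def GlT (F : FusionSystem S) (p : ℕ) : Prop :=
  ∀ z ∈ S, (∀ s ∈ S, s * z = z * s) → HZ F p z →
    (∀ f, Iso F (thompsonSubgroupAOf S) (thompsonSubgroupAOf S) f → f z = z) → ∀ R ψ, Mor F R ψ → z ∈ R → ψ z = z

theorem fam_img {A : Subgroup Ω} (hf : Mor F X f) (hAX : A ≤ X) (hA : A ∈ ZJ.Fam 0 S) : img A f ∈ ZJ.Fam 0 S := by
  have hfA := hf.restrict hAX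
  refine ⟨hfA.img_le, ⟨?_, fun x _ => by rw [pow_zero]⟩, fun B hB hBa => ?_⟩
  · intro x hx y hy
    obtain ⟨a, ha, rfl⟩ := hfA.mem_img.1 hx
    obtain ⟨b, hb, rfl⟩ := hfA.mem_img.1 hy
    rw [← hfA.mul ha hb, hA.2.1.1 a ha b hb, hfA.mul hb ha]
  · rw [← hfA.iso.card_eq]; exact hA.2.2 B hB hBa

theorem le_ja {A : Subgroup Ω} (hA : A ∈ ZJ.Fam 0 R) : A ≤ thompsonSubgroupAOf R := by
  rw [ZJ.thompsonA_eq]; exact le_sSup hA

theorem fam_of {A : Subgroup Ω} (hA : A ∈ ZJ.Fam 0 S) (hAR : A ≤ R) (hRS : R ≤ S) : A ∈ ZJ.Fam 0 R :=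
  ⟨hAR, hA.2.1, fun B hB hBa => hA.2.2 B (hB.trans hRS) hBa⟩

/-- the Thompson subgroup is invariant under automorphisms -/
theorem ja_iso (hf : Iso F R R f) : ∀ x ∈ thompsonSubgroupAOf R, f x ∈ thompsonSubgroupAOf R := by
  have hfR : Finite R := finite_of_le hf.le_left
  obtain ⟨φ, hφ, hφf⟩ := hf.mor
  have h1 : sSup (ZJ.Fam 0 R) ≤ ((thompsonSubgroupAOf R).comap φ).map R.subtype := by
    refine sSup_le fun A hA => fun x hx => ?_
    refine ⟨⟨x, hA.1 hx⟩, ?_, rfl⟩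
    show φ ⟨x, hA.1 hx⟩ ∈ thompsonSubgroupAOf R
    rw [hφf]
    have hfA := hf.mor.restrict hA.1
    refine le_ja (A := img A f) ⟨?_, ⟨?_, fun x _ => by rw [pow_zero]⟩, fun B hB hBa => ?_⟩ (mem_img_of_mem hx)
    · exact img_le_iff.2 fun y hy => hf.map_mem (hA.1 hy)
    · intro x hx y hy
      obtain ⟨a, ha, rfl⟩ := hfA.mem_img.1 hx
      obtain ⟨b, hb, rfl⟩ := hfA.mem_img.1 hy
      rw [← hfA.mul ha hb, hA.2.1.1 a ha b hb, hfA.mul hb ha]
    · rw [← hfA.iso.card_eq]; exact hA.2.2 B hB hBa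
  intro x hx
  rw [ZJ.thompsonA_eq] at hx
  obtain ⟨y, hy, rfl⟩ := h1 hx
  have : φ y ∈ thompsonSubgroupAOf R := hy
  rw [hφf] at this
  exact this

theorem ja_iso' (hf : Iso F R R f) : Iso F (thompsonSubgroupAOf R) (thompsonSubgroupAOf R) f := by
  have hfR : Finite (thompsonSubgroupAOf R) := finite_of_le ((ja_le R).trans hf.le_left)
  exact (hf.mor.restrict (ja_le R)).iso_of_map (ja_iso hf)

theorem normalizer_ja [Finite R] : Subgroup.normalizer (R : Set Ω) ≤ Subgroup.normalizer (thompsonSubgroupAOf R : Set Ω) := by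
  intro n hn
  haveI : Finite (thompsonSubgroupAOf R) := finite_of_le' (ja_le R)
  rw [ZJ.thompsonA_eq]
  have : Finite ↥(sSup (ZJ.Fam 0 R)) := by rw [← ZJ.thompsonA_eq]; infer_instance
  refine mem_normalizer_of_conj_mem ?_
  have h1 : sSup (ZJ.Fam 0 R) ≤ (sSup (ZJ.Fam 0 R)).comap (MulAut.conj n).toMonoidHom := by
    refine sSup_le fun A hA => ?_
    rw [← Subgroup.map_le_iff_le_comap]
    refine le_sSup (show A.map (MulAut.conj n).toMonoidHom ∈ ZJ.Fam 0 R from ⟨?_, hA.2.1.map _, fun B hB hBa => ?_⟩)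
    · rintro _ ⟨y, hy, rfl⟩
      exact (Subgroup.mem_normalizer_iff.1 hn y).1 (hA.1 hy)
    · have h2 : Nat.card (A.map (MulAut.conj n).toMonoidHom) = Nat.card A :=
        Subgroup.card_map_of_injective (MulAut.conj n).injective
      rw [h2]
      exact hA.2.2 B hB hBa
  exact fun y hy => h1 hy

/-- normalizer systems of non-normal subgroups -/
theorem gl_norm (hS : IsPGroup p S) (hF : F.IsSaturated p)
    (ih1 : ∀ (S' : Subgroup Ω) (F' : FusionSystem S') (_ : Finite S'), Nat.card S' < Nat.card S → IsPGroup p S' → F'.IsSaturated p → GlT F' p)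
    (ih2 : ∀ E : FusionSystem S, mu E < mu F → E.IsSaturated p → GlT E p)
    (hzS : z ∈ S) (hzc : ∀ s ∈ S, s * z = z * s) (hHZ : HZ F p z)
    (hJ : ∀ f, Iso F (thompsonSubgroupAOf S) (thompsonSubgroupAOf S) f → f z = z)
    (hX : F.IsFullyNormalized X) (hXn : ¬ F.IsNormal X)
    (hJX : normalizerIn S X < S → ∀ f, Iso F (thompsonSubgroupAOf (normalizerIn S X)) (thompsonSubgroupAOf (normalizerIn S X)) f →
      (∃ g, Mor F (thompsonSubgroupAOf (normalizerIn S X) ⊔ X) g ∧ (∀ x ∈ thompsonSubgroupAOf (normalizerIn S X), g x = f x) ∧ img X g = X) →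
      f z = z) : AX F z X := by
  have hXS := hX.1
  have hfX : Finite X := finite_of_le hXS
  by_cases hRS : normalizerIn S X = S
  · have hn : S ≤ Subgroup.normalizer (X : Set Ω) := fun s hs => (mem_normalizerIn.1 (show s ∈ normalizerIn S X by rw [hRS]; exact hs)).2
    obtain ⟨E, hEF, hEs, hEX, hEmor, hEfree⟩ := norm_over hS hF hXS hn
    have hle : E ≤ F := le_iff_mor.2 hEF
    have hnle : ¬ F ≤ E := by
      intro h
      have : E = F := le_antisymm' hle h
      rw [this] at hEX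
      exact hXn hEX
    have hGL := ih2 E (mu_lt hS hF hle hnle) hEs
    intro R ψ hψ hXR hψX hzR
    refine hGL z hzS hzc ?_ (fun f hf => hJ f ⟨hEF _ _ hf.mor, hf.img_eq⟩) R ψ (hEmor R ψ hXR hψ hψX) hzR
    rcases hHZ with h | h | h
    · exact Or.inl h
    · exact Or.inr (Or.inl h)
    · exact Or.inr (Or.inr (hEfree h))
  · have hlt : normalizerIn S X < S := lt_of_le_of_ne normalizerIn_le hRS
    obtain ⟨N, hN⟩ := exists_norm F hXS
    have hfN : Finite (normalizerIn S X) := finite_of_le normalizerIn_le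
    have hNs := norm_saturated hS hF hX hN
    have hNp : IsPGroup p (normalizerIn S X) := isPGroup_le hS normalizerIn_le
    have hGL := ih1 (normalizerIn S X) N hfN (card_lt_of_lt hlt le_rfl) hNp hNs
    have hzN : z ∈ normalizerIn S X := by
      refine mem_normalizerIn.2 ⟨hzS, mem_normalizer_of_conj_mem fun x hx => ?_⟩
      rw [← hzc x (hXS hx), mul_inv_cancel_right]; exact hx
    have hHZ' : HZ N p z := by
      rcases hHZ with h | ⟨w, hw, hwc, hwz⟩ | h
      · exact Or.inl h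
      · refine Or.inr (Or.inl ⟨w, mem_normalizerIn.2 ⟨hw, mem_normalizer_of_conj_mem fun x hx => ?_⟩,
          fun s hs => hwc s (normalizerIn_le hs), hwz⟩)
        rw [← hwc x (hXS hx), mul_inv_cancel_right]; exact hx
      · exact Or.inr (Or.inr (free_norm hS hF h hX hN))
    have hJN : ∀ f, Iso N (thompsonSubgroupAOf (normalizerIn S X)) (thompsonSubgroupAOf (normalizerIn S X)) f → f z = z := by
      intro f hf
      refine hJX hlt f ⟨norm_le hN hf.mor, hf.img_eq⟩ ?_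
      obtain ⟨-, h⟩ := isNormal_iff.1 (norm_isNormal hXS hN)
      obtain ⟨g, hg, h1, h2⟩ := h _ f hf.mor
      exact ⟨g, norm_le hN hg, h1, h2⟩
    intro R ψ hψ hXR hψX hzR
    have hYR : X ⊔ Subgroup.zpowers z ≤ R := sup_le hXR (by rw [Subgroup.zpowers_le]; exact hzR)
    have hYN : X ⊔ Subgroup.zpowers z ≤ normalizerIn S X := sup_le (le_normalizerIn hXS) (by rw [Subgroup.zpowers_le]; exact hzN)
    have h1 := Cfsg.Agent.Lib.LabC.norm_mor hN hXS le_sup_left hYN (hψ.restrict hYR) hψX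
    exact hGL z hzN (fun s hs => hzc s (normalizerIn_le hs)) hHZ' hJN _ ψ h1 (Subgroup.mem_sup_right (Subgroup.mem_zpowers z))

end Cfsg.Agent.Lib.GlcD
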