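import Cfsg.Agent.Lib.GlcD

/-!
Glauberman's theorem on central elements for fusion systems: the main induction.
-/

set_option autoImplicit false
set_option linter.unusedSectionVars false
set_option linter.style.haveILetI false
set_option linter.unusedVariables false

namespace Cfsg.Agent.Lib.GlcE

open Cfsg Cfsg.FusionSystem Cfsg.Agent.Lib.FusBase Cfsg.Agent.Lib.FusSat Cfsg.Agent.Lib.StrongEmb
open Cfsg.Agent.Lib.FusAlperin Cfsg.Agent.Lib.FusNormal Cfsg.Agent.Lib.FusNormalB Cfsg.Agent.Lib.SylRel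
open Cfsg.Agent.Lib.FusSub Cfsg.Agent.Lib.FusPuig Cfsg.Agent.Lib.FusNK Cfsg.Agent.Lib.FusNKB Cfsg.Agent.Lib.FusMor Cfsg.Agent.Lib.FusGroup
open Cfsg.Agent.Lib.FusHyp Cfsg.Agent.Lib.FusHypB Cfsg.Agent.Lib.FusInv Cfsg.Agent.Lib.FusInvB Cfsg.Agent.Lib.FusModel
open Cfsg.Agent.Lib.MdlA Cfsg.Agent.Lib.MdlB Cfsg.Agent.Lib.MdlC Cfsg.Agent.Lib.MdlD Cfsg.Agent.Lib.PNilp
open Cfsg.Agent.Lib.NilA Cfsg.Agent.Lib.NilB Cfsg.Agent.Lib.NilC Cfsg.Agent.Lib.NilE Cfsg.Agent.Lib.CSecA Cfsg.Agent.Lib.CSecB Cfsg.Agent.Lib.FusSimple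
open Cfsg.Agent.Lib.QfA Cfsg.Agent.Lib.QfB Cfsg.Agent.Lib.QfC Cfsg.Agent.Lib.QfD Cfsg.Agent.Lib.QfE Cfsg.Agent.Lib.QfG Cfsg.Agent.Lib.Involve
open Cfsg.Agent.Lib.ThfA Cfsg.Agent.Lib.ThC Cfsg.Agent.Lib.GlcD

open scoped commutatorElement

universe u

variable {Ω : Type u} [Group Ω] {S : Subgroup Ω} {F : FusionSystem S} {p : ℕ} [Finite S] [Fact p.Prime]
variable {P Q R X Y : Subgroup Ω} {f g h : Ω → Ω} {s t k z : Ω}

/-- the non-constrained case -/
theorem step_non (hS : IsPGroup p S) (hF : F.IsSaturated p)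
    (ih1 : ∀ (S' : Subgroup Ω) (F' : FusionSystem S') (_ : Finite S'), Nat.card S' < Nat.card S → IsPGroup p S' → F'.IsSaturated p → GlT F' p)
    (ih2 : ∀ E : FusionSystem S, mu E < mu F → E.IsSaturated p → GlT E p)
    (hzS : z ∈ S) (hzc : ∀ s ∈ S, s * z = z * s) (hHZ : HZ F p z)
    (hJ : ∀ f, Iso F (thompsonSubgroupAOf S) (thompsonSubgroupAOf S) f → f z = z)
    (hcen : ¬ centralizerIn S F.core ≤ F.core) : ∀ R ψ, Mor F R ψ → z ∈ R → ψ z = z := by
  have hS0 : ∀ f, Iso F S S f → f z = z := fun f hf => hJ f (ja_iso' hf)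
  have hQn := core_normal F
  have hQsc := normal_stronglyClosed hQn
  have hQN : S ≤ Subgroup.normalizer (F.core : Set Ω) := StronglyClosed_normalizer hQsc
  have hCN : S ≤ Subgroup.normalizer (centralizerIn S F.core : Set Ω) := by
    intro s hs
    haveI : Finite (centralizerIn S F.core) := finite_of_le centralizerIn_le
    refine mem_normalizer_of_conj_mem fun x hx => ?_
    rw [mem_centralizerIn] at hx ⊢
    refine ⟨S.mul_mem (S.mul_mem hs hx.1) (S.inv_mem hs), fun y hy => ?_⟩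
    have h1 := hx.2 (s⁻¹ * y * s⁻¹⁻¹) ((Subgroup.mem_normalizer_iff.1 (Subgroup.inv_mem _ (hQN hs)) y).1 hy)
    have h2 : y * (s * x * s⁻¹) = s * (s⁻¹ * y * s⁻¹⁻¹ * x) * s⁻¹ := by group
    rw [h2, h1]; group
  have key := ag_all hS hF hzS hzc (C := fun X => X ≤ S ∧ F.core < X) (fun X h => h.1) ?_ ?_ hS0 ?_
  · -- conclusion
    have h1 := alperin_elt hS hF (fun x y => (x = z ↔ y = z)) (fun x y h => h.symm) (fun x y w h1 h2 => h1.trans h2) ?_
    · intro R ψ hψ hz
      exact (h1 R ψ hψ z hz).1 rfl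
    · intro P hP f hf x hx
      have hzP : z ∈ P := by
        rcases hP with rfl | hP
        · exact hzS
        · exact z_mem_of_cent hzS hzc hf.le_left (centric_self hP.1)
      have hfz : f z = z := by
        rcases hP with rfl | hP
        · exact hS0 f hf
        · have hle : F.core ≤ P := ((normal_iff_sc hS hF).1 hQn).2 P hP.1 (essential_radical hS hP)
          have hlt : F.core < P := lt_of_le_of_ne hle fun h => hcen (by
            have := centric_self hP.1
            rwa [← h] at this)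
          exact key P f hf.mor ⟨hf.le_left, hlt⟩ hzP
      constructor
      · rintro rfl; exact hfz
      · intro h; exact hf.mor.inj hx hzP (h.trans hfz.symm)
  · rintro X ψ ⟨hXS, hlt⟩ hψ
    refine ⟨hψ.img_le, ?_⟩
    have h1 : img F.core ψ = F.core := img_eq_of_stronglyClosed hQsc hψ hlt.le
    refine lt_of_le_of_ne (by rw [← h1]; exact img_mono hlt.le) fun h => ?_
    have h2 := hψ.iso.card_eq
    rw [← h] at h2
    haveI : Finite X := finite_of_le hXS
    exact (card_lt_of_lt hlt hXS).ne h2.symm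
  · rintro X Y ⟨_, hlt⟩ hXY hYS
    exact ⟨hYS, hlt.trans_le hXY⟩
  · rintro X ⟨hXS, hlt⟩ hXF hIH
    refine gl_norm hS hF ih1 ih2 hzS hzc hHZ hJ hXF (fun h => hlt.not_ge (le_core h)) ?_
    intro hRS f hf _
    set T := normalizerIn S X with hT
    have hTS : T ≤ S := normalizerIn_le
    have hfT : Finite T := finite_of_le hTS
    have hJT : thompsonSubgroupAOf T ≤ T := ja_le T
    have hzT : z ∈ T := by
      haveI : Finite X := finite_of_le hXS
      refine mem_normalizerIn.2 ⟨hzS, mem_normalizer_of_conj_mem fun x hx => ?_⟩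
      rw [← hzc x (hXS hx), mul_inv_cancel_right]; exact hx
    have hzJ : z ∈ thompsonSubgroupAOf T := ja_cent hzT fun x hx => hzc x (hTS (hJT hx))
    have hnle : ¬ thompsonSubgroupAOf T ≤ F.core := by
      intro hle
      have h1 : ¬ centralizerIn S F.core ≤ X := by
        intro h
        apply hcen
        intro c hc
        have hcT : c ∈ T := le_normalizerIn hXS (h hc)
        exact hle (ja_cent hcT fun x hx => (mem_centralizerIn.1 hc).2 x (hle hx))
      obtain ⟨b, hb, hbN, hbX⟩ := exists_mem_normalizer_not_mem hS hCN centralizerIn_le hXS h1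
      have hbT : b ∈ T := mem_normalizerIn.2 ⟨centralizerIn_le hb, hbN⟩
      exact hbX (hlt.le (hle (ja_cent hbT fun x hx => (mem_centralizerIn.1 hb).2 x (hle hx))))
    obtain ⟨-, hext⟩ := isNormal_iff.1 hQn
    obtain ⟨g, hg, h1, h2⟩ := hext _ f hf.mor
    have hX'S : thompsonSubgroupAOf T ⊔ F.core ≤ S := sup_le (hJT.trans hTS) hQn.1
    have hCX' : thompsonSubgroupAOf T ⊔ F.core ≤ S ∧ F.core < thompsonSubgroupAOf T ⊔ F.core :=
      ⟨hX'S, lt_of_le_of_ne le_sup_right fun h => hnle (h ▸ le_sup_left)⟩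
    have hcard : Nat.card T < Nat.card (normalizerIn S (thompsonSubgroupAOf T ⊔ F.core)) := by
      have h3 : T < normalizerIn S T := lt_normalizerIn hS hRS
      refine card_lt_of_lt (h3.trans_le ?_) normalizerIn_le
      intro n hn
      obtain ⟨hnS, hnT⟩ := mem_normalizerIn.1 hn
      exact mem_normalizerIn.2 ⟨hnS, normalizer_inf_le_normalizer_sup _ _ ⟨normalizer_ja hnT, hQN hnS⟩⟩
    have hAX := hIH _ hCX' hcard
    have h3 : ∀ x ∈ thompsonSubgroupAOf T ⊔ F.core, g x ∈ thompsonSubgroupAOf T ⊔ F.core := by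
      intro x hx
      have hnn : thompsonSubgroupAOf T ≤ Subgroup.normalizer (F.core : Set Ω) := (hJT.trans hTS).trans hQN
      have hx' := hx
      rw [sup_comm] at hx'
      obtain ⟨a, ha, b, hb, rfl⟩ := (Basic.mem_sup_iff_left hnn).1 hx'
      rw [hg.mul (Subgroup.mem_sup_right ha) (Subgroup.mem_sup_left hb)]
      refine Subgroup.mul_mem _ (Subgroup.mem_sup_right ?_) (Subgroup.mem_sup_left ?_)
      · rw [← h2]; exact mem_img_of_mem ha
      · rw [h1 b hb]; exact hf.map_mem hb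
    have h4 := hAX _ g hg le_rfl h3 (Subgroup.mem_sup_left hzJ)
    rw [← h1 z hzJ]; exact h4

/-- the constrained case -/
theorem step_con (hS : IsPGroup p S) (hF : F.IsSaturated p)
    (ih1 : ∀ (S' : Subgroup Ω) (F' : FusionSystem S') (_ : Finite S'), Nat.card S' < Nat.card S → IsPGroup p S' → F'.IsSaturated p → GlT F' p)
    (ih2 : ∀ E : FusionSystem S, mu E < mu F → E.IsSaturated p → GlT E p)
    (hzS : z ∈ S) (hzc : ∀ s ∈ S, s * z = z * s) (hHZ : HZ F p z)
    (hJ : ∀ f, Iso F (thompsonSubgroupAOf S) (thompsonSubgroupAOf S) f → f z = z)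
    (hzp : ∀ R ψ, Mor F R ψ → z ^ p ∈ R → ψ (z ^ p) = z ^ p)
    (hcen : centralizerIn S F.core ≤ F.core) : ∀ R ψ, Mor F R ψ → z ∈ R → ψ z = z := by
  have hS0 : ∀ f, Iso F S S f → f z = z := fun f hf => hJ f (ja_iso' hf)
  have hQn := core_normal F
  have hQsc := normal_stronglyClosed hQn
  have hQFN : F.IsFullyNormalized F.core := FN_of_norm hQn.1 (StronglyClosed_normalizer hQsc)
  have hc : F.IsCentric F.core := centric_of_FC (FN_FC hS hF hQFN) hcen
  obtain ⟨L, _, ι, hM, hemb, -, hLfree⟩ := model_over hS hF hQn hc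
  haveI hfinL : Finite L := hM.1
  haveI hOn : (pCore p L).Normal := Cores.pCore_normal p
  obtain ⟨V, hV⟩ : ∃ V : Subgroup L, V = pCore p L ⊓ Subgroup.centralizer ((pCore p L : Subgroup L) : Set L) := ⟨_, rfl⟩
  haveI hVn : V.Normal := by rw [hV]; infer_instance
  have hCVn : (Subgroup.centralizer (V : Set L)).Normal := inferInstance
  have hOC : pCore p L ≤ Subgroup.centralizer (V : Set L) := by
    intro y hy
    rw [Subgroup.mem_centralizer_iff]
    intro v hv
    rw [hV] at hv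
    exact (Subgroup.mem_centralizer_iff.1 hv.2 y hy).symm
  have hinj := hemb.inj
  have hOr : ∀ y ∈ pCore p L, y ∈ ι.range := by
    intro y hy
    obtain ⟨w, hw, rfl⟩ := mem_core_of_model hM hS hy
    exact ev_range (hQn.1 hw)
  have hevmul : ∀ a ∈ S, ∀ b ∈ S, ev ι (a * b) = ev ι a * ev ι b := fun a ha b hb => ev_mul ha hb
  have hxO : ev ι z ∈ pCore p L := core_le_model hM hS (z_mem_of_cent hzS hzc hQn.1 hcen)
  -- conjugation maps
  have hconj : ∀ (P : Subgroup Ω), P ≤ S → ∀ g : L, (∀ y ∈ P, g * ev ι y * g⁻¹ ∈ ι.range) →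
      (∀ k, Mor F P k → (∀ y ∈ P, ev ι (k y) = g * ev ι y * g⁻¹) → k z = z) → z ∈ P → g * ev ι z * g⁻¹ = ev ι z := by
    intro P hP g hg hk hz
    obtain ⟨k, hk1, hk2, hk3⟩ := hemb.exists_mor hP hg
    rw [← hk3 z hz, hk k hk1 hk3]
  have hsup : ∀ (P : Subgroup Ω), P ≤ S → ∀ g : L, (∀ y ∈ P, g * ev ι y * g⁻¹ ∈ ι.range) → g * ev ι z * g⁻¹ ∈ ι.range →
      ∀ y ∈ P ⊔ Subgroup.zpowers z, g * ev ι y * g⁻¹ ∈ ι.range := by
    intro P hP g hg hz y hy
    have h3 : P ⊔ Subgroup.zpowers z ≤ ((ι.range.comap (MulAut.conj g).toMonoidHom).comap ι).map S.subtype := by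
      refine sup_le (fun w hw => ?_) ?_
      · refine ⟨⟨w, hP hw⟩, ?_, rfl⟩
        show g * ι ⟨w, hP hw⟩ * g⁻¹ ∈ ι.range
        rw [← ev_mem (hP hw)]; exact hg w hw
      · rw [Subgroup.zpowers_le]
        refine ⟨⟨z, hzS⟩, ?_, rfl⟩
        show g * ι ⟨z, hzS⟩ * g⁻¹ ∈ ι.range
        rw [← ev_mem hzS]; exact hz
    obtain ⟨w, hw, rfl⟩ := h3 hy
    have : g * ι w * g⁻¹ ∈ ι.range := hw
    show g * ev ι (w : Ω) * g⁻¹ ∈ ι.range
    rw [ev_apply (α := ι)]; exact this
  have hzr : ∀ g : L, g * ev ι z * g⁻¹ ∈ ι.range := fun g => hOr _ (hOn.conj_mem _ hxO g)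
  -- the class
  have hagl := ag_all hS hF hzS hzc
    (C := fun X => X ≤ S ∧ ∃ A ∈ ZJ.Fam 0 S, A ≤ X ∧ ∃ a ∈ A, ev ι a ∉ Subgroup.centralizer (V : Set L)) (fun X h => h.1) ?_ ?_ hS0 ?_
  rotate_left
  · rintro X ψ ⟨hXS, A, hA, hAX, a, haA, ha⟩ hψ
    refine ⟨hψ.img_le, img A ψ, fam_img hψ hAX hA, img_mono hAX, ψ a, mem_img_of_mem haA, ?_⟩
    obtain ⟨-, -, g, hg⟩ := (mor_real hM.2.1).1 hψ
    rw [hg a (hAX haA)]
    intro h
    apply ha
    have := hCVn.conj_mem _ h g⁻¹
    have e : g⁻¹ * (g * ev ι a * g⁻¹) * g⁻¹⁻¹ = ev ι a := by group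
    rwa [e] at this
  · rintro X Y ⟨_, A, hA, hAX, h⟩ hXY hYS
    exact ⟨hYS, A, hA, hAX.trans hXY, h⟩
  · rintro X ⟨hXS, A, hA, hAX, a, haA, ha⟩ hXF hIH
    refine gl_norm hS hF ih1 ih2 hzS hzc hHZ hJ hXF (fun h => ha (hOC (core_le_model hM hS (le_core h (hAX haA))))) ?_
    intro hRS f hf _
    set T := normalizerIn S X with hT
    have hTS : T ≤ S := normalizerIn_le
    have hfT : Finite T := finite_of_le hTS
    have hJT : thompsonSubgroupAOf T ≤ T := ja_le T
    have hzT : z ∈ T := by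
      haveI : Finite X := finite_of_le hXS
      refine mem_normalizerIn.2 ⟨hzS, mem_normalizer_of_conj_mem fun x hx => ?_⟩
      rw [← hzc x (hXS hx), mul_inv_cancel_right]; exact hx
    have hzJ : z ∈ thompsonSubgroupAOf T := ja_cent hzT fun x hx => hzc x (hTS (hJT hx))
    have hAT : A ≤ thompsonSubgroupAOf T := le_ja (fam_of hA (hAX.trans (le_normalizerIn hXS)) hTS)
    have hcard : Nat.card T < Nat.card (normalizerIn S (thompsonSubgroupAOf T)) := by
      have h3 : T < normalizerIn S T := lt_normalizerIn hS hRS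
      refine card_lt_of_lt (h3.trans_le ?_) normalizerIn_le
      intro n hn
      obtain ⟨hnS, hnT⟩ := mem_normalizerIn.1 hn
      exact mem_normalizerIn.2 ⟨hnS, normalizer_ja hnT⟩
    exact hIH _ ⟨hJT.trans hTS, A, hA, hAT, a, haA, ha⟩ hcard _ f hf.mor le_rfl (fun x hx => hf.map_mem hx) hzJ
  -- the group theorem
  have hgrp : ∀ g : L, g * ev ι z * g⁻¹ = ev ι z := by
    refine Cfsg.Agent.Lib.GlcC.group_key (S := ι.range) (V := V) hemb.syl hM.2.2.2 hV (ev_range hzS) ?_ ?_ ?_ ?_ ?_ ?_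
    · rintro _ ⟨s, rfl⟩
      rw [ev_mem hzS, ← map_mul, ← map_inv, ← map_mul]
      congr 1
      apply Subtype.ext
      show (s : Ω) * z * (s : Ω)⁻¹ = z
      rw [hzc s s.2, mul_inv_cancel_right]
    · rcases hHZ with h | ⟨w, hw, hwc, hwz⟩ | h
      · exact Or.inl h
      · refine Or.inr (Or.inl ⟨ev ι w, ev_range hw, ?_, ?_⟩)
        · rintro _ ⟨s, rfl⟩
          rw [ev_mem hw, ← map_mul, ← map_inv, ← map_mul]
          congr 1
          apply Subtype.ext
          show (s : Ω) * w * (s : Ω)⁻¹ = w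
          rw [hwc s s.2, mul_inv_cancel_right]
        · rw [ev_mem hw, ev_mem hzS, ← map_pow]
          congr 1
          exact Subtype.ext hwz
      · exact Or.inr (Or.inr (hLfree h))
    · intro g
      have hzpS : z ^ p ∈ S := S.pow_mem hzS p
      have e1 : ev ι z ^ p = ev ι (z ^ p) := by
        rw [ev_mem hzS, ev_mem hzpS, ← map_pow]
        congr 1
      rw [e1]
      have hP : Subgroup.zpowers (z ^ p) ≤ S := by rw [Subgroup.zpowers_le]; exact hzpS
      have hPc : ∀ y ∈ Subgroup.zpowers (z ^ p), g * ev ι y * g⁻¹ ∈ ι.range := by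
        intro y hy
        apply hOr
        apply hOn.conj_mem
        apply core_le_model hM hS
        have h1 : Subgroup.zpowers (z ^ p) ≤ F.core := by
          rw [Subgroup.zpowers_le]
          exact Subgroup.pow_mem _ (z_mem_of_cent hzS hzc hQn.1 hcen) p
        exact h1 hy
      obtain ⟨k, hk1, hk2, hk3⟩ := hemb.exists_mor hP hPc
      rw [← hk3 _ (Subgroup.mem_zpowers _), hzp _ k hk1 (Subgroup.mem_zpowers _)]
    · intro g hg
      rw [← ja_im hS hinj] at hg
      obtain ⟨f, hf, hfg⟩ := hemb.exists_iso (ja_le S) hg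
      have hzJ : z ∈ thompsonSubgroupAOf S := ja_cent hzS fun x hx => hzc x (ja_le S hx)
      rw [← hfg z hzJ, hJ f hf]
    · -- fixed points of `A`
      intro A hA hAC g hfix
      have hsyl : SylIn p ι.range (Subgroup.centralizer {ev ι z}) := by
        refine hemb.syl.mono ?_ le_top
        rintro _ ⟨s, rfl⟩
        rw [Subgroup.mem_centralizer_singleton_iff, ev_mem hzS, ← map_mul, ← map_mul]
        congr 1
        exact Subtype.ext (hzc s s.2)
      have hA₁ : A.map (MulAut.conj g⁻¹).toMonoidHom ≤ Subgroup.centralizer {ev ι z} := by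
        rintro _ ⟨a, ha, rfl⟩
        rw [Subgroup.mem_centralizer_singleton_iff]
        show g⁻¹ * a * g⁻¹⁻¹ * ev ι z = ev ι z * (g⁻¹ * a * g⁻¹⁻¹)
        have h1 := hfix a ha
        rw [mul_inv_eq_iff_eq_mul] at h1
        have e1 : g⁻¹ * a * g⁻¹⁻¹ * ev ι z = g⁻¹ * (a * (g * ev ι z * g⁻¹)) * g := by group
        rw [e1, h1]; group
      have hAp : IsPGroup p A := hemb.syl.isPGroup.to_le hA.1
      obtain ⟨c, hc', hcA⟩ := hsyl.conj_le hA₁ (hAp.map _)
      rw [Subgroup.mem_centralizer_singleton_iff] at hc'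
      set h := c * g⁻¹ with hh
      have hAh : ∀ a ∈ A, h * a * h⁻¹ ∈ ι.range := by
        intro a ha
        have := hcA _ ⟨a, ha, rfl⟩
        have e : c * ((MulAut.conj g⁻¹).toMonoidHom a) * c⁻¹ = h * a * h⁻¹ := by
          show c * (g⁻¹ * a * g⁻¹⁻¹) * c⁻¹ = _
          rw [hh]; group
        rwa [e] at this
      have hhx : h⁻¹ * ev ι z * h⁻¹⁻¹ = g * ev ι z * g⁻¹ := by
        have e : h⁻¹ * ev ι z * h⁻¹⁻¹ = g * (c⁻¹ * (ev ι z * c)) * g⁻¹ := by rw [hh]; group
        rw [e, ← hc']; group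
      have hA₂ : A.map (MulAut.conj h).toMonoidHom ≤ ι.range := by
        rintro _ ⟨a, ha, rfl⟩; exact hAh a ha
      obtain ⟨P, hPS, hP⟩ := exists_im hA₂
      have hPmem : ∀ y ∈ P, h⁻¹ * ev ι y * h⁻¹⁻¹ ∈ A := by
        intro y hy
        have h1 : ev ι y ∈ (P.subgroupOf S).map ι := (mem_im hPS).2 ⟨y, hy, rfl⟩
        rw [hP] at h1
        obtain ⟨a, ha, hay⟩ := h1
        have h2 : h * a * h⁻¹ = ev ι y := hay
        rw [← h2]
        have e : h⁻¹ * (h * a * h⁻¹) * h⁻¹⁻¹ = a := by group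
        rw [e]; exact ha
      have hcardP : ∀ B : Subgroup Ω, B ≤ S → Nat.card ((B.subgroupOf S).map ι) = Nat.card B := by
        intro B hB
        rw [Subgroup.card_map_of_injective hinj]
        exact Nat.card_congr (Subgroup.subgroupOfEquivOfLe hB).toEquiv
      have hPfam : P ∈ ZJ.Fam 0 S := by
        refine ⟨hPS, ⟨?_, fun x _ => by rw [pow_zero]⟩, fun B hB hBa => ?_⟩
        · intro a ha b hb
          apply ev_inj hinj (S.mul_mem (hPS ha) (hPS hb)) (S.mul_mem (hPS hb) (hPS ha))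
          rw [hevmul a (hPS ha) b (hPS hb), hevmul b (hPS hb) a (hPS ha)]
          have h1 := hA.2.1.1 _ (hPmem a ha) _ (hPmem b hb)
          have e1 : ev ι a * ev ι b = h * ((h⁻¹ * ev ι a * h⁻¹⁻¹) * (h⁻¹ * ev ι b * h⁻¹⁻¹)) * h⁻¹ := by group
          rw [e1, h1]; group
        · rw [← hcardP P hPS, hP, Subgroup.card_map_of_injective (MulAut.conj h).injective, ← hcardP B hB]
          refine hA.2.2 _ im_le_range ⟨?_, fun x _ => by rw [pow_zero]⟩
          intro a ha b hb
          obtain ⟨a', ha', rfl⟩ := (mem_im hB).1 ha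
          obtain ⟨b', hb', rfl⟩ := (mem_im hB).1 hb
          rw [← hevmul _ (hB ha') _ (hB hb'), hBa.1 a' ha' b' hb', hevmul _ (hB hb') _ (hB ha')]
      have hexa : ∃ a ∈ P, ev ι a ∉ Subgroup.centralizer (V : Set L) := by
        obtain ⟨a₀, ha₀, ha₀C⟩ := SetLike.not_le_iff_exists.1 hAC
        have h1 : h * a₀ * h⁻¹ ∈ (P.subgroupOf S).map ι := by rw [hP]; exact ⟨a₀, ha₀, rfl⟩
        obtain ⟨a, ha, hae⟩ := (mem_im hPS).1 h1
        refine ⟨a, ha, fun hcon => ha₀C ?_⟩
        rw [hae] at hcon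
        have := hCVn.conj_mem _ hcon h⁻¹
        have e : h⁻¹ * (h * a₀ * h⁻¹) * h⁻¹⁻¹ = a₀ := by group
        rwa [e] at this
      have hYS : P ⊔ Subgroup.zpowers z ≤ S := sup_le hPS (by rw [Subgroup.zpowers_le]; exact hzS)
      have hzY : z ∈ P ⊔ Subgroup.zpowers z := Subgroup.mem_sup_right (Subgroup.mem_zpowers z)
      have h5 := hconj _ hYS h⁻¹ (hsup P hPS h⁻¹ (fun y hy => hA.1 (hPmem y hy)) (hzr _)) (fun k hk _ =>
        hagl _ k hk ⟨hYS, P, hPfam, le_sup_left, hexa⟩ hzY) hzY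
      rw [← hhx]; exact h5
    · -- normal subgroups of `S`
      intro T hTr hTn hTO g hg
      obtain ⟨P, hPS, hP⟩ := exists_im hTr
      haveI : Finite P := finite_of_le hPS
      have hPn : S ≤ Subgroup.normalizer (P : Set Ω) := by
        intro s hs
        refine mem_normalizer_of_conj_mem fun y hy => ?_
        have h1 : ev ι s * ev ι y * (ev ι s)⁻¹ ∈ T := by
          refine (Subgroup.mem_normalizer_iff.1 (hTn (ev_range hs)) _).1 ?_
          rw [← hP]; exact (mem_im hPS).2 ⟨y, hy, rfl⟩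
        rw [← hP] at h1
        obtain ⟨w, hw, hwe⟩ := (mem_im hPS).1 h1
        have h2 : w = s * y * s⁻¹ := by
          apply ev_inj hinj (hPS hw) (S.mul_mem (S.mul_mem hs (hPS hy)) (S.inv_mem hs))
          rw [hwe, hevmul _ (S.mul_mem hs (hPS hy)) _ (S.inv_mem hs), hevmul _ hs _ (hPS hy), ev_inv hs]
        rw [← h2]; exact hw
      have hPF : F.IsFullyNormalized P := FN_of_norm hPS hPn
      have hPnn : ¬ F.IsNormal P := by
        intro h
        apply hTO
        rw [← hP]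
        intro y hy
        obtain ⟨w, hw, rfl⟩ := (mem_im hPS).1 hy
        exact core_le_model hM hS (le_core h hw)
      have hAX := gl_norm hS hF ih1 ih2 hzS hzc hHZ hJ hPF hPnn (fun hlt => absurd hPn fun h =>
        hlt.not_ge fun s hs => mem_normalizerIn.2 ⟨hs, h hs⟩)
      have hYS : P ⊔ Subgroup.zpowers z ≤ S := sup_le hPS (by rw [Subgroup.zpowers_le]; exact hzS)
      have hzY : z ∈ P ⊔ Subgroup.zpowers z := Subgroup.mem_sup_right (Subgroup.mem_zpowers z)
      have hgP : ∀ y ∈ P, g * ev ι y * g⁻¹ ∈ T := by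
        intro y hy
        refine (Subgroup.mem_normalizer_iff.1 hg _).1 ?_
        rw [← hP]; exact (mem_im hPS).2 ⟨y, hy, rfl⟩
      refine hconj _ hYS g (hsup P hPS g (fun y hy => hTr (hgP y hy)) (hzr _)) (fun k hk hkg => ?_) hzY
      refine hAX _ k hk le_sup_left (fun y hy => ?_) hzY
      have h1 := hgP y hy
      rw [← hkg y (Subgroup.mem_sup_left hy), ← hP] at h1
      obtain ⟨w, hw, hwe⟩ := (mem_im hPS).1 h1
      have h2 : w = k y := ev_inj hinj (hPS hw) (hk.mem (Subgroup.mem_sup_left hy)) hwe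
      rw [← h2]; exact hw
  intro R ψ hψ hz
  obtain ⟨-, hψS, g, hg⟩ := (mor_real hM.2.1).1 hψ
  have h1 := hg z hz
  rw [hgrp g] at h1
  exact ev_inj hinj (hψS z hz) hzS h1

theorem step (hS : IsPGroup p S) (hF : F.IsSaturated p)
    (ih1 : ∀ (S' : Subgroup Ω) (F' : FusionSystem S') (_ : Finite S'), Nat.card S' < Nat.card S → IsPGroup p S' → F'.IsSaturated p → GlT F' p)
    (ih2 : ∀ E : FusionSystem S, mu E < mu F → E.IsSaturated p → GlT E p) : GlT F p := by
  intro z hzS hzc hHZ hJ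
  induction hn : orderOf z using Nat.strong_induction_on generalizing z with
  | _ n ih =>
  subst hn
  by_cases hz1 : z = 1
  · subst hz1; intro R ψ hψ _; exact hψ.one
  by_cases hcen : centralizerIn S F.core ≤ F.core
  · refine step_con hS hF ih1 ih2 hzS hzc hHZ hJ ?_ hcen
    have hzo : orderOf (z ^ p) < orderOf z := by
      have hp : p.Prime := Fact.out
      obtain ⟨k, hk⟩ := orderOf_dvd_card_pow hS hzS
      obtain ⟨l, hl, hl'⟩ := (Nat.dvd_prime_pow hp).1 (orderOf_dvd_of_pow_eq_one hk)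
      have hl0 : l ≠ 0 := by
        rintro rfl
        rw [pow_zero, orderOf_eq_one_iff] at hl'
        exact hz1 hl'
      obtain ⟨m, rfl⟩ := Nat.exists_eq_succ_of_ne_zero hl0
      have h1 : (z ^ p) ^ (p ^ m) = 1 := by
        rw [← pow_mul, ← pow_succ', ← hl', pow_orderOf_eq_one]
      refine lt_of_le_of_lt (orderOf_le_of_pow_eq_one (pow_pos hp.pos m) h1) ?_
      rw [hl']
      exact Nat.pow_lt_pow_right hp.one_lt (Nat.lt_succ_self m)
    have hzpc : ∀ s ∈ S, s * z ^ p = z ^ p * s := fun s hs => ((show Commute s z from hzc s hs).pow_right p)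
    refine ih _ hzo (z ^ p) (S.pow_mem hzS p) hzpc ?_ ?_ rfl
    · rcases hHZ with h | h | h
      · exact Or.inl h
      · exact Or.inr (Or.inl ⟨z, hzS, hzc, rfl⟩)
      · exact Or.inr (Or.inr h)
    · intro f hf
      have hzJ : z ∈ thompsonSubgroupAOf S := ja_cent hzS fun x hx => hzc x (ja_le S hx)
      rw [hf.mor.pow hzJ, hJ f hf]
  · exact step_non hS hF ih1 ih2 hzS hzc hHZ hJ hcen

theorem main_aux (n : ℕ) : ∀ (S : Subgroup Ω) (F : FusionSystem S) (_ : Finite S), Nat.card S ≤ n → IsPGroup p S → F.IsSaturated p → GlT F p := by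
  induction n with
  | zero =>
    intro S F hfin hn
    have := Nat.card_pos (α := S)
    omega
  | succ n ihn =>
    intro S F hfin hn hS hF
    induction hm : mu F using Nat.strong_induction_on generalizing F with
    | _ m ihm =>
    subst hm
    refine step hS hF (fun S' F' hfin' hlt hS' hF' => ihn S' F' hfin' (by omega) hS' hF') (fun E hE hEs => ihm _ hE E hEs rfl)

/-- **Glauberman's theorem** -/
theorem main (hS : IsPGroup p S) (hF : F.IsSaturated p) : GlT F p := main_aux (Nat.card S) S F inferInstance le_rfl hS hF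

end Cfsg.Agent.Lib.GlcE
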