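import Cfsg.Agent.Lib.GlcE

/-!
Generation of saturated fusion systems by local subsystems.
-/

set_option autoImplicit false
set_option linter.unusedSectionVars false
set_option linter.style.haveILetI false
set_option linter.unusedVariables false

namespace Cfsg.Agent.Lib.GlcF

open Cfsg Cfsg.FusionSystem Cfsg.Agent.Lib.FusBase Cfsg.Agent.Lib.FusSat Cfsg.Agent.Lib.StrongEmb
open Cfsg.Agent.Lib.FusAlperin Cfsg.Agent.Lib.FusNormal Cfsg.Agent.Lib.FusNormalB Cfsg.Agent.Lib.SylRel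
open Cfsg.Agent.Lib.FusSub Cfsg.Agent.Lib.FusPuig Cfsg.Agent.Lib.FusNK Cfsg.Agent.Lib.FusNKB Cfsg.Agent.Lib.FusMor Cfsg.Agent.Lib.FusGroup
open Cfsg.Agent.Lib.FusHyp Cfsg.Agent.Lib.FusHypB Cfsg.Agent.Lib.FusInv Cfsg.Agent.Lib.FusInvB Cfsg.Agent.Lib.FusModel
open Cfsg.Agent.Lib.MdlA Cfsg.Agent.Lib.MdlB Cfsg.Agent.Lib.MdlC Cfsg.Agent.Lib.MdlD Cfsg.Agent.Lib.PNilp
open Cfsg.Agent.Lib.NilA Cfsg.Agent.Lib.NilB Cfsg.Agent.Lib.NilC Cfsg.Agent.Lib.NilE Cfsg.Agent.Lib.CSecA Cfsg.Agent.Lib.CSecB Cfsg.Agent.Lib.FusSimple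
open Cfsg.Agent.Lib.QfA Cfsg.Agent.Lib.QfB Cfsg.Agent.Lib.QfC Cfsg.Agent.Lib.QfD Cfsg.Agent.Lib.QfE Cfsg.Agent.Lib.QfG Cfsg.Agent.Lib.Involve
open Cfsg.Agent.Lib.ThfA Cfsg.Agent.Lib.ThC Cfsg.Agent.Lib.GlcD

universe u

/-- Frattini argument for fusion -/
theorem frat_fus {G : Type u} [Group G] [Finite G] {p : ℕ} [Fact p.Prime] {S C P : Subgroup G} (hS : SylIn p S ⊤) [hC : C.Normal]
    (hPS : P ≤ S) {g : G} (hg : ∀ x ∈ P, g * x * g⁻¹ ∈ S) :
    ∃ c ∈ C, ∃ n ∈ Subgroup.normalizer ((S ⊓ C : Subgroup G) : Set G), g = n * c ∧ ∀ x ∈ P, c * x * c⁻¹ ∈ S := by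
  set X : Subgroup G := ((S ⊓ C) ⊔ P.map (MulAut.conj g).toMonoidHom).map (MulAut.conj g⁻¹).toMonoidHom with hX
  have h1 : (S ⊓ C) ⊔ P.map (MulAut.conj g).toMonoidHom ≤ S := by
    refine sup_le inf_le_left ?_
    rintro _ ⟨x, hx, rfl⟩; exact hg x hx
  have hXp : IsPGroup p X := (hS.isPGroup.to_le h1).map _
  have hXle : X ≤ S ⊔ C := by
    rw [hX, Subgroup.map_sup]
    refine sup_le ?_ ?_
    · rintro _ ⟨x, hx, rfl⟩
      exact Subgroup.mem_sup_right (hC.conj_mem x hx.2 g⁻¹)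
    · rintro _ ⟨_, ⟨x, hx, rfl⟩, rfl⟩
      have : (MulAut.conj g⁻¹).toMonoidHom ((MulAut.conj g).toMonoidHom x) = x := by
        show g⁻¹ * (g * x * g⁻¹) * g⁻¹⁻¹ = x
        group
      rw [this]
      exact Subgroup.mem_sup_left (hPS hx)
  obtain ⟨c, hc, hcX⟩ := hS.conj_into le_top (by rw [Subgroup.normalizer_eq_top_iff.2 hC]) hXle hXp
  refine ⟨c, hc, g * c⁻¹, ?_, by group, fun x hx => ?_⟩
  · have h2 : c * g⁻¹ ∈ Subgroup.normalizer ((S ⊓ C : Subgroup G) : Set G) := by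
      refine mem_normalizer_of_conj_mem fun x hx => ⟨?_, hC.conj_mem x hx.2 _⟩
      have h3 := hcX _ ⟨x, Subgroup.mem_sup_left hx, rfl⟩
      have e : c * ((MulAut.conj g⁻¹).toMonoidHom x) * c⁻¹ = c * g⁻¹ * x * (c * g⁻¹)⁻¹ := by
        show c * (g⁻¹ * x * g⁻¹⁻¹) * c⁻¹ = _
        group
      rwa [e] at h3
    have h4 := Subgroup.inv_mem _ h2
    have e : (c * g⁻¹)⁻¹ = g * c⁻¹ := by group
    rwa [e] at h4
  · have h3 := hcX x ⟨g * x * g⁻¹, Subgroup.mem_sup_right ⟨x, hx, rfl⟩, by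
      show g⁻¹ * (g * x * g⁻¹) * g⁻¹⁻¹ = x
      group⟩
    exact h3

variable {Ω : Type u} [Group Ω] {S : Subgroup Ω} {F E : FusionSystem S} {p : ℕ}
variable {P Q R X Y T : Subgroup Ω} {f g h : Ω → Ω} {s t k z : Ω}

theorem resPred (E : FusionSystem S) (hT : T ≤ S) : SubPred E T (fun P f => P ≤ T ∧ (∀ x ∈ P, f x ∈ T) ∧ Mor E P f) where
  mor := fun h => h.2.2
  le := fun h => h.1
  mem := fun h hx => h.2.1 _ hx
  congr := fun h hfg => ⟨h.1, fun x hx => by rw [← hfg x hx]; exact h.2.1 x hx, h.2.2.congr hfg⟩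
  conj := fun hP hs => ⟨hP, fun x hx => T.mul_mem (T.mul_mem hs (hP hx)) (T.inv_mem hs), mor_conj E (hP.trans hT) (hT hs)⟩
  comp := fun h1 h2 hfg => ⟨h1.1, fun x hx => h2.2.1 _ (hfg x hx), h1.2.2.comp h2.2.2 hfg⟩
  inv := fun {P Q f g} h1 h2 h3 h4 h5 => by
    refine ⟨?_, ?_, h3.mor⟩
    · intro y hy
      obtain ⟨x, hx, rfl⟩ := h2.mem_right.1 hy
      exact h1.2.1 x hx
    · intro y hy
      exact h1.1 (h3.map_mem hy)

/-- the restriction of `E` to `T` -/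
noncomputable def resSys (E : FusionSystem S) (hT : T ≤ S) : FusionSystem T := ofPred (resPred E hT).pred

theorem mor_resSys (E : FusionSystem S) (hT : T ≤ S) : Mor (resSys E hT) P f ↔ P ≤ T ∧ (∀ x ∈ P, f x ∈ T) ∧ Mor E P f := mor_ofPred _

variable [Finite S] [Fact p.Prime]

/-- the maps normalizing `X` lie in `E` -/
def AE (F E : FusionSystem S) (X : Subgroup Ω) : Prop :=
  ∀ R ψ, Mor F R ψ → X ≤ R → R ≤ normalizerIn S X → (∀ x ∈ X, ψ x ∈ X) → Mor E R ψ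

theorem starE (hS : IsPGroup p S) (hF : F.IsSaturated p) {C : Subgroup Ω → Prop}
    (hconj : ∀ X ψ, C X → Mor F X ψ → C (img X ψ)) (hup : ∀ X Y, C X → X ≤ Y → Y ≤ S → C Y)
    (hS0 : ∀ f, Iso F S S f → Mor E S f) {n : ℕ} (hAE : ∀ Y, C Y → n < Nat.card (normalizerIn S Y) → AE F E Y) :
    ∀ R ψ, Mor F R ψ → C R → n ≤ Nat.card R → Mor E R ψ := by
  refine alperin hS hF (fun R ψ => C R → n ≤ Nat.card R → Mor E R ψ) ?_ ?_ ?_ ?_ ?_
  · intro P f g h hfg hC hn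
    exact (h hC hn).congr hfg
  · intro P Q f g hf hg hfQ h1 h2 hC hn
    have hCQ : C Q := hup _ _ (hconj P f hC hf) (img_le_iff.2 hfQ) hg.le
    have hfin : Finite Q := finite_of_le hg.le
    have hcard : Nat.card P ≤ Nat.card Q := by
      rw [hf.iso.card_eq]; exact Subgroup.card_le_of_le (img_le_iff.2 hfQ)
    exact (h1 hC hn).comp (h2 hCQ (hn.trans hcard)) hfQ
  · intro P Q f g hf hg h1 h2 h3 hC hn
    have hCP : C P := by
      have := hconj Q g hC hg.mor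
      rwa [hg.img_eq] at this
    have hcard : n ≤ Nat.card P := by rw [← hg.card_eq]; exact hn
    have hfE := h3 hCP hcard
    have hfE' : Iso E P Q f := ⟨hfE, hf.img_eq⟩
    obtain ⟨g', hg', h4, h5⟩ := hfE'.symm
    refine hg'.mor.congr fun y hy => ?_
    obtain ⟨x, hx, rfl⟩ := hf.mem_right.1 hy
    rw [h4 x hx, h1 x hx]
  · intro P Q f hQP hf h1 hC hn
    have hfin : Finite P := finite_of_le hf.le
    exact (h1 (hup Q P hC hQP hf.le) (hn.trans (Subgroup.card_le_of_le hQP))).restrict hQP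
  · intro P hP f hf hC hn
    by_cases hPS : P = S
    · subst hPS; exact hS0 f hf
    · have hlt := lt_normalizerIn hS (lt_of_le_of_ne hf.le_left hPS)
      have hc := card_lt_of_lt hlt normalizerIn_le
      exact hAE P hC (lt_of_le_of_lt hn hc) P f hf.mor le_rfl (le_normalizerIn hf.le_left) (fun x hx => hf.map_mem hx)

/-- downward induction -/
theorem agE (hS : IsPGroup p S) (hF : F.IsSaturated p)
    {C : Subgroup Ω → Prop} (hCS : ∀ X, C X → X ≤ S) (hconj : ∀ X ψ, C X → Mor F X ψ → C (img X ψ))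
    (hup : ∀ X Y, C X → X ≤ Y → Y ≤ S → C Y) (hS0 : ∀ f, Iso F S S f → Mor E S f)
    (hstep : ∀ X, C X → F.IsFullyNormalized X →
      (∀ Y, C Y → Nat.card (normalizerIn S X) < Nat.card (normalizerIn S Y) → AE F E Y) → AE F E X) :
    ∀ X, C X → AE F E X := by
  intro X
  induction hn : Nat.card S - Nat.card (normalizerIn S X) using Nat.strong_induction_on generalizing X with
  | _ n ih =>
  intro hCX
  have hXS := hCS X hCX
  have hIH : ∀ Y, C Y → Nat.card (normalizerIn S X) < Nat.card (normalizerIn S Y) → AE F E Y := by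
    intro Y hCY hlt
    have h1 := Subgroup.card_le_of_le (normalizerIn_le (S := S) (P := Y))
    exact ih _ (by omega) Y rfl hCY
  obtain ⟨X₁, hXX₁, hX₁⟩ := exists_FN F hXS
  obtain ⟨φ, hφ⟩ := isConj_iff.1 hXX₁
  obtain ⟨a, G, ha, hG, hGa, hGN⟩ := extend_to_FN hS hF hX₁ hφ
  have hXN : X ≤ normalizerIn S X := le_normalizerIn hXS
  have hGX : img X G = X₁ := by
    rw [img_congr hGa]; exact (hφ.trans ha).img_eq
  have hCX₁ : C X₁ := by
    have := hconj X G hCX (hG.restrict hXN)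
    rwa [hGX] at this
  by_cases hcard : Nat.card (normalizerIn S X) = Nat.card (normalizerIn S X₁)
  · have hFN : F.IsFullyNormalized X := by
      refine ⟨hXS, fun Q hQ => ?_⟩
      rw [hcard]
      exact hX₁.2 Q (isConj_trans (isConj_symm hXX₁) hQ)
    exact hstep X hCX hFN hIH
  have hlt : Nat.card (normalizerIn S X) < Nat.card (normalizerIn S X₁) :=
    lt_of_le_of_ne (hX₁.2 X (isConj_symm hXX₁)) hcard
  have hAX₁ := hIH X₁ hCX₁ hlt
  have hGE : Mor E (normalizerIn S X) G := starE hS hF hconj hup hS0 hIH _ G hG (hup X _ hCX hXN normalizerIn_le) le_rfl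
  intro R ψ hψ hXR hRN hψX
  have hψXX : img X ψ = X := by
    have hfX : Finite X := finite_of_le hXS
    exact ((hψ.restrict hXR).iso_of_map hψX).img_eq
  have hψY : ∀ y ∈ R, ψ y ∈ normalizerIn S X := by
    intro y hy
    have h1 := map_normalizer hψ hXR hy (mem_normalizerIn.1 (hRN hy)).2
    rwa [hψXX] at h1
  obtain ⟨k, hk, hk1, hk2⟩ := (hG.restrict hRN).iso.symm
  have hkX : ∀ x ∈ X₁, k x ∈ X := by
    intro x hx
    rw [← hGX] at hx
    obtain ⟨y, hy, rfl⟩ := (hG.restrict hXN).mem_img.1 hx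
    rw [hk1 y (hXR hy)]; exact hy
  have hχ : Mor F (img R G) (fun y => G (ψ (k y))) :=
    (hk.mor.comp hψ fun y hy => hk.map_mem hy).comp hG fun y hy => hψY _ (hk.map_mem hy)
  have hX₁Y : X₁ ≤ img R G := by rw [← hGX]; exact img_mono hXR
  have hRG : img R G ≤ normalizerIn S X₁ := img_le_iff.2 fun x hx => hGN x (hRN hx)
  have h3 := hAX₁ _ _ hχ hX₁Y hRG (fun x hx => by
    rw [← hGX]; exact mem_img_of_mem (hψX _ (hkX x hx)))
  -- ψ = G⁻¹ χ G
  obtain ⟨G', hG', h4, h5⟩ := hGE.iso.symm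
  have h6 : ∀ y ∈ R, G (ψ (k (G y))) ∈ img (normalizerIn S X) G := by
    intro y hy
    rw [hk1 y hy]; exact mem_img_of_mem (hψY y hy)
  have h7 := ((hGE.restrict hRN).comp h3 fun y hy => mem_img_of_mem hy).comp hG'.mor h6
  refine h7.congr fun y hy => ?_
  show G' (G (ψ (k (G y)))) = ψ y
  rw [hk1 y hy, h4 _ (hψY y hy)]

theorem agE_all (hS : IsPGroup p S) (hF : F.IsSaturated p)
    {C : Subgroup Ω → Prop} (hCS : ∀ X, C X → X ≤ S) (hconj : ∀ X ψ, C X → Mor F X ψ → C (img X ψ))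
    (hup : ∀ X Y, C X → X ≤ Y → Y ≤ S → C Y) (hS0 : ∀ f, Iso F S S f → Mor E S f)
    (hstep : ∀ X, C X → F.IsFullyNormalized X →
      (∀ Y, C Y → Nat.card (normalizerIn S X) < Nat.card (normalizerIn S Y) → AE F E Y) → AE F E X) :
    ∀ R ψ, Mor F R ψ → C R → Mor E R ψ := by
  intro R ψ hψ hC
  have h1 := agE hS hF hCS hconj hup hS0 hstep
  exact starE hS hF hconj hup hS0 (n := 0) (fun Y hY _ => h1 Y hY) R ψ hψ hC (Nat.zero_le _)

/-- passing from a class containing the essential subgroups to everything -/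
theorem le_of_class (hS : IsPGroup p S) (hF : F.IsSaturated p) {C : Subgroup Ω → Prop}
    (hE : ∀ R ψ, Mor F R ψ → C R → Mor E R ψ) (hC : ∀ P, (P = S ∨ F.IsEssential p P) → C P) : F ≤ E := by
  refine alperin_le hS hF fun P hP => ?_
  intro α hα
  have hPS : P ≤ S := by
    rcases hP with rfl | hP
    · exact le_rfl
    · exact hP.2.1.1
  rw [mem_autGroup hPS] at hα ⊢
  exact hE P _ hα (hC P hP)

end Cfsg.Agent.Lib.GlcF
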