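import Cfsg.Agent.Lib.GlcF

/-!
Generation of a saturated fusion system by the centralizer of the agemo of the centre and the normalizer of the
Thompson subgroup.
-/

set_option autoImplicit false
set_option linter.unusedSectionVars false
set_option linter.style.haveILetI false
set_option linter.unusedVariables false

namespace Cfsg.Agent.Lib.GlcG

open Cfsg Cfsg.FusionSystem Cfsg.Agent.Lib.FusBase Cfsg.Agent.Lib.FusSat Cfsg.Agent.Lib.StrongEmb
open Cfsg.Agent.Lib.FusAlperin Cfsg.Agent.Lib.FusNormal Cfsg.Agent.Lib.FusNormalB Cfsg.Agent.Lib.SylRel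
open Cfsg.Agent.Lib.FusSub Cfsg.Agent.Lib.FusPuig Cfsg.Agent.Lib.FusNK Cfsg.Agent.Lib.FusNKB Cfsg.Agent.Lib.FusMor Cfsg.Agent.Lib.FusGroup
open Cfsg.Agent.Lib.FusHyp Cfsg.Agent.Lib.FusHypB Cfsg.Agent.Lib.FusInv Cfsg.Agent.Lib.FusInvB Cfsg.Agent.Lib.FusModel
open Cfsg.Agent.Lib.MdlA Cfsg.Agent.Lib.MdlB Cfsg.Agent.Lib.MdlC Cfsg.Agent.Lib.MdlD Cfsg.Agent.Lib.PNilp
open Cfsg.Agent.Lib.NilA Cfsg.Agent.Lib.NilB Cfsg.Agent.Lib.NilC Cfsg.Agent.Lib.NilE Cfsg.Agent.Lib.CSecA Cfsg.Agent.Lib.CSecB Cfsg.Agent.Lib.FusSimple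
open Cfsg.Agent.Lib.QfA Cfsg.Agent.Lib.QfB Cfsg.Agent.Lib.QfC Cfsg.Agent.Lib.QfD Cfsg.Agent.Lib.QfE Cfsg.Agent.Lib.QfG Cfsg.Agent.Lib.Involve
open Cfsg.Agent.Lib.ThfA Cfsg.Agent.Lib.ThC Cfsg.Agent.Lib.GlcD Cfsg.Agent.Lib.GlcF

open scoped commutatorElement

universe u

variable {Ω : Type u} [Group Ω] {S : Subgroup Ω} {F E : FusionSystem S} {p : ℕ} [Finite S] [Fact p.Prime]
variable {P Q R X Y : Subgroup Ω} {f g h : Ω → Ω} {s t k z : Ω}

section real

variable {L : Type u} [Group L] {ι : S →* L}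

theorem conj_sup (hP : P ≤ S) (hY : Y ≤ S) {c : L} (h1 : ∀ y ∈ P, c * ev ι y * c⁻¹ ∈ ι.range)
    (h2 : ∀ y ∈ Y, c * ev ι y * c⁻¹ ∈ ι.range) : ∀ y ∈ P ⊔ Y, c * ev ι y * c⁻¹ ∈ ι.range := by
  intro y hy
  have h3 : P ⊔ Y ≤ ((ι.range.comap (MulAut.conj c).toMonoidHom).comap ι).map S.subtype := by
    refine sup_le (fun w hw => ?_) (fun w hw => ?_)
    · refine ⟨⟨w, hP hw⟩, ?_, rfl⟩
      show c * ι ⟨w, hP hw⟩ * c⁻¹ ∈ ι.range
      rw [← ev_mem (hP hw)]; exact h1 w hw
    · refine ⟨⟨w, hY hw⟩, ?_, rfl⟩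
      show c * ι ⟨w, hY hw⟩ * c⁻¹ ∈ ι.range
      rw [← ev_mem (hY hw)]; exact h2 w hw
  obtain ⟨w, hw, rfl⟩ := h3 hy
  have : c * ι w * c⁻¹ ∈ ι.range := hw
  show c * ev ι (w : Ω) * c⁻¹ ∈ ι.range
  rw [ev_apply (α := ι)]; exact this

theorem real_extend (hemb : Emb F p S L ι) (hk : Mor F P f) {c : L} (hkc : ∀ x ∈ P, ev ι (f x) = c * ev ι x * c⁻¹)
    (hY : Y ≤ S) (hYc : ∀ y ∈ Y, c * ev ι y * c⁻¹ ∈ ι.range) :
    ∃ k', Mor F (P ⊔ Y) k' ∧ (∀ x ∈ P, k' x = f x) ∧ ∀ y ∈ P ⊔ Y, ev ι (k' y) = c * ev ι y * c⁻¹ := by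
  have hP := hk.le
  obtain ⟨k', h1, h2, h3⟩ := hemb.exists_mor (sup_le hP hY) (conj_sup hP hY (fun y hy => by
    rw [← hkc y hy]; exact ev_range (hk.mem hy)) hYc)
  refine ⟨k', h1, fun x hx => ?_, h3⟩
  exact ev_inj hemb.inj (h2 x (Subgroup.mem_sup_left hx)) (hk.mem hx) (by rw [h3 x (Subgroup.mem_sup_left hx), hkc x hx])

theorem real_split (hemb : Emb F p S L ι) (hf : Mor F P f) {c n : L} (hg : ∀ x ∈ P, ev ι (f x) = (n * c) * ev ι x * (n * c)⁻¹)
    (hc : ∀ x ∈ P, c * ev ι x * c⁻¹ ∈ ι.range) (h1 : ∀ k, Mor F P k → (∀ x ∈ P, ev ι (k x) = c * ev ι x * c⁻¹) → Mor E P k)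
    (h2 : ∀ Q k, Mor F Q k → (∀ x ∈ Q, ev ι (k x) = n * ev ι x * n⁻¹) → Mor E Q k) : Mor E P f := by
  obtain ⟨k, hk, hk1, hk2⟩ := hemb.exists_mor hf.le hc
  have h3 := h1 k hk hk2
  have h4 : ∀ x ∈ img P k, n * ev ι x * n⁻¹ ∈ ι.range := by
    intro x hx
    obtain ⟨y, hy, rfl⟩ := hk.mem_img.1 hx
    rw [hk2 y hy]
    have e : n * (c * ev ι y * c⁻¹) * n⁻¹ = (n * c) * ev ι y * (n * c)⁻¹ := by group
    rw [e, ← hg y hy]; exact ev_range (hf.mem hy)
  obtain ⟨l, hl, hl1, hl2⟩ := hemb.exists_mor hk.img_le h4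
  have h5 := h2 _ l hl hl2
  refine (h3.comp h5 fun x hx => mem_img_of_mem hx).congr fun x hx => ?_
  refine ev_inj hemb.inj (hl1 _ (mem_img_of_mem hx)) (hf.mem hx) ?_
  rw [hl2 _ (mem_img_of_mem hx), hk2 x hx, hg x hx]; group

end real

theorem ja_eq_of_le {G : Type u} [Group G] [Finite G] {X Y : Subgroup G} (hYX : Y ≤ X) (h : thompsonSubgroupAOf X ≤ Y) :
    thompsonSubgroupAOf Y = thompsonSubgroupAOf X := by
  obtain ⟨A, hA⟩ := ZJ.exists_fam 0 X
  have hAY : A ≤ Y := (le_ja hA).trans h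
  rw [ZJ.thompsonA_eq, ZJ.thompsonA_eq]
  congr 1
  ext B
  rw [ZJ.fam_of_le hYX hA hAY]
  constructor
  · rintro ⟨h1, -⟩; exact h1
  · intro h1; exact ⟨h1, (le_ja h1).trans h⟩

/-- the statement -/
def GenT (F : FusionSystem S) (p : ℕ) : Prop :=
  ∀ E : FusionSystem S, (∀ P f, Mor F P f → (∀ x ∈ S, (∀ s ∈ S, s * x = x * s) → x ^ p ∈ P ∧ f (x ^ p) = x ^ p) → Mor E P f) →
    (∀ P f, Mor F P f → thompsonSubgroupAOf S ≤ P → (∀ x ∈ thompsonSubgroupAOf S, f x ∈ thompsonSubgroupAOf S) → Mor E P f) → F ≤ E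

theorem gen_norm_top (hS : IsPGroup p S) (hF : F.IsSaturated p)
    (ih2 : ∀ E : FusionSystem S, mu E < mu F → E.IsSaturated p → GenT E p)
    (hE1 : ∀ P f, Mor F P f → (∀ x ∈ S, (∀ s ∈ S, s * x = x * s) → x ^ p ∈ P ∧ f (x ^ p) = x ^ p) → Mor E P f)
    (hE2 : ∀ P f, Mor F P f → thompsonSubgroupAOf S ≤ P → (∀ x ∈ thompsonSubgroupAOf S, f x ∈ thompsonSubgroupAOf S) → Mor E P f)
    (hXS : X ≤ S) (hn : S ≤ Subgroup.normalizer (X : Set Ω)) (hXn : ¬ F.IsNormal X) :
    ∀ R ψ, Mor F R ψ → X ≤ R → (∀ x ∈ X, ψ x ∈ X) → Mor E R ψ := by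
  obtain ⟨E₁, hEF, hEs, hEX, hEmor, -⟩ := norm_over hS hF hXS hn
  have hle : E₁ ≤ F := le_iff_mor.2 hEF
  have hnle : ¬ F ≤ E₁ := by
    intro h
    have : E₁ = F := le_antisymm' hle h
    rw [this] at hEX
    exact hXn hEX
  have h1 : E₁ ≤ E := ih2 E₁ (mu_lt hS hF hle hnle) hEs E (fun P f hf => hE1 P f (hEF P f hf)) (fun P f hf => hE2 P f (hEF P f hf))
  intro R ψ hψ hXR hψX
  exact le_iff_mor.1 h1 R ψ (hEmor R ψ hXR hψ hψX)

theorem step_non (hS : IsPGroup p S) (hF : F.IsSaturated p)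
    (ih1 : ∀ (S' : Subgroup Ω) (F' : FusionSystem S') (_ : Finite S'), Nat.card S' < Nat.card S → IsPGroup p S' → F'.IsSaturated p → GenT F' p)
    (ih2 : ∀ E : FusionSystem S, mu E < mu F → E.IsSaturated p → GenT E p)
    (hE1 : ∀ P f, Mor F P f → (∀ x ∈ S, (∀ s ∈ S, s * x = x * s) → x ^ p ∈ P ∧ f (x ^ p) = x ^ p) → Mor E P f)
    (hE2 : ∀ P f, Mor F P f → thompsonSubgroupAOf S ≤ P → (∀ x ∈ thompsonSubgroupAOf S, f x ∈ thompsonSubgroupAOf S) → Mor E P f)
    (hcen : ¬ centralizerIn S F.core ≤ F.core) : F ≤ E := by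
  have hS0 : ∀ f, Iso F S S f → Mor E S f := fun f hf => hE2 S f hf.mor (ja_le S) (ja_iso hf)
  have hQn := core_normal F
  have hQsc := normal_stronglyClosed hQn
  have hQN : S ≤ Subgroup.normalizer (F.core : Set Ω) := StronglyClosed_normalizer hQsc
  have hCN : S ≤ Subgroup.normalizer (centralizerIn S F.core : Set Ω) := by
    intro s hs
    haveI : Finite (centralizerIn S F.core) := finite_of_le centralizerIn_le
    refine mem_normalizer_of_conj_mem fun x hx => ?_
    rw [mem_centralizerIn] at hx ⊢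
    refine ⟨S.mul_mem (S.mul_mem hs hx.1) (S.inv_mem hs), fun y hy => ?_⟩
    have h1 := hx.2 (s⁻¹ * y * s⁻¹⁻¹) ((Subgroup.mem_normalizer_iff.1 (Subgroup.inv_mem _ (hQN hs)) y).1 hy)
    have h2 : y * (s * x * s⁻¹) = s * (s⁻¹ * y * s⁻¹⁻¹ * x) * s⁻¹ := by group
    rw [h2, h1]; group
  refine le_of_class hS hF (C := fun X => X ≤ S ∧ F.core < X) (agE_all hS hF (fun X h => h.1) ?_ ?_ hS0 ?_) ?_
  · rintro X ψ ⟨hXS, hlt⟩ hψ
    refine ⟨hψ.img_le, ?_⟩
    have h1 : img F.core ψ = F.core := img_eq_of_stronglyClosed hQsc hψ hlt.le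
    refine lt_of_le_of_ne (by rw [← h1]; exact img_mono hlt.le) fun h => ?_
    have h2 := hψ.iso.card_eq
    rw [← h] at h2
    haveI : Finite X := finite_of_le hXS
    exact (card_lt_of_lt hlt hXS).ne h2.symm
  · rintro X Y ⟨_, hlt⟩ hXY hYS
    exact ⟨hYS, hlt.trans_le hXY⟩
  · rintro X ⟨hXS, hlt⟩ hXF hIH
    have hfX : Finite X := finite_of_le hXS
    have hXn : ¬ F.IsNormal X := fun h => hlt.not_ge (le_core h)
    by_cases hRS : normalizerIn S X = S
    · have hn : S ≤ Subgroup.normalizer (X : Set Ω) := fun s hs => (mem_normalizerIn.1 (show s ∈ normalizerIn S X by rw [hRS]; exact hs)).2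
      intro R ψ hψ hXR _ hψX
      exact gen_norm_top hS hF ih2 hE1 hE2 hXS hn hXn R ψ hψ hXR hψX
    have hTlt : normalizerIn S X < S := lt_of_le_of_ne normalizerIn_le hRS
    obtain ⟨N, hN⟩ := exists_norm F hXS
    have hNs := norm_saturated hS hF hXF hN
    have hNp : IsPGroup p (normalizerIn S X) := isPGroup_le hS normalizerIn_le
    have hNn := norm_isNormal hXS hN
    have hNF : ∀ P f, Mor N P f → Mor F P f := fun P f hf => norm_le hN hf
    have hfN : Finite (normalizerIn S X) := finite_of_le normalizerIn_le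
    have hGL := ih1 (normalizerIn S X) N hfN (card_lt_of_lt hTlt le_rfl) hNp hNs (resSys E normalizerIn_le) ?_ ?_
    · intro R ψ hψ hXR hRN hψX
      have h1 := Cfsg.Agent.Lib.LabC.norm_mor hN hXS hXR hRN hψ hψX
      exact ((mor_resSys E normalizerIn_le).1 (le_iff_mor.1 hGL R ψ h1)).2.2
    · -- maps fixing the agemo of the centre
      intro P f hf hfix
      refine (mor_resSys E normalizerIn_le).2 ⟨hf.le, fun x hx => hf.mem hx, hE1 P f (hNF _ _ hf) fun x hx hxc => ?_⟩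
      refine hfix x (mem_normalizerIn.2 ⟨hx, mem_normalizer_of_conj_mem fun y hy => ?_⟩) fun s hs => hxc s (normalizerIn_le hs)
      rw [← hxc y (hXS hy), mul_inv_cancel_right]; exact hy
    · intro P f hf hJP hfJ
      refine (mor_resSys E normalizerIn_le).2 ⟨hf.le, fun x hx => hf.mem hx, ?_⟩
      obtain ⟨T, hT⟩ : ∃ T, T = normalizerIn S X := ⟨_, rfl⟩
      have hTS : T ≤ S := by rw [hT]; exact normalizerIn_le
      have hfT : Finite T := finite_of_le hTS
      rw [← hT] at hJP hfJ hTlt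
      have hJT : thompsonSubgroupAOf T ≤ T := ja_le T
      have hJTf : Finite (thompsonSubgroupAOf T) := finite_of_le (hJT.trans hTS)
      have hnle : ¬ thompsonSubgroupAOf T ≤ F.core := by
        intro hle
        have h1 : ¬ centralizerIn S F.core ≤ X := by
          intro h
          apply hcen
          intro c hc
          have hcT : c ∈ T := by rw [hT]; exact le_normalizerIn hXS (h hc)
          exact hle (ja_cent hcT fun x hx => (mem_centralizerIn.1 hc).2 x (hle hx))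
        obtain ⟨b, hb, hbN, hbX⟩ := exists_mem_normalizer_not_mem hS hCN centralizerIn_le hXS h1
        have hbT : b ∈ T := by rw [hT]; exact mem_normalizerIn.2 ⟨centralizerIn_le hb, hbN⟩
        exact hbX (hlt.le (hle (ja_cent hbT fun x hx => (mem_centralizerIn.1 hb).2 x (hle hx))))
      obtain ⟨-, hext⟩ := isNormal_iff.1 hNn
      obtain ⟨g, hg, h1, h2⟩ := hext P f hf
      have hgF := hNF _ _ hg
      have hX'S : thompsonSubgroupAOf T ⊔ F.core ≤ S := sup_le (hJT.trans hTS) hQn.1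
      have hCX' : thompsonSubgroupAOf T ⊔ F.core ≤ S ∧ F.core < thompsonSubgroupAOf T ⊔ F.core :=
        ⟨hX'S, lt_of_le_of_ne le_sup_right fun h => hnle (h ▸ le_sup_left)⟩
      have hTNX : T ≤ normalizerIn S (thompsonSubgroupAOf T ⊔ F.core) := by
        intro n hn
        exact mem_normalizerIn.2 ⟨hTS hn, normalizer_inf_le_normalizer_sup _ _ ⟨normalizer_ja (Subgroup.le_normalizer hn), hQN (hTS hn)⟩⟩
      have hcard : Nat.card (normalizerIn S X) < Nat.card (normalizerIn S (thompsonSubgroupAOf T ⊔ F.core)) := by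
        rw [← hT]
        have h3 : T < normalizerIn S T := lt_normalizerIn hS hTlt
        refine card_lt_of_lt (h3.trans_le ?_) normalizerIn_le
        intro n hn
        obtain ⟨hnS, hnT⟩ := mem_normalizerIn.1 hn
        exact mem_normalizerIn.2 ⟨hnS, normalizer_inf_le_normalizer_sup _ _ ⟨normalizer_ja hnT, hQN hnS⟩⟩
      have hAX := hIH _ hCX' hcard
      have hJP' : thompsonSubgroupAOf T ≤ P ⊔ X := hJP.trans le_sup_left
      have hcoreP : F.core ≤ P ⊔ X := hlt.le.trans le_sup_right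
      have hPXT : P ⊔ X ≤ T := by rw [hT]; exact hg.le
      have h3 : ∀ x ∈ thompsonSubgroupAOf T ⊔ F.core, g x ∈ thompsonSubgroupAOf T ⊔ F.core := by
        intro x hx
        have hnn : thompsonSubgroupAOf T ≤ Subgroup.normalizer (F.core : Set Ω) := (hJT.trans hTS).trans hQN
        have hx' := hx
        rw [sup_comm] at hx'
        obtain ⟨a, ha, b, hb, rfl⟩ := (Basic.mem_sup_iff_left hnn).1 hx'
        rw [hgF.mul (hcoreP ha) (hJP' hb)]
        refine Subgroup.mul_mem _ (Subgroup.mem_sup_right ?_) (Subgroup.mem_sup_left ?_)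
        · rw [← img_eq_of_stronglyClosed hQsc hgF hcoreP]; exact mem_img_of_mem ha
        · rw [h1 b (hJP hb)]; exact hfJ b hb
      have h4 := hAX _ g hgF (sup_le hJP' hcoreP) (hPXT.trans hTNX) h3
      exact (h4.restrict le_sup_left).congr fun x hx => h1 x hx
  · -- essential subgroups
    intro P hP
    rcases hP with rfl | hP
    · refine ⟨le_rfl, lt_of_le_of_ne hQn.1 fun h => hcen ?_⟩
      rw [h]; exact centralizerIn_le
    · refine ⟨hP.2.1.1, ?_⟩
      have hle : F.core ≤ P := ((normal_iff_sc hS hF).1 hQn).2 P hP.1 (essential_radical hS hP)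
      exact lt_of_le_of_ne hle fun h => hcen (by
        have := centric_self hP.1
        rwa [← h] at this)

theorem step_con (hS : IsPGroup p S) (hF : F.IsSaturated p)
    (ih2 : ∀ E : FusionSystem S, mu E < mu F → E.IsSaturated p → GenT E p)
    (hE1 : ∀ P f, Mor F P f → (∀ x ∈ S, (∀ s ∈ S, s * x = x * s) → x ^ p ∈ P ∧ f (x ^ p) = x ^ p) → Mor E P f)
    (hE2 : ∀ P f, Mor F P f → thompsonSubgroupAOf S ≤ P → (∀ x ∈ thompsonSubgroupAOf S, f x ∈ thompsonSubgroupAOf S) → Mor E P f)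
    (hcen : centralizerIn S F.core ≤ F.core) : F ≤ E := by
  have hQn := core_normal F
  have hQsc := normal_stronglyClosed hQn
  have hQFN : F.IsFullyNormalized F.core := FN_of_norm hQn.1 (StronglyClosed_normalizer hQsc)
  have hc : F.IsCentric F.core := centric_of_FC (FN_FC hS hF hQFN) hcen
  obtain ⟨L, _, ι, hM, hemb, -, -⟩ := model_over hS hF hQn hc
  haveI hfinL : Finite L := hM.1
  haveI hOn : (pCore p L).Normal := Cores.pCore_normal p
  obtain ⟨V, hV⟩ : ∃ V : Subgroup L, V = pCore p L ⊓ Subgroup.centralizer ((pCore p L : Subgroup L) : Set L) := ⟨_, rfl⟩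
  haveI hVn : V.Normal := by rw [hV]; infer_instance
  have hCVn : (Subgroup.centralizer (V : Set L)).Normal := inferInstance
  have hOC : pCore p L ≤ Subgroup.centralizer (V : Set L) := by
    intro y hy
    rw [Subgroup.mem_centralizer_iff]
    intro v hv
    rw [hV] at hv
    exact (Subgroup.mem_centralizer_iff.1 hv.2 y hy).symm
  have hinj := hemb.inj
  have hVO : V ≤ pCore p L := by rw [hV]; exact inf_le_left
  have hOr : pCore p L ≤ ι.range := by
    intro y hy
    obtain ⟨w, hw, rfl⟩ := mem_core_of_model hM hS hy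
    exact ev_range (hQn.1 hw)
  have hVr : V ≤ ι.range := hVO.trans hOr
  have hVab : ∀ x ∈ V, ∀ y ∈ V, x * y = y * x := fun x hx y hy =>
    Subgroup.mem_centralizer_iff.1 (hOC (hVO hy)) x hx
  -- the centre
  have hZV : ∀ x ∈ S, (∀ s ∈ S, s * x = x * s) → ev ι x ∈ V := by
    intro x hx hxc
    have h1 : x ∈ F.core := z_mem_of_cent hx hxc hQn.1 hcen
    rw [hV]
    refine ⟨core_le_model hM hS h1, Subgroup.mem_centralizer_iff.2 fun y hy => ?_⟩
    obtain ⟨w, hw, rfl⟩ := mem_core_of_model hM hS hy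
    rw [← ev_mul (hQn.1 hw) hx, ← ev_mul hx (hQn.1 hw), hxc w (hQn.1 hw)]
  obtain ⟨V', hV'S, hV'⟩ := exists_im hVr
  -- maps realized by elements centralizing the `p`-th powers of `V`
  have hcent : ∀ c : L, (∀ v ∈ V, c * v ^ p * c⁻¹ = v ^ p) → ∀ P k, Mor F P k → (∀ x ∈ P, ev ι (k x) = c * ev ι x * c⁻¹) → Mor E P k := by
    intro c hcV P k hk hkc
    obtain ⟨k', hk', h1, h2⟩ := real_extend hemb hk hkc hV'S (fun y hy => by
      have : ev ι y ∈ V := by rw [← hV']; exact (mem_im hV'S).2 ⟨y, hy, rfl⟩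
      exact hVr (hVn.conj_mem _ this c))
    refine ((hE1 _ k' hk' fun x hx hxc => ?_).restrict le_sup_left).congr h1
    have h3 := hZV x hx hxc
    have h4 : x ∈ V' := by
      rw [← hV'] at h3
      obtain ⟨w, hw, hwe⟩ := (mem_im hV'S).1 h3
      have : w = x := ev_inj hinj (hV'S hw) hx hwe
      rw [← this]; exact hw
    have h5 : x ^ p ∈ P ⊔ V' := Subgroup.pow_mem _ (Subgroup.mem_sup_right h4) p
    refine ⟨h5, ev_inj hinj (hk'.mem h5) (S.pow_mem hx p) ?_⟩
    have e1 : ev ι (x ^ p) = ev ι x ^ p := by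
      rw [ev_mem hx, ev_mem (S.pow_mem hx p), ← map_pow]
      congr 1
    rw [h2 _ h5, e1]
    exact hcV _ (hZV x hx hxc)
  refine le_iff_mor.2 fun P f hf => ?_
  obtain ⟨-, hfS, g, hg⟩ := (mor_real hM.2.1).1 hf
  have hPr : (P.subgroupOf S).map ι ≤ ι.range := im_le_range
  have hgr : ∀ x ∈ (P.subgroupOf S).map ι, g * x * g⁻¹ ∈ ι.range := by
    intro x hx
    obtain ⟨y, hy, rfl⟩ := (mem_im hf.le).1 hx
    rw [← hg y hy]; exact ev_range (hf.mem hy)
  by_cases hA : ∃ A ∈ ZJ.Fam 0 ι.range, ¬ A ≤ Subgroup.centralizer (V : Set L)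
  · obtain ⟨A, hA, hAV⟩ := hA
    obtain ⟨B, hB, hBV, hquad⟩ := GlcB.exists_quad hVab hVr (by rw [Subgroup.normalizer_eq_top_iff.2 hVn]; exact le_top) hemb.syl.isPGroup hA hAV
    -- an element `b` of order `p` modulo the centralizer
    have hexb : ∃ b ∈ B, b ∉ Subgroup.centralizer (V : Set L) ∧ b ^ p ∈ Subgroup.centralizer (V : Set L) := by
      obtain ⟨a, ha, haV⟩ := SetLike.not_le_iff_exists.1 hBV
      have hBp : IsPGroup p B := hemb.syl.isPGroup.to_le hB.1
      obtain ⟨k, hk⟩ := hBp ⟨a, ha⟩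
      have hk' : a ^ p ^ k = 1 := congrArg Subtype.val hk
      have hex : ∃ n, a ^ p ^ n ∈ Subgroup.centralizer (V : Set L) := ⟨k, by rw [hk']; exact Subgroup.one_mem _⟩
      classical
      obtain ⟨m, hm⟩ : ∃ m, Nat.find hex = m + 1 := by
        refine Nat.exists_eq_succ_of_ne_zero fun h => haV ?_
        have := Nat.find_spec hex
        rw [h, pow_zero, pow_one] at this
        exact this
      refine ⟨a ^ p ^ m, B.pow_mem ha _, Nat.find_min hex (by omega), ?_⟩
      have := Nat.find_spec hex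
      rw [hm, pow_succ, pow_mul] at this
      exact this
    obtain ⟨b, hb, hbV, hbp⟩ := hexb
    have hbc : ∀ v ∈ V, b * v ^ p * b⁻¹ = v ^ p := by
      intro v hv
      set w := b * v * b⁻¹ * v⁻¹ with hw
      have hwV : w ∈ V := V.mul_mem (hVn.conj_mem v hv b) (V.inv_mem hv)
      have hbw : b * w * b⁻¹ = w := hquad v hv b hb b hb
      have hcw : ∀ n : ℕ, b ^ n * v * (b ^ n)⁻¹ = w ^ n * v := by
        intro n
        induction n with
        | zero => group
        | succ n ih =>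
          have e : b ^ (n + 1) * v * (b ^ (n + 1))⁻¹ = b * (b ^ n * v * (b ^ n)⁻¹) * b⁻¹ := by
            rw [pow_succ']; group
          have e2 : b * (w ^ n * v) * b⁻¹ = (b * w * b⁻¹) ^ n * (b * v * b⁻¹) := by
            rw [conj_pow]; group
          have e3 : b * v * b⁻¹ = w * v := by rw [hw]; group
          rw [e, ih, e2, hbw, e3, ← mul_assoc, ← pow_succ]
      have h1 := hcw p
      have h2 : b ^ p * v = v * b ^ p := (Subgroup.mem_centralizer_iff.1 hbp v hv).symm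
      rw [h2, mul_inv_cancel_right] at h1
      have h3 : w ^ p = 1 := by
        have : w ^ p * v = 1 * v := by rw [← h1, one_mul]
        exact mul_right_cancel this
      have e3 : b * v * b⁻¹ = w * v := by rw [hw]; group
      have e4 : b * v ^ p * b⁻¹ = (b * v * b⁻¹) ^ p := by rw [conj_pow]
      have hcom : Commute w v := hVab w hwV v hv
      rw [e4, e3, hcom.mul_pow, h3, one_mul]
    -- the centralizer of the `p`-th powers
    obtain ⟨D, hD⟩ : ∃ D : Subgroup L, D = Subgroup.centralizer {y : L | ∃ v ∈ V, y = v ^ p} := ⟨_, rfl⟩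
    have hDmem : ∀ d, d ∈ D ↔ ∀ v ∈ V, d * v ^ p * d⁻¹ = v ^ p := by
      intro d
      rw [hD, Subgroup.mem_centralizer_iff]
      constructor
      · intro h v hv
        rw [← h _ ⟨v, hv, rfl⟩, mul_inv_cancel_right]
      · rintro h _ ⟨v, hv, rfl⟩
        have := h v hv
        rw [mul_inv_eq_iff_eq_mul] at this
        exact this.symm
    haveI hDn : D.Normal := by
      refine ⟨fun d hd g => ?_⟩
      rw [hDmem] at hd ⊢
      intro v hv
      have h1 := hd (g⁻¹ * v * g⁻¹⁻¹) (hVn.conj_mem v hv g⁻¹)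
      rw [conj_pow] at h1
      have e : g * d * g⁻¹ * v ^ p * (g * d * g⁻¹)⁻¹ = g * (d * (g⁻¹ * v ^ p * g⁻¹⁻¹) * d⁻¹) * g⁻¹ := by group
      rw [e, h1]; group
    obtain ⟨c, hcD, n, hn, hgnc, hcP⟩ := frat_fus (C := D) hemb.syl hPr hgr
    have hfE : Mor E P f := by
      refine real_split hemb hf (c := c) (n := n) (fun x hx => by rw [← hgnc]; exact hg x hx)
        (fun x hx => hcP _ ((mem_im hf.le).2 ⟨x, hx, rfl⟩)) (hcent c ((hDmem c).1 hcD) P) ?_
      -- maps normalizing `S ∩ D`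
      obtain ⟨Y, hYS, hY⟩ := exists_im (show ι.range ⊓ D ≤ ι.range from inf_le_left)
      haveI : Finite Y := finite_of_le hYS
      have hYn : S ≤ Subgroup.normalizer (Y : Set Ω) := by
        intro s hs
        refine mem_normalizer_of_conj_mem fun y hy => ?_
        have h1 : ev ι y ∈ ι.range ⊓ D := by rw [← hY]; exact (mem_im hYS).2 ⟨y, hy, rfl⟩
        have h2 : ev ι (s * y * s⁻¹) ∈ ι.range ⊓ D := by
          refine ⟨ev_range (S.mul_mem (S.mul_mem hs (hYS hy)) (S.inv_mem hs)), ?_⟩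
          rw [ev_conj hs (hYS hy)]
          exact hDn.conj_mem _ h1.2 _
        rw [← hY] at h2
        obtain ⟨w, hw, hwe⟩ := (mem_im hYS).1 h2
        have : w = s * y * s⁻¹ := ev_inj hinj (hYS hw) (S.mul_mem (S.mul_mem hs (hYS hy)) (S.inv_mem hs)) hwe
        rw [← this]; exact hw
      have hYnn : ¬ F.IsNormal Y := by
        intro h
        have h1 : b ∈ ι.range ⊓ D := ⟨hB.1 hb, (hDmem b).2 hbc⟩
        rw [← hY] at h1
        obtain ⟨w, hw, hwe⟩ := (mem_im hYS).1 h1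
        apply hbV
        rw [← hwe]
        exact hOC (core_le_model hM hS (le_core h hw))
      intro Q k hk hkn
      have hYc : ∀ y ∈ Y, n * ev ι y * n⁻¹ ∈ ι.range ⊓ D := by
        intro y hy
        have h1 : ev ι y ∈ ι.range ⊓ D := by rw [← hY]; exact (mem_im hYS).2 ⟨y, hy, rfl⟩
        exact (Subgroup.mem_normalizer_iff.1 hn _).1 h1
      obtain ⟨k', hk', h1, h2⟩ := real_extend hemb hk hkn hYS (fun y hy => (hYc y hy).1)
      refine ((gen_norm_top hS hF ih2 hE1 hE2 hYS hYn hYnn _ k' hk' le_sup_right fun y hy => ?_).restrict le_sup_left).congr h1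
      have h3 := hYc y hy
      rw [← h2 y (Subgroup.mem_sup_right hy), ← hY] at h3
      obtain ⟨w, hw, hwe⟩ := (mem_im hYS).1 h3
      have : w = k' y := ev_inj hinj (hYS hw) (hk'.mem (Subgroup.mem_sup_right hy)) hwe
      rw [← this]; exact hw
    exact hfE
  · push Not at hA
    have hJC : thompsonSubgroupAOf ι.range ≤ Subgroup.centralizer (V : Set L) := by
      rw [ZJ.thompsonA_eq]; exact sSup_le hA
    have hJ : thompsonSubgroupAOf (ι.range ⊓ Subgroup.centralizer (V : Set L)) = thompsonSubgroupAOf ι.range :=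
      ja_eq_of_le inf_le_left (le_inf (ja_le _) hJC)
    obtain ⟨c, hcC, n, hn, hgnc, hcP⟩ := frat_fus (C := Subgroup.centralizer (V : Set L)) hemb.syl hPr hgr
    have hnJ := normalizer_ja hn
    rw [hJ, ← ja_im hS hinj] at hnJ
    have hJS := ja_le S
    refine real_split hemb hf (c := c) (n := n) (fun x hx => by rw [← hgnc]; exact hg x hx)
      (fun x hx => hcP _ ((mem_im hf.le).2 ⟨x, hx, rfl⟩)) (hcent c (fun v hv => ?_) P) ?_
    · have := Subgroup.mem_centralizer_iff.1 hcC (v ^ p) (V.pow_mem hv p)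
      rw [← this, mul_inv_cancel_right]
    · intro Q k hk hkn
      have hYc : ∀ y ∈ thompsonSubgroupAOf S, n * ev ι y * n⁻¹ ∈ ((thompsonSubgroupAOf S).subgroupOf S).map ι := by
        intro y hy
        exact (Subgroup.mem_normalizer_iff.1 hnJ _).1 ((mem_im hJS).2 ⟨y, hy, rfl⟩)
      obtain ⟨k', hk', h1, h2⟩ := real_extend hemb hk hkn hJS (fun y hy => im_le_range (hYc y hy))
      refine ((hE2 _ k' hk' le_sup_right fun y hy => ?_).restrict le_sup_left).congr h1
      have h3 := hYc y hy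
      rw [← h2 y (Subgroup.mem_sup_right hy)] at h3
      obtain ⟨w, hw, hwe⟩ := (mem_im hJS).1 h3
      have : w = k' y := ev_inj hinj (hJS hw) (hk'.mem (Subgroup.mem_sup_right hy)) hwe
      rw [← this]; exact hw

theorem main_aux (n : ℕ) : ∀ (S : Subgroup Ω) (F : FusionSystem S) (_ : Finite S), Nat.card S ≤ n → IsPGroup p S → F.IsSaturated p → GenT F p := by
  induction n with
  | zero =>
    intro S F hfin hn
    have := Nat.card_pos (α := S)
    omega
  | succ n ihn =>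
    intro S F hfin hn hS hF
    induction hm : mu F using Nat.strong_induction_on generalizing F with
    | _ m ihm =>
    subst hm
    intro E hE1 hE2
    by_cases hcen : centralizerIn S F.core ≤ F.core
    · exact step_con hS hF (fun E hE hEs => ihm _ hE E hEs rfl) hE1 hE2 hcen
    · exact step_non hS hF (fun S' F' hfin' hlt hS' hF' => ihn S' F' hfin' (by omega) hS' hF') (fun E hE hEs => ihm _ hE E hEs rfl) hE1 hE2 hcen

theorem main (hS : IsPGroup p S) (hF : F.IsSaturated p) : GenT F p := main_aux (Nat.card S) S F inferInstance le_rfl hS hF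

end Cfsg.Agent.Lib.GlcG
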