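import Cfsg.Agent.Lib.Steiner

/-!
Intersection numbers in the Steiner systems S(5,8,24), S(4,7,23), S(3,6,22), S(5,6,12).
-/

set_option autoImplicit false

namespace Cfsg.Agent.Lib.Steiner

open Cfsg Finset

variable {α : Type*} [Fintype α] [DecidableEq α]

/-- number of blocks meeting `X` in `i` points -/
noncomputable def nn (B : Set (Finset α)) (X : Finset α) (i : ℕ) : ℕ :=
  ((blk B).filter (fun c => (c ∩ X).card = i)).card

theorem nn_eq_ncard (B : Set (Finset α)) (X : Finset α) (i : ℕ) :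
    nn B X i = {c : Finset α | c ∈ B ∧ (c ∩ X).card = i}.ncard := by
  rw [nn, ← Set.ncard_coe_finset]
  congr 1
  ext c
  simp [mem_blk]

theorem moment {t k : ℕ} {B : Set (Finset α)} (hB : IsSteinerSystem t k B) (X : Finset α) {j : ℕ}
    (hj : j ≤ t) : (∑ i ∈ range (k + 1), nn B X i * i.choose j) * (k - j).choose (t - j) =
      X.card.choose j * (Fintype.card α - j).choose (t - j) := by
  rw [← sum_choose hB X hj, sum_group X (k + 1) (fun c hc => by
    have := Finset.card_le_card (Finset.inter_subset_left (s₁ := c) (s₂ := X))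
    rw [hB.1 c hc] at this; omega) (fun i => i.choose j)]
  rfl

theorem nn_self {t k : ℕ} {B : Set (Finset α)} (hB : IsSteinerSystem t k B) (htk : t ≤ k) {b : Finset α} (hb : b ∈ B) :
    nn B b k = 1 ∧ ∀ i, t ≤ i → i < k → nn B b i = 0 := by
  constructor
  · rw [nn, Finset.card_eq_one]
    refine ⟨b, ?_⟩
    ext c
    rw [mem_filter, mem_blk, mem_singleton]
    constructor
    · rintro ⟨hc, h⟩
      exact block_eq hB hc hb (by omega)
    · rintro rfl
      exact ⟨hb, by rw [Finset.inter_self]; exact hB.1 c hb⟩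
  · intro i hi hik
    rw [nn, Finset.card_eq_zero, Finset.filter_eq_empty_iff]
    intro c hc h
    rw [mem_blk] at hc
    have h1 := block_eq hB hc hb (by omega)
    rw [h1, Finset.inter_self, hB.1 b hb] at h
    omega

theorem nn_zero_iff {B : Set (Finset α)} {X : Finset α} {i : ℕ} (h : nn B X i = 0) {c : Finset α} (hc : c ∈ B) :
    (c ∩ X).card ≠ i := by
  intro hi
  rw [nn, Finset.card_eq_zero, Finset.filter_eq_empty_iff] at h
  exact h (mem_blk.2 hc) hi

theorem par_5_8_24 (hα : Fintype.card α = 24) {B : Set (Finset α)} (hB : IsSteinerSystem 5 8 B)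
    {b : Finset α} (hb : b ∈ B) : nn B b 0 = 30 ∧ nn B b 1 = 0 ∧ nn B b 2 = 448 ∧ nn B b 3 = 0 ∧
      nn B b 4 = 280 ∧ nn B b 5 = 0 ∧ nn B b 6 = 0 ∧ nn B b 7 = 0 ∧ nn B b 8 = 1 := by
  obtain ⟨h8, h⟩ := nn_self hB (by norm_num) hb
  have h5 := h 5 (by norm_num) (by norm_num)
  have h6 := h 6 (by norm_num) (by norm_num)
  have h7 := h 7 (by norm_num) (by norm_num)
  have hbc := hB.1 b hb
  have e0 := moment hB b (j := 0) (by norm_num)
  have e1 := moment hB b (j := 1) (by norm_num)
  have e2 := moment hB b (j := 2) (by norm_num)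
  have e3 := moment hB b (j := 3) (by norm_num)
  have e4 := moment hB b (j := 4) (by norm_num)
  simp only [hα, hbc, Finset.sum_range_succ, Finset.sum_range_zero, h5, h6, h7, h8, Nat.choose] at e0 e1 e2 e3 e4
  omega

/-- a set of size 8 meeting every block evenly is a block -/
theorem block_of_even (hα : Fintype.card α = 24) {B : Set (Finset α)} (hB : IsSteinerSystem 5 8 B)
    {X : Finset α} (hX : X.card = 8) (hev : ∀ c ∈ B, Even (c ∩ X).card) : X ∈ B := by
  have hodd : ∀ i, ¬ Even i → nn B X i = 0 := by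
    intro i hi
    rw [nn, Finset.card_eq_zero, Finset.filter_eq_empty_iff]
    intro c hc h
    rw [mem_blk] at hc
    exact hi (h ▸ hev c hc)
  have h1 := hodd 1 (by decide)
  have h3 := hodd 3 (by decide)
  have h5 := hodd 5 (by decide)
  have h7 := hodd 7 (by decide)
  have e3 := moment hB X (j := 3) (by norm_num)
  have e4 := moment hB X (j := 4) (by norm_num)
  have e5 := moment hB X (j := 5) (by norm_num)
  simp only [hα, hX, Finset.sum_range_succ, Finset.sum_range_zero, h1, h3, h5, h7, Nat.choose] at e3 e4 e5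
  have h8 : nn B X 8 = 1 := by omega
  rw [nn, Finset.card_eq_one] at h8
  obtain ⟨c, hc⟩ := h8
  have hc' : c ∈ (blk B).filter (fun c => (c ∩ X).card = 8) := by rw [hc]; exact mem_singleton_self _
  rw [mem_filter, mem_blk] at hc'
  have e1 : c ∩ X = c := Finset.eq_of_subset_of_card_le Finset.inter_subset_left (by rw [hB.1 c hc'.1, hc'.2])
  have e2 : c ∩ X = X := Finset.eq_of_subset_of_card_le Finset.inter_subset_right (by rw [hX, hc'.2])
  rw [← e2, e1]; exact hc'.1

theorem inter_5_8_24 (hα : Fintype.card α = 24) {B : Set (Finset α)} (hB : IsSteinerSystem 5 8 B)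
    {b c : Finset α} (hb : b ∈ B) (hc : c ∈ B) (hbc : b ≠ c) :
    (b ∩ c).card = 0 ∨ (b ∩ c).card = 2 ∨ (b ∩ c).card = 4 := by
  obtain ⟨_, h1, _, h3, _⟩ := par_5_8_24 hα hB hc
  have h1' := nn_zero_iff h1 hb
  have h3' := nn_zero_iff h3 hb
  have h5 : (b ∩ c).card < 5 := by
    by_contra h
    exact hbc (block_eq hB hb hc (by omega))
  omega

theorem even_5_8_24 (hα : Fintype.card α = 24) {B : Set (Finset α)} (hB : IsSteinerSystem 5 8 B)
    {b c : Finset α} (hb : b ∈ B) (hc : c ∈ B) : Even (b ∩ c).card := by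
  by_cases hbc : b = c
  · subst hbc; rw [Finset.inter_self, hB.1 b hb]; decide
  · rcases inter_5_8_24 hα hB hb hc hbc with h | h | h <;> rw [h] <;> decide

/-- parity of the intersection with a symmetric difference -/
theorem card_inter_symmDiff (a b c : Finset α) :
    (a ∩ symmDiff b c).card + 2 * (a ∩ b ∩ c).card = (a ∩ b).card + (a ∩ c).card := by
  have h1 : a ∩ symmDiff b c = ((a ∩ b) \ c) ∪ ((a ∩ c) \ b) := by
    ext x; simp only [mem_inter, mem_symmDiff, mem_union, mem_sdiff]; tauto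
  have h2 : Disjoint ((a ∩ b) \ c) ((a ∩ c) \ b) := by
    rw [Finset.disjoint_left]; intro x hx hy
    simp only [mem_inter, mem_sdiff] at hx hy; exact hy.2 hx.1.2
  rw [h1, Finset.card_union_of_disjoint h2]
  have h3 := Finset.card_sdiff_add_card_inter (a ∩ b) c
  have h4 := Finset.card_sdiff_add_card_inter (a ∩ c) b
  have h5 : a ∩ c ∩ b = a ∩ b ∩ c := by
    ext x; simp only [mem_inter]; tauto
  rw [h5] at h4
  omega

theorem symmDiff_block (hα : Fintype.card α = 24) {B : Set (Finset α)} (hB : IsSteinerSystem 5 8 B)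
    {b c : Finset α} (hb : b ∈ B) (hc : c ∈ B) (h4 : (b ∩ c).card = 4) : symmDiff b c ∈ B := by
  apply block_of_even hα hB
  · have := card_inter_symmDiff Finset.univ b c
    simp only [Finset.univ_inter] at this
    rw [h4, hB.1 b hb, hB.1 c hc] at this
    omega
  · intro d hd
    have h1 := card_inter_symmDiff d b c
    have h2 := even_5_8_24 hα hB hd hb
    have h3 := even_5_8_24 hα hB hd hc
    obtain ⟨x, hx⟩ := h2
    obtain ⟨y, hy⟩ := h3
    refine ⟨x + y - (d ∩ b ∩ c).card, ?_⟩
    omega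

theorem par_4_7_23 (hα : Fintype.card α = 23) {B : Set (Finset α)} (hB : IsSteinerSystem 4 7 B)
    {b : Finset α} (hb : b ∈ B) : nn B b 0 = 0 ∧ nn B b 1 = 112 ∧ nn B b 2 = 0 ∧ nn B b 3 = 140 ∧
      nn B b 4 = 0 ∧ nn B b 5 = 0 ∧ nn B b 6 = 0 ∧ nn B b 7 = 1 := by
  obtain ⟨h8, h⟩ := nn_self hB (by norm_num) hb
  have h4 := h 4 (by norm_num) (by norm_num)
  have h5 := h 5 (by norm_num) (by norm_num)
  have h6 := h 6 (by norm_num) (by norm_num)
  have hbc := hB.1 b hb
  have e0 := moment hB b (j := 0) (by norm_num)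
  have e1 := moment hB b (j := 1) (by norm_num)
  have e2 := moment hB b (j := 2) (by norm_num)
  have e3 := moment hB b (j := 3) (by norm_num)
  simp only [hα, hbc, Finset.sum_range_succ, Finset.sum_range_zero, h5, h6, h4, h8, Nat.choose] at e0 e1 e2 e3
  omega

theorem par_3_6_22 (hα : Fintype.card α = 22) {B : Set (Finset α)} (hB : IsSteinerSystem 3 6 B)
    {b : Finset α} (hb : b ∈ B) : nn B b 0 = 16 ∧ nn B b 1 = 0 ∧ nn B b 2 = 60 ∧ nn B b 3 = 0 ∧
      nn B b 4 = 0 ∧ nn B b 5 = 0 ∧ nn B b 6 = 1 := by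
  obtain ⟨h8, h⟩ := nn_self hB (by norm_num) hb
  have h3 := h 3 (by norm_num) (by norm_num)
  have h4 := h 4 (by norm_num) (by norm_num)
  have h5 := h 5 (by norm_num) (by norm_num)
  have hbc := hB.1 b hb
  have e0 := moment hB b (j := 0) (by norm_num)
  have e1 := moment hB b (j := 1) (by norm_num)
  have e2 := moment hB b (j := 2) (by norm_num)
  simp only [hα, hbc, Finset.sum_range_succ, Finset.sum_range_zero, h5, h3, h4, h8, Nat.choose] at e0 e1 e2
  omega

theorem par_5_6_12 (hα : Fintype.card α = 12) {B : Set (Finset α)} (hB : IsSteinerSystem 5 6 B)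
    {b : Finset α} (hb : b ∈ B) : nn B b 0 = 1 ∧ nn B b 1 = 0 ∧ nn B b 2 = 45 ∧ nn B b 3 = 40 ∧
      nn B b 4 = 45 ∧ nn B b 5 = 0 ∧ nn B b 6 = 1 := by
  obtain ⟨h8, h⟩ := nn_self hB (by norm_num) hb
  have h5 := h 5 (by norm_num) (by norm_num)
  have hbc := hB.1 b hb
  have e0 := moment hB b (j := 0) (by norm_num)
  have e1 := moment hB b (j := 1) (by norm_num)
  have e2 := moment hB b (j := 2) (by norm_num)
  have e3 := moment hB b (j := 3) (by norm_num)
  have e4 := moment hB b (j := 4) (by norm_num)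
  simp only [hα, hbc, Finset.sum_range_succ, Finset.sum_range_zero, h5, h8, Nat.choose] at e0 e1 e2 e3 e4
  omega

theorem compl_block (hα : Fintype.card α = 12) {B : Set (Finset α)} (hB : IsSteinerSystem 5 6 B)
    {b : Finset α} (hb : b ∈ B) : bᶜ ∈ B := by
  obtain ⟨h0, _⟩ := par_5_6_12 hα hB hb
  rw [nn, Finset.card_eq_one] at h0
  obtain ⟨c, hc⟩ := h0
  have hc' : c ∈ (blk B).filter (fun c => (c ∩ b).card = 0) := by rw [hc]; exact mem_singleton_self _
  rw [mem_filter, mem_blk, Finset.card_eq_zero] at hc'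
  have : c = bᶜ := by
    apply Finset.eq_of_subset_of_card_le
    · intro x hx
      rw [mem_compl]
      intro hxb
      have : x ∈ c ∩ b := mem_inter.2 ⟨hx, hxb⟩
      rw [hc'.2] at this
      exact absurd this (Finset.notMem_empty x)
    · rw [Finset.card_compl, hα, hB.1 b hb, hB.1 c hc'.1]
  rw [← this]; exact hc'.1

end Cfsg.Agent.Lib.Steiner
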