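import Mathlib
import Cfsg.Prelude.Def_Local
import Cfsg.Prelude.Def_Solvable
import Cfsg.Agent.Lib.PComp
import Cfsg.Agent.Lib.Components
import Cfsg.Agent.Lib.HallHigman
import Cfsg.Agent.Lib.PSol
import Cfsg.Agent.H3.Cyc
import Cfsg.Agent.S4145

set_option autoImplicit false
set_option linter.style.longLine false

namespace Cfsg.Agent.Lib.H3CycSyl

open Subgroup Cfsg Cfsg.Agent.Lib.Cores Cfsg.Agent.Lib.Components Cfsg.Agent.Lib.PComp

universe u

variable {K : Type u} [Group K] [Finite K]

theorem no_rank_two {p : ℕ} [hp : Fact p.Prime] (hcyc : ∀ P : Sylow p K, IsCyclic (P : Subgroup K)) {x y : K}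
    (hx : orderOf x = p) (hy : orderOf y = p) (hxy : Commute x y) : y ∈ zpowers x := by
  have h1 : IsPGroup p (zpowers x) := IsPGroup.of_card (n := 1) (by rw [Nat.card_zpowers, hx, pow_one])
  have h2 : IsPGroup p (zpowers y) := IsPGroup.of_card (n := 1) (by rw [Nat.card_zpowers, hy, pow_one])
  have h3 : zpowers x ≤ normalizer (zpowers y : Set K) := by
    refine le_trans ?_ (centralizer_le_normalizer _)
    rw [zpowers_le, mem_centralizer_iff]
    intro z hz
    obtain ⟨k, rfl⟩ := mem_zpowers_iff.1 hz
    exact (hxy.zpow_right k).symm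
  have h4 : IsPGroup p (zpowers x ⊔ zpowers y : Subgroup K) := IsPGroup.to_sup_of_normal_right' h1 h2 h3
  obtain ⟨P, hP⟩ := h4.exists_le_sylow
  haveI := hcyc P
  have hxP : x ∈ (P : Subgroup K) := hP (le_sup_left (a := zpowers x) (mem_zpowers x))
  have hyP : y ∈ (P : Subgroup K) := hP (le_sup_right (b := zpowers y) (mem_zpowers y))
  have h5 : (⟨y, hyP⟩ : (P : Subgroup K)) ∈ zpowers (⟨x, hxP⟩ : (P : Subgroup K)) := by
    apply Cfsg.Agent.H3.Cyc.mem_of_orderOf_dvd_card
    rw [Nat.card_zpowers, Subgroup.orderOf_mk, Subgroup.orderOf_mk, hx, hy]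
  obtain ⟨k, hk⟩ := mem_zpowers_iff.1 h5
  exact mem_zpowers_iff.2 ⟨k, congrArg Subtype.val hk⟩

theorem solv_case {p : ℕ} [hp : Fact p.Prime] (hO : pPrimeCore p K = ⊥)
    (P : Sylow p K) (hP : IsCyclic ↥(P : Subgroup K)) (hs : IsPSolvable p K) :
    ((P : Subgroup K).Normal ∧ Subgroup.centralizer ((P : Subgroup K) : Set K) = (P : Subgroup K) ∧
      (∀ (_ : (P : Subgroup K).Normal), IsCyclic (K ⧸ (P : Subgroup K))) ∧ (P : Subgroup K).index ∣ p - 1) := by
  have h1 := Cfsg.Agent.Lib.HallHigman.centralizer_pCore_le p hs hO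
  have h2 : pCore p K ≤ P := pCore_le_sylow P
  have hPab : ∀ a ∈ (P : Subgroup K), ∀ b ∈ (P : Subgroup K), a * b = b * a := fun a ha b hb =>
    congrArg Subtype.val ((IsCyclic.commGroup (α := (P : Subgroup K))).mul_comm ⟨a, ha⟩ ⟨b, hb⟩)
  have h3 : (P : Subgroup K) ≤ centralizer (pCore p K : Set K) := by
    intro x hx
    rw [mem_centralizer_iff]
    intro y hy
    exact hPab y (h2 hy) x hx
  have h4 : (P : Subgroup K) = pCore p K := le_antisymm (h3.trans h1) h2
  have hPn : (P : Subgroup K).Normal := by rw [h4]; exact Cfsg.Agent.Lib.Cores.pCore_normal p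
  have hC : centralizer ((P : Subgroup K) : Set K) = (P : Subgroup K) := by
    apply le_antisymm
    · rw [h4]; exact h1
    · intro x hx
      rw [mem_centralizer_iff]
      intro y hy
      exact hPab y hy x hx
  -- the action on `P`
  let φ : K →* MulAut (P : Subgroup K) := MulAut.conjNormal
  have hker : φ.ker = (P : Subgroup K) := by
    ext x
    have hxC : x ∈ (P : Subgroup K) ↔ x ∈ centralizer ((P : Subgroup K) : Set K) := by rw [hC]
    rw [hxC, MonoidHom.mem_ker, mem_centralizer_iff]
    constructor
    · intro h y hy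
      have h5 : ((φ x ⟨y, hy⟩ : (P : Subgroup K)) : K) = y := by rw [h]; rfl
      rw [MulAut.conjNormal_apply] at h5
      change x * y * x⁻¹ = y at h5
      rw [mul_inv_eq_iff_eq_mul] at h5
      exact h5.symm
    · intro h
      apply MulEquiv.ext
      intro y
      apply Subtype.ext
      rw [MulAut.conjNormal_apply, MulAut.one_apply, mul_inv_eq_iff_eq_mul]
      exact (h y y.2).symm
  obtain ⟨n, hn⟩ := P.isPGroup'.exists_card_eq
  have hcardAut : Nat.card (MulAut (P : Subgroup K)) = Nat.totient (p ^ n) := by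
    rw [← hn]
    exact IsCyclic.card_mulAut _
  have hidx : (P : Subgroup K).index ∣ Nat.totient (p ^ n) := by
    have h7 : (P : Subgroup K).index = Nat.card φ.range :=
      (congrArg Subgroup.index hker.symm).trans (Subgroup.index_ker φ)
    rw [← hcardAut, h7]
    exact Subgroup.card_subgroup_dvd_card _
  have hnd : ¬ p ∣ (P : Subgroup K).index := P.not_dvd_index
  have hidx2 : (P : Subgroup K).index ∣ p - 1 := by
    rcases Nat.eq_zero_or_pos n with rfl | hn0
    · rw [pow_zero, Nat.totient_one] at hidx
      exact hidx.trans (one_dvd _)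
    · rw [Nat.totient_prime_pow hp.out hn0] at hidx
      refine Nat.Coprime.dvd_of_dvd_mul_left ?_ hidx
      exact Nat.Coprime.pow_right _ (((Nat.Prime.coprime_iff_not_dvd hp.out).2 hnd).symm)
  refine ⟨hPn, hC, ?_, hidx2⟩
  intro hPn'
  by_cases hp2 : p = 2
  · have h6 : (P : Subgroup K).index = 1 := by
      have hp1 : p - 1 = 1 := by omega
      rw [hp1] at hidx2
      exact Nat.dvd_one.1 hidx2
    haveI : Subsingleton (K ⧸ (P : Subgroup K)) := by
      have h7 : Nat.card (K ⧸ (P : Subgroup K)) = 1 := h6
      exact (Nat.card_eq_one_iff_unique.1 h7).1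
    infer_instance
  · haveI : IsCyclic (ZMod (p ^ n))ˣ := ZMod.isCyclic_units_of_prime_pow p hp.out hp2 n
    have hcycAut : IsCyclic (MulAut (P : Subgroup K)) := by
      have e := IsCyclic.mulAutMulEquiv (P : Subgroup K)
      rw [hn] at e
      exact isCyclic_of_surjective e.symm e.symm.surjective
    have e1 : K ⧸ (P : Subgroup K) ≃* K ⧸ φ.ker := QuotientGroup.quotientMulEquivOfEq hker.symm
    have e2 : K ⧸ φ.ker ≃* φ.range := QuotientGroup.quotientKerEquivRange φ
    exact isCyclic_of_surjective (e1.trans e2).symm (e1.trans e2).symm.surjective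

theorem main (p : ℕ) [hpf : Fact p.Prime] (hp : p ∣ Nat.card K) (hO : pPrimeCore p K = ⊥)
    (P : Sylow p K) (hP : IsCyclic ↥(P : Subgroup K)) :
    ((P : Subgroup K).Normal ∧ Subgroup.centralizer ((P : Subgroup K) : Set K) = (P : Subgroup K) ∧
      (∀ (_ : (P : Subgroup K).Normal), IsCyclic (K ⧸ (P : Subgroup K))) ∧ (P : Subgroup K).index ∣ p - 1) ∨
    (IsSimpleGroup ↥(generalizedFittingSubgroup K) ∧ ¬ IsMulCommutative ↥(generalizedFittingSubgroup K) ∧
      ¬ p ∣ (generalizedFittingSubgroup K).index) := by
  by_cases hs : IsPSolvable p K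
  · exact Or.inl (solv_case hO P hP hs)
  right
  have hcyc : ∀ Q : Sylow p K, IsCyclic (Q : Subgroup K) := by
    intro Q
    have e := Q.equiv P
    exact isCyclic_of_surjective e.symm e.symm.surjective
  -- every subnormal `p'`-subgroup is trivial
  have hsub : ∀ S : Subgroup K, S.IsSubnormal → S ≠ ⊥ → p ∣ Nat.card S := by
    intro S hS hne
    by_contra hd
    apply hne
    rw [eq_bot_iff, ← hO]
    exact subnormal_le_pPrimeCore hS (((Nat.Prime.coprime_iff_not_dvd hpf.out).2 hd).symm)
  have hnorm : ∀ N : Subgroup K, N.Normal → N ≠ ⊥ → ¬ p ∣ N.index := by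
    intro N hN hne hd
    exact hs (Cfsg.Agent.S4145.result p P hP N (hsub N hN.isSubnormal hne) hd).2
  have hpcore : pCore p K = ⊥ := by
    by_contra hne
    haveI hn : (pCore p K).Normal := Cfsg.Agent.Lib.Cores.pCore_normal p
    have h1 := hnorm (pCore p K) hn hne
    apply hs
    -- chain ⊥ ≤ pCore ≤ ⊤
    refine ⟨2, fun i => if (i : ℕ) = 0 then ⊥ else if (i : ℕ) = 1 then pCore p K else ⊤, rfl, rfl, ?_, ?_, ?_⟩
    · intro i j hij
      fin_cases i <;> fin_cases j <;> simp_all
    · intro i
      fin_cases i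
      · exact (inferInstance : (⊥ : Subgroup K).Normal)
      · exact hn
      · exact (inferInstance : (⊤ : Subgroup K).Normal)
    · intro i
      fin_cases i
      · left
        obtain ⟨k, hk⟩ := (pCore_isPGroup (G := K) p).exists_card_eq
        refine ⟨k, ?_⟩
        change (⊥ : Subgroup K).relIndex (pCore p K) = p ^ k
        rw [relIndex_bot_left, hk]
      · right
        change ((pCore p K).relIndex ⊤).Coprime p
        rw [relIndex_top_right]
        exact ((Nat.Prime.coprime_iff_not_dvd hpf.out).2 h1).symm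
  have hfit : fittingSubgroup K = ⊥ := by
    rw [fitting_eq_bot_iff]
    intro q hq
    haveI : Fact q.Prime := ⟨hq⟩
    by_cases hqp : q = p
    · rw [hqp]; exact hpcore
    · rw [eq_bot_iff, ← hO]
      exact pCore_le_pPrimeCore hq hpf.out hqp
  have hgf : generalizedFittingSubgroup K = layer K := by
    unfold generalizedFittingSubgroup
    rw [hfit, sup_bot_eq]
  have hKne : Nontrivial K := by
    rw [← Finite.one_lt_card_iff_nontrivial]
    exact lt_of_lt_of_le hpf.out.one_lt (Nat.le_of_dvd Nat.card_pos hp)
  have hgfne : generalizedFittingSubgroup K ≠ ⊥ := by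
    intro h
    have h1 := centralizer_generalizedFitting_le (G := K)
    rw [h] at h1
    obtain ⟨x, hx⟩ := exists_ne (1 : K)
    apply hx
    have h2 : x ∈ centralizer ((⊥ : Subgroup K) : Set K) := by
      rw [mem_centralizer_iff]
      intro y hy
      rw [SetLike.mem_coe, mem_bot] at hy
      rw [hy, one_mul, mul_one]
    exact mem_bot.1 (h1 h2)
  obtain ⟨S, hS⟩ : ∃ S : Subgroup K, IsComponent S := by
    by_contra hcon
    push Not at hcon
    apply hgfne
    rw [hgf, eq_bot_iff]
    exact sSup_le (fun S hS => absurd hS (hcon S))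
  -- the centre of a component is trivial
  have hcen : ∀ S : Subgroup K, IsComponent S → center S = ⊥ := by
    intro S hS
    have h1 : ((center S).map S.subtype).IsSubnormal := by
      refine Subgroup.IsSubnormal.trans' ?_ hS.1
      exact (inferInstance : (center S).Normal).isSubnormal
    have h2 : Group.IsNilpotent ((center S).map S.subtype : Subgroup K) := by
      have e := (center S).equivMapOfInjective S.subtype S.subtype_injective
      haveI : Group.IsNilpotent (center S) := by
        letI : CommGroup (center S) := { (inferInstance : Group (center S)) with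
          mul_comm := fun a b => Subtype.ext ((mem_center_iff.1 b.2 a)) }
        exact CommGroup.isNilpotent
      exact Group.nilpotent_of_mulEquiv e
    have h3 := subnormal_nilpotent_le_fitting h1 h2
    rw [hfit, le_bot_iff, map_eq_bot_iff_of_injective _ S.subtype_injective] at h3
    exact h3
  have huniq : ∀ T : Subgroup K, IsComponent T → T = S := by
    intro T hT
    by_contra hne
    have hcomm := component_commute_of_ne hT hS hne
    obtain ⟨x, hx⟩ := exists_prime_orderOf_dvd_card' p (hsub T hT.1 (component_ne_bot hT))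
    obtain ⟨y, hy⟩ := exists_prime_orderOf_dvd_card' p (hsub S hS.1 (component_ne_bot hS))
    have hc1 : ∀ a ∈ T, ∀ b ∈ S, a * b = b * a := by
      intro a ha b hb
      have := Subgroup.commutator_mem_commutator ha hb
      rw [hcomm, mem_bot] at this
      exact commutatorElement_eq_one_iff_mul_comm.1 this
    have hxo : orderOf (x : K) = p := by rw [Subgroup.orderOf_coe]; exact hx
    have hyo : orderOf (y : K) = p := by rw [Subgroup.orderOf_coe]; exact hy
    have h5 := no_rank_two hcyc hxo hyo (hc1 x x.2 y y.2)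
    have h6 : (y : K) ∈ T := (zpowers_le.2 x.2) h5
    have h7 : (y : S) ∈ center S := by
      rw [mem_center_iff]
      intro z
      apply Subtype.ext
      exact (hc1 y h6 z z.2).symm
    rw [hcen S hS, mem_bot] at h7
    rw [h7, orderOf_one] at hy
    exact hpf.out.one_lt.ne hy
  have hgS : generalizedFittingSubgroup K = S := by
    rw [hgf]
    apply le_antisymm
    · exact sSup_le (fun T hT => (huniq T hT).le)
    · exact component_le_layer hS
  have hgn : (generalizedFittingSubgroup K).Normal := generalizedFitting_normal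
  refine ⟨?_, ?_, hnorm _ hgn hgfne⟩
  · rw [hgS]
    haveI := quasisimple_nontrivial hS.2
    refine ⟨fun N hN => ?_⟩
    rcases quasisimple_normal hS.2 N hN with h | h
    · exact Or.inr h
    · left
      rw [hcen S hS] at h
      exact le_bot_iff.1 h
  · rw [hgS]
    intro hab
    apply component_not_solvable hS
    exact Group.isSolvable_of_comm (fun a b => hab.is_comm.comm a b)

end Cfsg.Agent.Lib.H3CycSyl
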