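import Mathlib
import Cfsg.Agent.Lib.PGrpF

/-!
2-groups without normal Klein four subgroups.
-/

set_option autoImplicit false

namespace Cfsg.Agent.Lib.PGrpG

open Subgroup Cfsg.Agent.Lib.Basic Cfsg.Agent.Lib.PGrpA Cfsg.Agent.Lib.PGrpC
open scoped commutatorElement Pointwise

variable {G : Type*} [Group G]

/-- the elements of order dividing `p` of a normal abelian subgroup -/
theorem exists_omega_normal [Finite G] {A : Subgroup G} [hAn : A.Normal] (hA : IsMulCommutative A) (p : ℕ) :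
    ∃ W : Subgroup G, W.Normal ∧ ∀ x, x ∈ W ↔ x ∈ A ∧ x ^ p = 1 := by
  have hc := Nilp.isMulCommutative_iff_forall.mp hA
  let W : Subgroup G :=
    { carrier := {x | x ∈ A ∧ x ^ p = 1}
      one_mem' := ⟨A.one_mem, one_pow p⟩
      mul_mem' := by
        rintro x y ⟨hx, hxp⟩ ⟨hy, hyp⟩
        exact ⟨A.mul_mem hx hy, by rw [(show Commute x y from hc x hx y hy).mul_pow, hxp, hyp, one_mul]⟩
      inv_mem' := by
        rintro x ⟨hx, hxp⟩
        exact ⟨A.inv_mem hx, by rw [inv_pow, hxp, inv_one]⟩ }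
  refine ⟨W, ⟨?_⟩, fun x => Iff.rfl⟩
  rintro x ⟨hx, hxp⟩ g
  exact ⟨hAn.conj_mem x hx g, by rw [conj_pow, hxp, mul_one, mul_inv_cancel]⟩

theorem no_normal_klein [Finite G] (hG : IsPGroup 2 G)
    (hV : ¬ ∃ V : Subgroup G, V.Normal ∧ Nat.card V = 4 ∧ ∀ v ∈ V, v ^ 2 = 1) :
    ∃ C : Subgroup G, IsCyclic C ∧ C.index ≤ 2 := by
  have := hG.isNilpotent
  -- a maximal abelian normal subgroup
  obtain ⟨A, ⟨hAn, hAc⟩, hmax⟩ := Set.exists_max_image {A : Subgroup G | A.Normal ∧ IsMulCommutative A}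
    (fun A => Nat.card A) (Set.toFinite _) ⟨⊥, inferInstance, inferInstance⟩
  have hCA : centralizer (A : Set G) = A := Nilp.centralizer_eq_of_maximal_abelian_normal A hAc
    (fun M hM hMc hAM => (eq_of_le_of_card_ge hAM (hmax M ⟨hM, hMc⟩)).symm)
  have hcyc : IsCyclic A := by
    by_contra hnc
    obtain ⟨p, hp, E, hE, he⟩ := Partition.exists_elementary_of_not_isCyclic hAc hnc
    have hp2 : p = 2 := by
      obtain ⟨n, hn⟩ := IsPGroup.iff_card.mp (hG.to_subgroup A)
      have h1 : p ∣ Nat.card A := (dvd_pow_self p two_ne_zero).trans (hE ▸ E.card_subgroup_dvd_card)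
      rw [hn] at h1
      exact (Nat.prime_dvd_prime_iff_eq hp Nat.prime_two).mp (hp.dvd_of_dvd_pow h1)
    subst hp2
    obtain ⟨W, hWn, hW⟩ := exists_omega_normal hAc 2
    have h4 : 4 ≤ Nat.card W := by
      have h1 : E.map A.subtype ≤ W := by
        rintro _ ⟨x, hx, rfl⟩
        rw [hW]
        refine ⟨x.2, ?_⟩
        have := he x hx
        exact congrArg Subtype.val this
      have h2 := card_le_of_le h1
      rw [card_map_of_injective A.subtype_injective, hE] at h2
      exact h2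
    obtain ⟨V, hVn, -, hVW, hVc⟩ := exists_normal_card hG (bot_le : (⊥ : Subgroup G) ≤ W) 2 (by
      rw [card_bot, one_mul]; exact h4)
    exact hV ⟨V, hVn, by rw [hVc, card_bot]; norm_num, fun v hv => ((hW v).mp (hVW hv)).2⟩
  by_cases hAt : A = ⊤
  · exact ⟨A, hcyc, by rw [hAt, index_top]; norm_num⟩
  obtain ⟨a, haA'⟩ := PGrpF.exists_gen hcyc
  have haA : a ∈ A := haA' ▸ mem_zpowers a
  have hAa : zpowers a = A := haA'
  have hcomm_iff : ∀ x : G, x * a * x⁻¹ = a → x ∈ A := by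
    intro x hx
    have hx' := mul_inv_eq_iff_eq_mul.mp hx
    rw [← hCA, mem_centralizer_iff]
    intro y hy
    have hy' : y ∈ zpowers a := hAa ▸ hy
    obtain ⟨k, rfl⟩ := mem_zpowers_iff.mp hy'
    exact ((show Commute x a from hx').zpow_right k).eq.symm
  obtain ⟨n, hn⟩ := IsPGroup.iff_card.mp (hG.to_subgroup (zpowers a))
  rw [Nat.card_zpowers] at hn
  have hAcen : ¬ A ≤ center G := by
    intro h
    apply hAt
    rw [eq_top_iff]
    intro x _
    apply hcomm_iff x
    rw [mem_center_iff.mp (h haA) x, mul_inv_cancel_right]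
  have hn2 : 2 ≤ n := by
    by_contra hlt
    have : n = 0 ∨ n = 1 := by omega
    rcases this with rfl | rfl
    · rw [pow_zero, orderOf_eq_one_iff] at hn
      apply hAcen
      rw [← hAa, hn, zpowers_one_eq_bot]; exact bot_le
    · exact hAcen (le_center_of_card_eq_prime hG (by rw [← hAa, Nat.card_zpowers, hn, pow_one]))
  obtain ⟨m, rfl⟩ : ∃ m, n = m + 1 := ⟨n - 1, by omega⟩
  have hm : 1 ≤ m := by omega
  have hinvol : orderOf (a ^ 2 ^ m) = 2 := by
    rw [orderOf_pow_of_dvd (by positivity) (by rw [hn]; exact pow_dvd_pow _ (Nat.le_succ m)), hn,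
      pow_succ, Nat.mul_div_cancel_left _ (by positivity)]
  -- the action of any element on `a`
  have hact : ∀ x : G, ∃ r : ℤ, x * a * x⁻¹ = a ^ r := fun x => by
    obtain ⟨r, hr⟩ := mem_zpowers_iff.mp (hAa ▸ hAn.conj_mem a haA x : x * a * x⁻¹ ∈ zpowers a)
    exact ⟨r, hr.symm⟩
  have hact2 : ∀ x y : G, ∀ r s : ℤ, x * a * x⁻¹ = a ^ r → y * a * y⁻¹ = a ^ s →
      (x * y) * a * (x * y)⁻¹ = a ^ (r * s) := by
    intro x y r s hx hy
    have h1 := conj_zpow_of hx s
    rw [← hy] at h1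
    rw [← h1]; group
  have hnabel : ∀ x y : G, x * y * x⁻¹ * y⁻¹ ∈ A := by
    intro x y
    obtain ⟨r, hr⟩ := hact x
    obtain ⟨s, hs⟩ := hact y
    apply hcomm_iff
    have h1 := hact2 x y r s hr hs
    have h2 := hact2 y x s r hs hr
    have h3 : (x * y) * a * (x * y)⁻¹ = (y * x) * a * (y * x)⁻¹ := by rw [h1, h2, mul_comm]
    have h4 : (y * x)⁻¹ * (x * y) * a * ((y * x)⁻¹ * (x * y))⁻¹ = a := by
      calc (y * x)⁻¹ * (x * y) * a * ((y * x)⁻¹ * (x * y))⁻¹
          = (y * x)⁻¹ * ((x * y) * a * (x * y)⁻¹) * (y * x) := by group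
        _ = (y * x)⁻¹ * ((y * x) * a * (y * x)⁻¹) * (y * x) := by rw [h3]
        _ = a := by group
    have h5 := hcomm_iff _ h4
    -- conjugate
    have h6 := hAn.conj_mem _ h5 (y * x)
    have h7 : x * y * x⁻¹ * y⁻¹ ∈ A := by
      have e : (y * x) * ((y * x)⁻¹ * (x * y)) * (y * x)⁻¹ = x * y * x⁻¹ * y⁻¹ := by group
      rwa [e] at h6
    obtain ⟨i, hi⟩ := mem_zpowers_iff.mp (hAa ▸ h7 : x * y * x⁻¹ * y⁻¹ ∈ zpowers a)
    rw [← hi]; group
  -- types of elements outside `A` with square in `A`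
  have key : ∀ b : G, b ∉ A → b ^ 2 ∈ A → b * a * b⁻¹ = a ^ (-1 : ℤ) ∨
      (2 ≤ m ∧ b * a * b⁻¹ = a ^ ((2 : ℤ) ^ m - 1)) := by
    intro b hb hb2
    obtain ⟨r, hr⟩ := hact b
    have hnc : b * a ≠ a * b := fun h => hb (hcomm_iff b (by rw [h, mul_inv_cancel_right]))
    have hb2' : b ^ 2 ∈ zpowers a := hAa ▸ hb2
    obtain ⟨l, hl⟩ := mem_zpowers_iff.mp hb2'
    have hl2 : (2 : ℤ) ∣ l := by
      by_contra hodd
      apply hnc
      have h1 : orderOf (b ^ 2) = orderOf a := by
        rw [← hl, orderOf_zpow_natAbs, orderOf_pow, hn]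
        have : Nat.gcd (2 ^ (m + 1)) l.natAbs = 1 := by
          apply Nat.Coprime.pow_left
          rw [Nat.Prime.coprime_iff_not_dvd Nat.prime_two]
          intro h
          exact hodd (Int.natCast_dvd.mpr h)
        rw [this, Nat.div_one]
      have h2 : zpowers (b ^ 2) = zpowers a := by
        apply eq_of_le_of_card_ge (zpowers_le.mpr hb2')
        rw [Nat.card_zpowers, Nat.card_zpowers, h1]
      have h3 : a ∈ zpowers (b ^ 2) := h2 ▸ mem_zpowers a
      obtain ⟨k, hk⟩ := mem_zpowers_iff.mp h3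
      rw [← hk]
      exact (((Commute.refl b).pow_right 2).zpow_right k).eq
    obtain ⟨k, rfl⟩ := hl2
    have hcj : ∀ j : ℤ, (b * a ^ j) * a * (b * a ^ j)⁻¹ = b * a * b⁻¹ := by
      intro j; group
    obtain ⟨j, h | h | h | h⟩ := two_main hm hn hr hl.symm hnc
    · left; rw [zpow_neg_one, ← h.2, hcj]
    · left; rw [zpow_neg_one, ← h.2, hcj]
    · exfalso
      obtain ⟨hm2, hsq, hcon⟩ := h
      obtain ⟨c, hc⟩ : ∃ c, c = b * a ^ j := ⟨_, rfl⟩
      rw [← hc] at hsq hcon
      have hcA : c ∉ A := by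
        intro h
        have := mul_mem h (inv_mem (zpow_mem haA j))
        rw [hc, mul_inv_cancel_right] at this
        exact hb this
      have hc1 : c ≠ 1 := fun h => hcA (h ▸ one_mem A)
      have hco : orderOf c = 2 := orderOf_eq_prime hsq hc1
      have hcon' : c * a * c⁻¹ = a ^ (1 + 2 ^ m : ℤ) := by
        rw [hcon]; exact_mod_cast (zpow_natCast a (1 + 2 ^ m)).symm
      -- z = a^(2^m) central in G
      have hzn : (zpowers (a ^ 2 ^ m)).Normal := Cyc.normal_of_le_isCyclic (N := A) hcyc (by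
        rw [← hAa]; exact zpowers_le.mpr (pow_mem (mem_zpowers a) _))
      have hzc : zpowers (a ^ 2 ^ m) ≤ center G := le_center_of_card_eq_prime hG (by
        rw [Nat.card_zpowers, hinvol])
      have hVc : Nat.card (zpowers (a ^ 2 ^ m) ⊔ zpowers c : Subgroup G) = 4 := by
        rw [card_sup_of_inf_eq_bot, Nat.card_zpowers, Nat.card_zpowers, hinvol, hco]
        · rw [normalizer_eq_top_iff.mpr hzn]; exact le_top
        · rw [eq_bot_iff]
          intro x hx
          obtain ⟨h1, h2⟩ := mem_inf.mp hx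
          by_contra hx1
          rw [mem_bot] at hx1
          have h3 : zpowers x = zpowers c := by
            apply eq_of_le_of_card_ge (zpowers_le.mpr h2)
            rw [Nat.card_zpowers, Nat.card_zpowers, hco]
            have h4 : orderOf x ∣ 2 := by
              rw [← hco, ← Nat.card_zpowers c]
              have := card_dvd_of_le (zpowers_le.mpr h2)
              rwa [Nat.card_zpowers] at this
            rcases (Nat.dvd_prime Nat.prime_two).mp h4 with h5 | h5
            · exact absurd (orderOf_eq_one_iff.mp h5) hx1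
            · rw [h5]
          have h4 : c ∈ zpowers x := h3 ▸ mem_zpowers c
          apply hcA
          rw [← hAa]
          exact (zpowers_le.mpr (pow_mem (mem_zpowers a) _)) ((zpowers_le.mpr h1) h4)
      refine hV ⟨zpowers (a ^ 2 ^ m) ⊔ zpowers c, ⟨?_⟩, hVc, ?_⟩
      · -- normality
        intro v hv g
        have hgc : g * c * g⁻¹ ∈ zpowers (a ^ 2 ^ m) ⊔ zpowers c := by
          have h1 := hnabel g c
          -- g c g⁻¹ = (g c g⁻¹ c⁻¹) c = a^i c = c a^i'
          have h2 : c⁻¹ * (g * c * g⁻¹) ∈ A := by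
            have := hAn.conj_mem _ h1 c⁻¹
            have e : c⁻¹ * (g * c * g⁻¹ * c⁻¹) * c⁻¹⁻¹ = c⁻¹ * (g * c * g⁻¹) := by group
            rwa [e] at this
          obtain ⟨i, hi⟩ := mem_zpowers_iff.mp (hAa ▸ h2 : c⁻¹ * (g * c * g⁻¹) ∈ zpowers a)
          have h3 : g * c * g⁻¹ = c * a ^ i := by rw [hi]; group
          have h4 : (c * a ^ i) ^ 2 = 1 := by
            rw [← h3, conj_pow, hsq, mul_one, mul_inv_cancel]
          rw [sq_mul_zpow hcon' (k := 0) (by rw [mul_zero, zpow_zero]; exact hsq), ← zpow_zero a,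
            zpow_eq_iff hn] at h4
          push_cast at h4
          obtain ⟨m', rfl⟩ : ∃ m', m = m' + 2 := ⟨m - 2, by omega⟩
          have h5 : (2 : ℤ) ^ (m' + 2) ∣ i := by
            have e : 2 * 0 + (1 + 2 ^ (m' + 2) + 1) * i - 0 = 2 * ((1 + 2 * 2 ^ m') * i) := by ring
            have e2 : (2 : ℤ) ^ (m' + 2 + 1) = 2 * 2 ^ (m' + 2) := by ring
            rw [mul_zero] at e
            rw [e, e2] at h4
            have h6 : (2 : ℤ) ^ (m' + 2) ∣ (1 + 2 * 2 ^ m') * i := Int.dvd_of_mul_dvd_mul_left (by norm_num) h4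
            have h7 : IsCoprime ((2 : ℤ) ^ (m' + 2)) (1 + 2 * 2 ^ m') :=
              IsCoprime.pow_left ⟨-2 ^ m', 1, by ring⟩
            exact h7.dvd_of_dvd_mul_left h6
          obtain ⟨l, rfl⟩ := h5
          rw [h3]
          apply mul_mem (mem_sup_right (mem_zpowers c))
          apply mem_sup_left
          rw [zpow_mul]
          have : a ^ ((2 : ℤ) ^ (m' + 2)) = a ^ 2 ^ (m' + 2) := by exact_mod_cast zpow_natCast a (2 ^ (m' + 2))
          rw [this]
          exact zpow_mem (mem_zpowers _) l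
        have h1 : zpowers (a ^ 2 ^ m) ⊔ zpowers c ≤
            (zpowers (a ^ 2 ^ m) ⊔ zpowers c).comap (MulAut.conj g).toMonoidHom := by
          apply sup_le
          · intro x hx
            exact mem_sup_left (hzn.conj_mem x hx g)
          · rw [zpowers_le]
            exact hgc
        exact h1 hv
      · intro v hv
        obtain ⟨u, hu, w, hw, rfl⟩ := (mem_sup_iff_left (N := zpowers (a ^ 2 ^ m)) (H := zpowers c) (by
          rw [normalizer_eq_top_iff.mpr hzn]; exact le_top)).mp hv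
        have hu2 : u ^ 2 = 1 := by
          obtain ⟨i, rfl⟩ := mem_zpowers_iff.mp hu
          have h1 : (a ^ 2 ^ m) ^ 2 = 1 := by
            have := pow_orderOf_eq_one (a ^ 2 ^ m)
            rwa [hinvol] at this
          rw [← zpow_natCast, ← zpow_mul, mul_comm, zpow_mul, zpow_natCast, h1, one_zpow]
        have hw2 : w ^ 2 = 1 := by
          obtain ⟨i, rfl⟩ := mem_zpowers_iff.mp hw
          rw [← zpow_natCast, ← zpow_mul, mul_comm, zpow_mul, zpow_natCast, hsq, one_zpow]
        have : Commute u w := (mem_center_iff.mp (hzc hu) w).symm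
        rw [this.mul_pow, hu2, hw2, one_mul]
    · right
      refine ⟨h.1, ?_⟩
      rw [← hcj j, h.2.2, ← zpow_natCast, zpow_eq_iff hn]
      refine ⟨0, ?_⟩
      rw [Nat.cast_sub (Nat.one_le_pow _ _ (by norm_num))]
      push_cast; ring
  -- C = normal subgroup with |C : A| = 2
  have hlt : A < ⊤ := lt_top_iff_ne_top.mpr hAt
  obtain ⟨C, hCn, hAC, -, hCc⟩ := exists_normal_step hG hlt
  obtain ⟨b, hbC, hbA⟩ := SetLike.exists_of_lt hAC
  have hsq2 : ∀ (A C : Subgroup G), A.Normal → A ≤ C → Nat.card C = 2 * Nat.card A →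
      ∀ x ∈ C, x ^ 2 ∈ A := by
    intro A C hA hAC hCc x hx
    have hidx : (A.subgroupOf C).index = 2 := by
      have := relIndex_mul_card hAC
      rw [hCc] at this
      exact Nat.eq_of_mul_eq_mul_right Nat.card_pos this
    have h3 : (⟨x, hx⟩ : C) ^ 2 ∈ A.subgroupOf C := by
      have hn : (A.subgroupOf C).Normal := inferInstance
      rw [← QuotientGroup.eq_one_iff, QuotientGroup.mk_pow, ← hidx, index_eq_card]
      exact pow_card_eq_one'
    exact h3
  have hb2 := hsq2 A C hAn hAC.le hCc b hbC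
  have hbt := key b hbA hb2
  by_cases hCt : C = ⊤
  · refine ⟨A, hcyc, ?_⟩
    rw [hCt, Subgroup.card_top] at hCc
    have := A.card_mul_index
    rw [hCc, mul_comm] at this
    exact (Nat.eq_of_mul_eq_mul_right Nat.card_pos this).le
  exfalso
  obtain ⟨D, hDn, hCD, -, hDc⟩ := exists_normal_step hG (lt_top_iff_ne_top.mpr hCt)
  obtain ⟨x, hxD, hxC⟩ := SetLike.exists_of_lt hCD
  have hx2 := hsq2 C D hCn hCD.le hDc x hxD
  have hxA : x ∉ A := fun h => hxC (hAC.le h)
  by_cases hx2A : x ^ 2 ∈ A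
  · have hxt := key x hxA hx2A
    -- same type: x b ∈ A; different type: x b has forbidden type
    have hsame : ∀ r : ℤ, (2 : ℤ) ^ (m + 1) ∣ r * r - 1 → x * a * x⁻¹ = a ^ r → b * a * b⁻¹ = a ^ r → False := by
      intro r hr h1 h2
      have h3 := hact2 x b r r h1 h2
      have h4 : x * b ∈ A := by
        apply hcomm_iff
        rw [h3]
        nth_rw 2 [← zpow_one a]
        rw [zpow_eq_iff hn]
        push_cast; exact hr
      have h5 := mul_mem (hAC.le h4) (inv_mem hbC)
      rw [mul_inv_cancel_right] at h5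
      exact hxC h5
    have hdiff : ∀ r s : ℤ, 2 ≤ m → r * s = 1 - 2 ^ m → x * a * x⁻¹ = a ^ r → b * a * b⁻¹ = a ^ s → False := by
      intro r s hm2 hrs h1 h2
      have h3 := hact2 x b r s h1 h2
      obtain ⟨m', rfl⟩ : ∃ m', m = m' + 2 := ⟨m - 2, by omega⟩
      have hxbA : x * b ∉ A := by
        intro h
        have h5 := mul_mem (hAC.le h) (inv_mem hbC)
        rw [mul_inv_cancel_right] at h5
        exact hxC h5
      have h4 := hact2 (x * b) (x * b) _ _ h3 h3
      have h5 : (x * b) ^ 2 ∈ A := by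
        apply hcomm_iff
        rw [sq, h4]
        nth_rw 2 [← zpow_one a]
        rw [zpow_eq_iff hn, hrs]
        push_cast
        refine ⟨-1 + 2 ^ (m' + 1), ?_⟩
        ring
      rcases key (x * b) hxbA h5 with h6 | ⟨-, h6⟩
      · rw [h3, zpow_eq_iff hn, hrs] at h6
        push_cast at h6
        have h7 : (4 : ℤ) ∣ 1 - 2 ^ (m' + 2) - -1 := Dvd.dvd.trans ⟨2 ^ (m' + 1), by ring⟩ h6
        have h8 : (4 : ℤ) ∣ 2 := by
          have : (2 : ℤ) = (1 - 2 ^ (m' + 2) - -1) + 4 * 2 ^ m' := by ring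
          rw [this]; exact dvd_add h7 (dvd_mul_right _ _)
        norm_num at h8
      · rw [h3, zpow_eq_iff hn, hrs] at h6
        push_cast at h6
        have h7 : (4 : ℤ) ∣ 1 - 2 ^ (m' + 2) - (2 ^ (m' + 2) - 1) :=
          Dvd.dvd.trans ⟨2 ^ (m' + 1), by ring⟩ h6
        have h8 : (4 : ℤ) ∣ 2 := by
          have : (2 : ℤ) = (1 - 2 ^ (m' + 2) - (2 ^ (m' + 2) - 1)) + 4 * (2 * 2 ^ m') := by ring
          rw [this]; exact dvd_add h7 (dvd_mul_right _ _)
        norm_num at h8
    rcases hxt with h1 | ⟨hm2, h1⟩ <;> rcases hbt with h2 | ⟨hm2', h2⟩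
    · exact hsame _ (by norm_num) h1 h2
    · exact hdiff _ _ hm2' (by ring) h1 h2
    · exact hdiff _ _ hm2 (by ring) h1 h2
    · refine hsame _ ?_ h1 h2
      obtain ⟨m', rfl⟩ : ∃ m', m = m' + 2 := ⟨m - 2, by omega⟩
      refine ⟨2 ^ (m' + 1) - 1, ?_⟩
      ring
  · -- x² acts as an element congruent to -1 mod 4
    obtain ⟨r, hr⟩ := hact x
    have h1 := hact2 x x r r hr hr
    have h2 : x ^ 2 * a * (x ^ 2)⁻¹ = a ^ (r * r) := by rw [sq]; exact h1
    have h4 : ∀ s : ℤ, (4 : ℤ) ∣ s + 1 → x ^ 2 * a * (x ^ 2)⁻¹ = a ^ s → False := by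
      intro s hs h
      rw [h2, zpow_eq_iff hn] at h
      push_cast at h
      have h5 : (4 : ℤ) ∣ r * r - s := by
        refine dvd_trans ?_ h
        obtain ⟨m', rfl⟩ := Nat.exists_eq_succ_of_ne_zero (by omega : m ≠ 0)
        exact ⟨2 ^ m', by rw [Nat.succ_eq_add_one]; ring⟩
      have h6 := dvd_add h5 hs
      rcases Int.even_or_odd r with ⟨t, ht⟩ | ⟨t, ht⟩
      · rw [ht] at h6; ring_nf at h6; omega
      · rw [ht] at h6; ring_nf at h6; omega
    rcases key (x ^ 2) hx2A (hsq2 A C hAn hAC.le hCc _ hx2) with h5 | ⟨hm2, h5⟩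
    · exact h4 _ (by norm_num) h5
    · refine h4 _ ?_ h5
      obtain ⟨m', rfl⟩ : ∃ m', m = m' + 2 := ⟨m - 2, by omega⟩
      exact ⟨2 ^ m', by ring⟩

end Cfsg.Agent.Lib.PGrpG
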