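import Mathlib
import Cfsg.Agent.Lib.PGrpG
import Cfsg.Agent.Lib.NilpB

/-!
`p`-groups of maximal class.
-/

set_option autoImplicit false

namespace Cfsg.Agent.Lib.PGrpH

open Subgroup Cfsg.Agent.Lib.Basic Cfsg.Agent.Lib.PGrpA Cfsg.Agent.Lib.PGrpC
open scoped commutatorElement Pointwise

universe u

variable {G : Type*} [Group G]

theorem comm_of_class_le_one [Group.IsNilpotent G] (h : Group.nilpotencyClass G ≤ 1) (x y : G) : x * y = y * x := by
  rw [← Subgroup.upperCentralSeries_eq_top_iff_nilpotencyClass_le, Subgroup.upperCentralSeries_one] at h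
  have : y ∈ center G := by rw [h]; trivial
  exact mem_center_iff.mp this x

theorem class_le_one_of_comm [Group.IsNilpotent G] (h : ∀ x y : G, x * y = y * x) :
    Group.nilpotencyClass G ≤ 1 := by
  rw [← Subgroup.upperCentralSeries_eq_top_iff_nilpotencyClass_le, Subgroup.upperCentralSeries_one]
  rw [eq_top_iff]
  intro x _
  exact mem_center_iff.mpr fun y => h y x

/-- the centre of a group of maximal class -/
theorem card_center_of_maxClass [Finite G] {p : ℕ} [hp : Fact p.Prime] {n : ℕ} (hn : 3 ≤ n)
    (hG : Nat.card G = p ^ n) (hc : Group.nilpotencyClass G = n - 1) :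
    Nat.card (center G) = p ∧ Nat.card (G ⧸ center G) = p ^ (n - 1) ∧
      Group.nilpotencyClass (G ⧸ center G) = n - 2 := by
  have hGp : IsPGroup p G := IsPGroup.of_card hG
  have hnil := hGp.isNilpotent
  have hnt : Nontrivial G := by
    rw [← Finite.one_lt_card_iff_nontrivial, hG]
    exact Nat.one_lt_pow (by omega) hp.out.one_lt
  have hZ : Nontrivial (center G) := hGp.center_nontrivial
  obtain ⟨z, hz⟩ := IsPGroup.iff_card.mp (hGp.to_subgroup (center G))
  have hz1 : 1 ≤ z := by
    by_contra h
    have : z = 0 := by omega
    rw [this, pow_zero] at hz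
    have := (Finite.one_lt_card_iff_nontrivial.mpr hZ)
    omega
  obtain ⟨k, hk⟩ := IsPGroup.iff_card.mp (hGp.to_quotient (center G))
  have hcard := (center G).card_mul_index
  rw [index_eq_card, hk, hz, hG, ← pow_add] at hcard
  have hzk := Nat.pow_right_injective hp.out.two_le hcard
  have hq : Group.nilpotencyClass (G ⧸ center G) = n - 2 := by
    rw [Group.nilpotencyClass_quotient_center, hc]; omega
  have hk1 : 1 < k := by
    by_contra h
    have hcyc : IsCyclic (G ⧸ center G) := by
      have : k = 0 ∨ k = 1 := by omega
      rcases this with rfl | rfl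
      · rw [pow_zero] at hk
        have := (Nat.card_eq_one_iff_unique.mp hk).1
        infer_instance
      · rw [pow_one] at hk
        exact isCyclic_of_prime_card hk
    have hcomm : ∀ a b : G, a * b = b * a :=
      commutative_of_cyclic_center_quotient (QuotientGroup.mk' (center G)) (by
        rw [QuotientGroup.ker_mk'])
    have := class_le_one_of_comm hcomm
    omega
  have := NilpB.nilpotencyClass_le_of_card (p := p) k (G ⧸ center G) hk hk1
  have hz' : z = 1 := by omega
  subst hz'
  rw [pow_one] at hz
  exact ⟨hz, by rw [hk]; congr 1; omega, hq⟩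

/-- 2-groups of maximal class have a cyclic subgroup of index 2 -/
theorem cyclic_of_maxClass (n : ℕ) : ∀ (G : Type u) [Group G] [Finite G], 3 ≤ n → Nat.card G = 2 ^ n →
    Group.nilpotencyClass G = n - 1 → ∃ C : Subgroup G, IsCyclic C ∧ C.index = 2 := by
  induction n with
  | zero => intro G _ _ h; omega
  | succ n ih =>
    intro G _ _ hn hG hc
    have hGp : IsPGroup 2 G := IsPGroup.of_card hG
    have hnil := hGp.isNilpotent
    obtain ⟨hZ, hQ, hQc⟩ := card_center_of_maxClass hn hG hc
    by_cases hn3 : n = 2
    · -- order 8
      subst hn3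
      have hex : ∃ x : G, 4 ≤ orderOf x := by
        by_contra hcon
        push Not at hcon
        have hsq : ∀ x : G, x ^ 2 = 1 := by
          intro x
          have h1 : orderOf x ∣ 2 ^ 3 := hG ▸ orderOf_dvd_natCard x
          have h2 := hcon x
          obtain ⟨k, hk, hk'⟩ := (Nat.dvd_prime_pow Nat.prime_two).mp h1
          have h3 : k ≤ 1 := by
            by_contra h
            have : 2 ^ 2 ≤ 2 ^ k := Nat.pow_le_pow_right (by norm_num) (by omega)
            omega
          apply orderOf_dvd_iff_pow_eq_one.mp
          rw [hk']
          exact (pow_dvd_pow 2 h3).trans (by norm_num)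
        have hcomm : ∀ x y : G, x * y = y * x := by
          intro x y
          have h1 := hsq (x * y)
          have h2 := hsq x
          have h3 := hsq y
          rw [sq] at h1 h2 h3
          have hx : x⁻¹ = x := inv_eq_of_mul_eq_one_left h2
          have hy : y⁻¹ = y := inv_eq_of_mul_eq_one_left h3
          have : x * y = (x * y)⁻¹ := (inv_eq_of_mul_eq_one_left h1).symm
          rw [this, mul_inv_rev, hx, hy]
        have := class_le_one_of_comm hcomm
        omega
      obtain ⟨x, hx⟩ := hex
      refine ⟨zpowers x, inferInstance, ?_⟩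
      have h1 := (zpowers x).card_mul_index
      rw [Nat.card_zpowers, hG] at h1
      have h2 : (zpowers x).index ≠ 1 := by
        intro h
        rw [index_eq_one] at h
        have hcyc : IsCyclic G := ⟨x, fun y => by
          have : y ∈ zpowers x := by rw [h]; trivial
          exact this⟩
        have := class_le_one_of_comm (fun a b : G => (Cyc.isMulCommutative_of_isCyclic hcyc).is_comm.comm a b)
        omega
      have h3 : (zpowers x).index ≠ 0 := index_ne_zero_of_finite
      have h4 : (zpowers x).index ∣ 2 ^ (2 + 1) := ⟨orderOf x, by rw [← h1, mul_comm]⟩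
      obtain ⟨k, hk, hk'⟩ := (Nat.dvd_prime_pow Nat.prime_two).mp h4
      rw [hk'] at h1 h2 ⊢
      interval_cases k
      · omega
      · norm_num
      · omega
      · omega
    · have ih' := ih (G ⧸ center G) (by omega) (by rw [hQ]; congr 1) (by rw [hQc]; omega)
      obtain ⟨Cb, hCbc, hCbi⟩ := ih'
      obtain ⟨M, hM⟩ : ∃ M, M = Cb.comap (QuotientGroup.mk' (center G)) := ⟨_, rfl⟩
      have hMi : M.index = 2 := by
        rw [hM, index_comap_of_surjective _ (QuotientGroup.mk'_surjective _), hCbi]
      have hZM : center G ≤ M := by
        intro x hx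
        rw [hM, mem_comap, QuotientGroup.mk'_apply, (QuotientGroup.eq_one_iff x).mpr hx]
        exact one_mem _
      have hMn := normal_of_index hGp hMi
      -- M is abelian
      have hMab : ∀ a b : M, a * b = b * a := by
        have hMle : M ≤ Cb.comap (QuotientGroup.mk' (center G)) := hM.le
        let f : M →* Cb := ((QuotientGroup.mk' (center G)).comp M.subtype).codRestrict Cb
          (fun x => hMle x.2)
        apply commutative_of_cyclic_center_quotient f
        intro x hx
        rw [MonoidHom.mem_ker] at hx
        have h1 : ((x : G) : G ⧸ center G) = 1 := congrArg Subtype.val hx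
        rw [QuotientGroup.eq_one_iff] at h1
        rw [mem_center_iff]
        intro y
        exact Subtype.ext (mem_center_iff.mp h1 y)
      have hMc : IsMulCommutative M := ⟨⟨hMab⟩⟩
      by_cases hcyc : IsCyclic M
      · exact ⟨M, hcyc, hMi⟩
      · exfalso
        -- the elements of order dividing 2 in M form a normal subgroup containing Z properly;
        -- but squares give another central involution
        obtain ⟨c, hc'⟩ := hCbc.exists_generator
        obtain ⟨a, ha⟩ := QuotientGroup.mk'_surjective (center G) (c : G ⧸ center G)
        have haM : a ∈ M := by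
          rw [hM, mem_comap, ha]; exact c.2
        -- M = Z <a>
        have hMa : M = center G ⊔ zpowers a := by
          apply le_antisymm
          · intro x hx
            have hx' : QuotientGroup.mk' (center G) x ∈ Cb := by
              rw [hM] at hx; exact hx
            obtain ⟨k, hk⟩ := mem_zpowers_iff.mp (hc' ⟨_, hx'⟩)
            have h1 : (c : G ⧸ center G) ^ k = QuotientGroup.mk' (center G) x := by
              have := congrArg Subtype.val hk
              simpa using this
            rw [← ha, ← map_zpow] at h1
            have h2 := QuotientGroup.eq.mp h1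
            rw [mem_sup_of_normal_left]
            exact ⟨(a ^ k)⁻¹ * x, h2, a ^ k, zpow_mem (mem_zpowers a) k, by
              have := mem_center_iff.mp h2 (a ^ k)
              rw [← this]; group⟩
          · exact sup_le hZM (zpowers_le.mpr haM)
        -- M/Z has order 2^(n-1) ≥ 4
        have hcM : Nat.card M = 2 ^ n := by
          have := M.card_mul_index
          rw [hMi, hG, pow_succ] at this
          exact Nat.eq_of_mul_eq_mul_right (by norm_num) this
        -- the subgroup of squares of M
        obtain ⟨S, hS⟩ : ∃ S : Subgroup G, S = zpowers (a ^ 2) := ⟨_, rfl⟩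
        have hsqM : ∀ x ∈ M, x ^ 2 ∈ zpowers (a ^ 2) := by
          intro x hx
          rw [hMa, mem_sup_of_normal_left] at hx
          obtain ⟨z, hz, y, hy, rfl⟩ := hx
          obtain ⟨k, rfl⟩ := mem_zpowers_iff.mp hy
          have hz2 : z ^ 2 = 1 := by
            have : (⟨z, hz⟩ : center G) ^ Nat.card (center G) = 1 := pow_card_eq_one'
            rw [hZ] at this
            exact congrArg Subtype.val this
          have : Commute z (a ^ k) := (mem_center_iff.mp hz (a ^ k)).symm
          have e : (a ^ k) ^ 2 = (a ^ 2) ^ k := by
            rw [← zpow_natCast (a ^ k), ← zpow_mul, ← zpow_natCast a 2, ← zpow_mul, mul_comm]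
          rw [this.mul_pow, hz2, one_mul, e]
          exact zpow_mem (mem_zpowers _) k
        have hSn : (zpowers (a ^ 2)).Normal := by
          refine ⟨fun x hx g => ?_⟩
          obtain ⟨k, rfl⟩ := mem_zpowers_iff.mp hx
          have h1 : g * (a ^ 2) ^ k * g⁻¹ = ((g * a ^ k * g⁻¹) ^ 2) := by
            rw [conj_pow, ← zpow_natCast (a ^ k), ← zpow_mul, ← zpow_natCast a 2, ← zpow_mul, mul_comm]
          rw [h1]
          exact hsqM _ (hMn.conj_mem _ (zpow_mem haM k) g)
        -- `a^2 ≠ 1`
        have ha2 : a ^ 2 ≠ 1 := by
          intro h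
          have h1 : Nat.card M ≤ 2 * 2 := by
            rw [hMa]
            have h2 := Cores.card_sup_dvd (N := center G) (H := zpowers a) (by
              rw [normalizer_eq_top_iff.mpr inferInstance]; exact le_top)
            have h3 := Nat.le_of_dvd (Nat.mul_pos Nat.card_pos Nat.card_pos) h2
            refine h3.trans ?_
            rw [hZ, Nat.card_zpowers]
            exact Nat.mul_le_mul_left _ (orderOf_le_of_pow_eq_one (by norm_num) h)
          rw [hcM] at h1
          have : 2 ^ 3 ≤ 2 ^ n := Nat.pow_le_pow_right (by norm_num) (by omega)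
          omega
        have hS0 : zpowers (a ^ 2) ≠ ⊥ := by
          rw [Ne, zpowers_eq_bot]; exact ha2
        -- so contains a central involution, hence the centre
        obtain ⟨Z', hZ'S, hZ'c, hZ'⟩ := exists_normal_card_prime hGp hS0
        have hZZ' : Z' = center G := eq_of_le_of_card_ge hZ'c (by rw [hZ, hZ'])
        have hZa : center G ≤ zpowers a := by
          rw [← hZZ']
          exact hZ'S.trans (zpowers_le.mpr (pow_mem (mem_zpowers a) 2))
        apply hcyc
        rw [hMa, sup_eq_right.mpr hZa]
        infer_instance

end Cfsg.Agent.Lib.PGrpH
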