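import Mathlib
import Cfsg.Agent.Lib.PGrpH
import Cfsg.Agent.Lib.PGrpB
import Cfsg.Agent.Lib.PGrpD
import Cfsg.Agent.Lib.PGrpF
import Cfsg.Agent.Lib.NilpB

/-!
`p`-groups of maximal class, II: Suzuki's criterion, normal subgroups, 2-groups.
-/

set_option autoImplicit false

namespace Cfsg.Agent.Lib.PGrpI

open Subgroup Cfsg.Agent.Lib.Basic Cfsg.Agent.Lib.PGrpA Cfsg.Agent.Lib.PGrpC Cfsg.Agent.Lib.PGrpH
open scoped commutatorElement Pointwise

universe u

variable {G : Type*} [Group G]

theorem class_eq_one [Group.IsNilpotent G] [Nontrivial G] (h : ∀ x y : G, x * y = y * x) :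
    Group.nilpotencyClass G = 1 := by
  have h1 := class_le_one_of_comm h
  have h2 : Group.nilpotencyClass G ≠ 0 := by
    intro h0
    rw [Group.nilpotencyClass_zero_iff_subsingleton] at h0
    exact not_subsingleton G h0
  omega

/-- Suzuki: a `p`-group with a self-centralizing subgroup of order `p^2` has maximal class. -/
theorem maxClass_of_self_centralizing {p : ℕ} [hp : Fact p.Prime] (n : ℕ) : ∀ (X : Type u) [Group X]
    [Finite X], Nat.card X = p ^ n → ∀ A : Subgroup X, Nat.card A = p ^ 2 →
    centralizer (A : Set X) = A → Group.nilpotencyClass X = n - 1 := by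
  induction n with
  | zero =>
    intro X _ _ hX A hA
    have h1 := A.card_subgroup_dvd_card
    rw [hA, hX] at h1
    have := (Nat.pow_dvd_pow_iff_le_right hp.out.one_lt).mp h1
    omega
  | succ n ih =>
    intro X _ _ hX A hA hC
    have hXp : IsPGroup p X := IsPGroup.of_card hX
    have hnil := hXp.isNilpotent
    have h1 := A.card_subgroup_dvd_card
    rw [hA, hX] at h1
    have hn := (Nat.pow_dvd_pow_iff_le_right hp.out.one_lt).mp h1
    have hnt : Nontrivial X := by
      rw [← Finite.one_lt_card_iff_nontrivial, hX]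
      exact Nat.one_lt_pow (by omega) hp.out.one_lt
    by_cases hn2 : n = 1
    · subst hn2
      exact class_eq_one (IsPGroup.commutative_of_card_eq_prime_sq hX)
    have hAab : ∀ x ∈ A, ∀ y ∈ A, x * y = y * x := by
      intro x hx y hy
      rw [← hC, mem_centralizer_iff] at hx
      exact (hx y hy).symm
    have hZA : center X ≤ A := by
      rw [← hC]; exact center_le_centralizer _
    have hAtop : A ≠ ⊤ := by
      rintro rfl
      rw [card_top, hX] at hA
      have := Nat.pow_right_injective hp.out.two_le hA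
      omega
    have hZ : Nontrivial (center X) := hXp.center_nontrivial
    obtain ⟨z, hz⟩ := IsPGroup.iff_card.mp (hXp.to_subgroup (center X))
    have hz1 : 1 ≤ z := by
      by_contra h
      have : z = 0 := by omega
      rw [this, pow_zero] at hz
      have := (Finite.one_lt_card_iff_nontrivial.mpr hZ)
      omega
    have hz2 : z ≤ 2 := by
      have := card_dvd_of_le hZA
      rw [hz, hA] at this
      exact (Nat.pow_dvd_pow_iff_le_right hp.out.one_lt).mp this
    have hz3 : z ≠ 2 := by
      rintro rfl
      have h3 : center X = A := eq_of_le_of_card_ge hZA (by rw [hz, hA])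
      apply hAtop
      rw [← hC, ← h3, eq_top_iff]
      intro x _
      rw [mem_centralizer_iff]
      intro y hy
      exact (mem_center_iff.mp hy x).symm
    have hz4 : z = 1 := by omega
    subst hz4
    rw [pow_one] at hz
    -- the normalizer
    obtain ⟨N, hN⟩ : ∃ N, N = normalizer (A : Set X) := ⟨_, rfl⟩
    have hAN : A ≤ N := by rw [hN]; exact le_normalizer
    have hAN' : A < N := by
      rw [hN]
      exact Group.normalizerCondition_of_isNilpotent A (lt_top_iff_ne_top.mpr hAtop)
    have hAn : (A.subgroupOf N).Normal := by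
      rw [normal_subgroupOf_iff_le_normalizer hAN, hN]
    have hNp : IsPGroup p N := hXp.to_subgroup N
    have hcA : Nat.card (A.subgroupOf N) = p ^ 2 := by
      rw [Nat.card_congr (subgroupOfEquivOfLe hAN).toEquiv, hA]
    have hcent : centralizer ((A.subgroupOf N : Subgroup N) : Set N) ≤ A.subgroupOf N := by
      intro x hx
      rw [mem_subgroupOf, ← hC, mem_centralizer_iff]
      intro y hy
      have := mem_centralizer_iff.mp hx ⟨y, hAN hy⟩ (mem_subgroupOf.mpr hy)
      exact congrArg Subtype.val this
    have hidx := PGrpB.index_centralizer_le hNp 2 (A.subgroupOf N) hAn hcA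
    have hidx2 : (A.subgroupOf N).index ≤ p := by
      refine (Nat.le_of_dvd (Nat.pos_of_ne_zero index_ne_zero_of_finite) (index_dvd_of_le hcent)).trans ?_
      simpa using hidx
    obtain ⟨k, hk⟩ := IsPGroup.iff_card.mp hNp
    have hcN := (A.subgroupOf N).card_mul_index
    rw [hcA, hk] at hcN
    have hk3 : k ≤ 3 := by
      by_contra h
      have h4 : p ^ 4 ≤ p ^ k := Nat.pow_le_pow_right hp.out.pos (by omega)
      rw [← hcN] at h4
      have h5 : p ^ 2 * (A.subgroupOf N).index ≤ p ^ 2 * p := Nat.mul_le_mul_left _ hidx2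
      have h6 : p ^ 3 < p ^ 4 := Nat.pow_lt_pow_right hp.out.one_lt (by norm_num)
      have h7 : p ^ 2 * p = p ^ 3 := by ring
      omega
    have hk3' : 3 ≤ k := by
      have h4 := card_lt_card_of_lt hAN'
      rw [hA, hk] at h4
      have := (Nat.pow_lt_pow_iff_right hp.out.one_lt).mp h4
      omega
    have hk4 : k = 3 := by omega
    subst hk4
    -- the quotient
    have hQ : Nat.card (X ⧸ center X) = p ^ n := by
      have := (center X).card_mul_index
      rw [hz, hX, pow_succ', index_eq_card] at this
      exact Nat.eq_of_mul_eq_mul_left hp.out.pos this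
    have hZN : center X ≤ N := hZA.trans hAN
    have hNb : Nat.card (N.map (QuotientGroup.mk' (center X))) = p ^ 2 := by
      have e1 : (N.map (QuotientGroup.mk' (center X))).comap (QuotientGroup.mk' (center X)) = N := by
        rw [QuotientGroup.comap_map_mk', sup_eq_right.mpr hZN]
      have e2 := Cores.card_comap_eq (QuotientGroup.mk' (center X)) (QuotientGroup.mk'_surjective _)
        (N.map (QuotientGroup.mk' (center X)))
      rw [e1, QuotientGroup.ker_mk', hk, hz] at e2
      have e3 : p ^ 3 = p * p ^ 2 := by ring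
      rw [e3] at e2
      nlinarith [hp.out.pos]
    have hNC : centralizer ((N.map (QuotientGroup.mk' (center X)) : Subgroup (X ⧸ center X)) :
        Set (X ⧸ center X)) = N.map (QuotientGroup.mk' (center X)) := by
      apply le_antisymm
      · intro y hy
        obtain ⟨x, rfl⟩ := QuotientGroup.mk'_surjective (center X) y
        refine mem_map_of_mem _ ?_
        have key : ∀ a ∈ A, x * a * x⁻¹ ∈ A := by
          intro a ha
          have h2 := mem_centralizer_iff.mp hy _ (mem_map_of_mem (QuotientGroup.mk' (center X)) (hAN ha))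
          rw [← map_mul, ← map_mul] at h2
          have h3 := QuotientGroup.eq.mp h2
          have h5 : (a * x)⁻¹ * (x * a) = x⁻¹ * (a⁻¹ * (x * a * x⁻¹)) * x := by group
          rw [h5] at h3
          have h6 := (inferInstance : (center X).Normal).conj_mem _ h3 x
          have e2 : x * (x⁻¹ * (a⁻¹ * (x * a * x⁻¹)) * x) * x⁻¹ = a⁻¹ * (x * a * x⁻¹) := by group
          rw [e2] at h6
          have h7 := mul_mem ha (hZA h6)
          rwa [mul_inv_cancel_left] at h7
        rw [hN]
        exact mem_normalizer_fintype key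
      · intro y hy
        rw [mem_centralizer_iff]
        intro w hw
        have := IsPGroup.commutative_of_card_eq_prime_sq hNb ⟨w, hw⟩ ⟨y, hy⟩
        exact congrArg Subtype.val this
    have := ih (X ⧸ center X) hQ _ hNb hNC
    rw [Group.nilpotencyClass_quotient_center] at this
    have h0 : Group.nilpotencyClass X ≠ 0 := by
      intro h0
      rw [Group.nilpotencyClass_zero_iff_subsingleton] at h0
      exact not_subsingleton X h0
    omega


/-- in a group of maximal class, normal subgroups of index `p^r` contain `L_(r-1)` -/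
theorem lcs_le_of_index [Finite G] {p : ℕ} [hp : Fact p.Prime] {r : ℕ} (hr : 2 ≤ r) {N : Subgroup G}
    [hN : N.Normal] (h : N.index = p ^ r) : (⊤ : Subgroup G).lowerCentralSeries (r - 1) ≤ N := by
  have hQ : Nat.card (G ⧸ N) = p ^ r := by rw [← index_eq_card, h]
  have hQp : IsPGroup p (G ⧸ N) := IsPGroup.of_card hQ
  have := hQp.isNilpotent
  have h1 := NilpB.nilpotencyClass_le_of_card r (G ⧸ N) hQ (by omega)
  rw [← Subgroup.lowerCentralSeries_eq_bot_iff_nilpotencyClass_le] at h1
  have h2 := Subgroup.map_lowerCentralSeries (⊤ : Subgroup G) (QuotientGroup.mk' N) (r - 1)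
  rw [Subgroup.map_top_of_surjective _ (QuotientGroup.mk'_surjective N), h1, Subgroup.map_eq_bot_iff,
    QuotientGroup.ker_mk'] at h2
  exact h2

theorem exists_normal_index [Finite G] {p : ℕ} [hp : Fact p.Prime] {n r : ℕ}
    (hG : Nat.card G = p ^ n) (hr : r ≤ n) : ∃ N : Subgroup G, N.Normal ∧ N.index = p ^ r := by
  have hGp : IsPGroup p G := IsPGroup.of_card hG
  obtain ⟨C, hC, -, -, hc⟩ := exists_normal_card hGp (bot_le : (⊥ : Subgroup G) ≤ ⊤) (n - r) (by
    rw [card_bot, one_mul, card_top, hG]
    exact Nat.pow_le_pow_right hp.out.pos (by omega))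
  refine ⟨C, hC, ?_⟩
  have h1 := C.card_mul_index
  rw [hc, card_bot, one_mul, hG] at h1
  have h2 : p ^ n = p ^ (n - r) * p ^ r := by rw [← pow_add]; congr 1; omega
  rw [h2] at h1
  exact Nat.eq_of_mul_eq_mul_left (pow_pos hp.out.pos _) h1

theorem index_lcs [Finite G] {p : ℕ} [hp : Fact p.Prime] {n : ℕ} (hn : 3 ≤ n)
    (hG : Nat.card G = p ^ n) (hc : Group.nilpotencyClass G = n - 1) {i : ℕ} (hi : 1 ≤ i)
    (hin : i ≤ n - 1) : ((⊤ : Subgroup G).lowerCentralSeries i).index = p ^ (i + 1) := by
  have hGp : IsPGroup p G := IsPGroup.of_card hG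
  have hnil := hGp.isNilpotent
  have hL : ∀ j, ∃ e, ((⊤ : Subgroup G).lowerCentralSeries j).index = p ^ e := by
    intro j
    exact (Nat.dvd_prime_pow hp.out).mp (hG ▸ index_dvd_card _) |>.imp fun _ h => h.2
  choose e he using hL
  have hlast : e (n - 1) = n := by
    have h1 : (⊤ : Subgroup G).lowerCentralSeries (n - 1) = ⊥ := by
      rw [Subgroup.lowerCentralSeries_eq_bot_iff_nilpotencyClass_le]; omega
    have h2 := he (n - 1)
    rw [h1, index_bot, hG] at h2
    exact (Nat.pow_right_injective hp.out.two_le h2).symm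
  have hstep : ∀ j, j + 1 ≤ n - 1 → e j + 1 ≤ e (j + 1) := by
    intro j hj
    have hle : (⊤ : Subgroup G).lowerCentralSeries (j + 1) ≤ (⊤ : Subgroup G).lowerCentralSeries j :=
      Subgroup.lowerCentralSeries_antitone _ (Nat.le_succ j)
    have hne : (⊤ : Subgroup G).lowerCentralSeries (j + 1) ≠ (⊤ : Subgroup G).lowerCentralSeries j := by
      intro heq
      have hst : ∀ k, (⊤ : Subgroup G).lowerCentralSeries (j + k) = (⊤ : Subgroup G).lowerCentralSeries j := by
        intro k
        induction k with
        | zero => rfl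
        | succ k ih => rw [← add_assoc, Subgroup.lowerCentralSeries_succ, ih,
            ← Subgroup.lowerCentralSeries_succ, heq]
      have h1 : (⊤ : Subgroup G).lowerCentralSeries j = ⊥ := by
        rw [← hst (n - 1 - j), Nat.add_sub_cancel' (by omega),
          Subgroup.lowerCentralSeries_eq_bot_iff_nilpotencyClass_le]
        omega
      rw [Subgroup.lowerCentralSeries_eq_bot_iff_nilpotencyClass_le] at h1
      omega
    have h1 := relIndex_mul_index hle
    have h2 : relIndex ((⊤ : Subgroup G).lowerCentralSeries (j + 1))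
        ((⊤ : Subgroup G).lowerCentralSeries j) ≠ 1 := by
      intro h
      exact hne (le_antisymm hle (relIndex_eq_one.mp h))
    rw [he, he] at h1
    by_contra hcon
    push Not at hcon
    have h3 : p ^ e (j + 1) ≤ p ^ e j := Nat.pow_le_pow_right hp.out.pos (by omega)
    rw [← h1] at h3
    have h4 : relIndex ((⊤ : Subgroup G).lowerCentralSeries (j + 1))
        ((⊤ : Subgroup G).lowerCentralSeries j) ≤ 1 := by
      have h5 : 0 < p ^ e j := pow_pos hp.out.pos _
      nlinarith
    have h6 : relIndex ((⊤ : Subgroup G).lowerCentralSeries (j + 1))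
        ((⊤ : Subgroup G).lowerCentralSeries j) ≠ 0 := by
      intro h0
      rw [h0, zero_mul] at h1
      exact (pow_pos hp.out.pos (e (j + 1))).ne h1
    omega
  have hup : ∀ k, k ≤ n - 1 → e (n - 1 - k) + k ≤ n := by
    intro k
    induction k with
    | zero => intro _; rw [Nat.sub_zero, hlast]; omega
    | succ k ih =>
      intro hk
      have h1 := ih (by omega)
      have h2 := hstep (n - 1 - (k + 1)) (by omega)
      have h3 : n - 1 - (k + 1) + 1 = n - 1 - k := by omega
      rw [h3] at h2
      omega
  have hlow : i + 1 ≤ e i := by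
    obtain ⟨N, hN, hNi⟩ := exists_normal_index (r := i + 1) hG (by omega)
    have h1 := lcs_le_of_index (by omega) hNi
    rw [Nat.add_sub_cancel] at h1
    have h2 := index_dvd_of_le h1
    rw [hNi, he] at h2
    exact (Nat.pow_dvd_pow_iff_le_right hp.out.one_lt).mp h2
  have h1 := hup (n - 1 - i) (by omega)
  have h2 : n - 1 - (n - 1 - i) = i := by omega
  rw [h2] at h1
  rw [he]
  congr 1
  omega

theorem eq_lcs_of_index [Finite G] {p : ℕ} [hp : Fact p.Prime] {n : ℕ} (hn : 3 ≤ n)
    (hG : Nat.card G = p ^ n) (hc : Group.nilpotencyClass G = n - 1) {N : Subgroup G} [hN : N.Normal]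
    {r : ℕ} (hr : 2 ≤ r) (h : N.index = p ^ r) : N = (⊤ : Subgroup G).lowerCentralSeries (r - 1) := by
  have hrn : r ≤ n := by
    have := N.index_dvd_card
    rw [h, hG] at this
    exact (Nat.pow_dvd_pow_iff_le_right hp.out.one_lt).mp this
  have h1 := lcs_le_of_index hr h
  have h2 := index_lcs hn hG hc (i := r - 1) (by omega) (by omega)
  have h3 : r - 1 + 1 = r := by omega
  rw [h3] at h2
  symm
  apply eq_of_le_of_card_ge h1
  have h4 := N.card_mul_index
  have h5 := ((⊤ : Subgroup G).lowerCentralSeries (r - 1)).card_mul_index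
  rw [h] at h4
  rw [h2, ← h4] at h5
  exact (Nat.eq_of_mul_eq_mul_right (pow_pos hp.out.pos r) h5).ge

theorem isCyclic_of_quotient_commutator [Finite G] {p : ℕ} [Fact p.Prime] (hG : IsPGroup p G)
    (h : IsCyclic (G ⧸ _root_.commutator G)) : IsCyclic G := by
  obtain ⟨g, hg⟩ := h.exists_generator
  obtain ⟨x, rfl⟩ := QuotientGroup.mk'_surjective _ g
  have h1 : zpowers x ⊔ _root_.commutator G = ⊤ := by
    rw [eq_top_iff]
    intro y _
    obtain ⟨k, hk⟩ := mem_zpowers_iff.mp (hg (QuotientGroup.mk' _ y))
    rw [← map_zpow] at hk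
    have h2 := QuotientGroup.eq.mp hk
    have : y = x ^ k * ((x ^ k)⁻¹ * y) := by group
    rw [this]
    exact mul_mem (mem_sup_left (zpow_mem (mem_zpowers x) k)) (mem_sup_right h2)
  have h2 : zpowers x ⊔ frattini G = ⊤ := by
    rw [eq_top_iff, ← h1]
    exact sup_le_sup_left (Nilp.commutator_le_frattini hG) _
  have h3 := frattini_nongenerating h2
  exact ⟨x, fun y => by
    have : y ∈ zpowers x := by rw [h3]; trivial
    exact this⟩

theorem card_index_p [Finite G] {p : ℕ} [hp : Fact p.Prime] {n : ℕ} (hn : 3 ≤ n)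
    (hG : Nat.card G = p ^ n) (hc : Group.nilpotencyClass G = n - 1) :
    Nat.card {N : Subgroup G // N.Normal ∧ N.index = p} = p + 1 := by
  have hGp : IsPGroup p G := IsPGroup.of_card hG
  have hnil := hGp.isNilpotent
  have hL1 : (_root_.commutator G).index = p ^ 2 := by
    rw [← Subgroup.top_lowerCentralSeries_one]
    exact index_lcs hn hG hc (i := 1) (by omega) (by omega)
  have hQ : Nat.card (G ⧸ _root_.commutator G) = p ^ 2 := by rw [← index_eq_card, hL1]
  have hnc : ¬ IsCyclic (G ⧸ _root_.commutator G) := by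
    intro h
    have h1 := isCyclic_of_quotient_commutator hGp h
    have := class_le_one_of_comm (fun a b : G => (Cyc.isMulCommutative_of_isCyclic h1).is_comm.comm a b)
    omega
  have hexp : ∀ a : G ⧸ _root_.commutator G, a ^ p = 1 := by
    intro a
    have h1 : orderOf a ∣ p ^ 2 := hQ ▸ orderOf_dvd_natCard a
    obtain ⟨k, hk, hk'⟩ := (Nat.dvd_prime_pow hp.out).mp h1
    have h2 : k ≠ 2 := by
      rintro rfl
      exact hnc (isCyclic_of_orderOf_eq_card a (by rw [hk', hQ]))
    apply orderOf_dvd_iff_pow_eq_one.mp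
    rw [hk']
    exact (pow_dvd_pow p (show k ≤ 1 by omega)).trans (by rw [pow_one])
  have h1 := Partition.card_primeSubgroups_sq hp.out hQ hexp
  have h2 : Nat.card {B : Subgroup (G ⧸ _root_.commutator G) // B ∈ Partition.primeSubgroups _} = p + 1 := by
    rw [← h1]; exact Nat.card_eq_card_toFinset _ |>.trans (by simp)
  rw [← h2]
  have hBp : ∀ B : Subgroup (G ⧸ _root_.commutator G), B ∈ Partition.primeSubgroups _ ↔ Nat.card B = p := by
    intro B
    rw [Partition.mem_primeSubgroups]
    constructor
    · intro hB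
      have h3 : Nat.card B ∣ p ^ 2 := hQ ▸ card_subgroup_dvd_card B
      exact (Nat.prime_dvd_prime_iff_eq hB hp.out).mp (hB.dvd_of_dvd_pow h3)
    · intro hB; rw [hB]; exact hp.out
  have hcomm : ∀ N : Subgroup G, N.index = p → _root_.commutator G ≤ N := by
    intro N hN
    have hNn := normal_of_index hGp hN
    have h3 : Nat.card (G ⧸ N) = p := by rw [← index_eq_card, hN]
    have h4 : IsCyclic (G ⧸ N) := isCyclic_of_prime_card h3
    rw [_root_.commutator_def, commutator_le]
    intro x _ y _
    rw [← QuotientGroup.eq_one_iff]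
    have h5 := (Cyc.isMulCommutative_of_isCyclic h4).is_comm.comm (x : G ⧸ N) (y : G ⧸ N)
    rw [commutatorElement_def]
    simp only [QuotientGroup.mk_mul, QuotientGroup.mk_inv]
    rw [h5]; group
  have hcardB : ∀ B : Subgroup (G ⧸ _root_.commutator G),
      Nat.card B = p ↔ (B.comap (QuotientGroup.mk' _)).index = p := by
    intro B
    rw [index_comap_of_surjective _ (QuotientGroup.mk'_surjective _)]
    have h3 := B.card_mul_index
    rw [hQ] at h3
    constructor
    · intro h; rw [h, sq] at h3; exact Nat.eq_of_mul_eq_mul_left hp.out.pos h3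
    · intro h; rw [h, sq] at h3; exact Nat.eq_of_mul_eq_mul_right hp.out.pos h3
  refine Nat.card_congr ⟨fun N => ⟨N.1.map (QuotientGroup.mk' _), ?_⟩, fun B => ⟨B.1.comap (QuotientGroup.mk' _), ?_, ?_⟩, ?_, ?_⟩
  · rw [hBp, hcardB, QuotientGroup.comap_map_mk', sup_eq_right.mpr (hcomm N.1 N.2.2)]
    exact N.2.2
  · exact normal_of_index hGp ((hcardB B.1).mp ((hBp B.1).mp B.2))
  · exact (hcardB B.1).mp ((hBp B.1).mp B.2)
  · intro N
    apply Subtype.ext
    change (N.1.map (QuotientGroup.mk' _)).comap _ = N.1
    rw [QuotientGroup.comap_map_mk', sup_eq_right.mpr (hcomm N.1 N.2.2)]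
  · intro B
    apply Subtype.ext
    exact Subgroup.map_comap_eq_self_of_surjective (QuotientGroup.mk'_surjective _) _

end Cfsg.Agent.Lib.PGrpI
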