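import Mathlib
import Cfsg.Prelude.Def_PLocal
import Cfsg.Agent.Lib.PGrpA
import Cfsg.Agent.Lib.PGrpB
import Cfsg.Agent.Lib.PGrpI
import Cfsg.Agent.Lib.PNilp

/-! Regular `p`-groups. -/

namespace Cfsg.Agent.Lib.RegP

open Subgroup Cfsg.Agent.Lib Cfsg.Agent.Lib.Basic Cfsg.Agent.Lib.Cores

open scoped commutatorElement Pointwise

universe u
variable {G : Type u} [Group G]

/-- for a two-generator group, the derived group lies in any normal subgroup containing `[a,b]` -/
theorem commutator_le_of_pair {a b : G} (h : closure {a, b} = (⊤ : Subgroup G)) {C : Subgroup G} [C.Normal]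
    (hc : ⁅a, b⁆ ∈ C) : commutator G ≤ C := by
  set π := QuotientGroup.mk' C with hπ
  have hgen : closure {π a, π b} = (⊤ : Subgroup (G ⧸ C)) := by
    rw [← Set.image_pair, ← MonoidHom.map_closure, h, ← MonoidHom.range_eq_map,
      MonoidHom.range_eq_top.mpr (QuotientGroup.mk'_surjective C)]
  have hab : π a * π b = π b * π a := by
    rw [← commutatorElement_eq_one_iff_mul_comm, ← map_commutatorElement]
    exact (QuotientGroup.eq_one_iff _).mpr hc
  have h1 : ∀ x ∈ ({π a, π b} : Set (G ⧸ C)), ∀ y ∈ ({π a, π b} : Set (G ⧸ C)), x * y = y * x := by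
    rintro x (rfl | rfl) y (rfl | rfl) <;> first | rfl | exact hab | exact hab.symm
  have h2 : ∀ x y : G ⧸ C, x * y = y * x := by
    have h3 : closure ({π a, π b} : Set (G ⧸ C)) ≤ centralizer ({π a, π b} : Set (G ⧸ C)) := by
      rw [closure_le]
      exact fun x hx => mem_centralizer_iff.mpr fun y hy => h1 y hy x hx
    rw [hgen] at h3
    intro x y
    have h4 : ({π a, π b} : Set (G ⧸ C)) ⊆ centralizer ({x} : Set (G ⧸ C)) := by
      intro z hz
      refine mem_centralizer_iff.mpr fun w hw => ?_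
      rw [Set.mem_singleton_iff.mp hw]
      exact (mem_centralizer_iff.mp (h3 (mem_top x)) z hz).symm
    have h5 : closure ({π a, π b} : Set (G ⧸ C)) ≤ centralizer ({x} : Set (G ⧸ C)) := (closure_le _).mpr h4
    rw [hgen] at h5
    exact mem_centralizer_iff.mp (h5 (mem_top y)) x rfl
  rw [commutator_def, Subgroup.commutator_le]
  intro x _ y _
  have h3 : π ⁅x, y⁆ = 1 := by
    rw [map_commutatorElement, commutatorElement_eq_one_iff_mul_comm]
    exact h2 _ _
  exact (QuotientGroup.eq_one_iff _).mp h3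

theorem two_abelian [Finite G] (hG : IsPGroup 2 G) {a b c : G} (h : closure {a, b} = (⊤ : Subgroup G))
    (hc : c ∈ Cfsg.powerClosure 2 1 (commutator G)) (he : (a * b) ^ 2 = a ^ 2 * b ^ 2 * c) : commutator G = ⊥ := by
  by_contra hne
  have hDp : IsPGroup 2 (commutator G) := hG.to_subgroup _
  obtain ⟨m, hm⟩ := (IsPGroup.iff_card).mp hDp
  have hm0 : m ≠ 0 := by
    rintro rfl
    rw [pow_zero] at hm
    exact hne (card_eq_one.mp hm)
  obtain ⟨k, rfl⟩ := Nat.exists_eq_succ_of_ne_zero hm0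
  obtain ⟨C, hC, -, hCD, hcc⟩ := PGrpA.exists_normal_card hG (bot_le : (⊥ : Subgroup G) ≤ commutator G) k (by
    rw [card_bot, one_mul, hm]; exact Nat.pow_le_pow_right (by norm_num) (by omega))
  rw [card_bot, one_mul] at hcc
  have hidx : (C.subgroupOf (commutator G)).index = 2 := by
    have h1 := relIndex_mul_card hCD
    rw [hm, hcc, pow_succ, mul_comm] at h1
    exact Nat.eq_of_mul_eq_mul_left (by positivity) h1
  have hpc : Cfsg.powerClosure 2 1 (commutator G) ≤ C := by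
    unfold Cfsg.powerClosure
    rw [closure_le]
    rintro _ ⟨x, hx, rfl⟩
    have := sq_mem_of_index_two hidx ⟨x, hx⟩
    rw [pow_one]
    exact this
  have hcC := hpc hc
  have h1 : a⁻¹ * b * a * b⁻¹ = b ^ 2 * c * (b ^ 2)⁻¹ := by
    have h2 : a⁻¹ * b * a * b⁻¹ * b ^ 2 = b ^ 2 * c := by
      calc a⁻¹ * b * a * b⁻¹ * b ^ 2 = (a ^ 2)⁻¹ * (a * b) ^ 2 := by simp only [pow_two]; group
        _ = (a ^ 2)⁻¹ * (a ^ 2 * b ^ 2 * c) := by rw [he]
        _ = b ^ 2 * c := by group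
    rw [← h2]; group
  have h2 : a⁻¹ * b * a * b⁻¹ ∈ C := by rw [h1]; exact hC.conj_mem c hcC _
  have h3 : ⁅a, b⁆ ∈ C := by
    have h4 := hC.conj_mem _ (inv_mem h2) a
    have h5 : a * (a⁻¹ * b * a * b⁻¹)⁻¹ * a⁻¹ = ⁅a, b⁆ := by rw [_root_.commutatorElement_def]; group
    rwa [h5] at h4
  have h4 := commutator_le_of_pair h h3
  have h5 := card_le_of_le h4
  rw [hm, hcc] at h5
  exact absurd h5 (by rw [not_le]; exact Nat.pow_lt_pow_right (by norm_num) (by omega))

/-! ### Hall's theory -/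

/-- regularity in the usual sense -/
def Reg1 (p : ℕ) (G : Type u) [Group G] : Prop :=
  ∀ a b : G, ∃ c ∈ Cfsg.powerClosure p 1 ⁅closure ({a, b} : Set G), closure ({a, b} : Set G)⁆,
    (a * b) ^ p = a ^ p * b ^ p * c

/-- the `q`-th powers of `K` are closed under products -/
def PClosed (q : ℕ) (K : Subgroup G) : Prop := ∀ a ∈ K, ∀ b ∈ K, ∃ c ∈ K, a ^ q * b ^ q = c ^ q

theorem PClosed.mem {p n : ℕ} {K : Subgroup G} (h : PClosed (p ^ n) K) {y : G} (hy : y ∈ Cfsg.powerClosure p n K) :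
    ∃ x ∈ K, y = x ^ (p ^ n) := by
  refine closure_induction (p := fun y _ => ∃ x ∈ K, y = x ^ (p ^ n)) (fun y hy => hy) ⟨1, one_mem _, by simp⟩ ?_ ?_ hy
  · rintro _ _ _ _ ⟨x, hx, rfl⟩ ⟨y, hy, rfl⟩
    exact h x hx y hy
  · rintro _ _ ⟨x, hx, rfl⟩
    exact ⟨x⁻¹, inv_mem hx, by rw [inv_pow]⟩

theorem sup_commutator_eq [Finite G] {p : ℕ} [Fact p.Prime] (hG : IsPGroup p G) {X H : Subgroup G} (hX : X ≤ H)
    (h : X ⊔ ⁅H, H⁆ = H) : X = H := by
  have hH : IsPGroup p H := hG.to_subgroup H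
  have h1 : X.subgroupOf H ⊔ frattini H = ⊤ := by
    have h2 : X.subgroupOf H ⊔ commutator H = ⊤ := by
      apply map_injective H.subtype_injective
      rw [Subgroup.map_sup, map_subgroupOf_eq_of_le hX, commutator_def, map_commutator, ← MonoidHom.range_eq_map, H.range_subtype, h]
    rw [eq_top_iff, ← h2]
    exact sup_le_sup_left (Nilp.commutator_le_frattini hH) _
  have h3 := frattini_nongenerating h1
  rw [subgroupOf_eq_top] at h3
  exact le_antisymm hX h3

theorem closed_one_aux [Finite G] {p : ℕ} [Fact p.Prime] (hG : IsPGroup p G) (hR : Reg1 p G) (m : ℕ) :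
    ∀ a b : G, Nat.card (closure ({a, b} : Set G)) ≤ m → ∃ c ∈ closure ({a, b} : Set G), a ^ p * b ^ p = c ^ p := by
  induction m with
  | zero => intro a b h; exact absurd h (by have : 0 < Nat.card (closure ({a, b} : Set G)) := Nat.card_pos; omega)
  | succ m ih =>
    intro a b hab
    set H := closure ({a, b} : Set G) with hH
    have haH : a ∈ H := Subgroup.subset_closure (by simp)
    have hbH : b ∈ H := Subgroup.subset_closure (by simp)
    have hsub : ∀ K : Subgroup G, K < H → PClosed (p ^ 1) K := by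
      intro K hK x hx y hy
      have h1 : closure ({x, y} : Set G) ≤ K := by
        rw [closure_le]; rintro z (rfl | rfl) <;> assumption
      have h2 := card_le_of_le h1
      have h3 := card_lt_card_of_lt hK
      obtain ⟨c, hc, he⟩ := ih x y (by omega)
      exact ⟨c, h1 hc, by rw [pow_one]; exact he⟩
    by_cases hcomm : a * b = b * a
    · exact ⟨a * b, mul_mem haH hbH, ((show Commute a b from hcomm).mul_pow p).symm⟩
    have hHne : H ≠ ⊥ := by
      intro h0
      rw [h0, mem_bot] at haH hbH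
      exact hcomm (by rw [haH, hbH])
    have hD : ⁅H, H⁆ < H := PNilp.commutator_self_lt (hG.to_subgroup H) hHne
    obtain ⟨s, hs, he⟩ := hR a b
    rw [← hH] at hs
    obtain ⟨t, ht, rfl⟩ := (hsub _ hD).mem hs
    rw [pow_one] at he
    set L := closure ({a * b} : Set G) ⊔ ⁅H, H⁆ with hL
    have habH : closure ({a * b} : Set G) ≤ H := by
      rw [closure_le]; rintro z rfl; exact mul_mem haH hbH
    have hLH : L < H := by
      refine lt_of_le_of_ne (sup_le habH hD.le) fun hLe => ?_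
      have h1 := sup_commutator_eq hG habH hLe
      rw [← h1, ← zpowers_eq_closure] at haH hbH
      obtain ⟨i, hi⟩ := mem_zpowers_iff.mp haH
      obtain ⟨j, hj⟩ := mem_zpowers_iff.mp hbH
      apply hcomm
      have e1 : Commute ((a * b) ^ i) ((a * b) ^ j) := Commute.zpow_zpow_self _ i j
      rw [hi, hj] at e1
      exact e1.eq
    have h1 : a * b ∈ L := mem_sup_left (Subgroup.subset_closure rfl)
    have h2 : t⁻¹ ∈ L := mem_sup_right (inv_mem ht)
    obtain ⟨c, hc, hce⟩ := hsub L hLH _ h1 _ h2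
    refine ⟨c, hLH.le hc, ?_⟩
    rw [pow_one] at hce
    rw [← hce, he, inv_pow]
    group

theorem closed_one [Finite G] {p : ℕ} [Fact p.Prime] (hG : IsPGroup p G) (hR : Reg1 p G) (K : Subgroup G) :
    PClosed (p ^ 1) K := by
  intro x hx y hy
  have h1 : closure ({x, y} : Set G) ≤ K := by
    rw [closure_le]; rintro z (rfl | rfl) <;> assumption
  obtain ⟨c, hc, he⟩ := closed_one_aux hG hR _ x y le_rfl
  exact ⟨c, h1 hc, by rw [pow_one]; exact he⟩

theorem closed_pow [Finite G] {p : ℕ} [Fact p.Prime] (hG : IsPGroup p G) (hR : Reg1 p G) (n : ℕ) (K : Subgroup G) :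
    PClosed (p ^ n) K := by
  induction n with
  | zero =>
    intro x hx y hy
    exact ⟨x * y, mul_mem hx hy, by simp⟩
  | succ n ih =>
    intro x hx y hy
    -- `x^{p^n}, y^{p^n} ∈ ℧_n(K)`
    have h1 : x ^ p ^ n ∈ Cfsg.powerClosure p n K := Subgroup.subset_closure ⟨x, hx, rfl⟩
    have h2 : y ^ p ^ n ∈ Cfsg.powerClosure p n K := Subgroup.subset_closure ⟨y, hy, rfl⟩
    obtain ⟨c, hc, he⟩ := closed_one hG hR (Cfsg.powerClosure p n K) _ h1 _ h2
    obtain ⟨z, hz, rfl⟩ := ih.mem hc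
    refine ⟨z, hz, ?_⟩
    rw [pow_one] at he
    rw [pow_succ, pow_mul, pow_mul, pow_mul]
    exact he

theorem powerClosure_mono {p n : ℕ} {H K : Subgroup G} (h : H ≤ K) :
    Cfsg.powerClosure p n H ≤ Cfsg.powerClosure p n K := by
  unfold Cfsg.powerClosure
  apply Subgroup.closure_mono
  rintro _ ⟨x, hx, rfl⟩
  exact ⟨x, h hx, rfl⟩

/-- `℧_n(H)` centralizes `H` modulo `℧_n(H')` -/
theorem comm_power {p n : ℕ} {H : Subgroup G}
    (hR : ∀ a b : G, ∃ c ∈ Cfsg.powerClosure p n ⁅closure ({a, b} : Set G), closure ({a, b} : Set G)⁆,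
      (a * b) ^ (p ^ n) = a ^ (p ^ n) * b ^ (p ^ n) * c) {a b : G} (ha : a ∈ H) (hb : b ∈ H) :
    ⁅a ^ (p ^ n), b⁆ ∈ Cfsg.powerClosure p n ⁅H, H⁆ := by
  have key : ∀ a ∈ H, ∀ b ∈ H, (a ^ (p ^ n))⁻¹ * (b⁻¹ * a ^ (p ^ n) * b) ∈ Cfsg.powerClosure p n ⁅H, H⁆ := by
    intro a ha b hb
    set d := a⁻¹ * b⁻¹ * a * b with hd
    have hdH : d ∈ ⁅H, H⁆ := by
      have : d = ⁅a⁻¹, b⁻¹⁆ := by rw [hd, _root_.commutatorElement_def]; group
      rw [this]
      exact commutator_mem_commutator (inv_mem ha) (inv_mem hb)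
    obtain ⟨c, hc, he⟩ := hR a d
    have h1 : closure ({a, d} : Set G) ≤ H := by
      rw [closure_le]; rintro z (rfl | rfl)
      · exact ha
      · exact commutator_le_self H hdH
    have h2 : b⁻¹ * a ^ (p ^ n) * b = (a * d) ^ (p ^ n) := by
      have e1 : a * d = b⁻¹ * a * b⁻¹⁻¹ := by rw [hd]; group
      rw [e1, conj_pow, inv_inv]
    rw [h2, he]
    have h3 : (a ^ (p ^ n))⁻¹ * (a ^ (p ^ n) * d ^ (p ^ n) * c) = d ^ (p ^ n) * c := by group
    rw [h3]
    exact mul_mem (Subgroup.subset_closure ⟨d, hdH, rfl⟩) (powerClosure_mono (commutator_mono h1 h1) hc)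
  have h1 := key a⁻¹ (inv_mem ha) b⁻¹ (inv_mem hb)
  have h2 : ((a⁻¹) ^ (p ^ n))⁻¹ * (b⁻¹⁻¹ * (a⁻¹) ^ (p ^ n) * b⁻¹) = ⁅a ^ (p ^ n), b⁆ := by
    rw [_root_.commutatorElement_def, inv_pow]; group
  rwa [h2] at h1

theorem pow_formula [Finite G] {p : ℕ} [Fact p.Prime] (hG : IsPGroup p G) (hR : Reg1 p G) (n : ℕ) :
    ∀ a b : G, ∃ c ∈ ⁅closure ({a, b} : Set G), closure ({a, b} : Set G)⁆,
      (a * b) ^ (p ^ n) = a ^ (p ^ n) * b ^ (p ^ n) * c ^ (p ^ n) := by
  have hR' : ∀ a b : G, ∃ c ∈ Cfsg.powerClosure p 1 ⁅closure ({a, b} : Set G), closure ({a, b} : Set G)⁆,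
      (a * b) ^ (p ^ 1) = a ^ (p ^ 1) * b ^ (p ^ 1) * c := by
    rw [pow_one]; exact hR
  induction n with
  | zero => intro a b; exact ⟨1, one_mem _, by simp⟩
  | succ n ih =>
    intro a b
    set H := closure ({a, b} : Set G) with hH
    have haH : a ∈ H := Subgroup.subset_closure (by simp)
    have hbH : b ∈ H := Subgroup.subset_closure (by simp)
    obtain ⟨c, hc, he⟩ := hR' a b
    rw [← hH] at hc
    obtain ⟨s, hs, rfl⟩ := (closed_one hG hR ⁅H, H⁆).mem hc
    rw [pow_one] at he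
    -- commutators of `p`-th powers are `p`-th powers of elements of `H'`
    have hM : ∀ x ∈ Cfsg.powerClosure p 1 H, ∀ y ∈ Cfsg.powerClosure p 1 H,
        ∀ t ∈ ⁅closure ({x, y} : Set G), closure ({x, y} : Set G)⁆, ∃ v ∈ ⁅H, H⁆, t = v ^ p := by
      intro x hx y hy t ht
      have h1 : closure ({x, y} : Set G) ≤ Cfsg.powerClosure p 1 H := by
        rw [closure_le]; rintro z (rfl | rfl) <;> assumption
      have hMH : Cfsg.powerClosure p 1 H ≤ H := by
        unfold Cfsg.powerClosure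
        rw [closure_le]; rintro _ ⟨z, hz, rfl⟩; exact pow_mem hz _
      have h2 : ⁅Cfsg.powerClosure p 1 H, H⁆ ≤ Cfsg.powerClosure p 1 ⁅H, H⁆ := by
        rw [Subgroup.commutator_le]
        intro u hu w hw
        obtain ⟨z, hz, rfl⟩ := (closed_one hG hR H).mem hu
        exact comm_power hR' hz hw
      have h3 : t ∈ Cfsg.powerClosure p 1 ⁅H, H⁆ := h2 (commutator_mono h1 (h1.trans hMH) ht)
      obtain ⟨v, hv, he⟩ := (closed_one hG hR ⁅H, H⁆).mem h3
      exact ⟨v, hv, by rw [pow_one] at he; exact he⟩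
    have hpM : ∀ z ∈ H, z ^ p ∈ Cfsg.powerClosure p 1 H := fun z hz =>
      Subgroup.subset_closure ⟨z, hz, by rw [pow_one]⟩
    obtain ⟨t, ht, het⟩ := ih (a ^ p * b ^ p) (s ^ p)
    obtain ⟨v, hv, rfl⟩ := hM _ (mul_mem (hpM a haH) (hpM b hbH)) _ (hpM s (commutator_le_self H hs)) t ht
    obtain ⟨u, hu, heu⟩ := ih (a ^ p) (b ^ p)
    obtain ⟨w, hw, rfl⟩ := hM _ (hpM a haH) _ (hpM b hbH) u hu
    obtain ⟨c1, hc1, he1⟩ := closed_pow hG hR (n + 1) ⁅H, H⁆ w hw s hs
    obtain ⟨c2, hc2, he2⟩ := closed_pow hG hR (n + 1) ⁅H, H⁆ c1 hc1 v hv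
    refine ⟨c2, hc2, ?_⟩
    have hpp : ∀ z : G, z ^ (p ^ (n + 1)) = (z ^ p) ^ (p ^ n) := fun z => by rw [← pow_mul, pow_succ']
    rw [← he2, ← he1]
    simp only [hpp]
    rw [he, het, heu]
    group

theorem Reg1.regular [Finite G] {p : ℕ} [Fact p.Prime] (hG : IsPGroup p G) (hR : Reg1 p G) :
    Cfsg.IsRegularPGroup p G := by
  refine ⟨hG, fun a b n => ?_⟩
  obtain ⟨c, hc, he⟩ := pow_formula hG hR n a b
  exact ⟨c ^ (p ^ n), Subgroup.subset_closure ⟨c, hc, rfl⟩, he⟩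

theorem reg1_of {p : ℕ} (hR : Cfsg.IsRegularPGroup p G) : Reg1 p G := by
  intro a b
  obtain ⟨c, hc, he⟩ := hR.2 a b 1
  exact ⟨c, hc, by rw [pow_one] at he; exact he⟩

end Cfsg.Agent.Lib.RegP
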