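import Mathlib
import Cfsg.Agent.Lib.RegP

/-! Regular `p`-groups: roots of unity and commutators. -/

namespace Cfsg.Agent.Lib.H3Reg

open Subgroup Cfsg.Agent.Lib

open scoped commutatorElement Pointwise

universe u
variable {G : Type u} [Group G]

theorem card_lt' [Finite G] {H K : Subgroup G} (h : H < K) : Nat.card H < Nat.card K :=
  lt_of_le_of_ne (Nat.le_of_dvd Nat.card_pos (card_dvd_of_le h.le))
    fun he => h.ne (Subgroup.eq_of_le_of_card_ge h.le he.ge)

theorem comm_le_of_pair {a b : G} {C : Subgroup G}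
    (hC : ∀ h ∈ closure ({a, b} : Set G), ∀ c ∈ C, h * c * h⁻¹ ∈ C) (hab : ⁅a, b⁆ ∈ C) :
    ⁅closure ({a, b} : Set G), closure ({a, b} : Set G)⁆ ≤ C := by
  have haH : a ∈ closure ({a, b} : Set G) := subset_closure (Or.inl rfl)
  have hbH : b ∈ closure ({a, b} : Set G) := subset_closure (Or.inr rfl)
  have hS : ∀ k ∈ closure ({a, b} : Set G), ⁅a, k⁆ ∈ C → ⁅b, k⁆ ∈ C → ∀ h ∈ closure ({a, b} : Set G), ⁅h, k⁆ ∈ C := by
    intro k hk ha hb h hh
    refine closure_induction (p := fun h _ => h ∈ closure ({a, b} : Set G) ∧ ⁅h, k⁆ ∈ C) ?_ ?_ ?_ ?_ hh |>.2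
    · rintro x (rfl | rfl)
      · exact ⟨haH, ha⟩
      · exact ⟨hbH, hb⟩
    · exact ⟨one_mem _, by rw [commutatorElement_one_left]; exact one_mem _⟩
    · rintro x y _ _ ⟨hx1, hx2⟩ ⟨hy1, hy2⟩
      refine ⟨mul_mem hx1 hy1, ?_⟩
      have : ⁅x * y, k⁆ = x * ⁅y, k⁆ * x⁻¹ * ⁅x, k⁆ := by
        simp only [commutatorElement_def]; group
      rw [this]
      exact mul_mem (hC x hx1 _ hy2) hx2
    · rintro x _ ⟨hx1, hx2⟩
      refine ⟨inv_mem hx1, ?_⟩
      have : ⁅x⁻¹, k⁆ = x⁻¹ * ⁅x, k⁆⁻¹ * x⁻¹⁻¹ := by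
        simp only [commutatorElement_def]; group
      rw [this]
      exact hC _ (inv_mem hx1) _ (inv_mem hx2)
  have hinv : ∀ x y : G, ⁅x, y⁆ ∈ C → ⁅y, x⁆ ∈ C := by
    intro x y h
    rw [← commutatorElement_inv]
    exact inv_mem h
  have hone : ∀ x : G, ⁅x, x⁆ ∈ C := fun x => by rw [commutatorElement_self]; exact one_mem _
  have h1 := hS b hbH hab (hone b)
  have h2 := hS a haH (hone a) (hinv _ _ hab)
  rw [commutator_le]
  intro h hh k hk
  exact hS k hk (hinv _ _ (h2 k hk)) (hinv _ _ (h1 k hk)) h hh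

theorem comm_bot_or_lt [Finite G] {p : ℕ} [Fact p.Prime] (hG : IsPGroup p G) {x y z : G}
    (hz : ∃ d ∈ ⁅closure ({x, y} : Set G), closure ({x, y} : Set G)⁆, z = d * x) :
    ⁅closure ({x, y} : Set G), closure ({x, y} : Set G)⁆ = ⊥ ∨
      Nat.card (closure ({x, z} : Set G)) < Nat.card (closure ({x, y} : Set G)) := by
  obtain ⟨d, hd, rfl⟩ := hz
  set H := closure ({x, y} : Set G) with hH
  have hxH : x ∈ H := subset_closure (Or.inl rfl)
  have hDH : ⁅H, H⁆ ≤ H := commutator_le_self H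
  have hK : closure ({x, d * x} : Set G) ≤ zpowers x ⊔ ⁅H, H⁆ := by
    rw [closure_le]
    rintro w (rfl | rfl)
    · exact mem_sup_left (mem_zpowers _)
    · exact mul_mem (mem_sup_right hd) (mem_sup_left (mem_zpowers _))
  have hle : zpowers x ⊔ ⁅H, H⁆ ≤ H := sup_le ((zpowers_le).mpr hxH) hDH
  by_cases he : zpowers x ⊔ ⁅H, H⁆ = H
  · left
    have h1 : zpowers x = H := RegP.sup_commutator_eq hG ((zpowers_le).mpr hxH) he
    rw [← h1, eq_bot_iff, commutator_le]
    rintro _ ⟨i, rfl⟩ _ ⟨j, rfl⟩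
    rw [mem_bot, commutatorElement_eq_one_iff_mul_comm]
    exact (zpow_mul_comm x i j)
  · right
    have h2 : closure ({x, d * x} : Set G) < H := lt_of_le_of_lt hK (lt_of_le_of_ne hle he)
    exact card_lt' h2

theorem omega_aux [Finite G] {p q : ℕ} [Fact p.Prime] (hG : IsPGroup p G)
    (PF : ∀ a b : G, ∃ c ∈ ⁅closure ({a, b} : Set G), closure ({a, b} : Set G)⁆, (a * b) ^ q = a ^ q * b ^ q * c ^ q) :
    ∀ m : ℕ, ∀ x y : G, Nat.card (closure ({x, y} : Set G)) ≤ m → x ^ q = 1 → y ^ q = 1 → (x * y) ^ q = 1 := by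
  intro m
  induction m with
  | zero =>
    intro x y h
    exact absurd h (by have := Nat.card_pos (α := closure ({x, y} : Set G)); omega)
  | succ m ih =>
    intro x y hm hx hy
    obtain ⟨c, hc, he⟩ := PF x y
    rw [he, hx, hy, one_mul, one_mul]
    set H := closure ({x, y} : Set G) with hH
    have hxH : x ∈ H := subset_closure (Or.inl rfl)
    have hyH : y ∈ H := subset_closure (Or.inr rfl)
    have hz : ∃ d ∈ ⁅H, H⁆, y * x * y⁻¹ = d * x := by
      refine ⟨⁅y, x⁆, commutator_mem_commutator hyH hxH, ?_⟩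
      simp only [commutatorElement_def]; group
    rcases comm_bot_or_lt hG hz with hb | hlt
    · rw [hb, mem_bot] at hc
      rw [hc, one_pow]
    by_cases hHb : ⁅H, H⁆ = H
    · exfalso
      have : (⊥ : Subgroup G) = H := RegP.sup_commutator_eq hG bot_le (by rw [hHb, bot_sup_eq])
      have h0 := Nat.card_pos (α := closure ({x, y * x * y⁻¹} : Set G))
      rw [← hH, ← this, card_bot] at hlt
      omega
    have hDlt : Nat.card (⁅H, H⁆ : Subgroup G) < Nat.card H :=
      card_lt' (lt_of_le_of_ne (commutator_le_self H) hHb)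
    -- the subgroup
    let Q : Subgroup G :=
      { carrier := {z | z ∈ ⁅H, H⁆ ∧ z ^ q = 1}
        mul_mem' := by
          rintro z w ⟨hz1, hz2⟩ ⟨hw1, hw2⟩
          refine ⟨mul_mem hz1 hw1, ih z w ?_ hz2 hw2⟩
          have h1 : closure ({z, w} : Set G) ≤ ⁅H, H⁆ := by
            rw [closure_le]; rintro v (rfl | rfl)
            · exact hz1
            · exact hw1
          have h2 := Nat.le_of_dvd Nat.card_pos (card_dvd_of_le h1)
          omega
        one_mem' := ⟨one_mem _, one_pow _⟩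
        inv_mem' := by
          rintro z ⟨hz1, hz2⟩
          exact ⟨inv_mem hz1, by rw [inv_pow, hz2, inv_one]⟩ }
    have hQ : ⁅H, H⁆ ≤ Q := by
      refine comm_le_of_pair ?_ ?_
      · rintro h hh c ⟨hc1, hc2⟩
        refine ⟨?_, by rw [conj_pow, hc2, mul_one, mul_inv_cancel]⟩
        have : h * c * h⁻¹ = ⁅h, c⁆ * c := by simp only [commutatorElement_def]; group
        rw [this]
        exact mul_mem (commutator_mem_commutator hh (commutator_le_self H hc1)) hc1
      · refine ⟨commutator_mem_commutator hxH hyH, ?_⟩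
        have h3 := ih x (y * x * y⁻¹)⁻¹ (by
          have : closure ({x, (y * x * y⁻¹)⁻¹} : Set G) ≤ closure ({x, (y * x * y⁻¹)} : Set G) := by
            rw [closure_le]; rintro v (rfl | rfl)
            · exact subset_closure (Or.inl rfl)
            · exact inv_mem (subset_closure (Or.inr rfl))
          have h2 := Nat.le_of_dvd Nat.card_pos (card_dvd_of_le this)
          rw [← hH] at hlt
          omega) hx (by rw [inv_pow, conj_pow, hx, mul_one, mul_inv_cancel, inv_one])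
        have h4 : ⁅x, y⁆ = x * (y * x * y⁻¹)⁻¹ := by simp only [commutatorElement_def]; group
        rw [h4]
        exact h3
    exact (hQ hc).2

/-- the subgroup of elements with `x ^ q = 1` -/
def Om (q : ℕ) (h : ∀ x y : G, x ^ q = 1 → y ^ q = 1 → (x * y) ^ q = 1) : Subgroup G where
  carrier := {x | x ^ q = 1}
  mul_mem' := fun {a b} ha hb => h a b ha hb
  one_mem' := one_pow _
  inv_mem' := by
    intro x hx
    show x⁻¹ ^ q = 1
    rw [inv_pow, hx, inv_one]

theorem omega_mul [Finite G] {p : ℕ} [Fact p.Prime] (hG : Cfsg.IsRegularPGroup p G) (k : ℕ) (x y : G)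
    (hx : x ^ p ^ k = 1) (hy : y ^ p ^ k = 1) : (x * y) ^ p ^ k = 1 :=
  omega_aux hG.1 (RegP.pow_formula hG.1 (RegP.reg1_of hG) k) _ x y le_rfl hx hy

theorem comm_mem_Om [Finite G] {p : ℕ} [Fact p.Prime] (hG : Cfsg.IsRegularPGroup p G) {k : ℕ} {a b c : G}
    (hab : ⁅a, b⁆ ^ p ^ k = 1) (hc : c ∈ ⁅closure ({a, b} : Set G), closure ({a, b} : Set G)⁆) : c ^ p ^ k = 1 := by
  have h := comm_le_of_pair (a := a) (b := b) (C := Om (p ^ k) (omega_mul hG k)) (by
    intro h _ c hc
    show (h * c * h⁻¹) ^ p ^ k = 1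
    rw [conj_pow, show c ^ p ^ k = 1 from hc, mul_one, mul_inv_cancel]) hab
  exact h hc

theorem eq_pow_aux [Finite G] {p : ℕ} [Fact p.Prime] (hG : Cfsg.IsRegularPGroup p G) (k : ℕ) :
    ∀ m : ℕ, ∀ a b : G, Nat.card (closure ({a, b} : Set G)) ≤ m → a ^ p ^ k = b ^ p ^ k → (a * b⁻¹) ^ p ^ k = 1 := by
  intro m
  induction m with
  | zero =>
    intro x y h
    exact absurd h (by have := Nat.card_pos (α := closure ({x, y} : Set G)); omega)
  | succ m ih =>
    intro a b hm he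
    obtain ⟨c, hc, hf⟩ := RegP.pow_formula hG.1 (RegP.reg1_of hG) k a b⁻¹
    rw [hf, inv_pow, he, mul_inv_cancel, one_mul]
    have hz : ∃ d ∈ ⁅closure ({a, b⁻¹} : Set G), closure ({a, b⁻¹} : Set G)⁆, b⁻¹ * a * b = d * a := by
      refine ⟨⁅b⁻¹, a⁆, commutator_mem_commutator (subset_closure (Or.inr rfl)) (subset_closure (Or.inl rfl)), ?_⟩
      simp only [commutatorElement_def]; group
    rcases comm_bot_or_lt hG.1 hz with hb | hlt
    · rw [hb, mem_bot] at hc
      rw [hc, one_pow]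
    have h1 : closure ({a, b⁻¹} : Set G) ≤ closure ({a, b} : Set G) := by
      rw [closure_le]; rintro v (rfl | rfl)
      · exact subset_closure (Or.inl rfl)
      · exact inv_mem (subset_closure (Or.inr rfl))
    have h2 := Nat.le_of_dvd Nat.card_pos (card_dvd_of_le h1)
    have h3 := ih a (b⁻¹ * a * b) (by omega) (by
      have h4 : (b⁻¹ * a * b) ^ p ^ k = b⁻¹ * a ^ p ^ k * b := by
        have := conj_pow (i := p ^ k) (a := b⁻¹) (b := a)
        rw [inv_inv] at this
        exact this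
      rw [h4, he, mul_assoc, ← pow_succ, pow_succ', inv_mul_cancel_left])
    refine comm_mem_Om hG ?_ hc
    have h5 : ⁅a, b⁻¹⁆ = a * (b⁻¹ * a * b)⁻¹ := by simp only [commutatorElement_def]; group
    rw [h5]
    exact h3

theorem eq_pow_iff [Finite G] {p : ℕ} [Fact p.Prime] (hG : Cfsg.IsRegularPGroup p G) (k : ℕ) (a b : G) :
    a ^ p ^ k = b ^ p ^ k ↔ (a * b⁻¹) ^ p ^ k = 1 := by
  constructor
  · exact eq_pow_aux hG k _ a b le_rfl
  · intro h
    obtain ⟨c, hc, hf⟩ := RegP.pow_formula hG.1 (RegP.reg1_of hG) k (a * b⁻¹) b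
    rw [inv_mul_cancel_right, h, one_mul] at hf
    have hcc : c ^ p ^ k = 1 := by
      refine comm_mem_Om hG ?_ hc
      have h5 : ⁅a * b⁻¹, b⁆ = (a * b⁻¹) * (b * (a * b⁻¹) * b⁻¹)⁻¹ := by simp only [commutatorElement_def]; group
      rw [h5]
      refine omega_mul hG k _ _ h ?_
      rw [inv_pow, conj_pow, h, mul_one, mul_inv_cancel, inv_one]
    rw [hf, hcc, mul_one]

end Cfsg.Agent.Lib.H3Reg
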