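import Cfsg.Agent.Lib.Subnorm

/-! refinements of Wielandt's criterion (helper3) -/

set_option autoImplicit false

namespace Cfsg.Agent.Lib.H3Sub

open Subgroup Cfsg Cfsg.Agent.Lib.Basic Cfsg.Agent.Lib.Cores Cfsg.Agent.Lib.Subnorm Cfsg.Agent.Lib
open scoped Pointwise

universe u

theorem aux (n : ℕ) : ∀ {G : Type u} [Group G] [Finite G], Nat.card G ≤ n →
    ∀ A : Subgroup G, (∀ a ∈ A, ∀ g : G, (A.subgroupOf (A ⊔ MulAut.conj (g⁻¹ * a * g) • A)).IsSubnormal) → A.IsSubnormal := by
  induction n with
  | zero =>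
    intro G _ _ h
    exact absurd h (by have := Nat.card_pos (α := G); omega)
  | succ n ih =>
    intro G _ _ hcard A hA
    by_contra hns
    have hrel : ∀ H : Subgroup G, A ≤ H → H ≠ ⊤ → (A.subgroupOf H).IsSubnormal := by
      intro H hAH hHt
      have hlt : Nat.card H < Nat.card G := by
        refine lt_of_le_of_ne (Subgroup.card_le_card_group H) ?_
        intro h
        exact hHt (Subgroup.eq_top_of_card_eq H h)
      apply ih (G := H) (by omega)
      intro a ha g
      have h1 := hA a ha g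
      have hsub : A ⊔ MulAut.conj ((g : G)⁻¹ * a * g) • A ≤ H := by
        apply sup_le hAH
        intro y hy
        rw [SchurZas.mem_conj_smul_iff] at hy
        have hx : (g : G)⁻¹ * a * g ∈ H := mul_mem (mul_mem (inv_mem g.2) a.2) g.2
        have := mul_mem (mul_mem hx (hAH hy)) (inv_mem hx)
        have e : ((g : G)⁻¹ * a * g) * (((g : G)⁻¹ * a * g)⁻¹ * y * ((g : G)⁻¹ * a * g)) * ((g : G)⁻¹ * a * g)⁻¹ = y := by group
        rwa [e] at this
      let J : Subgroup H := A.subgroupOf H ⊔ MulAut.conj (g⁻¹ * a * g) • A.subgroupOf H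
      have hJ : J.map H.subtype = A ⊔ MulAut.conj ((g : G)⁻¹ * a * g) • A := by
        rw [Subgroup.map_sup, SchurZas.map_conj_smul, subgroupOf_map_subtype, inf_eq_left.mpr hAH]
        rfl
      let f : J →* (A ⊔ MulAut.conj ((g : G)⁻¹ * a * g) • A : Subgroup G) :=
        (H.subtype.comp J.subtype).codRestrict _ (fun y => by
          rw [← hJ]; exact mem_map_of_mem _ y.2)
      have h2 := h1.comap f
      convert h2 using 1
      ext y
      rfl
    obtain ⟨M, hM, hAM, hu⟩ := zipper_aux _ A le_rfl hrel hns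
    -- the elements of conjugates normalise M
    have hnorm : ∀ a ∈ A, ∀ g : G, g⁻¹ * a * g ∈ normalizer (M : Set G) := by
      intro a ha g
      have h1 : A ⊔ MulAut.conj (g⁻¹ * a * g) • A ≠ ⊤ := by
        intro h
        have h2 := hA a ha g
        rw [h] at h2
        have h3 := h2.trans' (K := (⊤ : Subgroup G)) IsSubnormal.top
        rw [subgroupOf_map_subtype, inf_top_eq] at h3
        exact hns h3
      have h2 : MulAut.conj (g⁻¹ * a * g) • A ≤ M := le_sup_right.trans (hu _ le_sup_left h1)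
      have h3 : A ≤ MulAut.conj (g⁻¹ * a * g)⁻¹ • M := by
        intro y hy
        rw [SchurZas.mem_conj_smul_iff, inv_inv]
        apply h2
        rw [SchurZas.mem_conj_smul_iff]
        have e : (g⁻¹ * a * g)⁻¹ * (g⁻¹ * a * g * y * (g⁻¹ * a * g)⁻¹) * (g⁻¹ * a * g) = y := by group
        rw [e]; exact hy
      have h4 : MulAut.conj (g⁻¹ * a * g)⁻¹ • M ≠ ⊤ := by
        intro h
        apply hM.1
        rw [eq_top_iff]
        intro y _
        have h5 : (g⁻¹ * a * g)⁻¹ * y * (g⁻¹ * a * g) ∈ MulAut.conj (g⁻¹ * a * g)⁻¹ • M := by rw [h]; trivial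
        rw [SchurZas.mem_conj_smul_iff, inv_inv] at h5
        have e : (g⁻¹ * a * g) * ((g⁻¹ * a * g)⁻¹ * y * (g⁻¹ * a * g)) * (g⁻¹ * a * g)⁻¹ = y := by group
        rwa [e] at h5
      have h5 := hu _ h3 h4
      have h6 : MulAut.conj (g⁻¹ * a * g)⁻¹ • M = M := by
        apply SetLike.coe_injective
        apply Set.eq_of_subset_of_ncard_le h5
        have : Nat.card (MulAut.conj (g⁻¹ * a * g)⁻¹ • M : Subgroup G) = Nat.card M :=
          (Nat.card_congr (Subgroup.equivSMul (MulAut.conj (g⁻¹ * a * g)⁻¹) M).toEquiv).symm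
        rw [← Nat.card_coe_set_eq, ← Nat.card_coe_set_eq]
        exact this.ge
      have h7 : (g⁻¹ * a * g)⁻¹ ∈ normalizer (M : Set G) := mem_normalizer_iff_smul.2 h6
      exact inv_mem_iff.1 h7
    by_cases hMn : normalizer (M : Set G) = ⊤
    · have h1 : M.Normal := normalizer_eq_top_iff.mp hMn
      exact hns (IsSubnormal.trans hAM (hrel M hAM hM.1) h1.isSubnormal)
    · have hMM : normalizer (M : Set G) = M := by
        by_contra hne
        exact hMn (hM.2 _ (lt_of_le_of_ne le_normalizer (Ne.symm hne)))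
      set N := normalClosure (A : Set G) with hN
      have hNM : N ≤ M := by
        rw [hN, normalClosure, closure_le]
        intro y hy
        rw [Group.mem_conjugatesOfSet_iff] at hy
        obtain ⟨x, hx, hxy⟩ := hy
        obtain ⟨g, rfl⟩ := isConj_iff.mp hxy
        have h1 := hnorm x hx g⁻¹
        rw [hMM, inv_inv] at h1
        exact h1
      have hAN : A ≤ N := subset_normalClosure
      have hNt : N ≠ ⊤ := fun h => hM.1 (top_le_iff.mp (h ▸ hNM))
      exact hns (IsSubnormal.trans hAN (hrel N hAN hNt) (normalClosure_normal).isSubnormal)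

/-- radical subgroups -/
theorem exists_radical {G : Type u} [Group G] [Finite G] (p : ℕ) [Fact p.Prime] (n : ℕ) : ∀ (R₀ : Subgroup G), R₀.index ≤ n → IsPGroup p R₀ →
    ∀ g ∈ normalizer (R₀ : Set G), ∃ R : Subgroup G, R₀ ≤ R ∧ (pCore p (normalizer (R : Set G))).map (normalizer (R : Set G)).subtype = R ∧
      g ∈ normalizer (R : Set G) := by
  induction n with
  | zero =>
    intro A h
    exact absurd h (by have : A.index ≠ 0 := index_ne_zero_of_finite; omega)
  | succ n ih =>
    intro R₀ hidx hR₀ g hg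
    set N := normalizer (R₀ : Set G) with hN
    set R₁ := (pCore p N).map N.subtype with hR₁
    have h1 : R₀ ≤ R₁ := by
      intro x hx
      have h2 : (R₀.subgroupOf N) ≤ pCore p N := by
        apply le_pCore
        · exact (normal_subgroupOf_iff_le_normalizer le_normalizer).2 le_rfl
        · exact hR₀.comap_of_injective N.subtype N.subtype_injective
      exact ⟨⟨x, le_normalizer hx⟩, h2 hx, rfl⟩
    by_cases heq : R₁ = R₀
    · exact ⟨R₀, le_rfl, heq, hg⟩
    · have hlt : R₀ < R₁ := lt_of_le_of_ne h1 (Ne.symm heq)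
      have hR₁p : IsPGroup p R₁ := (pCore_isPGroup p).map _
      have hN₁ : N ≤ normalizer (R₁ : Set G) := by
        intro x hx
        rw [mem_normalizer_iff_smul]
        have h2 : (pCore p N).Normal := pCore_normal p
        ext y
        rw [SchurZas.mem_conj_smul_iff]
        constructor
        · rintro ⟨z, hz, hzy⟩
          refine ⟨⟨x, hx⟩ * z * ⟨x, hx⟩⁻¹, h2.conj_mem z hz ⟨x, hx⟩, ?_⟩
          change x * (z : G) * x⁻¹ = y
          have : (z : G) = x⁻¹ * y * x := hzy
          rw [this]; group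
        · rintro ⟨z, hz, rfl⟩
          refine ⟨⟨x, hx⟩⁻¹ * z * ⟨x, hx⟩, ?_, rfl⟩
          have := h2.conj_mem z hz ⟨x, hx⟩⁻¹
          rwa [inv_inv] at this
      have hidx2 : R₁.index ≤ n := by
        have h3 := Subgroup.relIndex_mul_index hlt.le
        have h4 : R₀.relIndex R₁ ≠ 1 := fun h => hlt.not_ge (relIndex_eq_one.1 h)
        have h5 : R₀.relIndex R₁ ≠ 0 := by
          intro h
          rw [h, zero_mul] at h3
          exact index_ne_zero_of_finite h3.symm
        have h6 : R₁.index ≠ 0 := index_ne_zero_of_finite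
        have h7 : 2 * R₁.index ≤ R₀.index := by
          rw [← h3]
          exact Nat.mul_le_mul_right _ (by omega)
        omega
      obtain ⟨R, hR1, hR2, hR3⟩ := ih R₁ hidx2 hR₁p g (hN₁ hg)
      exact ⟨R, h1.trans hR1, hR2, hR3⟩

end Cfsg.Agent.Lib.H3Sub
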