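import Mathlib
import Cfsg.Agent.Lib.Herm13
import Cfsg.Agent.Lib.SqZero2

/-! Centralizers of square-zero self-adjoint matrices have elements of determinant `μ²`. -/

set_option linter.all false
set_option maxHeartbeats 400000

namespace Cfsg.Agent.Lib.Herm

open Matrix Cfsg.Agent.Lib.FinGal Cfsg.Agent.Lib.HilbN

section StR

variable {F : Type*} [Field F] {σ : F ≃+* F} {q n m l : ℕ}

/-- conjugate transpose, rectangular -/
def str (σ : F ≃+* F) (X : Matrix (Fin n) (Fin m) F) : Matrix (Fin m) (Fin n) F := (X.map σ).transpose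

theorem str_mul (X : Matrix (Fin n) (Fin m) F) (Y : Matrix (Fin m) (Fin l) F) :
    str σ (X * Y) = str σ Y * str σ X := by
  ext i j
  simp only [str, Matrix.transpose_apply, Matrix.map_apply, Matrix.mul_apply, map_sum, map_mul]
  exact Finset.sum_congr rfl fun k _ => mul_comm _ _

theorem str_str (hσ2 : ∀ a, σ (σ a) = a) (X : Matrix (Fin n) (Fin m) F) : str σ (str σ X) = X := by
  ext i j
  show σ (σ (X i j)) = X i j
  rw [hσ2]

theorem str_eq (X : Matrix (Fin n) (Fin n) F) : str σ X = st σ X := rfl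

theorem st_smul (a : F) (X : Matrix (Fin n) (Fin n) F) : st σ (a • X) = σ a • st σ X := by
  ext i j
  simp [st]

theorem st_zero : st σ (0 : Matrix (Fin n) (Fin n) F) = 0 := by ext i j; simp [st]

theorem st_sub (X Y : Matrix (Fin n) (Fin n) F) : st σ (X - Y) = st σ X - st σ Y := by
  ext i j; simp [st]

/-- a nonzero sesquilinear form is not alternating -/
theorem exists_form_ne {N : Matrix (Fin n) (Fin n) F} (hσ : ∃ a, σ a ≠ a) (hN : N ≠ 0) :
    ∃ x : Fin n → F, (fun i => σ (x i)) ⬝ᵥ (N *ᵥ x) ≠ 0 := by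
  by_contra hc
  push Not at hc
  obtain ⟨a, ha⟩ := hσ
  let B : (Fin n → F) → (Fin n → F) → F := fun x y => (fun i => σ (x i)) ⬝ᵥ (N *ᵥ y)
  have h1 : ∀ x y, B x y + B y x = 0 := by
    intro x y
    have h2 := hc (x + y)
    have h3 : (fun i => σ ((x + y) i)) = (fun i => σ (x i)) + (fun i => σ (y i)) := by
      ext i; simp
    rw [h3, Matrix.mulVec_add, dotProduct_add, add_dotProduct, add_dotProduct, hc x, hc y] at h2
    show (fun i => σ (x i)) ⬝ᵥ (N *ᵥ y) + (fun i => σ (y i)) ⬝ᵥ (N *ᵥ x) = 0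
    rw [zero_add, add_zero, add_comm] at h2
    exact h2
  have h2 : ∀ x y, B x y = 0 := by
    intro x y
    have h3 := h1 (a • x) y
    have h4 : B (a • x) y = σ a * B x y := by
      show (fun i => σ ((a • x) i)) ⬝ᵥ (N *ᵥ y) = _
      have : (fun i => σ ((a • x) i)) = σ a • (fun i => σ (x i)) := by ext i; simp
      rw [this, smul_dotProduct, smul_eq_mul]
    have h5 : B y (a • x) = a * B y x := by
      show (fun i => σ (y i)) ⬝ᵥ (N *ᵥ (a • x)) = _
      rw [Matrix.mulVec_smul, dotProduct_smul, smul_eq_mul]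
    rw [h4, h5] at h3
    have h6 := h1 x y
    have h7 : (σ a - a) * B x y = 0 := by linear_combination h3 - a * h6
    rcases mul_eq_zero.mp h7 with h8 | h8
    · exact absurd (sub_eq_zero.mp h8) ha
    · exact h8
  apply hN
  ext i j
  have h3 := h2 (Pi.single i 1) (Pi.single j 1)
  have h4 : (fun k => σ ((Pi.single i 1 : Fin n → F) k)) = Pi.single i 1 := by
    ext k
    by_cases hk : k = i
    · subst hk; simp
    · simp [Pi.single_eq_of_ne hk]
  have h5 : B (Pi.single i 1) (Pi.single j 1) = N i j := by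
    show (fun k => σ ((Pi.single i 1 : Fin n → F) k)) ⬝ᵥ (N *ᵥ (Pi.single j 1)) = _
    rw [h4, Matrix.mulVec_single_one, single_dotProduct, one_mul]
    rfl
  rw [← h5, h3]
  rfl

theorem exists_cent_det (hσ2 : ∀ a, σ (σ a) = a) (hσ : ∃ a, σ a ≠ a) {N : Matrix (Fin n) (Fin n) F}
    (hst : st σ N = N) (hNN : N * N = 0) (hN : N ≠ 0) {μ : F} (hμ : σ μ * μ = 1) :
    ∃ C : Matrix (Fin n) (Fin n) F, st σ C * C = 1 ∧ C * N = N * C ∧ C.det = μ ^ 2 := by
  obtain ⟨x, hx⟩ := exists_form_ne hσ hN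
  let U : Matrix (Fin n) (Fin 2) F := Matrix.of fun i k => if k = 0 then x i else (N *ᵥ x) i
  let E : Matrix (Fin 2) (Fin 2) F := !![0, 0; 1, 0]
  have hNU : N * U = U * E := by
    have h0 : N *ᵥ (N *ᵥ x) = 0 := by rw [Matrix.mulVec_mulVec, hNN, Matrix.zero_mulVec]
    ext i k
    rw [Matrix.mul_apply, Matrix.mul_apply, Fin.sum_univ_two]
    fin_cases k
    · show ∑ j, N i j * x j = x i * 0 + (N *ᵥ x) i * 1
      rw [mul_zero, zero_add, mul_one]
      rfl
    · show ∑ j, N i j * (N *ᵥ x) j = x i * 0 + (N *ᵥ x) i * 0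
      rw [mul_zero, mul_zero, add_zero]
      exact congrFun h0 i
  set G : Matrix (Fin 2) (Fin 2) F := str σ U * U with hG
  have hstG : str σ G = G := by rw [hG, str_mul, str_str hσ2]
  have hGE : G * E = str σ E * G := by
    rw [hG, Matrix.mul_assoc, ← hNU, ← Matrix.mul_assoc, ← Matrix.mul_assoc, ← str_mul, ← hNU, str_mul,
      str_eq N, hst]
  have g01 : G 0 1 = (fun i => σ (x i)) ⬝ᵥ (N *ᵥ x) := rfl
  have g11 : G 1 1 = 0 := by
    have h3 := congrFun (congrFun hGE 1) 0
    have h4 := congrFun (congrFun hGE 0) 1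
    rw [Matrix.mul_apply, Matrix.mul_apply, Fin.sum_univ_two, Fin.sum_univ_two] at h4
    simp [E, str] at h4
    exact h4.symm
  have g10 : G 1 0 = σ (G 0 1) := by
    conv_lhs => rw [← hstG]
    rfl
  have hdet : G.det ≠ 0 := by
    rw [Matrix.det_fin_two, g11, g10, mul_zero, zero_sub, neg_ne_zero]
    rw [← g01] at hx
    exact mul_ne_zero hx ((map_ne_zero σ).mpr hx)
  have hu : IsUnit G.det := isUnit_iff_ne_zero.mpr hdet
  have hGi : G * G⁻¹ = 1 := Matrix.mul_nonsing_inv G hu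
  have hiG : G⁻¹ * G = 1 := Matrix.nonsing_inv_mul G hu
  have hstGi : str σ G⁻¹ = G⁻¹ := by
    have h5 : G * str σ G⁻¹ = 1 := by
      conv_lhs => rw [← hstG]
      rw [← str_mul, hstG, hiG]
      exact st_one
    calc str σ G⁻¹ = (G⁻¹ * G) * str σ G⁻¹ := by rw [hiG, Matrix.one_mul]
      _ = G⁻¹ := by rw [Matrix.mul_assoc, h5, Matrix.mul_one]
  set P : Matrix (Fin n) (Fin n) F := U * (G⁻¹ * str σ U) with hP
  have hPP : P * P = P := by
    rw [hP]
    calc U * (G⁻¹ * str σ U) * (U * (G⁻¹ * str σ U)) = U * (G⁻¹ * (str σ U * U) * (G⁻¹ * str σ U)) := by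
          simp only [Matrix.mul_assoc]
      _ = U * (G⁻¹ * str σ U) := by rw [← hG, hiG, Matrix.one_mul]
  have hstP : st σ P = P := by
    rw [← str_eq, hP, str_mul, str_mul, str_str hσ2, hstGi, Matrix.mul_assoc]
  have hEG : E * G⁻¹ = G⁻¹ * str σ E := by
    calc E * G⁻¹ = (G⁻¹ * G) * E * G⁻¹ := by rw [hiG, Matrix.one_mul]
      _ = G⁻¹ * (G * E) * G⁻¹ := by simp only [Matrix.mul_assoc]
      _ = G⁻¹ * str σ E * (G * G⁻¹) := by rw [hGE]; simp only [Matrix.mul_assoc]
      _ = _ := by rw [hGi, Matrix.mul_one]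
  have hPN : P * N = N * P := by
    have h6 : str σ U * N = str σ E * str σ U := by
      have := congrArg (str σ) hNU
      rw [str_mul, str_mul, str_eq N, hst] at this
      exact this
    rw [hP]
    calc U * (G⁻¹ * str σ U) * N = U * (G⁻¹ * (str σ U * N)) := by simp only [Matrix.mul_assoc]
      _ = U * ((G⁻¹ * str σ E) * str σ U) := by rw [h6]; simp only [Matrix.mul_assoc]
      _ = (U * E) * (G⁻¹ * str σ U) := by rw [← hEG]; simp only [Matrix.mul_assoc]
      _ = N * (U * (G⁻¹ * str σ U)) := by rw [← hNU]; simp only [Matrix.mul_assoc]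
  refine ⟨1 + (μ - 1) • P, ?_, ?_, ?_⟩
  · rw [st_add, st_one, st_smul, hstP, map_sub, map_one]
    rw [add_mul, mul_add, mul_add, Matrix.one_mul, Matrix.mul_one, Matrix.one_mul, smul_mul_assoc,
      mul_smul_comm, hPP, add_assoc, smul_smul, ← add_smul, ← add_smul]
    have h7 : (μ - 1) + ((σ μ - 1) + (σ μ - 1) * (μ - 1)) = 0 := by linear_combination hμ
    rw [h7, zero_smul, add_zero]
  · rw [add_mul, mul_add, Matrix.one_mul, Matrix.mul_one, smul_mul_assoc, mul_smul_comm, hPN]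
  · have h8 : 1 + (μ - 1) • P = 1 + U * ((μ - 1) • (G⁻¹ * str σ U)) := by
      rw [hP, Matrix.mul_smul]
    rw [h8, Matrix.det_one_add_mul_comm, Matrix.smul_mul, Matrix.mul_assoc, ← hG, hiG]
    have h9 : (1 : Matrix (Fin 2) (Fin 2) F) + (μ - 1) • (1 : Matrix (Fin 2) (Fin 2) F) = μ • 1 := by
      rw [sub_smul, one_smul, add_sub_cancel]
    rw [h9, Matrix.det_smul, Matrix.det_one, mul_one, Fintype.card_fin]

end StR

section Transv

variable {F : Type*} [Field F] {σ : F ≃+* F} {V : Type*} [AddCommGroup V] [Module F V]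

/-- an isometry of the form `x ↦ x + f x • e` is a unitary transvection -/
theorem HF.sie_of_rank_one {B : HF σ V} (hB : B.ND) (hσ2 : ∀ a, σ (σ a) = a) {g : V ≃ₗ[F] V} (hg : g ∈ B.iso) {e : V} {f : V → F}
    (hgf : ∀ x, g x = x + f x • e) (hfe : f e = 0) {x0 : V} (hf0 : f x0 ≠ 0) (he : e ≠ 0) :
    ∃ a, a ≠ 0 ∧ a + σ a = 0 ∧ B.IsSie e 0 a g := by
  have key : ∀ x y, f x * B.h e y + σ (f y) * B.h x e + f x * (σ (f y) * B.h e e) = 0 := by
    intro x y
    have h1 := hg x y
    rw [hgf, hgf, B.add_left, B.add_right, B.add_right, B.smul_left, B.smul_right, B.smul_left,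
      B.smul_right] at h1
    linear_combination h1
  have hee : B.h e e = 0 := by
    have := key e x0
    rw [hfe, zero_mul, zero_mul, add_zero, zero_add] at this
    rcases mul_eq_zero.mp this with h | h
    · exact absurd h ((map_ne_zero σ).mpr hf0)
    · exact h
  obtain ⟨y0, hy0⟩ : ∃ y, B.h e y ≠ 0 := by
    by_contra hc
    push Not at hc
    exact he (hB e hc)
  set a := -(σ (f y0)) / B.h e y0 with ha
  have hfa : ∀ x, f x = a * B.h x e := by
    intro x
    have := key x y0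
    rw [hee, mul_zero, mul_zero, add_zero] at this
    rw [ha, div_mul_eq_mul_div, eq_div_iff hy0]
    linear_combination this
  have ha0 : a ≠ 0 := by
    intro h
    apply hf0
    rw [hfa, h, zero_mul]
  have hask : a + σ a = 0 := by
    have := key y0 y0
    rw [hee, mul_zero, mul_zero, add_zero, hfa y0, map_mul, ← B.symm] at this
    have h2 : B.h y0 e ≠ 0 := fun h => hy0 (B.eq_zero_comm.mp h)
    have h3 : (a + σ a) * (B.h y0 e * B.h e y0) = 0 := by linear_combination this
    exact (mul_eq_zero.mp h3).resolve_right (mul_ne_zero h2 hy0)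
  refine ⟨a, ha0, hask, hee, B.zero_left e, ?_, ?_⟩
  · rw [B.zero_left, neg_zero]; exact hask
  · intro x
    rw [hgf, hfa, B.zero_right, smul_zero, zero_smul, add_zero, sub_zero]

/-- unitary transvections are conjugate in the special unitary group in dimension at least three -/
theorem HF.sie_conj [Finite F] [FiniteDimensional F V] {B : HF σ V} (hB : B.ND)
    (hσ : orderOf σ = 2) (hn : 3 ≤ Module.finrank F V) {e e' : V} {a a' : F} {g g' : V ≃ₗ[F] V}
    (he : e ≠ 0) (he' : e' ≠ 0) (ha : a ≠ 0) (ha' : a' ≠ 0)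
    (h : B.IsSie e 0 a g) (h' : B.IsSie e' 0 a' g') : ∃ k ∈ B.siso, k * g * k⁻¹ = g' := by
  obtain ⟨hs1, hs2, hs3⟩ := sigma_facts hσ
  have hsk : ∀ {e a g}, B.IsSie e 0 a g → σ a = -a := by
    intro e a g h
    have := h.2.2.1
    rw [B.zero_left, neg_zero] at this
    exact eq_neg_of_add_eq_zero_right this
  obtain ⟨l, hl0, hl⟩ := hs3 (a' / a) (div_ne_zero ha' ha) (by
    rw [map_div₀, hsk h, hsk h', neg_div_neg_eq])
  have hl' : a * (l * σ l) = a' := by rw [hl, mul_div_cancel₀ _ ha]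
  have hle : l • e' ≠ 0 := smul_ne_zero hl0 he'
  have hlee : B.h (l • e') (l • e') = 0 := by
    rw [B.smul_left, B.smul_right, h'.1, mul_zero, mul_zero]
  obtain ⟨k, hk, hke⟩ := hB.om_trans hσ hn he hle h.1 hlee
  have hk' := B.Om_le hk
  refine ⟨k, hk', ?_⟩
  have h1 := h.conj hk'.1
  rw [hke, map_zero] at h1
  have h2 : B.IsSie (l • e') 0 a g' := by
    refine ⟨hlee, B.zero_left _, ?_, ?_⟩
    · rw [hsk h, B.zero_left, neg_zero, add_neg_cancel]
    · intro x
      rw [h'.2.2.2 x, B.zero_right, smul_zero, zero_smul, add_zero, sub_zero, smul_zero,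
        zero_smul, add_zero, sub_zero, B.smul_right, smul_smul, ← hl']
      congr 2
      ring
  exact h1.unique h2

end Transv

section ConjSU

variable {F : Type*} [Field F] [Fintype F] {n q : ℕ}

theorem su_conj_of_rank_one (hF : Fintype.card F = q ^ 2) (hn : 3 ≤ n) (s t : Cfsg.SU n F q)
    (hs : Cfsg.IsTransvection ((s : SpecialLinearGroup (Fin n) F) : Matrix (Fin n) (Fin n) F))
    (ht : Cfsg.IsTransvection ((t : SpecialLinearGroup (Fin n) F) : Matrix (Fin n) (Fin n) F)) :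
    IsConj s t := by
  obtain ⟨σ, hσ, hq⟩ := exists_sigma hF
  obtain ⟨hs1, hs2, hs3⟩ := sigma_facts hσ
  have hB := std_nd hs1 n
  set B := std σ hs1 n with hBdef
  have key : ∀ s : Cfsg.SU n F q, Cfsg.IsTransvection ((s : SpecialLinearGroup (Fin n) F) : Matrix (Fin n) (Fin n) F) →
      ∃ e a, e ≠ 0 ∧ a ≠ 0 ∧ B.IsSie e 0 a ((suEquiv hs1 hq n s : B.siso) : (Fin n → F) ≃ₗ[F] (Fin n → F)) := by
    intro s hs
    set S := ((s : SpecialLinearGroup (Fin n) F) : Matrix (Fin n) (Fin n) F) with hS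
    set N := S - 1 with hN
    have hr : Module.finrank F (LinearMap.range (Matrix.toLin' N)) = 1 := hs.1
    obtain ⟨e0, he0, hspan⟩ := finrank_eq_one_iff'.mp hr
    have he : (e0 : Fin n → F) ≠ 0 := fun h => he0 (Subtype.ext h)
    have hex : ∀ x, ∃ c : F, c • (e0 : Fin n → F) = N *ᵥ x := by
      intro x
      obtain ⟨c, hc⟩ := hspan ⟨Matrix.toLin' N x, LinearMap.mem_range_self _ x⟩
      exact ⟨c, congrArg Subtype.val hc⟩
    choose f hf using hex
    have hgf : ∀ x, ((suEquiv hs1 hq n s : B.siso) : (Fin n → F) ≃ₗ[F] (Fin n → F)) x = x + f x • (e0 : Fin n → F) := by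
      intro x
      rw [hf, suEquiv_apply]
      show S *ᵥ x = x + N *ᵥ x
      rw [hN, Matrix.sub_mulVec, Matrix.one_mulVec, add_sub_cancel]
    obtain ⟨x0, hx0⟩ : ∃ x, N *ᵥ x = (e0 : Fin n → F) := by
      obtain ⟨x, hx⟩ := e0.2
      exact ⟨x, hx⟩
    have hNe : N *ᵥ (e0 : Fin n → F) = 0 := by
      rw [← hx0, Matrix.mulVec_mulVec, hs.2, Matrix.zero_mulVec]
    have hfe : f (e0 : Fin n → F) = 0 := by
      have := hf (e0 : Fin n → F)
      rw [hNe] at this
      exact (smul_eq_zero.mp this).resolve_right he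
    have hf0 : f x0 ≠ 0 := by
      intro h
      have := hf x0
      rw [h, zero_smul, hx0] at this
      exact he this.symm
    obtain ⟨a, ha, _, h⟩ := HF.sie_of_rank_one hB hs1 (suEquiv hs1 hq n s : B.siso).2.1 hgf hfe hf0 he
    exact ⟨_, a, he, ha, h⟩
  obtain ⟨e, a, he, ha, h⟩ := key s hs
  obtain ⟨e', a', he', ha', h'⟩ := key t ht
  obtain ⟨k, hk, hk'⟩ := HF.sie_conj hB hσ (by simpa using hn) he he' ha ha' h h'
  rw [isConj_iff]
  obtain ⟨k0, hk0⟩ := (suEquiv hs1 hq n).surjective ⟨k, hk⟩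
  refine ⟨k0, ?_⟩
  apply (suEquiv hs1 hq n).injective
  apply Subtype.ext
  rw [map_mul, map_mul, map_inv, hk0]
  exact hk'

/-- in characteristic two the involutions of `SU_n(q)` are conjugate iff the ranks are equal -/
theorem su_conj_of_rank [CharP F 2] (hF : Fintype.card F = q ^ 2) (a b : Cfsg.SU n F q)
    (ha : orderOf a = 2) (hb : orderOf b = 2)
    (h : (((a : SpecialLinearGroup (Fin n) F) : Matrix (Fin n) (Fin n) F) - 1).rank =
      (((b : SpecialLinearGroup (Fin n) F) : Matrix (Fin n) (Fin n) F) - 1).rank) : IsConj a b := by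
  obtain ⟨σ, hσ, hq⟩ := exists_sigma hF
  obtain ⟨hs1, hs2, hs3⟩ := sigma_facts hσ
  have hsq : ∀ a : Cfsg.SU n F q, orderOf a = 2 →
      (a : SpecialLinearGroup (Fin n) F) * (a : SpecialLinearGroup (Fin n) F) = 1 := by
    intro a ha
    have := pow_orderOf_eq_one a
    rw [ha, pow_two] at this
    exact congrArg Subtype.val this
  have hga := hsq a ha
  have hgb := hsq b hb
  set A : Matrix (Fin n) (Fin n) F := ((a : SpecialLinearGroup (Fin n) F) : Matrix (Fin n) (Fin n) F) with hA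
  set Bm : Matrix (Fin n) (Fin n) F := ((b : SpecialLinearGroup (Fin n) F) : Matrix (Fin n) (Fin n) F) with hBm
  have hAA := SqZero.sq_of_involution hga
  have hBB := SqZero.sq_of_involution hgb
  rw [← hA] at hAA
  rw [← hBm] at hBB
  -- conjugate in GL
  obtain ⟨k, hk⟩ := SqZero.conj (F := F) (N := Matrix.toLin' (A - 1)) (N' := Matrix.toLin' (Bm - 1))
    (by intro x; rw [← Matrix.toLin'_mul_apply, hAA, map_zero]; rfl)
    (by intro x; rw [← Matrix.toLin'_mul_apply, hBB, map_zero]; rfl) h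
  have hGL : IsConj ((a : SpecialLinearGroup (Fin n) F) : GL (Fin n) F) ((b : SpecialLinearGroup (Fin n) F) : GL (Fin n) F) := by
    apply SqZero.isConj_GL (k := k)
    intro x
    show k (A *ᵥ x) = Bm *ᵥ (k x)
    have h1 := hk x
    rw [Matrix.toLin'_apply, Matrix.toLin'_apply, Matrix.sub_mulVec, Matrix.sub_mulVec, Matrix.one_mulVec,
      Matrix.one_mulVec, map_sub] at h1
    exact sub_left_inj.mp h1
  obtain ⟨P, hP⟩ := isConj_iff.mp hGL
  have hmem : ∀ a : Cfsg.SU n F q, ((a : SpecialLinearGroup (Fin n) F) : GL (Fin n) F) ∈ Cfsg.GU n F q := by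
    intro a
    rw [gu_iff hs1 hq]
    exact (su_iff hs1 hq _).mp a.2
  obtain ⟨u, hu, hu'⟩ := gu_conj_of_gl_conj hs1 hs2 hq (hmem a) (hmem b) hP
  have hust := (gu_iff_st hs1 hq u).mp hu
  -- the determinant
  set d : F := (u : Matrix (Fin n) (Fin n) F).det with hd
  have hdn : σ d * d = 1 := by
    have := congrArg Matrix.det hust
    rw [Matrix.det_mul, Matrix.det_one] at this
    have h2 : (st σ (u : Matrix (Fin n) (Fin n) F)).det = σ d := by
      unfold st
      rw [Matrix.det_transpose, hd]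
      exact (RingHom.map_det (σ : F →+* F) _).symm
    rw [h2] at this
    exact this
  have hd0 : d ≠ 0 := right_ne_zero_of_mul_eq_one hdn
  -- `d⁻¹ = μ ^ 2` with `σ μ * μ = 1`
  obtain ⟨μ, hμ2⟩ := SqZero.exists_sqrt (F := F) (Units.mk0 d hd0)⁻¹
  have hμ2' : (μ : F) ^ 2 = d⁻¹ := by
    have := congrArg Units.val hμ2
    rw [Units.val_pow_eq_pow_val, Units.val_inv_eq_inv_val] at this
    exact this
  have hμn : σ (μ : F) * (μ : F) = 1 := by
    have h3 : (σ (μ : F) * (μ : F)) ^ 2 = 1 := by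
      rw [mul_pow, ← map_pow, hμ2', map_inv₀, ← mul_inv, hdn, inv_one]
    have h4 : (σ (μ : F) * (μ : F) - 1) ^ 2 = 0 := by
      rw [sub_sq, h3]
      have : (2 : F) = 0 := by
        have := CharP.cast_eq_zero F 2
        exact_mod_cast this
      rw [this, zero_mul, zero_mul, sub_zero, one_pow]
      rw [← one_add_one_eq_two] at this
      exact this
    exact sub_eq_zero.mp (pow_eq_zero_iff (two_ne_zero) |>.mp h4)
  -- the self-adjoint `N = A - 1`
  have hAst : st σ A * A = 1 := (gu_iff_st hs1 hq _).mp (hmem a)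
  have hAinv : A * A = 1 := congrArg Subtype.val hga
  have hstA : st σ A = A := by
    calc st σ A = st σ A * (A * A) := by rw [hAinv, Matrix.mul_one]
      _ = A := by rw [← Matrix.mul_assoc, hAst, Matrix.one_mul]
  have hN0 : A - 1 ≠ 0 := by
    intro h0
    have h1 : (a : SpecialLinearGroup (Fin n) F) = 1 := Subtype.ext (sub_eq_zero.mp h0)
    have h2 : a = 1 := Subtype.ext h1
    rw [h2, orderOf_one] at ha
    exact absurd ha (by norm_num)
  obtain ⟨C, hC1, hC2, hC3⟩ := exists_cent_det hs1 hs2 (N := A - 1) (by rw [st_sub, hstA, st_one]) hAA hN0 hμn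
  have hC4 : C * A = A * C := by
    rw [Matrix.mul_sub, Matrix.sub_mul, Matrix.mul_one, Matrix.one_mul] at hC2
    exact sub_left_inj.mp hC2
  have hdet : ((u : Matrix (Fin n) (Fin n) F) * C).det = 1 := by
    rw [Matrix.det_mul, hC3, hμ2', ← hd, mul_inv_cancel₀ hd0]
  let g : SpecialLinearGroup (Fin n) F := ⟨(u : Matrix (Fin n) (Fin n) F) * C, hdet⟩
  have hg : g ∈ Cfsg.SU n F q := by
    rw [su_iff hs1 hq]
    have h5 := (gu_iff_st hs1 hq (g : GL (Fin n) F)).mpr (by
      show st σ ((u : Matrix (Fin n) (Fin n) F) * C) * ((u : Matrix (Fin n) (Fin n) F) * C) = 1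
      rw [st_mul]
      calc st σ C * st σ (u : Matrix (Fin n) (Fin n) F) * ((u : Matrix (Fin n) (Fin n) F) * C)
          = st σ C * (st σ (u : Matrix (Fin n) (Fin n) F) * (u : Matrix (Fin n) (Fin n) F)) * C := by
            simp only [Matrix.mul_assoc]
        _ = 1 := by rw [hust, Matrix.mul_one, hC1])
    exact (gu_iff hs1 hq _).mp h5
  rw [isConj_iff]
  refine ⟨⟨g, hg⟩, ?_⟩
  rw [mul_inv_eq_iff_eq_mul]
  apply Subtype.ext
  apply Subtype.ext
  show (u : Matrix (Fin n) (Fin n) F) * C * A = Bm * ((u : Matrix (Fin n) (Fin n) F) * C)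
  have h6 : (u : Matrix (Fin n) (Fin n) F) * A = Bm * (u : Matrix (Fin n) (Fin n) F) := by
    have h7 : u * ((a : SpecialLinearGroup (Fin n) F) : GL (Fin n) F) = ((b : SpecialLinearGroup (Fin n) F) : GL (Fin n) F) * u := by
      rw [← hu']; group
    exact congrArg Units.val h7
  rw [Matrix.mul_assoc, hC4, ← Matrix.mul_assoc, h6, Matrix.mul_assoc]

end ConjSU

end Cfsg.Agent.Lib.Herm
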