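import Mathlib
import Cfsg.Agent.Lib.RCF7
import Cfsg.Agent.Lib.Herm14

/-! Unipotent elements of `GU_n(q)`. -/

set_option linter.all false
set_option maxHeartbeats 400000

namespace Cfsg.Agent.Lib.Herm

open Matrix Cfsg.Agent.Lib.FinGal Cfsg.Agent.Lib.HilbN Cfsg.Agent.Lib.RCF

section UType

variable {F : Type*} [Field F] {σ : F ≃+* F} {q n : ℕ}

theorem st_pow (X : Matrix (Fin n) (Fin n) F) (k : ℕ) : st σ (X ^ k) = (st σ X) ^ k := by
  induction k with
  | zero => rw [pow_zero, pow_zero, st_one]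
  | succ k ih => rw [pow_succ, st_mul, ih, pow_succ']

theorem rank_map_sigma [Finite F] (X : Matrix (Fin n) (Fin n) F) : (X.map σ).rank = X.rank := by
  have h1 : Nat.card (LinearMap.ker (Matrix.toLin' X)) = Nat.card (LinearMap.ker (Matrix.toLin' (X.map σ))) := by
    apply Nat.card_congr
    apply Equiv.subtypeEquiv (Equiv.piCongrRight (fun _ => σ.toEquiv))
    intro v
    rw [LinearMap.mem_ker, LinearMap.mem_ker, Matrix.toLin'_apply, Matrix.toLin'_apply]
    have h2 : (X.map σ) *ᵥ ((Equiv.piCongrRight (fun _ => σ.toEquiv)) v) = fun i => σ ((X *ᵥ v) i) := by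
      funext i
      show ∑ j, σ (X i j) * σ (v j) = σ (∑ j, X i j * v j)
      rw [map_sum]
      exact Finset.sum_congr rfl fun j _ => (map_mul σ _ _).symm
    rw [h2]
    constructor
    · intro h
      rw [h]
      funext i
      exact map_zero σ
    · intro h
      funext i
      have := congrFun h i
      exact (map_eq_zero σ).mp this
  have e1 := Module.natCard_eq_pow_finrank (K := F) (V := LinearMap.ker (Matrix.toLin' X))
  have e2 := Module.natCard_eq_pow_finrank (K := F) (V := LinearMap.ker (Matrix.toLin' (X.map σ)))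
  have h3 := Nat.pow_right_injective (Finite.one_lt_card (α := F)) (e1.symm.trans (h1.trans e2))
  have h4 := LinearMap.finrank_range_add_finrank_ker (Matrix.toLin' X)
  have h5 := LinearMap.finrank_range_add_finrank_ker (Matrix.toLin' (X.map σ))
  have h6 : (X.map σ).rank = Module.finrank F (LinearMap.range (Matrix.toLin' (X.map σ))) := rfl
  have h7 : X.rank = Module.finrank F (LinearMap.range (Matrix.toLin' X)) := rfl
  omega

theorem rank_st [Finite F] (X : Matrix (Fin n) (Fin n) F) : (st σ X).rank = X.rank := by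
  unfold st
  rw [Matrix.rank_transpose, rank_map_sigma]

/-- the inverse conjugate transpose has the same type -/
theorem isType_st_inv [Finite F] {X Y : Matrix (Fin n) (Fin n) F} (hXY : Y * st σ X = 1) {s : Multiset ℕ}
    (h : IsType X s) : IsType Y s := by
  rw [isType_iff_rank] at h ⊢
  intro j
  rw [← h j]
  congr 1
  have hYX : st σ X * Y = 1 := mul_eq_one_comm.mp hXY
  have h1 : Y - 1 = -(Y * (st σ X - 1)) := by rw [mul_sub, hXY, mul_one]; abel
  have hc : Y * (st σ X - 1) = (st σ X - 1) * Y := by rw [mul_sub, sub_mul, hXY, hYX, one_mul, mul_one]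
  have h2 : (Y - 1) ^ j = ((-1) ^ j * Y ^ j) * (st σ X - 1) ^ j := by
    rw [h1, neg_pow, Commute.mul_pow hc, mul_assoc]
  have h3 : (st σ X - 1) ^ j = st σ ((X - 1) ^ j) := by rw [st_pow, st_sub, st_one]
  have hu : IsUnit ((-1) ^ j * Y ^ j : Matrix (Fin n) (Fin n) F) := by
    apply IsUnit.mul
    · exact (isUnit_one.neg).pow j
    · exact (IsUnit.of_mul_eq_one _ hXY).pow j
  rw [h2, h3]
  rw [Matrix.rank_mul_eq_right_of_isUnit_det _ _ ((Matrix.isUnit_iff_isUnit_det _).mp hu), rank_st]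

/-- every unipotent type occurs in the unitary group -/
theorem exists_GU_type [Finite F] (hσ' : orderOf σ = 2) (hq : ∀ a, σ a = a ^ q) (μ : Nat.Partition n) :
    ∃ g : Cfsg.GU n F q, IsNilpotent (((g : GL (Fin n) F) : Matrix (Fin n) (Fin n) F) - 1) ∧
      IsType ((g : GL (Fin n) F) : Matrix (Fin n) (Fin n) F) μ.parts := by
  obtain ⟨hs1, hs2, hs3⟩ := sigma_facts hσ'
  obtain ⟨A, hA, ht⟩ := exists_GL_type (F := F) μ
  -- the inverse conjugate transpose
  let B : GL (Fin n) F := ⟨st σ ((A⁻¹ : GL (Fin n) F) : Matrix (Fin n) (Fin n) F), st σ (A : Matrix (Fin n) (Fin n) F),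
    by rw [← st_mul, ← Units.val_mul, mul_inv_cancel, Units.val_one, st_one],
    by rw [← st_mul, ← Units.val_mul, inv_mul_cancel, Units.val_one, st_one]⟩
  have hBt : IsType (B : Matrix (Fin n) (Fin n) F) μ.parts :=
    isType_st_inv (σ := σ) (X := (A : Matrix (Fin n) (Fin n) F)) (Units.mul_inv B) ht
  have hBn : IsNilpotent ((B : Matrix (Fin n) (Fin n) F) - 1) := by
    obtain ⟨N, hN⟩ := hA
    refine ⟨N, ?_⟩
    have h1 := (isType_iff_rank _ _).mp ht N
    have h2 := (isType_iff_rank _ _).mp hBt N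
    rw [hN, Matrix.rank_zero] at h1
    rw [← rank_eq_zero']
    omega
  obtain ⟨c, hc⟩ := isConj_iff.mp (IsType.isConj_GL ht hBt hA hBn)
  have h3 : c * A = B * c := by rw [← hc]; group
  have h4 : st σ (A : Matrix (Fin n) (Fin n) F) * (c : Matrix (Fin n) (Fin n) F) * (A : Matrix (Fin n) (Fin n) F) =
      (c : Matrix (Fin n) (Fin n) F) := by
    rw [mul_assoc]
    have h5 := congrArg Units.val h3
    rw [Units.val_mul, Units.val_mul] at h5
    rw [h5, ← mul_assoc]
    have h6 : st σ (A : Matrix (Fin n) (Fin n) F) * (B : Matrix (Fin n) (Fin n) F) = 1 := Units.inv_mul B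
    rw [h6, one_mul]
  obtain ⟨D, hD⟩ := similar_unitary hσ' hs1 hs2 hq h4
  have hconj : IsConj A (D * A * D⁻¹) := isConj_iff.mpr ⟨D, rfl⟩
  have ht' := isType_GL_conj hconj ht
  refine ⟨⟨D * A * D⁻¹, hD⟩, ?_, ht'⟩
  obtain ⟨N, hN⟩ := hA
  refine ⟨N, ?_⟩
  have h1 := (isType_iff_rank _ _).mp ht N
  have h2 := (isType_iff_rank _ _).mp ht' N
  rw [hN, Matrix.rank_zero] at h1
  rw [← rank_eq_zero']
  show (((((D * A * D⁻¹ : GL (Fin n) F)) : Matrix (Fin n) (Fin n) F) - 1) ^ N).rank = 0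
  omega

theorem isConj_GU_of_type [Finite F] (hσ' : orderOf σ = 2) (hq : ∀ a, σ a = a ^ q) {g h : Cfsg.GU n F q} {s : Multiset ℕ}
    (hg : IsType ((g : GL (Fin n) F) : Matrix (Fin n) (Fin n) F) s) (hh : IsType ((h : GL (Fin n) F) : Matrix (Fin n) (Fin n) F) s)
    (hgn : IsNilpotent (((g : GL (Fin n) F) : Matrix (Fin n) (Fin n) F) - 1))
    (hhn : IsNilpotent (((h : GL (Fin n) F) : Matrix (Fin n) (Fin n) F) - 1)) :
    IsConj g h := by
  obtain ⟨hs1, hs2, hs3⟩ := sigma_facts hσ'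
  obtain ⟨P, hP⟩ := isConj_iff.mp (IsType.isConj_GL hg hh hgn hhn)
  obtain ⟨u, hu, hu'⟩ := gu_conj_of_gl_conj hs1 hs2 hq g.2 h.2 hP
  rw [isConj_iff]
  exact ⟨⟨u, hu⟩, Subtype.ext hu'⟩

end UType

end Cfsg.Agent.Lib.Herm
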