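import Mathlib
import Cfsg.Agent.Lib.RCF9
import Cfsg.Agent.Lib.Herm15

/-! The determinant on `GU_n(q)`, regular unipotent classes of `SU_n(q)`. -/

set_option linter.all false
set_option maxHeartbeats 400000

namespace Cfsg.Agent.Lib.Herm

open Matrix Cfsg.Agent.Lib.FinGal Cfsg.Agent.Lib.HilbN Cfsg.Agent.Lib.RCF

section DetGU

variable {F : Type*} [Field F] {σ : F ≃+* F} {q n : ℕ}

/-- the norm one units -/
def NU (σ : F ≃+* F) : Subgroup Fˣ where
  carrier := {a | (a : F) * σ a = 1}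
  one_mem' := by
    show ((1 : Fˣ) : F) * σ ((1 : Fˣ) : F) = 1
    rw [Units.val_one, map_one, mul_one]
  mul_mem' := by
    intro a b ha hb
    show ((a * b : Fˣ) : F) * σ ((a * b : Fˣ) : F) = 1
    rw [Units.val_mul, map_mul]
    calc (a : F) * b * (σ a * σ b) = ((a : F) * σ a) * ((b : F) * σ b) := by ring
      _ = 1 := by rw [show (a : F) * σ a = 1 from ha, show (b : F) * σ b = 1 from hb, one_mul]
  inv_mem' := by
    intro a ha
    show ((a⁻¹ : Fˣ) : F) * σ ((a⁻¹ : Fˣ) : F) = 1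
    rw [Units.val_inv_eq_inv_val, map_inv₀, ← mul_inv, show (a : F) * σ a = 1 from ha, inv_one]

theorem mem_NU {a : Fˣ} : a ∈ NU σ ↔ (a : F) * σ a = 1 := Iff.rfl

theorem card_NU [Fintype F] (hF : Fintype.card F = q ^ 2) (hσ : orderOf σ = 2) (hq : ∀ a, σ a = a ^ q) :
    Nat.card (NU σ) = q + 1 := by
  rw [← card_norm_sol hF hσ hq one_ne_zero (map_one σ)]
  refine Nat.card_congr ⟨fun x => ⟨(x.1 : F), x.2⟩, fun l => ⟨Units.mk0 l.1 ?_, l.2⟩, ?_, ?_⟩
  · intro h0
    have := l.2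
    rw [h0, zero_mul] at this
    exact zero_ne_one this
  · intro x; apply Subtype.ext; apply Units.ext; rfl
  · intro l; rfl

theorem det_mem_NU (hσ2 : ∀ a, σ (σ a) = a) (hq : ∀ a, σ a = a ^ q) (g : Cfsg.GU n F q) :
    Matrix.GeneralLinearGroup.det (g : GL (Fin n) F) ∈ NU σ := by
  have h1 := (gu_iff_st hσ2 hq (g : GL (Fin n) F)).mp g.2
  have h2 := congrArg Matrix.det h1
  rw [Matrix.det_mul, Matrix.det_one] at h2
  have h3 : (st σ ((g : GL (Fin n) F) : Matrix (Fin n) (Fin n) F)).det =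
      σ ((g : GL (Fin n) F) : Matrix (Fin n) (Fin n) F).det := by
    unfold st
    rw [Matrix.det_transpose]
    exact (RingHom.map_det (σ : F →+* F) _).symm
  rw [h3, mul_comm] at h2
  exact h2

/-- the determinant on the general unitary group -/
def detGU (hσ2 : ∀ a, σ (σ a) = a) (hq : ∀ a, σ a = a ^ q) (n : ℕ) : Cfsg.GU n F q →* NU σ :=
  (Matrix.GeneralLinearGroup.det.comp (Cfsg.GU n F q).subtype).codRestrict (NU σ) (det_mem_NU hσ2 hq)

theorem detGU_val (hσ2 : ∀ a, σ (σ a) = a) (hq : ∀ a, σ a = a ^ q) (g : Cfsg.GU n F q) :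
    ((detGU hσ2 hq n g : NU σ) : Fˣ) = Matrix.GeneralLinearGroup.det (g : GL (Fin n) F) := rfl

theorem detGU_surj [Finite F] (hσ : orderOf σ = 2) (hσ2 : ∀ a, σ (σ a) = a) (hq : ∀ a, σ a = a ^ q) (hn : 1 ≤ n) :
    Function.Surjective (detGU hσ2 hq n) := by
  intro l
  obtain ⟨u, hu⟩ := (std_nd hσ2 n).exists_norm_vec hσ (by simpa using hn)
  obtain ⟨g, hg, hd, _⟩ := (std σ hσ2 n).exists_qrefl hu l.2
  obtain ⟨g0, rfl⟩ := (gl n F).surjective g
  refine ⟨⟨g0, (mem_GU hσ2 hq g0).mpr hg⟩, ?_⟩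
  apply Subtype.ext
  apply Units.ext
  rw [gl_det] at hd
  exact hd

/-- the inclusion of `SU` in `GU` -/
def suIncl (hσ2 : ∀ a, σ (σ a) = a) (hq : ∀ a, σ a = a ^ q) (n : ℕ) : Cfsg.SU n F q →* Cfsg.GU n F q :=
  (Matrix.SpecialLinearGroup.toGL.comp (Cfsg.SU n F q).subtype).codRestrict (Cfsg.GU n F q) (by
    intro s
    exact (gu_iff hσ2 hq _).mpr ((su_iff hσ2 hq _).mp s.2))

theorem suIncl_val (hσ2 : ∀ a, σ (σ a) = a) (hq : ∀ a, σ a = a ^ q) (s : Cfsg.SU n F q) :
    (((suIncl hσ2 hq n s : Cfsg.GU n F q) : GL (Fin n) F) : Matrix (Fin n) (Fin n) F) =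
      ((s : SpecialLinearGroup (Fin n) F) : Matrix (Fin n) (Fin n) F) := rfl

theorem suIncl_inj (hσ2 : ∀ a, σ (σ a) = a) (hq : ∀ a, σ a = a ^ q) (n : ℕ) :
    Function.Injective (suIncl hσ2 hq n) := by
  intro s t h
  apply Subtype.ext
  apply Subtype.ext
  exact congrArg (fun x : Cfsg.GU n F q => ((x : GL (Fin n) F) : Matrix (Fin n) (Fin n) F)) h

theorem exists_suIncl (hσ2 : ∀ a, σ (σ a) = a) (hq : ∀ a, σ a = a ^ q) (g : Cfsg.GU n F q)
    (hg : ((g : GL (Fin n) F) : Matrix (Fin n) (Fin n) F).det = 1) : ∃ s, suIncl hσ2 hq n s = g := by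
  let s : SpecialLinearGroup (Fin n) F := ⟨((g : GL (Fin n) F) : Matrix (Fin n) (Fin n) F), hg⟩
  refine ⟨⟨s, ?_⟩, ?_⟩
  · rw [su_iff hσ2 hq]
    exact (gu_iff hσ2 hq _).mp g.2
  · apply Subtype.ext
    apply Units.ext
    rfl

/-- eigenvalues of unitary elements commuting with a regular unipotent -/
theorem coeff_norm [Finite F] (hσ2 : ∀ a, σ (σ a) = a) (hq : ∀ a, σ a = a ^ q) (hpos : 1 ≤ n) {M C : GL (Fin n) F}
    (hM : M ∈ Cfsg.GU n F q) (hCm : C ∈ Cfsg.GU n F q)
    (hnil : ((M : Matrix (Fin n) (Fin n) F) - 1) ^ n = 0) {f : Polynomial F}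
    (hf : (C : Matrix (Fin n) (Fin n) F) = Polynomial.aeval ((M : Matrix (Fin n) (Fin n) F) - 1) f) :
    f.coeff 0 * σ (f.coeff 0) = 1 := by
  set m := (M : Matrix (Fin n) (Fin n) F) with hm
  set B := std σ hσ2 n with hB
  have hBn : B.ND := std_nd hσ2 n
  have hMi : ∀ x y, B.h (m *ᵥ x) (m *ᵥ y) = B.h x y := (mem_GU hσ2 hq M).mp hM
  have hCi : ∀ x y, B.h ((C : Matrix (Fin n) (Fin n) F) *ᵥ x) ((C : Matrix (Fin n) (Fin n) F) *ᵥ y) = B.h x y :=
    (mem_GU hσ2 hq C).mp hCm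
  -- a fixed vector
  obtain ⟨x, hx0, hx⟩ : ∃ x : Fin n → F, x ≠ 0 ∧ (m - 1) *ᵥ x = 0 := by
    rw [Matrix.exists_mulVec_eq_zero_iff]
    haveI : Nonempty (Fin n) := ⟨⟨0, hpos⟩⟩
    have h1 := congrArg Matrix.det hnil
    rw [Matrix.det_pow, Matrix.det_zero] at h1
    exact (pow_eq_zero_iff (by omega)).mp h1
  have hmx : m *ᵥ x = x := by
    rw [Matrix.sub_mulVec, Matrix.one_mulVec, sub_eq_zero] at hx
    exact hx
  have hperp : ∀ z, B.h x ((m - 1) *ᵥ z) = 0 := by
    intro z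
    rw [Matrix.sub_mulVec, Matrix.one_mulVec, B.sub_right]
    have := hMi x z
    rw [hmx] at this
    rw [this, sub_self]
  obtain ⟨y, hy⟩ : ∃ y, B.h x y ≠ 0 := by
    by_contra hc
    push Not at hc
    exact hx0 (hBn x hc)
  have hdec : ∀ z, (C : Matrix (Fin n) (Fin n) F) *ᵥ z = f.coeff 0 • z + (m - 1) *ᵥ ((Polynomial.aeval (m - 1) f.divX) *ᵥ z) := by
    intro z
    have h2 : (C : Matrix (Fin n) (Fin n) F) = (m - 1) * Polynomial.aeval (m - 1) f.divX + algebraMap F _ (f.coeff 0) := by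
      rw [hf]
      conv_lhs => rw [← Polynomial.X_mul_divX_add f]
      rw [map_add, map_mul, Polynomial.aeval_X, Polynomial.aeval_C]
    rw [h2, Matrix.add_mulVec, ← Matrix.mulVec_mulVec, add_comm, Algebra.algebraMap_eq_smul_one,
      Matrix.smul_mulVec, Matrix.one_mulVec]
  have hcomm : (m - 1) * Polynomial.aeval (m - 1) f.divX = Polynomial.aeval (m - 1) f.divX * (m - 1) := by
    have h4 : Polynomial.aeval (m - 1) (Polynomial.X : Polynomial F) * Polynomial.aeval (m - 1) f.divX =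
        Polynomial.aeval (m - 1) f.divX * Polynomial.aeval (m - 1) (Polynomial.X : Polynomial F) := by
      rw [← map_mul, ← map_mul, mul_comm]
    rw [Polynomial.aeval_X] at h4
    exact h4
  have hCx : (C : Matrix (Fin n) (Fin n) F) *ᵥ x = f.coeff 0 • x := by
    rw [hdec, Matrix.mulVec_mulVec, hcomm, ← Matrix.mulVec_mulVec, hx, Matrix.mulVec_zero, add_zero]
  have h5 := hCi x y
  rw [hCx, hdec y, B.smul_left, B.add_right, B.smul_right, hperp, add_zero, ← mul_assoc] at h5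
  have h6 : (f.coeff 0 * σ (f.coeff 0) - 1) * B.h x y = 0 := by linear_combination h5
  exact sub_eq_zero.mp ((mul_eq_zero.mp h6).resolve_right hy)

/-- the regular unipotent classes of the special unitary group -/
theorem card_SU_reg [Fintype F] (hF : Fintype.card F = q ^ 2) (hn : 2 ≤ n) :
    Nat.card {C : ConjClasses (Cfsg.SU n F q) // ∃ u : Cfsg.SU n F q, ConjClasses.mk u = C ∧
      (((u : SpecialLinearGroup (Fin n) F) : Matrix (Fin n) (Fin n) F) - 1) ^ n = 0 ∧
      (((u : SpecialLinearGroup (Fin n) F) : Matrix (Fin n) (Fin n) F) - 1).rank = n - 1} = Nat.gcd n (q + 1) := by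
  obtain ⟨σ, hσ, hq⟩ := exists_sigma hF
  obtain ⟨hs1, hs2, hs3⟩ := sigma_facts hσ
  have hcard : Fintype.card (Fin n) = n := Fintype.card_fin n
  obtain ⟨g0, hg0, hgt⟩ := exists_GU_type (F := F) hσ hq (Nat.Partition.ofSums n {n} (by simp))
  have hgt' : IsType ((g0 : GL (Fin n) F) : Matrix (Fin n) (Fin n) F) {n} := by
    have h1 : (Nat.Partition.ofSums n {n} (by simp)).parts = ({n} : Multiset ℕ).filter (· ≠ 0) := rfl
    rw [h1, Multiset.filter_singleton, if_pos (by omega)] at hgt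
    exact hgt
  obtain ⟨hg1, hg2⟩ := reg_of_isType hcard hg0 hgt'
  obtain ⟨s0, hs0⟩ := exists_suIncl hs1 hq g0 (det_unipotent hg0)
  have key := card_split (G := Cfsg.GU n F q) (A := NU σ) (S := Cfsg.SU n F q)
    (detGU hs1 hq n) (detGU_surj hσ hs1 hq (by omega)) (suIncl hs1 hq n) (suIncl_inj hs1 hq n)
    (fun g hg => exists_suIncl hs1 hq g (congrArg (fun x : NU σ => ((x : Fˣ) : F)) hg))
    (fun s => Subtype.ext (Units.ext (s : SpecialLinearGroup (Fin n) F).2))
    s0 (fun u => (((u : SpecialLinearGroup (Fin n) F) : Matrix (Fin n) (Fin n) F) - 1) ^ n = 0 ∧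
      (((u : SpecialLinearGroup (Fin n) F) : Matrix (Fin n) (Fin n) F) - 1).rank = n - 1)
    (by
      intro s
      rw [hs0]
      constructor
      · rintro ⟨h1, h2⟩
        exact isConj_GU_of_type hσ hq hgt' (h := suIncl hs1 hq n s) (reg_isType hcard h1 h2) hg0 ⟨n, h1⟩
      · intro h
        have h1 := isType_GL_conj ((Cfsg.GU n F q).subtype.map_isConj h) hgt'
        have h2 : IsNilpotent ((((suIncl hs1 hq n s : Cfsg.GU n F q) : GL (Fin n) F) : Matrix (Fin n) (Fin n) F) - 1) := by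
          refine ⟨n, ?_⟩
          have h3 := (isType_iff_rank _ _).mp h1 n
          rw [Multiset.map_singleton, Multiset.sum_singleton, min_self, hcard] at h3
          rw [← rank_eq_zero']
          have h4 : ((Cfsg.GU n F q).subtype (suIncl hs1 hq n s) : GL (Fin n) F) = ((suIncl hs1 hq n s : Cfsg.GU n F q) : GL (Fin n) F) := rfl
          rw [h4] at h3
          omega
        exact reg_of_isType hcard h2 h1)
    (powMonoidHom n : NU σ →* NU σ).range
    (by
      intro a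
      rw [hs0]
      constructor
      · rintro ⟨b, rfl⟩
        have hb := b.2
        rw [mem_NU] at hb
        let c : GL (Fin n) F := ⟨Matrix.scalar (Fin n) ((b : Fˣ) : F), Matrix.scalar (Fin n) (((b : Fˣ)⁻¹ : Fˣ) : F),
          by rw [← map_mul, ← Units.val_mul, mul_inv_cancel, Units.val_one, map_one],
          by rw [← map_mul, ← Units.val_mul, inv_mul_cancel, Units.val_one, map_one]⟩
        have hc : c ∈ Cfsg.GU n F q := by
          rw [gu_iff_st hs1 hq]
          show st σ (algebraMap F (Matrix (Fin n) (Fin n) F) ((b : Fˣ) : F)) * algebraMap F _ ((b : Fˣ) : F) = 1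
          rw [st_algebraMap, ← map_mul, mul_comm, hb, map_one]
        refine ⟨⟨c, hc⟩, ?_, ?_⟩
        · apply Subtype.ext
          apply Units.ext
          exact (Matrix.scalar_commute ((b : Fˣ) : F) (fun r => Commute.all _ _) ((g0 : GL (Fin n) F) : Matrix (Fin n) (Fin n) F)).eq
        · apply Subtype.ext
          apply Units.ext
          show (Matrix.scalar (Fin n) ((b : Fˣ) : F)).det = (((b ^ n : NU σ) : Fˣ) : F)
          rw [Matrix.scalar_apply, Matrix.det_diagonal, Finset.prod_const, Finset.card_univ, hcard,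
            Subgroup.coe_pow, Units.val_pow_eq_pow_val]
      · rintro ⟨c, hc, rfl⟩
        have hc' : ((c : GL (Fin n) F) : Matrix (Fin n) (Fin n) F) * ((g0 : GL (Fin n) F) : Matrix (Fin n) (Fin n) F) =
            ((g0 : GL (Fin n) F) : Matrix (Fin n) (Fin n) F) * ((c : GL (Fin n) F) : Matrix (Fin n) (Fin n) F) :=
          congrArg (fun x : Cfsg.GU n F q => ((x : GL (Fin n) F) : Matrix (Fin n) (Fin n) F)) hc
        obtain ⟨f, hf1, hf2⟩ := det_cent_reg (by omega) hcard hg1 hg2 hc'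
        have hnorm := coeff_norm hs1 hq (by omega) g0.2 c.2 hg1 hf1
        have hne : f.coeff 0 ≠ 0 := left_ne_zero_of_mul_eq_one hnorm
        refine ⟨⟨Units.mk0 _ hne, hnorm⟩, ?_⟩
        apply Subtype.ext
        apply Units.ext
        exact hf2.symm)
  rw [key]
  haveI : IsCyclic (NU σ) := inferInstance
  rw [IsCyclic.index_powMonoidHom_range, card_NU hF hσ hq, Nat.gcd_comm]

end DetGU

end Cfsg.Agent.Lib.Herm
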