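import Cfsg.Agent.Lib.InvolB
import Cfsg.Prelude.Def_TwoFusion

/-!
Isolated involutions.
-/

set_option autoImplicit false
set_option linter.unusedSectionVars false

namespace Cfsg.Agent.Lib.IsoInv

open Cfsg Cfsg.Agent.Lib.Invol Cfsg.Agent.Lib.InvolB

universe u

variable {G : Type u} [Group G] [Finite G]

theorem orderOf_conj (g z : G) : orderOf (g * z * g⁻¹) = orderOf z := (MulAut.conj g).orderOf_eq z

/-- the product of an isolated involution and a conjugate has odd order -/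
theorem odd {z : G} (hz : IsIsolatedInvolution z) (g : G) : Odd (orderOf (z * (g * z * g⁻¹))) := by
  by_contra h
  rw [Nat.not_odd_iff_even] at h
  set y := g * z * g⁻¹ with hy
  have hz2 := mul_self hz.1
  have hyo : orderOf y = 2 := by rw [hy, orderOf_conj, hz.1]
  have hy2 := mul_self hyo
  set m := orderOf (z * y) / 2 with hm
  have hw := orderOf_half (x := z) (y := y) h
  have hcl := commute_half_left hz2 hy2 h
  rw [← hm] at hw hcl
  -- the conjugate `z w`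
  have key : ∃ d : G, d * z * d⁻¹ = z * (z * y) ^ m := by
    rcases Nat.even_or_odd m with ⟨k, hk⟩ | hmo
    · refine ⟨(z * y) ^ (-(k : ℤ)), ?_⟩
      rw [zpow_conj hz2 hy2, hk, ← zpow_natCast]
      congr 2; push_cast; ring
    · obtain ⟨k, hk⟩ := exists_conj_mul_eq hz2 hy2 hmo
      refine ⟨(z * y) ^ k * g, ?_⟩
      rw [← hk, ← mul_assoc z z, hz2, one_mul, hy]; group
  obtain ⟨d, hd⟩ := key
  have h1 := hz.2 d (by rw [hd]; exact (Commute.refl z).mul_right hcl.symm)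
  rw [hd, mul_eq_left] at h1
  rw [h1, orderOf_one] at hw
  omega

/-- conjugation inside the dihedral group -/
theorem exists_pow {z : G} (hz : IsIsolatedInvolution z) (g : G) :
    ∃ k : ℤ, (z * (g * z * g⁻¹)) ^ k * z * ((z * (g * z * g⁻¹)) ^ k)⁻¹ = g * z * g⁻¹ :=
  conj_of_odd (mul_self hz.1) (mul_self (by rw [orderOf_conj, hz.1])) (odd hz g)

theorem conj_in {z : G} (hz : IsIsolatedInvolution z) {H : Subgroup G} (hzH : z ∈ H) {g : G} (hg : g * z * g⁻¹ ∈ H) :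
    ∃ h ∈ H, h * z * h⁻¹ = g * z * g⁻¹ := by
  obtain ⟨k, hk⟩ := exists_pow hz g
  exact ⟨_, H.zpow_mem (H.mul_mem hzH hg) k, hk⟩

theorem conj_iso {z : G} (hz : IsIsolatedInvolution z) (g : G) : IsIsolatedInvolution (g * z * g⁻¹) := by
  refine ⟨by rw [orderOf_conj, hz.1], fun h hc => ?_⟩
  have h1 := hz.2 (g⁻¹ * h * g) (by
    have e : g⁻¹ * h * g * z * (g⁻¹ * h * g)⁻¹ = g⁻¹ * (h * (g * z * g⁻¹) * h⁻¹) * g := by group
    rw [e]
    show z * _ = _ * z
    have := hc.eq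
    calc z * (g⁻¹ * (h * (g * z * g⁻¹) * h⁻¹) * g) = g⁻¹ * ((g * z * g⁻¹) * (h * (g * z * g⁻¹) * h⁻¹)) * g := by group
      _ = g⁻¹ * ((h * (g * z * g⁻¹) * h⁻¹) * (g * z * g⁻¹)) * g := by rw [this]
      _ = _ := by group)
  have h2 := congrArg (fun x => g * x * g⁻¹) h1
  have e1 : g * (g⁻¹ * h * g * z * (g⁻¹ * h * g)⁻¹) * g⁻¹ = h * (g * z * g⁻¹) * h⁻¹ := by group
  have h3 : g * (g⁻¹ * h * g * z * (g⁻¹ * h * g)⁻¹) * g⁻¹ = g * z * g⁻¹ := h2
  rw [e1] at h3
  exact h3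

/-- `z` is isolated in the subgroups containing it -/
theorem sub_iso {z : G} (hz : IsIsolatedInvolution z) {H : Subgroup G} (hzH : z ∈ H) :
    IsIsolatedInvolution (⟨z, hzH⟩ : H) := by
  refine ⟨by rw [Subgroup.orderOf_mk, hz.1], fun g hg => Subtype.ext ?_⟩
  exact hz.2 g (congrArg Subtype.val hg)

/-- an odd power with prescribed square -/
theorem sqrt_odd {r : G} (h : Odd (orderOf r)) : ∃ k : ℤ, (r ^ k) * (r ^ k) = r := by
  obtain ⟨m, hm⟩ := h
  refine ⟨m + 1, ?_⟩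
  rw [← zpow_add]
  have : (m : ℤ) + 1 + (m + 1) = (orderOf r : ℤ) + 1 := by rw [hm]; push_cast; ring
  rw [this, zpow_add, zpow_natCast, pow_orderOf_eq_one, one_mul, zpow_one]

theorem odd_zpow {r : G} (h : Odd (orderOf r)) (k : ℤ) : Odd (orderOf (r ^ k)) :=
  h.of_dvd_nat (orderOf_dvd_of_mem_zpowers ⟨k, rfl⟩)

theorem sqrt_unique {a b : G} (ha : Odd (orderOf a)) (hb : Odd (orderOf b)) (h : a * a = b * b) : a = b := by
  have key : ∀ x : G, Odd (orderOf x) → ∀ n : ℕ, Odd n → orderOf x ∣ n → x = (x * x) ^ ((n + 1) / 2) := by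
    intro x _ n hn hd
    obtain ⟨k, rfl⟩ := hn
    have : (2 * k + 1 + 1) / 2 = k + 1 := by omega
    rw [this, ← pow_two, ← pow_mul]
    have e : 2 * (k + 1) = (2 * k + 1) + 1 := by ring
    rw [e, pow_succ, orderOf_dvd_iff_pow_eq_one.1 hd, one_mul]
  have h1 := key a ha _ (ha.mul hb) (dvd_mul_right _ _)
  have h2 := key b hb _ (ha.mul hb) (dvd_mul_left _ _)
  rw [h1, h, ← h2]

/-- elements of odd order inverted by `z` -/
def Inv (z k : G) : Prop := Odd (orderOf k) ∧ z * k * z⁻¹ = k⁻¹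

theorem inv_zpow_of {z r : G} (h : z * r * z⁻¹ = r⁻¹) (k : ℤ) : z * r ^ k * z⁻¹ = (r ^ k)⁻¹ := by
  rw [← conj_zpow, h, inv_zpow]

/-- if `z` inverts `k` then `k z k⁻¹ = k² z` -/
theorem conj_eq_of_inv {z k : G} (hz2 : z * z = 1) (h : z * k * z⁻¹ = k⁻¹) : k * z * k⁻¹ = k * k * z := by
  rw [← h, inv_eq hz2]
  calc k * z * (z * k * z) = k * (z * z) * k * z := by group
    _ = _ := by rw [hz2, mul_one]

theorem exists_k {z : G} (hz : IsIsolatedInvolution z) (g : G) : ∃ k : G, Inv z k ∧ k * z * k⁻¹ = g * z * g⁻¹ := by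
  set y := g * z * g⁻¹ with hy
  have hz2 := mul_self hz.1
  have hyo : orderOf y = 2 := by rw [hy, orderOf_conj, hz.1]
  have hy2 := mul_self hyo
  have hodd : Odd (orderOf (y * z)) := by
    have := odd hz g
    rw [← hy] at this
    have e : y * z = (z * y)⁻¹ := by rw [mul_inv_rev, inv_eq hz2, inv_eq hy2]
    rw [e, orderOf_inv]; exact this
  obtain ⟨k, hk⟩ := sqrt_odd hodd
  have hinv : z * (y * z) * z⁻¹ = (y * z)⁻¹ := by
    rw [mul_inv_rev, inv_eq hz2, inv_eq hy2]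
    calc z * (y * z) * z = z * y * (z * z) := by group
      _ = z * y := by rw [hz2, mul_one]
  have h1 := inv_zpow_of hinv k
  refine ⟨(y * z) ^ k, ⟨odd_zpow hodd k, h1⟩, ?_⟩
  rw [conj_eq_of_inv hz2 h1, hk, mul_assoc, hz2, mul_one]

theorem k_unique {z : G} (hz2 : z * z = 1) {k k' : G} (hk : Inv z k) (hk' : Inv z k')
    (h : k * z * k⁻¹ = k' * z * k'⁻¹) : k = k' := by
  rw [conj_eq_of_inv hz2 hk.2, conj_eq_of_inv hz2 hk'.2] at h
  exact sqrt_unique hk.1 hk'.1 (mul_right_cancel h)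

theorem mem_centralizer_iff_conj {z g k : G} : g⁻¹ * k ∈ Subgroup.centralizer ({z} : Set G) ↔ k * z * k⁻¹ = g * z * g⁻¹ := by
  rw [Subgroup.mem_centralizer_singleton_iff]
  constructor
  · intro h
    calc k * z * k⁻¹ = g * (g⁻¹ * k * z) * k⁻¹ := by group
      _ = g * (z * (g⁻¹ * k)) * k⁻¹ := by rw [h]
      _ = _ := by group
  · intro h
    calc g⁻¹ * k * z = g⁻¹ * (k * z * k⁻¹) * k := by group
      _ = g⁻¹ * (g * z * g⁻¹) * k := by rw [h]
      _ = _ := by group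

/-- conjugation in `G` of elements of `C(z)` is realized in `C(z)` -/
theorem centralizer_control {z : G} (hz : IsIsolatedInvolution z) {x y h : G} (hxz : Commute x z) (hyz : Commute y z)
    (hconj : h * x * h⁻¹ = y) : ∃ c : G, Commute c z ∧ c * x * c⁻¹ = y := by
  have h1 : Commute x (h⁻¹ * z * h⁻¹⁻¹) := by
    have h2 : y * z = z * y := hyz.eq
    rw [← hconj] at h2
    show x * (h⁻¹ * z * h⁻¹⁻¹) = h⁻¹ * z * h⁻¹⁻¹ * x
    calc x * (h⁻¹ * z * h⁻¹⁻¹) = h⁻¹ * (h * x * h⁻¹ * z) * h := by group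
      _ = h⁻¹ * (z * (h * x * h⁻¹)) * h := by rw [h2]
      _ = _ := by group
  obtain ⟨k, hk⟩ := exists_pow hz h⁻¹
  set r := z * (h⁻¹ * z * h⁻¹⁻¹) with hr
  have hxr : Commute x (r ^ k) := (hxz.mul_right h1).zpow_right k
  refine ⟨h * r ^ k, ?_, ?_⟩
  · show h * r ^ k * z = z * (h * r ^ k)
    calc h * r ^ k * z = h * (r ^ k * z * (r ^ k)⁻¹) * r ^ k := by group
      _ = h * (h⁻¹ * z * h⁻¹⁻¹) * r ^ k := by rw [hk]
      _ = _ := by group
  · rw [← hconj]
    calc h * r ^ k * x * (h * r ^ k)⁻¹ = h * (r ^ k * x) * (r ^ k)⁻¹ * h⁻¹ := by group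
      _ = h * (x * r ^ k) * (r ^ k)⁻¹ * h⁻¹ := by rw [hxr.eq]
      _ = _ := by group

/-- a `2`-subgroup containing the isolated involution centralizes it -/
theorem commute_of_two_group {z : G} (hz : IsIsolatedInvolution z) {S : Subgroup G} (hS : IsPGroup 2 S) (hzS : z ∈ S)
    {s : G} (hs : s ∈ S) : Commute s z := by
  have h1 : z * (s * z * s⁻¹) ∈ S := S.mul_mem hzS (S.mul_mem (S.mul_mem hs hzS) (S.inv_mem hs))
  obtain ⟨k, hk⟩ := IsPGroup.iff_orderOf.1 hS ⟨_, h1⟩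
  rw [Subgroup.orderOf_mk] at hk
  have h2 := odd hz s
  rw [hk] at h2
  have h3 : k = 0 := by
    by_contra hk0
    rw [Nat.odd_pow_iff hk0] at h2
    exact absurd h2 (by decide)
  rw [h3, pow_zero, orderOf_eq_one_iff, mul_eq_one_iff_eq_inv] at hk
  have h4 : s * z * s⁻¹ = z := by
    rw [← inv_inv (s * z * s⁻¹), ← hk, inv_eq (mul_self hz.1)]
  exact mul_inv_eq_iff_eq_mul.1 h4

theorem exists_sylow {z : G} (hz : IsIsolatedInvolution z) : ∃ S : Sylow 2 G, z ∈ (S : Subgroup G) ∧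
    (S : Subgroup G) ≤ Subgroup.centralizer ({z} : Set G) := by
  obtain ⟨S, hS⟩ := (IsPGroup.of_card (n := 1) (p := 2) (G := Subgroup.zpowers z) (by rw [Nat.card_zpowers, hz.1, pow_one])).exists_le_sylow
  have hzS : z ∈ (S : Subgroup G) := hS (Subgroup.mem_zpowers z)
  exact ⟨S, hzS, fun s hs => Subgroup.mem_centralizer_singleton_iff.2 (commute_of_two_group hz S.2 hzS hs).eq⟩

end Cfsg.Agent.Lib.IsoInv
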