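import Cfsg.Agent.Lib.FusHypB
import Cfsg.Agent.Lib.FusNKB
import Cfsg.Agent.Lib.FusNormalB
import Cfsg.Agent.Lib.FusInner

/-!
Labelled fusion systems: the maps of a saturated fusion system with labels in `S / K`, `K` normal in `S` and
containing the hyperfocal subgroup.
-/

set_option autoImplicit false
set_option linter.unusedSectionVars false
set_option linter.style.haveILetI false
set_option linter.unusedVariables false

namespace Cfsg.Agent.Lib.LabA

open Cfsg Cfsg.FusionSystem Cfsg.Agent.Lib.FusBase Cfsg.Agent.Lib.FusSat Cfsg.Agent.Lib.StrongEmb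
open Cfsg.Agent.Lib.FusAlperin Cfsg.Agent.Lib.FusNormal Cfsg.Agent.Lib.FusNormalB Cfsg.Agent.Lib.SylRel
open Cfsg.Agent.Lib.FusSub Cfsg.Agent.Lib.FusPuig Cfsg.Agent.Lib.FusNK Cfsg.Agent.Lib.FusNKB Cfsg.Agent.Lib.FusMor Cfsg.Agent.Lib.FusGroup
open Cfsg.Agent.Lib.FusHyp Cfsg.Agent.Lib.FusHypB

universe u

/-! ### group theory -/

theorem exists_exp {N d p : ℕ} [hp : Fact p.Prime] (hN : N ≠ 0) (hd : Nat.Coprime d p) :
    ∃ j, j ≡ 1 [MOD d] ∧ ∃ m, Nat.Coprime m p ∧ N ∣ j * m := by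
  obtain ⟨e, m, hm, h⟩ := Nat.exists_eq_pow_mul_and_not_dvd hN p hp.1.ne_one
  have hco : Nat.Coprime (p ^ e) d := (hd.symm).pow_left e
  obtain ⟨j, h1, h2⟩ := Nat.chineseRemainder hco 0 1
  refine ⟨j, h2, m, ((Nat.Prime.coprime_iff_not_dvd hp.1).2 hm).symm, ?_⟩
  rw [h]
  exact Nat.mul_dvd_mul ((Nat.modEq_zero_iff_dvd).1 h1) dvd_rfl

/-- the hyperfocal subgroup theorem in element form -/
theorem hyp_elt {G : Type u} [Group G] [Finite G] {p : ℕ} [Fact p.Prime] (R : Sylow p G) (M : Subgroup G)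
    (hM : ∀ V : Subgroup G, V ≤ R → ∀ n ∈ Subgroup.normalizer (V : Set G), Nat.Coprime (orderOf n) p →
      ∀ v ∈ V, v⁻¹ * (n * v * n⁻¹) ∈ M) : (R : Subgroup G) ⊓ pResidual p G ≤ M := by
  rw [← hyp_grp R]
  conv_lhs => unfold FusionSystem.hyperfocalSubgroup
  rw [Subgroup.closure_le]
  rintro _ ⟨P, β, x, hP, hβ, rfl⟩
  set N : Subgroup G := Subgroup.normalizer (P : Set G) with hN
  let φ : N →* (groupFusionSystem (R : Subgroup G)).autGroup P :=
    MonoidHom.mk' (fun n => ⟨cj P (n : G) n.2, by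
      rw [autGroup_grp hP]; exact cj_mem _ (Subgroup.mem_top _)⟩) (by
      intro a b
      apply Subtype.ext
      ext y
      show (((a * b : N) : G)) * (y : G) * (((a * b : N) : G))⁻¹ = (a : G) * ((b : G) * y * (b : G)⁻¹) * (a : G)⁻¹
      simp only [Subgroup.coe_mul]
      group)
  have hφ : Function.Surjective φ := by
    rintro ⟨α, hα⟩
    rw [autGroup_grp hP] at hα
    obtain ⟨g, hg, h⟩ := mem_autInducedBy.1 hα
    have hgN : g ∈ Subgroup.normalizer (P : Set G) := by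
      refine mem_normalizer_of_conj_mem fun y hy => ?_
      rw [← h ⟨y, hy⟩]; exact Subtype.mem _
    refine ⟨⟨g, hgN⟩, ?_⟩
    apply Subtype.ext
    ext y
    exact (h y).symm
  rw [← Cfsg.Agent.Lib.PRes.map_eq φ hφ] at hβ
  obtain ⟨n, hn, rfl⟩ := hβ
  have key : ∀ n : N, n ∈ Subgroup.closure {g : N | Nat.Coprime (orderOf g) p} →
      ∀ v ∈ P, v⁻¹ * ((n : G) * v * (n : G)⁻¹) ∈ M := by
    intro n hn
    induction hn using Subgroup.closure_induction with
    | mem y hy =>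
      intro v hv
      refine hM P hP y y.2 ?_ v hv
      rw [Subgroup.orderOf_coe]
      exact hy
    | one => intro v hv; simp
    | mul a b _ _ iha ihb =>
      intro v hv
      have h1 := ihb v hv
      have hv' : (b : G) * v * (b : G)⁻¹ ∈ P := (Subgroup.mem_normalizer_iff.1 b.2 v).1 hv
      have h2 := iha _ hv'
      have h3 := M.mul_mem h1 h2
      convert h3 using 1
      simp only [Subgroup.coe_mul]
      group
    | inv a _ iha =>
      intro v hv
      have hv' : (a : G)⁻¹ * v * ((a : G)⁻¹)⁻¹ ∈ P := (Subgroup.mem_normalizer_iff.1 (N.inv_mem a.2) v).1 hv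
      have h2 := M.inv_mem (iha _ hv')
      convert h2 using 1
      simp only [Subgroup.coe_inv]
      group
  exact key n hn x x.2

variable {Ω : Type u} [Group Ω] {S : Subgroup Ω} [Finite S] {F : FusionSystem S} {p : ℕ} [Fact p.Prime]
variable {P Q R K : Subgroup Ω} {f g h : Ω → Ω} {s t k : Ω}

/-! ### conjugation as an element of the automorphism group -/

noncomputable def cF (F : FusionSystem S) (P : Subgroup Ω) (hP : P ≤ S) : ↥(normalizerIn S P) →* F.autGroup P :=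
  MonoidHom.mk' (fun x => ⟨cj P (x : Ω) (mem_normalizerIn.1 x.2).2,
    autInducedBy_le hP (cj_mem (mem_normalizerIn.1 x.2).2 (mem_normalizerIn.1 x.2).1)⟩) (by
      intro a b
      apply Subtype.ext
      ext y
      show ((a * b : ↥(normalizerIn S P)) : Ω) * (y : Ω) * ((a * b : ↥(normalizerIn S P)) : Ω)⁻¹ =
        (a : Ω) * ((b : Ω) * y * (b : Ω)⁻¹) * (a : Ω)⁻¹
      simp only [Subgroup.coe_mul]
      group)

theorem fn_cF (hP : P ≤ S) (x : ↥(normalizerIn S P)) {y : Ω} (hy : y ∈ P) :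
    fn ((cF F P hP x : F.autGroup P) : MulAut P) y = (x : Ω) * y * (x : Ω)⁻¹ := by
  rw [fn_mem _ hy]; rfl

theorem cF_range (hP : P ≤ S) : (cF F P hP).range = (autInducedBy S P).subgroupOf (F.autGroup P) := by
  ext α
  rw [Subgroup.mem_subgroupOf]
  constructor
  · rintro ⟨x, rfl⟩
    exact cj_mem (mem_normalizerIn.1 x.2).2 (mem_normalizerIn.1 x.2).1
  · intro hα
    obtain ⟨g, hg, hgx⟩ := mem_autInducedBy.1 hα
    have hgN := mem_normalizer_of_forall_conj hgx
    refine ⟨⟨g, mem_normalizerIn.2 ⟨hg, hgN⟩⟩, ?_⟩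
    apply Subtype.ext
    ext y
    exact (hgx y).symm

theorem fn_pow_iter (α : MulAut R) (n : ℕ) {x : Ω} (hx : x ∈ R) : fn (α ^ n) x = (fn α)^[n] x := by
  induction n generalizing x with
  | zero => rw [pow_zero, fn_one hx]; rfl
  | succ n ih =>
    rw [pow_succ, fn_mul _ _ hx, ih (fn_mem' _ hx), Function.iterate_succ_apply]

/-- the intersection of `Aut_S(P)` with `O^p(Aut_F(P))` comes from the hyperfocal subgroup -/
theorem hf_aut (hS : IsPGroup p S) (hF : F.IsSaturated p) (hP : F.IsFullyNormalized P)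
    (hK : F.hyperfocalSubgroup p ≤ K) (x : ↥(normalizerIn S P))
    (hx : cF F P hP.1 x ∈ pResidual p (F.autGroup P)) :
    ∃ k ∈ K, k ∈ S ∧ ∃ c ∈ centralizerIn S P, (x : Ω) = k * c := by
  have : Finite P := finite_of_le hP.1
  have hrec := FN_receptive hS hF hP
  obtain ⟨_, T, hT⟩ := FN_FA hS hF hP
  rw [← cF_range hP.1] at hT
  set c := cF F P hP.1 with hc
  set M : Subgroup (F.autGroup P) := ((F.hyperfocalSubgroup p).subgroupOf (normalizerIn S P)).map c with hM
  have hxM : c x ∈ M := by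
    refine hyp_elt T M ?_ ⟨by rw [SetLike.mem_coe, hT]; exact ⟨x, rfl⟩, hx⟩
    intro V hV a haV hao v hv
    -- the preimage
    set I : Subgroup (F.autGroup P) := (Inn P).subgroupOf (F.autGroup P) with hI
    have hIn : I.Normal := innF_normal F P
    set W₀ : Subgroup ↥(normalizerIn S P) := (V ⊔ I).comap c with hW₀
    set W : Subgroup Ω := W₀.map (normalizerIn S P).subtype with hW
    have hWN : W ≤ normalizerIn S P := by
      rintro _ ⟨w, _, rfl⟩; exact w.2
    have hWS : W ≤ S := hWN.trans normalizerIn_le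
    have haVI : ∀ w ∈ V ⊔ I, a * w * a⁻¹ ∈ V ⊔ I := by
      have h1 : a ∈ Subgroup.normalizer ((V ⊔ I : Subgroup (F.autGroup P)) : Set (F.autGroup P)) := by
        refine normalizer_inf_le_normalizer_sup V I ⟨haV, ?_⟩
        rw [Subgroup.normalizer_eq_top_iff.2 hIn]; trivial
      intro w hw
      exact (Subgroup.mem_normalizer_iff.1 h1 w).1 hw
    have hVI : V ⊔ I ≤ c.range := by
      refine sup_le (hV.trans hT.le) ?_
      rw [hc, cF_range hP.1]
      intro α hα
      exact Subgroup.mem_subgroupOf.2 (inn_le_autInducedBy hP.1 (Subgroup.mem_subgroupOf.1 hα))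
    have hPW : P ≤ W := by
      intro y hy
      have hyN : y ∈ normalizerIn S P := le_normalizerIn hP.1 hy
      refine ⟨⟨y, hyN⟩, ?_, rfl⟩
      show c ⟨y, hyN⟩ ∈ V ⊔ I
      refine Subgroup.mem_sup_right ?_
      rw [hI, Subgroup.mem_subgroupOf]
      exact mem_inn.2 ⟨y, hy, fun z => rfl⟩
    -- the map of `a`
    have hfa : Iso F P P (fn (a : MulAut P)) := iso_fn hP.1 a.2
    obtain ⟨G₀, hG₀, hG₀a⟩ := (receptive_iff.1 hrec).2 P _ hfa
    have hWx : ∀ (w : ↥(normalizerIn S P)), c w ∈ V ⊔ I → (w : Ω) ∈ Nx S P (fn (a : MulAut P)) := by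
      intro w hw
      obtain ⟨z, hz⟩ := hVI (haVI _ hw)
      refine mem_Nx.2 ⟨(mem_normalizerIn.1 w.2).1, (mem_normalizerIn.1 w.2).2, z, (mem_normalizerIn.1 z.2).1, fun y hy => ?_⟩
      have h1 : c w = a⁻¹ * c z * a := by rw [hz]; group
      have h2 : c z * a = a * c w := by rw [hz]; group
      have h3 := fn_cF (F := F) hP.1 w hy
      rw [← hc] at h3
      rw [← h3, ← fn_mul _ _ hy]
      have h4 := fn_cF (F := F) hP.1 z (fn_mem' (a : MulAut P) hy)
      rw [← hc] at h4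
      rw [← h4, ← fn_mul _ _ hy]
      have h5 : ((a : MulAut P) * ((c w : F.autGroup P) : MulAut P)) = (((c z : F.autGroup P) : MulAut P) * (a : MulAut P)) := by
        have := congrArg Subtype.val h2
        exact this.symm
      rw [h5]
    have hWNx : W ≤ Nx S P (fn (a : MulAut P)) := by
      rintro _ ⟨w, hw, rfl⟩; exact hWx w hw
    -- images
    have hact : ∀ (θ : Ω → Ω), Mor F W θ → (∀ y ∈ P, θ y = fn (a : MulAut P) y) → ∀ (w : ↥(normalizerIn S P)), c w ∈ V ⊔ I →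
        ∃ z : ↥(normalizerIn S P), (z : Ω) = θ w ∧ c z = a * c w * a⁻¹ := by
      intro θ hθ hθa w hw
      have hwW : (w : Ω) ∈ W := ⟨w, hw, rfl⟩
      have hconj : ∀ y ∈ P, θ w * fn (a : MulAut P) y * (θ w)⁻¹ = fn (a : MulAut P) ((w : Ω) * y * (w : Ω)⁻¹) := by
        intro y hy
        rw [← hθa y hy, ← hθ.conj hwW (hPW hy), hθa]
        exact normalizerIn_conj_mem w.2 hy
      have hzN : θ w ∈ Subgroup.normalizer (P : Set Ω) := by
        refine mem_normalizer_of_conj_mem fun y hy => ?_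
        obtain ⟨y', hy', rfl⟩ := hfa.mem_right.1 hy
        rw [hconj y' hy']
        exact fn_mem' _ (normalizerIn_conj_mem w.2 hy')
      refine ⟨⟨θ w, mem_normalizerIn.2 ⟨hθ.mem hwW, hzN⟩⟩, rfl, ?_⟩
      rw [eq_mul_inv_iff_mul_eq]
      apply Subtype.ext
      refine fn_ext fun y hy => ?_
      show fn (((c ⟨θ w, _⟩ : F.autGroup P) : MulAut P) * (a : MulAut P)) y = fn ((a : MulAut P) * ((c w : F.autGroup P) : MulAut P)) y
      rw [fn_mul _ _ hy, fn_mul _ _ hy, hc, fn_cF hP.1 _ (fn_mem' _ hy), fn_cF hP.1 _ hy]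
      exact hconj y hy
    have hG₀W : Mor F W G₀ := hG₀.restrict hWNx
    have hfinW : Finite W := finite_of_le hWS
    have hWW : Iso F W W G₀ := by
      refine hG₀W.iso_of_map ?_
      rintro _ ⟨w, hw, rfl⟩
      obtain ⟨z, hz, hcz⟩ := hact G₀ hG₀W hG₀a w hw
      refine ⟨z, ?_, hz⟩
      show c z ∈ V ⊔ I
      rw [hcz]; exact haVI _ hw
    set γ₀ : F.autGroup W := ⟨autOf hWW, autOf_mem hWW⟩ with hγ₀
    have hγ₀P : ∀ y ∈ P, fn (γ₀ : MulAut W) y = fn (a : MulAut P) y := by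
      intro y hy
      rw [fn_mem _ (hPW hy)]
      exact hG₀a y hy
    obtain ⟨j, hj1, m, hm, hjm⟩ := exists_exp (N := orderOf γ₀) (d := orderOf a) (p := p) (orderOf_pos γ₀).ne' hao
    have hγo : Nat.Coprime (orderOf (γ₀ ^ j)) p := by
      refine Nat.Coprime.coprime_dvd_left ?_ hm
      rw [orderOf_dvd_iff_pow_eq_one, ← pow_mul]
      exact orderOf_dvd_iff_pow_eq_one.1 hjm
    have hγP : ∀ y ∈ P, fn ((γ₀ ^ j : F.autGroup W) : MulAut W) y = fn (a : MulAut P) y := by
      intro y hy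
      have h1 : ∀ n : ℕ, ∀ y ∈ P, fn ((γ₀ ^ n : F.autGroup W) : MulAut W) y = fn ((a ^ n : F.autGroup P) : MulAut P) y := by
        intro n
        induction n with
        | zero => intro y hy; rw [pow_zero, pow_zero]; exact (fn_one (hPW hy)).trans (fn_one hy).symm
        | succ n ih =>
          intro y hy
          rw [pow_succ, pow_succ, Subgroup.coe_mul, Subgroup.coe_mul, fn_mul _ _ (hPW hy), fn_mul _ _ hy, hγ₀P y hy,
            ih _ (fn_mem' _ hy)]
      rw [h1 j y hy]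
      have h2 : a ^ j = a := by
        conv_rhs => rw [← pow_one a]
        exact pow_eq_pow_iff_modEq.2 hj1
      rw [h2]
    obtain ⟨w, hw⟩ := hVI (Subgroup.mem_sup_left hv)
    have hwVI : c w ∈ V ⊔ I := by rw [hw]; exact Subgroup.mem_sup_left hv
    have hwW : (w : Ω) ∈ W := ⟨w, hwVI, rfl⟩
    have hγM : Mor F W (fn ((γ₀ ^ j : F.autGroup W) : MulAut W)) := (iso_fn hWS (γ₀ ^ j : F.autGroup W).2).mor
    obtain ⟨z, hz, hcz⟩ := hact _ hγM hγP w hwVI
    have h1 := mem_hyp (p := p) hWS (Cfsg.Agent.Lib.PRes.mem_of_coprime hγo) hwW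
    rw [← hz] at h1
    refine ⟨w⁻¹ * z, Subgroup.mem_subgroupOf.2 h1, ?_⟩
    rw [map_mul, map_inv, hcz, hw]
  obtain ⟨y, hy, hyx⟩ := hxM
  refine ⟨y, hK (Subgroup.mem_subgroupOf.1 hy), (mem_normalizerIn.1 y.2).1, (y : Ω)⁻¹ * x, ?_, by group⟩
  rw [mem_centralizerIn]
  refine ⟨S.mul_mem (S.inv_mem (mem_normalizerIn.1 y.2).1) (mem_normalizerIn.1 x.2).1, fun z hz => ?_⟩
  have h1 : (x : Ω) * z * (x : Ω)⁻¹ = (y : Ω) * z * (y : Ω)⁻¹ := by
    rw [← fn_cF (F := F) hP.1 x hz, ← fn_cF (F := F) hP.1 y hz, ← hc, hyx]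
  have h2 : (y : Ω)⁻¹ * x * z = (y : Ω)⁻¹ * ((x : Ω) * z * (x : Ω)⁻¹) * x := by group
  rw [h2, h1]; group

end Cfsg.Agent.Lib.LabA
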