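import Cfsg.Agent.Lib.LabA

/-!
Labelled fusion systems, continued: the label of an automorphism of a fully normalized subgroup.
-/

set_option autoImplicit false
set_option linter.unusedSectionVars false
set_option linter.style.haveILetI false
set_option linter.unusedVariables false

namespace Cfsg.Agent.Lib.LabB

open Cfsg Cfsg.FusionSystem Cfsg.Agent.Lib.FusBase Cfsg.Agent.Lib.FusSat Cfsg.Agent.Lib.StrongEmb
open Cfsg.Agent.Lib.FusAlperin Cfsg.Agent.Lib.FusNormal Cfsg.Agent.Lib.FusNormalB Cfsg.Agent.Lib.SylRel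
open Cfsg.Agent.Lib.FusSub Cfsg.Agent.Lib.FusPuig Cfsg.Agent.Lib.FusNK Cfsg.Agent.Lib.FusNKB Cfsg.Agent.Lib.FusMor Cfsg.Agent.Lib.FusGroup
open Cfsg.Agent.Lib.FusHyp Cfsg.Agent.Lib.FusHypB Cfsg.Agent.Lib.LabA

universe u

variable {Ω : Type u} [Group Ω] {S : Subgroup Ω} {F : FusionSystem S} {p : ℕ}
variable {P Q R K : Subgroup Ω} {f g h : Ω → Ω} {s t k : Ω}

/-- the maps of `F` with labels in `S`, meaningful modulo `K` -/
inductive Lab (F : FusionSystem S) (p : ℕ) (K : Subgroup Ω) : Subgroup Ω → (Ω → Ω) → Ω → Prop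
  | conj {P : Subgroup Ω} {s : Ω} : P ≤ S → s ∈ S → Lab F p K P (fun x => s * x * s⁻¹) s
  | res {P : Subgroup Ω} (hP : P ≤ S) (β : F.autGroup P) (hβ : β ∈ pResidual p (F.autGroup P)) :
      Lab F p K P (fn (β : MulAut P)) 1
  | lab {P : Subgroup Ω} {f : Ω → Ω} {s k : Ω} : Lab F p K P f s → k ∈ K → Lab F p K P f (s * k)
  | comp {P Q : Subgroup Ω} {f g : Ω → Ω} {s t : Ω} : Lab F p K P f s → Lab F p K Q g t → (∀ x ∈ P, f x ∈ Q) →
      Lab F p K P (fun x => g (f x)) (t * s)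
  | restrict {P Q : Subgroup Ω} {f : Ω → Ω} {s : Ω} : Lab F p K P f s → Q ≤ P → Lab F p K Q f s
  | congr {P : Subgroup Ω} {f g : Ω → Ω} {s : Ω} : Lab F p K P f s → (∀ x ∈ P, f x = g x) → Lab F p K P g s

/-- the standing assumptions on `K` -/
structure KS (F : FusionSystem S) (p : ℕ) (K : Subgroup Ω) : Prop where
  hyp : F.hyperfocalSubgroup p ≤ K
  le : K ≤ S
  norm : ∀ s ∈ S, ∀ k ∈ K, s * k * s⁻¹ ∈ K

theorem KS.norm' (h : KS F p K) {s k : Ω} (hs : s ∈ S) (hk : k ∈ K) : s⁻¹ * k * s ∈ K := by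
  have := h.norm s⁻¹ (S.inv_mem hs) k hk
  rwa [inv_inv] at this

namespace Lab

theorem mor (h : Lab F p K P f s) : Mor F P f := by
  induction h with
  | conj hP hs => exact mor_conj F hP hs
  | res hP β hβ => exact (iso_fn hP β.2).mor
  | lab _ _ ih => exact ih
  | comp _ _ h3 ih1 ih2 => exact ih1.comp ih2 h3
  | restrict _ h2 ih => exact ih.restrict h2
  | congr _ h2 ih => exact ih.congr h2

theorem mem (hK : K ≤ S) (h : Lab F p K P f s) : s ∈ S := by
  induction h with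
  | conj hP hs => exact hs
  | res hP β hβ => exact S.one_mem
  | lab _ hk ih => exact S.mul_mem ih (hK hk)
  | comp _ _ h3 ih1 ih2 => exact S.mul_mem ih2 ih1
  | restrict _ h2 ih => exact ih
  | congr _ h2 ih => exact ih

theorem le (h : Lab F p K P f s) : P ≤ S := h.mor.le

theorem one (hP : P ≤ S) : Lab F p K P (fun x => x) 1 := by
  have := Lab.conj (F := F) (p := p) (K := K) hP S.one_mem
  exact this.congr fun x hx => by simp

/-- change of the label by an element of `K` -/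
theorem lab' (hK : KS F p K) (h : Lab F p K P f s) {t : Ω} (ht : s⁻¹ * t ∈ K) : Lab F p K P f t := by
  have := h.lab ht
  rwa [mul_inv_cancel_left] at this

theorem labl (hK : KS F p K) (h : Lab F p K P f s) {t : Ω} (ht : t * s⁻¹ ∈ K) : Lab F p K P f t := by
  refine h.lab' hK ?_
  have := hK.norm' (h.mem hK.le) ht
  convert this using 1
  group

theorem spec (hK : KS F p K) (h : Lab F p K P f s) : ∀ x ∈ P, f x * (s * x * s⁻¹)⁻¹ ∈ K := by
  induction h with
  | conj hP hs => intro x hx; simp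
  | @res P hP β hβ =>
    intro x hx
    have h1 := hK.hyp (mem_hyp hP hβ hx)
    have h2 := hK.norm x (hP hx) _ h1
    convert h2 using 1
    group
  | @lab P f s k h hk ih =>
    intro x hx
    have h1 := ih x hx
    have hs := h.mem hK.le
    have hx' := h.le hx
    have h2 := hK.norm (s * x) (S.mul_mem hs hx') _ hk
    have h3 := hK.norm s hs _ (K.inv_mem hk)
    have h4 := K.mul_mem h1 (K.mul_mem h2 (hK.norm _ (S.mul_mem (S.mul_mem hs hx') (S.inv_mem hs)) _ (K.one_mem)))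
    have h5 : s * x * s⁻¹ * (s * k⁻¹ * s⁻¹) * (s * x * s⁻¹)⁻¹ ∈ K :=
      hK.norm _ (S.mul_mem (S.mul_mem hs hx') (S.inv_mem hs)) _ h3
    have h6 : s * k * s⁻¹ ∈ K := hK.norm s hs _ hk
    have h7 := K.mul_mem h1 (K.mul_mem h6 h5)
    -- f x * (s k x k⁻¹ s⁻¹)⁻¹ = f x * (s x s⁻¹)⁻¹ * (s x k x⁻¹ s⁻¹) * (s k⁻¹ s⁻¹)
    have h8 := K.mul_mem (K.mul_mem h1 h2) h3
    convert h8 using 1
    group
  | @comp P Q f g s t hf hg hfg ih1 ih2 =>
    intro x hx
    have h1 := ih1 x hx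
    have h2 := ih2 _ (hfg x hx)
    have h3 := hK.norm t (hg.mem hK.le) _ h1
    have h4 := K.mul_mem h2 h3
    convert h4 using 1
    group
  | restrict _ h2 ih => exact fun x hx => ih x (h2 hx)
  | congr _ h2 ih => intro x hx; rw [← h2 x hx]; exact ih x hx

theorem inv (hK : KS F p K) (h : Lab F p K P f s) : ∃ g, Lab F p K (img P f) g s⁻¹ ∧ ∀ x ∈ P, g (f x) = x := by
  induction h with
  | @conj P s hP hs =>
    refine ⟨_, Lab.conj (mor_conj F hP hs).img_le (S.inv_mem hs), fun x hx => ?_⟩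
    group
  | @res P hP β hβ =>
    have h1 : img P (fn (β : MulAut P)) = P := (iso_fn hP β.2).img_eq
    rw [h1, inv_one]
    exact ⟨_, Lab.res hP β⁻¹ ((pResidual p (F.autGroup P)).inv_mem hβ), fun x hx => fn_inv_fn _ hx⟩
  | @lab P f s k h hk ih =>
    obtain ⟨g, hg, h1⟩ := ih
    refine ⟨g, hg.lab' hK ?_, h1⟩
    rw [inv_inv, mul_inv_rev, ← mul_assoc]
    exact hK.norm s (h.mem hK.le) _ (K.inv_mem hk)
  | @comp P Q f g s t hf hg hfg ih1 ih2 =>
    obtain ⟨f', hf', h1⟩ := ih1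
    obtain ⟨g', hg', h2⟩ := ih2
    have h3 : img P (fun x => g (f x)) = img (img P f) g := (img_img f g hf.mor).symm
    have h4 : img P f ≤ Q := img_le_iff.2 hfg
    refine ⟨fun x => f' (g' x), ?_, fun x hx => ?_⟩
    · rw [h3, mul_inv_rev]
      refine Lab.comp (Q := img P f) (hg'.restrict (img_mono h4)) hf' ?_
      rw [← h3]
      intro y hy
      obtain ⟨x, hx, rfl⟩ := (hf.mor.comp hg.mor hfg).mem_img.1 hy
      show g' (g (f x)) ∈ img P f
      rw [h2 _ (hfg x hx)]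
      exact mem_img_of_mem hx
    · show f' (g' (g (f x))) = x
      rw [h2 _ (hfg x hx), h1 x hx]
  | @restrict P Q f s h hQ ih =>
    obtain ⟨g, hg, h1⟩ := ih
    exact ⟨g, hg.restrict (img_mono hQ), fun x hx => h1 x (hQ hx)⟩
  | @congr P f g s h hfg ih =>
    obtain ⟨g', hg', h1⟩ := ih
    refine ⟨g', ?_, fun x hx => ?_⟩
    · rw [← img_congr hfg]; exact hg'
    · rw [← hfg x hx]; exact h1 x hx

/-- inverse, against a given inverse function -/
theorem inv' (hK : KS F p K) (h : Lab F p K P f s) (hg : ∀ x ∈ P, g (f x) = x) : Lab F p K (img P f) g s⁻¹ := by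
  obtain ⟨g', hg', h1⟩ := h.inv hK
  refine hg'.congr fun y hy => ?_
  obtain ⟨x, hx, rfl⟩ := h.mor.mem_img.1 hy
  rw [h1 x hx, hg x hx]

end Lab

section Sat

variable [Finite S] [Fact p.Prime]

theorem Lab.exists_lab (hS : IsPGroup p S) (hF : F.IsSaturated p) (hK : KS F p K) :
    ∀ P f, Mor F P f → ∃ s, Lab F p K P f s := by
  refine alperin hS hF (fun P f => ∃ s, Lab F p K P f s) ?_ ?_ ?_ ?_ ?_
  · rintro P f g ⟨s, hs⟩ h
    exact ⟨s, hs.congr h⟩
  · rintro P Q f g hf hg h ⟨s, hs⟩ ⟨t, ht⟩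
    exact ⟨_, hs.comp ht h⟩
  · rintro P Q f g hf hg h1 h2 ⟨s, hs⟩
    refine ⟨s⁻¹, ?_⟩
    have := hs.inv' hK h1
    rwa [hf.img_eq] at this
  · rintro P Q f hQ hf ⟨s, hs⟩
    exact ⟨s, hs.restrict hQ⟩
  · intro P hP f hf
    have hFN : F.IsFullyNormalized P := by
      rcases hP with rfl | h
      · exact S_FN F
      · exact h.2.1
    obtain ⟨β, hβ, s, hs, h1⟩ := FA_decomp hS (FN_FA hS hF hFN) (autOf_mem hf)
    refine ⟨1 * s, ?_⟩
    refine (Lab.comp (Lab.conj hFN.1 hs) (Lab.res hFN.1 β hβ) fun x hx => (h1 x hx).1).congr fun x hx => ?_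
    show fn (β : MulAut P) (s * x * s⁻¹) = f x
    rw [← (h1 x hx).2, fn_mem _ hx]; rfl

/-! ### the good labelled automorphisms -/

/-- the group of pairs `(β c_x, x k)`, `β ∈ O^p(Aut_F(P))`, `x ∈ N_S(P)`, `k ∈ K` -/
def BB (F : FusionSystem S) (p : ℕ) (K P : Subgroup Ω) (hP : P ≤ S) (f : Ω → Ω) (s : Ω) : Prop :=
  ∃ β : F.autGroup P, β ∈ pResidual p (F.autGroup P) ∧ ∃ x : ↥(normalizerIn S P), ∃ k ∈ K, s = x * k ∧
    ∀ y ∈ P, f y = fn ((β * cF F P hP x : F.autGroup P) : MulAut P) y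

theorem BB.congr {hP : P ≤ S} (h : BB F p K P hP f s) (hfg : ∀ x ∈ P, f x = g x) : BB F p K P hP g s := by
  obtain ⟨β, hβ, x, k, hk, hs, h1⟩ := h
  exact ⟨β, hβ, x, k, hk, hs, fun y hy => by rw [← hfg y hy, h1 y hy]⟩

theorem BB.map {hP : P ≤ S} (h : BB F p K P hP f s) : ∀ x ∈ P, f x ∈ P := by
  obtain ⟨β, hβ, x, k, hk, hs, h1⟩ := h
  intro y hy
  rw [h1 y hy]; exact fn_mem' _ hy

theorem BB.lab {hP : P ≤ S} (h : BB F p K P hP f s) {t : Ω} (ht : s⁻¹ * t ∈ K) : BB F p K P hP f t := by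
  obtain ⟨β, hβ, x, k, hk, hs, h1⟩ := h
  refine ⟨β, hβ, x, k * (s⁻¹ * t), K.mul_mem hk ht, ?_, h1⟩
  rw [← mul_assoc, ← hs, mul_inv_cancel_left]

theorem BB.comp (hK : KS F p K) {hP : P ≤ S} (h : BB F p K P hP f s) (h' : BB F p K P hP g t) :
    BB F p K P hP (fun x => g (f x)) (t * s) := by
  have hmap := h.map
  obtain ⟨β, hβ, x, k, hk, rfl, h1⟩ := h
  obtain ⟨γ, hγ, z, l, hl, rfl, h2⟩ := h'
  have hn := Cfsg.Agent.Lib.PRes.normal p (F.autGroup P)
  refine ⟨γ * (cF F P hP z * β * (cF F P hP z)⁻¹), Subgroup.mul_mem _ hγ (hn.conj_mem _ hβ _), z * x,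
    ((x : Ω)⁻¹ * l * x) * k, K.mul_mem (hK.norm' (mem_normalizerIn.1 x.2).1 hl) hk, ?_, fun y hy => ?_⟩
  · rw [Subgroup.coe_mul]; group
  · show g (f y) = _
    rw [h2 _ (hmap y hy), h1 y hy, ← fn_mul _ _ hy]
    have : (γ * cF F P hP z) * (β * cF F P hP x) =
        γ * (cF F P hP z * β * (cF F P hP z)⁻¹) * cF F P hP (z * x) := by rw [map_mul]; group
    rw [← this]; rfl

theorem BB.inv (hK : KS F p K) {hP : P ≤ S} (h : BB F p K P hP f s) (hg : ∀ x ∈ P, g (f x) = x) :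
    BB F p K P hP g s⁻¹ := by
  have hmap := h.map
  obtain ⟨β, hβ, x, k, hk, rfl, h1⟩ := h
  have hn := Cfsg.Agent.Lib.PRes.normal p (F.autGroup P)
  have hxS := (mem_normalizerIn.1 x.2).1
  refine ⟨(cF F P hP x)⁻¹ * β⁻¹ * (cF F P hP x), ?_, x⁻¹, (x : Ω) * k⁻¹ * (x : Ω)⁻¹, hK.norm _ hxS _ (K.inv_mem hk), ?_, fun y hy => ?_⟩
  · have := hn.conj_mem _ (Subgroup.inv_mem _ hβ) (cF F P hP x)⁻¹
    rwa [inv_inv] at this
  · rw [Subgroup.coe_inv]; group
  · have h2 : (cF F P hP x)⁻¹ * β⁻¹ * (cF F P hP x) * cF F P hP x⁻¹ = (β * cF F P hP x)⁻¹ := by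
      rw [map_inv]; group
    rw [h2]
    set α := β * cF F P hP x with hα
    have hy' : fn ((α⁻¹ : F.autGroup P) : MulAut P) y ∈ P := fn_mem' _ hy
    have h3 := h1 _ hy'
    have h4 : fn (α : MulAut P) (fn ((α⁻¹ : F.autGroup P) : MulAut P) y) = y := fn_fn_inv _ hy
    rw [h4] at h3
    have h5 := hg _ hy'
    rw [h3] at h5
    exact h5

theorem BB.toLab (hK : KS F p K) {hP : P ≤ S} (h : BB F p K P hP f s) : Lab F p K P f s := by
  obtain ⟨β, hβ, x, k, hk, rfl, h1⟩ := h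
  have h2 := (Lab.comp (Lab.conj (F := F) (p := p) (K := K) hP (mem_normalizerIn.1 x.2).1) (Lab.res hP β hβ)
    fun y hy => normalizerIn_conj_mem x.2 hy).lab hk
  rw [one_mul] at h2
  refine h2.congr fun y hy => ?_
  rw [h1 y hy, Subgroup.coe_mul, fn_mul _ _ hy, fn_cF hP x hy]

theorem BB.conj {hP : P ≤ S} {x : Ω} (hx : x ∈ normalizerIn S P) : BB F p K P hP (fun y => x * y * x⁻¹) x := by
  refine ⟨1, Subgroup.one_mem _, ⟨x, hx⟩, 1, K.one_mem, (mul_one _).symm, fun y hy => ?_⟩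
  rw [one_mul, fn_cF hP _ hy]

theorem BB.res {hP : P ≤ S} {β : F.autGroup P} (hβ : β ∈ pResidual p (F.autGroup P)) :
    BB F p K P hP (fn (β : MulAut P)) 1 := by
  refine ⟨β, hβ, 1, 1, K.one_mem, by simp, fun y hy => ?_⟩
  rw [map_one, mul_one]

/-- the kernel -/
theorem BB.ker (hS : IsPGroup p S) (hF : F.IsSaturated p) (hK : KS F p K) (hP : F.IsFullyNormalized P)
    (h : BB F p K P hP.1 f s) (hf : ∀ x ∈ P, f x = x) : ∃ k ∈ K, ∃ c ∈ centralizerIn S P, s = k * c := by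
  obtain ⟨β, hβ, x, k, hk, rfl, h1⟩ := h
  have h2 : β * cF F P hP.1 x = 1 := by
    apply Subtype.ext
    refine fn_ext fun y hy => ?_
    rw [← h1 y hy, hf y hy]
    exact (fn_one hy).symm
  have h3 : cF F P hP.1 x ∈ pResidual p (F.autGroup P) := by
    rw [← inv_eq_of_mul_eq_one_right h2]
    exact Subgroup.inv_mem _ hβ
  obtain ⟨k', hk', hk'S, c, hc, hx⟩ := hf_aut hS hF hP hK.hyp x h3
  have hcS := (mem_centralizerIn.1 hc).1
  refine ⟨k' * (c * k * c⁻¹), K.mul_mem hk' (hK.norm _ hcS _ hk), c, hc, ?_⟩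
  rw [hx]; group

/-- the property to be proved -/
def LP (F : FusionSystem S) (p : ℕ) (K P : Subgroup Ω) (hP : P ≤ S) : Prop :=
  ∀ f s, Lab F p K P f s → (∀ x ∈ P, f x ∈ P) → BB F p K P hP f s

theorem LP_S (hK : KS F p K) : LP F p K S le_rfl := by
  have key : ∀ R f s, Lab F p K R f s → R = S → BB F p K S le_rfl f s := by
    intro R f s h
    induction h with
    | @conj P s hP hs =>
      intro _
      exact BB.conj (le_normalizerIn le_rfl hs)
    | @res P hP β hβ =>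
      rintro rfl
      exact BB.res hβ
    | @lab P f s k h hk ih =>
      intro e
      exact (ih e).lab (by rw [inv_mul_cancel_left]; exact hk)
    | @comp P Q f g s t hf hg hfg ih1 ih2 =>
      intro e
      have hQ : Q = S := by
        subst e
        have h1 : Iso F P P f := hf.mor.iso_of_map fun x hx => hf.mor.mem hx
        refine le_antisymm hg.le ?_
        intro y hy
        obtain ⟨x, hx, rfl⟩ := h1.mem_right.1 hy
        exact hfg x hx
      exact (ih1 e).comp hK (ih2 hQ)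
    | @restrict P Q f s h hQ ih =>
      intro e
      exact ih (le_antisymm h.le (e ▸ hQ))
    | @congr P f g s h hfg ih =>
      intro e
      exact (ih e).congr (by rw [← e]; exact hfg)
  intro f s h _
  exact key S f s h rfl

/-- the kernel at a fully centralized subgroup, given the property at a fully normalized conjugate -/
theorem ker_of_LP (hS : IsPGroup p S) (hF : F.IsSaturated p) (hK : KS F p K) (hR : F.IsFullyNormalized R)
    (hLP : LP F p K R hR.1) (hQ : F.IsFullyCentralized Q) (hQR : F.IsConj Q R) {e : Ω}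
    (he : Lab F p K Q (fun x => x) e) : ∃ k ∈ K, ∃ c ∈ centralizerIn S Q, e = k * c := by
  obtain ⟨φ, hφ⟩ := isConj_iff.1 hQR
  obtain ⟨G, hG, hGφ⟩ := (receptive_iff.1 (FN_receptive hS hF hR)).2 Q φ hφ
  obtain ⟨t, ht⟩ := Lab.exists_lab hS hF hK _ _ hG
  have hQN : Q ≤ Nx S Q φ := hφ.mor.le_Nx
  have hCN : centralizerIn S Q ≤ Nx S Q φ := hφ.mor.centralizerIn_le_Nx
  have hGQ : img Q G = R := by rw [img_congr hGφ]; exact hφ.img_eq
  -- centralizers correspond
  have hmapC : ∀ c ∈ centralizerIn S Q, G c ∈ centralizerIn S R := by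
    intro c hc
    have := map_centralizer hG hQN (hCN hc) hc
    rwa [hGQ] at this
  have hfc : Finite ↥(centralizerIn S R) := finite_of_le centralizerIn_le
  have hC : Iso F (centralizerIn S Q) (centralizerIn S R) G :=
    (hG.restrict hCN).iso_of_card hmapC (hQ.2 R hQR)
  have htS := ht.mem hK.le
  have h1 : Lab F p K R (fun x => x) (t * e * t⁻¹) := by
    obtain ⟨g', hg', h2⟩ := (ht.restrict hQN).inv hK
    rw [hGQ] at hg'
    have h3 : ∀ y ∈ R, g' y ∈ Q := by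
      intro y hy
      rw [← hGQ] at hy
      obtain ⟨x, hx, rfl⟩ := (hG.restrict hQN).mem_img.1 hy
      rw [h2 x hx]; exact hx
    have h4 := (hg'.comp he h3).comp (ht.restrict hQN) h3
    rw [← mul_assoc] at h4
    refine h4.congr fun y hy => ?_
    rw [← hGQ] at hy
    obtain ⟨x, hx, rfl⟩ := (hG.restrict hQN).mem_img.1 hy
    show G (g' (G x)) = G x
    rw [h2 x hx]
  obtain ⟨k, hk, c, hc, hkc⟩ := (hLP _ _ h1 fun x hx => hx).ker hS hF hK hR (fun x _ => rfl)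
  obtain ⟨c', hc', rfl⟩ := hC.mem_right.1 hc
  have h5 := ht.spec hK c' (hCN hc')
  refine ⟨(t⁻¹ * k * t) * (t⁻¹ * (G c' * (t * c' * t⁻¹)⁻¹) * t), K.mul_mem (hK.norm' htS hk) (hK.norm' htS h5), c', hc', ?_⟩
  have h6 : e = t⁻¹ * (t * e * t⁻¹) * t := by group
  rw [h6, hkc]; group

end Sat

end Cfsg.Agent.Lib.LabB
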