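import Cfsg.Agent.Lib.FusNormalB
import Cfsg.Agent.Lib.PGrpB
import Cfsg.Agent.Lib.PCon

/-!
Strongly closed subgroups whose `Ω₁` has a central series of strongly closed subgroups are normal (`p` odd).
-/

set_option autoImplicit false
set_option linter.unusedSectionVars false
set_option linter.style.haveILetI false
set_option linter.unusedVariables false

namespace Cfsg.Agent.Lib.OmgA

open Cfsg Cfsg.FusionSystem Cfsg.Agent.Lib.FusBase Cfsg.Agent.Lib.FusSat Cfsg.Agent.Lib.FusNormal Cfsg.Agent.Lib.FusNormalB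

variable {G : Type*} [Group G]

/-- restriction of an automorphism to an invariant subgroup -/
theorem exists_restr (D : Subgroup G) [Finite D] (a : MulAut G) (h : ∀ x ∈ D, a x ∈ D) :
    ∃ b : MulAut D, (∀ x : D, ((b x : D) : G) = a x) ∧ orderOf b ∣ orderOf a := by
  let f : D →* D := (a.toMonoidHom.comp D.subtype).codRestrict D (fun x => h x x.2)
  have hf : ∀ x : D, ((f x : D) : G) = a x := fun x => rfl
  have hinj : Function.Injective f := by
    intro x y hxy
    have h1 : a x = a y := by rw [← hf, ← hf, hxy]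
    exact Subtype.ext (a.injective h1)
  let b : MulAut D := MulEquiv.ofBijective f ⟨hinj, Finite.surjective_of_injective hinj⟩
  have hb : ∀ x : D, ((b x : D) : G) = a x := hf
  have hpow : ∀ (n : ℕ) (x : D), (((b ^ n) x : D) : G) = (a ^ n) x := by
    intro n
    induction n with
    | zero => intro x; rfl
    | succ n ih =>
      intro x
      rw [pow_succ', pow_succ', MulAut.mul_apply, MulAut.mul_apply, hb, ih]
  refine ⟨b, hb, orderOf_dvd_of_pow_eq_one ?_⟩
  ext x
  rw [hpow, pow_orderOf_eq_one]; rfl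

variable {Ω : Type*} [Group Ω] {S : Subgroup Ω} {F : FusionSystem S} {p : ℕ} [Finite S] [Fact p.Prime]
variable {P Q R X Y : Subgroup Ω} {f g h : Ω → Ω} {s t k z : Ω}

/-- the key step -/
theorem le_of_omega_chain (hS : IsPGroup p S) (hF : F.IsSaturated p) (hp2 : p ≠ 2) (hP : F.StronglyClosed P)
    (Rs : ℕ → Subgroup Ω) (n : ℕ) (h0 : Rs 0 = ⊥) (hn : ∀ x ∈ P, x ^ p = 1 → x ∈ Rs n) (hle : Rs n ≤ P)
    (hsc : ∀ i ≤ n, F.StronglyClosed (Rs i))
    (hcomm : ∀ i < n, ∀ b ∈ P, ∀ x ∈ Rs (i + 1), x⁻¹ * (b * x * b⁻¹) ∈ Rs i)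
    (hc : F.IsCentric R) (hr : F.IsRadical p R) : P ≤ R := by
  by_contra hPR
  have hPn := StronglyClosed_normalizer hP
  obtain ⟨b, hbP, hbN, hbR⟩ := exists_mem_normalizer_not_mem hS hPn hP.1 hc.1 hPR
  apply hbR
  have hRf : Finite R := finite_of_le hc.1
  have hRp : IsPGroup p R := hS.to_le hc.1
  have hΩR : Rs n ≤ R := by
    have h1 : F.IsNormal (Rs n) := normal_of_chain hS hF Rs n h0 rfl hsc (fun i hi b hb x hx => hcomm i hi b (hle hb) x hx)
    exact ((normal_iff_sc hS hF).1 h1).2 R hc hr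
  have hinv1 : ∀ i, Inv F R ((fun i => if i ≤ n then Rs i else S) i) := by
    intro i
    by_cases hi : i ≤ n
    · simp only [hi, if_true]; exact StronglyClosed_inv (hsc i hi)
    · simp only [hi, if_false]; exact fun f hf x hx _ => hf.mor.mem hx
  have hinv2 : ∀ i, Inv F R ((fun i => if i = 0 then P else S) i) := by
    intro i
    by_cases hi : i = 0
    · simp only [hi, if_true]; exact StronglyClosed_inv hP
    · simp only [hi, if_false]; exact fun f hf x hx _ => hf.mor.mem hx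
  obtain ⟨K, hK⟩ : ∃ K : Subgroup (MulAut R), K = stabGroup F R (fun i => if i ≤ n then Rs i else S) n hc.1 hinv1 ⊓
    stabGroup F R (fun i => if i = 0 then P else S) 1 hc.1 hinv2 := ⟨_, rfl⟩
  have hKm : ∀ α ∈ K, α ∈ F.autGroup R ∧ (∀ i < n, ∀ x : R, (x : Ω) ∈ Rs (i + 1) → (x : Ω)⁻¹ * (α x : R) ∈ Rs i) ∧
      ∀ x : R, (x : Ω)⁻¹ * (α x : R) ∈ P := by
    intro α hα
    rw [hK] at hα
    refine ⟨hα.1.1, fun i hi x hx => ?_, fun x => ?_⟩
    · have := hα.1.2 i hi x (by simp only [show i + 1 ≤ n from hi, if_true]; exact hx)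
      simp only [hi.le, if_true] at this
      exact this
    · have := hα.2.2 0 (by omega) x (by simp only [zero_add, one_ne_zero, if_false]; exact hc.1 x.2)
      simp only [if_true] at this
      exact this
  have hKp : IsPGroup p K := by
    refine Cfsg.Agent.Lib.PCon.isPGroup_of_forall fun α hα ho => ?_
    obtain ⟨hα1, hα2, hα3⟩ := hKm α hα
    -- `α` fixes the chain
    have h1 : ∀ i ≤ n, ∀ x : R, (x : Ω) ∈ Rs i → α x = x := by
      intro i
      induction i with
      | zero =>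
        intro _ x hx
        rw [h0, Subgroup.mem_bot] at hx
        have : x = 1 := Subtype.ext hx
        rw [this, map_one]
      | succ i ih =>
        intro hi x hx
        have h2 := ih (by omega) (x⁻¹ * α x) (hα2 i (by omega) x hx)
        have h3 := Cfsg.Agent.Lib.PGrpB.eq_one_of_apply hRp ho (x := x) (h := x⁻¹ * α x) (by group) h2
        exact (inv_mul_eq_one.mp h3).symm
    -- `α` fixes `R ∩ P`
    have hDinv : ∀ x ∈ P.subgroupOf R, α x ∈ P.subgroupOf R := by
      intro x hx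
      have h5 : (x : Ω) * ((x : Ω)⁻¹ * (α x : R)) ∈ P := P.mul_mem hx (hα3 x)
      rw [mul_inv_cancel_left] at h5
      exact h5
    obtain ⟨β, hβ, hβo⟩ := exists_restr (P.subgroupOf R) α hDinv
    have hβ1 : β = 1 := by
      refine Cfsg.Agent.Lib.PGrpB.aut_eq_one_of_omega hp2 (hRp.to_subgroup _) (Nat.Coprime.coprime_dvd_left hβo ho) fun x hx => ?_
      apply Subtype.ext
      rw [hβ]
      have hxp : ((x : R) : Ω) ^ p = 1 := congrArg (fun y : (P.subgroupOf R) => ((y : R) : Ω)) hx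
      exact h1 n le_rfl x (hn _ x.2 hxp)
    have h2 : ∀ x : R, (x : Ω) ∈ P → α x = x := by
      intro x hx
      rw [← hβ ⟨x, hx⟩, hβ1]; rfl
    ext x
    have h3 := Cfsg.Agent.Lib.PGrpB.eq_one_of_apply hRp ho (x := x) (h := x⁻¹ * α x) (by group) (h2 _ (hα3 x))
    rw [← inv_mul_eq_one.mp h3]; rfl
  have hKI := radical_le hr (K := K) (fun α hα => (hKm α hα).1) hKp (fun α hα k hk => by
    rw [hK] at hk ⊢
    exact ⟨stabGroup_conj hk.1 hα, stabGroup_conj hk.2 hα⟩)
  refine mem_of_cj_mem_inn hc (hP.1 hbP) hbN (hKI ?_)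
  rw [hK]
  refine ⟨⟨autInducedBy_le hc.1 (cj_mem hbN (hP.1 hbP)), fun i hi x hx => ?_⟩,
    ⟨autInducedBy_le hc.1 (cj_mem hbN (hP.1 hbP)), fun i hi x hx => ?_⟩⟩
  · simp only [show i + 1 ≤ n from hi, if_true] at hx
    simp only [hi.le, if_true]
    exact hcomm i hi b hbP x hx
  · have hi0 : i = 0 := by omega
    subst hi0
    simp only [if_true]
    have h1 : (x : Ω)⁻¹ * b * x ∈ P := (Subgroup.mem_normalizer_iff''.1 (hPn (hc.1 x.2)) b).1 hbP
    have h2 := P.mul_mem h1 (P.inv_mem hbP)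
    have e : (x : Ω)⁻¹ * b * x * b⁻¹ = (x : Ω)⁻¹ * (b * x * b⁻¹) := by group
    rw [e] at h2
    exact h2

theorem normal_of_omega_chain (hS : IsPGroup p S) (hF : F.IsSaturated p) (hp2 : p ≠ 2) (hP : F.StronglyClosed P)
    (Rs : ℕ → Subgroup Ω) (n : ℕ) (h0 : Rs 0 = ⊥) (hn : ∀ x ∈ P, x ^ p = 1 → x ∈ Rs n) (hle : Rs n ≤ P)
    (hsc : ∀ i ≤ n, F.StronglyClosed (Rs i))
    (hcomm : ∀ i < n, ∀ b ∈ P, ∀ x ∈ Rs (i + 1), x⁻¹ * (b * x * b⁻¹) ∈ Rs i) : F.IsNormal P :=
  (normal_iff_sc hS hF).2 ⟨hP, fun _ hc hr => le_of_omega_chain hS hF hp2 hP Rs n h0 hn hle hsc hcomm hc hr⟩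

end Cfsg.Agent.Lib.OmgA
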