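import Mathlib

/-!
# Orthogonal groups of quadratic forms with non-degenerate polar form (any characteristic)

Reflections, Siegel transformations, Witt's lemma, generation by reflections.
-/

set_option autoImplicit false
set_option linter.all false

namespace Cfsg.Agent.Lib.Orth

open Module QuadraticMap

variable {F : Type*} [Field F] {V : Type*} [AddCommGroup V] [Module F V]

/-- Non-degeneracy of the polar form (left version is enough by symmetry). -/
abbrev ND (Q : QuadraticForm F V) : Prop := (QuadraticMap.polarBilin Q).Nondegenerate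

theorem nd_of_forall {Q : QuadraticForm F V} (h : ∀ x, (∀ y, polar Q x y = 0) → x = 0) : ND Q :=
  ⟨fun x hx => h x hx, fun x hx => h x (fun y => by rw [polar_comm]; exact hx y)⟩

theorem ND.eq_zero {Q : QuadraticForm F V} (hQ : ND Q) {x : V} (h : ∀ y, polar Q x y = 0) :
    x = 0 := hQ.1 x h

theorem ND.exists_ne {Q : QuadraticForm F V} (hQ : ND Q) {x : V} (h : x ≠ 0) :
    ∃ y, polar Q x y ≠ 0 := by
  by_contra hcon
  push Not at hcon
  exact h (hQ.eq_zero hcon)

theorem polar_self' (Q : QuadraticForm F V) (x : V) : polar Q x x = 2 * Q x := by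
  rw [QuadraticMap.polar_self]; simp

theorem map_smul' (Q : QuadraticForm F V) (a : F) (x : V) : Q (a • x) = a ^ 2 * Q x := by
  rw [QuadraticMap.map_smul, smul_eq_mul]; ring

theorem map_add' (Q : QuadraticForm F V) (x y : V) : Q (x + y) = Q x + Q y + polar Q x y :=
  QuadraticMap.map_add Q x y

theorem map_sub' (Q : QuadraticForm F V) (x y : V) : Q (x - y) = Q x + Q y - polar Q x y := by
  rw [sub_eq_add_neg, map_add', QuadraticMap.map_neg, QuadraticMap.polar_neg_right]; ring

/-- The orthogonal group of `Q`. -/
def O (Q : QuadraticForm F V) : Subgroup (V ≃ₗ[F] V) where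
  carrier := {g | ∀ v, Q (g v) = Q v}
  mul_mem' {a b} ha hb := fun v => by
    rw [LinearEquiv.mul_apply, ha, hb]
  one_mem' := fun v => rfl
  inv_mem' {a} ha := fun v => by
    have := ha (a⁻¹ v)
    rw [← LinearEquiv.mul_apply, mul_inv_cancel] at this
    exact this.symm

theorem mem_O {Q : QuadraticForm F V} {g : V ≃ₗ[F] V} : g ∈ O Q ↔ ∀ v, Q (g v) = Q v := Iff.rfl

theorem polar_map {Q : QuadraticForm F V} {g : V ≃ₗ[F] V} (hg : g ∈ O Q) (x y : V) :
    polar Q (g x) (g y) = polar Q x y := by
  unfold polar
  rw [← map_add, hg, hg, hg]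

/-! ### Reflections -/

/-- The reflection in `v` (the identity if `Q v = 0`). -/
def refl (Q : QuadraticForm F V) (v : V) : V ≃ₗ[F] V where
  toFun x := x - ((Q v)⁻¹ * polar Q x v) • v
  map_add' x y := by rw [polar_add_left]; module
  map_smul' a x := by rw [polar_smul_left, smul_eq_mul, RingHom.id_apply]; module
  invFun x := x - ((Q v)⁻¹ * polar Q x v) • v
  left_inv x := by
    by_cases h : Q v = 0
    · simp [h]
    · simp only [polar_sub_left, polar_smul_left, polar_self', smul_eq_mul]
      match_scalars <;> field_simp <;> ring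
  right_inv x := by
    by_cases h : Q v = 0
    · simp [h]
    · simp only [polar_sub_left, polar_smul_left, polar_self', smul_eq_mul]
      match_scalars <;> field_simp <;> ring

theorem refl_apply (Q : QuadraticForm F V) (v x : V) :
    refl Q v x = x - ((Q v)⁻¹ * polar Q x v) • v := rfl

theorem refl_mul_self (Q : QuadraticForm F V) (v : V) : refl Q v * refl Q v = 1 := by
  apply LinearEquiv.ext
  intro x
  exact (refl Q v).left_inv x

theorem refl_inv (Q : QuadraticForm F V) (v : V) : (refl Q v)⁻¹ = refl Q v := by
  rw [inv_eq_iff_mul_eq_one, refl_mul_self]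

theorem refl_mem (Q : QuadraticForm F V) (v : V) : refl Q v ∈ O Q := by
  intro x
  rw [refl_apply, map_sub', map_smul', polar_smul_right, smul_eq_mul]
  by_cases h : Q v = 0
  · simp [h]
  · field_simp; ring

theorem refl_self {Q : QuadraticForm F V} {v : V} (hv : Q v ≠ 0) : refl Q v v = -v := by
  rw [refl_apply, polar_self']
  match_scalars
  field_simp
  ring

theorem refl_of_orth {Q : QuadraticForm F V} {v x : V} (h : polar Q x v = 0) :
    refl Q v x = x := by
  rw [refl_apply, h]; simp

/-- The reflection in `u - u'` maps `u` to `u'`. -/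
theorem refl_sub {Q : QuadraticForm F V} {u u' : V} (h : Q u = Q u') (hne : Q (u - u') ≠ 0) :
    refl Q (u - u') u = u' := by
  have h1 : polar Q u (u - u') = Q (u - u') := by
    rw [polar_sub_right, polar_self', map_sub', ← h]; ring
  rw [refl_apply, h1, inv_mul_cancel₀ hne, one_smul]
  abel

theorem conj_refl {Q : QuadraticForm F V} {g : V ≃ₗ[F] V} (hg : g ∈ O Q) (v : V) :
    g * refl Q v * g⁻¹ = refl Q (g v) := by
  rw [mul_inv_eq_iff_eq_mul]
  apply LinearEquiv.ext
  intro x
  rw [LinearEquiv.mul_apply, LinearEquiv.mul_apply, refl_apply, refl_apply, map_sub, map_smul,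
    polar_map hg, hg v]

theorem refl_smul (Q : QuadraticForm F V) {a : F} (ha : a ≠ 0) (v : V) :
    refl Q (a • v) = refl Q v := by
  apply LinearEquiv.ext
  intro x
  rw [refl_apply, refl_apply, map_smul', polar_smul_right, smul_eq_mul, smul_smul]
  congr 2
  by_cases h : Q v = 0
  · simp [h]
  · field_simp

/-! ### Siegel transformations -/

/-- The Siegel transformation `x ↦ x + B(x,w) z - B(x,z) w - Q(z) B(x,w) w`, for `Q w = 0`,
`B(w,z) = 0`. -/
def siegel (Q : QuadraticForm F V) (w z : V) (hw : Q w = 0) (hwz : polar Q w z = 0) :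
    V ≃ₗ[F] V where
  toFun x := x + polar Q x w • z - polar Q x z • w - (Q z * polar Q x w) • w
  map_add' x y := by simp only [polar_add_left]; module
  map_smul' a x := by simp only [polar_smul_left, smul_eq_mul, RingHom.id_apply]; module
  invFun x := x - polar Q x w • z + polar Q x z • w - (Q z * polar Q x w) • w
  left_inv x := by
    have h1 : polar Q z w = 0 := by rw [polar_comm]; exact hwz
    simp only [polar_add_left, polar_sub_left, polar_smul_left, polar_self', smul_eq_mul, hw, hwz,
      h1]
    module
  right_inv x := by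
    have h1 : polar Q z w = 0 := by rw [polar_comm]; exact hwz
    simp only [polar_add_left, polar_sub_left, polar_smul_left, polar_self', smul_eq_mul, hw, hwz,
      h1]
    module

section Siegel

variable {Q : QuadraticForm F V} {w z : V} (hw : Q w = 0) (hwz : polar Q w z = 0)

theorem siegel_apply (x : V) :
    siegel Q w z hw hwz x = x + polar Q x w • z - polar Q x z • w - (Q z * polar Q x w) • w := rfl

theorem siegel_mem : siegel Q w z hw hwz ∈ O Q := by
  intro x
  have h1 : polar Q z w = 0 := by rw [polar_comm]; exact hwz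
  rw [siegel_apply]
  simp only [map_add', map_sub', map_smul', polar_add_left, polar_sub_left, polar_smul_left,
    polar_smul_right, smul_eq_mul, hw, hwz, h1, polar_self']
  ring

theorem siegel_of_orth {x : V} (hx : polar Q x w = 0) :
    siegel Q w z hw hwz x = x - polar Q x z • w := by
  rw [siegel_apply, hx]
  module

theorem siegel_w : siegel Q w z hw hwz w = w := by
  rw [siegel_of_orth hw hwz (by rw [polar_self', hw, mul_zero]), hwz]; simp

theorem siegel_congr {z' : V} (h : z = z') (hwz' : polar Q w z' = 0) :
    siegel Q w z hw hwz = siegel Q w z' hw hwz' := by subst h; rfl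

theorem siegel_mul {z' : V} (hwz' : polar Q w z' = 0) :
    siegel Q w z hw hwz * siegel Q w z' hw hwz'
      = siegel Q w (z + z') hw (by rw [polar_add_right, hwz, hwz', add_zero]) := by
  have h1 : polar Q z w = 0 := by rw [polar_comm]; exact hwz
  have h1' : polar Q z' w = 0 := by rw [polar_comm]; exact hwz'
  apply LinearEquiv.ext
  intro x
  rw [LinearEquiv.mul_apply, siegel_apply, siegel_apply, siegel_apply]
  simp only [map_add', polar_add_left, polar_sub_left, polar_smul_left, polar_add_right,
    smul_eq_mul, hw, hwz, h1, h1', hwz', polar_self', polar_comm Q z' z]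
  module

theorem siegel_zero : siegel Q w 0 hw (by simp) = 1 := by
  apply LinearEquiv.ext
  intro x
  rw [siegel_apply]
  simp

theorem siegel_inv : (siegel Q w z hw hwz)⁻¹
    = siegel Q w (-z) hw (by rw [polar_neg_right, hwz, neg_zero]) := by
  rw [inv_eq_iff_mul_eq_one, siegel_mul]
  rw [siegel_congr (z' := 0) hw _ (by simp) (by simp), siegel_zero]

/-- Siegel transformations with `Q z ≠ 0` are products of two reflections. -/
theorem siegel_eq_refl_mul_refl (hz : Q z ≠ 0) :
    siegel Q w z hw hwz = refl Q z * refl Q (z + Q z • w) := by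
  have h1 : polar Q z w = 0 := by rw [polar_comm]; exact hwz
  have h2 : Q (z + Q z • w) = Q z := by
    rw [map_add', map_smul', polar_smul_right, h1, hw]; simp
  apply LinearEquiv.ext
  intro x
  rw [LinearEquiv.mul_apply, refl_apply, refl_apply, h2, siegel_apply]
  simp only [polar_add_left, polar_sub_left, polar_smul_left, polar_add_right, polar_smul_right,
    smul_eq_mul, hw, hwz, polar_self']
  match_scalars <;> field_simp <;> ring

theorem conj_siegel {g : V ≃ₗ[F] V} (hg : g ∈ O Q) :
    g * siegel Q w z hw hwz * g⁻¹ = siegel Q (g w) (g z) (by rw [hg, hw])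
      (by rw [polar_map hg, hwz]) := by
  rw [mul_inv_eq_iff_eq_mul]
  apply LinearEquiv.ext
  intro x
  rw [LinearEquiv.mul_apply, LinearEquiv.mul_apply, siegel_apply, siegel_apply, map_sub, map_sub,
    map_add, map_smul, map_smul, map_smul, polar_map hg, polar_map hg, hg z]

end Siegel

/-! ### The groups generated by reflections and Siegel transformations -/

/-- The set of reflections. -/
def reflSet (Q : QuadraticForm F V) : Set (V ≃ₗ[F] V) := {g | ∃ v, Q v ≠ 0 ∧ g = refl Q v}

/-- The set of Siegel transformations. -/
def siegelSet (Q : QuadraticForm F V) : Set (V ≃ₗ[F] V) :=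
  {g | ∃ (w z : V) (hw : Q w = 0) (hwz : polar Q w z = 0), g = siegel Q w z hw hwz}

/-- The group generated by reflections. -/
def R (Q : QuadraticForm F V) : Subgroup (V ≃ₗ[F] V) := Subgroup.closure (reflSet Q)

/-- The group generated by reflections and Siegel transformations. -/
def RS (Q : QuadraticForm F V) : Subgroup (V ≃ₗ[F] V) :=
  Subgroup.closure (reflSet Q ∪ siegelSet Q)

theorem refl_mem_R (Q : QuadraticForm F V) (v : V) : refl Q v ∈ R Q := by
  by_cases h : Q v = 0
  · have : refl Q v = 1 := by
      apply LinearEquiv.ext; intro x; rw [refl_apply, h]; simp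
    rw [this]; exact one_mem _
  · exact Subgroup.subset_closure ⟨v, h, rfl⟩

theorem R_le_RS (Q : QuadraticForm F V) : R Q ≤ RS Q :=
  Subgroup.closure_mono Set.subset_union_left

theorem refl_mem_RS (Q : QuadraticForm F V) (v : V) : refl Q v ∈ RS Q :=
  R_le_RS Q (refl_mem_R Q v)

theorem siegel_mem_RS {Q : QuadraticForm F V} {w z : V} (hw : Q w = 0) (hwz : polar Q w z = 0) :
    siegel Q w z hw hwz ∈ RS Q :=
  Subgroup.subset_closure (Or.inr ⟨w, z, hw, hwz, rfl⟩)

theorem RS_le_O (Q : QuadraticForm F V) : RS Q ≤ O Q := by
  rw [RS, Subgroup.closure_le]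
  rintro _ (⟨v, _, rfl⟩ | ⟨w, z, hw, hwz, rfl⟩)
  · exact refl_mem Q v
  · exact siegel_mem hw hwz

theorem R_le_O (Q : QuadraticForm F V) : R Q ≤ O Q := (R_le_RS Q).trans (RS_le_O Q)

/-! ### Witt's lemma -/

section Witt

variable [FiniteDimensional F V] {Q : QuadraticForm F V}

/-- The orthogonal complement. -/
abbrev perp (Q : QuadraticForm F V) (X : Submodule F V) : Submodule F V :=
  LinearMap.BilinForm.orthogonal (QuadraticMap.polarBilin Q) X

omit [FiniteDimensional F V] in
theorem mem_perp {X : Submodule F V} {z : V} : z ∈ perp Q X ↔ ∀ x ∈ X, polar Q x z = 0 := Iff.rfl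

omit [FiniteDimensional F V] in
theorem mem_perp' {X : Submodule F V} {z : V} : z ∈ perp Q X ↔ ∀ x ∈ X, polar Q z x = 0 := by
  rw [mem_perp]
  constructor
  · intro h x hx; rw [polar_comm]; exact h x hx
  · intro h x hx; rw [polar_comm]; exact h x hx

omit [FiniteDimensional F V] in
theorem isRefl_polarBilin (Q : QuadraticForm F V) :
    LinearMap.BilinForm.IsRefl (QuadraticMap.polarBilin Q) := by
  intro x y h
  change polar Q y x = 0
  rw [polar_comm]; exact h

theorem perp_perp (hQ : ND Q) (X : Submodule F V) : perp Q (perp Q X) = X :=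
  LinearMap.BilinForm.orthogonal_orthogonal hQ (isRefl_polarBilin Q) X

theorem finrank_perp (hQ : ND Q) (X : Submodule F V) :
    finrank F (perp Q X) = finrank F V - finrank F X :=
  LinearMap.BilinForm.finrank_orthogonal hQ X

theorem exists_perp_ne_zero (hQ : ND Q) {X : Submodule F V} {u : V} (hu : u ∉ X) :
    ∃ z ∈ perp Q X, polar Q u z ≠ 0 := by
  by_contra hcon
  push Not at hcon
  apply hu
  rw [← perp_perp hQ X, mem_perp']
  intro z hz
  exact hcon z hz

theorem exists_perp_eq_one (hQ : ND Q) {X : Submodule F V} {u : V} (hu : u ∉ X) :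
    ∃ z ∈ perp Q X, polar Q u z = 1 := by
  obtain ⟨z, hz, h⟩ := exists_perp_ne_zero hQ hu
  refine ⟨(polar Q u z)⁻¹ • z, Submodule.smul_mem _ _ hz, ?_⟩
  rw [polar_smul_right, smul_eq_mul, inv_mul_cancel₀ h]

/-- Hyperbolic scaling, as a product of two reflections. -/
theorem exists_scaling {w y : V} (hw : Q w = 0) (hy : Q y = 0) (hwy : polar Q w y = 1) {a : F}
    (ha : a ≠ 0) : ∃ g ∈ R Q, g w = a • w ∧ g y = a⁻¹ • y ∧
      ∀ x, polar Q x w = 0 → polar Q x y = 0 → g x = x := by
  have hyw : polar Q y w = 1 := by rw [polar_comm]; exact hwy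
  have q1 : Q (w - a • y) = -a := by
    rw [map_sub', map_smul', polar_smul_right, hw, hy, hwy]; simp
  have q2 : Q (w - y) = -1 := by
    rw [map_sub', hw, hy, hwy]; ring
  refine ⟨refl Q (w - y) * refl Q (w - a • y), mul_mem (refl_mem_R _ _) (refl_mem_R _ _), ?_, ?_, ?_⟩
  · rw [LinearEquiv.mul_apply, refl_apply, refl_apply, q1, q2]
    simp only [polar_sub_left, polar_sub_right, polar_smul_left, polar_smul_right, smul_eq_mul,
      polar_self', hw, hy, hwy, hyw]
    match_scalars <;> field_simp <;> ring
  · rw [LinearEquiv.mul_apply, refl_apply, refl_apply, q1, q2]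
    simp only [polar_sub_left, polar_sub_right, polar_smul_left, polar_smul_right, smul_eq_mul,
      polar_self', hw, hy, hwy, hyw]
    match_scalars <;> field_simp <;> ring
  · intro x h1 h2
    have e : refl Q (w - a • y) x = x := refl_of_orth (by
      rw [polar_sub_right, polar_smul_right, h1, h2]; simp)
    rw [LinearEquiv.mul_apply, e]
    exact refl_of_orth (by rw [polar_sub_right, h1, h2, sub_zero])

/-- The key step in Witt's lemma. -/
theorem exists_fix (hQ : ND Q) {X : Submodule F V} {u u' : V} (hu : u ∉ X) (hu' : u' ∉ X)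
    (hq : Q u = Q u') (h : ∀ x ∈ X, polar Q x u = polar Q x u') :
    ∃ g ∈ RS Q, (∀ x ∈ X, g x = x) ∧ g u = u' := by
  set w := u - u' with hw
  have hwX : ∀ x ∈ X, polar Q x w = 0 := fun x hx => by
    rw [hw, polar_sub_right, h x hx, sub_self]
  by_cases hQw : Q w = 0
  · have huw : polar Q u w = 0 := by
      have h1 : Q w = Q u + Q u' - polar Q u u' := map_sub' Q u u'
      rw [hw, polar_sub_right, polar_self']
      rw [hQw, ← hq] at h1
      linear_combination -h1
    by_cases hspan : u ∈ X ⊔ Submodule.span F {w}
    · -- `u = x₀ + a w`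
      obtain ⟨x0, hx0, w', hw', hsum⟩ := Submodule.mem_sup.mp hspan
      obtain ⟨a, rfl⟩ := Submodule.mem_span_singleton.mp hw'
      have hwX' : w ∉ X := by
        intro hwX
        apply hu
        rw [← hsum]
        exact add_mem hx0 (X.smul_mem a hwX)
      have ha : a ≠ 0 := by
        rintro rfl
        apply hu
        rw [← hsum, zero_smul, add_zero]; exact hx0
      have ha1 : a - 1 ≠ 0 := by
        intro ha1
        apply hu'
        have : u' = x0 + (a - 1) • w := by
          rw [sub_smul, one_smul, ← add_sub_assoc, hsum, hw]; abel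
        rw [this, ha1, zero_smul, add_zero]; exact hx0
      obtain ⟨y0, hy0, hwy0⟩ := exists_perp_eq_one hQ hwX'
      set y := y0 - Q y0 • w with hy
      have hy0X : ∀ x ∈ X, polar Q x y0 = 0 := hy0
      have hyX : ∀ x ∈ X, polar Q x y = 0 := fun x hx => by
        rw [hy, polar_sub_right, polar_smul_right, hy0X x hx, hwX x hx]; simp
      have hyy : Q y = 0 := by
        rw [hy, map_sub', map_smul', polar_smul_right, hQw, polar_comm Q y0 w, hwy0]; simp
      have hwy : polar Q w y = 1 := by
        rw [hy, polar_sub_right, polar_smul_right, polar_self', hQw, hwy0]; simp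
      obtain ⟨g, hg, g1, g2, g3⟩ := exists_scaling hQw hyy hwy (a := (a - 1) / a)
        (div_ne_zero ha1 ha)
      refine ⟨g, R_le_RS Q hg, fun x hx => g3 x (hwX x hx) (hyX x hx), ?_⟩
      have hgu : g u = x0 + a • ((a - 1) / a) • w := by
        rw [← hsum, map_add, map_smul, g1, g3 x0 (hwX x0 hx0) (hyX x0 hx0)]
      rw [hgu, smul_smul, mul_div_cancel₀ _ ha, sub_smul, one_smul, ← add_sub_assoc, hsum, hw]
      abel
    · -- Siegel
      obtain ⟨z, hz, huz⟩ := exists_perp_eq_one hQ hspan
      have hwz : polar Q w z = 0 :=
        hz w (Submodule.mem_sup_right (Submodule.mem_span_singleton_self w))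
      refine ⟨siegel Q w z hQw hwz, siegel_mem_RS _ _, ?_, ?_⟩
      · intro x hx
        rw [siegel_of_orth hQw hwz (hwX x hx)]
        have : polar Q x z = 0 := hz x (Submodule.mem_sup_left hx)
        rw [this]; simp
      · rw [siegel_of_orth hQw hwz huw, huz, one_smul, hw]; abel
  · refine ⟨refl Q w, refl_mem_RS _ _, fun x hx => refl_of_orth (hwX x hx), ?_⟩
    exact refl_sub hq hQw

/-- Witt's lemma, for independent families. -/
theorem witt_family (hQ : ND Q) (n : ℕ) : ∀ (v w : Fin n → V),
    LinearIndependent F v → LinearIndependent F w → (∀ i, Q (v i) = Q (w i)) →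
    (∀ i j, polar Q (v i) (v j) = polar Q (w i) (w j)) →
    ∃ g ∈ RS Q, ∀ i, g (v i) = w i := by
  induction n with
  | zero =>
    intro v w _ _ _ _
    exact ⟨1, one_mem _, fun i => i.elim0⟩
  | succ n ih =>
    intro v w hv hw hq h
    obtain ⟨g, hg, hg2⟩ := ih (fun i => v i.castSucc) (fun i => w i.castSucc)
      (hv.comp _ (Fin.castSucc_injective n)) (hw.comp _ (Fin.castSucc_injective n))
      (fun i => hq _) (fun i j => h _ _)
    have hgO := RS_le_O Q hg
    set X := Submodule.span F (Set.range (fun i : Fin n => w i.castSucc)) with hX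
    have hwn : w (Fin.last n) ∉ X := by
      have h1 := hw.notMem_span_image (s := Set.range Fin.castSucc) (x := Fin.last n) (by
        rintro ⟨i, hi⟩; exact absurd hi (Fin.castSucc_lt_last i).ne)
      rw [← Set.range_comp] at h1
      exact h1
    have hvn : g (v (Fin.last n)) ∉ X := by
      have h1 := hv.notMem_span_image (s := Set.range Fin.castSucc) (x := Fin.last n) (by
        rintro ⟨i, hi⟩; exact absurd hi (Fin.castSucc_lt_last i).ne)
      rw [← Set.range_comp] at h1
      intro h2
      apply h1
      have h3 : X = (Submodule.span F (Set.range (v ∘ Fin.castSucc))).map (g : V →ₗ[F] V) := by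
        rw [Submodule.map_span, ← Set.range_comp, hX]
        congr 2
        funext i
        simp [hg2 i]
      rw [h3, Submodule.mem_map] at h2
      obtain ⟨y, hy, hyg⟩ := h2
      have : y = v (Fin.last n) := g.injective hyg
      rwa [← this]
    have hprod : ∀ x ∈ X, polar Q x (g (v (Fin.last n))) = polar Q x (w (Fin.last n)) := by
      intro x hx
      induction hx using Submodule.span_induction with
      | mem x hx =>
        obtain ⟨i, rfl⟩ := hx
        change polar Q (w i.castSucc) _ = polar Q (w i.castSucc) _
        rw [← h i.castSucc (Fin.last n), ← hg2 i, polar_map hgO]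
      | zero => simp
      | add x y _ _ hx hy => rw [polar_add_left, polar_add_left, hx, hy]
      | smul a x _ hx => rw [polar_smul_left, polar_smul_left, hx]
    obtain ⟨g', hg', b, c⟩ := exists_fix hQ hvn hwn (by rw [hgO, hq]) hprod
    refine ⟨g' * g, mul_mem hg' hg, fun i => ?_⟩
    rw [LinearEquiv.mul_apply]
    refine Fin.lastCases ?_ (fun i => ?_) i
    · exact c
    · rw [hg2]
      exact b _ (Submodule.subset_span ⟨i, rfl⟩)

/-- The orthogonal group is generated by reflections and Siegel transformations. -/
theorem RS_eq_O (hQ : ND Q) : RS Q = O Q := by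
  refine le_antisymm (RS_le_O Q) ?_
  intro g hg
  let b := finBasis F V
  obtain ⟨h, hh, hb⟩ := witt_family hQ _ (fun i => b i) (fun i => g (b i))
    b.linearIndependent (b.linearIndependent.map' (g : V →ₗ[F] V) g.ker)
    (fun i => (hg _).symm) (fun i j => (polar_map hg _ _).symm)
  have : h = g := by
    apply LinearEquiv.toLinearMap_injective
    exact b.ext hb
  rw [← this]; exact hh

/-- Witt's lemma. -/
theorem witt (hQ : ND Q) (X : Submodule F V) (φ : X →ₗ[F] V)
    (hinj : Function.Injective φ) (h : ∀ x : X, Q (φ x) = Q (x : V)) :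
    ∃ g ∈ O Q, ∀ x : X, g (x : V) = φ x := by
  have hp : ∀ x y : X, polar Q (φ x) (φ y) = polar Q (x : V) (y : V) := by
    intro x y
    unfold polar
    rw [← map_add, h, h, h]; rfl
  let b := finBasis F X
  obtain ⟨g, h1, h2⟩ := witt_family hQ _ (fun i => (b i : V)) (fun i => φ (b i))
    (b.linearIndependent.map' X.subtype (Submodule.ker_subtype X))
    (b.linearIndependent.map' φ (LinearMap.ker_eq_bot.mpr hinj))
    (fun i => (h _).symm) (fun i j => (hp _ _).symm)
  refine ⟨g, RS_le_O Q h1, fun x => ?_⟩
  have : (g : V →ₗ[F] V).comp X.subtype = φ := b.ext fun i => by simpa using h2 i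
  exact congrArg (fun f : X →ₗ[F] V => f x) this

/-! ### Generation by reflections -/

/-- A totally singular subspace has dimension at most half. -/
theorem two_mul_finrank_le (hQ : ND Q) {U : Submodule F V} (hU : ∀ u ∈ U, Q u = 0) :
    2 * finrank F U ≤ finrank F V := by
  have h1 : U ≤ perp Q U := by
    intro u hu
    rw [mem_perp]
    intro x hx
    have := map_add' Q x u
    rw [hU _ (add_mem hx hu), hU _ hx, hU _ hu] at this
    linear_combination -this
  have h2 := Submodule.finrank_mono h1
  rw [finrank_perp hQ] at h2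
  have h3 := Submodule.finrank_le U
  omega

/-- Outside the exceptional case, Siegel transformations are products of reflections. -/
theorem siegel_mem_R (hQ : ND Q) (hex : (∃ a : F, a ≠ 0 ∧ a ≠ -1) ∨ finrank F V ≠ 4)
    {w z : V} (hw : Q w = 0) (hwz : polar Q w z = 0) : siegel Q w z hw hwz ∈ R Q := by
  have hzw : polar Q z w = 0 := by rw [polar_comm]; exact hwz
  by_cases hz : Q z = 0
  · -- it suffices to find `z'` with `Q z' ≠ 0`, `Q (z + z') ≠ 0`, `z' ⊥ w`
    have key : (∃ z', polar Q w z' = 0 ∧ Q z' ≠ 0 ∧ Q (z + z') ≠ 0) →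
        siegel Q w z hw hwz ∈ R Q := by
      rintro ⟨z', h1, h2, h3⟩
      have e1 : polar Q w (z + z') = 0 := by rw [polar_add_right, hwz, h1, add_zero]
      have e2 : polar Q w (-z') = 0 := by rw [polar_neg_right, h1, neg_zero]
      have e3 : siegel Q w z hw hwz = siegel Q w (z + z') hw e1 * siegel Q w (-z') hw e2 := by
        rw [siegel_mul]
        exact siegel_congr hw hwz (by abel) _
      rw [e3, siegel_eq_refl_mul_refl hw e1 h3, siegel_eq_refl_mul_refl hw e2 (by
        rw [QuadraticMap.map_neg]; exact h2)]
      exact mul_mem (mul_mem (refl_mem_R _ _) (refl_mem_R _ _))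
        (mul_mem (refl_mem_R _ _) (refl_mem_R _ _))
    by_cases hspan : z ∈ Submodule.span F {w}
    · obtain ⟨a, rfl⟩ := Submodule.mem_span_singleton.mp hspan
      have : siegel Q w (a • w) hw hwz = 1 := by
        apply LinearEquiv.ext
        intro x
        rw [siegel_apply]
        simp only [polar_smul_right, smul_eq_mul, hz]
        change _ = x
        module
      rw [this]; exact one_mem _
    · rcases hex with ⟨a, ha0, ha1⟩ | hdim
      · apply key
        obtain ⟨y0, hy0, hzy0⟩ := exists_perp_eq_one hQ hspan
        have hwy0 : polar Q w y0 = 0 := hy0 w (Submodule.mem_span_singleton_self w)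
        refine ⟨y0 + (a - Q y0) • z, ?_, ?_, ?_⟩
        · rw [polar_add_right, polar_smul_right, hwy0, hwz]; simp
        · rw [map_add', map_smul', polar_smul_right, hz, polar_comm Q y0 z, hzy0]
          simp [ha0]
        · have e : z + (y0 + (a - Q y0) • z) = y0 + (a + 1 - Q y0) • z := by module
          rw [e, map_add', map_smul', polar_smul_right, hz, polar_comm Q y0 z, hzy0]
          simp only [smul_eq_mul, mul_one, mul_zero, add_zero, add_sub_cancel]
          intro h0
          exact ha1 (eq_neg_of_add_eq_zero_left h0)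
      · by_contra hcon
        apply hdim
        set U := perp Q (Submodule.span F {w, z}) with hUdef
        have hmem : ∀ x, x ∈ U ↔ polar Q x w = 0 ∧ polar Q x z = 0 := by
          intro x
          rw [hUdef, mem_perp']
          constructor
          · intro h
            exact ⟨h w (Submodule.subset_span (by simp)), h z (Submodule.subset_span (by simp))⟩
          · rintro ⟨h1, h2⟩ y hy
            induction hy using Submodule.span_induction with
            | mem y hy =>
              rcases hy with rfl | hy
              · exact h1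
              · rw [Set.mem_singleton_iff] at hy; rw [hy]; exact h2
            | zero => simp
            | add a b _ _ ha hb => rw [polar_add_right, ha, hb, add_zero]
            | smul c a _ ha => rw [polar_smul_right, ha, smul_zero]
        have hU : ∀ u ∈ U, Q u = 0 := by
          intro u hu
          by_contra hne
          apply hcon
          apply key
          obtain ⟨h1, h2⟩ := (hmem u).mp hu
          refine ⟨u, by rw [polar_comm]; exact h1, hne, ?_⟩
          rw [map_add', hz, polar_comm, h2]
          simpa using hne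
        have hw0 : w ≠ 0 := by
          rintro rfl
          apply hcon
          have : siegel Q 0 z hw hwz = 1 := by
            apply LinearEquiv.ext; intro x; rw [siegel_apply]; simp
          rw [this]; exact one_mem _
        have hli : LinearIndependent F ![w, z] := by
          rw [LinearIndependent.pair_iff' hw0]
          intro a ha
          apply hspan
          rw [Submodule.mem_span_singleton]
          exact ⟨a, ha⟩
        have hfr : finrank F (Submodule.span F {w, z}) = 2 := by
          have h0 := finrank_span_eq_card hli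
          rw [show (Set.range ![w, z]) = {w, z} by
            simp [Matrix.range_cons, Matrix.range_empty]; exact Set.pair_comm _ _] at h0
          simpa using h0
        have h1 := two_mul_finrank_le hQ hU
        have h2 := finrank_perp hQ (Submodule.span F {w, z})
        rw [← hUdef, hfr] at h2
        have h3 : Submodule.span F {w, z} ≤ U := by
          rw [Submodule.span_le]
          rintro x (rfl | hx)
          · rw [SetLike.mem_coe, hmem, polar_self', hw, mul_zero]; exact ⟨rfl, hwz⟩
          · rw [Set.mem_singleton_iff] at hx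
            subst hx
            rw [SetLike.mem_coe, hmem, polar_self', hz, mul_zero]; exact ⟨hzw, rfl⟩
        have h4 := Submodule.finrank_mono h3
        rw [hfr] at h4
        omega
  · rw [siegel_eq_refl_mul_refl hw hwz hz]
    exact mul_mem (refl_mem_R _ _) (refl_mem_R _ _)

/-- The orthogonal group is generated by reflections, outside the exceptional case. -/
theorem R_eq_O (hQ : ND Q) (hex : (∃ a : F, a ≠ 0 ∧ a ≠ -1) ∨ finrank F V ≠ 4) : R Q = O Q := by
  refine le_antisymm (R_le_O Q) ?_
  rw [← RS_eq_O hQ, RS, Subgroup.closure_le]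
  rintro _ (⟨v, _, rfl⟩ | ⟨w, z, hw, hwz, rfl⟩)
  · exact refl_mem_R Q v
  · exact siegel_mem_R hQ hex hw hwz

end Witt

end Cfsg.Agent.Lib.Orth
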