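import Mathlib
import Cfsg.Prelude.Def_Classical
import Cfsg.Prelude.Def_ClassicalGeometry
import Cfsg.Agent.Lib.Orth1

/-!
# Orthogonal groups: transfer to matrix isometry groups; determinants; Dickson parity
-/

set_option autoImplicit false
set_option linter.all false

namespace Cfsg.Agent.Lib.Orth

open Module QuadraticMap

/-! ### Matrices and linear equivalences -/

section Transfer

variable {F : Type*} [Field F] {ι : Type} [Fintype ι] [DecidableEq ι]

/-- `GL(ι, F)` as linear equivalences. -/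
noncomputable def glEquiv (ι : Type) [Fintype ι] [DecidableEq ι] (F : Type*) [Field F] :
    Matrix.GeneralLinearGroup ι F ≃* ((ι → F) ≃ₗ[F] (ι → F)) :=
  Matrix.GeneralLinearGroup.toLin.trans (LinearMap.GeneralLinearGroup.generalLinearEquiv F (ι → F))

theorem glEquiv_apply (g : Matrix.GeneralLinearGroup ι F) (v : ι → F) :
    glEquiv ι F g v = (g : Matrix ι ι F).mulVec v := rfl

theorem glEquiv_coe (g : Matrix.GeneralLinearGroup ι F) :
    (glEquiv ι F g : (ι → F) →ₗ[F] (ι → F)) = Matrix.toLin' (g : Matrix ι ι F) := rfl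

theorem det_glEquiv (g : Matrix.GeneralLinearGroup ι F) :
    LinearMap.det (glEquiv ι F g : (ι → F) →ₗ[F] (ι → F)) = (g : Matrix ι ι F).det := by
  rw [glEquiv_coe, LinearMap.det_toLin']

theorem mem_isometryGroup (Q : (ι → F) → F) (g : Matrix.GeneralLinearGroup ι F) :
    g ∈ Cfsg.isometryGroup F Q ↔ ∀ v, Q ((g : Matrix ι ι F).mulVec v) = Q v :=
  ⟨fun h v => h v 0, fun h v _ => h v⟩

/-- The isometry group of a quadratic form, as linear equivalences. -/
noncomputable def isoO (Q : QuadraticForm F (ι → F)) : ↥(Cfsg.isometryGroup F ⇑Q) ≃* ↥(O Q) where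
  toFun g := ⟨glEquiv ι F g.1, fun v => (mem_isometryGroup Q g.1).mp g.2 v⟩
  invFun g := ⟨(glEquiv ι F).symm g.1, (mem_isometryGroup Q _).mpr fun v => by
    rw [← glEquiv_apply, MulEquiv.apply_symm_apply]; exact g.2 v⟩
  left_inv g := Subtype.ext ((glEquiv ι F).symm_apply_apply g.1)
  right_inv g := Subtype.ext ((glEquiv ι F).apply_symm_apply g.1)
  map_mul' g h := Subtype.ext (map_mul (glEquiv ι F) g.1 h.1)

theorem isoO_apply (Q : QuadraticForm F (ι → F)) (g : ↥(Cfsg.isometryGroup F ⇑Q)) (v : ι → F) :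
    (isoO Q g).1 v = ((g : Matrix.GeneralLinearGroup ι F) : Matrix ι ι F).mulVec v := rfl

theorem isoO_coe (Q : QuadraticForm F (ι → F)) (g : ↥(Cfsg.isometryGroup F ⇑Q)) :
    ((isoO Q g).1 : (ι → F) →ₗ[F] (ι → F))
      = Matrix.toLin' ((g : Matrix.GeneralLinearGroup ι F) : Matrix ι ι F) := rfl

theorem det_isoO (Q : QuadraticForm F (ι → F)) (g : ↥(Cfsg.isometryGroup F ⇑Q)) :
    LinearMap.det ((isoO Q g).1 : (ι → F) →ₗ[F] (ι → F))
      = ((g : Matrix.GeneralLinearGroup ι F) : Matrix ι ι F).det := det_glEquiv g.1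

/-- A matrix acting as an element of `O Q` gives the corresponding element. -/
theorem coe_isoO_symm (Q : QuadraticForm F (ι → F)) (h : ↥(O Q)) :
    (((isoO Q).symm h : Matrix.GeneralLinearGroup ι F) : Matrix ι ι F)
      = LinearMap.toMatrix' (h.1 : (ι → F) →ₗ[F] (ι → F)) := by
  rw [← (isoO Q).apply_symm_apply h]
  rw [isoO_coe, LinearMap.toMatrix'_toLin', MulEquiv.symm_apply_apply]

/-- Matrix equality versus action. -/
theorem coe_eq_iff (Q : QuadraticForm F (ι → F)) (g : ↥(Cfsg.isometryGroup F ⇑Q))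
    (M : Matrix ι ι F) :
    ((g : Matrix.GeneralLinearGroup ι F) : Matrix ι ι F) = M ↔
      ∀ v, (isoO Q g).1 v = M.mulVec v := by
  constructor
  · rintro rfl v; rfl
  · intro h
    apply Matrix.toLin'.injective
    apply LinearMap.ext
    intro v
    rw [Matrix.toLin'_apply, Matrix.toLin'_apply]
    exact h v

theorem polarVec_dotProduct (Q : QuadraticForm F (ι → F)) (v x : ι → F) :
    Cfsg.polarVec ⇑Q v ⬝ᵥ x = polar Q v x := by
  have h1 : polar Q v x = (QuadraticMap.polarBilin Q v) x := rfl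
  rw [h1, LinearMap.pi_apply_eq_sum_univ (QuadraticMap.polarBilin Q v) x]
  simp only [dotProduct, Cfsg.polarVec, smul_eq_mul]
  refine Finset.sum_congr rfl fun i _ => ?_
  rw [mul_comm]
  congr 1
  change _ = polar Q v _
  congr 1
  funext j
  simp [Pi.single_apply, eq_comm]

theorem vecMulVec_mulVec' (u w x : ι → F) :
    (Matrix.vecMulVec u w).mulVec x = (w ⬝ᵥ x) • u := by
  rw [Matrix.vecMulVec_mulVec]
  ext i
  simp [mul_comm]

theorem reflectionMatrix_mulVec (Q : QuadraticForm F (ι → F)) (v x : ι → F) :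
    (Cfsg.reflectionMatrix ⇑Q v).mulVec x = refl Q v x := by
  rw [Cfsg.reflectionMatrix, Matrix.sub_mulVec, Matrix.one_mulVec, Matrix.smul_mulVec,
    vecMulVec_mulVec', polarVec_dotProduct, refl_apply, smul_smul, polar_comm Q v x]

theorem reflectionMatrix_eq (Q : QuadraticForm F (ι → F)) (g : ↥(Cfsg.isometryGroup F ⇑Q))
    (v : ι → F) :
    ((g : Matrix.GeneralLinearGroup ι F) : Matrix ι ι F) = Cfsg.reflectionMatrix ⇑Q v ↔
      (isoO Q g).1 = refl Q v := by
  rw [coe_eq_iff]
  constructor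
  · intro h; exact LinearEquiv.ext fun x => by rw [h, reflectionMatrix_mulVec]
  · intro h x; rw [h, reflectionMatrix_mulVec]

theorem siegelMatrix_mulVec (Q : QuadraticForm F (ι → F)) (u v x : ι → F) (c : F) :
    (Cfsg.siegelMatrix ⇑Q u v c).mulVec x
      = x + (c * polar Q x u) • v - (c * polar Q x v) • u := by
  rw [Cfsg.siegelMatrix, Matrix.add_mulVec, Matrix.one_mulVec, Matrix.smul_mulVec,
    Matrix.sub_mulVec, vecMulVec_mulVec', vecMulVec_mulVec', polarVec_dotProduct,
    polarVec_dotProduct, polar_comm Q u x, polar_comm Q v x]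
  module

theorem siegelMatrix_mulVec' (Q : QuadraticForm F (ι → F)) {u v : ι → F} (x : ι → F) (c : F)
    (hu : Q u = 0) (hv : Q v = 0) (huv : polar Q u v = 0) :
    (Cfsg.siegelMatrix ⇑Q u v c).mulVec x
      = siegel Q u (c • v) hu (by rw [polar_smul_right, huv, smul_zero]) x := by
  rw [siegelMatrix_mulVec, siegel_apply, map_smul', hv, polar_smul_right, smul_eq_mul]
  module

theorem siegelMatrix_eq (Q : QuadraticForm F (ι → F)) (g : ↥(Cfsg.isometryGroup F ⇑Q))
    {u v : ι → F} (c : F) (hu : Q u = 0) (hv : Q v = 0) (huv : polar Q u v = 0) :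
    ((g : Matrix.GeneralLinearGroup ι F) : Matrix ι ι F) = Cfsg.siegelMatrix ⇑Q u v c ↔
      (isoO Q g).1 = siegel Q u (c • v) hu (by rw [polar_smul_right, huv, smul_zero]) := by
  rw [coe_eq_iff]
  constructor
  · intro h; exact LinearEquiv.ext fun x => by rw [h, siegelMatrix_mulVec' Q x c hu hv huv]
  · intro h x; rw [h, siegelMatrix_mulVec' Q x c hu hv huv]

end Transfer

/-! ### Determinants -/

section Det

variable {F : Type*} [Field F] {V : Type*} [AddCommGroup V] [Module F V] [FiniteDimensional F V]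
  {Q : QuadraticForm F V}

theorem refl_coe_eq (v : V) : (refl Q v : V →ₗ[F] V)
    = LinearMap.transvection (-(Q v)⁻¹ • (QuadraticMap.polarBilin Q v)) v := by
  apply LinearMap.ext
  intro x
  rw [LinearMap.transvection.apply]
  change refl Q v x = x + (-(Q v)⁻¹ * polar Q v x) • v
  rw [refl_apply, polar_comm Q v x]
  module

theorem det_refl {v : V} (hv : Q v ≠ 0) : LinearMap.det (refl Q v : V →ₗ[F] V) = -1 := by
  rw [refl_coe_eq, LinearMap.transvection.det]
  change 1 + (-(Q v)⁻¹ * polar Q v v) = -1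
  rw [polar_self']
  field_simp
  ring

/-- The determinant of `refl Q v` with no hypothesis on `v`. -/
theorem det_refl' (v : V) : LinearMap.det (refl Q v : V →ₗ[F] V) = 1 ∨
    LinearMap.det (refl Q v : V →ₗ[F] V) = -1 := by
  by_cases hv : Q v = 0
  · left
    have : refl Q v = 1 := by
      apply LinearEquiv.ext; intro x; rw [refl_apply, hv]; simp
    rw [this]
    exact LinearMap.det_id
  · right; exact det_refl hv

theorem det_mul (g h : V ≃ₗ[F] V) : LinearMap.det ((g * h : V ≃ₗ[F] V) : V →ₗ[F] V)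
    = LinearMap.det (g : V →ₗ[F] V) * LinearMap.det (h : V →ₗ[F] V) := by
  rw [← LinearMap.det_comp]; rfl

theorem det_one : LinearMap.det ((1 : V ≃ₗ[F] V) : V →ₗ[F] V) = 1 := LinearMap.det_id

theorem det_inv_of (g : V ≃ₗ[F] V) (h : LinearMap.det (g : V →ₗ[F] V) = 1 ∨
    LinearMap.det (g : V →ₗ[F] V) = -1) : LinearMap.det ((g⁻¹ : V ≃ₗ[F] V) : V →ₗ[F] V) = 1 ∨
    LinearMap.det ((g⁻¹ : V ≃ₗ[F] V) : V →ₗ[F] V) = -1 := by
  have e := det_mul g g⁻¹
  rw [mul_inv_cancel, det_one] at e
  rcases h with h | h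
  · left; rw [h, one_mul] at e; exact e.symm
  · right; rw [h] at e; linear_combination e

theorem det_of_mem_O (hQ : ND Q) {g : V ≃ₗ[F] V} (hg : g ∈ O Q) :
    LinearMap.det (g : V →ₗ[F] V) = 1 ∨ LinearMap.det (g : V →ₗ[F] V) = -1 := by
  by_cases hex : ∃ a : F, a ≠ 0 ∧ a ≠ -1
  · rw [← R_eq_O hQ (Or.inl hex)] at hg
    induction hg using Subgroup.closure_induction with
    | mem x hx => obtain ⟨v, hv, rfl⟩ := hx; exact Or.inr (det_refl hv)
    | one => exact Or.inl det_one
    | mul x y _ _ hx hy =>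
      rw [det_mul]
      rcases hx with hx | hx <;> rcases hy with hy | hy <;> simp [hx, hy]
    | inv x _ hx => exact det_inv_of x hx
  · push Not at hex
    right
    apply hex
    have := LinearEquiv.det g
    exact (LinearEquiv.isUnit_det' g).ne_zero

end Det

end Cfsg.Agent.Lib.Orth
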