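import Mathlib
import Cfsg.Agent.Lib.Orth1
import Cfsg.Agent.Lib.Orth2

/-!
# Orthogonal groups: Dickson parity, spinor norm over finite fields of odd order
-/

set_option autoImplicit false
set_option linter.all false

namespace Cfsg.Agent.Lib.Orth

open Module QuadraticMap

section Parity

variable {F : Type*} [Field F] {V : Type*} [AddCommGroup V] [Module F V] [FiniteDimensional F V]
  {Q : QuadraticForm F V}

/-- The fixed space. -/
def fx (g : V ≃ₗ[F] V) : Submodule F V := LinearMap.eqLocus (g : V →ₗ[F] V) LinearMap.id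

theorem mem_fx {g : V ≃ₗ[F] V} {x : V} : x ∈ fx g ↔ g x = x := Iff.rfl

theorem fx_one : fx (1 : V ≃ₗ[F] V) = ⊤ := by
  ext x; simp [mem_fx]

theorem finrank_inf_ker_add_one (X : Submodule F V) (f : V →ₗ[F] F) (h : ∃ x ∈ X, f x ≠ 0) :
    finrank F ↥(X ⊓ LinearMap.ker f) + 1 = finrank F X := by
  obtain ⟨x, hx, hfx⟩ := h
  have h1 := LinearMap.finrank_range_add_finrank_ker (f.comp X.subtype)
  have h2 : LinearMap.range (f.comp X.subtype) = ⊤ := by
    rw [LinearMap.range_eq_top]
    intro a
    refine ⟨(a * (f x)⁻¹) • ⟨x, hx⟩, ?_⟩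
    change f ((a * (f x)⁻¹) • x) = a
    rw [map_smul, smul_eq_mul, mul_assoc, inv_mul_cancel₀ hfx, mul_one]
  rw [h2, finrank_top, finrank_self] at h1
  have h3 : finrank F ↥(X ⊓ LinearMap.ker f) = finrank F (LinearMap.ker (f.comp X.subtype)) := by
    have e : LinearMap.ker (f.comp X.subtype) = (LinearMap.ker f).comap X.subtype := by
      rw [LinearMap.ker_comp]
    have e2 : ((LinearMap.ker f).comap X.subtype).map X.subtype = X ⊓ LinearMap.ker f := by
      rw [Submodule.map_comap_subtype]
    rw [e, ← e2]
    exact (LinearEquiv.finrank_eq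
      (Submodule.equivMapOfInjective X.subtype X.injective_subtype _)).symm
  omega

theorem finrank_le_inf_ker_add_one (X : Submodule F V) (f : V →ₗ[F] F) :
    finrank F X ≤ finrank F ↥(X ⊓ LinearMap.ker f) + 1 := by
  by_cases h : ∃ x ∈ X, f x ≠ 0
  · exact (finrank_inf_ker_add_one X f h).ge
  · push Not at h
    have : X ⊓ LinearMap.ker f = X := inf_eq_left.mpr fun x hx => h x hx
    rw [this]; omega

/-- `v ⟂ Fix g` implies `v ∈ Im (g - 1)`. -/
theorem exists_of_perp_fx (hQ : ND Q) {g : V ≃ₗ[F] V} (hg : g ∈ O Q) {v : V}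
    (hv : ∀ x, g x = x → polar Q x v = 0) : ∃ x, g x - x = v := by
  let T : V →ₗ[F] V := (g : V →ₗ[F] V) - LinearMap.id
  have h1 : perp Q (LinearMap.range T) ≤ fx g := by
    intro y hy
    rw [mem_perp] at hy
    have : ∀ x, polar Q (g x) (y - g y) = 0 := by
      intro x
      have h2 : polar Q (g x - x) y = 0 := hy (T x) ⟨x, rfl⟩
      rw [polar_sub_left] at h2
      rw [polar_sub_right, polar_map hg]
      exact h2
    have h3 : y - g y = 0 := by
      apply hQ.eq_zero
      intro z
      rw [polar_comm]
      have := this (g.symm z)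
      rwa [LinearEquiv.apply_symm_apply] at this
    rw [mem_fx]; exact (sub_eq_zero.mp h3).symm
  have h2 : v ∈ perp Q (perp Q (LinearMap.range T)) := by
    rw [mem_perp]
    intro x hx
    exact hv x (h1 hx)
  rw [perp_perp hQ] at h2
  obtain ⟨x, hx⟩ := h2
  exact ⟨x, hx⟩

/-- Multiplying by a reflection changes the dimension of the fixed space by exactly one. -/
theorem finrank_fx_refl_mul (hQ : ND Q) {g : V ≃ₗ[F] V} (hg : g ∈ O Q) {v : V} (hv : Q v ≠ 0) :
    finrank F (fx (refl Q v * g)) = finrank F (fx g) + 1 ∨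
      finrank F (fx (refl Q v * g)) + 1 = finrank F (fx g) := by
  have hv0 : v ≠ 0 := by rintro rfl; exact hv (QuadraticMap.map_zero Q)
  by_cases hr : ∃ x, g x - x = v
  · left
    obtain ⟨x, hx⟩ := hr
    have hgx : g x = x + v := by rw [← hx]; abel
    have hxv : polar Q x v = - Q v := by
      have := hg x
      rw [hgx, map_add'] at this
      linear_combination this
    have hfix : refl Q v (g x) = x := by
      rw [hgx, refl_apply, polar_add_left, hxv, polar_self']
      match_scalars
      · field_simp
      · field_simp; ring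
    have hle : fx g ≤ fx (refl Q v * g) := by
      intro y hy
      rw [mem_fx] at hy ⊢
      rw [LinearEquiv.mul_apply, hy]
      apply refl_of_orth
      rw [← hx, polar_sub_right]
      have := polar_map hg y x
      rw [hy] at this
      rw [this, sub_self]
    have hlt : fx g < fx (refl Q v * g) := by
      refine lt_of_le_of_ne hle fun heq => ?_
      have : x ∈ fx g := by
        rw [heq, mem_fx, LinearEquiv.mul_apply]; exact hfix
      rw [mem_fx, hgx] at this
      exact hv0 (by simpa using this)
    have h1 := Submodule.finrank_lt_finrank_of_lt hlt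
    let f : V →ₗ[F] F := (QuadraticMap.polarBilin Q v).comp (g : V →ₗ[F] V)
    have h2 : fx (refl Q v * g) ⊓ LinearMap.ker f ≤ fx g := by
      rintro y ⟨hy1, hy2⟩
      have hy2' : polar Q v (g y) = 0 := hy2
      rw [SetLike.mem_coe, mem_fx, LinearEquiv.mul_apply, refl_of_orth (by
        rw [polar_comm]; exact hy2')] at hy1
      exact hy1
    have h3 := Submodule.finrank_mono h2
    have h4 := finrank_le_inf_ker_add_one (fx (refl Q v * g)) f
    omega
  · right
    have hex : ∃ x ∈ fx g, (QuadraticMap.polarBilin Q v) x ≠ 0 := by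
      by_contra hcon
      push Not at hcon
      apply hr
      apply exists_of_perp_fx hQ hg
      intro x hx
      rw [polar_comm]
      exact hcon x hx
    have h1 := finrank_inf_ker_add_one (fx g) (QuadraticMap.polarBilin Q v) hex
    have h2 : fx (refl Q v * g) = fx g ⊓ LinearMap.ker (QuadraticMap.polarBilin Q v) := by
      ext y
      rw [mem_fx, Submodule.mem_inf, mem_fx, LinearMap.mem_ker, LinearEquiv.mul_apply]
      change _ ↔ _ ∧ polar Q v y = 0
      constructor
      · intro h
        have h3 : g y = refl Q v y := by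
          have h5 : refl Q v (refl Q v (g y)) = g y := (refl Q v).left_inv (g y)
          rw [h] at h5; exact h5.symm
        rw [refl_apply] at h3
        by_cases h4 : polar Q y v = 0
        · rw [h4] at h3
          refine ⟨by simpa using h3, by rw [polar_comm]; exact h4⟩
        · exfalso
          apply hr
          refine ⟨(-(polar Q y v)⁻¹ * Q v) • y, ?_⟩
          rw [map_smul, ← smul_sub, h3]
          match_scalars
          · ring
          · field_simp
      · rintro ⟨h3, h4⟩
        rw [h3]; exact refl_of_orth (by rw [polar_comm]; exact h4)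
    rw [h2]; exact h1

/-- The product of a list of reflections. -/
def rprod (Q : QuadraticForm F V) (vs : List V) : V ≃ₗ[F] V := (vs.map (refl Q)).prod

theorem rprod_nil : rprod Q [] = 1 := rfl

theorem rprod_cons (v : V) (vs : List V) : rprod Q (v :: vs) = refl Q v * rprod Q vs := by
  simp [rprod]

theorem rprod_append (vs ws : List V) : rprod Q (vs ++ ws) = rprod Q vs * rprod Q ws := by
  simp [rprod]

theorem rprod_mem (vs : List V) : rprod Q vs ∈ O Q := by
  induction vs with
  | nil => exact one_mem _
  | cons v vs ih => rw [rprod_cons]; exact mul_mem (refl_mem Q v) ih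

theorem rprod_inv (vs : List V) : (rprod Q vs)⁻¹ = rprod Q vs.reverse := by
  induction vs with
  | nil => simp [rprod]
  | cons v vs ih =>
    rw [rprod_cons, mul_inv_rev, ih, refl_inv, List.reverse_cons, rprod_append, rprod_cons,
      rprod_nil, mul_one]

theorem exists_rprod {g : V ≃ₗ[F] V} (hg : g ∈ R Q) :
    ∃ vs : List V, (∀ v ∈ vs, Q v ≠ 0) ∧ g = rprod Q vs := by
  induction hg using Subgroup.closure_induction with
  | mem x hx =>
    obtain ⟨v, hv, rfl⟩ := hx
    exact ⟨[v], by simpa using hv, by simp [rprod]⟩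
  | one => exact ⟨[], by simp, rfl⟩
  | mul x y _ _ hx hy =>
    obtain ⟨vs, h1, rfl⟩ := hx
    obtain ⟨ws, h2, rfl⟩ := hy
    refine ⟨vs ++ ws, ?_, (rprod_append vs ws).symm⟩
    intro v hv
    rcases List.mem_append.mp hv with hv | hv
    · exact h1 v hv
    · exact h2 v hv
  | inv x _ hx =>
    obtain ⟨vs, h1, rfl⟩ := hx
    exact ⟨vs.reverse, fun v hv => h1 v (List.mem_reverse.mp hv), rprod_inv vs⟩

theorem even_finrank_fx (hQ : ND Q) (vs : List V) (h : ∀ v ∈ vs, Q v ≠ 0) :
    Even (finrank F (fx (rprod Q vs)) + vs.length + finrank F V) := by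
  induction vs with
  | nil =>
    rw [rprod_nil, fx_one, finrank_top]
    simp
  | cons v vs ih =>
    rw [rprod_cons, List.length_cons]
    have h1 := ih (fun w hw => h w (List.mem_cons_of_mem v hw))
    have h2 := finrank_fx_refl_mul hQ (rprod_mem vs) (h v List.mem_cons_self)
    rw [Nat.even_iff] at h1 ⊢
    omega

/-- The Dickson sign of an isometry. -/
noncomputable def dsign (g : V ≃ₗ[F] V) : ℤˣ := (-1) ^ (finrank F (fx g) + finrank F V)

theorem dsign_rprod (hQ : ND Q) (vs : List V) (h : ∀ v ∈ vs, Q v ≠ 0) :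
    dsign (rprod Q vs) = (-1) ^ vs.length := by
  have h1 := even_finrank_fx hQ vs h
  rw [dsign]
  have h2 : ((-1 : ℤˣ)) ^ (finrank F (fx (rprod Q vs)) + finrank F V) * (-1) ^ vs.length = 1 := by
    rw [← pow_add]
    apply Even.neg_one_pow
    rw [Nat.even_iff] at h1 ⊢
    omega
  have h3 : ((-1 : ℤˣ)) ^ vs.length * (-1) ^ vs.length = 1 := by
    rw [← pow_add]; apply Even.neg_one_pow; rw [Nat.even_iff]; omega
  exact mul_right_cancel (h2.trans h3.symm)

theorem dsign_refl (hQ : ND Q) {v : V} (hv : Q v ≠ 0) : dsign (refl Q v) = -1 := by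
  have := dsign_rprod hQ [v] (by simpa using hv)
  simpa [rprod] using this

theorem dsign_mul (hQ : ND Q) {g h : V ≃ₗ[F] V} (hg : g ∈ R Q) (hh : h ∈ R Q) :
    dsign (g * h) = dsign g * dsign h := by
  obtain ⟨vs, h1, rfl⟩ := exists_rprod hg
  obtain ⟨ws, h2, rfl⟩ := exists_rprod hh
  rw [← rprod_append, dsign_rprod hQ _ h1, dsign_rprod hQ _ h2, dsign_rprod hQ, List.length_append,
    pow_add]
  intro v hv
  rcases List.mem_append.mp hv with hv | hv
  · exact h1 v hv
  · exact h2 v hv

/-- The Dickson sign homomorphism, when the orthogonal group is generated by reflections. -/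
noncomputable def dhom (hQ : ND Q) (hR : R Q = O Q) : ↥(O Q) →* ℤˣ where
  toFun g := dsign g.1
  map_one' := by
    have := dsign_rprod (Q := Q) hQ [] (by simp)
    rw [rprod_nil] at this
    simpa using this
  map_mul' g h := dsign_mul hQ (by rw [hR]; exact g.2) (by rw [hR]; exact h.2)

/-- The determinant of a product of reflections. -/
theorem det_rprod (vs : List V) (h : ∀ v ∈ vs, Q v ≠ 0) :
    LinearMap.det (rprod Q vs : V →ₗ[F] V) = (-1) ^ vs.length := by
  induction vs with
  | nil => rw [rprod_nil, det_one]; simp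
  | cons v vs ih =>
    rw [rprod_cons, det_mul, det_refl (h v List.mem_cons_self),
      ih (fun w hw => h w (List.mem_cons_of_mem v hw)), List.length_cons, pow_succ]
    ring

end Parity

/-! ### The spinor norm via permutation signs -/

section Spin

variable {F : Type*} [Field F] [Finite F] {V : Type*} [AddCommGroup V] [Module F V]
  [FiniteDimensional F V]

open Classical in
/-- The permutation induced on the vectors of norm `c`. -/
def permC (Q : QuadraticForm F V) (c : F) : ↥(O Q) →* Equiv.Perm {x : V // Q x = c} where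
  toFun g :=
    { toFun := fun x => ⟨g.1 x.1, by rw [g.2]; exact x.2⟩
      invFun := fun x => ⟨g.1.symm x.1, by
        have := g.2 (g.1.symm x.1)
        rw [LinearEquiv.apply_symm_apply] at this
        rw [← this]; exact x.2⟩
      left_inv := fun x => Subtype.ext (g.1.symm_apply_apply x.1)
      right_inv := fun x => Subtype.ext (g.1.apply_symm_apply x.1) }
  map_one' := rfl
  map_mul' g h := rfl

theorem permC_apply (Q : QuadraticForm F V) (c : F) (g : ↥(O Q)) (x : {x : V // Q x = c}) :
    (permC Q c g x : V) = g.1 x.1 := rfl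

theorem finite_V (F : Type*) [Field F] [Finite F] (V : Type*) [AddCommGroup V] [Module F V]
    [FiniteDimensional F V] : Finite V := Module.finite_of_finite F

open Classical in
/-- The sign of the permutation induced on the vectors of norm `c`. -/
noncomputable def spin (Q : QuadraticForm F V) (c : F) : ↥(O Q) →* ℤˣ :=
  haveI : Finite V := finite_V F V
  haveI : Fintype {x : V // Q x = c} := Fintype.ofFinite _
  Equiv.Perm.sign.comp (permC Q c)

theorem neg_mem_O (Q : QuadraticForm F V) : (LinearEquiv.neg F : V ≃ₗ[F] V) ∈ O Q := by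
  intro v
  change Q (-v) = Q v
  exact QuadraticMap.map_neg Q v

open Classical in
/-- The value of the spinor character on a reflection. -/
theorem spin_refl {Q : QuadraticForm F V} (h2 : (2 : F) ≠ 0) {c : F} (hc : c ≠ 0) {v : V}
    (hv : Q v ≠ 0) :
    spin Q c ⟨refl Q v, refl_mem Q v⟩ = if IsSquare (c * Q v) then -1 else 1 := by
  classical
  haveI : Finite V := finite_V F V
  haveI : Fintype {x : V // Q x = c} := Fintype.ofFinite _
  have hv0 : v ≠ 0 := by rintro rfl; exact hv (QuadraticMap.map_zero Q)
  set s : ↥(O Q) := ⟨refl Q v, refl_mem Q v⟩ with hs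
  set n : ↥(O Q) := ⟨LinearEquiv.neg F, neg_mem_O Q⟩ with hn
  have hspin : ∀ g : ↥(O Q), spin Q c g = Equiv.Perm.sign (permC Q c g) := by
    intro g
    unfold spin
    rw [MonoidHom.comp_apply]
    congr!
  have hss : s * s = 1 := Subtype.ext (refl_mul_self Q v)
  have hnn : n * n = 1 := Subtype.ext (LinearEquiv.ext fun x => neg_neg x)
  have hns : n * s = s * n := Subtype.ext (LinearEquiv.ext fun x => (map_neg (refl Q v) x).symm)
  have hnsns : (n * s) * (n * s) = 1 := by
    rw [mul_assoc, ← mul_assoc s n s, ← hns, mul_assoc n s s, hss, mul_one, hnn]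
  have two_x : ∀ x : V, -x = x → x = 0 := by
    intro x hx
    have : (2 : F) • x = 0 := by
      rw [two_smul]; nth_rewrite 1 [← hx]; abel
    exact (smul_eq_zero.mp this).resolve_left h2
  have hnfix : Fintype.card (Function.fixedPoints (permC Q c n)) = 0 := by
    rw [Fintype.card_eq_zero_iff]
    constructor
    rintro ⟨⟨x, hx⟩, hfx⟩
    have h1 : -x = x := congrArg Subtype.val hfx
    have := two_x x h1
    rw [this, QuadraticMap.map_zero] at hx
    exact hc hx.symm
  have hsq : ∀ g : ↥(O Q), g * g = 1 → (permC Q c g) ^ 2 = 1 := by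
    intro g hg
    rw [pow_two, ← map_mul, hg, map_one]
  have e1 : spin Q c n = (-1) ^ (Fintype.card {x : V // Q x = c} / 2) := by
    rw [hspin, Equiv.Perm.sign_of_pow_two_eq_one (hsq n hnn), hnfix, Nat.sub_zero]
  -- fixed points of `n * s`
  let K := Fintype.card (Function.fixedPoints (permC Q c (n * s)))
  have e2 : spin Q c (n * s) = (-1) ^ ((Fintype.card {x : V // Q x = c} - K) / 2) := by
    rw [hspin, Equiv.Perm.sign_of_pow_two_eq_one (hsq _ hnsns)]
  have hKle : K ≤ Fintype.card {x : V // Q x = c} := by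
    exact Fintype.card_subtype_le _
  have hcard : 2 ∣ Fintype.card {x : V // Q x = c} := by
    have h4 : (permC Q c n) ^ 2 ^ 1 = 1 := by rw [pow_one]; exact hsq n hnn
    have h3 := Equiv.Perm.card_compl_support_modEq (p := 2) (n := 1) h4
    have h5 : (permC Q c n).supportᶜ.card = 0 := by
      rw [← hnfix]
      rw [Fintype.card_of_subtype (s := (permC Q c n).supportᶜ)]
      intro x
      rw [Finset.mem_compl, Equiv.Perm.notMem_support]
      rfl
    rw [h5] at h3
    exact (Nat.modEq_zero_iff_dvd).mp h3.symm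
  -- describe `K`
  haveI : Fintype F := Fintype.ofFinite F
  have h2v : 2 * Q v ≠ 0 := mul_ne_zero h2 hv
  have hfp : ∀ x : {x : V // Q x = c}, x ∈ Function.fixedPoints (permC Q c (n * s)) →
      ((2 * Q v)⁻¹ * polar Q x.1 v) • v = x.1 := by
    intro x hx
    have h1 : -(refl Q v x.1) = x.1 := congrArg Subtype.val hx
    rw [refl_apply] at h1
    have h3 : (2 : F) • x.1 = ((Q v)⁻¹ * polar Q x.1 v) • v := by
      rw [two_smul]; nth_rewrite 1 [← h1]; abel
    calc ((2 * Q v)⁻¹ * polar Q x.1 v) • v = ((2 : F)⁻¹ * ((Q v)⁻¹ * polar Q x.1 v)) • v := by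
          rw [mul_inv, mul_assoc]
      _ = (2 : F)⁻¹ • (2 : F) • x.1 := by rw [h3, smul_smul]
      _ = x.1 := by rw [smul_smul, inv_mul_cancel₀ h2, one_smul]
  have hKe : K = Fintype.card {a : F // a ^ 2 * Q v = c} := by
    apply Fintype.card_congr
    refine ⟨fun x => ⟨(2 * Q v)⁻¹ * polar Q x.1.1 v, ?_⟩, fun a => ⟨⟨a.1 • v, ?_⟩, ?_⟩, ?_, ?_⟩
    · rw [← map_smul', hfp x.1 x.2]; exact x.1.2
    · rw [map_smul']; exact a.2
    · apply Subtype.ext
      change -(refl Q v (a.1 • v)) = a.1 • v
      rw [map_smul, refl_self hv]; simp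
    · intro x
      exact Subtype.ext (Subtype.ext (hfp x.1 x.2))
    · intro a
      apply Subtype.ext
      change (2 * Q v)⁻¹ * polar Q (a.1 • v) v = a.1
      rw [polar_smul_left, polar_self', smul_eq_mul]
      field_simp
  have hKv : K = if IsSquare (c * Q v) then 2 else 0 := by
    rw [hKe]
    split_ifs with hsqr
    · obtain ⟨r, hr⟩ := hsqr
      have hr0 : r ≠ 0 := by rintro rfl; rw [mul_zero] at hr; exact mul_ne_zero hc hv hr
      have ha0 : (r / Q v) ^ 2 * Q v = c := by
        field_simp
        linear_combination -hr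
      have hne : r / Q v ≠ -(r / Q v) := by
        intro h
        have : 2 * (r / Q v) = 0 := by linear_combination h
        exact mul_ne_zero h2 (div_ne_zero hr0 hv) this
      rw [Fintype.card_of_subtype (s := {r / Q v, -(r / Q v)})]
      · exact Finset.card_pair hne
      · intro a
        rw [Finset.mem_insert, Finset.mem_singleton]
        constructor
        · rintro (rfl | rfl)
          · exact ha0
          · rw [neg_sq]; exact ha0
        · intro h
          have : a ^ 2 = (r / Q v) ^ 2 := mul_right_cancel₀ hv (h.trans ha0.symm)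
          exact sq_eq_sq_iff_eq_or_eq_neg.mp this
    · rw [Fintype.card_eq_zero_iff]
      constructor
      rintro ⟨a, ha⟩
      exact hsqr ⟨a * Q v, by rw [← ha]; ring⟩
  have e3 : spin Q c s = spin Q c n * spin Q c (n * s) := by
    rw [← map_mul, ← mul_assoc, hnn, one_mul]
  rw [e3, e1, e2, ← pow_add]
  obtain ⟨k, hk⟩ := hcard
  rw [hk] at hKle ⊢
  split_ifs at hKv ⊢ with hsqr
  · rw [hKv] at hKle ⊢
    apply Odd.neg_one_pow
    rw [Nat.odd_iff]; omega
  · rw [hKv]
    apply Even.neg_one_pow
    rw [Nat.even_iff]; omega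

end Spin

end Cfsg.Agent.Lib.Orth
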