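import Mathlib
import Cfsg.Agent.Lib.Orth1
import Cfsg.Agent.Lib.Orth2
import Cfsg.Agent.Lib.Orth3

/-!
# Orthogonal groups over finite fields: universality, the derived subgroup
-/

set_option autoImplicit false
set_option linter.all false

namespace Cfsg.Agent.Lib.Orth

open Module QuadraticMap

section Restrict

variable {F : Type*} [Field F] {V : Type*} [AddCommGroup V] [Module F V] {Q : QuadraticForm F V}

/-- Restriction of a quadratic form to a subspace. -/
abbrev res (Q : QuadraticForm F V) (X : Submodule F V) : QuadraticForm F X := Q.comp X.subtype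

theorem res_apply (Q : QuadraticForm F V) (X : Submodule F V) (x : X) : res Q X x = Q (x : V) := rfl

theorem polar_res (Q : QuadraticForm F V) (X : Submodule F V) (x y : X) :
    polar (res Q X) x y = polar Q (x : V) (y : V) := rfl

theorem nd_res {X : Submodule F V} (h : ∀ x ∈ X, (∀ y ∈ X, polar Q x y = 0) → x = 0) :
    ND (res Q X) := by
  apply nd_of_forall
  intro x hx
  apply Subtype.ext
  apply h x.1 x.2
  intro y hy
  exact hx ⟨y, hy⟩

theorem nd_res_iff {X : Submodule F V} :
    ND (res Q X) ↔ ∀ x ∈ X, (∀ y ∈ X, polar Q x y = 0) → x = 0 := by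
  refine ⟨fun h x hx hy => ?_, nd_res⟩
  have : (⟨x, hx⟩ : X) = 0 := h.eq_zero fun y => hy y.1 y.2
  exact congrArg Subtype.val this

variable [FiniteDimensional F V]

theorem nd_res_perp (hQ : ND Q) {X : Submodule F V} (hX : ND (res Q X)) :
    ND (res Q (perp Q X)) := by
  rw [nd_res_iff] at hX
  apply nd_res
  intro x hx hy
  have h1 : x ∈ perp Q (perp Q X) := by
    rw [mem_perp]
    intro y hy'
    rw [polar_comm]; exact hy y hy'
  rw [perp_perp hQ] at h1
  apply hX x h1
  intro y hy'
  rw [polar_comm]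
  exact (mem_perp.mp hx) y hy'

omit [FiniteDimensional F V] in
theorem disjoint_perp {X : Submodule F V} (hX : ND (res Q X)) : X ⊓ perp Q X = ⊥ := by
  rw [nd_res_iff] at hX
  rw [eq_bot_iff]
  rintro x ⟨hx, hx'⟩
  rw [Submodule.mem_bot]
  apply hX x hx
  intro y hy
  rw [polar_comm]; exact (mem_perp.mp hx') y hy

theorem isCompl_perp (hQ : ND Q) {X : Submodule F V} (hX : ND (res Q X)) :
    IsCompl X (perp Q X) := by
  refine ⟨disjoint_iff.mpr (disjoint_perp hX), ?_⟩
  rw [codisjoint_iff]
  apply Submodule.eq_top_of_finrank_eq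
  have h1 := Submodule.finrank_sup_add_finrank_inf_eq X (perp Q X)
  rw [disjoint_perp hX, finrank_bot, finrank_perp hQ] at h1
  have := Submodule.finrank_le X
  omega

omit [FiniteDimensional F V] in
theorem mem_perp_span_singleton {v z : V} :
    z ∈ perp Q (Submodule.span F {v}) ↔ polar Q v z = 0 := by
  rw [mem_perp]
  constructor
  · intro h; exact h v (Submodule.mem_span_singleton_self v)
  · intro h x hx
    obtain ⟨a, rfl⟩ := Submodule.mem_span_singleton.mp hx
    rw [polar_smul_left, h, smul_zero]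

omit [FiniteDimensional F V] in
theorem mem_perp_span_pair {v w z : V} :
    z ∈ perp Q (Submodule.span F {v, w}) ↔ polar Q v z = 0 ∧ polar Q w z = 0 := by
  rw [mem_perp]
  constructor
  · intro h
    exact ⟨h v (Submodule.subset_span (by simp)), h w (Submodule.subset_span (by simp))⟩
  · rintro ⟨h1, h2⟩ x hx
    obtain ⟨a, b, rfl⟩ := Submodule.mem_span_pair.mp hx
    rw [polar_add_left, polar_smul_left, polar_smul_left, h1, h2]; simp

end Restrict

section General

variable {F : Type*} [Field F] {V : Type*} [AddCommGroup V] [Module F V] [FiniteDimensional F V]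
  {Q : QuadraticForm F V}

theorem exists_Q_ne_zero (hQ : ND Q) (h1 : 1 ≤ finrank F V) : ∃ v, Q v ≠ 0 := by
  by_contra hcon
  push Not at hcon
  have hnt : Nontrivial V := Module.nontrivial_of_finrank_pos (R := F) (by omega)
  obtain ⟨x, hx⟩ := exists_ne (0 : V)
  apply hx
  apply hQ.eq_zero
  intro y
  unfold polar
  rw [hcon, hcon, hcon]; ring

/-- Transitivity on non-zero vectors of the same norm. -/
theorem exists_map_eq (hQ : ND Q) {u v : V} (hu : u ≠ 0) (hv : v ≠ 0) (h : Q u = Q v) :
    ∃ g : ↥(O Q), g.1 u = v := by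
  obtain ⟨g, hg, hg2⟩ := witt_family hQ 1 ![u] ![v]
    (LinearIndependent.of_subsingleton 0 (by simpa using hu))
    (LinearIndependent.of_subsingleton 0 (by simpa using hv))
    (by intro i; fin_cases i; exact h)
    (by
      intro i j; fin_cases i; fin_cases j
      change polar Q u u = polar Q v v
      rw [polar_self', polar_self', h])
  exact ⟨⟨g, RS_le_O Q hg⟩, hg2 0⟩

/-- Transitivity on pairs. -/
theorem exists_map_pair (hQ : ND Q) {u u' v v' : V} (hu : LinearIndependent F ![u, u'])
    (hv : LinearIndependent F ![v, v']) (h : Q u = Q v) (h' : Q u' = Q v')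
    (hp : polar Q u u' = polar Q v v') :
    ∃ g : ↥(O Q), g.1 u = v ∧ g.1 u' = v' := by
  obtain ⟨g, hg, hg2⟩ := witt_family hQ 2 ![u, u'] ![v, v'] hu hv
    (by intro i; fin_cases i; exact h; exact h')
    (by
      intro i j; fin_cases i <;> fin_cases j
      · change polar Q u u = polar Q v v
        rw [polar_self', polar_self', h]
      · exact hp
      · change polar Q u' u = polar Q v' v
        rw [polar_comm Q u' u, polar_comm Q v' v]; exact hp
      · change polar Q u' u' = polar Q v' v'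
        rw [polar_self', polar_self', h'])
  exact ⟨⟨g, RS_le_O Q hg⟩, hg2 0, hg2 1⟩

/-- The reflection as an element of `O Q`. -/
def rf (Q : QuadraticForm F V) (v : V) : ↥(O Q) := ⟨refl Q v, refl_mem Q v⟩

theorem conj_rf (g : ↥(O Q)) (v : V) : g * rf Q v * g⁻¹ = rf Q (g.1 v) :=
  Subtype.ext (conj_refl g.2 v)

theorem rf_mul_self (v : V) : rf Q v * rf Q v = 1 := Subtype.ext (refl_mul_self Q v)

theorem rf_smul {a : F} (ha : a ≠ 0) (v : V) : rf Q (a • v) = rf Q v :=
  Subtype.ext (refl_smul Q ha v)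

/-- Reflections in vectors whose norms are in the same square class are conjugate. -/
theorem exists_conj_rf (hQ : ND Q) {u v : V} (hu : Q u ≠ 0) (hv : Q v ≠ 0) {a : F}
    (h : Q u = a ^ 2 * Q v) : ∃ g : ↥(O Q), g * rf Q v * g⁻¹ = rf Q u := by
  have ha : a ≠ 0 := by rintro rfl; apply hu; rw [h]; ring
  have hu0 : u ≠ 0 := by rintro rfl; exact hu (QuadraticMap.map_zero Q)
  have hv0 : v ≠ 0 := by rintro rfl; exact hv (QuadraticMap.map_zero Q)
  obtain ⟨g, hg⟩ := exists_map_eq hQ (smul_ne_zero ha hv0) hu0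
    (by rw [map_smul', h])
  exact ⟨g, by rw [← rf_smul ha v, conj_rf, hg]⟩

/-- The product of reflections as an element of `O Q`. -/
def rp (Q : QuadraticForm F V) (vs : List V) : ↥(O Q) := (vs.map (rf Q)).prod

theorem rp_coe (vs : List V) : (rp Q vs : V ≃ₗ[F] V) = rprod Q vs := by
  induction vs with
  | nil => rfl
  | cons v vs ih =>
    rw [rprod_cons, ← ih]
    simp [rp, rf]

theorem exists_rp (hR : R Q = O Q) (g : ↥(O Q)) :
    ∃ vs : List V, (∀ v ∈ vs, Q v ≠ 0) ∧ g = rp Q vs := by
  obtain ⟨vs, h1, h2⟩ := exists_rprod (Q := Q) (g := g.1) (by rw [hR]; exact g.2)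
  exact ⟨vs, h1, Subtype.ext (by rw [h2, rp_coe])⟩

theorem closure_rf (hR : R Q = O Q) : Subgroup.closure {g : ↥(O Q) | ∃ v, Q v ≠ 0 ∧ g = rf Q v} = ⊤ := by
  rw [eq_top_iff]
  rintro g -
  obtain ⟨vs, h1, rfl⟩ := exists_rp hR g
  apply Subgroup.list_prod_mem
  intro x hx
  obtain ⟨v, hv, rfl⟩ := List.mem_map.mp hx
  exact Subgroup.subset_closure ⟨v, h1 v hv, rfl⟩

theorem conj_eq_abel {G A : Type*} [Group G] [CommGroup A] (f : G →* A) (g x : G) :
    f (g * x * g⁻¹) = f x := by
  rw [map_mul, map_mul, map_inv, mul_comm (f g), mul_inv_cancel_right]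

end General

section Finite

variable {F : Type*} [Field F] [Finite F] {V : Type*} [AddCommGroup V] [Module F V]
  [FiniteDimensional F V] {Q : QuadraticForm F V}

theorem exists_sq_of_two_eq_zero (h2 : (2 : F) = 0) (a : F) : ∃ b : F, b ^ 2 = a := by
  haveI : CharP F 2 := CharTwo.of_one_ne_zero_of_two_eq_zero one_ne_zero h2
  obtain ⟨b, hb⟩ := FiniteField.isSquare_of_char_two (ringChar.eq F 2) a
  exact ⟨b, by rw [pow_two]; exact hb.symm⟩

theorem ringChar_ne_two (h2 : (2 : F) ≠ 0) : ringChar F ≠ 2 := by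
  intro hchar
  haveI := ringChar.of_eq hchar
  exact h2 (CharTwo.two_eq_zero (R := F))

theorem isSquare_mul_iff (h2 : (2 : F) ≠ 0) {a b : F} (ha : a ≠ 0) (hb : b ≠ 0) :
    IsSquare (a * b) ↔ (IsSquare a ↔ IsSquare b) := by
  classical
  haveI : Fintype F := Fintype.ofFinite F
  rw [← quadraticChar_one_iff_isSquare (mul_ne_zero ha hb), map_mul,
    ← quadraticChar_one_iff_isSquare ha, ← quadraticChar_one_iff_isSquare hb]
  rcases quadraticChar_dichotomy ha with h | h <;> rcases quadraticChar_dichotomy hb with h' | h' <;>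
    rw [h, h'] <;> decide

/-- In odd characteristic the values of a binary diagonal form. -/
theorem exists_binary (h2 : (2 : F) ≠ 0) {a b : F} (ha : a ≠ 0) (hb : b ≠ 0) (c : F) :
    ∃ x y : F, a * x ^ 2 + b * y ^ 2 = c := by
  haveI : Fintype F := Fintype.ofFinite F
  have hcard : Fintype.card F % 2 = 1 := by
    apply FiniteField.odd_card_of_char_ne_two
    intro hchar
    haveI := ringChar.of_eq hchar
    exact h2 (CharTwo.two_eq_zero (R := F))
  obtain ⟨x, y, hxy⟩ := FiniteField.exists_root_sum_quadratic (R := F)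
    (f := Polynomial.C a * Polynomial.X ^ 2 + Polynomial.C (-c)) (g := Polynomial.C b * Polynomial.X ^ 2)
    (by
      rw [Polynomial.degree_add_C, Polynomial.degree_C_mul_X_pow 2 ha]
      · rfl
      · rw [Polynomial.degree_C_mul_X_pow 2 ha]; norm_num)
    (by rw [Polynomial.degree_C_mul_X_pow 2 hb]; rfl) hcard
  refine ⟨x, y, ?_⟩
  simp at hxy
  linear_combination hxy

/-- A non-degenerate quadratic form of rank at least two over a finite field represents every
non-zero scalar. -/
theorem exists_Q_eq (hQ : ND Q) (hn : 2 ≤ finrank F V) {c : F} (hc : c ≠ 0) : ∃ v, Q v = c := by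
  obtain ⟨v, hv⟩ := exists_Q_ne_zero hQ (by omega)
  by_cases h2 : (2 : F) = 0
  · obtain ⟨b, hb⟩ := exists_sq_of_two_eq_zero h2 (c / Q v)
    refine ⟨b • v, ?_⟩
    rw [map_smul', hb]; field_simp
  · have hX : ND (res Q (Submodule.span F {v})) := by
      apply nd_res
      intro x hx hy
      obtain ⟨a, rfl⟩ := Submodule.mem_span_singleton.mp hx
      have := hy v (Submodule.mem_span_singleton_self v)
      rw [polar_smul_left, polar_self', smul_eq_mul] at this
      have ha : a = 0 := (mul_eq_zero.mp this).resolve_right (mul_ne_zero h2 hv)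
      rw [ha, zero_smul]
    have hv0 : v ≠ 0 := by rintro rfl; exact hv (QuadraticMap.map_zero Q)
    have h3 : finrank F (perp Q (Submodule.span F {v})) = finrank F V - 1 := by
      rw [finrank_perp hQ, finrank_span_singleton hv0]
    obtain ⟨w, hw⟩ := exists_Q_ne_zero (nd_res_perp hQ hX) (by rw [h3]; omega)
    have hvw : polar Q v w = 0 := mem_perp_span_singleton.mp w.2
    rw [res_apply] at hw
    obtain ⟨x, y, hxy⟩ := exists_binary h2 hv hw c
    refine ⟨x • v + y • (w : V), ?_⟩
    rw [map_add', map_smul', map_smul', polar_smul_left, polar_smul_right, hvw, ← hxy]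
    simp; ring

/-- Over a finite field of characteristic two, any quadratic form in dimension at least three has
a non-trivial zero. -/
theorem exists_singular_char_two (h2 : (2 : F) = 0) (Q : QuadraticForm F V)
    (hn : 3 ≤ finrank F V) : ∃ v, v ≠ 0 ∧ Q v = 0 := by
  have hnt : Nontrivial V := Module.nontrivial_of_finrank_pos (R := F) (by omega)
  obtain ⟨v, hv0⟩ := exists_ne (0 : V)
  by_cases hv : Q v = 0
  · exact ⟨v, hv0, hv⟩
  have h1 := finrank_le_inf_ker_add_one (⊤ : Submodule F V) (QuadraticMap.polarBilin Q v)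
  rw [top_inf_eq, finrank_top] at h1
  have h3 : finrank F (Submodule.span F {v}) = 1 := finrank_span_singleton hv0
  have h4 : ∃ w ∈ LinearMap.ker (QuadraticMap.polarBilin Q v), w ∉ Submodule.span F {v} := by
    by_contra hcon
    push Not at hcon
    have := Submodule.finrank_mono (s := LinearMap.ker (QuadraticMap.polarBilin Q v))
      (t := Submodule.span F {v}) hcon
    omega
  obtain ⟨w, hw, hwv⟩ := h4
  have hvw : polar Q v w = 0 := hw
  obtain ⟨t, ht⟩ := exists_sq_of_two_eq_zero h2 (Q w / Q v)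
  refine ⟨w + t • v, ?_, ?_⟩
  · intro h0
    apply hwv
    rw [eq_neg_of_add_eq_zero_left h0]
    exact Submodule.neg_mem _ (Submodule.smul_mem _ _ (Submodule.mem_span_singleton_self v))
  · rw [map_add', map_smul', ht, polar_smul_right, polar_comm, hvw]
    have : Q w + Q w / Q v * Q v = 2 * Q w := by field_simp; ring
    rw [this, h2]; simp

/-- Over a finite field a non-degenerate form of rank at least three has a non-zero singular
vector. -/
theorem exists_singular (hQ : ND Q) (hn : 3 ≤ finrank F V) : ∃ v, v ≠ 0 ∧ Q v = 0 := by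
  by_cases h2 : (2 : F) = 0
  · exact exists_singular_char_two h2 Q hn
  obtain ⟨v, hv⟩ := exists_Q_ne_zero hQ (by omega)
  have hv0 : v ≠ 0 := by rintro rfl; exact hv (QuadraticMap.map_zero Q)
  have hX : ND (res Q (Submodule.span F {v})) := by
    apply nd_res
    intro x hx hy
    obtain ⟨a, rfl⟩ := Submodule.mem_span_singleton.mp hx
    have := hy v (Submodule.mem_span_singleton_self v)
    rw [polar_smul_left, polar_self', smul_eq_mul] at this
    have ha : a = 0 := (mul_eq_zero.mp this).resolve_right (mul_ne_zero h2 hv)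
    rw [ha, zero_smul]
  have h3 : finrank F (perp Q (Submodule.span F {v})) = finrank F V - 1 := by
    rw [finrank_perp hQ, finrank_span_singleton hv0]
  obtain ⟨w, hw⟩ := exists_Q_eq (nd_res_perp hQ hX) (by rw [h3]; omega) (neg_ne_zero.mpr hv)
  have hvw : polar Q v w = 0 := mem_perp_span_singleton.mp w.2
  rw [res_apply] at hw
  refine ⟨v + w, ?_, ?_⟩
  · intro h0
    have h5 : (w : V) = -v := (neg_eq_of_add_eq_zero_right h0).symm
    rw [h5, polar_neg_right, polar_self'] at hvw
    exact mul_ne_zero h2 hv (neg_eq_zero.mp hvw)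
  · rw [map_add', hw, hvw]; ring

theorem exists_ne_ne_neg_one (h2 : (2 : F) ≠ 0) : ∃ a : F, a ≠ 0 ∧ a ≠ -1 := by
  refine ⟨1, one_ne_zero, fun h => h2 ?_⟩
  linear_combination h

theorem R_eq_O_odd (hQ : ND Q) (h2 : (2 : F) ≠ 0) : R Q = O Q :=
  R_eq_O hQ (Or.inl (exists_ne_ne_neg_one h2))

/-! ### The derived subgroup, odd characteristic -/

open Classical in
/-- The number of vectors in a list with square (nonsquare) norm. -/
noncomputable def nsq (Q : QuadraticForm F V) (vs : List V) : ℕ :=
  vs.countP (fun v => ¬ IsSquare (Q v))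

open Classical in
noncomputable def ysq (Q : QuadraticForm F V) (vs : List V) : ℕ :=
  vs.countP (fun v => IsSquare (Q v))

theorem ysq_add_nsq (vs : List V) : ysq Q vs + nsq Q vs = vs.length := by
  classical
  unfold ysq nsq
  rw [List.length_eq_countP_add_countP (fun v => decide (IsSquare (Q v)))]
  congr 1
  apply List.countP_congr
  intro v _
  simp

theorem nsq_cons (v : V) (vs : List V) [Decidable (IsSquare (Q v))] :
    nsq Q (v :: vs) = nsq Q vs + if IsSquare (Q v) then 0 else 1 := by
  unfold nsq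
  rw [List.countP_cons]
  by_cases h : IsSquare (Q v) <;> simp [h]

theorem ysq_cons (v : V) (vs : List V) [Decidable (IsSquare (Q v))] :
    ysq Q (v :: vs) = ysq Q vs + if IsSquare (Q v) then 1 else 0 := by
  unfold ysq
  rw [List.countP_cons]
  by_cases h : IsSquare (Q v) <;> simp [h]

/-- Images of products of reflections in abelian groups. -/
theorem exists_abel (hQ : ND Q) (h2 : (2 : F) ≠ 0) {A : Type*} [CommGroup A] (f : ↥(O Q) →* A) :
    ∃ X Y : A, X * X = 1 ∧ Y * Y = 1 ∧ ∀ vs : List V, (∀ v ∈ vs, Q v ≠ 0) →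
      f (rp Q vs) = X ^ (ysq Q vs) * Y ^ (nsq Q vs) := by
  classical
  haveI : Fintype F := Fintype.ofFinite F
  have key : ∀ u v : V, Q u ≠ 0 → Q v ≠ 0 → (IsSquare (Q u) ↔ IsSquare (Q v)) →
      f (rf Q u) = f (rf Q v) := by
    intro u v hu hv huv
    have : ∃ a, Q u = a ^ 2 * Q v := by
      have h3 : IsSquare (Q u * Q v) := (isSquare_mul_iff h2 hu hv).mpr huv
      obtain ⟨r, hr⟩ := h3
      exact ⟨r / Q v, by field_simp; linear_combination hr⟩
    obtain ⟨a, ha⟩ := this
    obtain ⟨g, hg⟩ := exists_conj_rf hQ hu hv ha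
    rw [← hg, conj_eq_abel]
  have exX : ∃ X : A, X * X = 1 ∧ ∀ v, Q v ≠ 0 → IsSquare (Q v) → f (rf Q v) = X := by
    by_cases h : ∃ v, Q v ≠ 0 ∧ IsSquare (Q v)
    · obtain ⟨v, hv, hs⟩ := h
      exact ⟨f (rf Q v), by rw [← map_mul, rf_mul_self, map_one], fun u hu hus => key u v hu hv
        (iff_of_true hus hs)⟩
    · push Not at h
      exact ⟨1, mul_one 1, fun v hv hs => absurd hs (h v hv)⟩
  have exY : ∃ Y : A, Y * Y = 1 ∧ ∀ v, Q v ≠ 0 → ¬ IsSquare (Q v) → f (rf Q v) = Y := by
    by_cases h : ∃ v, Q v ≠ 0 ∧ ¬ IsSquare (Q v)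
    · obtain ⟨v, hv, hs⟩ := h
      exact ⟨f (rf Q v), by rw [← map_mul, rf_mul_self, map_one], fun u hu hus => key u v hu hv
        (iff_of_false hus hs)⟩
    · push Not at h
      exact ⟨1, mul_one 1, fun v hv hs => absurd (h v hv) hs⟩
  obtain ⟨X, hX, hX'⟩ := exX
  obtain ⟨Y, hY, hY'⟩ := exY
  refine ⟨X, Y, hX, hY, fun vs => ?_⟩
  induction vs with
  | nil => intro _; simp [rp, ysq, nsq]
  | cons v vs ih =>
    intro h
    have ih' := ih (fun w hw => h w (List.mem_cons_of_mem v hw))
    have hv := h v List.mem_cons_self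
    have e : rp Q (v :: vs) = rf Q v * rp Q vs := by simp [rp]
    rw [e, map_mul, ih', nsq_cons, ysq_cons]
    by_cases hs : IsSquare (Q v)
    · rw [if_pos hs, if_pos hs, hX' v hv hs, pow_succ, add_zero]
      rw [mul_comm (X ^ _) X, mul_assoc]
    · rw [if_neg hs, if_neg hs, hY' v hv hs, pow_succ, add_zero]
      rw [mul_comm (Y ^ _) Y, mul_left_comm]

end Finite

end Cfsg.Agent.Lib.Orth
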