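import Mathlib
import Cfsg.Agent.Lib.Orth1
import Cfsg.Agent.Lib.Orth2
import Cfsg.Agent.Lib.Orth3
import Cfsg.Agent.Lib.Orth4

/-!
# Orthogonal groups over finite fields: index of the derived subgroup, `SO`
-/

set_option autoImplicit false
set_option linter.all false

namespace Cfsg.Agent.Lib.Orth

open Module QuadraticMap

variable {F : Type*} [Field F] [Finite F] {V : Type*} [AddCommGroup V] [Module F V]
  [FiniteDimensional F V] {Q : QuadraticForm F V}

theorem exists_not_isSquare (h2 : (2 : F) ≠ 0) : ∃ ε : F, ε ≠ 0 ∧ ¬ IsSquare ε := by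
  obtain ⟨ε, hε⟩ := FiniteField.exists_nonsquare (ringChar_ne_two h2)
  exact ⟨ε, by rintro rfl; exact hε (IsSquare.zero), hε⟩

/-! ### Odd characteristic -/

open Classical in
theorem spin_rp (h2 : (2 : F) ≠ 0) {c : F} (hc : c ≠ 0) (vs : List V) (h : ∀ v ∈ vs, Q v ≠ 0) :
    spin Q c (rp Q vs) = if IsSquare c then (-1) ^ (ysq Q vs) else (-1) ^ (nsq Q vs) := by
  induction vs with
  | nil => simp [rp, ysq, nsq]
  | cons v vs ih =>
    have ih' := ih (fun w hw => h w (List.mem_cons_of_mem v hw))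
    have hv := h v List.mem_cons_self
    have e : rp Q (v :: vs) = rf Q v * rp Q vs := by simp [rp]
    have e2 : spin Q c (rf Q v) = if IsSquare (c * Q v) then -1 else 1 := spin_refl h2 hc hv
    rw [e, map_mul, e2, ih', nsq_cons, ysq_cons]
    have h3 := isSquare_mul_iff h2 hc hv
    by_cases hcs : IsSquare c <;> by_cases hvs : IsSquare (Q v)
    · have h4 : IsSquare (c * Q v) := h3.mpr (iff_of_true hcs hvs)
      simp only [hcs, hvs, h4, if_true, pow_succ, mul_comm]
    · have h4 : ¬ IsSquare (c * Q v) := fun h => hvs ((h3.mp h).mp hcs)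
      simp [hcs, hvs, h4]
    · have h4 : ¬ IsSquare (c * Q v) := fun h => hcs ((h3.mp h).mpr hvs)
      simp [hcs, hvs, h4]
    · have h4 : IsSquare (c * Q v) := h3.mpr (iff_of_false hcs hvs)
      simp only [hcs, hvs, h4, if_true, if_false, pow_succ, mul_comm]

theorem neg_one_pow_eq_one_iff' {n : ℕ} : ((-1 : ℤˣ)) ^ n = 1 ↔ Even n := by
  constructor
  · intro h
    by_contra hn
    rw [Nat.not_even_iff_odd] at hn
    rw [hn.neg_one_pow] at h
    exact absurd h (by decide)
  · intro h; exact h.neg_one_pow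

theorem map_eq_one_of_mem_commutator {G A : Type*} [Group G] [CommGroup A] (f : G →* A) {g : G}
    (hg : g ∈ commutator G) : f g = 1 := by
  have : commutator G ≤ f.ker := Abelianization.commutator_subset_ker f
  exact this hg

theorem rp_mem_commutator_iff (hQ : ND Q) (h2 : (2 : F) ≠ 0) (vs : List V)
    (h : ∀ v ∈ vs, Q v ≠ 0) :
    rp Q vs ∈ commutator ↥(O Q) ↔ Even (ysq Q vs) ∧ Even (nsq Q vs) := by
  classical
  constructor
  · intro hg
    obtain ⟨ε, hε0, hε⟩ := exists_not_isSquare h2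
    have h3 := spin_rp h2 (one_ne_zero (α := F)) vs h
    have h4 := spin_rp h2 hε0 vs h
    rw [map_eq_one_of_mem_commutator _ hg, if_pos IsSquare.one] at h3
    rw [map_eq_one_of_mem_commutator _ hg, if_neg hε] at h4
    exact ⟨neg_one_pow_eq_one_iff'.mp h3.symm, neg_one_pow_eq_one_iff'.mp h4.symm⟩
  · rintro ⟨h3, h4⟩
    obtain ⟨X, Y, hX, hY, h5⟩ := exists_abel hQ h2 (Abelianization.of : ↥(O Q) →* _)
    have h6 := h5 vs h
    obtain ⟨a, ha⟩ := h3
    obtain ⟨b, hb⟩ := h4
    rw [ha, hb, ← two_mul, ← two_mul, pow_mul, pow_mul, pow_two, pow_two, hX, hY, one_pow, one_pow,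
      mul_one] at h6
    rw [← Abelianization.ker_of]
    exact h6

/-- A product is a square iff the number of non-square factors is even. -/
theorem isSquare_prod_iff (h2 : (2 : F) ≠ 0) (vs : List V) (h : ∀ v ∈ vs, Q v ≠ 0) :
    IsSquare (vs.map (fun v => Q v)).prod ↔ Even (nsq Q vs) := by
  classical
  have key : (vs.map (fun v => Q v)).prod ≠ 0 ∧
      (IsSquare (vs.map (fun v => Q v)).prod ↔ Even (nsq Q vs)) := by
    induction vs with
    | nil => simp [nsq]
    | cons v vs ih =>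
      obtain ⟨ih0, ih'⟩ := ih (fun w hw => h w (List.mem_cons_of_mem v hw))
      have hv := h v List.mem_cons_self
      rw [List.map_cons, List.prod_cons]
      refine ⟨mul_ne_zero hv ih0, ?_⟩
      rw [isSquare_mul_iff h2 hv ih0, ih', nsq_cons]
      by_cases hs : IsSquare (Q v)
      · simp [hs]
      · simp [hs, Nat.even_add_one]
  exact key.2

/-- The spinor norm criterion. -/
theorem rp_mem_commutator_iff' (hQ : ND Q) (h2 : (2 : F) ≠ 0) (vs : List V)
    (h : ∀ v ∈ vs, Q v ≠ 0) :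
    rp Q vs ∈ commutator ↥(O Q) ↔ Even vs.length ∧ IsSquare (vs.map (fun v => Q v)).prod := by
  rw [rp_mem_commutator_iff hQ h2 vs h, isSquare_prod_iff h2 vs h, ← ysq_add_nsq (Q := Q) vs]
  constructor
  · rintro ⟨h3, h4⟩; exact ⟨h3.add h4, h4⟩
  · rintro ⟨h3, h4⟩; exact ⟨(Nat.even_add.mp h3).mpr h4, h4⟩

/-- The two spinor characters together. -/
noncomputable def spin2 (Q : QuadraticForm F V) (ε : F) : ↥(O Q) →* ℤˣ × ℤˣ :=
  (spin Q 1).prod (spin Q ε)

theorem ker_spin2 (hQ : ND Q) (h2 : (2 : F) ≠ 0) {ε : F} (hε : ¬ IsSquare ε) :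
    (spin2 Q ε).ker = commutator ↥(O Q) := by
  classical
  have hε0 : ε ≠ 0 := by rintro rfl; exact hε IsSquare.zero
  ext g
  obtain ⟨vs, h, rfl⟩ := exists_rp (R_eq_O_odd hQ h2) g
  rw [rp_mem_commutator_iff hQ h2 vs h, MonoidHom.mem_ker]
  change (spin Q 1 (rp Q vs), spin Q ε (rp Q vs)) = 1 ↔ _
  rw [Prod.mk_eq_one, spin_rp h2 one_ne_zero vs h, spin_rp h2 hε0 vs h, if_pos IsSquare.one,
    if_neg hε, neg_one_pow_eq_one_iff', neg_one_pow_eq_one_iff']

theorem spin2_surjective (hQ : ND Q) (h2 : (2 : F) ≠ 0) (hn : 2 ≤ finrank F V) {ε : F}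
    (hε : ¬ IsSquare ε) : Function.Surjective (spin2 Q ε) := by
  classical
  have hε0 : ε ≠ 0 := by rintro rfl; exact hε IsSquare.zero
  obtain ⟨u, hu⟩ := exists_Q_eq hQ hn (one_ne_zero (α := F))
  obtain ⟨v, hv⟩ := exists_Q_eq hQ hn hε0
  have h1 : spin2 Q ε (rf Q u) = (-1, 1) := by
    change (spin Q 1 (rf Q u), spin Q ε (rf Q u)) = _
    have e1 : spin Q 1 (rf Q u) = if IsSquare (1 * Q u) then -1 else 1 :=
      spin_refl h2 one_ne_zero (by rw [hu]; exact one_ne_zero)
    have e2 : spin Q ε (rf Q u) = if IsSquare (ε * Q u) then -1 else 1 :=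
      spin_refl h2 hε0 (by rw [hu]; exact one_ne_zero)
    rw [e1, e2, hu, mul_one, mul_one, if_pos IsSquare.one, if_neg hε]
  have h3 : spin2 Q ε (rf Q v) = (1, -1) := by
    change (spin Q 1 (rf Q v), spin Q ε (rf Q v)) = _
    have e1 : spin Q 1 (rf Q v) = if IsSquare (1 * Q v) then -1 else 1 :=
      spin_refl h2 one_ne_zero (by rw [hv]; exact hε0)
    have e2 : spin Q ε (rf Q v) = if IsSquare (ε * Q v) then -1 else 1 :=
      spin_refl h2 hε0 (by rw [hv]; exact hε0)
    rw [e1, e2, hv, one_mul, if_neg hε, if_pos ⟨ε, rfl⟩]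
  rintro ⟨a, b⟩
  rcases Int.units_eq_one_or a with rfl | rfl <;> rcases Int.units_eq_one_or b with rfl | rfl
  · exact ⟨1, map_one _⟩
  · exact ⟨_, h3⟩
  · exact ⟨_, h1⟩
  · refine ⟨rf Q u * rf Q v, ?_⟩
    rw [map_mul, h1, h3]; rfl

theorem index_commutator_odd (hQ : ND Q) (h2 : (2 : F) ≠ 0) (hn : 2 ≤ finrank F V) :
    (commutator ↥(O Q)).index = 4 := by
  obtain ⟨ε, hε0, hε⟩ := exists_not_isSquare h2
  rw [← ker_spin2 hQ h2 hε, Subgroup.index_ker, MonoidHom.range_eq_top.mpr
    (spin2_surjective hQ h2 hn hε), Subgroup.card_top]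
  rw [Nat.card_prod, Nat.card_eq_fintype_card]
  rfl

/-! ### Characteristic two -/

theorem exists_abel_two (hQ : ND Q) (h2 : (2 : F) = 0) {A : Type*} [CommGroup A]
    (f : ↥(O Q) →* A) :
    ∃ X : A, X * X = 1 ∧ ∀ vs : List V, (∀ v ∈ vs, Q v ≠ 0) → f (rp Q vs) = X ^ vs.length := by
  have key : ∀ u v : V, Q u ≠ 0 → Q v ≠ 0 → f (rf Q u) = f (rf Q v) := by
    intro u v hu hv
    obtain ⟨a, ha⟩ := exists_sq_of_two_eq_zero h2 (Q u / Q v)
    obtain ⟨g, hg⟩ := exists_conj_rf hQ hu hv (a := a) (by rw [ha]; field_simp)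
    rw [← hg, conj_eq_abel]
  have exX : ∃ X : A, X * X = 1 ∧ ∀ v, Q v ≠ 0 → f (rf Q v) = X := by
    by_cases h : ∃ v, Q v ≠ 0
    · obtain ⟨v, hv⟩ := h
      exact ⟨f (rf Q v), by rw [← map_mul, rf_mul_self, map_one], fun u hu => key u v hu hv⟩
    · push Not at h
      exact ⟨1, mul_one 1, fun v hv => absurd (h v) hv⟩
  obtain ⟨X, hX, hX'⟩ := exX
  refine ⟨X, hX, fun vs => ?_⟩
  induction vs with
  | nil => intro _; simp [rp]
  | cons v vs ih =>
    intro h
    have ih' := ih (fun w hw => h w (List.mem_cons_of_mem v hw))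
    have hv := h v List.mem_cons_self
    have e : rp Q (v :: vs) = rf Q v * rp Q vs := by simp [rp]
    rw [e, map_mul, ih', hX' v hv, List.length_cons, pow_succ, mul_comm]

omit [Finite F] in
theorem dhom_rp (hQ : ND Q) (hR : R Q = O Q) (vs : List V) (h : ∀ v ∈ vs, Q v ≠ 0) :
    dhom hQ hR (rp Q vs) = (-1) ^ vs.length := by
  rw [← dsign_rprod hQ vs h, ← rp_coe]; rfl

/-- In characteristic two the derived subgroup is the kernel of the Dickson sign. -/
theorem ker_dhom (hQ : ND Q) (h2 : (2 : F) = 0) (hR : R Q = O Q) :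
    (dhom hQ hR).ker = commutator ↥(O Q) := by
  apply le_antisymm
  · intro g hg
    obtain ⟨vs, h, rfl⟩ := exists_rp hR g
    rw [MonoidHom.mem_ker, dhom_rp hQ hR vs h, neg_one_pow_eq_one_iff'] at hg
    obtain ⟨X, hX, h5⟩ := exists_abel_two hQ h2 (Abelianization.of : ↥(O Q) →* _)
    have h6 := h5 vs h
    obtain ⟨a, ha⟩ := hg
    rw [ha, ← two_mul, pow_mul, pow_two, hX, one_pow] at h6
    rw [← Abelianization.ker_of]
    exact h6
  · exact Abelianization.commutator_subset_ker _

omit [Finite F] in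
theorem dhom_surjective (hQ : ND Q) (hR : R Q = O Q) (hn : 1 ≤ finrank F V) :
    Function.Surjective (dhom hQ hR) := by
  obtain ⟨v, hv⟩ := exists_Q_ne_zero hQ hn
  intro a
  rcases Int.units_eq_one_or a with rfl | rfl
  · exact ⟨1, map_one _⟩
  · exact ⟨rf Q v, dsign_refl hQ hv⟩

theorem index_commutator_two (hQ : ND Q) (h2 : (2 : F) = 0) (hR : R Q = O Q)
    (hn : 1 ≤ finrank F V) : (commutator ↥(O Q)).index = 2 := by
  rw [← ker_dhom hQ h2 hR, Subgroup.index_ker, MonoidHom.range_eq_top.mpr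
    (dhom_surjective hQ hR hn), Subgroup.card_top, Nat.card_eq_fintype_card]
  rfl

/-! ### The special orthogonal group -/

omit [Finite F] in
/-- The determinant as a homomorphism on `O Q`. -/
noncomputable def detO (Q : QuadraticForm F V) : ↥(O Q) →* F where
  toFun g := LinearMap.det (g.1 : V →ₗ[F] V)
  map_one' := det_one
  map_mul' g h := det_mul g.1 h.1

omit [Finite F] in
/-- The special orthogonal group. -/
noncomputable def SO (Q : QuadraticForm F V) : Subgroup ↥(O Q) := (detO Q).ker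

omit [Finite F] in
theorem mem_SO {g : ↥(O Q)} : g ∈ SO Q ↔ LinearMap.det (g.1 : V →ₗ[F] V) = 1 := Iff.rfl

omit [Finite F] in
theorem rp_mem_SO_iff (h2 : (2 : F) ≠ 0) (vs : List V) (h : ∀ v ∈ vs, Q v ≠ 0) :
    rp Q vs ∈ SO Q ↔ Even vs.length := by
  rw [mem_SO, rp_coe, det_rprod vs h]
  constructor
  · intro h3
    by_contra hn
    rw [Nat.not_even_iff_odd] at hn
    rw [hn.neg_one_pow] at h3
    exact h2 (by linear_combination -h3)
  · intro h3; exact h3.neg_one_pow

omit [Finite F] in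
/-- `SO` is generated by products of two reflections. -/
theorem SO_eq_closure (hQ : ND Q) (h2 : (2 : F) ≠ 0) :
    SO Q = Subgroup.closure {g : ↥(O Q) | ∃ u v, Q u ≠ 0 ∧ Q v ≠ 0 ∧ g = rf Q u * rf Q v} := by
  have hR : R Q = O Q := R_eq_O hQ (Or.inl ⟨1, one_ne_zero, fun h => h2 (by linear_combination h)⟩)
  apply le_antisymm
  · intro g hg
    obtain ⟨vs, h, rfl⟩ := exists_rp hR g
    rw [rp_mem_SO_iff h2 vs h] at hg
    obtain ⟨k, hk⟩ := hg
    induction k generalizing vs with
    | zero =>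
      have : vs = [] := List.length_eq_zero_iff.mp hk
      subst this
      exact one_mem _
    | succ k ih =>
      match vs, hk, h with
      | [], hk, _ => simp at hk; 
      | [v], hk, _ => simp at hk; omega
      | u :: v :: ws, hk, h =>
        have e : rp Q (u :: v :: ws) = (rf Q u * rf Q v) * rp Q ws := by simp [rp, mul_assoc]
        rw [e]
        refine mul_mem (Subgroup.subset_closure ⟨u, v, h u (by simp), h v (by simp), rfl⟩)
          (ih ws (fun w hw => h w (by simp [hw])) (by simp at hk; omega))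
  · rw [Subgroup.closure_le]
    rintro _ ⟨u, v, hu, hv, rfl⟩
    have := (rp_mem_SO_iff (Q := Q) h2 [u, v] (by
      intro w hw
      simp only [List.mem_cons, List.not_mem_nil, or_false] at hw
      rcases hw with rfl | rfl <;> assumption)).mpr (by simp)
    simpa [rp] using this

/-- If generators commute modulo a normal subgroup, it contains the derived subgroup. -/
theorem commutator_le_of_closure {G : Type*} [Group G] {S : Set G} (hS : Subgroup.closure S = ⊤)
    (N : Subgroup G) [N.Normal] (h : ∀ a ∈ S, ∀ b ∈ S, a * b * a⁻¹ * b⁻¹ ∈ N) :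
    commutator G ≤ N := by
  have h1 : ∀ a ∈ S, ∀ b ∈ S, (QuotientGroup.mk' N a) * (QuotientGroup.mk' N b)
      = (QuotientGroup.mk' N b) * (QuotientGroup.mk' N a) := by
    intro a ha b hb
    have h2 : QuotientGroup.mk' N (a * b * a⁻¹ * b⁻¹) = 1 :=
      (QuotientGroup.eq_one_iff _).mpr (h a ha b hb)
    rw [map_mul, map_mul, map_mul, map_inv, map_inv, mul_inv_eq_one, mul_inv_eq_iff_eq_mul] at h2
    exact h2
  have h2 : ∀ a ∈ S, ∀ g : G, (QuotientGroup.mk' N a) * (QuotientGroup.mk' N g)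
      = (QuotientGroup.mk' N g) * (QuotientGroup.mk' N a) := by
    intro a ha g
    have hg : g ∈ Subgroup.closure S := by rw [hS]; trivial
    induction hg using Subgroup.closure_induction with
    | mem x hx => exact h1 a ha x hx
    | one => simp
    | mul x y _ _ hx hy => rw [map_mul, ← mul_assoc, hx, mul_assoc, hy, mul_assoc]
    | inv x _ hx =>
      rw [map_inv]
      exact (Commute.inv_right hx : Commute _ _)
  have h3 : ∀ k g : G, (QuotientGroup.mk' N k) * (QuotientGroup.mk' N g)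
      = (QuotientGroup.mk' N g) * (QuotientGroup.mk' N k) := by
    intro k g
    have hg : k ∈ Subgroup.closure S := by rw [hS]; trivial
    induction hg using Subgroup.closure_induction with
    | mem x hx => exact h2 x hx g
    | one => simp
    | mul x y _ _ hx hy => rw [map_mul, mul_assoc, hy, ← mul_assoc, hx, mul_assoc]
    | inv x _ hx =>
      rw [map_inv]
      exact (Commute.inv_left hx : Commute _ _)
  rw [commutator_def, Subgroup.commutator_le]
  intro a _ b _
  rw [← QuotientGroup.eq_one_iff, commutatorElement_def]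
  change QuotientGroup.mk' N (a * b * a⁻¹ * b⁻¹) = 1
  rw [map_mul, map_mul, map_mul, map_inv, map_inv, mul_inv_eq_one, mul_inv_eq_iff_eq_mul]
  exact h3 a b

omit [Finite F] in
/-- Squares of products of two reflections normally generate the derived subgroup. -/
theorem commutator_le_of_sq (hR : R Q = O Q) (H : Subgroup ↥(O Q))
    (h : ∀ u v, Q u ≠ 0 → Q v ≠ 0 → (rf Q u * rf Q v) * (rf Q u * rf Q v) ∈ H) :
    commutator ↥(O Q) ≤ H := by
  set S : Set ↥(O Q) :=
    {g : ↥(O Q) | ∃ u v, Q u ≠ 0 ∧ Q v ≠ 0 ∧ g = (rf Q u * rf Q v) * (rf Q u * rf Q v)} with hS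
  have h1 : Subgroup.normalClosure S ≤ H := by
    unfold Subgroup.normalClosure
    rw [Subgroup.closure_le]
    intro x hx
    obtain ⟨a, ⟨u, v, hu, hv, rfl⟩, hax⟩ := Group.mem_conjugatesOfSet_iff.mp hx
    obtain ⟨c, rfl⟩ := isConj_iff.mp hax
    have e : c * ((rf Q u * rf Q v) * (rf Q u * rf Q v)) * c⁻¹
        = (rf Q (c.1 u) * rf Q (c.1 v)) * (rf Q (c.1 u) * rf Q (c.1 v)) := by
      rw [← conj_rf, ← conj_rf]; group
    rw [e]
    exact h _ _ (by rw [c.2]; exact hu) (by rw [c.2]; exact hv)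
  refine (commutator_le_of_closure (closure_rf hR) (Subgroup.normalClosure S) ?_).trans h1
  rintro _ ⟨u, hu, rfl⟩ _ ⟨v, hv, rfl⟩
  apply Subgroup.subset_normalClosure
  refine ⟨u, v, hu, hv, ?_⟩
  have e1 : (rf Q u)⁻¹ = rf Q u := by rw [inv_eq_iff_mul_eq_one, rf_mul_self]
  have e2 : (rf Q v)⁻¹ = rf Q v := by rw [inv_eq_iff_mul_eq_one, rf_mul_self]
  rw [e1, e2, mul_assoc, mul_assoc]

/-- In odd characteristic `SO` has index two. -/
theorem index_SO (h2 : (2 : F) ≠ 0) (hQ : ND Q) (hn : 1 ≤ finrank F V) : (SO Q).index = 2 := by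
  obtain ⟨v, hv⟩ := exists_Q_ne_zero hQ hn
  rw [Subgroup.index_eq_two_iff]
  refine ⟨rf Q v, fun g => ?_⟩
  obtain ⟨vs, h, rfl⟩ := exists_rp (R_eq_O_odd hQ h2) g
  have e : rp Q vs * rf Q v = rp Q (vs ++ [v]) := by simp [rp]
  rw [e, rp_mem_SO_iff h2 vs h, rp_mem_SO_iff h2 (vs ++ [v]) (by
    intro w hw
    rcases List.mem_append.mp hw with hw | hw
    · exact h w hw
    · rw [List.mem_singleton] at hw; rw [hw]; exact hv)]
  rw [List.length_append, List.length_singleton]
  rcases Nat.even_or_odd vs.length with h3 | h3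
  · right; exact ⟨h3, by rw [Nat.not_even_iff_odd]; exact h3.add_one⟩
  · left; exact ⟨h3.add_one, by rw [Nat.not_even_iff_odd]; exact h3⟩

theorem commutator_le_SO (h2 : (2 : F) ≠ 0) (hQ : ND Q) : commutator ↥(O Q) ≤ SO Q := by
  intro g hg
  obtain ⟨vs, h, rfl⟩ := exists_rp (R_eq_O_odd hQ h2) g
  rw [rp_mem_commutator_iff' hQ h2 vs h] at hg
  rw [rp_mem_SO_iff h2 vs h]
  exact hg.1

theorem eq_of_le_of_index_two {G : Type*} [Group G] {A H : Subgroup G} (h : A ≤ H)
    (hA : A.index = 2) (hH : H.index = 2) : H = A := by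
  have h1 := Subgroup.relIndex_mul_index h
  rw [hA, hH] at h1
  have h2 : A.relIndex H = 1 := by omega
  exact le_antisymm (Subgroup.relIndex_eq_one.mp h2) h

/-- Uniqueness of the subgroup of index two of `SO`. -/
theorem existsUnique_index_two_SO (hQ : ND Q) (hR : R Q = O Q) (hn : 2 ≤ finrank F V) :
    ∃! H : Subgroup ↥(SO Q), H.index = 2 := by
  have hidx : ((commutator ↥(O Q)).subgroupOf (SO Q)).index = 2 := by
    by_cases h2 : (2 : F) = 0
    · -- `SO = O`
      have hSO : SO Q = ⊤ := by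
        rw [eq_top_iff]
        rintro g -
        rw [mem_SO]
        rcases det_of_mem_O hQ g.2 with h | h
        · exact h
        · rw [h]; linear_combination -h2
      change (commutator ↥(O Q)).relIndex (SO Q) = 2
      rw [hSO, Subgroup.relIndex_top_right]
      exact index_commutator_two hQ h2 hR (by omega)
    · change (commutator ↥(O Q)).relIndex (SO Q) = 2
      have h3 := Subgroup.relIndex_mul_index (commutator_le_SO h2 hQ)
      rw [index_SO h2 hQ (by omega), index_commutator_odd hQ h2 hn] at h3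
      omega
  refine ⟨(commutator ↥(O Q)).subgroupOf (SO Q), hidx, ?_⟩
  intro H hH
  apply eq_of_le_of_index_two _ hidx hH
  have h1 : commutator ↥(O Q) ≤ H.map (SO Q).subtype := by
    apply commutator_le_of_sq hR
    intro u v hu hv
    have hmem : rf Q u * rf Q v ∈ SO Q := by
      rw [mem_SO]
      change LinearMap.det ((refl Q u * refl Q v : V ≃ₗ[F] V) : V →ₗ[F] V) = 1
      rw [det_mul, det_refl hu, det_refl hv]; ring
    refine ⟨⟨rf Q u * rf Q v, hmem⟩ ^ 2, Subgroup.sq_mem_of_index_two hH _, ?_⟩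
    rw [pow_two]; rfl
  intro g hg
  obtain ⟨x, hx, hxg⟩ := h1 hg
  have : x = g := Subtype.ext hxg
  rw [← this]; exact hx

end Cfsg.Agent.Lib.Orth
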