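import Mathlib
import Cfsg.Agent.Lib.Fiber
import Cfsg.Agent.Lib.Orth1
import Cfsg.Agent.Lib.Orth2
import Cfsg.Agent.Lib.Orth3
import Cfsg.Agent.Lib.Orth4

/-!
# Quadratic forms: hyperbolic splitting, counting, orders of orthogonal groups
-/

set_option autoImplicit false
set_option linter.all false

namespace Cfsg.Agent.Lib.Orth

open Module QuadraticMap

section Hyp

variable {F : Type*} [Field F] {V : Type*} [AddCommGroup V] [Module F V]

/-- A hyperbolic pair. -/
structure Hyp (Q : QuadraticForm F V) (e f : V) : Prop where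
  he : Q e = 0
  hf : Q f = 0
  hef : polar Q e f = 1

variable {Q : QuadraticForm F V} {e f : V}

theorem Hyp.hfe (h : Hyp Q e f) : polar Q f e = 1 := by rw [polar_comm]; exact h.hef

theorem Hyp.hee (h : Hyp Q e f) : polar Q e e = 0 := by rw [polar_self', h.he, mul_zero]

theorem Hyp.hff (h : Hyp Q e f) : polar Q f f = 0 := by rw [polar_self', h.hf, mul_zero]

theorem Hyp.e_ne (h : Hyp Q e f) : e ≠ 0 := by
  rintro rfl
  have := h.hef
  simp at this

theorem Hyp.symm (h : Hyp Q e f) : Hyp Q f e := ⟨h.hf, h.he, h.hfe⟩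

theorem Hyp.f_ne (h : Hyp Q e f) : f ≠ 0 := h.symm.e_ne

theorem Hyp.map {g : V ≃ₗ[F] V} (hg : g ∈ O Q) (h : Hyp Q e f) : Hyp Q (g e) (g f) :=
  ⟨by rw [hg, h.he], by rw [hg, h.hf], by rw [polar_map hg, h.hef]⟩

theorem Hyp.li (h : Hyp Q e f) : LinearIndependent F ![e, f] := by
  rw [LinearIndependent.pair_iff]
  intro a b hab
  have h1 : polar Q (a • e + b • f) f = 0 := by rw [hab]; simp
  have h2 : polar Q (a • e + b • f) e = 0 := by rw [hab]; simp
  rw [polar_add_left, polar_smul_left, polar_smul_left, h.hef, h.hff] at h1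
  rw [polar_add_left, polar_smul_left, polar_smul_left, h.hee, h.hfe] at h2
  simpa using And.intro h1 h2

theorem exists_hyp (hQ : ND Q) (he0 : e ≠ 0) (he : Q e = 0) : ∃ f, Hyp Q e f := by
  obtain ⟨y0, hy0⟩ := hQ.exists_ne he0
  obtain ⟨y, h1⟩ : ∃ y, polar Q e y = 1 :=
    ⟨(polar Q e y0)⁻¹ • y0, by rw [polar_smul_right, smul_eq_mul, inv_mul_cancel₀ hy0]⟩
  refine ⟨y - Q y • e, he, ?_, ?_⟩
  · rw [map_sub', map_smul', polar_smul_right, he, polar_comm, h1]; simp
  · rw [polar_sub_right, polar_smul_right, polar_self', he, h1]; simp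

/-- The orthogonal complement of a hyperbolic pair. -/
abbrev hperp (Q : QuadraticForm F V) (e f : V) : Submodule F V := perp Q (Submodule.span F {e, f})

theorem mem_hperp {x : V} : x ∈ hperp Q e f ↔ polar Q x e = 0 ∧ polar Q x f = 0 := by
  rw [hperp, mem_perp_span_pair, polar_comm Q e x, polar_comm Q f x]

theorem Hyp.nd_span (h : Hyp Q e f) : ND (res Q (Submodule.span F {e, f})) := by
  apply nd_res
  intro x hx hy
  obtain ⟨a, b, rfl⟩ := Submodule.mem_span_pair.mp hx
  have h1 := hy f (Submodule.subset_span (by simp))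
  have h2 := hy e (Submodule.subset_span (by simp))
  rw [polar_add_left, polar_smul_left, polar_smul_left, h.hef, h.hff] at h1
  rw [polar_add_left, polar_smul_left, polar_smul_left, h.hee, h.hfe] at h2
  have ha : a = 0 := by simpa using h1
  have hb : b = 0 := by simpa using h2
  rw [ha, hb]; simp

theorem Hyp.Q_split (h : Hyp Q e f) (a b : F) {w : V} (hw : w ∈ hperp Q e f) :
    Q (a • e + b • f + w) = a * b + Q w := by
  obtain ⟨h1, h2⟩ := mem_hperp.mp hw
  rw [polar_comm] at h1 h2
  simp only [map_add', map_smul', polar_add_left, polar_smul_left, polar_smul_right, h.he, h.hf,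
    h.hef, h1, h2, smul_eq_mul]
  ring

theorem Hyp.polar_split (h : Hyp Q e f) (a b a' b' : F) {w w' : V} (hw : w ∈ hperp Q e f)
    (hw' : w' ∈ hperp Q e f) :
    polar Q (a • e + b • f + w) (a' • e + b' • f + w') = a * b' + b * a' + polar Q w w' := by
  obtain ⟨h1, h2⟩ := mem_hperp.mp hw
  obtain ⟨h3, h4⟩ := mem_hperp.mp hw'
  rw [polar_comm] at h3 h4
  simp only [polar_add_left, polar_smul_left, polar_smul_right, polar_add_right, h.hee, h.hff,
    h.hef, h.hfe, h1, h2, h3, h4, smul_eq_mul]
  ring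

theorem Hyp.proj_mem (h : Hyp Q e f) (x : V) :
    x - polar Q x f • e - polar Q x e • f ∈ hperp Q e f := by
  rw [mem_hperp]
  simp only [polar_sub_left, polar_smul_left, h.hee, h.hff, h.hef, h.hfe, smul_eq_mul]
  constructor <;> ring

/-- The splitting `V = F e ⊕ F f ⊕ W`. -/
def Hyp.split (h : Hyp Q e f) : V ≃ₗ[F] (F × F) × hperp Q e f where
  toFun x := ((polar Q x f, polar Q x e), ⟨x - polar Q x f • e - polar Q x e • f, h.proj_mem x⟩)
  map_add' x y := by
    refine Prod.ext (Prod.ext ?_ ?_) (Subtype.ext ?_)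
    · exact polar_add_left Q x y f
    · exact polar_add_left Q x y e
    · change x + y - polar Q (x + y) f • e - polar Q (x + y) e • f = (x - _ - _) + (y - _ - _)
      rw [polar_add_left, polar_add_left]; module
  map_smul' a x := by
    refine Prod.ext (Prod.ext ?_ ?_) (Subtype.ext ?_)
    · exact polar_smul_left Q a x f
    · exact polar_smul_left Q a x e
    · change a • x - polar Q (a • x) f • e - polar Q (a • x) e • f = a • (x - _ - _)
      rw [polar_smul_left, polar_smul_left, smul_eq_mul, smul_eq_mul]; module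
  invFun p := p.1.1 • e + p.1.2 • f + (p.2 : V)
  left_inv x := by
    change polar Q x f • e + polar Q x e • f + (x - polar Q x f • e - polar Q x e • f) = x
    module
  right_inv p := by
    obtain ⟨⟨a, b⟩, w, hw⟩ := p
    obtain ⟨h1, h2⟩ := mem_hperp.mp hw
    refine Prod.ext (Prod.ext ?_ ?_) (Subtype.ext ?_)
    · change polar Q (a • e + b • f + w) f = a
      simp only [polar_add_left, polar_smul_left, h.hef, h.hff, h2, smul_eq_mul]; ring
    · change polar Q (a • e + b • f + w) e = b
      simp only [polar_add_left, polar_smul_left, h.hee, h.hfe, h1, smul_eq_mul]; ring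
    · change (a • e + b • f + w) - polar Q (a • e + b • f + w) f • e
        - polar Q (a • e + b • f + w) e • f = w
      simp only [polar_add_left, polar_smul_left, h.hee, h.hfe, h.hef, h.hff, h1, h2, smul_eq_mul]
      module

theorem Hyp.split_symm_apply (h : Hyp Q e f) (a b : F) (w : hperp Q e f) :
    h.split.symm ((a, b), w) = a • e + b • f + (w : V) := rfl

theorem Hyp.exists_split (h : Hyp Q e f) (x : V) :
    ∃ (a b : F) (w : V), w ∈ hperp Q e f ∧ x = a • e + b • f + w :=
  ⟨_, _, _, h.proj_mem x, by module⟩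

variable [FiniteDimensional F V]

theorem Hyp.nd_perp (hQ : ND Q) (h : Hyp Q e f) : ND (res Q (hperp Q e f)) :=
  nd_res_perp hQ h.nd_span

theorem Hyp.finrank_span (h : Hyp Q e f) : finrank F (Submodule.span F {e, f}) = 2 := by
  have h0 := finrank_span_eq_card h.li
  rw [show (Set.range ![e, f]) = {e, f} by
    simp [Matrix.range_cons, Matrix.range_empty]; exact Set.pair_comm _ _] at h0
  simpa using h0

theorem Hyp.finrank_perp (h : Hyp Q e f) : finrank F (hperp Q e f) + 2 = finrank F V := by
  have := h.split.finrank_eq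
  rw [finrank_prod, finrank_prod, finrank_self] at this
  omega

/-! ### Pointwise stabilisers of non-degenerate subspaces -/

/-- The subgroup of `O Q` fixing a subspace pointwise. -/
def fixer (Q : QuadraticForm F V) (Y : Submodule F V) : Subgroup ↥(O Q) where
  carrier := {g | ∀ y ∈ Y, g.1 y = y}
  mul_mem' {a b} ha hb := fun y hy => by
    change a.1 (b.1 y) = y
    rw [hb y hy, ha y hy]
  one_mem' := fun y _ => rfl
  inv_mem' {a} ha := fun y hy => by
    have h1 : a.1 ((a⁻¹).1 y) = y := by
      change (a * a⁻¹).1 y = y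
      rw [mul_inv_cancel]; rfl
    have h2 : a.1 ((a⁻¹).1 y) = a.1 y := by rw [h1, ha y hy]
    exact a.1.injective h2

theorem mem_fixer {Y : Submodule F V} {g : ↥(O Q)} : g ∈ fixer Q Y ↔ ∀ y ∈ Y, g.1 y = y := Iff.rfl

theorem inv_apply_self (g : ↥(O Q)) (x : V) : (g⁻¹).1 (g.1 x) = x := by
  change (g⁻¹ * g).1 x = x
  rw [inv_mul_cancel]; rfl

theorem self_apply_inv (g : ↥(O Q)) (x : V) : g.1 ((g⁻¹).1 x) = x := by
  change (g * g⁻¹).1 x = x
  rw [mul_inv_cancel]; rfl

theorem fixer_map_perp {Y : Submodule F V} {g : ↥(O Q)} (hg : g ∈ fixer Q Y) {x : V}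
    (hx : x ∈ perp Q Y) : g.1 x ∈ perp Q Y := by
  rw [mem_perp] at hx ⊢
  intro y hy
  rw [← hg y hy, polar_map g.2]
  exact hx y hy

/-- Restriction of an element of the pointwise stabiliser to the orthogonal complement. -/
def fixRes {Y : Submodule F V} : ↥(fixer Q Y) →* ↥(O (res Q (perp Q Y))) where
  toFun g := ⟨{ toFun := fun x => ⟨g.1.1 x.1, fixer_map_perp g.2 x.2⟩
                map_add' := fun x y => Subtype.ext (map_add g.1.1 x.1 y.1)
                map_smul' := fun a x => Subtype.ext (map_smul g.1.1 a x.1)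
                invFun := fun x => ⟨(g.1⁻¹).1 x.1, fixer_map_perp (inv_mem g.2) x.2⟩
                left_inv := fun x => Subtype.ext (inv_apply_self g.1 x.1)
                right_inv := fun x => Subtype.ext (self_apply_inv g.1 x.1) },
              fun x => g.1.2 x.1⟩
  map_one' := rfl
  map_mul' g h := rfl

theorem fixRes_apply {Y : Submodule F V} (g : ↥(fixer Q Y)) (x : perp Q Y) :
    ((fixRes g).1 x : V) = g.1.1 x.1 := rfl

theorem fixRes_injective (hQ : ND Q) {Y : Submodule F V} (hY : ND (res Q Y)) :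
    Function.Injective (fixRes : ↥(fixer Q Y) →* ↥(O (res Q (perp Q Y)))) := by
  intro g h hgh
  apply Subtype.ext
  apply Subtype.ext
  apply LinearEquiv.ext
  intro x
  have hx : x ∈ Y ⊔ perp Q Y := by rw [(isCompl_perp hQ hY).sup_eq_top]; trivial
  obtain ⟨y, hy, z, hz, rfl⟩ := Submodule.mem_sup.mp hx
  have h1 : g.1.1 z = h.1.1 z := by
    have := congrArg (fun k : ↥(O (res Q (perp Q Y))) => (k.1 ⟨z, hz⟩ : V)) hgh
    exact this
  rw [map_add, map_add, g.2 y hy, h.2 y hy, h1]

/-- Extension of an isometry of `Y^⊥` by the identity on `Y`. -/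
noncomputable def extO (hQ : ND Q) {Y : Submodule F V} (hY : ND (res Q Y))
    (k : ↥(O (res Q (perp Q Y)))) : ↥(O Q) :=
  ⟨((Submodule.prodEquivOfIsCompl Y (perp Q Y) (isCompl_perp hQ hY)).symm.trans
      ((LinearEquiv.refl F Y).prodCongr k.1)).trans
      (Submodule.prodEquivOfIsCompl Y (perp Q Y) (isCompl_perp hQ hY)), by
    intro x
    obtain ⟨⟨y, z⟩, rfl⟩ :=
      (Submodule.prodEquivOfIsCompl Y (perp Q Y) (isCompl_perp hQ hY)).surjective x
    simp only [LinearEquiv.trans_apply, LinearEquiv.symm_apply_apply]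
    change Q ((y : V) + (k.1 z : V)) = Q ((y : V) + (z : V))
    have h1 : polar Q (y : V) (k.1 z : V) = 0 := (k.1 z).2 y y.2
    have h2 : polar Q (y : V) (z : V) = 0 := z.2 y y.2
    have h3 : Q (k.1 z : V) = Q (z : V) := k.2 z
    rw [map_add', map_add', h1, h2, h3]⟩

theorem extO_apply (hQ : ND Q) {Y : Submodule F V} (hY : ND (res Q Y))
    (k : ↥(O (res Q (perp Q Y)))) (y : Y) (z : perp Q Y) :
    (extO hQ hY k).1 ((y : V) + (z : V)) = (y : V) + (k.1 z : V) := by
  have h := Submodule.coe_prodEquivOfIsCompl' Y (perp Q Y) (isCompl_perp hQ hY) (y, z)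
  have h' := Submodule.coe_prodEquivOfIsCompl' Y (perp Q Y) (isCompl_perp hQ hY) (y, k.1 z)
  change (Submodule.prodEquivOfIsCompl Y (perp Q Y) (isCompl_perp hQ hY))
    (((LinearEquiv.refl F Y).prodCongr k.1)
      ((Submodule.prodEquivOfIsCompl Y (perp Q Y) (isCompl_perp hQ hY)).symm
        ((y : V) + (z : V)))) = _
  rw [← h, LinearEquiv.symm_apply_apply]
  exact h'

theorem extO_apply_perp (hQ : ND Q) {Y : Submodule F V} (hY : ND (res Q Y))
    (k : ↥(O (res Q (perp Q Y)))) (z : perp Q Y) : (extO hQ hY k).1 (z : V) = (k.1 z : V) := by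
  have := extO_apply hQ hY k 0 z
  simpa using this

theorem extO_apply_fix (hQ : ND Q) {Y : Submodule F V} (hY : ND (res Q Y))
    (k : ↥(O (res Q (perp Q Y)))) {y : V} (hy : y ∈ Y) : (extO hQ hY k).1 y = y := by
  have := extO_apply hQ hY k ⟨y, hy⟩ 0
  simpa using this

/-- The pointwise stabiliser of a non-degenerate subspace is the orthogonal group of the
complement. -/
noncomputable def fixEquiv (hQ : ND Q) {Y : Submodule F V} (hY : ND (res Q Y)) :
    ↥(fixer Q Y) ≃* ↥(O (res Q (perp Q Y))) :=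
  MulEquiv.ofBijective fixRes ⟨fixRes_injective hQ hY, fun k => by
    refine ⟨⟨extO hQ hY k, fun y hy => extO_apply_fix hQ hY k hy⟩, ?_⟩
    apply Subtype.ext
    apply LinearEquiv.ext
    intro z
    apply Subtype.ext
    rw [fixRes_apply]
    exact extO_apply_perp hQ hY k z⟩

/-- The embedding of the orthogonal group of a non-degenerate complement. -/
noncomputable def embO (hQ : ND Q) {Y : Submodule F V} (hY : ND (res Q Y)) :
    ↥(O (res Q (perp Q Y))) →* ↥(O Q) :=
  (fixer Q Y).subtype.comp (fixEquiv hQ hY).symm.toMonoidHom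

theorem embO_eq (hQ : ND Q) {Y : Submodule F V} (hY : ND (res Q Y))
    (k : ↥(O (res Q (perp Q Y)))) : embO hQ hY k = extO hQ hY k := by
  have h1 : (⟨extO hQ hY k, fun y hy => extO_apply_fix hQ hY k hy⟩ : fixer Q Y)
      = (fixEquiv hQ hY).symm k := by
    rw [MulEquiv.eq_symm_apply]
    apply Subtype.ext
    apply LinearEquiv.ext
    intro z
    apply Subtype.ext
    change ((fixRes _).1 z : V) = _
    rw [fixRes_apply]
    exact extO_apply_perp hQ hY k z
  exact (congrArg Subtype.val h1).symm

end Hyp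

/-! ### Counting -/

section Count

variable {F : Type*} [Field F] [Finite F] {V : Type*} [AddCommGroup V] [Module F V]
  [FiniteDimensional F V] {Q : QuadraticForm F V} {e f : V}

open Classical in
theorem card_mul_eq (t : F) : Nat.card {p : F × F // p.1 * p.2 = t}
    = (Nat.card F - 1) + if t = 0 then Nat.card F else 0 := by
  haveI : Fintype F := Fintype.ofFinite F
  split_ifs with ht
  · subst ht
    have h1 : ∀ p : F × F, p.1 * p.2 = 0 ↔ p.1 = 0 ∨ (p.1 ≠ 0 ∧ p.2 = 0) := by
      intro p
      rw [mul_eq_zero]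
      tauto
    have e1 : {p : F × F // p.1 * p.2 = 0} ≃ F ⊕ {a : F // a ≠ 0} := by
      refine ⟨fun p => if h : p.1.1 = 0 then Sum.inl p.1.2 else Sum.inr ⟨p.1.1, h⟩,
        fun s => Sum.elim (fun b => ⟨(0, b), by simp⟩) (fun a => ⟨(a.1, 0), by simp⟩) s, ?_, ?_⟩
      · rintro ⟨⟨a, b⟩, hab⟩
        by_cases h : a = 0
        · simp [h]
        · have hb : b = 0 := (mul_eq_zero.mp hab).resolve_left h
          simp [h, hb]
      · rintro (b | ⟨a, ha⟩)
        · simp
        · simp [ha]
    rw [Nat.card_congr e1, Nat.card_sum, Nat.card_eq_fintype_card (α := {a : F // a ≠ 0}),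
      Fintype.card_subtype_compl, Fintype.card_subtype_eq, Nat.card_eq_fintype_card]
    omega
  · have e1 : {p : F × F // p.1 * p.2 = t} ≃ {a : F // a ≠ 0} := by
      refine ⟨fun p => ⟨p.1.1, fun h => ht (by rw [← p.2, h, zero_mul])⟩,
        fun a => ⟨(a.1, t / a.1), by rw [mul_div_cancel₀ _ a.2]⟩, ?_, ?_⟩
      · rintro ⟨⟨a, b⟩, hab⟩
        have ha : a ≠ 0 := fun h => ht (by rw [← hab, h, zero_mul])
        apply Subtype.ext
        refine Prod.ext rfl ?_
        change t / a = b
        rw [← hab]; field_simp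
      · intro a; rfl
    rw [Nat.card_congr e1, Nat.card_eq_fintype_card, Fintype.card_subtype_compl,
      Fintype.card_subtype_eq, Nat.card_eq_fintype_card, add_zero]

theorem card_V (F : Type*) [Field F] [Finite F] (V : Type*) [AddCommGroup V] [Module F V]
    [FiniteDimensional F V] : Nat.card V = Nat.card F ^ finrank F V :=
  Module.natCard_eq_pow_finrank

/-- The number of vectors of norm `c` in `H ⟂ W`. -/
theorem Hyp.card_Q_eq (h : Hyp Q e f) (c : F) :
    Nat.card {x : V // Q x = c} = Nat.card F * Nat.card {w : hperp Q e f // res Q _ w = c}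
      + (Nat.card F - 1) * Nat.card (hperp Q e f) := by
  classical
  haveI : Finite V := finite_V F V
  haveI : Fintype (hperp Q e f) := Fintype.ofFinite _
  have e1 : {x : V // Q x = c} ≃ (w : hperp Q e f) × {p : F × F // p.1 * p.2 = c - Q (w : V)} := by
    refine ⟨fun x => ⟨(h.split x.1).2, (h.split x.1).1, ?_⟩,
      fun s => ⟨h.split.symm (s.2.1, s.1), ?_⟩, ?_, ?_⟩
    · have h1 := h.Q_split (h.split x.1).1.1 (h.split x.1).1.2 (h.split x.1).2.2
      have h2 : (h.split x.1).1.1 • e + (h.split x.1).1.2 • f + ((h.split x.1).2 : V) = x.1 :=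
        h.split.symm_apply_apply x.1
      rw [h2, x.2] at h1
      linear_combination -h1
    · obtain ⟨w, ⟨a, b⟩, hab⟩ := s
      rw [h.split_symm_apply, h.Q_split a b w.2]
      change a * b = _ at hab
      rw [hab]; ring
    · intro x; exact Subtype.ext (h.split.symm_apply_apply x.1)
    · rintro ⟨w, p, hp⟩
      have h3 := h.split.apply_symm_apply (p, w)
      apply Sigma.ext
      · exact congrArg Prod.snd h3
      · have h4 := congrArg Prod.fst h3
        have h5 := congrArg Prod.snd h3
        rw [Subtype.heq_iff_coe_eq]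
        · exact h4
        · intro p
          change p.1 * p.2 = c - Q (((h.split (h.split.symm (_, w))).2 : V)) ↔ _
          rw [h5]
  rw [Nat.card_congr e1, Nat.card_sigma]
  simp only [card_mul_eq]
  rw [Finset.sum_add_distrib, Finset.sum_const, Finset.card_univ, smul_eq_mul,
    ← Nat.card_eq_fintype_card, add_comm]
  congr 1
  · rw [Finset.sum_ite, Finset.sum_const_zero, add_zero, Finset.sum_const, smul_eq_mul, mul_comm]
    congr 1
    rw [Nat.card_eq_fintype_card, Fintype.card_subtype]
    congr 1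
    ext w
    simp only [Finset.mem_filter, Finset.mem_univ, true_and]
    rw [res_apply, sub_eq_zero, eq_comm]
  · rw [mul_comm]

end Count

end Cfsg.Agent.Lib.Orth
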