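import Mathlib
import Cfsg.Agent.Lib.Fiber
import Cfsg.Agent.Lib.Orth1
import Cfsg.Agent.Lib.Orth2
import Cfsg.Agent.Lib.Orth3
import Cfsg.Agent.Lib.Orth4
import Cfsg.Agent.Lib.Orth7

/-!
# Hyperbolic families, Witt decomposition and the orders of the orthogonal groups
-/

set_option autoImplicit false
set_option linter.all false

namespace Cfsg.Agent.Lib.Orth

open Module QuadraticMap

universe u

section Congr

variable {F : Type*} [Field F] {V : Type*} [AddCommGroup V] [Module F V] {V' : Type*}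
  [AddCommGroup V'] [Module F V'] {Q : QuadraticForm F V} {Q' : QuadraticForm F V'}

/-- Isometric spaces have isomorphic orthogonal groups. -/
def congrO (φ : V ≃ₗ[F] V') (h : ∀ x, Q' (φ x) = Q x) : ↥(O Q) ≃* ↥(O Q') where
  toFun g := ⟨(φ.symm.trans g.1).trans φ, fun x => by
    change Q' (φ (g.1 (φ.symm x))) = Q' x
    rw [h, g.2, ← h, LinearEquiv.apply_symm_apply]⟩
  invFun g := ⟨(φ.trans g.1).trans φ.symm, fun x => by
    change Q (φ.symm (g.1 (φ x))) = Q x
    rw [← h, LinearEquiv.apply_symm_apply, g.2, h]⟩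
  left_inv g := by
    apply Subtype.ext; apply LinearEquiv.ext; intro x
    change φ.symm (φ (g.1 (φ.symm (φ x)))) = g.1 x
    simp
  right_inv g := by
    apply Subtype.ext; apply LinearEquiv.ext; intro x
    change φ (φ.symm (g.1 (φ (φ.symm x)))) = g.1 x
    simp
  map_mul' g k := by
    apply Subtype.ext; apply LinearEquiv.ext; intro x
    change φ (g.1 (k.1 (φ.symm x))) = φ (g.1 (φ.symm (φ (k.1 (φ.symm x)))))
    simp

theorem congrO_apply (φ : V ≃ₗ[F] V') (h : ∀ x, Q' (φ x) = Q x) (g : ↥(O Q)) (x : V) :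
    (congrO φ h g).1 (φ x) = φ (g.1 x) := by
  change φ (g.1 (φ.symm (φ x))) = _
  simp

theorem polar_congr (φ : V ≃ₗ[F] V') (h : ∀ x, Q' (φ x) = Q x) (x y : V) :
    polar Q' (φ x) (φ y) = polar Q x y := by
  unfold polar; rw [← map_add, h, h, h]

theorem nd_congr (φ : V ≃ₗ[F] V') (h : ∀ x, Q' (φ x) = Q x) (hQ : ND Q) : ND Q' := by
  apply nd_of_forall
  intro x hx
  have : φ.symm x = 0 := by
    apply hQ.eq_zero
    intro y
    rw [← polar_congr φ h, LinearEquiv.apply_symm_apply]; exact hx _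
  simpa using this

end Congr

section HF

variable {F : Type*} [Field F] {V : Type u} [AddCommGroup V] [Module F V]

/-- A hyperbolic family. -/
structure HF (Q : QuadraticForm F V) {m : ℕ} (e f : Fin m → V) : Prop where
  he : ∀ i, Q (e i) = 0
  hf : ∀ i, Q (f i) = 0
  hef : ∀ i j, polar Q (e i) (f j) = if i = j then 1 else 0
  hee : ∀ i j, polar Q (e i) (e j) = 0
  hff : ∀ i j, polar Q (f i) (f j) = 0

/-- The orthogonal complement of a family of pairs. -/
def cpl (Q : QuadraticForm F V) {m : ℕ} (e f : Fin m → V) : Submodule F V where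
  carrier := {x | ∀ i, polar Q x (e i) = 0 ∧ polar Q x (f i) = 0}
  add_mem' {x y} hx hy := fun i => by
    rw [polar_add_left, polar_add_left, (hx i).1, (hy i).1, (hx i).2, (hy i).2]; simp
  zero_mem' := fun i => by simp
  smul_mem' a x hx := fun i => by
    rw [polar_smul_left, polar_smul_left, (hx i).1, (hx i).2]; simp

variable {Q : QuadraticForm F V}

theorem mem_cpl {m : ℕ} {e f : Fin m → V} {x : V} :
    x ∈ cpl Q e f ↔ ∀ i, polar Q x (e i) = 0 ∧ polar Q x (f i) = 0 := Iff.rfl

theorem HF.hfe {m : ℕ} {e f : Fin m → V} (h : HF Q e f) (i j : Fin m) :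
    polar Q (f i) (e j) = if i = j then 1 else 0 := by
  rw [polar_comm, h.hef]
  simp only [eq_comm]

theorem HF.hyp {m : ℕ} {e f : Fin m → V} (h : HF Q e f) (i : Fin m) : Hyp Q (e i) (f i) :=
  ⟨h.he i, h.hf i, by rw [h.hef, if_pos rfl]⟩

/-- The tail of a hyperbolic family lies in the complement of the head. -/
theorem HF.tail_mem {m : ℕ} {e f : Fin (m + 1) → V} (h : HF Q e f) (i : Fin m) :
    e i.succ ∈ hperp Q (e 0) (f 0) ∧ f i.succ ∈ hperp Q (e 0) (f 0) := by
  rw [mem_hperp, mem_hperp]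
  have h0 : i.succ ≠ 0 := Fin.succ_ne_zero i
  refine ⟨⟨h.hee _ _, ?_⟩, ⟨?_, h.hff _ _⟩⟩
  · rw [h.hef, if_neg h0]
  · rw [h.hfe, if_neg h0]

def HF.te {m : ℕ} {e f : Fin (m + 1) → V} (h : HF Q e f) : Fin m → hperp Q (e 0) (f 0) :=
  fun i => ⟨e i.succ, (h.tail_mem i).1⟩

def HF.tf {m : ℕ} {e f : Fin (m + 1) → V} (h : HF Q e f) : Fin m → hperp Q (e 0) (f 0) :=
  fun i => ⟨f i.succ, (h.tail_mem i).2⟩

theorem HF.tail {m : ℕ} {e f : Fin (m + 1) → V} (h : HF Q e f) :
    HF (res Q (hperp Q (e 0) (f 0))) h.te h.tf where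
  he i := h.he _
  hf i := h.hf _
  hef i j := by
    rw [polar_res]
    change polar Q (e i.succ) (f j.succ) = _
    rw [h.hef]; simp [Fin.succ_inj]
  hee i j := h.hee _ _
  hff i j := h.hff _ _

/-- The complement of the tail, inside the complement of the head. -/
def HF.cplEquiv {m : ℕ} {e f : Fin (m + 1) → V} (h : HF Q e f) :
    ↥(cpl (res Q (hperp Q (e 0) (f 0))) h.te h.tf) ≃ₗ[F] ↥(cpl Q e f) where
  toFun x := ⟨x.1.1, fun i => by
    refine Fin.cases ?_ (fun i => ?_) i
    · exact mem_hperp.mp x.1.2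
    · exact x.2 i⟩
  map_add' x y := rfl
  map_smul' a x := rfl
  invFun x := ⟨⟨x.1, mem_hperp.mpr (x.2 0)⟩, fun i => x.2 i.succ⟩
  left_inv x := rfl
  right_inv x := rfl

variable [FiniteDimensional F V]

theorem HF.finrank_cpl {m : ℕ} : ∀ (V : Type u) [AddCommGroup V] [Module F V]
    [FiniteDimensional F V] (Q : QuadraticForm F V) {e f : Fin m → V} (h : HF Q e f),
    finrank F (cpl Q e f) + 2 * m = finrank F V := by
  induction m with
  | zero =>
    intro V _ _ _ Q e f h
    have : cpl Q e f = ⊤ := by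
      rw [eq_top_iff]; intro x _ i; exact i.elim0
    rw [this, finrank_top, mul_zero, add_zero]
  | succ m ih =>
    intro V _ _ _ Q e f h
    have h1 := ih _ _ h.tail
    have h2 := (h.hyp 0).finrank_perp
    have h3 := h.cplEquiv.finrank_eq
    omega

theorem nd_cpl {m : ℕ} : ∀ (V : Type u) [AddCommGroup V] [Module F V]
    [FiniteDimensional F V] (Q : QuadraticForm F V) {e f : Fin m → V} (h : HF Q e f),
    ND Q → ND (res Q (cpl Q e f)) := by
  induction m with
  | zero =>
    intro V _ _ _ Q e f h hQ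
    apply nd_res
    intro x _ hx
    apply hQ.eq_zero
    intro y
    exact hx y (fun i => i.elim0)
  | succ m ih =>
    intro V _ _ _ Q e f h hQ
    have h1 := ih _ _ h.tail ((h.hyp 0).nd_perp hQ)
    exact nd_congr h.cplEquiv (fun x => rfl) h1

/-- Extending a hyperbolic family. -/
theorem HF.snoc {m : ℕ} {e f : Fin m → V} (h : HF Q e f) {x y : V} (hxy : Hyp Q x y)
    (hx : x ∈ cpl Q e f) (hy : y ∈ cpl Q e f) :
    HF Q (Fin.snoc e x : Fin (m + 1) → V) (Fin.snoc f y : Fin (m + 1) → V) where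
  he i := by
    refine Fin.lastCases ?_ (fun i => ?_) i
    · rw [Fin.snoc_last]; exact hxy.he
    · rw [Fin.snoc_castSucc]; exact h.he i
  hf i := by
    refine Fin.lastCases ?_ (fun i => ?_) i
    · rw [Fin.snoc_last]; exact hxy.hf
    · rw [Fin.snoc_castSucc]; exact h.hf i
  hef i j := by
    refine Fin.lastCases ?_ (fun i => ?_) i <;> refine Fin.lastCases ?_ (fun j => ?_) j
    · rw [Fin.snoc_last, Fin.snoc_last, if_pos rfl]; exact hxy.hef
    · rw [Fin.snoc_last, Fin.snoc_castSucc, if_neg (Fin.castSucc_lt_last j).ne']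
      exact (hx j).2
    · rw [Fin.snoc_last, Fin.snoc_castSucc, if_neg (Fin.castSucc_lt_last i).ne, polar_comm]
      exact (hy i).1
    · rw [Fin.snoc_castSucc, Fin.snoc_castSucc, h.hef]
      simp [Fin.castSucc_inj]
  hee i j := by
    refine Fin.lastCases ?_ (fun i => ?_) i <;> refine Fin.lastCases ?_ (fun j => ?_) j
    · rw [Fin.snoc_last]; exact hxy.hee
    · rw [Fin.snoc_last, Fin.snoc_castSucc]; exact (hx j).1
    · rw [Fin.snoc_last, Fin.snoc_castSucc, polar_comm]; exact (hx i).1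
    · rw [Fin.snoc_castSucc, Fin.snoc_castSucc]; exact h.hee i j
  hff i j := by
    refine Fin.lastCases ?_ (fun i => ?_) i <;> refine Fin.lastCases ?_ (fun j => ?_) j
    · rw [Fin.snoc_last]; exact hxy.hff
    · rw [Fin.snoc_last, Fin.snoc_castSucc]; exact (hy j).2
    · rw [Fin.snoc_last, Fin.snoc_castSucc, polar_comm]; exact (hy i).2
    · rw [Fin.snoc_castSucc, Fin.snoc_castSucc]; exact h.hff i j

/-- The Witt decomposition. -/
theorem exists_witt_decomp (hQ : ND Q) : ∃ (m : ℕ) (e f : Fin m → V), HF Q e f ∧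
    ∀ x ∈ cpl Q e f, Q x = 0 → x = 0 := by
  classical
  let P : ℕ → Prop := fun m => ∃ (e f : Fin m → V), HF Q e f
  have hP0 : P 0 := ⟨Fin.elim0, Fin.elim0, ⟨fun i => i.elim0, fun i => i.elim0, fun i => i.elim0,
    fun i => i.elim0, fun i => i.elim0⟩⟩
  have hbound : ∀ m, P m → m ≤ finrank F V := by
    rintro m ⟨e, f, h⟩
    have := HF.finrank_cpl V Q h
    omega
  have hspec := Nat.findGreatest_spec (P := P) (Nat.zero_le (finrank F V)) hP0
  have hmax : ∀ m, P m → m ≤ Nat.findGreatest P (finrank F V) := fun m hm =>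
    Nat.le_findGreatest (hbound m hm) hm
  set M := Nat.findGreatest P (finrank F V) with hM
  obtain ⟨e, f, h⟩ := hspec
  refine ⟨M, e, f, h, fun x hx hx0 => ?_⟩
  by_contra hne
  have hnd := nd_cpl V Q h hQ
  obtain ⟨y, hy⟩ := exists_hyp hnd (e := ⟨x, hx⟩) (fun h0 => hne (congrArg Subtype.val h0)) hx0
  have h2 : Hyp Q x y.1 := ⟨hy.he, hy.hf, hy.hef⟩
  have h3 := hmax (M + 1) ⟨_, _, h.snoc h2 hx y.2⟩
  omega

end HF

/-! ### Counting -/

section Count

variable {F : Type*} [Field F] [Finite F] {V : Type u} [AddCommGroup V] [Module F V]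
  [FiniteDimensional F V] {Q : QuadraticForm F V} {e f : V}

theorem Hyp.card_partner (h : Hyp Q e f) :
    Nat.card {y : V // Hyp Q e y} = Nat.card F ^ (finrank F V - 2) := by
  have e1 : {y : V // Hyp Q e y} ≃ hperp Q e f := by
    refine ⟨fun y => (h.split y.1).2, fun w => ⟨(-Q (w : V)) • e + (1 : F) • f + (w : V), ?_⟩,
      ?_, ?_⟩
    · refine ⟨h.he, ?_, ?_⟩
      · rw [h.Q_split _ _ w.2]; ring
      · have h1 := h.polar_split 1 0 (-Q (w : V)) 1 (zero_mem _) w.2
        simpa using h1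
    · rintro ⟨y, hy⟩
      apply Subtype.ext
      have h2 : (h.split y).1.1 • e + (h.split y).1.2 • f + ((h.split y).2 : V) = y :=
        h.split.symm_apply_apply y
      have h3 : (h.split y).1.2 = 1 := hy.hfe
      have h4 := h.Q_split (h.split y).1.1 (h.split y).1.2 (h.split y).2.2
      rw [h2, hy.hf, h3] at h4
      have h5 : -Q ((h.split y).2 : V) = (h.split y).1.1 := by linear_combination h4
      change (-Q ((h.split y).2 : V)) • e + (1 : F) • f + ((h.split y).2 : V) = y
      rw [h5]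
      rw [h3] at h2
      exact h2
    · intro w
      have := h.split.apply_symm_apply ((-Q (w : V), 1), w)
      exact congrArg Prod.snd this
  rw [Nat.card_congr e1, card_V F]
  congr 1
  have := h.finrank_perp
  omega

open Classical in
theorem card_pairs (hQ : ND Q) :
    Nat.card {p : V × V // Hyp Q p.1 p.2}
      = (Nat.card {x : V // Q x = 0} - 1) * Nat.card F ^ (finrank F V - 2) := by
  haveI : Finite V := finite_V F V
  haveI : Fintype V := Fintype.ofFinite V
  have e1 : {p : V × V // Hyp Q p.1 p.2} ≃ (x : {x : V // x ≠ 0 ∧ Q x = 0}) × {y : V // Hyp Q x y} :=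
    ⟨fun p => ⟨⟨p.1.1, p.2.e_ne, p.2.he⟩, ⟨p.1.2, p.2⟩⟩, fun s => ⟨(s.1.1, s.2.1), s.2.2⟩,
      fun p => rfl, fun s => rfl⟩
  rw [Nat.card_congr e1, Nat.card_sigma]
  have h1 : ∀ x : {x : V // x ≠ 0 ∧ Q x = 0}, Nat.card {y : V // Hyp Q x.1 y}
      = Nat.card F ^ (finrank F V - 2) := by
    rintro ⟨x, hx0, hx⟩
    obtain ⟨y, hy⟩ := exists_hyp hQ hx0 hx
    exact hy.card_partner
  rw [Finset.sum_congr rfl (fun x _ => h1 x), Finset.sum_const, Finset.card_univ, smul_eq_mul]
  congr 1
  rw [Nat.card_eq_fintype_card]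
  have h2 : Fintype.card {x : V // Q x = 0} = Fintype.card {x : V // x ≠ 0 ∧ Q x = 0} + 1 := by
    have e2 : {x : V // Q x = 0} ≃ Option {x : V // x ≠ 0 ∧ Q x = 0} := by
      refine ⟨fun x => if hx : x.1 = 0 then none else some ⟨x.1, hx, x.2⟩,
        fun o => o.elim ⟨0, QuadraticMap.map_zero Q⟩ (fun x => ⟨x.1, x.2.2⟩), ?_, ?_⟩
      · rintro ⟨x, hx⟩
        by_cases h0 : x = 0
        · simp [h0]
        · simp [h0]
      · rintro (_ | ⟨x, hx⟩)
        · simp
        · simp [hx.1]
    rw [Fintype.card_congr e2, Fintype.card_option]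
  omega

theorem mem_fixer_span {g : ↥(O Q)} :
    g ∈ fixer Q (Submodule.span F {e, f}) ↔ g.1 e = e ∧ g.1 f = f := by
  rw [mem_fixer]
  constructor
  · intro h
    exact ⟨h e (Submodule.subset_span (by simp)), h f (Submodule.subset_span (by simp))⟩
  · rintro ⟨h1, h2⟩ y hy
    obtain ⟨a, b, rfl⟩ := Submodule.mem_span_pair.mp hy
    rw [map_add, map_smul, map_smul, h1, h2]

/-- `|O(V)| = #pairs · |O(W)|`. -/
theorem Hyp.card_O (hQ : ND Q) (h : Hyp Q e f) :
    Nat.card ↥(O Q) = (Nat.card {x : V // Q x = 0} - 1) * Nat.card F ^ (finrank F V - 2) *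
      Nat.card ↥(O (res Q (hperp Q e f))) := by
  rw [← card_pairs hQ]
  have h1 := Cfsg.Agent.Lib.Fiber.card_eq (G := ↥(O Q)) (⊤ : Subgroup ↥(O Q))
    (fixer Q (Submodule.span F {e, f})) le_top (fun g => (g.1 e, g.1 f)) ?_
    {p : V × V | Hyp Q p.1 p.2} ?_ ?_
  · rw [Subgroup.card_top] at h1
    rw [h1, Nat.card_congr (fixEquiv hQ h.nd_span).toEquiv]
    rfl
  · intro a _ b _
    rw [mem_fixer_span, Prod.mk.injEq]
    have key : ∀ x, (a⁻¹ * b).1 x = x ↔ a.1 x = b.1 x := by
      intro x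
      change (a⁻¹).1 (b.1 x) = x ↔ _
      constructor
      · intro h; rw [← self_apply_inv a (b.1 x), h]
      · intro h; rw [← h, inv_apply_self]
    rw [key, key]
  · intro a _
    exact h.map a.2
  · rintro ⟨x, y⟩ hxy
    obtain ⟨g, h1, h2⟩ := exists_map_pair hQ h.li hxy.li (by rw [h.he, hxy.he])
      (by rw [h.hf, hxy.hf]) (by rw [h.hef, hxy.hef])
    exact ⟨g, trivial, Prod.ext h1 h2⟩

/-- Number of zeros in terms of the anisotropic part. -/
theorem HF.card_zero {d : ℕ} {m : ℕ} : ∀ (V : Type u) [AddCommGroup V] [Module F V]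
    [FiniteDimensional F V] (Q : QuadraticForm F V) {e f : Fin m → V} (h : HF Q e f),
    finrank F (cpl Q e f) = d → (∀ x ∈ cpl Q e f, Q x = 0 → x = 0) →
    Nat.card {x : V // Q x = 0} * Nat.card F =
      (Nat.card F ^ m - 1) * (Nat.card F ^ (m + d) + Nat.card F) + Nat.card F := by
  have hq : 1 ≤ Nat.card F := Nat.card_pos
  induction m with
  | zero =>
    intro V _ _ _ Q e f h hd ha
    have h1 : ∀ x : V, Q x = 0 → x = 0 := fun x => ha x (fun i => i.elim0)
    have h2 : Nat.card {x : V // Q x = 0} = 1 := by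
      rw [Nat.card_eq_one_iff_unique]
      exact ⟨⟨fun a b => Subtype.ext (by rw [h1 a.1 a.2, h1 b.1 b.2])⟩,
        ⟨⟨0, QuadraticMap.map_zero Q⟩⟩⟩
    rw [h2, pow_zero]; simp
  | succ m ih =>
    intro V _ _ _ Q e f h hd ha
    have h0 := h.hyp 0
    have h1 := ih (hperp Q (e 0) (f 0)) (res Q _) h.tail
      (by rw [h.cplEquiv.finrank_eq, hd])
      (fun x hx hx0 => Subtype.ext (ha x.1 (h.cplEquiv ⟨x, hx⟩).2 hx0))
    have h2 := h0.card_Q_eq 0
    have h3 : Nat.card (hperp Q (e 0) (f 0)) = Nat.card F ^ (2 * m + d) := by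
      rw [card_V F]
      congr 1
      have h4 := HF.finrank_cpl _ _ h.tail
      have h5 := h.cplEquiv.finrank_eq
      omega
    rw [h3] at h2
    rw [h2]
    have h6 : 1 ≤ Nat.card F ^ m := Nat.one_le_pow _ _ hq
    have h7 : 1 ≤ Nat.card F ^ (m + 1) := Nat.one_le_pow _ _ hq
    generalize Nat.card {w : ↥(hperp Q (e 0) (f 0)) // res Q _ w = 0} = N at h1 ⊢
    generalize Nat.card F = q at *
    zify [hq, h6, h7] at h1 ⊢
    have e1 : (q : ℤ) ^ (m + 1 + d) = q * q ^ (m + d) := by ring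
    have e2 : (q : ℤ) ^ (2 * m + d) = q ^ m * q ^ (m + d) := by ring
    rw [e1, e2, pow_succ]
    linear_combination (q : ℤ) * h1

/-- The number of zeros, second form. -/
theorem HF.card_zero' {d : ℕ} {m : ℕ} {e f : Fin (m + 1) → V} (h : HF Q e f)
    (hd : finrank F (cpl Q e f) = d) (ha : ∀ x ∈ cpl Q e f, Q x = 0 → x = 0) :
    Nat.card {x : V // Q x = 0} = (Nat.card F ^ (m + 1) - 1) * (Nat.card F ^ (m + d) + 1) + 1 := by
  have hq : 0 < Nat.card F := Nat.card_pos
  have h1 := HF.card_zero V Q h hd ha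
  apply Nat.eq_of_mul_eq_mul_right hq
  rw [h1]
  ring

/-- The order of the orthogonal group in terms of the anisotropic part. -/
theorem HF.card_O {d : ℕ} {m : ℕ} : ∀ (V : Type u) [AddCommGroup V] [Module F V]
    [FiniteDimensional F V] (Q : QuadraticForm F V) {e f : Fin m → V} (h : HF Q e f), ND Q →
    finrank F (cpl Q e f) = d → (∀ x ∈ cpl Q e f, Q x = 0 → x = 0) →
    Nat.card ↥(O Q) = Nat.card ↥(O (res Q (cpl Q e f))) *
      ∏ i ∈ Finset.range m, ((Nat.card F ^ (i + 1) - 1) * (Nat.card F ^ (i + d) + 1) *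
        Nat.card F ^ (2 * i + d)) := by
  induction m with
  | zero =>
    intro V _ _ _ Q e f h hQ hd ha
    rw [Finset.range_zero, Finset.prod_empty, mul_one]
    have htop : cpl Q e f = ⊤ := by
      rw [eq_top_iff]; intro x _ i; exact i.elim0
    apply Nat.card_congr
    exact (congrO (LinearEquiv.ofTop (cpl Q e f) htop).symm (fun x => rfl)).toEquiv
  | succ m ih =>
    intro V _ _ _ Q e f h hQ hd ha
    have h0 := h.hyp 0
    have h1 := ih (hperp Q (e 0) (f 0)) (res Q _) h.tail (h0.nd_perp hQ)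
      (by rw [h.cplEquiv.finrank_eq, hd])
      (fun x hx hx0 => Subtype.ext (ha x.1 (h.cplEquiv ⟨x, hx⟩).2 hx0))
    rw [h0.card_O hQ, h1, h.card_zero' hd ha, Nat.add_sub_cancel, Finset.prod_range_succ]
    have h2 := HF.finrank_cpl _ _ h
    have h3 : finrank F V - 2 = 2 * m + d := by omega
    rw [h3]
    have h4 : Nat.card ↥(O (res (res Q (hperp Q (e 0) (f 0))) (cpl (res Q (hperp Q (e 0) (f 0))) h.te h.tf)))
        = Nat.card ↥(O (res Q (cpl Q e f))) :=
      Nat.card_congr (congrO h.cplEquiv (fun x => rfl)).toEquiv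
    rw [h4]
    ring

/-- Dimension zero. -/
theorem card_O_zero (h : finrank F V = 0) : Nat.card ↥(O Q) = 1 := by
  haveI : Subsingleton V := Module.finrank_zero_iff.mp h
  rw [Nat.card_eq_one_iff_unique]
  refine ⟨⟨fun a b => Subtype.ext (LinearEquiv.ext fun x => Subsingleton.elim _ _)⟩, ⟨1⟩⟩

/-- Dimension one, odd characteristic. -/
theorem card_O_one (hQ : ND Q) (h2 : (2 : F) ≠ 0) (h : finrank F V = 1) :
    Nat.card ↥(O Q) = 2 := by
  obtain ⟨v, hv⟩ := exists_Q_ne_zero hQ (by omega)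
  have hv0 : v ≠ 0 := by rintro rfl; exact hv (QuadraticMap.map_zero Q)
  have hspan : ∀ x : V, ∃ a : F, a • v = x := fun x => by
    have := (finrank_eq_one_iff_of_nonzero' v hv0).mp h x
    exact this
  rw [Nat.card_eq_two_iff]
  refine ⟨1, ⟨LinearEquiv.neg F, neg_mem_O Q⟩, ?_, ?_⟩
  · intro heq
    have h3 : v = -v := congrArg (fun g : ↥(O Q) => g.1 v) heq
    have h4 : (2 : F) • v = 0 := by
      rw [two_smul]; nth_rewrite 2 [h3]; abel
    exact hv0 ((smul_eq_zero.mp h4).resolve_left h2)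
  · rw [Set.eq_univ_iff_forall]
    intro g
    obtain ⟨a, ha⟩ := hspan (g.1 v)
    have h3 := g.2 v
    rw [← ha, map_smul'] at h3
    have h4 : a ^ 2 = 1 := mul_right_cancel₀ hv (h3.trans (one_mul _).symm)
    rcases (sq_eq_sq_iff_eq_or_eq_neg (b := (1 : F))).mp (by rw [h4, one_pow]) with rfl | rfl
    · left
      apply Subtype.ext; apply LinearEquiv.ext; intro x
      obtain ⟨b, rfl⟩ := hspan x
      rw [map_smul, ← ha, one_smul]; rfl
    · right
      rw [Set.mem_singleton_iff]
      apply Subtype.ext; apply LinearEquiv.ext; intro x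
      obtain ⟨b, rfl⟩ := hspan x
      rw [map_smul, ← ha]
      change _ = -(b • v)
      module

theorem finrank_perp_singleton (hQ : ND Q) {v : V} (hv : v ≠ 0) :
    finrank F (perp Q (Submodule.span F {v})) + 1 = finrank F V := by
  have h1 := finrank_perp hQ (Submodule.span F {v})
  rw [finrank_span_singleton hv] at h1
  have h2 := Submodule.finrank_le (Submodule.span F {v})
  rw [finrank_span_singleton hv] at h2
  omega

theorem card_ne_zero_V (F : Type*) [Field F] [Finite F] (V : Type*) [AddCommGroup V] [Module F V]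
    [FiniteDimensional F V] : Nat.card {x : V // x ≠ 0} = Nat.card F ^ finrank F V - 1 := by
  classical
  haveI : Finite V := finite_V F V
  haveI : Fintype V := Fintype.ofFinite V
  rw [← card_V F V, Nat.card_eq_fintype_card, Fintype.card_subtype_compl, Fintype.card_subtype_eq,
    Nat.card_eq_fintype_card]

/-- The vectors of given non-zero norm in an anisotropic plane. -/
theorem card_norm_eq_anis (hQ : ND Q) (ha : ∀ x, Q x = 0 → x = 0) (h : finrank F V = 2) {x0 : V}
    (hx0 : x0 ≠ 0) : Nat.card {x : V // Q x = Q x0} = Nat.card F + 1 := by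
  classical
  haveI : Finite V := finite_V F V
  haveI : Fintype V := Fintype.ofFinite V
  haveI : Fintype F := Fintype.ofFinite F
  have hne : ∀ u : V, u ≠ 0 → Q u ≠ 0 := fun u hu h => hu (ha u h)
  have e1 : {u : V // u ≠ 0} ≃ (x : {x : V // Q x = Q x0}) × {u : V // u ≠ 0 ∧ refl Q u x0 = x} :=
    ⟨fun u => ⟨⟨refl Q u x0, refl_mem Q u x0⟩, ⟨u, u.2, rfl⟩⟩, fun s => ⟨s.2.1, s.2.2.1⟩,
      fun u => rfl, fun s => by
        obtain ⟨x, u, hu, hux⟩ := s
        have hx : (⟨refl Q u x0, refl_mem Q u x0⟩ : {x : V // Q x = Q x0}) = x := Subtype.ext hux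
        subst hx
        rfl⟩
  have h1 : ∀ x : {x : V // Q x = Q x0},
      Nat.card {u : V // u ≠ 0 ∧ refl Q u x0 = x} = Nat.card F - 1 := by
    rintro ⟨x, hx⟩
    by_cases hxx : x = x0
    · have e2 : {u : V // u ≠ 0 ∧ refl Q u x0 = x} ≃
          {u : perp Q (Submodule.span F {x0}) // u ≠ 0} := by
        refine ⟨fun u => ⟨⟨u.1, ?_⟩, fun h0 => u.2.1 (congrArg Subtype.val h0)⟩,
          fun u => ⟨u.1.1, fun h0 => u.2 (Subtype.ext h0), ?_⟩, fun u => rfl, fun u => rfl⟩
        · rw [mem_perp_span_singleton]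
          have h2 : refl Q u.1 x0 = x0 := u.2.2.trans hxx
          rw [refl_apply, sub_eq_self, smul_eq_zero] at h2
          have h3 := h2.resolve_right u.2.1
          exact (mul_eq_zero.mp h3).resolve_left (inv_ne_zero (hne _ u.2.1))
        · rw [hxx]
          exact refl_of_orth (mem_perp_span_singleton.mp u.1.2)
      rw [Nat.card_congr e2, card_ne_zero_V F]
      have := finrank_perp_singleton hQ hx0
      have h3 : finrank F (perp Q (Submodule.span F {x0})) = 1 := by omega
      rw [h3, pow_one]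
    · have hd : x0 - x ≠ 0 := fun h0 => hxx (sub_eq_zero.mp h0).symm
      have hQd : Q (x0 - x) ≠ 0 := hne _ hd
      have e2 : {u : V // u ≠ 0 ∧ refl Q u x0 = x} ≃ {a : F // a ≠ 0} := by
        symm
        refine Equiv.ofBijective (fun a => ⟨a.1 • (x0 - x), smul_ne_zero a.2 hd, ?_⟩) ⟨?_, ?_⟩
        · rw [refl_smul Q a.2, refl_sub hx.symm hQd]
        · intro a b hab
          have h3 : a.1 • (x0 - x) = b.1 • (x0 - x) := congrArg Subtype.val hab
          exact Subtype.ext (smul_left_injective F hd h3)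
        · rintro ⟨u, hu, hux⟩
          rw [refl_apply] at hux
          set t := (Q u)⁻¹ * polar Q x0 u with ht
          have h3 : t • u = x0 - x := by rw [← hux]; abel
          have ht0 : t ≠ 0 := by
            intro h0; rw [h0, zero_smul] at h3; exact hd h3.symm
          refine ⟨⟨t⁻¹, inv_ne_zero ht0⟩, Subtype.ext ?_⟩
          change t⁻¹ • (x0 - x) = u
          rw [← h3, smul_smul, inv_mul_cancel₀ ht0, one_smul]
      rw [Nat.card_congr e2, Nat.card_eq_fintype_card, Fintype.card_subtype_compl,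
        Fintype.card_subtype_eq, Nat.card_eq_fintype_card]
  have h2 : Nat.card {u : V // u ≠ 0} = Nat.card {x : V // Q x = Q x0} * (Nat.card F - 1) := by
    rw [Nat.card_congr e1, Nat.card_sigma, Finset.sum_congr rfl (fun x _ => h1 x),
      Finset.sum_const, Finset.card_univ, smul_eq_mul,
      Nat.card_eq_fintype_card (α := {x : V // Q x = Q x0})]
  rw [card_ne_zero_V F, h] at h2
  have hq : 1 < Nat.card F := Finite.one_lt_card
  have h3 : Nat.card F ^ 2 - 1 = (Nat.card F + 1) * (Nat.card F - 1) := by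
    obtain ⟨r, hr⟩ : ∃ r, Nat.card F = r + 1 := ⟨Nat.card F - 1, by omega⟩
    rw [hr]
    simp only [Nat.add_sub_cancel]
    rw [show (r + 1) ^ 2 = (r + 1 + 1) * r + 1 by ring, Nat.add_sub_cancel]
  rw [h3] at h2
  exact (Nat.eq_of_mul_eq_mul_right (by omega) h2).symm

/-- Dimension two, anisotropic. -/
theorem card_O_two_anis (hQ : ND Q) (ha : ∀ x, Q x = 0 → x = 0) (h : finrank F V = 2) :
    Nat.card ↥(O Q) = 2 * (Nat.card F + 1) := by
  have hne : ∀ u : V, u ≠ 0 → Q u ≠ 0 := fun u hu h => hu (ha u h)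
  haveI hnt : Nontrivial V := Module.nontrivial_of_finrank_pos (R := F) (by omega)
  obtain ⟨x0, hx0⟩ := exists_ne (0 : V)
  -- the perpendicular vector
  have hp := finrank_perp_singleton hQ hx0
  haveI hnt2 : Nontrivial (perp Q (Submodule.span F {x0})) :=
    Module.nontrivial_of_finrank_pos (R := F) (by omega)
  obtain ⟨⟨u, hup⟩, hu0'⟩ := exists_ne (0 : perp Q (Submodule.span F {x0}))
  have hu0 : u ≠ 0 := fun h0 => hu0' (Subtype.ext h0)
  have hxu : polar Q x0 u = 0 := mem_perp_span_singleton.mp hup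
  have hspan : ∀ z, polar Q x0 z = 0 → ∃ t : F, z = t • u := by
    intro z hz
    have h1 : finrank F (perp Q (Submodule.span F {x0})) = 1 := by omega
    obtain ⟨t, ht⟩ := (finrank_eq_one_iff_of_nonzero' (⟨u, hup⟩ :
      perp Q (Submodule.span F {x0})) hu0').mp h1 ⟨z, mem_perp_span_singleton.mpr hz⟩
    exact ⟨t, (congrArg Subtype.val ht).symm⟩
  -- a vector outside the line of `x0`
  obtain ⟨w, hw⟩ : ∃ w, polar Q w u ≠ 0 := by
    obtain ⟨w, hw⟩ := hQ.exists_ne hu0
    exact ⟨w, by rw [polar_comm]; exact hw⟩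
  have hli : ∀ x : V, ∃ a b : F, x = a • x0 + b • w := by
    have hli2 : LinearIndependent F ![x0, w] := by
      rw [LinearIndependent.pair_iff' hx0]
      intro a haw
      apply hw
      rw [← haw, polar_smul_left, hxu, smul_zero]
    have := hli2.span_eq_top_of_card_eq_finrank (by simp [h])
    intro x
    have hx : x ∈ Submodule.span F (Set.range ![x0, w]) := by rw [this]; trivial
    rw [show (Set.range ![x0, w]) = {x0, w} by
      simp [Matrix.range_cons, Matrix.range_empty]; exact Set.pair_comm _ _] at hx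
    obtain ⟨a, b, hab⟩ := Submodule.mem_span_pair.mp hx
    exact ⟨a, b, hab.symm⟩
  have hstab : ∀ g : ↥(O Q), g.1 x0 = x0 → g = 1 ∨ g = rf Q u := by
    intro g hg
    obtain ⟨t, ht⟩ := hspan (g.1 w - w) (by
      rw [polar_sub_right]
      nth_rewrite 1 [← hg]
      rw [polar_map g.2, sub_self])
    have hgw : g.1 w = w + t • u := by rw [← ht]; abel
    have h1 := g.2 w
    rw [hgw, map_add', map_smul', polar_smul_right, smul_eq_mul] at h1
    have h2 : t * (t * Q u + polar Q w u) = 0 := by linear_combination h1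
    rcases mul_eq_zero.mp h2 with h3 | h3
    · left
      rw [h3, zero_smul, add_zero] at hgw
      apply Subtype.ext; apply LinearEquiv.ext; intro x
      obtain ⟨a, b, rfl⟩ := hli x
      rw [map_add, map_smul, map_smul, hg, hgw]; rfl
    · right
      have h4 : t = -((Q u)⁻¹ * polar Q w u) := by
        have := hne u hu0
        field_simp
        linear_combination h3
      apply Subtype.ext; apply LinearEquiv.ext; intro x
      obtain ⟨a, b, rfl⟩ := hli x
      change _ = refl Q u _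
      rw [map_add, map_smul, map_smul, hg, hgw, map_add, map_smul, map_smul, refl_of_orth hxu,
        refl_apply, h4]
      module
  let K : Subgroup ↥(O Q) :=
    { carrier := {g | g.1 x0 = x0}
      mul_mem' := fun {a b} ha hb => by
        change a.1 (b.1 x0) = x0
        rw [show b.1 x0 = x0 from hb]; exact ha
      one_mem' := rfl
      inv_mem' := fun {a} ha => by
        change (a⁻¹).1 x0 = x0
        nth_rewrite 1 [← (show a.1 x0 = x0 from ha)]
        exact inv_apply_self a x0 }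
  have hK : Nat.card K = 2 := by
    rw [Nat.card_eq_two_iff]
    refine ⟨1, ⟨rf Q u, refl_of_orth hxu⟩, ?_, ?_⟩
    · intro heq
      have h1 : (1 : ↥(O Q)) = rf Q u := congrArg Subtype.val heq
      have h2 : w = refl Q u w := congrArg (fun g : ↥(O Q) => g.1 w) h1
      rw [refl_apply, eq_comm, sub_eq_self, smul_eq_zero] at h2
      rcases h2 with h2 | h2
      · exact mul_ne_zero (inv_ne_zero (hne u hu0)) hw h2
      · exact hu0 h2
    · rw [Set.eq_univ_iff_forall]
      intro g
      rcases hstab g.1 g.2 with h1 | h1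
      · left; exact Subtype.ext h1
      · right; exact Subtype.ext h1
  have h1 := Cfsg.Agent.Lib.Fiber.card_eq (G := ↥(O Q)) (⊤ : Subgroup ↥(O Q)) K le_top
    (fun g => g.1 x0) ?_ {x | Q x = Q x0} ?_ ?_
  · rw [Subgroup.card_top, hK] at h1
    rw [h1]
    have h2 : Nat.card ↥{x | Q x = Q x0} = Nat.card F + 1 := card_norm_eq_anis hQ ha h hx0
    rw [h2, mul_comm]
  · intro a _ b _
    change _ ↔ (a⁻¹).1 (b.1 x0) = x0
    constructor
    · intro h; change a.1 x0 = b.1 x0 at h; rw [← h, inv_apply_self]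
    · intro h; change a.1 x0 = b.1 x0; rw [← self_apply_inv a (b.1 x0), h]
  · intro a _
    exact a.2 x0
  · intro x hx
    have hx0' : x ≠ 0 := by
      rintro rfl
      rw [Set.mem_setOf_eq, QuadraticMap.map_zero] at hx
      exact hne x0 hx0 hx.symm
    obtain ⟨g, hg⟩ := exists_map_eq hQ hx0 hx0' hx.symm
    exact ⟨g, trivial, hg⟩

end Count

end Cfsg.Agent.Lib.Orth
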