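import Mathlib
import Cfsg.Agent.Lib.Orth1
import Cfsg.Agent.Lib.Orth2
import Cfsg.Agent.Lib.Orth3
import Cfsg.Agent.Lib.Orth4
import Cfsg.Agent.Lib.Orth5
import Cfsg.Agent.Lib.Orth7
import Cfsg.Agent.Lib.Orth8

/-!
# Orthogonal groups over finite fields: the group generated by Siegel transformations is the
derived subgroup; transitivity; perfectness
-/

set_option autoImplicit false
set_option linter.all false

namespace Cfsg.Agent.Lib.Orth

open Module QuadraticMap
open scoped commutatorElement

section General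

variable {F : Type*} [Field F] {V : Type*} [AddCommGroup V] [Module F V] {Q : QuadraticForm F V}

/-- The Siegel transformation as an element of `O Q`. -/
def sg (Q : QuadraticForm F V) (w z : V) (hw : Q w = 0) (hwz : polar Q w z = 0) : ↥(O Q) :=
  ⟨siegel Q w z hw hwz, siegel_mem hw hwz⟩

theorem sg_apply {w z : V} (hw : Q w = 0) (hwz : polar Q w z = 0) (x : V) :
    (sg Q w z hw hwz).1 x = x + polar Q x w • z - polar Q x z • w - (Q z * polar Q x w) • w := rfl

/-- The group generated by Siegel transformations, inside `O Q`. -/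
def SG (Q : QuadraticForm F V) : Subgroup ↥(O Q) :=
  Subgroup.closure {g | ∃ (w z : V) (hw : Q w = 0) (hwz : polar Q w z = 0), g = sg Q w z hw hwz}

theorem sg_mem_SG {w z : V} (hw : Q w = 0) (hwz : polar Q w z = 0) : sg Q w z hw hwz ∈ SG Q :=
  Subgroup.subset_closure ⟨w, z, hw, hwz, rfl⟩

theorem conj_sg (g : ↥(O Q)) {w z : V} (hw : Q w = 0) (hwz : polar Q w z = 0) :
    g * sg Q w z hw hwz * g⁻¹ = sg Q (g.1 w) (g.1 z) (by rw [g.2, hw])
      (by rw [polar_map g.2, hwz]) := Subtype.ext (conj_siegel hw hwz g.2)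

theorem sg_mul {w z z' : V} (hw : Q w = 0) (hwz : polar Q w z = 0) (hwz' : polar Q w z' = 0) :
    sg Q w z hw hwz * sg Q w z' hw hwz'
      = sg Q w (z + z') hw (by rw [polar_add_right, hwz, hwz', add_zero]) :=
  Subtype.ext (siegel_mul hw hwz hwz')

theorem sg_congr {w w' z z' : V} (hw : Q w = 0) (hwz : polar Q w z = 0) (h : w = w') (h' : z = z')
    (hw' : Q w' = 0) (hwz' : polar Q w' z' = 0) :
    sg Q w z hw hwz = sg Q w' z' hw' hwz' := by subst h; subst h'; rfl

theorem sg_zero {w : V} (hw : Q w = 0) : sg Q w 0 hw (by simp) = 1 := Subtype.ext (siegel_zero hw)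

theorem sg_inv {w z : V} (hw : Q w = 0) (hwz : polar Q w z = 0) :
    (sg Q w z hw hwz)⁻¹ = sg Q w (-z) hw (by rw [polar_neg_right, hwz, neg_zero]) :=
  Subtype.ext (siegel_inv hw hwz)

theorem sg_smul {w z : V} {a : F} (hw : Q w = 0) (hwz : polar Q w z = 0) (haw : Q (a • w) = 0)
    (hawz : polar Q (a • w) z = 0) : sg Q (a • w) z haw hawz
      = sg Q w (a • z) hw (by rw [polar_smul_right, hwz, smul_zero]) := by
  apply Subtype.ext
  apply LinearEquiv.ext
  intro x
  rw [sg_apply, sg_apply]
  simp only [polar_smul_right, map_smul', smul_eq_mul]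
  module

theorem sg_add_smul {w z : V} {c : F} (hw : Q w = 0) (hwz : polar Q w z = 0)
    (h' : polar Q w (z + c • w) = 0) : sg Q w (z + c • w) hw h' = sg Q w z hw hwz := by
  apply Subtype.ext
  apply LinearEquiv.ext
  intro x
  have hzw : polar Q z w = 0 := by rw [polar_comm]; exact hwz
  rw [sg_apply, sg_apply]
  simp only [polar_add_right, polar_smul_right, map_add', map_smul', smul_eq_mul, hw, hzw]
  module

instance SG_normal : (SG Q).Normal := by
  constructor
  intro x hx g
  unfold SG at hx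
  induction hx using Subgroup.closure_induction with
  | mem x hx =>
    obtain ⟨w, z, hw, hwz, rfl⟩ := hx
    rw [conj_sg]; exact sg_mem_SG _ _
  | one => simp [one_mem]
  | mul x y _ _ hx hy =>
    have : g * (x * y) * g⁻¹ = (g * x * g⁻¹) * (g * y * g⁻¹) := by group
    rw [this]; exact mul_mem hx hy
  | inv x _ hx =>
    have : g * x⁻¹ * g⁻¹ = (g * x * g⁻¹)⁻¹ := by group
    rw [this]; exact inv_mem hx

end General

section FD

variable {F : Type*} [Field F] {V : Type*} [AddCommGroup V] [Module F V] [FiniteDimensional F V]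
  {Q : QuadraticForm F V}

/-- A product of two reflections in vectors of the same norm is a commutator. -/
theorem rf_mul_rf_mem (hQ : ND Q) {u v : V} (hu : Q u ≠ 0) (h : Q u = Q v) :
    rf Q u * rf Q v ∈ commutator ↥(O Q) := by
  have hv : Q v ≠ 0 := h ▸ hu
  have hu0 : u ≠ 0 := by rintro rfl; exact hu (QuadraticMap.map_zero Q)
  have hv0 : v ≠ 0 := by rintro rfl; exact hv (QuadraticMap.map_zero Q)
  obtain ⟨g, hg⟩ := exists_map_eq hQ hu0 hv0 h
  have h1 : rf Q v = g * rf Q u * g⁻¹ := by rw [conj_rf, hg]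
  have h2 : (rf Q u)⁻¹ = rf Q u := by rw [inv_eq_iff_mul_eq_one, rf_mul_self]
  have h3 : rf Q u * rf Q v = ⁅rf Q u, g⁆ := by
    rw [commutatorElement_def, h1, h2]; group
  rw [h3, commutator_def]
  exact Subgroup.commutator_mem_commutator (Subgroup.mem_top _) (Subgroup.mem_top _)

theorem sg_mem_commutator_of_ne (hQ : ND Q) {w z : V} (hw : Q w = 0) (hwz : polar Q w z = 0)
    (hz : Q z ≠ 0) : sg Q w z hw hwz ∈ commutator ↥(O Q) := by
  have h1 : sg Q w z hw hwz = rf Q z * rf Q (z + Q z • w) :=
    Subtype.ext (siegel_eq_refl_mul_refl hw hwz hz)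
  rw [h1]
  apply rf_mul_rf_mem hQ hz
  rw [map_add', map_smul', hw, polar_smul_right, polar_comm, hwz]; simp

/-- Siegel transformations lie in the derived subgroup, outside the exceptional case. -/
theorem sg_mem_commutator (hQ : ND Q) (hex : (∃ a : F, a ≠ 0 ∧ a ≠ -1) ∨ finrank F V ≠ 4)
    {w z : V} (hw : Q w = 0) (hwz : polar Q w z = 0) :
    sg Q w z hw hwz ∈ commutator ↥(O Q) := by
  have hzw : polar Q z w = 0 := by rw [polar_comm]; exact hwz
  by_cases hz : Q z = 0
  · have key : (∃ z', polar Q w z' = 0 ∧ Q z' ≠ 0 ∧ Q (z + z') ≠ 0) →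
        sg Q w z hw hwz ∈ commutator ↥(O Q) := by
      rintro ⟨z', h1, h2, h3⟩
      have e1 : polar Q w (z + z') = 0 := by rw [polar_add_right, hwz, h1, add_zero]
      have e2 : polar Q w (-z') = 0 := by rw [polar_neg_right, h1, neg_zero]
      have e3 : sg Q w z hw hwz = sg Q w (z + z') hw e1 * sg Q w (-z') hw e2 := by
        rw [sg_mul]
        exact sg_congr hw hwz rfl (by abel) _ _
      rw [e3]
      exact mul_mem (sg_mem_commutator_of_ne hQ hw e1 h3)
        (sg_mem_commutator_of_ne hQ hw e2 (by rw [QuadraticMap.map_neg]; exact h2))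
    by_cases hspan : z ∈ Submodule.span F {w}
    · obtain ⟨a, rfl⟩ := Submodule.mem_span_singleton.mp hspan
      have : sg Q w (a • w) hw hwz = 1 := by
        have h0 : polar Q w (0 + a • w) = 0 := by rw [zero_add]; exact hwz
        rw [sg_congr hw hwz rfl (zero_add (a • w)).symm hw h0, sg_add_smul hw (by simp) h0,
          sg_zero]
      rw [this]; exact one_mem _
    · rcases hex with ⟨a, ha0, ha1⟩ | hdim
      · apply key
        obtain ⟨y0, hy0, hzy0⟩ := exists_perp_eq_one hQ hspan
        have hwy0 : polar Q w y0 = 0 := hy0 w (Submodule.mem_span_singleton_self w)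
        refine ⟨y0 + (a - Q y0) • z, ?_, ?_, ?_⟩
        · rw [polar_add_right, polar_smul_right, hwy0, hwz]; simp
        · rw [map_add', map_smul', polar_smul_right, hz, polar_comm Q y0 z, hzy0]
          simp [ha0]
        · have e : z + (y0 + (a - Q y0) • z) = y0 + (a + 1 - Q y0) • z := by module
          rw [e, map_add', map_smul', polar_smul_right, hz, polar_comm Q y0 z, hzy0]
          simp only [smul_eq_mul, mul_one, mul_zero, add_zero, add_sub_cancel]
          intro h0
          exact ha1 (eq_neg_of_add_eq_zero_left h0)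
      · by_contra hcon
        apply hdim
        set U := perp Q (Submodule.span F {w, z}) with hUdef
        have hmem : ∀ x, x ∈ U ↔ polar Q x w = 0 ∧ polar Q x z = 0 := fun x => mem_hperp
        have hU : ∀ u ∈ U, Q u = 0 := by
          intro u hu
          by_contra hne
          apply hcon
          apply key
          obtain ⟨h1, h2⟩ := (hmem u).mp hu
          refine ⟨u, by rw [polar_comm]; exact h1, hne, ?_⟩
          rw [map_add', hz, polar_comm, h2]
          simpa using hne
        have hw0 : w ≠ 0 := by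
          rintro rfl
          apply hcon
          have : sg Q 0 z hw hwz = 1 := by
            apply Subtype.ext; apply LinearEquiv.ext; intro x
            rw [sg_apply]
            change _ = x
            simp
          rw [this]; exact one_mem _
        have hli : LinearIndependent F ![w, z] := by
          rw [LinearIndependent.pair_iff' hw0]
          intro a ha
          apply hspan
          rw [Submodule.mem_span_singleton]
          exact ⟨a, ha⟩
        have hfr : finrank F (Submodule.span F {w, z}) = 2 := by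
          have h0 := finrank_span_eq_card hli
          rw [show (Set.range ![w, z]) = {w, z} by
            simp [Matrix.range_cons, Matrix.range_empty]; exact Set.pair_comm _ _] at h0
          simpa using h0
        have h1 := two_mul_finrank_le hQ hU
        have h2 := finrank_perp hQ (Submodule.span F {w, z})
        rw [← hUdef, hfr] at h2
        have h3 : Submodule.span F {w, z} ≤ U := by
          rw [Submodule.span_le]
          rintro x (rfl | hx)
          · rw [SetLike.mem_coe, hmem, polar_self', hw, mul_zero]; exact ⟨rfl, hwz⟩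
          · rw [Set.mem_singleton_iff] at hx
            subst hx
            rw [SetLike.mem_coe, hmem, polar_self', hz, mul_zero]; exact ⟨hzw, rfl⟩
        have h4 := Submodule.finrank_mono h3
        rw [hfr] at h4
        omega
  · exact sg_mem_commutator_of_ne hQ hw hwz hz

theorem SG_le_commutator (hQ : ND Q) (hex : (∃ a : F, a ≠ 0 ∧ a ≠ -1) ∨ finrank F V ≠ 4) :
    SG Q ≤ commutator ↥(O Q) := by
  unfold SG
  rw [Subgroup.closure_le]
  rintro _ ⟨w, z, hw, hwz, rfl⟩
  exact sg_mem_commutator hQ hex hw hwz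

/-! ### Transitivity of the Siegel group -/

variable {e f : V}

/-- The Siegel transformations attached to the two vectors of a hyperbolic pair. -/
def TS (h : Hyp Q e f) : Subgroup ↥(O Q) :=
  Subgroup.closure ({g | ∃ (z : V) (hz : polar Q e z = 0), g = sg Q e z h.he hz} ∪
    {g | ∃ (z : V) (hz : polar Q f z = 0), g = sg Q f z h.hf hz})

theorem TS_le_SG (h : Hyp Q e f) : TS h ≤ SG Q := by
  unfold TS
  rw [Subgroup.closure_le]
  rintro _ (⟨z, hz, rfl⟩ | ⟨z, hz, rfl⟩)
  · exact sg_mem_SG _ _
  · exact sg_mem_SG _ _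

/-- Every non-zero vector can be moved to the standard position. -/
theorem Hyp.exists_move (hQ : ND Q) (h : Hyp Q e f) (hW : ∀ c : F, ∃ z ∈ hperp Q e f, Q z = c)
    (hW0 : ∃ z ∈ hperp Q e f, z ≠ 0) {v : V} (hv : v ≠ 0) :
    ∃ g ∈ TS h, g.1 v = e + Q v • f := by
  have orth_e : ∀ {z : V}, z ∈ hperp Q e f → polar Q e z = 0 := fun hz => by
    rw [polar_comm]; exact (mem_hperp.mp hz).1
  have orth_f : ∀ {z : V}, z ∈ hperp Q e f → polar Q f z = 0 := fun hz => by
    rw [polar_comm]; exact (mem_hperp.mp hz).2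
  -- step 1
  have step1 : ∀ v : V, polar Q v f = 1 → ∃ g ∈ TS h, g.1 v = e + Q v • f := by
    intro v hvf
    obtain ⟨α, β, z0, hz0, rfl⟩ := h.exists_split v
    have hα : α = 1 := by
      simp only [polar_add_left, polar_smul_left, h.hef, h.hff, (mem_hperp.mp hz0).2,
        smul_eq_mul] at hvf
      linear_combination hvf
    subst hα
    have hnz : -z0 ∈ hperp Q e f := Submodule.neg_mem _ hz0
    refine ⟨sg Q f (-z0) h.hf (orth_f hnz), Subgroup.subset_closure (Or.inr ⟨_, _, rfl⟩), ?_⟩
    rw [sg_apply, h.Q_split _ _ hz0]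
    simp only [polar_add_left, polar_smul_left, polar_neg_right, QuadraticMap.map_neg, h.hef, h.hff,
      (mem_hperp.mp hz0).2, orth_e hz0, orth_f hz0, polar_self', smul_eq_mul]
    module
  -- step 2
  have step2 : ∀ v : V, (∃ z ∈ hperp Q e f, polar Q v f - polar Q v z - Q z * polar Q v e = 1) →
      ∃ g ∈ TS h, g.1 v = e + Q v • f := by
    rintro v ⟨z, hz, hz1⟩
    let k := sg Q e z h.he (orth_e hz)
    have hk : k ∈ TS h := Subgroup.subset_closure (Or.inl ⟨_, _, rfl⟩)
    obtain ⟨g, hg, hg2⟩ := step1 (k.1 v) (by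
      rw [show k.1 v = _ from sg_apply _ _ v]
      simp only [polar_add_left, polar_sub_left, polar_smul_left, smul_eq_mul, h.hef,
        (mem_hperp.mp hz).2]
      linear_combination hz1)
    refine ⟨g * k, mul_mem hg hk, ?_⟩
    change g.1 (k.1 v) = _
    rw [hg2, k.2]
  -- step 3
  have step3 : ∀ v : V, ¬ (polar Q v e = 0 ∧ v - polar Q v f • e - polar Q v e • f = 0) →
      ∃ g ∈ TS h, g.1 v = e + Q v • f := by
    intro v hv
    apply step2
    obtain ⟨α, β, z0, hz0, rfl⟩ := h.exists_split v
    have h1 : polar Q (α • e + β • f + z0) f = α := by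
      simp only [polar_add_left, polar_smul_left, h.hef, h.hff, (mem_hperp.mp hz0).2,
        smul_eq_mul]; ring
    have h2 : polar Q (α • e + β • f + z0) e = β := by
      simp only [polar_add_left, polar_smul_left, h.hee, h.hfe, (mem_hperp.mp hz0).1,
        smul_eq_mul]; ring
    rw [h1, h2] at hv ⊢
    by_cases hβ : β = 0
    · have hz00 : z0 ≠ 0 := by
        intro h0
        apply hv
        refine ⟨hβ, ?_⟩
        rw [h0]; module
      have hnd := h.nd_perp hQ
      obtain ⟨y, hy⟩ := hnd.exists_ne (x := ⟨z0, hz0⟩) (fun h0 => hz00 (congrArg Subtype.val h0))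
      have hy' : polar Q z0 (y : V) ≠ 0 := hy
      refine ⟨((α - 1) / polar Q z0 y) • (y : V), Submodule.smul_mem _ _ y.2, ?_⟩
      rw [hβ, mul_zero, sub_zero]
      simp only [polar_add_left, polar_smul_left, polar_smul_right, orth_e y.2, orth_f y.2,
        smul_eq_mul]
      field_simp
      ring
    · obtain ⟨y, hy, hyQ⟩ := hW (β⁻¹ * (α - 1 + β⁻¹ * Q z0))
      refine ⟨y - β⁻¹ • z0, Submodule.sub_mem _ hy (Submodule.smul_mem _ _ hz0), ?_⟩
      simp only [polar_add_left, polar_smul_left, polar_smul_right, polar_sub_right, orth_e hy,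
        orth_f hy, orth_e hz0, orth_f hz0, smul_eq_mul, map_sub', map_smul', polar_self', hyQ,
        polar_comm Q y z0]
      field_simp
      ring
  by_cases hcase : polar Q v e = 0 ∧ v - polar Q v f • e - polar Q v e • f = 0
  · obtain ⟨h1, h2⟩ := hcase
    rw [h1, zero_smul, sub_zero, sub_eq_zero] at h2
    set α := polar Q v f with hα
    have hα0 : α ≠ 0 := by
      intro h0; rw [h0, zero_smul] at h2; exact hv h2
    obtain ⟨z, hz, hz0⟩ := hW0
    let k := sg Q f z h.hf (orth_f hz)
    have hk : k ∈ TS h := Subgroup.subset_closure (Or.inr ⟨_, _, rfl⟩)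
    have hkv : k.1 v = α • e + (-(α * Q z)) • f + α • z := by
      rw [show k.1 v = _ from sg_apply _ _ v, h2]
      simp only [polar_smul_left, h.hef, orth_e hz, smul_eq_mul]
      module
    obtain ⟨g, hg, hg2⟩ := step3 (k.1 v) (by
      rintro ⟨h3, h4⟩
      have h5 : polar Q (k.1 v) f = α := by
        rw [hkv]
        simp only [polar_add_left, polar_smul_left, h.hef, h.hff, (mem_hperp.mp hz).2,
          smul_eq_mul]; ring
      have h6 : polar Q (k.1 v) e = -(α * Q z) := by
        rw [hkv]
        simp only [polar_add_left, polar_smul_left, h.hee, h.hfe, (mem_hperp.mp hz).1,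
          smul_eq_mul]; ring
      rw [h5, h6, hkv] at h4
      have h7 : α • z = 0 := by rw [← h4]; module
      exact hz0 ((smul_eq_zero.mp h7).resolve_left hα0))
    refine ⟨g * k, mul_mem hg hk, ?_⟩
    change g.1 (k.1 v) = _
    rw [hg2, k.2]
  · exact step3 v hcase

/-- Transitivity of the Siegel group on non-zero vectors of a given norm. -/
theorem Hyp.exists_TS (hQ : ND Q) (h : Hyp Q e f) (hW : ∀ c : F, ∃ z ∈ hperp Q e f, Q z = c)
    (hW0 : ∃ z ∈ hperp Q e f, z ≠ 0) {u v : V} (hu : u ≠ 0) (hv : v ≠ 0) (huv : Q u = Q v) :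
    ∃ g ∈ TS h, g.1 u = v := by
  obtain ⟨a, ha, ha2⟩ := h.exists_move hQ hW hW0 hu
  obtain ⟨b, hb, hb2⟩ := h.exists_move hQ hW hW0 hv
  refine ⟨b⁻¹ * a, mul_mem (inv_mem hb) ha, ?_⟩
  change (b⁻¹).1 (a.1 u) = v
  rw [ha2, huv, ← hb2, inv_apply_self]

end FD

section Fin

variable {F : Type*} [Field F] [Finite F] {V : Type*} [AddCommGroup V] [Module F V]
  [FiniteDimensional F V] {Q : QuadraticForm F V} {e f : V}

theorem Hyp.hperp_univ (hQ : ND Q) (h : Hyp Q e f) (hn : 4 ≤ finrank F V) :
    (∀ c : F, ∃ z ∈ hperp Q e f, Q z = c) ∧ ∃ z ∈ hperp Q e f, z ≠ 0 := by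
  have hfr := h.finrank_perp
  have hnd := h.nd_perp hQ
  constructor
  · intro c
    by_cases hc : c = 0
    · exact ⟨0, zero_mem _, by rw [hc]; exact QuadraticMap.map_zero Q⟩
    · obtain ⟨z, hz⟩ := exists_Q_eq hnd (by omega) hc
      exact ⟨z, z.2, hz⟩
  · haveI : Nontrivial (hperp Q e f) := Module.nontrivial_of_finrank_pos (R := F) (by omega)
    obtain ⟨z, hz⟩ := exists_ne (0 : hperp Q e f)
    exact ⟨z, z.2, fun h0 => hz (Subtype.ext h0)⟩

theorem exists_hyp_pair (hQ : ND Q) (hn : 3 ≤ finrank F V) : ∃ e f : V, Hyp Q e f := by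
  obtain ⟨e, he0, he⟩ := exists_singular hQ hn
  obtain ⟨f, hf⟩ := exists_hyp hQ he0 he
  exact ⟨e, f, hf⟩

/-- Transitivity of `SG` on vectors of a given norm. -/
theorem exists_SG (hQ : ND Q) (hn : 4 ≤ finrank F V) {u v : V} (hu : u ≠ 0) (hv : v ≠ 0)
    (huv : Q u = Q v) : ∃ g ∈ SG Q, g.1 u = v := by
  obtain ⟨e, f, h⟩ := exists_hyp_pair hQ (by omega)
  obtain ⟨h1, h2⟩ := h.hperp_univ hQ hn
  obtain ⟨g, hg, hg2⟩ := h.exists_TS hQ h1 h2 hu hv huv
  exact ⟨g, TS_le_SG h hg, hg2⟩

/-- In rank at least four the derived subgroup is contained in the Siegel group. -/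
theorem commutator_le_SG (hQ : ND Q) (hR : R Q = O Q) (hn : 4 ≤ finrank F V) :
    commutator ↥(O Q) ≤ SG Q := by
  apply commutator_le_of_closure (closure_rf hR)
  rintro _ ⟨u, hu, rfl⟩ _ ⟨v, hv, rfl⟩
  have hv0 : v ≠ 0 := by rintro rfl; exact hv (QuadraticMap.map_zero Q)
  have hu0 : u ≠ 0 := by rintro rfl; exact hu (QuadraticMap.map_zero Q)
  -- find `v'` of the same norm whose reflection commutes with that in `u`
  obtain ⟨v', hv', hcomm⟩ : ∃ v', Q v' = Q v ∧ rf Q u * rf Q v' = rf Q v' * rf Q u := by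
    by_cases h2 : (2 : F) = 0
    · obtain ⟨t, ht⟩ := exists_sq_of_two_eq_zero h2 (Q v / Q u)
      have ht0 : t ≠ 0 := by
        rintro rfl
        have h3 : Q v / Q u = 0 := by rw [← ht]; ring
        exact div_ne_zero hv hu h3
      refine ⟨t • u, ?_, ?_⟩
      · rw [map_smul', ht]; field_simp
      · rw [rf_smul ht0]
    · have hX : ND (res Q (Submodule.span F {u})) := by
        apply nd_res
        intro x hx hy
        obtain ⟨a, rfl⟩ := Submodule.mem_span_singleton.mp hx
        have := hy u (Submodule.mem_span_singleton_self u)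
        rw [polar_smul_left, polar_self', smul_eq_mul] at this
        have ha : a = 0 := (mul_eq_zero.mp this).resolve_right (mul_ne_zero h2 hu)
        rw [ha, zero_smul]
      have h3 := finrank_perp_singleton hQ hu0
      obtain ⟨w, hw⟩ := exists_Q_eq (nd_res_perp hQ hX) (by omega) hv
      refine ⟨w, hw, ?_⟩
      have h4 : rf Q (w : V) * rf Q u * (rf Q (w : V))⁻¹ = rf Q u := by
        rw [conj_rf]
        congr 1
        exact refl_of_orth (mem_perp_span_singleton.mp w.2)
      rw [mul_inv_eq_iff_eq_mul] at h4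
      exact h4.symm
  have hv'0 : v' ≠ 0 := by
    rintro rfl
    rw [QuadraticMap.map_zero] at hv'
    exact hv hv'.symm
  obtain ⟨g, hg, hgv⟩ := exists_SG hQ hn hv0 hv'0 hv'.symm
  have e1 : rf Q v' = g * rf Q v * g⁻¹ := by rw [conj_rf, hgv]
  -- work modulo `SG Q`
  have e2 : (QuotientGroup.mk' (SG Q)) (rf Q v') = QuotientGroup.mk' (SG Q) (rf Q v) := by
    have hg1 : (QuotientGroup.mk' (SG Q)) g = 1 := (QuotientGroup.eq_one_iff g).mpr hg
    rw [e1, map_mul, map_mul, map_inv, hg1, one_mul, inv_one, mul_one]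
  rw [← QuotientGroup.eq_one_iff]
  change (QuotientGroup.mk' (SG Q)) (rf Q u * rf Q v * (rf Q u)⁻¹ * (rf Q v)⁻¹) = 1
  rw [map_mul, map_mul, map_mul, map_inv, map_inv, ← e2, ← map_mul, hcomm, map_mul]
  group

/-- In rank at least four (outside the exceptional case) the derived subgroup is the Siegel
group. -/
theorem commutator_eq_SG (hQ : ND Q) (hex : (∃ a : F, a ≠ 0 ∧ a ≠ -1) ∨ finrank F V ≠ 4)
    (hn : 4 ≤ finrank F V) : commutator ↥(O Q) = SG Q :=
  le_antisymm (commutator_le_SG hQ (R_eq_O hQ hex) hn) (SG_le_commutator hQ hex)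

end Fin

end Cfsg.Agent.Lib.Orth
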