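import Mathlib
import Cfsg.Agent.Lib.Orth1
import Cfsg.Agent.Lib.Orth2
import Cfsg.Agent.Lib.Orth3
import Cfsg.Agent.Lib.Orth4
import Cfsg.Agent.Lib.Orth5
import Cfsg.Agent.Lib.Orth7
import Cfsg.Agent.Lib.Orth8
import Cfsg.Agent.Lib.Orth10

/-!
# Orthogonal groups over finite fields: perfectness and simplicity
-/

set_option autoImplicit false
set_option linter.all false

namespace Cfsg.Agent.Lib.Orth

open Module QuadraticMap
open scoped commutatorElement

section Emb

variable {F : Type*} [Field F] {V : Type*} [AddCommGroup V] [Module F V] [FiniteDimensional F V]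
  {Q : QuadraticForm F V}

theorem embO_apply_perp (hQ : ND Q) {Y : Submodule F V} (hY : ND (res Q Y))
    (k : ↥(O (res Q (perp Q Y)))) (z : perp Q Y) : (embO hQ hY k).1 (z : V) = (k.1 z : V) := by
  rw [embO_eq]; exact extO_apply_perp hQ hY k z

theorem embO_apply_fix (hQ : ND Q) {Y : Submodule F V} (hY : ND (res Q Y))
    (k : ↥(O (res Q (perp Q Y)))) {y : V} (hy : y ∈ Y) : (embO hQ hY k).1 y = y := by
  rw [embO_eq]; exact extO_apply_fix hQ hY k hy

theorem ext_of_compl (hQ : ND Q) {Y : Submodule F V} (hY : ND (res Q Y)) {g h : ↥(O Q)}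
    (h1 : ∀ y ∈ Y, g.1 y = h.1 y) (h2 : ∀ z ∈ perp Q Y, g.1 z = h.1 z) : g = h := by
  apply Subtype.ext
  apply LinearEquiv.ext
  intro x
  have hx : x ∈ Y ⊔ perp Q Y := by rw [(isCompl_perp hQ hY).sup_eq_top]; trivial
  obtain ⟨y, hy, z, hz, rfl⟩ := Submodule.mem_sup.mp hx
  rw [map_add, map_add, h1 y hy, h2 z hz]

theorem embO_sg (hQ : ND Q) {Y : Submodule F V} (hY : ND (res Q Y)) (w z : perp Q Y)
    (hw : res Q (perp Q Y) w = 0) (hwz : polar (res Q (perp Q Y)) w z = 0)
    (hw' : Q (w : V) = 0) (hwz' : polar Q (w : V) (z : V) = 0) :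
    embO hQ hY (sg (res Q (perp Q Y)) w z hw hwz) = sg Q (w : V) (z : V) hw' hwz' := by
  apply ext_of_compl hQ hY
  · intro y hy
    rw [embO_apply_fix hQ hY _ hy, sg_apply]
    have h1 : polar Q y w = 0 := w.2 y hy
    have h2 : polar Q y z = 0 := z.2 y hy
    rw [h1, h2]; module
  · intro x hx
    rw [embO_apply_perp hQ hY _ ⟨x, hx⟩, sg_apply, sg_apply]
    rfl

theorem embO_mem_SG (hQ : ND Q) {Y : Submodule F V} (hY : ND (res Q Y))
    {k : ↥(O (res Q (perp Q Y)))} (hk : k ∈ SG (res Q (perp Q Y))) : embO hQ hY k ∈ SG Q := by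
  unfold SG at hk
  induction hk using Subgroup.closure_induction with
  | mem x hx =>
    obtain ⟨w, z, hw, hwz, rfl⟩ := hx
    rw [embO_sg hQ hY w z hw hwz hw hwz]; exact sg_mem_SG _ _
  | one => rw [map_one]; exact one_mem _
  | mul x y _ _ hx hy => rw [map_mul]; exact mul_mem hx hy
  | inv x _ hx => rw [map_inv]; exact inv_mem hx

theorem embO_rf (hQ : ND Q) {Y : Submodule F V} (hY : ND (res Q Y)) (u : perp Q Y) :
    embO hQ hY (rf (res Q (perp Q Y)) u) = rf Q (u : V) := by
  apply ext_of_compl hQ hY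
  · intro y hy
    rw [embO_apply_fix hQ hY _ hy]
    exact (refl_of_orth (u.2 y hy)).symm
  · intro x hx
    rw [embO_apply_perp hQ hY _ ⟨x, hx⟩]
    rfl

theorem sg_eq_one_of_zero {w z : V} (hw : Q w = 0) (hwz : polar Q w z = 0) (h0 : w = 0) :
    sg Q w z hw hwz = 1 := by
  subst h0
  apply Subtype.ext; apply LinearEquiv.ext; intro x
  rw [sg_apply]
  change _ = x
  simp

/-- Every Siegel transformation with `w ≠ 0` has the second vector in the complement. -/
theorem exists_sg_eq (hQ : ND Q) {e f : V} (h : Hyp Q e f) {z : V} (hez : polar Q e z = 0) :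
    ∃ (z' : V) (hz' : z' ∈ hperp Q e f) (hez' : polar Q e z' = 0),
      sg Q e z h.he hez = sg Q e z' h.he hez' := by
  have hze : polar Q z e = 0 := by rw [polar_comm]; exact hez
  have h1 : z - polar Q z f • e ∈ hperp Q e f := by
    have := h.proj_mem z
    rw [hze, zero_smul, sub_zero] at this
    exact this
  have h2 : polar Q e (z - polar Q z f • e) = 0 := by
    rw [polar_comm]; exact (mem_hperp.mp h1).1
  refine ⟨z - polar Q z f • e, h1, h2, ?_⟩
  have h3 : polar Q e ((z - polar Q z f • e) + polar Q z f • e) = 0 := by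
    rw [sub_add_cancel]; exact hez
  rw [sg_congr h.he hez rfl (sub_add_cancel z (polar Q z f • e)).symm h.he h3]
  exact sg_add_smul h.he h2 h3

end Emb

section Fin

variable {F : Type*} [Field F] [Finite F] {V : Type*} [AddCommGroup V] [Module F V]
  [FiniteDimensional F V] {Q : QuadraticForm F V} {e f : V}

/-- In rank at least six every Siegel transformation is a commutator of elements of `SG`. -/
theorem sg_mem_bracket (hQ : ND Q) (hn : 6 ≤ finrank F V) {w z : V} (hw : Q w = 0)
    (hwz : polar Q w z = 0) :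
    ∃ a ∈ SG Q, ∃ b ∈ SG Q, sg Q w z hw hwz = ⁅a, b⁆ := by
  have triv : (1 : ↥(O Q)) = ⁅(1 : ↥(O Q)), (1 : ↥(O Q))⁆ := by simp [commutatorElement_def]
  by_cases hw0 : w = 0
  · exact ⟨1, one_mem _, 1, one_mem _, by rw [sg_eq_one_of_zero hw hwz hw0]; exact triv⟩
  obtain ⟨f, h⟩ := exists_hyp hQ hw0 hw
  obtain ⟨z1, hz1, hwz1, heq⟩ := exists_sg_eq hQ h hwz
  rw [heq]
  by_cases hz10 : z1 = 0
  · refine ⟨1, one_mem _, 1, one_mem _, ?_⟩
    subst hz10
    rw [← triv]
    exact sg_zero _
  have hfr := h.finrank_perp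
  have hnd := h.nd_perp hQ
  -- find `z'`
  obtain ⟨z', hz', hz'0, hz'1, hz'2⟩ : ∃ z' ∈ hperp Q w f, z' ≠ 0 ∧ z' + z1 ≠ 0 ∧
      polar Q z' z1 = - Q z1 := by
    by_cases hQz : Q z1 = 0
    · -- choose `z'` orthogonal to `z1`, outside the line
      have h1 := finrank_perp_singleton hnd (v := (⟨z1, hz1⟩ : hperp Q w f))
        (fun h0 => hz10 (congrArg Subtype.val h0))
      have h2 : ∃ y ∈ perp (res Q (hperp Q w f)) (Submodule.span F {(⟨z1, hz1⟩ : hperp Q w f)}),
          y ∉ Submodule.span F {(⟨z1, hz1⟩ : hperp Q w f)} := by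
        by_contra hcon
        push Not at hcon
        have h3 := Submodule.finrank_mono (s := perp (res Q (hperp Q w f))
          (Submodule.span F {(⟨z1, hz1⟩ : hperp Q w f)}))
          (t := Submodule.span F {(⟨z1, hz1⟩ : hperp Q w f)}) hcon
        rw [finrank_span_singleton (fun h0 => hz10 (congrArg Subtype.val h0))] at h3
        omega
      obtain ⟨y, hy1, hy2⟩ := h2
      have hy3' : polar (res Q (hperp Q w f)) ⟨z1, hz1⟩ y = 0 := mem_perp_span_singleton.mp hy1
      have hy3 : polar Q z1 (y : V) = 0 := hy3'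
      refine ⟨y, y.2, ?_, ?_, ?_⟩
      · intro h0
        apply hy2
        rw [show y = 0 from Subtype.ext h0]; exact zero_mem _
      · intro h0
        apply hy2
        rw [Submodule.mem_span_singleton]
        refine ⟨-1, Subtype.ext ?_⟩
        change (-1 : F) • z1 = (y : V)
        rw [eq_neg_of_add_eq_zero_left h0]; module
      · rw [polar_comm, hy3, hQz, neg_zero]
    · obtain ⟨y, hy⟩ := hnd.exists_ne (x := (⟨z1, hz1⟩ : hperp Q w f))
        (fun h0 => hz10 (congrArg Subtype.val h0))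
      have hy' : polar Q z1 (y : V) ≠ 0 := hy
      have hp : polar Q ((-Q z1 / polar Q z1 y) • (y : V)) z1 = - Q z1 := by
        rw [polar_smul_left, polar_comm Q (y : V) z1, smul_eq_mul]; field_simp
      refine ⟨(-Q z1 / polar Q z1 y) • (y : V), Submodule.smul_mem _ _ y.2, ?_, ?_, hp⟩
      · intro h0
        rw [h0] at hp
        simp at hp
        exact hQz hp
      · intro h0
        rw [eq_neg_of_add_eq_zero_left h0, polar_neg_left, polar_self'] at hp
        apply hQz
        linear_combination -hp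
  -- the isometry of the complement
  have hwz' : polar Q w z' = 0 := by rw [polar_comm]; exact (mem_hperp.mp hz').1
  obtain ⟨k, hk, hk2⟩ := exists_SG hnd (by omega) (u := ⟨z', hz'⟩)
    (v := ⟨z' + z1, Submodule.add_mem _ hz' hz1⟩)
    (fun h0 => hz'0 (congrArg Subtype.val h0)) (fun h0 => hz'1 (congrArg Subtype.val h0))
    (by rw [res_apply, res_apply, map_add', hz'2]; ring)
  refine ⟨embO hQ h.nd_span k, embO_mem_SG hQ h.nd_span hk, sg Q w z' h.he hwz',
    sg_mem_SG _ _, ?_⟩
  have e1 : (embO hQ h.nd_span k).1 w = w :=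
    embO_apply_fix hQ h.nd_span k (Submodule.subset_span (by simp))
  have e2 : (embO hQ h.nd_span k).1 z' = z' + z1 := by
    have := embO_apply_perp hQ h.nd_span k ⟨z', hz'⟩
    rw [hk2] at this
    exact this
  have hwz'' : polar Q w (z' + z1) = 0 := by rw [polar_add_right, hwz', hwz1, add_zero]
  rw [commutatorElement_def, conj_sg, sg_inv, sg_congr _ _ e1 e2 hw hwz'', sg_mul]
  exact sg_congr _ _ rfl (by abel) _ _

/-- The Siegel group is perfect in rank at least six. -/
theorem SG_perfect (hQ : ND Q) (hn : 6 ≤ finrank F V) : commutator ↥(SG Q) = ⊤ := by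
  rw [eq_top_iff]
  have h1 : Subgroup.closure ((fun x : ↥(SG Q) => (x : ↥(O Q))) ⁻¹'
      {g | ∃ (w z : V) (hw : Q w = 0) (hwz : polar Q w z = 0), g = sg Q w z hw hwz}) = ⊤ :=
    Subgroup.closure_closure_coe_preimage
  rw [← h1, Subgroup.closure_le]
  rintro ⟨x, hx⟩ ⟨w, z, hw, hwz, hxeq⟩
  obtain ⟨a, ha, b, hb, hab⟩ := sg_mem_bracket hQ hn hw hwz
  have h2 : (⟨x, hx⟩ : ↥(SG Q)) = ⁅(⟨a, ha⟩ : ↥(SG Q)), (⟨b, hb⟩ : ↥(SG Q))⁆ := by
    apply Subtype.ext
    exact hxeq.trans hab
  rw [h2]
  exact Subgroup.commutator_mem_commutator (Subgroup.mem_top _) (Subgroup.mem_top _)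

/-! ### Transitivity of the derived group on pairs -/

/-- Every coset of the derived subgroup meets the pointwise stabiliser of `U^⊥`. -/
theorem exists_fix_mul (hQ : ND Q) (hR : R Q = O Q) {U : Submodule F V} (hU : ND (res Q U))
    (hU2 : 2 ≤ finrank F U) (g : ↥(O Q)) :
    ∃ p ∈ fixer Q (perp Q U), g * p ∈ commutator ↥(O Q) := by
  obtain ⟨vs, h, rfl⟩ := exists_rp hR g
  induction vs with
  | nil => exact ⟨1, one_mem _, by rw [mul_one]; exact one_mem _⟩
  | cons v vs ih =>
    obtain ⟨p, hp, hp2⟩ := ih (fun w hw => h w (List.mem_cons_of_mem v hw))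
    have hv := h v List.mem_cons_self
    obtain ⟨u, hu⟩ := exists_Q_eq hU hU2 hv
    rw [res_apply] at hu
    refine ⟨p * rf Q (u : V), mul_mem hp ?_, ?_⟩
    · intro y hy
      apply refl_of_orth
      rw [polar_comm]; exact hy u u.2
    · have e : rp Q (v :: vs) * (p * rf Q (u : V))
          = (rf Q v * (rp Q vs * p) * (rf Q v)⁻¹) * (rf Q v * rf Q (u : V)) := by
        simp only [rp, List.map_cons, List.prod_cons]
        group
      rw [e]
      have hn : (commutator ↥(O Q)).Normal := inferInstance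
      exact mul_mem (hn.conj_mem _ hp2 _) (rf_mul_rf_mem hQ hv hu.symm)

/-- Transitivity on hyperbolic pairs. -/
theorem exists_comm_hyp (hQ : ND Q) (hR : R Q = O Q) (hn : 4 ≤ finrank F V) {x y x' y' : V}
    (h : Hyp Q x y) (h' : Hyp Q x' y') :
    ∃ g ∈ commutator ↥(O Q), g.1 x = x' ∧ g.1 y = y' := by
  obtain ⟨g, hg1, hg2⟩ := exists_map_pair hQ h.li h'.li (by rw [h.he, h'.he])
    (by rw [h.hf, h'.hf]) (by rw [h.hef, h'.hef])
  have hfr := h.finrank_perp
  obtain ⟨p, hp, hgp⟩ := exists_fix_mul hQ hR (h.nd_perp hQ) (by omega) g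
  rw [hperp, perp_perp hQ, mem_fixer_span] at hp
  refine ⟨g * p, hgp, ?_, ?_⟩
  · change g.1 (p.1 x) = x'
    rw [hp.1, hg1]
  · change g.1 (p.1 y) = y'
    rw [hp.2, hg2]

omit [Finite F] in
/-- A nondegenerate subspace of codimension four orthogonal to two orthogonal singular vectors. -/
theorem exists_codim_four (hQ : ND Q) {x y : V} (hx : Q x = 0) (hy : Q y = 0)
    (hxy : polar Q x y = 0) (hli : LinearIndependent F ![x, y]) :
    ∃ (x' y' : V) (c : F) (U : Submodule F V), Hyp Q x x' ∧ Hyp Q (y - c • x) y' ∧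
      polar Q x y' = 0 ∧ polar Q (y - c • x) x' = 0 ∧ polar Q x' y' = 0 ∧
      ND (res Q U) ∧ finrank F U + 4 = finrank F V ∧ x ∈ perp Q U ∧ y ∈ perp Q U := by
  rw [LinearIndependent.pair_iff] at hli
  have hx0 : x ≠ 0 := by
    rintro rfl
    have := hli 1 0 (by simp)
    exact one_ne_zero this.1
  obtain ⟨x', hx'⟩ := exists_hyp hQ hx0 hx
  have hyx : polar Q y x = 0 := by rw [polar_comm]; exact hxy
  set c := polar Q y x' with hc
  set y1 := y - c • x with hy1
  have hy1m : y1 ∈ hperp Q x x' := by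
    have := hx'.proj_mem y
    rw [hyx, zero_smul, sub_zero] at this
    exact this
  have hy10 : y1 ≠ 0 := by
    intro h0
    have := hli (-c) 1 (by rw [← h0, hy1]; module)
    exact one_ne_zero this.2
  have hQy1 : Q y1 = 0 := by
    rw [hy1, map_sub', map_smul', polar_smul_right, hx, hy, hyx]; simp
  obtain ⟨y', hy'⟩ := exists_hyp (hx'.nd_perp hQ) (e := ⟨y1, hy1m⟩)
    (fun h0 => hy10 (congrArg Subtype.val h0)) hQy1
  have h2 : Hyp Q y1 (y' : V) := ⟨hy'.he, hy'.hf, hy'.hef⟩
  obtain ⟨h3, h4⟩ := mem_hperp.mp hy1m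
  obtain ⟨h5, h6⟩ := mem_hperp.mp y'.2
  have h3' : polar Q x y1 = 0 := by rw [polar_comm]; exact h3
  have h4' : polar Q x' y1 = 0 := by rw [polar_comm]; exact h4
  have h5' : polar Q x y' = 0 := by rw [polar_comm]; exact h5
  have h6' : polar Q x' y' = 0 := by rw [polar_comm]; exact h6
  have hHF : HF Q ![x, y1] ![x', (y' : V)] := by
    constructor
    · intro i; fin_cases i; exact hx; exact hQy1
    · intro i; fin_cases i; exact hx'.hf; exact h2.hf
    · intro i j; fin_cases i <;> fin_cases j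
      · exact hx'.hef
      · exact h5'
      · exact h4
      · exact h2.hef
    · intro i j; fin_cases i <;> fin_cases j
      · exact hx'.hee
      · exact h3'
      · exact h3
      · exact h2.hee
    · intro i j; fin_cases i <;> fin_cases j
      · exact hx'.hff
      · exact h6'
      · exact h6
      · exact h2.hff
  refine ⟨x', y', c, cpl Q ![x, y1] ![x', (y' : V)], hx', h2, h5', h4, h6', nd_cpl _ _ hHF hQ,
    HF.finrank_cpl _ _ hHF, ?_, ?_⟩
  · intro u hu; exact (hu 0).1
  · intro u hu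
    have h7 : polar Q u y1 = 0 := (hu 1).1
    have h8 : polar Q u x = 0 := (hu 0).1
    have h9 : y = y1 + c • x := by rw [hy1]; module
    change polar Q u y = 0
    rw [h9, polar_add_right, polar_smul_right, h7, h8]; simp

/-- Transitivity on pairs of independent orthogonal singular vectors. -/
theorem exists_comm_orth (hQ : ND Q) (hn : 6 ≤ finrank F V) {x y x' y' : V}
    (hx : Q x = 0) (hy : Q y = 0) (hxy : polar Q x y = 0) (hli : LinearIndependent F ![x, y])
    (hx' : Q x' = 0) (hy' : Q y' = 0) (hxy' : polar Q x' y' = 0)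
    (hli' : LinearIndependent F ![x', y']) :
    ∃ g ∈ commutator ↥(O Q), g.1 x = x' ∧ g.1 y = y' := by
  obtain ⟨g, hg1, hg2⟩ := exists_map_pair hQ hli hli' (by rw [hx, hx']) (by rw [hy, hy'])
    (by rw [hxy, hxy'])
  obtain ⟨_, _, _, U, _, _, _, _, _, hU, hfr, hxU, hyU⟩ := exists_codim_four hQ hx hy hxy hli
  obtain ⟨p, hp, hgp⟩ := exists_fix_mul hQ (R_eq_O hQ (Or.inr (by omega))) hU (by omega) g
  refine ⟨g * p, hgp, ?_, ?_⟩
  · change g.1 (p.1 x) = x'
    rw [hp x hxU, hg1]
  · change g.1 (p.1 y) = y'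
    rw [hp y hyU, hg2]

/-! ### Normal subgroups -/

omit [Finite F] [FiniteDimensional F V] in
theorem coe_mul_apply (a b : ↥(SG Q)) (x : V) :
    ((a * b : ↥(SG Q)) : ↥(O Q)).1 x = (a : ↥(O Q)).1 ((b : ↥(O Q)).1 x) := rfl

omit [Finite F] [FiniteDimensional F V] in
theorem coe_inv_mk (g : ↥(O Q)) (hg : g ∈ SG Q) :
    (((⟨g, hg⟩ : ↥(SG Q))⁻¹ : ↥(SG Q)) : ↥(O Q)) = g⁻¹ := rfl

set_option maxHeartbeats 2000000 in
/-- A normal subgroup of `SG` either fixes every singular point or is everything. -/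
theorem normal_dichotomy (hQ : ND Q) (hn : 6 ≤ finrank F V) (N : Subgroup ↥(SG Q)) [hN : N.Normal] :
    (∀ n ∈ N, ∀ x, Q x = 0 → ∃ a : F, (n : ↥(O Q)).1 x = a • x) ∨ N = ⊤ := by
  have hex : (∃ a : F, a ≠ 0 ∧ a ≠ -1) ∨ finrank F V ≠ 4 := Or.inr (by omega)
  have hSG : commutator ↥(O Q) = SG Q := commutator_eq_SG hQ hex (by omega)
  by_cases hfix : ∀ n ∈ N, ∀ x, Q x = 0 → ∃ a : F, (n : ↥(O Q)).1 x = a • x
  · exact Or.inl hfix
  right
  push Not at hfix
  obtain ⟨n0, hn0, x0, hx0, hne⟩ := hfix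
  -- the relation
  let rel : V → V → Prop := fun x y => ∃ n ∈ N, ∃ a : F, a ≠ 0 ∧ (n : ↥(O Q)).1 x = a • y
  have rel_trans : ∀ x y z, rel x y → rel y z → rel x z := by
    rintro x y z ⟨n, hn, a, ha, h1⟩ ⟨n', hn', a', ha', h2⟩
    refine ⟨n' * n, mul_mem hn' hn, a * a', mul_ne_zero ha ha', ?_⟩
    rw [coe_mul_apply, h1, map_smul, h2, smul_smul]
  have rel_smul : ∀ x y, ∀ b : F, b ≠ 0 → rel x y → rel x (b • y) := by
    rintro x y b hb ⟨n, hn, a, ha, h1⟩
    exact ⟨n, hn, a * b⁻¹, mul_ne_zero ha (inv_ne_zero hb), by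
      rw [h1, smul_smul, mul_assoc, inv_mul_cancel₀ hb, mul_one]⟩
  have rel_self : ∀ x, rel x x := fun x => ⟨1, one_mem _, 1, one_ne_zero, by
    rw [one_smul]; rfl⟩
  have rel_conj : ∀ x y, ∀ g ∈ SG Q, rel x y → rel (g.1 x) (g.1 y) := by
    rintro x y g hg ⟨n, hn, a, ha, h1⟩
    refine ⟨(⟨g, hg⟩ : ↥(SG Q)) * n * (⟨g, hg⟩ : ↥(SG Q))⁻¹, hN.conj_mem n hn ⟨g, hg⟩, a, ha, ?_⟩
    rw [coe_mul_apply, coe_mul_apply, coe_inv_mk, inv_apply_self, h1, map_smul]
  have hx00 : x0 ≠ 0 := by
    rintro rfl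
    exact hne 0 (by rw [map_zero, smul_zero])
  set y0 := (n0 : ↥(O Q)).1 x0 with hy0
  have hQy0 : Q y0 = 0 := by rw [hy0, (n0 : ↥(O Q)).2, hx0]
  have hrel0 : rel x0 y0 := ⟨n0, hn0, 1, one_ne_zero, by rw [one_smul]⟩
  have hli0 : LinearIndependent F ![x0, y0] := by
    rw [LinearIndependent.pair_iff' hx00]
    intro a ha
    exact hne a ha.symm
  have hall : ∀ x y, x ≠ 0 → y ≠ 0 → Q x = 0 → Q y = 0 → rel x y := by
    by_cases hB : polar Q x0 y0 = 0
    · -- orthogonal case
      have h1 : ∀ x y, Q x = 0 → Q y = 0 → polar Q x y = 0 → LinearIndependent F ![x, y] →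
          rel x y := by
        intro x y hx hy hxy hli
        obtain ⟨g, hg, hg1, hg2⟩ := exists_comm_orth hQ hn hx0 hQy0 hB hli0 hx hy hxy hli
        rw [hSG] at hg
        rw [← hg1, ← hg2]
        exact rel_conj _ _ g hg hrel0
      intro x y hx0' hy0' hx hy
      by_cases hxy : polar Q x y = 0
      · by_cases hli : LinearIndependent F ![x, y]
        · exact h1 x y hx hy hxy hli
        · rw [LinearIndependent.pair_iff' hx0'] at hli
          push Not at hli
          obtain ⟨a, ha⟩ := hli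
          have ha0 : a ≠ 0 := by rintro rfl; rw [zero_smul] at ha; exact hy0' ha.symm
          rw [← ha]
          exact rel_smul x x a ha0 (rel_self x)
      · -- scale to a hyperbolic pair
        set y' := (polar Q x y)⁻¹ • y with hy'
        have hhyp : Hyp Q x y' := ⟨hx, by rw [hy', map_smul', hy, mul_zero],
          by rw [hy', polar_smul_right, smul_eq_mul, inv_mul_cancel₀ hxy]⟩
        have hfr := hhyp.finrank_perp
        obtain ⟨z, hz0, hz⟩ := exists_singular (hhyp.nd_perp hQ) (by omega)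
        obtain ⟨hz1, hz2⟩ := mem_hperp.mp z.2
        have hz0' : (z : V) ≠ 0 := fun h0 => hz0 (Subtype.ext h0)
        have r1 : rel x z := by
          apply h1 x z hx hz (by rw [polar_comm]; exact hz1)
          rw [LinearIndependent.pair_iff' hx0']
          intro a ha
          rw [← ha, polar_smul_left, hhyp.hef] at hz2
          have : a = 0 := by simpa using hz2
          rw [this, zero_smul] at ha
          exact hz0' ha.symm
        have r2 : rel z y' := by
          apply h1 z y' hz hhyp.hf hz2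
          rw [LinearIndependent.pair_iff' hz0']
          intro a ha
          have h3 := hhyp.hef
          rw [← ha, polar_smul_right, polar_comm, hz1, smul_zero] at h3
          exact zero_ne_one h3
        have h3 : y = (polar Q x y) • y' := by
          rw [hy', smul_smul, mul_inv_cancel₀ hxy, one_smul]
        rw [h3]
        exact rel_smul _ _ _ hxy (rel_trans _ _ _ r1 r2)
    · -- non-orthogonal case
      set y1 := (polar Q x0 y0)⁻¹ • y0 with hy1
      have hhyp0 : Hyp Q x0 y1 := ⟨hx0, by rw [hy1, map_smul', hQy0, mul_zero],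
        by rw [hy1, polar_smul_right, smul_eq_mul, inv_mul_cancel₀ hB]⟩
      have hrel1 : rel x0 y1 := rel_smul _ _ _ (inv_ne_zero hB) hrel0
      have h1 : ∀ x y, Hyp Q x y → rel x y := by
        intro x y hxy
        obtain ⟨g, hg, hg1, hg2⟩ := exists_comm_hyp hQ (R_eq_O hQ hex) (by omega) hhyp0 hxy
        rw [hSG] at hg
        rw [← hg1, ← hg2]
        exact rel_conj _ _ g hg hrel1
      have h2 : ∀ x y, Q x = 0 → Q y = 0 → polar Q x y ≠ 0 → rel x y := by
        intro x y hx hy hxy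
        have h3 : y = (polar Q x y) • ((polar Q x y)⁻¹ • y) := by
          rw [smul_smul, mul_inv_cancel₀ hxy, one_smul]
        rw [h3]
        apply rel_smul _ _ _ hxy
        apply h1
        exact ⟨hx, by rw [map_smul', hy, mul_zero],
          by rw [polar_smul_right, smul_eq_mul, inv_mul_cancel₀ hxy]⟩
      intro x y hx0' hy0' hx hy
      by_cases hxy : polar Q x y = 0
      · by_cases hli : LinearIndependent F ![x, y]
        · obtain ⟨x', y', c, U, e1, e2, e3, e4, e5, _, _, _, _⟩ :=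
            exists_codim_four hQ hx hy hxy hli
          obtain ⟨t, ht⟩ : ∃ t : F, c + t = 1 := ⟨1 - c, by ring⟩
          have e3' : polar Q y' x = 0 := by rw [polar_comm]; exact e3
          have e4' : polar Q y x' = c := by
            rw [polar_sub_left, polar_smul_left, e1.hef, smul_eq_mul, mul_one, sub_eq_zero] at e4
            exact e4
          have e6 : polar Q y y' = 1 := by
            have := e2.hef
            rw [polar_sub_left, polar_smul_left, e3, smul_zero, sub_zero] at this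
            exact this
          have hQz : Q (x' + t • y') = 0 := by
            rw [map_add', map_smul', polar_smul_right, e1.hf, e2.hf, e5]; simp
          have r1 : rel x (x' + t • y') := by
            apply h2 _ _ hx hQz
            rw [polar_add_right, polar_smul_right, e1.hef, e3]; simp
          have r2 : rel (x' + t • y') y := by
            apply h2 _ _ hQz hy
            rw [polar_comm, polar_add_right, polar_smul_right, e4', e6, smul_eq_mul, mul_one, ht]
            exact one_ne_zero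
          exact rel_trans _ _ _ r1 r2
        · rw [LinearIndependent.pair_iff' hx0'] at hli
          push Not at hli
          obtain ⟨a, ha⟩ := hli
          have ha0 : a ≠ 0 := by rintro rfl; rw [zero_smul] at ha; exact hy0' ha.symm
          rw [← ha]
          exact rel_smul x x a ha0 (rel_self x)
      · exact h2 x y hx hy hxy
  -- conclusion
  have hcomm : commutator ↥(SG Q) ≤ N := by
    have hgen : Subgroup.closure ((fun x : ↥(SG Q) => (x : ↥(O Q))) ⁻¹'
      {g | ∃ (w z : V) (hw : Q w = 0) (hwz : polar Q w z = 0), g = sg Q w z hw hwz}) = ⊤ :=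
      Subgroup.closure_closure_coe_preimage
    -- each generator is congruent to one attached to `x0`
    have hcong : ∀ s : ↥(SG Q), (∃ (w z : V) (hw : Q w = 0) (hwz : polar Q w z = 0),
        (s : ↥(O Q)) = sg Q w z hw hwz) → ∃ (z' : V) (hz' : polar Q x0 z' = 0),
        QuotientGroup.mk' N s = QuotientGroup.mk' N ⟨sg Q x0 z' hx0 hz', sg_mem_SG _ _⟩ := by
      rintro ⟨s, hs⟩ ⟨w, z, hw, hwz, hseq'⟩
      have hseq : s = sg Q w z hw hwz := hseq'
      by_cases hw0 : w = 0
      · refine ⟨0, by simp, ?_⟩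
        congr 1
        apply Subtype.ext
        change s = sg Q x0 0 hx0 _
        rw [hseq, sg_eq_one_of_zero hw hwz hw0]
        exact (sg_zero hx0).symm
      · obtain ⟨n, hn', a, ha, h1⟩ := hall x0 w hx00 hw0 hx0 hw
        have hw' : w = a⁻¹ • (n : ↥(O Q)).1 x0 := by
          rw [h1, smul_smul, inv_mul_cancel₀ ha, one_smul]
        have hQn : Q ((n : ↥(O Q)).1 x0) = 0 := by rw [(n : ↥(O Q)).2, hx0]
        have hpn : polar Q ((n : ↥(O Q)).1 x0) (a⁻¹ • z) = 0 := by
          rw [h1, polar_smul_left, polar_smul_right, hwz]; simp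
        have hz' : polar Q x0 (((n : ↥(O Q))⁻¹).1 (a⁻¹ • z)) = 0 := by
          rw [← polar_map (n : ↥(O Q)).2, self_apply_inv]; exact hpn
        refine ⟨((n : ↥(O Q))⁻¹).1 (a⁻¹ • z), hz', ?_⟩
        have h2 : (⟨s, hs⟩ : ↥(SG Q)) = n * ⟨sg Q x0 _ hx0 hz', sg_mem_SG _ _⟩ * n⁻¹ := by
          apply Subtype.ext
          change s = (n : ↥(O Q)) * sg Q x0 _ hx0 hz' * (n : ↥(O Q))⁻¹
          have hwz2 : polar Q (a⁻¹ • (n : ↥(O Q)).1 x0) z = 0 := by rw [← hw']; exact hwz
          have hw2 : Q (a⁻¹ • (n : ↥(O Q)).1 x0) = 0 := by rw [← hw']; exact hw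
          have hp3 : polar Q ((n : ↥(O Q)).1 x0) z = 0 := by
            rw [h1, polar_smul_left, hwz, smul_zero]
          rw [hseq, conj_sg, sg_congr hw hwz hw' rfl hw2 hwz2, sg_smul hQn hp3]
          exact sg_congr _ _ rfl (self_apply_inv _ _).symm _ _
        have h3 : QuotientGroup.mk' N n = 1 := (QuotientGroup.eq_one_iff n).mpr hn'
        rw [h2, map_mul, map_mul, map_inv, h3, one_mul, inv_one, mul_one]
    apply commutator_le_of_closure hgen
    intro s1 hs1 s2 hs2
    obtain ⟨z1, hz1, h1⟩ := hcong s1 hs1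
    obtain ⟨z2, hz2, h2⟩ := hcong s2 hs2
    rw [← QuotientGroup.eq_one_iff]
    change QuotientGroup.mk' N (s1 * s2 * s1⁻¹ * s2⁻¹) = 1
    rw [map_mul, map_mul, map_mul, map_inv, map_inv, mul_inv_eq_one, mul_inv_eq_iff_eq_mul, h1, h2,
      ← map_mul, ← map_mul]
    congr 1
    apply Subtype.ext
    change sg Q x0 z1 hx0 hz1 * sg Q x0 z2 hx0 hz2 = sg Q x0 z2 hx0 hz2 * sg Q x0 z1 hx0 hz1
    rw [sg_mul, sg_mul]
    exact sg_congr _ _ rfl (add_comm _ _) _ _
  rw [SG_perfect hQ hn] at hcomm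
  exact top_le_iff.mp hcomm

end Fin

end Cfsg.Agent.Lib.Orth
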