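import Mathlib
import Cfsg.Prelude.Def_Classical
import Cfsg.Prelude.Def_ClassicalGeometry
import Cfsg.Agent.Lib.Orth1
import Cfsg.Agent.Lib.Orth2
import Cfsg.Agent.Lib.Orth3
import Cfsg.Agent.Lib.Orth4
import Cfsg.Agent.Lib.Orth5

/-!
# Orthogonal groups: transfer of the derived subgroup and of `SO` to matrices
-/

set_option autoImplicit false
set_option linter.all false

namespace Cfsg.Agent.Lib.Orth

open Module QuadraticMap

theorem map_commutator_equiv {G H : Type*} [Group G] [Group H] (e : G ≃* H) :
    (commutator G).map e.toMonoidHom = commutator H := by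
  rw [commutator_def, commutator_def, Subgroup.map_commutator,
    Subgroup.map_top_of_surjective _ e.surjective]

theorem mem_commutator_equiv {G H : Type*} [Group G] [Group H] (e : G ≃* H) (g : G) :
    g ∈ commutator G ↔ e g ∈ commutator H := by
  rw [← map_commutator_equiv e]
  constructor
  · intro h; exact ⟨g, h, rfl⟩
  · rintro ⟨x, hx, hxg⟩
    rw [← e.injective hxg]; exact hx

theorem commutator_eq_comap {G H : Type*} [Group G] [Group H] (e : G ≃* H) :
    commutator G = (commutator H).comap e.toMonoidHom := by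
  ext g; exact mem_commutator_equiv e g

theorem index_commutator_equiv {G H : Type*} [Group G] [Group H] (e : G ≃* H) :
    (commutator G).index = (commutator H).index := by
  rw [commutator_eq_comap e, Subgroup.index_comap_of_surjective _ e.surjective]

section Transfer

variable {F : Type*} [Field F] {ι : Type} [Fintype ι] [DecidableEq ι]
  {Q : QuadraticForm F (ι → F)}

theorem mem_Omega_iff (g : ↥(Cfsg.isometryGroup F ⇑Q)) :
    g ∈ Cfsg.Omega F ⇑Q ↔ isoO Q g ∈ commutator ↥(O Q) := mem_commutator_equiv (isoO Q) g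

theorem index_Omega : (Cfsg.Omega F ⇑Q).index = (commutator ↥(O Q)).index :=
  index_commutator_equiv (isoO Q)

theorem mem_specialIsometryGroup_iff (g : ↥(Cfsg.isometryGroup F ⇑Q)) :
    g ∈ Cfsg.specialIsometryGroup F ⇑Q ↔ isoO Q g ∈ SO Q := by
  rw [mem_SO, det_isoO]
  change Matrix.GeneralLinearGroup.det g.1 = 1 ↔ _
  rw [Units.ext_iff]
  rfl

/-- `SO` as matrices. -/
noncomputable def isoSO (Q : QuadraticForm F (ι → F)) :
    ↥(Cfsg.specialIsometryGroup F ⇑Q) ≃* ↥(SO Q) where
  toFun g := ⟨isoO Q g.1, (mem_specialIsometryGroup_iff g.1).mp g.2⟩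
  invFun g := ⟨(isoO Q).symm g.1, (mem_specialIsometryGroup_iff _).mpr (by
    rw [MulEquiv.apply_symm_apply]; exact g.2)⟩
  left_inv g := Subtype.ext ((isoO Q).symm_apply_apply g.1)
  right_inv g := Subtype.ext ((isoO Q).apply_symm_apply g.1)
  map_mul' g h := Subtype.ext (map_mul (isoO Q) g.1 h.1)

theorem closure_comap_equiv {G H : Type*} [Group G] [Group H] (e : G ≃* H) (S : Set G) (T : Set H)
    (h : ∀ g, g ∈ S ↔ e g ∈ T) (g : G) :
    g ∈ Subgroup.closure S ↔ e g ∈ Subgroup.closure T := by
  have h1 : e.toMonoidHom '' S = T := by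
    ext t
    constructor
    · rintro ⟨s, hs, rfl⟩; exact (h s).mp hs
    · intro ht
      exact ⟨e.symm t, (h _).mpr (by rw [e.apply_symm_apply]; exact ht), e.apply_symm_apply t⟩
  rw [← h1, ← MonoidHom.map_closure]
  constructor
  · intro hg; exact ⟨g, hg, rfl⟩
  · rintro ⟨x, hx, hxg⟩
    rw [← e.injective hxg]; exact hx

theorem finrank_pi' : finrank F (ι → F) = Fintype.card ι := Module.finrank_fintype_fun_eq_card F

theorem finrank_fin (n : ℕ) : finrank F (Fin n → F) = n := by
  rw [Module.finrank_fintype_fun_eq_card, Fintype.card_fin]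

theorem hex_of {F : Type*} [Field F] [Fintype F] {V : Type*} [AddCommGroup V] [Module F V]
    {n : ℕ} (hV : finrank F V = n) (h : Fintype.card F ≠ 2 ∨ n ≠ 4) :
    (∃ a : F, a ≠ 0 ∧ a ≠ -1) ∨ finrank F V ≠ 4 := by
  rcases h with h | h
  · left
    by_contra hcon
    push Not at hcon
    apply h
    have h1 : Fintype.card F ≤ 2 := by
      classical
      have : (Finset.univ : Finset F) ⊆ {0, -1} := by
        intro a _
        by_cases ha : a = 0
        · simp [ha]
        · simp [hcon a ha]
      calc Fintype.card F = (Finset.univ : Finset F).card := rfl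
        _ ≤ ({0, -1} : Finset F).card := Finset.card_le_card this
        _ ≤ 2 := Finset.card_le_two
    have h2 := Fintype.one_lt_card (α := F)
    omega
  · right; rw [hV]; exact h

end Transfer

end Cfsg.Agent.Lib.Orth
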