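import Mathlib
import Cfsg.Prelude.Def_Classical
import Cfsg.Agent.Lib.Orth1
import Cfsg.Agent.Lib.Orth2
import Cfsg.Agent.Lib.Orth3
import Cfsg.Agent.Lib.Orth4
import Cfsg.Agent.Lib.Orth7
import Cfsg.Agent.Lib.Orth8

/-!
# The standard quadratic forms: orders of the orthogonal groups, numbers of zeros
-/

set_option autoImplicit false
set_option linter.all false

namespace Cfsg.Agent.Lib.Orth

open Module QuadraticMap

section Gen

variable {F : Type*} [Field F] {V : Type*} [AddCommGroup V] [Module F V] {Q : QuadraticForm F V}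

theorem nd_of_cpl {m : ℕ} {e f : Fin m → V} (h : HF Q e f) (hc : ND (res Q (cpl Q e f))) :
    ND Q := by
  apply nd_of_forall
  intro x hx
  rw [nd_res_iff] at hc
  exact hc x (fun i => ⟨hx _, hx _⟩) (fun y _ => hx y)

theorem nd_of_anis [Finite F] [FiniteDimensional F V] (ha : ∀ x, Q x = 0 → x = 0)
    (h : (2 : F) ≠ 0 ∨ 2 ≤ finrank F V) : ND Q := by
  apply nd_of_forall
  intro x hx
  by_contra hx0
  have hQx : Q x ≠ 0 := fun h => hx0 (ha x h)
  have h2 : (2 : F) = 0 := by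
    have := hx x
    rw [polar_self'] at this
    exact (mul_eq_zero.mp this).resolve_right hQx
  have hn := h.resolve_left (fun h => h h2)
  have h4 : ∃ w : V, w ∉ Submodule.span F {x} := by
    by_contra hcon
    push Not at hcon
    have h5 : Submodule.span F {x} = ⊤ := eq_top_iff.mpr fun w _ => hcon w
    have h6 := finrank_span_singleton (K := F) hx0
    rw [h5, finrank_top] at h6
    omega
  obtain ⟨w, hw⟩ := h4
  obtain ⟨t, ht⟩ := exists_sq_of_two_eq_zero h2 (Q w / Q x)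
  have h7 : Q (w + t • x) = 0 := by
    rw [map_add', map_smul', ht, polar_smul_right, polar_comm, hx]
    have : Q w + Q w / Q x * Q x = 2 * Q w := by field_simp; ring
    rw [this, h2]; simp
  have h8 := ha _ h7
  apply hw
  rw [eq_neg_of_add_eq_zero_left h8]
  exact Submodule.neg_mem _ (Submodule.smul_mem _ _ (Submodule.mem_span_singleton_self x))

end Gen

/-! ### The plus form -/

section Plus

variable {F : Type*} [Field F] {m : ℕ}

/-- The hyperbolic form as a quadratic form. -/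
def qPlus (m : ℕ) (F : Type*) [Field F] : QuadraticForm F (Fin m ⊕ Fin m → F) :=
  ∑ i : Fin m, QuadraticMap.linMulLin (LinearMap.proj (Sum.inl i)) (LinearMap.proj (Sum.inr i))

theorem qPlus_apply (v : Fin m ⊕ Fin m → F) : qPlus m F v = Cfsg.quadFormPlus m F v := by
  unfold qPlus Cfsg.quadFormPlus
  rw [QuadraticMap.sum_apply]
  rfl

theorem coe_qPlus : ⇑(qPlus m F) = Cfsg.quadFormPlus m F := funext qPlus_apply

theorem polar_qPlus (u v : Fin m ⊕ Fin m → F) : polar (qPlus m F) u v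
    = ∑ i : Fin m, (u (Sum.inl i) * v (Sum.inr i) + v (Sum.inl i) * u (Sum.inr i)) := by
  unfold polar
  simp only [qPlus_apply, Cfsg.quadFormPlus, Pi.add_apply]
  rw [← Finset.sum_sub_distrib, ← Finset.sum_sub_distrib]
  exact Finset.sum_congr rfl fun i _ => by ring

def ePlus (i : Fin m) : Fin m ⊕ Fin m → F := Pi.single (Sum.inl i) 1

def fPlus (i : Fin m) : Fin m ⊕ Fin m → F := Pi.single (Sum.inr i) 1

theorem polar_ePlus (x : Fin m ⊕ Fin m → F) (i : Fin m) :
    polar (qPlus m F) x (ePlus i) = x (Sum.inr i) := by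
  rw [polar_qPlus]
  simp [ePlus, Pi.single_apply]

theorem polar_fPlus (x : Fin m ⊕ Fin m → F) (i : Fin m) :
    polar (qPlus m F) x (fPlus i) = x (Sum.inl i) := by
  rw [polar_qPlus]
  simp [fPlus, Pi.single_apply]

theorem hfPlus : HF (qPlus m F) (ePlus : Fin m → _) fPlus where
  he i := by rw [qPlus_apply, Cfsg.quadFormPlus]; simp [ePlus, Pi.single_apply]
  hf i := by rw [qPlus_apply, Cfsg.quadFormPlus]; simp [fPlus, Pi.single_apply]
  hef i j := by rw [polar_fPlus, ePlus]; simp [Pi.single_apply, eq_comm]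
  hee i j := by rw [polar_ePlus, ePlus]; simp [Pi.single_apply]
  hff i j := by rw [polar_fPlus, fPlus]; simp [Pi.single_apply]

theorem cpl_plus : cpl (qPlus m F) (ePlus : Fin m → _) fPlus = ⊥ := by
  rw [eq_bot_iff]
  intro x hx
  rw [Submodule.mem_bot]
  funext i
  rcases i with i | i
  · exact (polar_fPlus x i).symm.trans (hx i).2
  · exact (polar_ePlus x i).symm.trans (hx i).1

theorem nd_plus : ND (qPlus m F) := by
  apply nd_of_cpl hfPlus
  apply nd_res
  intro x hx _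
  rw [cpl_plus] at hx
  exact (Submodule.mem_bot F).mp hx

end Plus

section Odd

variable {F : Type*} [Field F] {m : ℕ}

/-- The odd-dimensional form as a quadratic form. -/
def qOdd (m : ℕ) (F : Type*) [Field F] : QuadraticForm F (Unit ⊕ (Fin m ⊕ Fin m) → F) :=
  QuadraticMap.linMulLin (LinearMap.proj (Sum.inl ())) (LinearMap.proj (Sum.inl ())) +
  ∑ i : Fin m, QuadraticMap.linMulLin (LinearMap.proj (Sum.inr (Sum.inl i)))
    (LinearMap.proj (Sum.inr (Sum.inr i)))

theorem qOdd_apply (v : Unit ⊕ (Fin m ⊕ Fin m) → F) : qOdd m F v = Cfsg.quadFormOdd m F v := by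
  unfold qOdd Cfsg.quadFormOdd
  rw [QuadraticMap.add_apply, QuadraticMap.sum_apply, pow_two]
  rfl

theorem coe_qOdd : ⇑(qOdd m F) = Cfsg.quadFormOdd m F := funext qOdd_apply

theorem polar_qOdd (u v : Unit ⊕ (Fin m ⊕ Fin m) → F) : polar (qOdd m F) u v
    = 2 * u (Sum.inl ()) * v (Sum.inl ()) + ∑ i : Fin m, (u (Sum.inr (Sum.inl i)) *
      v (Sum.inr (Sum.inr i)) + v (Sum.inr (Sum.inl i)) * u (Sum.inr (Sum.inr i))) := by
  unfold polar
  simp only [qOdd_apply, Cfsg.quadFormOdd, Pi.add_apply]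
  have : ∀ a b c d e f : F, (a + b) - (c + d) - (e + f) = (a - c - e) + (b - d - f) := by
    intros; ring
  rw [this, ← Finset.sum_sub_distrib, ← Finset.sum_sub_distrib]
  congr 1
  · ring
  · exact Finset.sum_congr rfl fun i _ => by ring

def eOdd (i : Fin m) : Unit ⊕ (Fin m ⊕ Fin m) → F := Pi.single (Sum.inr (Sum.inl i)) 1

def fOdd (i : Fin m) : Unit ⊕ (Fin m ⊕ Fin m) → F := Pi.single (Sum.inr (Sum.inr i)) 1

theorem polar_eOdd (x : Unit ⊕ (Fin m ⊕ Fin m) → F) (i : Fin m) :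
    polar (qOdd m F) x (eOdd i) = x (Sum.inr (Sum.inr i)) := by
  rw [polar_qOdd]
  simp [eOdd, Pi.single_apply]

theorem polar_fOdd (x : Unit ⊕ (Fin m ⊕ Fin m) → F) (i : Fin m) :
    polar (qOdd m F) x (fOdd i) = x (Sum.inr (Sum.inl i)) := by
  rw [polar_qOdd]
  simp [fOdd, Pi.single_apply]

theorem hfOdd : HF (qOdd m F) (eOdd : Fin m → _) fOdd where
  he i := by rw [qOdd_apply, Cfsg.quadFormOdd]; simp [eOdd, Pi.single_apply]
  hf i := by rw [qOdd_apply, Cfsg.quadFormOdd]; simp [fOdd, Pi.single_apply]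
  hef i j := by rw [polar_fOdd, eOdd]; simp [Pi.single_apply, eq_comm]
  hee i j := by rw [polar_eOdd, eOdd]; simp [Pi.single_apply]
  hff i j := by rw [polar_fOdd, fOdd]; simp [Pi.single_apply]

theorem anis_odd : ∀ x ∈ cpl (qOdd m F) (eOdd : Fin m → _) fOdd, qOdd m F x = 0 → x = 0 := by
  intro x hx h0
  have h1 : ∀ i, x (Sum.inr (Sum.inl i)) = 0 := fun i =>
    (polar_fOdd x i).symm.trans (hx i).2
  have h2 : ∀ i, x (Sum.inr (Sum.inr i)) = 0 := fun i =>
    (polar_eOdd x i).symm.trans (hx i).1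
  rw [qOdd_apply, Cfsg.quadFormOdd] at h0
  simp only [h1, h2, mul_zero, Finset.sum_const_zero, add_zero] at h0
  funext i
  rcases i with _ | i | i
  · exact pow_eq_zero_iff (two_ne_zero) |>.mp h0
  · exact h1 i
  · exact h2 i

theorem finrank_cpl_odd : finrank F (cpl (qOdd m F) (eOdd : Fin m → _) fOdd) = 1 := by
  have h := HF.finrank_cpl _ _ (hfOdd (F := F) (m := m))
  rw [Module.finrank_fintype_fun_eq_card] at h
  simp at h
  omega

theorem nd_odd (h2 : (2 : F) ≠ 0) : ND (qOdd m F) := by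
  apply nd_of_cpl hfOdd
  apply nd_res
  intro x hx hy
  apply anis_odd x hx
  have := hy x hx
  rw [polar_self'] at this
  exact (mul_eq_zero.mp this).resolve_left h2

end Odd

section Minus

variable {F : Type*} [Field F] {m : ℕ} {a b : F}

/-- The elliptic form as a quadratic form. -/
def qMinus (m : ℕ) (F : Type*) [Field F] (a b : F) :
    QuadraticForm F ((Fin m ⊕ Fin m) ⊕ Fin 2 → F) :=
  (∑ i : Fin m, QuadraticMap.linMulLin (LinearMap.proj (Sum.inl (Sum.inl i)))
    (LinearMap.proj (Sum.inl (Sum.inr i)))) +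
  (QuadraticMap.linMulLin (LinearMap.proj (Sum.inr 0)) (LinearMap.proj (Sum.inr 0)) +
    a • QuadraticMap.linMulLin (LinearMap.proj (Sum.inr 0)) (LinearMap.proj (Sum.inr 1)) +
    b • QuadraticMap.linMulLin (LinearMap.proj (Sum.inr 1)) (LinearMap.proj (Sum.inr 1)))

theorem qMinus_apply (v : (Fin m ⊕ Fin m) ⊕ Fin 2 → F) :
    qMinus m F a b v = Cfsg.quadFormMinus m F a b v := by
  unfold qMinus Cfsg.quadFormMinus
  simp only [QuadraticMap.add_apply, QuadraticMap.sum_apply, QuadraticMap.smul_apply,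
    QuadraticMap.linMulLin_apply, LinearMap.proj_apply, smul_eq_mul]
  ring

theorem coe_qMinus : ⇑(qMinus m F a b) = Cfsg.quadFormMinus m F a b := funext qMinus_apply

theorem polar_qMinus (u v : (Fin m ⊕ Fin m) ⊕ Fin 2 → F) : polar (qMinus m F a b) u v
    = (∑ i : Fin m, (u (Sum.inl (Sum.inl i)) * v (Sum.inl (Sum.inr i)) +
      v (Sum.inl (Sum.inl i)) * u (Sum.inl (Sum.inr i)))) +
      (2 * u (Sum.inr 0) * v (Sum.inr 0) + a * (u (Sum.inr 0) * v (Sum.inr 1) +
        v (Sum.inr 0) * u (Sum.inr 1)) + 2 * b * u (Sum.inr 1) * v (Sum.inr 1)) := by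
  unfold polar
  simp only [qMinus_apply, Cfsg.quadFormMinus, Pi.add_apply]
  have : ∀ a b c d e f : F, (a + b) - (c + d) - (e + f) = (a - c - e) + (b - d - f) := by
    intros; ring
  rw [this, ← Finset.sum_sub_distrib, ← Finset.sum_sub_distrib]
  congr 1
  · exact Finset.sum_congr rfl fun i _ => by ring
  · ring

def eMinus (i : Fin m) : (Fin m ⊕ Fin m) ⊕ Fin 2 → F := Pi.single (Sum.inl (Sum.inl i)) 1

def fMinus (i : Fin m) : (Fin m ⊕ Fin m) ⊕ Fin 2 → F := Pi.single (Sum.inl (Sum.inr i)) 1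

theorem polar_eMinus (x : (Fin m ⊕ Fin m) ⊕ Fin 2 → F) (i : Fin m) :
    polar (qMinus m F a b) x (eMinus i) = x (Sum.inl (Sum.inr i)) := by
  rw [polar_qMinus]
  simp [eMinus, Pi.single_apply]

theorem polar_fMinus (x : (Fin m ⊕ Fin m) ⊕ Fin 2 → F) (i : Fin m) :
    polar (qMinus m F a b) x (fMinus i) = x (Sum.inl (Sum.inl i)) := by
  rw [polar_qMinus]
  simp [fMinus, Pi.single_apply]

theorem hfMinus : HF (qMinus m F a b) (eMinus : Fin m → _) fMinus where
  he i := by rw [qMinus_apply, Cfsg.quadFormMinus]; simp [eMinus, Pi.single_apply]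
  hf i := by rw [qMinus_apply, Cfsg.quadFormMinus]; simp [fMinus, Pi.single_apply]
  hef i j := by rw [polar_fMinus, eMinus]; simp [Pi.single_apply, eq_comm]
  hee i j := by rw [polar_eMinus, eMinus]; simp [Pi.single_apply]
  hff i j := by rw [polar_fMinus, fMinus]; simp [Pi.single_apply]

theorem anis_minus (hab : ∀ z₁ z₂ : F, z₁ ^ 2 + a * z₁ * z₂ + b * z₂ ^ 2 = 0 → z₁ = 0 ∧ z₂ = 0) :
    ∀ x ∈ cpl (qMinus m F a b) (eMinus : Fin m → _) fMinus, qMinus m F a b x = 0 → x = 0 := by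
  intro x hx h0
  have h1 : ∀ i, x (Sum.inl (Sum.inl i)) = 0 := fun i =>
    (polar_fMinus x i).symm.trans (hx i).2
  have h2 : ∀ i, x (Sum.inl (Sum.inr i)) = 0 := fun i =>
    (polar_eMinus x i).symm.trans (hx i).1
  rw [qMinus_apply, Cfsg.quadFormMinus] at h0
  simp only [h1, h2, mul_zero, Finset.sum_const_zero, zero_add] at h0
  obtain ⟨h3, h4⟩ := hab _ _ h0
  funext i
  rcases i with (i | i) | i
  · exact h1 i
  · exact h2 i
  · fin_cases i
    · exact h3
    · exact h4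

theorem finrank_cpl_minus :
    finrank F (cpl (qMinus m F a b) (eMinus : Fin m → _) fMinus) = 2 := by
  have h := HF.finrank_cpl _ _ (hfMinus (F := F) (m := m) (a := a) (b := b))
  rw [Module.finrank_fintype_fun_eq_card] at h
  simp at h
  omega

theorem nd_minus [Finite F]
    (hab : ∀ z₁ z₂ : F, z₁ ^ 2 + a * z₁ * z₂ + b * z₂ ^ 2 = 0 → z₁ = 0 ∧ z₂ = 0) :
    ND (qMinus m F a b) := by
  apply nd_of_cpl hfMinus
  apply nd_of_anis _ (Or.inr (finrank_cpl_minus).ge)
  intro x hx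
  exact Subtype.ext (anis_minus hab x.1 x.2 hx)

end Minus

/-! ### Orders -/

section Orders

variable {F : Type*} [Field F] [Finite F]

theorem sub_one_mul_add_one {a : ℕ} (ha : 1 ≤ a) : (a - 1) * (a + 1) = a ^ 2 - 1 := by
  obtain ⟨r, rfl⟩ : ∃ r, a = r + 1 := ⟨a - 1, by omega⟩
  simp only [Nat.add_sub_cancel]
  rw [show (r + 1) ^ 2 = r * (r + 1 + 1) + 1 by ring, Nat.add_sub_cancel]

theorem card_O_odd (h2 : (2 : F) ≠ 0) (m : ℕ) : Nat.card ↥(O (qOdd m F)) =
    2 * Nat.card F ^ (m ^ 2) * ∏ i ∈ Finset.range m, (Nat.card F ^ (2 * (i + 1)) - 1) := by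
  rw [HF.card_O _ _ (hfOdd (F := F) (m := m)) (nd_odd h2) finrank_cpl_odd anis_odd,
    card_O_one (nd_cpl _ _ hfOdd (nd_odd h2)) h2 finrank_cpl_odd]
  have hq : 1 ≤ Nat.card F := Nat.card_pos
  rw [mul_assoc]
  congr 1
  induction m with
  | zero => simp
  | succ m ih =>
    rw [Finset.prod_range_succ, ih, Finset.prod_range_succ]
    have h1 := sub_one_mul_add_one (a := Nat.card F ^ (m + 1)) (Nat.one_le_pow _ _ hq)
    rw [← pow_mul, mul_comm (m + 1) 2] at h1
    rw [h1]
    ring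

theorem card_O_plus (m : ℕ) (hm : 1 ≤ m) : Nat.card ↥(O (qPlus m F)) =
    2 * Nat.card F ^ (m * (m - 1)) * (Nat.card F ^ m - 1) *
      ∏ i ∈ Finset.range (m - 1), (Nat.card F ^ (2 * (i + 1)) - 1) := by
  have h0 : finrank F (cpl (qPlus m F) (ePlus : Fin m → _) fPlus) = 0 := by
    rw [cpl_plus]; exact finrank_bot F _
  rw [HF.card_O _ _ (hfPlus (F := F) (m := m)) nd_plus h0 (by
      intro x hx _; rw [cpl_plus] at hx; exact (Submodule.mem_bot F).mp hx),
    card_O_zero h0, one_mul]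
  have hq : 1 ≤ Nat.card F := Nat.card_pos
  obtain ⟨k, rfl⟩ : ∃ k, m = k + 1 := ⟨m - 1, by omega⟩
  simp only [Nat.add_sub_cancel]
  clear h0 hm
  induction k with
  | zero => simp [Finset.prod_range_one]; ring
  | succ k ih =>
    rw [Finset.prod_range_succ, ih]
    rw [Finset.prod_range_succ _ k]
    have h1 := sub_one_mul_add_one (a := Nat.card F ^ (k + 1)) (Nat.one_le_pow _ _ hq)
    rw [← pow_mul, mul_comm (k + 1) 2] at h1
    rw [← h1]
    ring

theorem card_O_minus {a b : F}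
    (hab : ∀ z₁ z₂ : F, z₁ ^ 2 + a * z₁ * z₂ + b * z₂ ^ 2 = 0 → z₁ = 0 ∧ z₂ = 0) (m : ℕ) :
    Nat.card ↥(O (qMinus m F a b)) =
    2 * Nat.card F ^ ((m + 1) * m) * (Nat.card F ^ (m + 1) + 1) *
      ∏ i ∈ Finset.range m, (Nat.card F ^ (2 * (i + 1)) - 1) := by
  have hnd := nd_cpl _ _ hfMinus (nd_minus (m := m) hab)
  rw [HF.card_O _ _ (hfMinus (F := F) (m := m)) (nd_minus hab) finrank_cpl_minus (anis_minus hab),
    card_O_two_anis hnd (fun x hx => Subtype.ext (anis_minus hab x.1 x.2 hx)) finrank_cpl_minus]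
  have hq : 1 ≤ Nat.card F := Nat.card_pos
  clear hnd
  induction m with
  | zero => simp
  | succ m ih =>
    rw [Finset.prod_range_succ, ← mul_assoc, ih]
    rw [Finset.prod_range_succ _ m]
    have h1 := sub_one_mul_add_one (a := Nat.card F ^ (m + 1)) (Nat.one_le_pow _ _ hq)
    rw [← pow_mul, mul_comm (m + 1) 2] at h1
    rw [← h1]
    ring

end Orders

end Cfsg.Agent.Lib.Orth
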