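import Mathlib
import Cfsg.Prelude.Def_Classical
import Cfsg.Agent.Lib.Orth1
import Cfsg.Agent.Lib.Orth2
import Cfsg.Agent.Lib.Orth3
import Cfsg.Agent.Lib.Orth4
import Cfsg.Agent.Lib.Orth5
import Cfsg.Agent.Lib.Orth6
import Cfsg.Agent.Lib.Orth7
import Cfsg.Agent.Lib.Orth8
import Cfsg.Agent.Lib.Orth9
import Cfsg.Agent.Lib.Orth10
import Cfsg.Agent.Lib.Orth11

/-!
# Orthogonal groups over finite fields: the centre of the derived group, simplicity of `PΩ`
-/

set_option autoImplicit false
set_option linter.all false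

namespace Cfsg.Agent.Lib.Orth

open Module QuadraticMap
open scoped commutatorElement

/-! ### Quotients by the centre -/

section Quot

/-- Isomorphic groups have isomorphic central quotients. -/
def quotCenterCongr {G H : Type*} [Group G] [Group H] (e : G ≃* H) :
    G ⧸ Subgroup.center G ≃* H ⧸ Subgroup.center H :=
  QuotientGroup.congr _ _ e (by
    ext x
    rw [Subgroup.mem_map]
    constructor
    · rintro ⟨g, hg, rfl⟩
      rw [Subgroup.mem_center_iff] at hg ⊢
      intro y
      obtain ⟨z, rfl⟩ := e.surjective y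
      change e z * e g = e g * e z
      rw [← map_mul, hg, map_mul]
    · intro hx
      obtain ⟨g, rfl⟩ := e.surjective x
      refine ⟨g, ?_, rfl⟩
      rw [Subgroup.mem_center_iff] at hx ⊢
      intro y
      apply e.injective
      rw [map_mul, map_mul]
      exact hx (e y))

theorem isSimpleGroup_quot_center {G : Type*} [Group G]
    (h : ∀ N : Subgroup G, N.Normal → N ≤ Subgroup.center G ∨ N = ⊤)
    (hne : Subgroup.center G ≠ ⊤) : IsSimpleGroup (G ⧸ Subgroup.center G) := by
  haveI : Nontrivial (G ⧸ Subgroup.center G) := by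
    by_contra hcon
    rw [not_nontrivial_iff_subsingleton] at hcon
    apply hne
    rw [eq_top_iff]
    intro g _
    rw [← QuotientGroup.eq_one_iff]
    exact Subsingleton.elim _ _
  refine ⟨fun N hN => ?_⟩
  rcases h (N.comap (QuotientGroup.mk' _)) (hN.comap _) with h1 | h1
  · left
    rw [eq_bot_iff]
    intro x hx
    obtain ⟨g, rfl⟩ := QuotientGroup.mk'_surjective (Subgroup.center G) x
    rw [Subgroup.mem_bot]
    exact (QuotientGroup.eq_one_iff g).mpr (h1 hx)
  · right
    rw [eq_top_iff]
    intro x _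
    obtain ⟨g, rfl⟩ := QuotientGroup.mk'_surjective (Subgroup.center G) x
    have : g ∈ N.comap (QuotientGroup.mk' _) := by rw [h1]; trivial
    exact this

end Quot

section Scalars

variable {F : Type*} [Field F] {V : Type*} [AddCommGroup V] [Module F V] [FiniteDimensional F V]
  {Q : QuadraticForm F V}

/-- Minus the identity. -/
def negO (Q : QuadraticForm F V) : ↥(O Q) := ⟨LinearEquiv.neg F, fun v => by
  change Q (-v) = Q v
  exact QuadraticMap.map_neg Q v⟩

theorem negO_apply (x : V) : (negO Q).1 x = -x := rfl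

theorem negO_mul_self : negO Q * negO Q = 1 :=
  Subtype.ext (LinearEquiv.ext fun x => neg_neg x)

theorem negO_comm (g : ↥(O Q)) : negO Q * g = g * negO Q :=
  Subtype.ext (LinearEquiv.ext fun x => (map_neg g.1 x).symm)

/-- An isometry fixing all singular points is `± 1`. -/
theorem eq_one_or_neg (hQ : ND Q) (hn : 3 ≤ finrank F V) {e f : V} (h : Hyp Q e f) {g : ↥(O Q)}
    (hg : ∀ x, Q x = 0 → ∃ a : F, g.1 x = a • x) : g = 1 ∨ g = negO Q := by
  obtain ⟨a, ha⟩ := hg e h.he
  obtain ⟨b, hb⟩ := hg f h.hf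
  have hab : a * b = 1 := by
    have := polar_map g.2 e f
    rw [ha, hb, polar_smul_left, polar_smul_right, h.hef] at this
    simpa using this
  have ha0 : a ≠ 0 := by rintro rfl; rw [zero_mul] at hab; exact zero_ne_one hab
  -- on the complement `g` is multiplication by `a`
  have key : ∀ w ∈ hperp Q e f, g.1 w = a • w ∧ (Q w ≠ 0 → a = b) := by
    intro w hw
    obtain ⟨h1, h2⟩ := mem_hperp.mp hw
    have hgw : g.1 w ∈ hperp Q e f := by
      rw [mem_hperp]
      have e1 := polar_map g.2 w e
      have e2 := polar_map g.2 w f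
      rw [ha, polar_smul_right, h1] at e1
      rw [hb, polar_smul_right, h2] at e2
      have hb0 : b ≠ 0 := by rintro rfl; rw [mul_zero] at hab; exact zero_ne_one hab
      exact ⟨(mul_eq_zero.mp e1).resolve_left ha0, (mul_eq_zero.mp e2).resolve_left hb0⟩
    -- the singular vector `e - Q(w) f + w`
    have hs : Q ((1 : F) • e + (-Q w) • f + w) = 0 := by rw [h.Q_split _ _ hw]; ring
    obtain ⟨c, hc⟩ := hg _ hs
    rw [map_add, map_add, map_smul, map_smul, ha, hb] at hc
    have h3 : polar Q ((1 : F) • a • e + (-Q w) • b • f + g.1 w) f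
        = polar Q (c • ((1 : F) • e + (-Q w) • f + w)) f := by rw [hc]
    have h4 : polar Q ((1 : F) • a • e + (-Q w) • b • f + g.1 w) e
        = polar Q (c • ((1 : F) • e + (-Q w) • f + w)) e := by rw [hc]
    obtain ⟨h5, h6⟩ := mem_hperp.mp hgw
    simp only [polar_add_left, polar_smul_left, h.hef, h.hff, h2, h6, smul_eq_mul] at h3
    simp only [polar_add_left, polar_smul_left, h.hee, h.hfe, h1, h5, smul_eq_mul] at h4
    have hac : a = c := by linear_combination h3
    refine ⟨?_, ?_⟩
    · have h7 : Q w * (b - c) = 0 := by linear_combination -h4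
      have h8 : g.1 w = c • ((1 : F) • e + (-Q w) • f + w) - ((1 : F) • a • e + (-Q w) • b • f) := by
        rw [← hc]; abel
      have h9 : g.1 w = c • w + (Q w * (b - c)) • f := by
        rw [h8, hac]; module
      rw [h9, h7, zero_smul, add_zero, hac]
    · intro hQw
      have h7 : Q w * (b - c) = 0 := by linear_combination -h4
      have := (mul_eq_zero.mp h7).resolve_left hQw
      rw [hac]; linear_combination -this
  -- there is a nonsingular vector in the complement
  have hfr := h.finrank_perp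
  obtain ⟨w, hw⟩ := exists_Q_ne_zero (h.nd_perp hQ) (by omega)
  have hab' : a = b := (key w w.2).2 hw
  have hsq : a ^ 2 = 1 := by rw [pow_two]; nth_rewrite 2 [hab']; exact hab
  have hall : ∀ x, g.1 x = a • x := by
    intro x
    obtain ⟨α, β, w, hw, rfl⟩ := h.exists_split x
    rw [map_add, map_add, map_smul, map_smul, ha, hb, (key w hw).1, ← hab']
    module
  rcases (sq_eq_sq_iff_eq_or_eq_neg (b := (1 : F))).mp (by rw [hsq, one_pow]) with rfl | rfl
  · left
    apply Subtype.ext; apply LinearEquiv.ext; intro x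
    rw [hall, one_smul]; rfl
  · right
    apply Subtype.ext; apply LinearEquiv.ext; intro x
    rw [hall, negO_apply, neg_smul, one_smul]

end Scalars

section Fin

variable {F : Type*} [Field F] [Finite F] {V : Type*} [AddCommGroup V] [Module F V]
  [FiniteDimensional F V] {Q : QuadraticForm F V} {e f : V}

theorem SG_ne_bot (hQ : ND Q) (hn : 6 ≤ finrank F V) :
    Subgroup.center ↥(SG Q) ≠ ⊤ := by
  intro htop
  -- an abelian perfect group is trivial
  have hperf := SG_perfect hQ hn
  have hcomm : commutator ↥(SG Q) ≤ ⊥ := by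
    rw [commutator_def, Subgroup.commutator_le]
    intro a _ b _
    rw [Subgroup.mem_bot, commutatorElement_eq_one_iff_mul_comm]
    have : b ∈ Subgroup.center ↥(SG Q) := by rw [htop]; trivial
    exact Subgroup.mem_center_iff.mp this a
  rw [hperf] at hcomm
  obtain ⟨e, f, h⟩ := exists_hyp_pair hQ (by omega)
  obtain ⟨-, z, hz, hz0⟩ := h.hperp_univ hQ (by omega)
  have hne : e ≠ z := by
    rintro rfl
    have := h.hef
    rw [(mem_hperp.mp hz).2] at this
    exact zero_ne_one this
  -- `sg e z ≠ 1`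
  have hez : polar Q e z = 0 := by rw [polar_comm]; exact (mem_hperp.mp hz).1
  have h1 : (⟨sg Q e z h.he hez, sg_mem_SG _ _⟩ : ↥(SG Q)) ∈ (⊥ : Subgroup ↥(SG Q)) :=
    hcomm (Subgroup.mem_top _)
  rw [Subgroup.mem_bot] at h1
  have h2 : (sg Q e z h.he hez).1 f = f := by
    have : sg Q e z h.he hez = 1 := congrArg Subtype.val h1
    rw [this]; rfl
  rw [sg_apply, h.hfe, polar_comm Q f z, (mem_hperp.mp hz).2] at h2
  have h3 : z = (Q z) • e := by
    have h4 : (1 : F) • z - (Q z * 1) • e = 0 := by
      have h5 : f + (1 : F) • z - (0 : F) • e - (Q z * 1) • e - f = 0 := by rw [h2, sub_self]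
      rw [← h5]; module
    rw [one_smul, mul_one, sub_eq_zero] at h4
    exact h4
  have h5 : polar Q z f = 0 := (mem_hperp.mp hz).2
  rw [h3, polar_smul_left, h.hef] at h5
  have h6 : Q z = 0 := by simpa using h5
  rw [h6, zero_smul] at h3
  exact hz0 h3

/-- The centre of the derived group consists of `± 1`. -/
theorem SG_center (hQ : ND Q) (hn : 6 ≤ finrank F V) (g : ↥(SG Q)) :
    g ∈ Subgroup.center ↥(SG Q) ↔ (g : ↥(O Q)) = 1 ∨ (g : ↥(O Q)) = negO Q := by
  constructor
  · intro hg
    obtain ⟨e, f, h⟩ := exists_hyp_pair hQ (by omega)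
    rcases normal_dichotomy hQ hn (Subgroup.center ↥(SG Q)) with h1 | h1
    · exact eq_one_or_neg hQ (by omega) h (fun x hx => h1 g hg x hx)
    · exact absurd h1 (SG_ne_bot hQ hn)
  · intro hg
    rw [Subgroup.mem_center_iff]
    intro k
    apply Subtype.ext
    change (k : ↥(O Q)) * g = g * k
    rcases hg with hg | hg
    · rw [hg, mul_one, one_mul]
    · rw [hg, negO_comm]

/-- Normal subgroups of the derived group are central or everything. -/
theorem SG_normal_le_center_or (hQ : ND Q) (hn : 6 ≤ finrank F V) (N : Subgroup ↥(SG Q))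
    (hN : N.Normal) : N ≤ Subgroup.center ↥(SG Q) ∨ N = ⊤ := by
  rcases normal_dichotomy hQ hn N with h1 | h1
  · left
    obtain ⟨e, f, h⟩ := exists_hyp_pair hQ (by omega)
    intro g hg
    rw [SG_center hQ hn]
    exact eq_one_or_neg hQ (by omega) h (fun x hx => h1 g hg x hx)
  · exact Or.inr h1

theorem SG_simple (hQ : ND Q) (hn : 6 ≤ finrank F V) :
    IsSimpleGroup (↥(SG Q) ⧸ Subgroup.center ↥(SG Q)) :=
  isSimpleGroup_quot_center (SG_normal_le_center_or hQ hn) (SG_ne_bot hQ hn)

end Fin

/-! ### Transfer to `POmega` -/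

section Transfer

variable {F : Type*} [Field F] {ι : Type} [Fintype ι] [DecidableEq ι]
  {Q : QuadraticForm F (ι → F)}

/-- The derived group as matrices. -/
noncomputable def isoOmega (Q : QuadraticForm F (ι → F)) :
    ↥(Cfsg.Omega F ⇑Q) ≃* ↥(commutator ↥(O Q)) where
  toFun g := ⟨isoO Q g.1, (mem_Omega_iff g.1).mp g.2⟩
  invFun g := ⟨(isoO Q).symm g.1, (mem_Omega_iff _).mpr (by
    rw [MulEquiv.apply_symm_apply]; exact g.2)⟩
  left_inv g := Subtype.ext ((isoO Q).symm_apply_apply g.1)
  right_inv g := Subtype.ext ((isoO Q).apply_symm_apply g.1)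
  map_mul' g h := Subtype.ext (map_mul (isoO Q) g.1 h.1)

/-- `PΩ` in terms of `O Q`. -/
noncomputable def isoPOmega (Q : QuadraticForm F (ι → F)) :
    Cfsg.POmega F ⇑Q ≃* ↥(commutator ↥(O Q)) ⧸ Subgroup.center ↥(commutator ↥(O Q)) :=
  quotCenterCongr (isoOmega Q)

theorem POmega_simple [Finite F] (hQ : ND Q) (hn : 6 ≤ finrank F (ι → F)) :
    IsSimpleGroup (Cfsg.POmega F ⇑Q) := by
  have h1 : commutator ↥(O Q) = SG Q := commutator_eq_SG hQ (Or.inr (by omega)) (by omega)
  haveI : IsSimpleGroup (↥(commutator ↥(O Q)) ⧸ Subgroup.center ↥(commutator ↥(O Q))) := by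
    rw [h1]; exact SG_simple hQ hn
  haveI : Nontrivial (Cfsg.POmega F ⇑Q) := (isoPOmega Q).toEquiv.nontrivial
  exact IsSimpleGroup.isSimpleGroup_of_surjective (isoPOmega Q).symm.toMonoidHom
    (isoPOmega Q).symm.surjective

theorem card_isometry [Finite F] (Q : QuadraticForm F (ι → F)) :
    Nat.card ↥(Cfsg.isometryGroup F ⇑Q) = Nat.card ↥(O Q) := Nat.card_congr (isoO Q).toEquiv

open Classical in
/-- The order of `PΩ`. -/
theorem card_POmega [Finite F] (hQ : ND Q) (hn : 6 ≤ finrank F (ι → F)) :
    Nat.card ↥(O Q) = (if (2 : F) = 0 then 2 else 4) *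
      ((if (2 : F) ≠ 0 ∧ negO Q ∈ commutator ↥(O Q) then 2 else 1) *
        Nat.card (Cfsg.POmega F ⇑Q)) := by
  classical
  have h1 : commutator ↥(O Q) = SG Q := commutator_eq_SG hQ (Or.inr (by omega)) (by omega)
  have h2 : Nat.card ↥(O Q) = (commutator ↥(O Q)).index * Nat.card ↥(commutator ↥(O Q)) :=
    (Subgroup.index_mul_card _).symm
  have h3 : (commutator ↥(O Q)).index = if (2 : F) = 0 then 2 else 4 := by
    split_ifs with h
    · exact index_commutator_two hQ h (R_eq_O hQ (Or.inr (by omega))) (by omega)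
    · exact index_commutator_odd hQ h (by omega)
  have h4 : Nat.card ↥(commutator ↥(O Q)) = Nat.card (Cfsg.POmega F ⇑Q) *
      Nat.card (Subgroup.center ↥(commutator ↥(O Q))) := by
    rw [Nat.card_congr (isoPOmega Q).toEquiv]
    exact Subgroup.card_eq_card_quotient_mul_card_subgroup _
  have h5 : Nat.card (Subgroup.center ↥(commutator ↥(O Q)))
      = if (2 : F) ≠ 0 ∧ negO Q ∈ commutator ↥(O Q) then 2 else 1 := by
    have hc : ∀ g : ↥(commutator ↥(O Q)), g ∈ Subgroup.center ↥(commutator ↥(O Q)) ↔
        (g : ↥(O Q)) = 1 ∨ (g : ↥(O Q)) = negO Q := by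
      rw [h1]; exact SG_center hQ hn
    have hV : ∃ x : ι → F, x ≠ 0 := by
      haveI : Nontrivial (ι → F) := Module.nontrivial_of_finrank_pos (R := F) (by omega)
      exact exists_ne 0
    obtain ⟨x, hx⟩ := hV
    split_ifs with h
    · obtain ⟨h2', hneg⟩ := h
      rw [Nat.card_eq_two_iff]
      refine ⟨1, ⟨⟨negO Q, hneg⟩, (hc _).mpr (Or.inr rfl)⟩, ?_, ?_⟩
      · intro heq
        have h6 : (1 : ↥(O Q)) = negO Q := congrArg (fun z : ↥(Subgroup.center _) => (z.1.1 : ↥(O Q))) heq
        have h7 : x = -x := congrArg (fun g : ↥(O Q) => g.1 x) h6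
        have h8 : (2 : F) • x = 0 := by
          rw [two_smul]; nth_rewrite 2 [h7]; abel
        exact hx ((smul_eq_zero.mp h8).resolve_left h2')
      · rw [Set.eq_univ_iff_forall]
        intro g
        rcases (hc g.1).mp g.2 with h6 | h6
        · left; exact Subtype.ext (Subtype.ext h6)
        · right; exact Subtype.ext (Subtype.ext h6)
    · rw [Nat.card_eq_one_iff_unique]
      refine ⟨⟨fun a b => ?_⟩, ⟨1⟩⟩
      have h6 : ∀ g : ↥(Subgroup.center ↥(commutator ↥(O Q))), (g.1.1 : ↥(O Q)) = 1 := by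
        intro g
        rcases (hc g.1).mp g.2 with h7 | h7
        · exact h7
        · by_cases h8 : (2 : F) = 0
          · rw [h7]
            apply Subtype.ext; apply LinearEquiv.ext; intro y
            rw [negO_apply]
            change -y = y
            have h9 : (2 : F) • y = 0 := by rw [h8, zero_smul]
            rw [two_smul] at h9
            exact neg_eq_of_add_eq_zero_left h9
          · exact absurd ⟨h8, by rw [← h7]; exact g.1.2⟩ h
      exact Subtype.ext (Subtype.ext ((h6 a).trans (h6 b).symm))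
  rw [h2, h3, h4, h5]
  ring

end Transfer

end Cfsg.Agent.Lib.Orth
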