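import Mathlib
import Cfsg.Prelude.Def_Classical
import Cfsg.Agent.Lib.Orth1
import Cfsg.Agent.Lib.Orth2
import Cfsg.Agent.Lib.Orth3
import Cfsg.Agent.Lib.Orth4
import Cfsg.Agent.Lib.Orth5
import Cfsg.Agent.Lib.Orth6
import Cfsg.Agent.Lib.Orth7
import Cfsg.Agent.Lib.Orth8
import Cfsg.Agent.Lib.Orth9
import Cfsg.Agent.Lib.Orth12

/-!
# Orthogonal groups: negating hyperbolic pairs, discriminants
-/

set_option autoImplicit false
set_option linter.all false

namespace Cfsg.Agent.Lib.Orth

open Module QuadraticMap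

section Lists

variable {F : Type*} [Field F] {V : Type*} [AddCommGroup V] [Module F V] [FiniteDimensional F V]
  {Q : QuadraticForm F V}

theorem rprod_of_orth {vs : List V} {x : V} (h : ∀ v ∈ vs, polar Q x v = 0) :
    rprod Q vs x = x := by
  induction vs with
  | nil => rfl
  | cons v vs ih =>
    rw [rprod_cons, LinearEquiv.mul_apply, ih (fun w hw => h w (List.mem_cons_of_mem v hw))]
    exact refl_of_orth (h v List.mem_cons_self)

theorem rprod_of_mem {vs : List V} (hp : vs.Pairwise (fun u v => polar Q u v = 0))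
    (hne : ∀ v ∈ vs, Q v ≠ 0) {x : V} (hx : x ∈ vs) : rprod Q vs x = -x := by
  induction vs with
  | nil => exact absurd hx (by simp)
  | cons v vs ih =>
    rw [List.pairwise_cons] at hp
    rw [rprod_cons, LinearEquiv.mul_apply]
    rcases List.mem_cons.mp hx with rfl | hx
    · rw [rprod_of_orth hp.1]
      exact refl_self (hne x List.mem_cons_self)
    · rw [ih hp.2 (fun w hw => hne w (List.mem_cons_of_mem v hw)) hx, map_neg, refl_of_orth]
      rw [polar_comm]; exact hp.1 x hx

/-- The list `e_j + f_j, e_j - f_j`. -/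
def pl {m : ℕ} (e f : Fin m → V) (L : List (Fin m)) : List V :=
  L.flatMap (fun j => [e j + f j, e j - f j])

theorem pl_nil {m : ℕ} (e f : Fin m → V) : pl e f [] = [] := rfl

theorem pl_cons {m : ℕ} (e f : Fin m → V) (j : Fin m) (L : List (Fin m)) :
    pl e f (j :: L) = (e j + f j) :: (e j - f j) :: pl e f L := rfl

variable {m : ℕ} {e f : Fin m → V}

theorem length_pl (L : List (Fin m)) : (pl e f L).length = 2 * L.length := by
  induction L with
  | nil => rfl
  | cons j L ih => rw [pl_cons, List.length_cons, List.length_cons, ih, List.length_cons]; ring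

theorem Q_add_pair (h : HF Q e f) (j : Fin m) : Q (e j + f j) = 1 := by
  rw [map_add', h.he, h.hf, h.hef, if_pos rfl]; ring

theorem Q_sub_pair (h : HF Q e f) (j : Fin m) : Q (e j - f j) = -1 := by
  rw [map_sub', h.he, h.hf, h.hef, if_pos rfl]; ring

theorem pl_ne_zero (h : HF Q e f) (L : List (Fin m)) : ∀ v ∈ pl e f L, Q v ≠ 0 := by
  intro v hv
  obtain ⟨j, -, hj⟩ := List.mem_flatMap.mp hv
  simp only [List.mem_cons, List.not_mem_nil, or_false] at hj
  rcases hj with rfl | rfl
  · rw [Q_add_pair h]; exact one_ne_zero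
  · rw [Q_sub_pair h]; exact neg_ne_zero.mpr one_ne_zero

theorem prod_pl (h : HF Q e f) (L : List (Fin m)) :
    ((pl e f L).map (fun v => Q v)).prod = (-1) ^ L.length := by
  induction L with
  | nil => simp [pl]
  | cons j L ih =>
    rw [pl_cons, List.map_cons, List.map_cons, List.prod_cons, List.prod_cons, ih,
      Q_add_pair h, Q_sub_pair h, List.length_cons, pow_succ]
    ring

theorem refl_pair_e {x y : V} (h : Hyp Q x y) : refl Q (x + y) (refl Q (x - y) x) = -x := by
  have e1 : Q (x - y) = -1 := by rw [map_sub', h.he, h.hf, h.hef]; ring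
  have e2 : Q (x + y) = 1 := by rw [map_add', h.he, h.hf, h.hef]; ring
  rw [refl_apply, refl_apply, e1, e2]
  simp only [polar_sub_left, polar_sub_right, polar_add_right, polar_smul_left, smul_eq_mul,
    h.hee, h.hff, h.hef, h.hfe, inv_one, one_mul]
  match_scalars <;> ring

theorem refl_pair_f {x y : V} (h : Hyp Q x y) : refl Q (x + y) (refl Q (x - y) y) = -y := by
  have e1 : Q (x - y) = -1 := by rw [map_sub', h.he, h.hf, h.hef]; ring
  have e2 : Q (x + y) = 1 := by rw [map_add', h.he, h.hf, h.hef]; ring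
  rw [refl_apply, refl_apply, e1, e2]
  simp only [polar_sub_left, polar_sub_right, polar_add_right, polar_smul_left, smul_eq_mul,
    h.hee, h.hff, h.hef, h.hfe, inv_one, one_mul]
  match_scalars <;> ring

theorem rprod_pl_cons (j : Fin m) (L : List (Fin m)) (x : V) :
    rprod Q (pl e f (j :: L)) x = refl Q (e j + f j) (refl Q (e j - f j) (rprod Q (pl e f L) x)) := by
  rw [pl_cons, rprod_cons, rprod_cons]; rfl

theorem rprod_pl_orth {L : List (Fin m)} {x : V}
    (hx : ∀ j ∈ L, polar Q x (e j) = 0 ∧ polar Q x (f j) = 0) : rprod Q (pl e f L) x = x := by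
  apply rprod_of_orth
  intro v hv
  obtain ⟨j, hj, hv⟩ := List.mem_flatMap.mp hv
  simp only [List.mem_cons, List.not_mem_nil, or_false] at hv
  rcases hv with rfl | rfl
  · rw [polar_add_right, (hx j hj).1, (hx j hj).2, add_zero]
  · rw [polar_sub_right, (hx j hj).1, (hx j hj).2, sub_zero]

theorem rprod_pl_e (h : HF Q e f) {L : List (Fin m)} (hL : L.Nodup) (i : Fin m) :
    rprod Q (pl e f L) (e i) = if i ∈ L then -e i else e i := by
  induction L with
  | nil => simp [pl, rprod]
  | cons j L ih =>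
    rw [List.nodup_cons] at hL
    rw [rprod_pl_cons, ih hL.2]
    by_cases hij : i = j
    · subst hij
      rw [if_neg hL.1, if_pos List.mem_cons_self]
      exact refl_pair_e (h.hyp i)
    · have h1 : polar Q (e i) (e j - f j) = 0 := by
        rw [polar_sub_right, h.hee, h.hef, if_neg hij, sub_zero]
      have h2 : polar Q (e i) (e j + f j) = 0 := by
        rw [polar_add_right, h.hee, h.hef, if_neg hij, add_zero]
      have h3 : i ∈ j :: L ↔ i ∈ L := by simp [hij]
      by_cases hiL : i ∈ L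
      · rw [if_pos hiL, if_pos (h3.mpr hiL), map_neg, refl_of_orth h1, map_neg, refl_of_orth h2]
      · rw [if_neg hiL, if_neg (fun h => hiL (h3.mp h)), refl_of_orth h1, refl_of_orth h2]

theorem rprod_pl_f (h : HF Q e f) {L : List (Fin m)} (hL : L.Nodup) (i : Fin m) :
    rprod Q (pl e f L) (f i) = if i ∈ L then -f i else f i := by
  induction L with
  | nil => simp [pl, rprod]
  | cons j L ih =>
    rw [List.nodup_cons] at hL
    rw [rprod_pl_cons, ih hL.2]
    by_cases hij : i = j
    · subst hij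
      rw [if_neg hL.1, if_pos List.mem_cons_self]
      exact refl_pair_f (h.hyp i)
    · have h1 : polar Q (f i) (e j - f j) = 0 := by
        rw [polar_sub_right, h.hff, h.hfe, if_neg hij, sub_zero]
      have h2 : polar Q (f i) (e j + f j) = 0 := by
        rw [polar_add_right, h.hff, h.hfe, if_neg hij, add_zero]
      have h3 : i ∈ j :: L ↔ i ∈ L := by simp [hij]
      by_cases hiL : i ∈ L
      · rw [if_pos hiL, if_pos (h3.mpr hiL), map_neg, refl_of_orth h1, map_neg, refl_of_orth h2]
      · rw [if_neg hiL, if_neg (fun h => hiL (h3.mp h)), refl_of_orth h1, refl_of_orth h2]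

end Lists

section Fin

variable {F : Type*} [Field F] [Finite F] {V : Type*} [AddCommGroup V] [Module F V]
  [FiniteDimensional F V] {Q : QuadraticForm F V} {m : ℕ} {e f : Fin m → V}

theorem rp_pl_mem_iff (hQ : ND Q) (h2 : (2 : F) ≠ 0) (h : HF Q e f) (L : List (Fin m)) :
    rp Q (pl e f L) ∈ commutator ↥(O Q) ↔ IsSquare ((-1 : F) ^ L.length) := by
  rw [rp_mem_commutator_iff' hQ h2 _ (pl_ne_zero h L), prod_pl h, length_pl]
  simp

omit [FiniteDimensional F V] in
theorem isSquare_neg_one_pow_iff [Fintype F] {q : ℕ} (hF : Fintype.card F = q) (hq : Odd q)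
    (k : ℕ) : IsSquare ((-1 : F) ^ k) ↔ q ^ k % 4 = 1 := by
  rcases Nat.even_or_odd k with ⟨j, hj⟩ | ⟨j, hj⟩
  · subst hj
    have h1 : IsSquare ((-1 : F) ^ (j + j)) := ⟨(-1) ^ j, pow_add _ _ _⟩
    refine iff_of_true h1 ?_
    rw [pow_add, ← Nat.pow_two, ← pow_mul, mul_comm, pow_mul, Nat.pow_mod]
    have h2 : q ^ 2 % 4 = 1 := by
      obtain ⟨r, rfl⟩ := hq
      rw [show (2 * r + 1) ^ 2 = 4 * (r * r + r) + 1 by ring]
      omega
    rw [h2]; simp
  · subst hj
    have h1 : ((-1 : F) ^ (2 * j + 1)) = -1 := by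
      rw [pow_succ, pow_mul]; simp
    rw [h1, FiniteField.isSquare_neg_one_iff, hF, pow_succ, pow_mul]
    have h2 : q ^ 2 % 4 = 1 := by
      obtain ⟨r, rfl⟩ := hq
      rw [show (2 * r + 1) ^ 2 = 4 * (r * r + r) + 1 by ring]
      omega
    have h3 : (q ^ 2) ^ j % 4 = 1 := by rw [Nat.pow_mod, h2]; simp
    rw [Nat.mul_mod, h3, one_mul, Nat.mod_mod]
    obtain ⟨r, rfl⟩ := hq
    omega

omit [FiniteDimensional F V] in
theorem two_ne_zero_of_odd [Fintype F] (h : Odd (Fintype.card F)) : (2 : F) ≠ 0 := by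
  intro h2
  have h3 := FiniteField.even_card_iff_char_two (F := F)
  have h4 : ringChar F = 2 := by
    haveI := CharTwo.of_one_ne_zero_of_two_eq_zero (R := F) one_ne_zero h2
    exact ringChar.eq F 2
  rw [h4] at h3
  have := h3.mp rfl
  rw [Nat.odd_iff] at h
  omega

omit [FiniteDimensional F V] in
theorem odd_card_of_two_ne_zero [Fintype F] (h : (2 : F) ≠ 0) : Odd (Fintype.card F) := by
  rw [Nat.odd_iff]
  exact FiniteField.odd_card_of_char_ne_two (ringChar_ne_two h)

end Fin

/-! ### Membership of explicit matrices in `Ω` -/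

section Mat

variable {F : Type*} [Field F] {ι : Type} [Fintype ι] [DecidableEq ι]
  {Q : QuadraticForm F (ι → F)}

theorem exists_Omega_iff (M : Matrix ι ι F) (h : ↥(O Q)) (hM : ∀ x, h.1 x = M.mulVec x) :
    (∃ g : ↥(Cfsg.isometryGroup F ⇑Q), g ∈ Cfsg.Omega F ⇑Q ∧
      ((g : Matrix.GeneralLinearGroup ι F) : Matrix ι ι F) = M) ↔ h ∈ commutator ↥(O Q) := by
  constructor
  · rintro ⟨g, hg, hgM⟩
    have h1 : isoO Q g = h := by
      apply Subtype.ext; apply LinearEquiv.ext; intro x
      rw [(coe_eq_iff Q g M).mp hgM, hM]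
    rw [← h1]
    exact (mem_Omega_iff g).mp hg
  · intro hh
    refine ⟨(isoO Q).symm h, ?_, ?_⟩
    · rw [mem_Omega_iff, MulEquiv.apply_symm_apply]; exact hh
    · rw [coe_eq_iff]
      intro x
      rw [MulEquiv.apply_symm_apply, hM]

theorem eq_mulVec_of_single (h : ↥(O Q)) (M : Matrix ι ι F)
    (hs : ∀ k, h.1 (Pi.single k 1) = M.mulVec (Pi.single k 1)) (x : ι → F) :
    h.1 x = M.mulVec x := by
  have : (h.1 : (ι → F) →ₗ[F] (ι → F)) = Matrix.toLin' M := by
    apply (Pi.basisFun F ι).ext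
    intro k
    rw [Pi.basisFun_apply]
    exact hs k
  have h2 := congrArg (fun T : (ι → F) →ₗ[F] (ι → F) => T x) this
  exact h2

theorem neg_one_iff :
    (∃ g : ↥(Cfsg.isometryGroup F ⇑Q), g ∈ Cfsg.Omega F ⇑Q ∧
      ((g : Matrix.GeneralLinearGroup ι F) : Matrix ι ι F) = -1) ↔
      negO Q ∈ commutator ↥(O Q) := by
  apply exists_Omega_iff
  intro x
  rw [Matrix.neg_mulVec, Matrix.one_mulVec]; rfl

theorem diagonal_mulVec_single' (d : ι → F) (k : ι) :
    (Matrix.diagonal d).mulVec (Pi.single k 1) = d k • (Pi.single k (1 : F)) := by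
  ext i
  rw [Matrix.mulVec_diagonal]
  by_cases h : i = k
  · subst h; simp
  · simp [Pi.single_apply, h]

end Mat

/-! ### Discriminants -/

section Disc

variable {F : Type*} [Field F] {V : Type*} [AddCommGroup V] [Module F V]

/-- The Gram matrix of the polar form. -/
def gram {ι : Type*} (Q : V → F) (b : ι → V) : Matrix ι ι F :=
  Matrix.of (fun i j => polar Q (b i) (b j))

theorem gram_eq_toMatrix {ι : Type*} [Fintype ι] [DecidableEq ι] (Q : QuadraticForm F V)
    (b : Basis ι F V) : gram ⇑Q b = LinearMap.BilinForm.toMatrix b (QuadraticMap.polarBilin Q) := by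
  ext i j
  rw [LinearMap.BilinForm.toMatrix_apply]; rfl

theorem det_gram_eq {ι κ : Type*} [Fintype ι] [DecidableEq ι] [Fintype κ] [DecidableEq κ]
    (Q : QuadraticForm F V) (b : Basis ι F V) (c : Basis κ F V) :
    ∃ t : F, t ≠ 0 ∧ (gram ⇑Q c).det = t ^ 2 * (gram ⇑Q b).det := by
  let e := c.indexEquiv b
  let c' := c.reindex e
  have h1 : (gram ⇑Q c).det = (gram ⇑Q c').det := by
    have : gram ⇑Q c' = (gram ⇑Q c).submatrix e.symm e.symm := by
      ext i j
      simp [gram, c']
    rw [this, Matrix.det_submatrix_equiv_self]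
  have h2 := LinearMap.BilinForm.toMatrix_mul_basis_toMatrix b c' (QuadraticMap.polarBilin Q)
  rw [← gram_eq_toMatrix, ← gram_eq_toMatrix] at h2
  refine ⟨(b.toMatrix c').det, ?_, ?_⟩
  · have h3 : (b.toMatrix c').det * (c'.toMatrix b).det = 1 := by
      rw [← Matrix.det_mul, Basis.toMatrix_mul_toMatrix_flip, Matrix.det_one]
    intro h0
    rw [h0, zero_mul] at h3
    exact zero_ne_one h3
  · rw [h1, ← h2, Matrix.det_mul, Matrix.det_mul, Matrix.det_transpose]; ring

theorem isSquare_gram_iff {ι κ : Type*} [Fintype ι] [DecidableEq ι] [Fintype κ] [DecidableEq κ]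
    (Q : QuadraticForm F V) (b : Basis ι F V) (c : Basis κ F V) :
    IsSquare (gram ⇑Q b).det ↔ IsSquare (gram ⇑Q c).det := by
  obtain ⟨t, ht, h⟩ := det_gram_eq Q b c
  rw [h]
  constructor
  · rintro ⟨r, hr⟩; exact ⟨t * r, by rw [hr]; ring⟩
  · rintro ⟨r, hr⟩; exact ⟨r / t, by field_simp; linear_combination hr⟩

end Disc

end Cfsg.Agent.Lib.Orth
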