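import Mathlib
import Cfsg.Prelude.Def_Classical
import Cfsg.Agent.Lib.Orth1
import Cfsg.Agent.Lib.Orth2
import Cfsg.Agent.Lib.Orth3
import Cfsg.Agent.Lib.Orth4
import Cfsg.Agent.Lib.Orth5
import Cfsg.Agent.Lib.Orth6
import Cfsg.Agent.Lib.Orth7
import Cfsg.Agent.Lib.Orth8
import Cfsg.Agent.Lib.Orth9
import Cfsg.Agent.Lib.Orth12
import Cfsg.Agent.Lib.Orth13

/-!
# Orthogonal groups: `-1 ∈ Ω` for the standard forms, orders of `PΩ`
-/

set_option autoImplicit false
set_option linter.all false

namespace Cfsg.Agent.Lib.Orth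

open Module QuadraticMap

variable {F : Type*} [Field F]

/-- `-1` is the product of the reflections in an orthogonal basis. -/
theorem negO_eq_rp {V : Type*} [AddCommGroup V] [Module F V] [FiniteDimensional F V]
    {Q : QuadraticForm F V} {vs : List V} (hp : vs.Pairwise (fun u v => polar Q u v = 0))
    (hne : ∀ v ∈ vs, Q v ≠ 0) (hspan : Submodule.span F {v | v ∈ vs} = ⊤) :
    rp Q vs = negO Q := by
  apply Subtype.ext
  rw [rp_coe]
  apply LinearEquiv.ext
  intro x
  have hx : x ∈ Submodule.span F {v | v ∈ vs} := by rw [hspan]; trivial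
  induction hx using Submodule.span_induction with
  | mem x hx => exact rprod_of_mem hp hne hx
  | zero => simp
  | add x y _ _ hx hy => rw [map_add, map_add, hx, hy]
  | smul a x _ hx => rw [map_smul, map_smul, hx]

theorem rp_pl_finRange_plus (m : ℕ) :
    rp (qPlus m F) (pl ePlus fPlus (List.finRange m)) = negO (qPlus m F) := by
  apply Subtype.ext
  rw [rp_coe]
  apply LinearEquiv.toLinearMap_injective
  apply (Pi.basisFun F (Fin m ⊕ Fin m)).ext
  intro k
  rw [Pi.basisFun_apply]
  change rprod _ _ _ = -_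
  rcases k with i | i
  · have := rprod_pl_e (hfPlus (F := F) (m := m)) (List.nodup_finRange m) i
    rw [if_pos (List.mem_finRange i)] at this
    exact this
  · have := rprod_pl_f (hfPlus (F := F) (m := m)) (List.nodup_finRange m) i
    rw [if_pos (List.mem_finRange i)] at this
    exact this

theorem negO_plus_iff [Fintype F] {q : ℕ} (hF : Fintype.card F = q) (hq : Odd q) (m : ℕ) :
    negO (qPlus m F) ∈ commutator ↥(O (qPlus m F)) ↔ q ^ m % 4 = 1 := by
  have h2 := two_ne_zero_of_odd (hF ▸ hq)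
  rw [← rp_pl_finRange_plus, rp_pl_mem_iff nd_plus h2 hfPlus, List.length_finRange,
    isSquare_neg_one_pow_iff hF hq]

section Minus

variable {a b : F}

def xMinus (m : ℕ) (F : Type*) [Field F] : (Fin m ⊕ Fin m) ⊕ Fin 2 → F := Pi.single (Sum.inr 0) 1

def yMinus (m : ℕ) (F : Type*) [Field F] (a : F) : (Fin m ⊕ Fin m) ⊕ Fin 2 → F :=
  Pi.single (Sum.inr 0) (-a) + Pi.single (Sum.inr 1) 2

theorem Q_xMinus (m : ℕ) : qMinus m F a b (xMinus m F) = 1 := by
  rw [qMinus_apply, Cfsg.quadFormMinus, xMinus]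
  simp [Pi.single_apply]

theorem Q_yMinus (m : ℕ) : qMinus m F a b (yMinus m F a) = 4 * b - a ^ 2 := by
  rw [qMinus_apply, Cfsg.quadFormMinus, yMinus]
  simp [Pi.single_apply]
  ring

theorem polar_xy (m : ℕ) : polar (qMinus m F a b) (xMinus m F) (yMinus m F a) = 0 := by
  rw [polar_qMinus, xMinus, yMinus]
  simp [Pi.single_apply]
  ring

theorem polar_x_e (m : ℕ) (j : Fin m) : polar (qMinus m F a b) (xMinus m F) (eMinus j) = 0 := by
  rw [polar_eMinus, xMinus]; simp [Pi.single_apply]

theorem polar_x_f (m : ℕ) (j : Fin m) : polar (qMinus m F a b) (xMinus m F) (fMinus j) = 0 := by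
  rw [polar_fMinus, xMinus]; simp [Pi.single_apply]

theorem polar_y_e (m : ℕ) (j : Fin m) : polar (qMinus m F a b) (yMinus m F a) (eMinus j) = 0 := by
  rw [polar_eMinus, yMinus]; simp [Pi.single_apply]

theorem polar_y_f (m : ℕ) (j : Fin m) : polar (qMinus m F a b) (yMinus m F a) (fMinus j) = 0 := by
  rw [polar_fMinus, yMinus]; simp [Pi.single_apply]

theorem disc_ne (hab : ∀ z₁ z₂ : F, z₁ ^ 2 + a * z₁ * z₂ + b * z₂ ^ 2 = 0 → z₁ = 0 ∧ z₂ = 0)
    (h2 : (2 : F) ≠ 0) : ¬ IsSquare (a ^ 2 - 4 * b) := by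
  rintro ⟨r, hr⟩
  have := (hab ((-a + r) / 2) 1 (by field_simp; linear_combination -hr)).2
  exact one_ne_zero this

theorem rp_minus (m : ℕ)
    (hab : ∀ z₁ z₂ : F, z₁ ^ 2 + a * z₁ * z₂ + b * z₂ ^ 2 = 0 → z₁ = 0 ∧ z₂ = 0)
    (h2 : (2 : F) ≠ 0) :
    rp (qMinus m F a b) (pl eMinus fMinus (List.finRange m) ++ [xMinus m F, yMinus m F a])
      = negO (qMinus m F a b) := by
  have hy0 : 4 * b - a ^ 2 ≠ 0 := by
    intro h0
    apply disc_ne hab h2
    exact ⟨0, by linear_combination -h0⟩
  have hHF := hfMinus (F := F) (m := m) (a := a) (b := b)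
  apply Subtype.ext
  rw [rp_coe]
  -- action on the basis `e, f, x, y`
  have he : ∀ i, rprod (qMinus m F a b) (pl eMinus fMinus (List.finRange m) ++
      [xMinus m F, yMinus m F a]) (eMinus i) = - eMinus i := by
    intro i
    rw [rprod_append, LinearEquiv.mul_apply, rprod_of_orth (vs := [xMinus m F, yMinus m F a]),
      rprod_pl_e hHF (List.nodup_finRange m), if_pos (List.mem_finRange i)]
    intro v hv
    simp only [List.mem_cons, List.not_mem_nil, or_false] at hv
    rcases hv with rfl | rfl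
    · rw [polar_comm]; exact polar_x_e m i
    · rw [polar_comm]; exact polar_y_e m i
  have hf : ∀ i, rprod (qMinus m F a b) (pl eMinus fMinus (List.finRange m) ++
      [xMinus m F, yMinus m F a]) (fMinus i) = - fMinus i := by
    intro i
    rw [rprod_append, LinearEquiv.mul_apply, rprod_of_orth (vs := [xMinus m F, yMinus m F a]),
      rprod_pl_f hHF (List.nodup_finRange m), if_pos (List.mem_finRange i)]
    intro v hv
    simp only [List.mem_cons, List.not_mem_nil, or_false] at hv
    rcases hv with rfl | rfl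
    · rw [polar_comm]; exact polar_x_f m i
    · rw [polar_comm]; exact polar_y_f m i
  have hpw : [xMinus m F, yMinus m F a].Pairwise (fun u v => polar (qMinus m F a b) u v = 0) := by
    simp [polar_xy]
  have hne : ∀ v ∈ [xMinus m F, yMinus m F a], qMinus m F a b v ≠ 0 := by
    intro v hv
    simp only [List.mem_cons, List.not_mem_nil, or_false] at hv
    rcases hv with rfl | rfl
    · rw [Q_xMinus]; exact one_ne_zero
    · rw [Q_yMinus]; exact hy0
  have hx : rprod (qMinus m F a b) (pl eMinus fMinus (List.finRange m) ++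
      [xMinus m F, yMinus m F a]) (xMinus m F) = - xMinus m F := by
    rw [rprod_append, LinearEquiv.mul_apply, rprod_of_mem hpw hne (by simp), map_neg,
      rprod_pl_orth]
    intro j _
    exact ⟨polar_x_e m j, polar_x_f m j⟩
  have hy : rprod (qMinus m F a b) (pl eMinus fMinus (List.finRange m) ++
      [xMinus m F, yMinus m F a]) (yMinus m F a) = - yMinus m F a := by
    rw [rprod_append, LinearEquiv.mul_apply, rprod_of_mem hpw hne (by simp), map_neg,
      rprod_pl_orth]
    intro j _
    exact ⟨polar_y_e m j, polar_y_f m j⟩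
  apply LinearEquiv.toLinearMap_injective
  apply (Pi.basisFun F ((Fin m ⊕ Fin m) ⊕ Fin 2)).ext
  intro k
  rw [Pi.basisFun_apply]
  change rprod _ _ _ = -_
  rcases k with (i | i) | i
  · exact he i
  · exact hf i
  · fin_cases i
    · exact hx
    · -- `2 • single 1 = y + a • x`
      have h3 : (Pi.single (Sum.inr 1) (1 : F) : (Fin m ⊕ Fin m) ⊕ Fin 2 → F)
          = (2 : F)⁻¹ • (yMinus m F a + a • xMinus m F) := by
        rw [yMinus, xMinus]
        ext i
        simp only [Pi.smul_apply, Pi.add_apply, Pi.single_apply, smul_eq_mul]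
        split_ifs <;> field_simp <;> ring
      change rprod _ _ (Pi.single (Sum.inr 1) (1 : F) : (Fin m ⊕ Fin m) ⊕ Fin 2 → F)
        = - (Pi.single (Sum.inr 1) (1 : F) : (Fin m ⊕ Fin m) ⊕ Fin 2 → F)
      rw [h3, map_smul, map_add, map_smul, hx, hy]
      module

theorem negO_minus_iff [Fintype F] {q : ℕ} (hF : Fintype.card F = q) (hq : Odd q) (m : ℕ)
    (hab : ∀ z₁ z₂ : F, z₁ ^ 2 + a * z₁ * z₂ + b * z₂ ^ 2 = 0 → z₁ = 0 ∧ z₂ = 0) :
    negO (qMinus m F a b) ∈ commutator ↥(O (qMinus m F a b)) ↔ q ^ (m + 1) % 4 = 3 := by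
  have h2 := two_ne_zero_of_odd (hF ▸ hq)
  have hy0 : 4 * b - a ^ 2 ≠ 0 := by
    intro h0
    apply disc_ne hab h2
    exact ⟨0, by linear_combination -h0⟩
  have hHF := hfMinus (F := F) (m := m) (a := a) (b := b)
  rw [← rp_minus m hab h2, rp_mem_commutator_iff' (nd_minus hab) h2]
  · rw [List.map_append, List.prod_append, prod_pl hHF, List.length_append, length_pl,
      List.length_finRange]
    simp only [List.length_cons, List.length_nil, List.map_cons, List.map_nil, List.prod_cons,
      List.prod_nil, Q_xMinus, Q_yMinus, one_mul, mul_one]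
    have h3 : (-1 : F) ^ m * (4 * b - a ^ 2) = (-1 : F) ^ (m + 1) * (a ^ 2 - 4 * b) := by
      rw [pow_succ]; ring
    have h4 : (-1 : F) ^ (m + 1) ≠ 0 := pow_ne_zero _ (neg_ne_zero.mpr one_ne_zero)
    have h5 : a ^ 2 - 4 * b ≠ 0 := fun h => hy0 (by linear_combination -h)
    rw [h3, isSquare_mul_iff h2 h4 h5, isSquare_neg_one_pow_iff hF hq]
    have h6 := disc_ne hab h2
    have h7 : q ^ (m + 1) % 4 = 1 ∨ q ^ (m + 1) % 4 = 3 := by
      have : Odd (q ^ (m + 1)) := hq.pow
      rw [Nat.odd_iff] at this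
      omega
    constructor
    · rintro ⟨-, h8⟩
      have : ¬ q ^ (m + 1) % 4 = 1 := fun h => h6 (h8.mp h)
      omega
    · intro h8
      refine ⟨⟨m + 1, by ring⟩, iff_of_false (by omega) h6⟩
  · intro v hv
    rcases List.mem_append.mp hv with hv | hv
    · exact pl_ne_zero hHF _ v hv
    · simp only [List.mem_cons, List.not_mem_nil, or_false] at hv
      rcases hv with rfl | rfl
      · rw [Q_xMinus]; exact one_ne_zero
      · rw [Q_yMinus]; exact hy0

end Minus

/-- In odd dimension `-1` does not lie in the derived group. -/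
theorem negO_odd_notMem [Finite F] {V : Type*} [AddCommGroup V] [Module F V]
    [FiniteDimensional F V] {Q : QuadraticForm F V} (hQ : ND Q) (h2 : (2 : F) ≠ 0)
    (hn : Odd (finrank F V)) : negO Q ∉ commutator ↥(O Q) := by
  intro h
  have h1 := commutator_le_SO h2 hQ h
  rw [mem_SO] at h1
  have h3 : LinearMap.det ((negO Q).1 : V →ₗ[F] V) = (-1) ^ finrank F V := by
    have : ((negO Q).1 : V →ₗ[F] V) = (-1 : F) • LinearMap.id := by
      apply LinearMap.ext; intro x
      change -x = (-1 : F) • x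
      rw [neg_smul, one_smul]
    rw [this, LinearMap.det_smul, LinearMap.det_id, mul_one]
  rw [h3, hn.neg_one_pow] at h1
  exact h2 (by linear_combination -h1)

end Cfsg.Agent.Lib.Orth
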