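import Mathlib
import Cfsg.Prelude.Def_Classical
import Cfsg.Agent.Lib.Orth1
import Cfsg.Agent.Lib.Orth2
import Cfsg.Agent.Lib.Orth3
import Cfsg.Agent.Lib.Orth4
import Cfsg.Agent.Lib.Orth5
import Cfsg.Agent.Lib.Orth7
import Cfsg.Agent.Lib.Orth8
import Cfsg.Agent.Lib.Orth9
import Cfsg.Agent.Lib.Orth13

/-!
# Classification of quadratic forms over finite fields: standard bases, Witt index
-/

set_option autoImplicit false
set_option linter.all false

namespace Cfsg.Agent.Lib.Orth

open Module QuadraticMap

universe u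

section HF2

variable {F : Type*} [Field F] {V : Type u} [AddCommGroup V] [Module F V] {Q : QuadraticForm F V}
  {m : ℕ} {e f : Fin m → V}

theorem polar_sum_left {ι : Type*} (s : Finset ι) (v : ι → V) (y : V) :
    polar Q (∑ i ∈ s, v i) y = ∑ i ∈ s, polar Q (v i) y := by
  have h : ∀ x, polar Q x y = (QuadraticMap.polarBilin Q).flip y x := fun x => rfl
  rw [h, map_sum]; rfl

theorem HF.polar_sum_e (h : HF Q e f) (a : Fin m → F) (j : Fin m) :
    polar Q (∑ i, a i • e i) (f j) = a j := by
  rw [polar_sum_left]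
  simp only [polar_smul_left, h.hef, smul_eq_mul, mul_ite, mul_one, mul_zero]
  simp

theorem HF.polar_sum_e' (h : HF Q e f) (a : Fin m → F) (j : Fin m) :
    polar Q (∑ i, a i • e i) (e j) = 0 := by
  rw [polar_sum_left]
  simp [polar_smul_left, h.hee]

theorem HF.polar_sum_f (h : HF Q e f) (a : Fin m → F) (j : Fin m) :
    polar Q (∑ i, a i • f i) (e j) = a j := by
  rw [polar_sum_left]
  simp only [polar_smul_left, h.hfe, smul_eq_mul, mul_ite, mul_one, mul_zero]
  simp

theorem HF.polar_sum_f' (h : HF Q e f) (a : Fin m → F) (j : Fin m) :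
    polar Q (∑ i, a i • f i) (f j) = 0 := by
  rw [polar_sum_left]
  simp [polar_smul_left, h.hff]

/-- A hyperbolic family together with independent vectors of the complement is independent. -/
theorem HF.li (h : HF Q e f) {κ : Type*} [Fintype κ] {w : κ → V} (hw : ∀ k, w k ∈ cpl Q e f)
    (hli : LinearIndependent F w) : LinearIndependent F (Sum.elim (Sum.elim e f) w) := by
  rw [Fintype.linearIndependent_iff] at hli ⊢
  intro g hg
  rw [Fintype.sum_sum_type, Fintype.sum_sum_type] at hg
  simp only [Sum.elim_inl, Sum.elim_inr] at hg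
  have hwe : ∀ j, polar Q (∑ k, g (Sum.inr k) • w k) (e j) = 0 := by
    intro j
    rw [polar_sum_left]
    simp [polar_smul_left, (hw _ j).1]
  have hwf : ∀ j, polar Q (∑ k, g (Sum.inr k) • w k) (f j) = 0 := by
    intro j
    rw [polar_sum_left]
    simp [polar_smul_left, (hw _ j).2]
  have h1 : ∀ j, g (Sum.inl (Sum.inl j)) = 0 := by
    intro j
    have := congrArg (fun x => polar Q x (f j)) hg
    simp only [polar_add_left, h.polar_sum_e (fun i => g (Sum.inl (Sum.inl i))),
      h.polar_sum_f' (fun i => g (Sum.inl (Sum.inr i))), hwf, add_zero, polar_zero_left] at this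
    exact this
  have h2 : ∀ j, g (Sum.inl (Sum.inr j)) = 0 := by
    intro j
    have := congrArg (fun x => polar Q x (e j)) hg
    simp only [polar_add_left, h.polar_sum_e' (fun i => g (Sum.inl (Sum.inl i))),
      h.polar_sum_f (fun i => g (Sum.inl (Sum.inr i))), hwe, add_zero, zero_add,
      polar_zero_left] at this
    exact this
  have h3 : ∀ k, g (Sum.inr k) = 0 := by
    apply hli
    simp only [h1, h2, zero_smul, Finset.sum_const_zero, zero_add] at hg
    exact hg
  rintro ((i | i) | k)
  · exact h1 i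
  · exact h2 i
  · exact h3 k

/-- Splitting off the hyperbolic part. -/
theorem HF.proj_mem (h : HF Q e f) (x : V) :
    x - ∑ i, polar Q x (f i) • e i - ∑ i, polar Q x (e i) • f i ∈ cpl Q e f := by
  intro j
  rw [polar_sub_left, polar_sub_left, polar_sub_left, polar_sub_left, h.polar_sum_e',
    h.polar_sum_f, h.polar_sum_e, h.polar_sum_f']
  constructor <;> ring

variable [FiniteDimensional F V]

/-- A basis adapted to a hyperbolic family. -/
noncomputable def HF.basis (h : HF Q e f) {κ : Type} [Fintype κ] {w : κ → V}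
    (hw : ∀ k, w k ∈ cpl Q e f) (hli : LinearIndependent F w)
    (hκ : Fintype.card κ = finrank F (cpl Q e f)) : Basis ((Fin m ⊕ Fin m) ⊕ κ) F V :=
  haveI : Decidable (Nonempty ((Fin m ⊕ Fin m) ⊕ κ)) := Classical.dec _
  basisOfLinearIndependentOfCardEqFinrank' _ (h.li hw hli) (by
    have := HF.finrank_cpl V Q h
    simp only [Fintype.card_sum, Fintype.card_fin]
    omega)

theorem HF.basis_apply (h : HF Q e f) {κ : Type} [Fintype κ] {w : κ → V}
    (hw : ∀ k, w k ∈ cpl Q e f) (hli : LinearIndependent F w)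
    (hκ : Fintype.card κ = finrank F (cpl Q e f)) (i : (Fin m ⊕ Fin m) ⊕ κ) :
    h.basis hw hli hκ i = Sum.elim (Sum.elim e f) w i := by
  unfold HF.basis
  rw [coe_basisOfLinearIndependentOfCardEqFinrank']

/-- A totally singular subspace is no larger than the number of pairs in a Witt decomposition. -/
theorem HF.finrank_le (hQ : ND Q) (h : HF Q e f) (ha : ∀ x ∈ cpl Q e f, Q x = 0 → x = 0)
    {W : Submodule F V} (hW : ∀ w ∈ W, Q w = 0) : finrank F W ≤ m := by
  by_contra hcon
  push Not at hcon
  -- embed the span of the `e i` in `W`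
  let b := finBasis F W
  have hle : m ≤ finrank F W := hcon.le
  have hpW : ∀ x ∈ W, ∀ y ∈ W, polar Q x y = 0 := by
    intro x hx y hy
    have := map_add' Q x y
    rw [hW _ (add_mem hx hy), hW _ hx, hW _ hy] at this
    linear_combination -this
  have hli : LinearIndependent F e := by
    have := h.li (κ := Fin 0) (w := Fin.elim0) (fun k => k.elim0) (linearIndependent_empty_type)
    exact (this.comp Sum.inl Sum.inl_injective).comp Sum.inl Sum.inl_injective
  have hli2 : LinearIndependent F (fun i : Fin m => (b (Fin.castLE hle i) : V)) :=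
    (b.linearIndependent.map' W.subtype (Submodule.ker_subtype W)).comp _
      (Fin.castLE_injective hle)
  obtain ⟨g, hg, hg2⟩ := witt_family hQ m e (fun i => (b (Fin.castLE hle i) : V)) hli hli2
    (fun i => by rw [h.he, hW _ (b _).2]) (fun i j => by
      rw [h.hee, hpW _ (b _).2 _ (b _).2])
  have hgO := RS_le_O Q hg
  -- an element of `W` outside
  obtain ⟨w, hwW, hw⟩ : ∃ w ∈ W, w ∉ Submodule.span F (Set.range (fun i : Fin m =>
      (b (Fin.castLE hle i) : V))) := by
    by_contra hc
    push Not at hc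
    have h1 := Submodule.finrank_mono (s := W) (t := Submodule.span F (Set.range (fun i : Fin m =>
      (b (Fin.castLE hle i) : V)))) hc
    rw [finrank_span_eq_card hli2, Fintype.card_fin] at h1
    omega
  set x := g.symm w with hx
  have hgx : g x = w := g.apply_symm_apply w
  have hxe : ∀ i, polar Q x (e i) = 0 := by
    intro i
    rw [← polar_map hgO, hgx, hg2]
    exact hpW _ hwW _ (b _).2
  have hproj := h.proj_mem x
  simp only [hxe, zero_smul, Finset.sum_const_zero, sub_zero] at hproj
  set y := x - ∑ i, polar Q x (f i) • e i with hy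
  have hQs : Q (∑ i, polar Q x (f i) • e i) = 0 := by
    have hmem : g (∑ i, polar Q x (f i) • e i) ∈ W := by
      rw [map_sum]
      exact Submodule.sum_mem _ fun i _ => by
        rw [map_smul, hg2]; exact W.smul_mem _ (b _).2
    rw [← hgO]; exact hW _ hmem
  have hQx : Q x = 0 := by rw [← hgO, hgx]; exact hW _ hwW
  have hpol : polar Q x (∑ i, polar Q x (f i) • e i) = 0 := by
    rw [polar_comm, polar_sum_left]
    apply Finset.sum_eq_zero
    intro i _
    rw [polar_smul_left, polar_comm Q (e i) x, hxe, smul_zero]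
  have hQy : Q y = 0 := by rw [hy, map_sub', hQs, hQx, hpol]; ring
  have hy0 := ha y hproj hQy
  apply hw
  rw [hy, sub_eq_zero] at hy0
  rw [← hgx, hy0, map_sum]
  exact Submodule.sum_mem _ fun i _ => by
    rw [map_smul, hg2]
    exact Submodule.smul_mem _ _ (Submodule.subset_span ⟨i, rfl⟩)

end HF2

section Fin

variable {F : Type*} [Field F] [Finite F] {V : Type u} [AddCommGroup V] [Module F V]
  [FiniteDimensional F V] {Q : QuadraticForm F V}

/-- An anisotropic non-degenerate form over a finite field has rank at most two. -/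
theorem finrank_anis_le (hQ : ND Q) (ha : ∀ x, Q x = 0 → x = 0) : finrank F V ≤ 2 := by
  by_contra hcon
  push Not at hcon
  obtain ⟨v, hv0, hv⟩ := exists_singular hQ (by omega)
  exact hv0 (ha v hv)

/-- The Witt decomposition over a finite field. -/
theorem exists_decomp (hQ : ND Q) : ∃ (m : ℕ) (e f : Fin m → V), HF Q e f ∧
    (∀ x ∈ cpl Q e f, Q x = 0 → x = 0) ∧ finrank F (cpl Q e f) ≤ 2 ∧
    finrank F (cpl Q e f) + 2 * m = finrank F V := by
  obtain ⟨m, e, f, h, ha⟩ := exists_witt_decomp hQ
  refine ⟨m, e, f, h, ha, ?_, HF.finrank_cpl V Q h⟩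
  exact finrank_anis_le (nd_cpl V Q h hQ) (fun x hx => Subtype.ext (ha x.1 x.2 hx))

/-- The standard shape of an anisotropic plane. -/
theorem exists_anis_basis (hQ : ND Q) (ha : ∀ x, Q x = 0 → x = 0) (hn : finrank F V = 2) :
    ∃ x y : V, LinearIndependent F ![x, y] ∧ Q x = 1 ∧ polar Q x y = 1 ∧
      ∀ t : F, t ^ 2 + t + Q y ≠ 0 := by
  obtain ⟨x, hx⟩ := exists_Q_eq hQ hn.ge (one_ne_zero (α := F))
  have hx0 : x ≠ 0 := by
    rintro rfl; rw [QuadraticMap.map_zero] at hx; exact zero_ne_one hx
  obtain ⟨y0, hy0⟩ := hQ.exists_ne hx0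
  have h1 : polar Q x ((polar Q x y0)⁻¹ • y0) = 1 := by
    rw [polar_smul_right, smul_eq_mul, inv_mul_cancel₀ hy0]
  set y1 := (polar Q x y0)⁻¹ • y0 with hy1
  -- a perpendicular vector
  have hp := finrank_perp_singleton hQ hx0
  haveI hnt2 : Nontrivial (perp Q (Submodule.span F {x})) :=
    Module.nontrivial_of_finrank_pos (R := F) (by omega)
  obtain ⟨⟨u, hup⟩, hu0'⟩ := exists_ne (0 : perp Q (Submodule.span F {x}))
  have hu0 : u ≠ 0 := fun h0 => hu0' (Subtype.ext h0)
  have hxu : polar Q x u = 0 := mem_perp_span_singleton.mp hup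
  have key : ∀ y, polar Q x y = 1 → LinearIndependent F ![x, y] →
      ∃ x y : V, LinearIndependent F ![x, y] ∧ Q x = 1 ∧ polar Q x y = 1 ∧
        ∀ t : F, t ^ 2 + t + Q y ≠ 0 := by
    intro y hxy hli
    refine ⟨x, y, hli, hx, hxy, fun t ht => ?_⟩
    have h2 : Q (t • x + y) = 0 := by
      rw [map_add', map_smul', polar_smul_left, hx, hxy, smul_eq_mul]
      linear_combination ht
    have h3 := ha _ h2
    rw [LinearIndependent.pair_iff] at hli
    have := hli t 1 (by rw [one_smul]; exact h3)
    exact one_ne_zero this.2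
  by_cases hli : LinearIndependent F ![x, y1]
  · exact key y1 h1 hli
  · rw [LinearIndependent.pair_iff' hx0] at hli
    push Not at hli
    obtain ⟨c, hc⟩ := hli
    apply key (y1 + u)
    · rw [polar_add_right, h1, hxu, add_zero]
    · rw [LinearIndependent.pair_iff' hx0]
      intro a ha'
      -- then `u` is a multiple of `x`, so `x ⟂ x` and `c = ...`
      have h4 : u = (a - c) • x := by rw [sub_smul, ha', hc]; abel
      have hac : a - c ≠ 0 := by
        intro h0; rw [h0, zero_smul] at h4; exact hu0 h4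
      rw [h4, polar_smul_right, polar_self', hx, smul_eq_mul, mul_one] at hxu
      have h2 : (2 : F) = 0 := (mul_eq_zero.mp hxu).resolve_left hac
      rw [← hc, polar_smul_right, polar_self', hx, h2] at h1
      simp at h1

end Fin

end Cfsg.Agent.Lib.Orth
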