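import Mathlib
import Cfsg.Agent.Lib.Orth16

/-! Discriminants; classification of quadratic forms over finite fields of odd order. -/

set_option linter.all false

namespace Cfsg.Agent.Lib.Orth

open Module QuadraticMap

universe u

section Gen

variable {F : Type*} [Field F] {V : Type*} [AddCommGroup V] [Module F V] {V' : Type*}
  [AddCommGroup V'] [Module F V']

theorem quad_ext_basis {ι : Type*} {Q Q' : QuadraticForm F V} (b : Basis ι F V)
    (h1 : ∀ i, Q (b i) = Q' (b i)) (h2 : ∀ i j, polar Q (b i) (b j) = polar Q' (b i) (b j)) :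
    Q = Q' := by
  classical
  letI : LinearOrder ι := linearOrderOfSTO WellOrderingRel
  rw [← QuadraticMap.toQuadraticMap_toBilin Q b, ← QuadraticMap.toQuadraticMap_toBilin Q' b]
  congr 1
  refine LinearMap.BilinForm.ext_basis b (fun i j => ?_)
  rw [QuadraticMap.toBilin_apply, QuadraticMap.toBilin_apply, h1, h2]

theorem isometry_of_bases {ι : Type*} {Q : QuadraticForm F V} {Q' : QuadraticForm F V'}
    (b : Basis ι F V) (b' : Basis ι F V') (h1 : ∀ i, Q (b i) = Q' (b' i))
    (h2 : ∀ i j, polar Q (b i) (b j) = polar Q' (b' i) (b' j)) (x : V) :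
    Q' (b.equiv b' (Equiv.refl _) x) = Q x := by
  have : Q'.comp (b.equiv b' (Equiv.refl ι)).toLinearMap = Q := by
    refine quad_ext_basis b (fun i => ?_) (fun i j => ?_)
    · rw [QuadraticMap.comp_apply]
      simp [h1]
    · have : ∀ x y, polar (Q'.comp (b.equiv b' (Equiv.refl ι)).toLinearMap) x y
          = polar Q' (b.equiv b' (Equiv.refl ι) x) (b.equiv b' (Equiv.refl ι) y) := by
        intro x y
        simp [polar, QuadraticMap.comp_apply]
      rw [this, h2]
      simp
  rw [← this]
  rfl

theorem det_gram_ne_zero [FiniteDimensional F V] {Q : QuadraticForm F V} {ι : Type*} [Fintype ι]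
    [DecidableEq ι] (hQ : ND Q) (b : Basis ι F V) : (gram ⇑Q b).det ≠ 0 := by
  rw [gram_eq_toMatrix]
  exact (LinearMap.BilinForm.nondegenerate_iff_det_ne_zero b).mp hQ

theorem gram_map {ι : Type*} {Q : QuadraticForm F V} {Q' : QuadraticForm F V'} {c : F}
    (g : V ≃ₗ[F] V') (hg : ∀ v, Q' (g v) = c * Q v) (b : ι → V) :
    gram ⇑Q' (fun i => g (b i)) = c • gram ⇑Q b := by
  ext i j
  simp only [gram, Matrix.of_apply, Matrix.smul_apply, polar, smul_eq_mul]
  rw [← map_add, hg, hg, hg]
  ring

/-- the discriminant of a diagonal family -/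
theorem det_gram_orth {ι : Type*} [Fintype ι] [DecidableEq ι] (Q : QuadraticForm F V) (v : ι → V)
    (h : ∀ i j, i ≠ j → polar Q (v i) (v j) = 0) :
    (gram ⇑Q v).det = ∏ i, (2 * Q (v i)) := by
  have : gram ⇑Q v = Matrix.diagonal (fun i => 2 * Q (v i)) := by
    ext i j
    by_cases hij : i = j
    · subst hij
      rw [Matrix.diagonal_apply_eq]
      simp only [gram, Matrix.of_apply]
      exact polar_self' Q (v i)
    · rw [Matrix.diagonal_apply_ne _ hij]
      exact h i j hij
  rw [this, Matrix.det_diagonal]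

theorem li_of_orth {ι : Type*} {Q : QuadraticForm F V} {v : ι → V} (h2 : (2 : F) ≠ 0)
    (h : ∀ i j, i ≠ j → polar Q (v i) (v j) = 0) (hne : ∀ i, Q (v i) ≠ 0) :
    LinearIndependent F v := by
  refine LinearMap.BilinForm.linearIndependent_of_iIsOrtho (B := QuadraticMap.polarBilin Q) ?_ ?_
  · intro i j hij
    exact h i j hij
  · intro i hi
    have : polar Q (v i) (v i) = 0 := hi
    rw [polar_self'] at this
    exact (mul_ne_zero h2 (hne i)) this

end Gen

section Fin

variable {F : Type*} [Field F] [Finite F]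

theorem exists_orth_family (h2 : (2 : F) ≠ 0) {α : F} (hα : ¬ IsSquare α) : ∀ (n : ℕ) (V : Type u)
    [AddCommGroup V] [Module F V] [FiniteDimensional F V] (Q : QuadraticForm F V), ND Q →
    finrank F V = n + 1 → ∃ v : Fin (n + 1) → V, (∀ i j, i ≠ j → polar Q (v i) (v j) = 0) ∧
      (∀ i, i ≠ Fin.last n → Q (v i) = 1) ∧ (Q (v (Fin.last n)) = 1 ∨ Q (v (Fin.last n)) = α) := by
  have hα0 : α ≠ 0 := by
    rintro rfl
    exact hα IsSquare.zero
  intro n
  induction n with
  | zero =>
    intro V _ _ _ Q hQ hn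
    obtain ⟨v, hv⟩ := exists_Q_ne_zero hQ (by omega)
    by_cases hs : IsSquare (Q v)
    · obtain ⟨a, ha⟩ := hs
      have ha0 : a ≠ 0 := by rintro rfl; simp at ha; exact hv ha
      refine ⟨fun _ => a⁻¹ • v, ?_, ?_, Or.inl ?_⟩
      · intro i j hij
        exact absurd (Fin.ext (by omega)) hij
      · intro i hi
        exact absurd (Fin.ext (by simp [Fin.last])) hi
      · show Q (a⁻¹ • v) = 1
        rw [map_smul', ha]
        field_simp
    · have : IsSquare (Q v * α) := by
        rw [isSquare_mul_iff h2 hv hα0]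
        exact iff_of_false hs hα
      obtain ⟨b, hb⟩ := this
      have hb0 : b ≠ 0 := by
        rintro rfl
        simp at hb
        rcases hb with hb | hb
        · exact hv hb
        · exact hα0 hb
      refine ⟨fun _ => (α * b⁻¹) • v, ?_, ?_, Or.inr ?_⟩
      · intro i j hij
        exact absurd (Fin.ext (by omega)) hij
      · intro i hi
        exact absurd (Fin.ext (by simp [Fin.last])) hi
      · show Q ((α * b⁻¹) • v) = α
        rw [map_smul']
        have : (α * b⁻¹) ^ 2 * Q v = α * (Q v * α) * (b⁻¹ * b⁻¹) := by ring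
        rw [this, hb]
        field_simp
  | succ n ih =>
    intro V _ _ _ Q hQ hn
    obtain ⟨v0, hv0⟩ := exists_Q_eq hQ (by omega) (c := 1) one_ne_zero
    have hv0' : v0 ≠ 0 := by
      rintro rfl
      rw [QuadraticMap.map_zero] at hv0
      exact zero_ne_one hv0
    have hnd : ND (res Q (Submodule.span F {v0})) := by
      rw [nd_res_iff]
      intro x hx h
      obtain ⟨a, rfl⟩ := Submodule.mem_span_singleton.mp hx
      have := h v0 (Submodule.mem_span_singleton_self v0)
      rw [polar_smul_left, polar_self', hv0, smul_eq_mul, mul_one] at this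
      rcases mul_eq_zero.mp this with h | h
      · rw [h, zero_smul]
      · exact absurd h h2
    have hfr := finrank_perp_singleton hQ hv0'
    obtain ⟨v, h1, h3, h4⟩ := ih (perp Q (Submodule.span F {v0})) (res Q _) (nd_res_perp hQ hnd)
      (by omega)
    have hperp : ∀ i, polar Q v0 (v i : V) = 0 := by
      intro i
      exact mem_perp_span_singleton.mp (v i).2
    refine ⟨Fin.cons v0 (fun i => (v i : V)), ?_, ?_, ?_⟩
    · intro i j
      induction i using Fin.cases with
      | zero =>
        induction j using Fin.cases with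
        | zero => intro h; exact absurd rfl h
        | succ j =>
          intro _
          simp only [Fin.cons_zero, Fin.cons_succ]
          exact hperp j
      | succ i =>
        induction j using Fin.cases with
        | zero =>
          intro _
          simp only [Fin.cons_zero, Fin.cons_succ]
          rw [polar_comm]
          exact hperp i
        | succ j =>
          intro h
          simp only [Fin.cons_succ]
          rw [← polar_res]
          exact h1 i j (fun h' => h (by rw [h']))
    · intro i hi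
      revert hi
      refine Fin.cases ?_ (fun i => ?_) i
      · intro _
        simpa using hv0
      · intro hi
        simp only [Fin.cons_succ]
        exact h3 i (fun h' => hi (by rw [h']; rfl))
    · have : (Fin.last (n + 1)) = (Fin.last n).succ := rfl
      rw [this, Fin.cons_succ]
      exact h4

theorem exists_orth_basis (h2 : (2 : F) ≠ 0) {α : F} (hα : ¬ IsSquare α) {n : ℕ} {V : Type u}
    [AddCommGroup V] [Module F V] [FiniteDimensional F V] {Q : QuadraticForm F V} (hQ : ND Q)
    (hn : finrank F V = n + 1) : ∃ b : Basis (Fin (n + 1)) F V,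
      (∀ i j, i ≠ j → polar Q (b i) (b j) = 0) ∧
      (∀ i, i ≠ Fin.last n → Q (b i) = 1) ∧ (Q (b (Fin.last n)) = 1 ∨ Q (b (Fin.last n)) = α) := by
  have hα0 : α ≠ 0 := by
    rintro rfl
    exact hα IsSquare.zero
  obtain ⟨v, h1, h3, h4⟩ := exists_orth_family h2 hα n V Q hQ hn
  have hli : LinearIndependent F v := by
    refine li_of_orth h2 h1 (fun i => ?_)
    by_cases hi : i = Fin.last n
    · subst hi
      rcases h4 with h | h <;> rw [h]
      · exact one_ne_zero
      · exact hα0
    · rw [h3 i hi]; exact one_ne_zero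
  refine ⟨basisOfLinearIndependentOfCardEqFinrank hli (by simp [hn]), ?_, ?_, ?_⟩ <;>
    simp only [coe_basisOfLinearIndependentOfCardEqFinrank]
  · exact h1
  · exact h3
  · exact h4

theorem det_gram_last {V : Type*} [AddCommGroup V] [Module F V] {n : ℕ} (Q : QuadraticForm F V)
    (v : Fin (n + 1) → V) (h : ∀ i j, i ≠ j → polar Q (v i) (v j) = 0)
    (h1 : ∀ i, i ≠ Fin.last n → Q (v i) = 1) :
    (gram ⇑Q v).det = 2 ^ (n + 1) * Q (v (Fin.last n)) := by
  rw [det_gram_orth Q v h, Finset.prod_mul_distrib, Finset.prod_const, Finset.card_univ,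
    Fintype.card_fin, Fin.prod_univ_castSucc]
  congr 1
  rw [Finset.prod_eq_one, one_mul]
  intro i _
  exact h1 _ (Fin.castSucc_lt_last i).ne

/-- **Classification**: discriminants determine the isometry type. -/
theorem isometric_of_disc {V : Type u} [AddCommGroup V] [Module F V] [FiniteDimensional F V]
    {V' : Type u} [AddCommGroup V'] [Module F V'] [FiniteDimensional F V'] (h2 : (2 : F) ≠ 0)
    {Q : QuadraticForm F V} {Q' : QuadraticForm F V'} (hQ : ND Q) (hQ' : ND Q')
    (hd : finrank F V = finrank F V')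
    {ι κ : Type*} [Fintype ι] [DecidableEq ι] [Fintype κ] [DecidableEq κ]
    (b : Basis ι F V) (b' : Basis κ F V')
    (h : IsSquare ((gram ⇑Q b).det * (gram ⇑Q' b').det)) :
    ∃ g : V ≃ₗ[F] V', ∀ v, Q' (g v) = Q v := by
  obtain ⟨α, hα0, hα⟩ := exists_not_isSquare h2
  rcases Nat.eq_zero_or_pos (finrank F V) with h0 | hpos
  · refine ⟨LinearEquiv.ofFinrankEq V V' hd, fun v => ?_⟩
    have : Subsingleton V := finrank_zero_iff.mp h0
    rw [Subsingleton.elim v 0, map_zero, QuadraticMap.map_zero, QuadraticMap.map_zero]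
  · obtain ⟨n, hn⟩ : ∃ n, finrank F V = n + 1 := ⟨finrank F V - 1, by omega⟩
    obtain ⟨c, c1, c2, c3⟩ := exists_orth_basis h2 hα hQ hn
    obtain ⟨c', c1', c2', c3'⟩ := exists_orth_basis h2 hα hQ' (hd ▸ hn)
    obtain ⟨t, ht, hte⟩ := det_gram_eq Q b c
    obtain ⟨t', ht', hte'⟩ := det_gram_eq Q' b' c'
    rw [det_gram_last Q c c1 c2] at hte
    rw [det_gram_last Q' c' c1' c2'] at hte'
    have hsq : IsSquare (Q (c (Fin.last n)) * Q' (c' (Fin.last n))) := by
      obtain ⟨s, hs⟩ := h
      refine ⟨t * t' * s * (2 ^ (n + 1))⁻¹, ?_⟩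
      have h2n : (2 : F) ^ (n + 1) ≠ 0 := pow_ne_zero _ h2
      have e1 : Q (c (Fin.last n)) = (2 ^ (n + 1))⁻¹ * (t ^ 2 * (gram ⇑Q b).det) := by
        rw [← hte]; field_simp
      have e2 : Q' (c' (Fin.last n)) = (2 ^ (n + 1))⁻¹ * (t' ^ 2 * (gram ⇑Q' b').det) := by
        rw [← hte']; field_simp
      rw [e1, e2]
      linear_combination ((2 ^ (n + 1))⁻¹) ^ 2 * t ^ 2 * t' ^ 2 * hs
    have hlast : Q (c (Fin.last n)) = Q' (c' (Fin.last n)) := by
      rcases c3 with h | h <;> rcases c3' with h' | h' <;> rw [h, h'] at hsq ⊢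
      · simp at hsq; exact absurd hsq hα
      · simp at hsq; exact absurd hsq hα
    refine ⟨c.equiv c' (Equiv.refl _), fun v => isometry_of_bases c c' ?_ ?_ v⟩
    · intro i
      by_cases hi : i = Fin.last n
      · rw [hi, hlast]
      · rw [c2 i hi, c2' i hi]
    · intro i j
      by_cases hij : i = j
      · subst hij
        rw [polar_self', polar_self']
        by_cases hi : i = Fin.last n
        · rw [hi, hlast]
        · rw [c2 i hi, c2' i hi]
      · rw [c1 i j hij, c1' i j hij]

theorem disc_of_isometric {V : Type*} [AddCommGroup V] [Module F V] [FiniteDimensional F V]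
    {V' : Type*} [AddCommGroup V'] [Module F V'] [FiniteDimensional F V']
    {Q : QuadraticForm F V} {Q' : QuadraticForm F V'} {c : F}
    {ι : Type*} [Fintype ι] [DecidableEq ι]
    (b : Basis ι F V) (b' : Basis ι F V') (g : V ≃ₗ[F] V') (hg : ∀ v, Q' (g v) = c * Q v) :
    ∃ t : F, t ≠ 0 ∧ c ^ Fintype.card ι * (gram ⇑Q b).det = t ^ 2 * (gram ⇑Q' b').det := by
  obtain ⟨t, ht, hte⟩ := det_gram_eq Q' b' (b.map g)
  refine ⟨t, ht, ?_⟩
  rw [← hte]
  have : (gram ⇑Q' (b.map g)) = c • gram ⇑Q b := by
    rw [← gram_map g hg b]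
    congr 1
  rw [this, Matrix.det_smul]

theorem gram_smul {ι : Type*} {V : Type*} [AddCommGroup V] [Module F V] (Q : QuadraticForm F V) (c : F)
    (b : ι → V) : gram ⇑(c • Q) b = c • gram ⇑Q b := by
  ext i j
  simp only [gram, Matrix.of_apply, Matrix.smul_apply, polar, smul_eq_mul, QuadraticMap.smul_apply]
  ring

theorem nd_smul {V : Type*} [AddCommGroup V] [Module F V] {Q : QuadraticForm F V} {c : F}
    (hQ : ND Q) (hc : c ≠ 0) : ND (c • Q) := by
  refine nd_of_forall (fun x hx => hQ.eq_zero (fun y => ?_))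
  have := hx y
  have h2 : polar (⇑(c • Q)) x y = c * polar Q x y := by
    simp only [polar, smul_eq_mul, QuadraticMap.smul_apply]
    ring
  rw [h2] at this
  exact (mul_eq_zero.mp this).resolve_left hc

end Fin

section BlockDet

variable {F : Type*} [Field F]

theorem det_swap_block (m : ℕ) :
    (Matrix.fromBlocks (0 : Matrix (Fin m) (Fin m) F) (1 : Matrix (Fin m) (Fin m) F)
      (1 : Matrix (Fin m) (Fin m) F) (0 : Matrix (Fin m) (Fin m) F)).det = (-1) ^ m := by
  have h1 : (Matrix.fromBlocks (0 : Matrix (Fin m) (Fin m) F) (1 : Matrix (Fin m) (Fin m) F)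
      (1 : Matrix (Fin m) (Fin m) F) (0 : Matrix (Fin m) (Fin m) F)) *
      (Matrix.fromBlocks (1 : Matrix (Fin m) (Fin m) F) (0 : Matrix (Fin m) (Fin m) F)
      (1 : Matrix (Fin m) (Fin m) F) (1 : Matrix (Fin m) (Fin m) F))
      = Matrix.fromBlocks (1 : Matrix (Fin m) (Fin m) F) (1 : Matrix (Fin m) (Fin m) F)
      (1 : Matrix (Fin m) (Fin m) F) (0 : Matrix (Fin m) (Fin m) F) := by
    rw [Matrix.fromBlocks_multiply]
    simp
  have h2 := congrArg Matrix.det h1
  rw [Matrix.det_mul, Matrix.det_fromBlocks_zero₁₂, Matrix.det_one, one_mul, mul_one,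
    Matrix.det_fromBlocks_one₁₁] at h2
  rw [h2]
  simp [Matrix.det_neg]

end BlockDet

end Cfsg.Agent.Lib.Orth
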