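import Mathlib
import Cfsg.Agent.Lib.PGrpI

/-!
2-groups of maximal class: the central quotient, Taussky's theorem.
-/

set_option autoImplicit false

namespace Cfsg.Agent.Lib.PGrpJ

open Subgroup Cfsg.Agent.Lib.Basic Cfsg.Agent.Lib.PGrpA Cfsg.Agent.Lib.PGrpC Cfsg.Agent.Lib.PGrpH
  Cfsg.Agent.Lib.PGrpI
open scoped commutatorElement Pointwise

universe u

variable {G : Type*} [Group G]

theorem maxClass_nonabelian [Group.IsNilpotent G] {n : ℕ} (hn : 3 ≤ n) (hc : Group.nilpotencyClass G = n - 1) :
    ∃ x y : G, x * y ≠ y * x := by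
  by_contra h
  push Not at h
  have := class_le_one_of_comm h
  omega

theorem maxClass_generators [Finite G] {n : ℕ} (hn : 3 ≤ n) (hG : Nat.card G = 2 ^ n)
    (hc : Group.nilpotencyClass G = n - 1) :
    ∃ a b : G, orderOf a = 2 ^ (n - 1) ∧ b ∉ zpowers a ∧ center G = zpowers (a ^ (2 ^ (n - 2))) ∧
      ((b ^ 2 = 1 ∧ b * a * b⁻¹ = a⁻¹) ∨
      (b ^ 2 = a ^ (2 ^ (n - 2)) ∧ b * a * b⁻¹ = a⁻¹) ∨
      (4 ≤ n ∧ b ^ 2 = 1 ∧ b * a * b⁻¹ = a ^ (2 ^ (n - 2) - 1))) := by
  have hGp : IsPGroup 2 G := IsPGroup.of_card hG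
  have hnil := hGp.isNilpotent
  obtain ⟨hZ, -, -⟩ := card_center_of_maxClass hn hG hc
  obtain ⟨C, hC, hCi⟩ := cyclic_of_maxClass n G hn hG hc
  obtain ⟨m, rfl⟩ := Nat.exists_eq_add_of_le' (show 2 ≤ n by omega)
  obtain ⟨a, b, haC, ha, hm, hb, hcase⟩ := PGrpF.two_nonabelian hG hC hCi (maxClass_nonabelian hn hc)
  have e1 : m + 2 - 1 = m + 1 := by omega
  have e2 : m + 2 - 2 = m := by omega
  rw [e1, e2]
  have hi : (zpowers a).index = 2 := by rw [haC, hCi]
  have hgen : ∀ x : G, ∃ k : ℤ, x = a ^ k ∨ x = b * a ^ k := by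
    intro x
    by_cases hx : x ∈ zpowers a
    · obtain ⟨k, hk⟩ := mem_zpowers_iff.mp hx
      exact ⟨k, Or.inl hk.symm⟩
    · have h1 : b⁻¹ * x ∈ zpowers a := by
        have := (mul_mem_iff_of_index_two hi (a := b⁻¹) (b := x))
        rw [this]
        simp [hx, hb]
      obtain ⟨k, hk⟩ := mem_zpowers_iff.mp h1
      exact ⟨k, Or.inr (by rw [hk]; group)⟩
  have hcen : ∀ z : G, z * a = a * z → z * b = b * z → z ∈ center G := by
    intro z h1 h2
    rw [mem_center_iff]
    intro g
    obtain ⟨k, rfl | rfl⟩ := hgen g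
    · exact ((show Commute z a from h1).zpow_right k).eq.symm
    · exact ((show Commute z b from h2).mul_right ((show Commute z a from h1).zpow_right k)).eq.symm
  have haZ : ∀ k : ℤ, b * a ^ k * b⁻¹ = a ^ k → a ^ k ∈ center G := by
    intro k hk
    apply hcen
    · exact ((Commute.refl a).zpow_left k).eq
    · exact (mul_inv_eq_iff_eq_mul.mp hk).symm
  have horder : ∀ x : G, x ∈ center G → x ^ 2 = 1 := by
    intro x hx
    have : (⟨x, hx⟩ : center G) ^ Nat.card (center G) = 1 := pow_card_eq_one'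
    rw [hZ] at this
    exact congrArg Subtype.val this
  have hpow : orderOf (a ^ (2 ^ m)) = 2 := by
    rw [orderOf_pow_of_dvd (by positivity) (by rw [ha]; exact pow_dvd_pow 2 (by omega)), ha, pow_succ,
      Nat.mul_div_cancel_left _ (by positivity)]
  have hinv : ∀ r : ℤ, b * a * b⁻¹ = a ^ r → a ^ (2 ^ m) ∈ center G := by
    intro r hr
    have h1 := conj_zpow_of hr (2 ^ m)
    have h2 : (b * a ^ (2 ^ m) * b⁻¹) ≠ 1 := by
      intro h
      have h3 : a ^ (2 ^ m) = 1 := by
        have := congrArg (fun t => b⁻¹ * t * b) h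
        simpa [mul_assoc] using this
      rw [h3, orderOf_one] at hpow
      norm_num at hpow
    have h3 : (a ^ (2 ^ m) : G) = a ^ ((2 ^ m : ℕ) : ℤ) := (zpow_natCast a (2 ^ m)).symm
    rw [h3]
    apply haZ
    push_cast
    rw [h1]
    have h4 : (a ^ ((2 : ℤ) ^ m)) ^ 2 = 1 := by
      rw [← zpow_natCast, ← zpow_mul]
      have : ((2 : ℤ) ^ m * ((2 : ℕ) : ℤ)) = ((2 ^ (m + 1) : ℕ) : ℤ) := by push_cast; ring
      rw [this, zpow_natCast, ← ha, pow_orderOf_eq_one]
    rw [mul_comm, zpow_mul]
    rcases Int.even_or_odd r with ⟨l, hl⟩ | ⟨l, hl⟩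
    · exfalso
      apply h2
      have h5 : (a ^ 2 ^ m : G) = a ^ ((2 : ℤ) ^ m) := by
        rw [← zpow_natCast]; push_cast; rfl
      rw [h5, h1, mul_comm, zpow_mul, hl, ← two_mul, zpow_mul]
      have : (a ^ ((2 : ℤ) ^ m)) ^ (2 : ℤ) = 1 := by exact_mod_cast h4
      rw [this, one_zpow]
    · rw [hl, zpow_add, zpow_mul, zpow_one]
      have : (a ^ ((2 : ℤ) ^ m)) ^ (2 : ℤ) = 1 := by exact_mod_cast h4
      rw [this, one_zpow, one_mul]
  have hZeq : a ^ (2 ^ m) ∈ center G → center G = zpowers (a ^ (2 ^ m)) := by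
    intro h
    symm
    apply eq_of_le_of_card_ge (zpowers_le.mpr h)
    rw [Nat.card_zpowers, hpow, hZ]
  refine ⟨a, b, ha, hb, ?_, ?_⟩
  · rcases hcase with ⟨-, h⟩ | ⟨-, h⟩ | ⟨-, -, h⟩ | ⟨-, -, h⟩
    · exact hZeq (hinv (-1) (by rw [h, zpow_neg_one]))
    · exact hZeq (hinv (-1) (by rw [h, zpow_neg_one]))
    · exact hZeq (hinv ((1 + 2 ^ m : ℕ) : ℤ) (by rw [h, zpow_natCast]))
    · exact hZeq (hinv ((2 ^ m - 1 : ℕ) : ℤ) (by rw [h, zpow_natCast]))
  · rcases hcase with h | h | ⟨h1, h2, h⟩ | ⟨h1, h2, h⟩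
    · exact Or.inl h
    · exact Or.inr (Or.inl h)
    · exfalso
      have h3 : b * a * b⁻¹ = a ^ ((1 + 2 ^ m : ℕ) : ℤ) := by rw [h, zpow_natCast]
      have h4 := conj_zpow_of h3 2
      have h5 : a ^ (2 : ℤ) ∈ center G := by
        apply haZ
        rw [h4]
        have e : ((1 + 2 ^ m : ℕ) : ℤ) * 2 = 2 + ((2 ^ (m + 1) : ℕ) : ℤ) := by push_cast; ring
        rw [e, zpow_add, zpow_natCast, ← ha, pow_orderOf_eq_one, mul_one]
      have h6 := horder _ h5
      have h7 : a ^ 4 = 1 := by
        have : (a ^ (2 : ℤ)) = a ^ 2 := by exact_mod_cast zpow_natCast a 2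
        rw [this, ← pow_mul] at h6
        exact h6
      have h8 := orderOf_dvd_of_pow_eq_one h7
      rw [ha] at h8
      have h9 := Nat.le_of_dvd (by norm_num) h8
      have h10 : 2 ^ 3 ≤ 2 ^ (m + 1) := Nat.pow_le_pow_right (by norm_num) (by omega)
      omega
    · exact Or.inr (Or.inr ⟨by omega, h2, h⟩)

theorem quotient_dihedral [Finite G] {n : ℕ} (hn : 3 ≤ n) (hG : Nat.card G = 2 ^ n)
    (hc : Group.nilpotencyClass G = n - 1) :
    Nonempty (G ⧸ center G ≃* DihedralGroup (2 ^ (n - 2))) := by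
  obtain ⟨hZ, hQ, -⟩ := card_center_of_maxClass hn hG hc
  obtain ⟨a, b, ha, hb, hZa, hcase⟩ := maxClass_generators hn hG hc
  have hZle : center G ≤ zpowers a := by
    rw [hZa]; exact zpowers_le.mpr (pow_mem (mem_zpowers a) _)
  have hcent : a ^ (2 ^ (n - 2)) ∈ center G := by rw [hZa]; exact mem_zpowers _
  have hab : ((a : G ⧸ center G)) ^ (2 ^ (n - 2)) = 1 := by
    rw [← QuotientGroup.mk_pow, QuotientGroup.eq_one_iff]; exact hcent
  have hord : orderOf (a : G ⧸ center G) = 2 ^ (n - 2) := by
    apply Nat.dvd_antisymm (orderOf_dvd_of_pow_eq_one hab)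
    have h1 : (a : G ⧸ center G) ^ orderOf (a : G ⧸ center G) = 1 := pow_orderOf_eq_one _
    rw [← QuotientGroup.mk_pow, QuotientGroup.eq_one_iff] at h1
    have h2 : (a ^ orderOf (a : G ⧸ center G)) ^ 2 = 1 := by
      have : (⟨_, h1⟩ : center G) ^ Nat.card (center G) = 1 := pow_card_eq_one'
      rw [hZ] at this
      exact congrArg Subtype.val this
    rw [← pow_mul] at h2
    have h3 := orderOf_dvd_of_pow_eq_one h2
    rw [ha, show n - 1 = (n - 2) + 1 by omega, pow_succ] at h3
    exact Nat.dvd_of_mul_dvd_mul_right (by norm_num) h3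
  rw [← hord]
  apply PGrpD.dihedral_iso (b := (b : G ⧸ center G))
  · rw [← QuotientGroup.mk_pow, QuotientGroup.eq_one_iff]
    rcases hcase with ⟨h, -⟩ | ⟨h, -⟩ | ⟨-, h, -⟩
    · rw [h]; exact one_mem _
    · rw [h]; exact hcent
    · rw [h]; exact one_mem _
  · rcases hcase with ⟨-, h⟩ | ⟨-, h⟩ | ⟨-, -, h⟩
    · exact_mod_cast congrArg (QuotientGroup.mk (s := center G)) h
    · exact_mod_cast congrArg (QuotientGroup.mk (s := center G)) h
    · have h1 := congrArg (QuotientGroup.mk (s := center G)) h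
      have h2 : ((a ^ (2 ^ (n - 2) - 1) : G) : G ⧸ center G) = ((a : G ⧸ center G))⁻¹ := by
        rw [QuotientGroup.mk_pow, eq_inv_iff_mul_eq_one, ← pow_succ, Nat.sub_add_cancel Nat.one_le_two_pow]
        exact hab
      rw [h2] at h1
      exact h1
  · intro h
    obtain ⟨k, hk⟩ := mem_zpowers_iff.mp h
    rw [← QuotientGroup.mk_zpow] at hk
    have h1 := hZle (QuotientGroup.eq.mp hk)
    apply hb
    have : b = a ^ k * ((a ^ k)⁻¹ * b) := by group
    rw [this]
    exact mul_mem (zpow_mem (mem_zpowers a) k) h1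
  · rw [hQ, hord, ← pow_succ']; congr 1; omega

/-- If `M` is an abelian subgroup of index 2 and `b ∉ M` then `|G'| * |C_M(b)| ≤ |M|`. -/
theorem card_commutator_mul_le [Finite G] {M : Subgroup G} (hMi : M.index = 2)
    (hMc : ∀ x ∈ M, ∀ y ∈ M, x * y = y * x) {b : G} (hb : b ∉ M) :
    Nat.card (_root_.commutator G) * Nat.card (M ⊓ centralizer {b} : Subgroup G) ≤ Nat.card M := by
  have hMn : M.Normal := normal_of_index_eq_two hMi
  let f : M →* G :=
    { toFun := fun m => ⁅b, (m : G)⁆
      map_one' := by simp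
      map_mul' := by
        intro x y
        have h1 : ⁅b, (x : G) * y⁆ = ⁅b, (x : G)⁆ * ((x : G) * ⁅b, (y : G)⁆ * (x : G)⁻¹) := by
          rw [commutatorElement_def, commutatorElement_def, commutatorElement_def]; group
        have h2 : ⁅b, (y : G)⁆ ∈ M := by
          rw [commutatorElement_def]
          exact mul_mem (hMn.conj_mem _ y.2 b) (inv_mem y.2)
        have h3 : (x : G) * ⁅b, (y : G)⁆ * (x : G)⁻¹ = ⁅b, (y : G)⁆ := by
          rw [hMc _ x.2 _ h2]; group
        change ⁅b, ((x * y : M) : G)⁆ = _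
        rw [coe_mul, h1, h3] }
  have hfM : ∀ m : M, f m ∈ M := by
    intro y
    change ⁅b, (y : G)⁆ ∈ M
    rw [commutatorElement_def]
    exact mul_mem (hMn.conj_mem _ y.2 b) (inv_mem y.2)
  have hker : Nat.card f.ker = Nat.card (M ⊓ centralizer {b} : Subgroup G) := by
    have : f.ker = (M ⊓ centralizer {b}).subgroupOf M := by
      ext x
      rw [MonoidHom.mem_ker, mem_subgroupOf, mem_inf, mem_centralizer_singleton_iff]
      change ⁅b, (x : G)⁆ = 1 ↔ _
      rw [commutatorElement_eq_one_iff_mul_comm]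
      constructor
      · intro h; exact ⟨x.2, h.symm⟩
      · intro h; exact h.2.symm
    rw [this, Nat.card_congr (subgroupOfEquivOfLe inf_le_left).toEquiv]
  have hrange : Nat.card f.range * Nat.card f.ker = Nat.card M := by
    have h1 := f.ker.card_mul_index
    rw [index_ker] at h1
    rw [mul_comm]; exact h1
  have hgen : ∀ x : G, x ∈ M ∨ ∃ m ∈ M, x = m * b := by
    intro x
    by_cases hx : x ∈ M
    · exact Or.inl hx
    · right
      refine ⟨x * b⁻¹, ?_, by group⟩
      rw [mul_mem_iff_of_index_two hMi]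
      simp [hx, hb]
  -- the range is normal
  have hIn : f.range.Normal := by
    refine ⟨?_⟩
    rintro _ ⟨m, rfl⟩ g
    have hMconj : ∀ y ∈ M, ∀ z ∈ M, y * z * y⁻¹ = z := by
      intro y hy z hz
      rw [hMc y hy z hz]; group
    rcases hgen g with hg | ⟨m', hm', rfl⟩
    · rw [hMconj g hg _ (hfM m)]
      exact ⟨m, rfl⟩
    · have e : m' * b * f m * (m' * b)⁻¹ = m' * (b * f m * b⁻¹) * m'⁻¹ := by group
      rw [e, hMconj m' hm' _ (hMn.conj_mem _ (hfM m) b)]
      refine ⟨⟨b * m * b⁻¹, hMn.conj_mem _ m.2 b⟩, ?_⟩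
      change ⁅b, b * (m : G) * b⁻¹⁆ = b * ⁅b, (m : G)⁆ * b⁻¹
      rw [commutatorElement_def, commutatorElement_def]; group
  have hle : _root_.commutator G ≤ f.range := by
    have hc1 : ∀ m ∈ M, ((b : G) : G ⧸ f.range) * (m : G) = (m : G) * (b : G) := by
      intro m hm
      have h1 : ⁅b, m⁆ ∈ f.range := ⟨⟨m, hm⟩, rfl⟩
      rw [← QuotientGroup.eq_one_iff] at h1
      rw [← commutatorElement_eq_one_iff_mul_comm]
      exact h1
    have hc2 : ∀ x ∈ M, ∀ y ∈ M, ((x : G) : G ⧸ f.range) * (y : G) = (y : G) * (x : G) := by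
      intro x hx y hy
      rw [← QuotientGroup.mk_mul, hMc x hx y hy, QuotientGroup.mk_mul]
    rw [_root_.commutator_def, commutator_le]
    intro x _ y _
    rw [← QuotientGroup.eq_one_iff]
    have key : Commute ((x : G) : G ⧸ f.range) (y : G ⧸ f.range) := by
      rcases hgen x with hx | ⟨x', hx', rfl⟩ <;> rcases hgen y with hy | ⟨y', hy', rfl⟩
      · exact hc2 x hx y hy
      · rw [QuotientGroup.mk_mul]
        exact Commute.mul_right (hc2 _ hx _ hy') (hc1 _ hx).symm
      · rw [QuotientGroup.mk_mul]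
        exact Commute.mul_left (hc2 _ hx' _ hy) (hc1 _ hy)
      · rw [QuotientGroup.mk_mul, QuotientGroup.mk_mul]
        refine Commute.mul_left (Commute.mul_right (hc2 _ hx' _ hy') (hc1 _ hx').symm)
          (Commute.mul_right (hc1 _ hy') (Commute.refl _))
    exact commutatorElement_eq_one_iff_mul_comm.mpr key.eq
  rw [← hrange, hker]
  exact Nat.mul_le_mul_right _ (card_le_of_le hle)

theorem maxClass_of_card_abelianization (n : ℕ) : ∀ (G : Type u) [Group G] [Finite G], 2 ≤ n →
    Nat.card G = 2 ^ n → Nat.card (G ⧸ _root_.commutator G) = 4 →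
    (∃ C : Subgroup G, IsCyclic C ∧ C.index = 2) ∧ (3 ≤ n → Group.nilpotencyClass G = n - 1) := by
  induction n with
  | zero => intro G _ _ h; omega
  | succ n ih =>
    intro G _ _ hn hG hab
    have hGp : IsPGroup 2 G := IsPGroup.of_card hG
    have hnil := hGp.isNilpotent
    have hgp' : Nat.card (_root_.commutator G) = 2 ^ (n - 1) := by
      have h1 := (_root_.commutator G).card_mul_index
      rw [index_eq_card, hab, hG] at h1
      have h2 : 2 ^ (n + 1) = 2 ^ (n - 1) * 4 := by
        rw [show n + 1 = (n - 1) + 2 by omega, pow_add]; norm_num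
      rw [h2] at h1
      exact Nat.eq_of_mul_eq_mul_right (by norm_num) h1
    by_cases hn2 : n = 1
    · subst hn2
      refine ⟨?_, fun h => by omega⟩
      obtain ⟨N, -, hNi⟩ := exists_normal_index (r := 1) hG (by omega)
      rw [pow_one] at hNi
      refine ⟨N, ?_, hNi⟩
      have h1 := N.card_mul_index
      rw [hNi, hG] at h1
      have : Nat.card N = 2 := by omega
      exact isCyclic_of_prime_card this
    have hne : _root_.commutator G ≠ ⊥ := by
      intro h
      rw [h, card_bot] at hgp'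
      have : 1 < 2 ^ (n - 1) := Nat.one_lt_pow (by omega) (by norm_num)
      omega
    obtain ⟨Z, hZG, hZc, hZ⟩ := exists_normal_card_prime hGp hne
    have hZn : Z.Normal := normal_of_center_card hZc
    have hQ : Nat.card (G ⧸ Z) = 2 ^ n := by
      have := Z.card_mul_index
      rw [hZ, hG, pow_succ', index_eq_card] at this
      exact Nat.eq_of_mul_eq_mul_left (by norm_num) this
    have hQab : Nat.card ((G ⧸ Z) ⧸ _root_.commutator (G ⧸ Z)) = 4 := by
      rw [← index_eq_card, ← hab, ← index_eq_card]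
      have h1 : (_root_.commutator (G ⧸ Z)).comap (QuotientGroup.mk' Z) = _root_.commutator G := by
        have h2 : _root_.commutator (G ⧸ Z) = (_root_.commutator G).map (QuotientGroup.mk' Z) := by
          rw [_root_.commutator_def, _root_.commutator_def, Subgroup.map_commutator,
            Subgroup.map_top_of_surjective _ (QuotientGroup.mk'_surjective Z)]
        rw [h2, QuotientGroup.comap_map_mk', sup_eq_right.mpr hZG]
      rw [← h1, index_comap_of_surjective _ (QuotientGroup.mk'_surjective Z)]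
    obtain ⟨⟨Cb, hCb, hCbi⟩, hcl⟩ := ih (G ⧸ Z) (by omega) hQ hQab
    obtain ⟨M, hM⟩ : ∃ M, M = Cb.comap (QuotientGroup.mk' Z) := ⟨_, rfl⟩
    have hMi : M.index = 2 := by
      rw [hM, index_comap_of_surjective _ (QuotientGroup.mk'_surjective _), hCbi]
    have hMle : M ≤ Cb.comap (QuotientGroup.mk' Z) := hM.le
    have hMab : ∀ a b : M, a * b = b * a := by
      let f : M →* Cb := ((QuotientGroup.mk' Z).comp M.subtype).codRestrict Cb
          (fun x => hMle x.2)
      apply commutative_of_cyclic_center_quotient f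
      intro x hx
      rw [MonoidHom.mem_ker] at hx
      have h1 : ((x : G) : G ⧸ Z) = 1 := congrArg Subtype.val hx
      rw [QuotientGroup.eq_one_iff] at h1
      rw [mem_center_iff]
      intro y
      exact Subtype.ext (mem_center_iff.mp (hZc h1) y)
    have hMc : ∀ x ∈ M, ∀ y ∈ M, x * y = y * x := fun x hx y hy =>
      congrArg Subtype.val (hMab ⟨x, hx⟩ ⟨y, hy⟩)
    have hMtop : M ≠ ⊤ := by
      intro h
      rw [h, index_top] at hMi
      norm_num at hMi
    obtain ⟨b, hb⟩ : ∃ b, b ∉ M := by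
      by_contra hcon
      push Not at hcon
      exact hMtop (eq_top_iff.mpr fun x _ => hcon x)
    have hcM : Nat.card M = 2 ^ n := by
      have := M.card_mul_index
      rw [hMi, hG, pow_succ] at this
      exact Nat.eq_of_mul_eq_mul_right (by norm_num) this
    have h1 := card_commutator_mul_le hMi hMc hb
    have h2 : Nat.card (M ⊓ centralizer {b} : Subgroup G) ≤ 2 := by
      rw [hgp', hcM, show n = (n - 1) + 1 by omega, pow_succ] at h1
      simp only [Nat.add_sub_cancel] at h1
      exact Nat.le_of_mul_le_mul_left h1 (by positivity)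
    -- the centralizer of b has order at most 4
    obtain ⟨A, hA⟩ : ∃ A : Subgroup G, A = centralizer {b} := ⟨_, rfl⟩
    have hbA : b ∈ A := by rw [hA]; exact mem_centralizer_singleton_iff.mpr rfl
    have hA1 : Nat.card A ≤ 4 := by
      have h3 : (M.subgroupOf A).index ≤ 2 := by
        have : (M.subgroupOf A).index ∣ M.index := by
          have h4 : M.relIndex A ∣ M.index := by
            have := normal_of_index_eq_two hMi
            exact relIndex_dvd_index_of_normal M A
          exact h4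
        rw [hMi] at this
        exact Nat.le_of_dvd (by norm_num) this
      have h4 : Nat.card (M.subgroupOf A) ≤ 2 := by
        have h5 : M.subgroupOf A = (M ⊓ A).subgroupOf A := by
          rw [inf_subgroupOf_right]
        rw [h5, Nat.card_congr (subgroupOfEquivOfLe inf_le_right).toEquiv, hA]
        exact h2
      have h5 := (M.subgroupOf A).card_mul_index
      calc Nat.card A = _ := h5.symm
        _ ≤ 2 * 2 := Nat.mul_le_mul h4 h3
        _ = 4 := by norm_num
    have hA2 : Nat.card A = 2 ^ 2 := by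
      obtain ⟨k, hk⟩ := IsPGroup.iff_card.mp (hGp.to_subgroup A)
      rw [hk] at hA1
      have hk2 : k ≤ 2 := by
        by_contra h
        have : 2 ^ 3 ≤ 2 ^ k := Nat.pow_le_pow_right (by norm_num) (by omega)
        omega
      have hk3 : 2 ≤ k := by
        by_contra h
        have hA3 : Nat.card A ≤ 2 := by
          rw [hk]
          calc 2 ^ k ≤ 2 ^ 1 := Nat.pow_le_pow_right (by norm_num) (by omega)
            _ = 2 := by norm_num
        -- Z ≤ A, so A = Z ∌ b
        have hZM : Z ≤ M := by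
          intro x hx
          rw [hM, mem_comap, QuotientGroup.mk'_apply, (QuotientGroup.eq_one_iff x).mpr hx]
          exact one_mem _
        have hZA : Z ≤ A := by
          intro x hx
          rw [hA, mem_centralizer_singleton_iff]
          exact (mem_center_iff.mp (hZc hx) b).symm
        have : Z = A := eq_of_le_of_card_ge hZA (by rw [hZ]; exact hA3)
        exact hb (hZM (this ▸ hbA))
      rw [hk]; congr 1; omega
    have hAC : centralizer (A : Set G) = A := by
      apply le_antisymm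
      · intro x hx
        rw [hA, mem_centralizer_singleton_iff]
        exact (mem_centralizer_iff.mp hx b hbA).symm
      · intro x hx
        rw [mem_centralizer_iff]
        intro y hy
        exact congrArg Subtype.val (IsPGroup.commutative_of_card_eq_prime_sq (p := 2) hA2 ⟨y, hy⟩ ⟨x, hx⟩)
    have hclass := maxClass_of_self_centralizing (n + 1) G hG A hA2 hAC
    exact ⟨cyclic_of_maxClass (n + 1) G (by omega) hG hclass, fun _ => hclass⟩

theorem maxClass_iff_klein [Finite G] {n : ℕ} (hn : 3 ≤ n) (hG : Nat.card G = 2 ^ n) :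
    Group.nilpotencyClass G = n - 1 ↔ IsKleinFour (G ⧸ _root_.commutator G) := by
  have hGp : IsPGroup 2 G := IsPGroup.of_card hG
  have hnil := hGp.isNilpotent
  constructor
  · intro hc
    have hL1 : (_root_.commutator G).index = 2 ^ 2 := by
      rw [← Subgroup.top_lowerCentralSeries_one]
      exact index_lcs hn hG hc (i := 1) (by omega) (by omega)
    have hQ : Nat.card (G ⧸ _root_.commutator G) = 4 := by rw [← index_eq_card, hL1]; norm_num
    refine ⟨hQ, ?_⟩
    have hnc : ¬ IsCyclic (G ⧸ _root_.commutator G) := by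
      intro h
      have h1 := isCyclic_of_quotient_commutator hGp h
      have := class_le_one_of_comm (fun a b : G => (Cyc.isMulCommutative_of_isCyclic h1).is_comm.comm a b)
      omega
    have hexp : ∀ a : G ⧸ _root_.commutator G, a ^ 2 = 1 := by
      intro a
      have h1 : orderOf a ∣ 2 ^ 2 := by
        have := orderOf_dvd_natCard a
        rw [hQ] at this
        exact this
      obtain ⟨k, hk, hk'⟩ := (Nat.dvd_prime_pow Nat.prime_two).mp h1
      have h2 : k ≠ 2 := by
        rintro rfl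
        exact hnc (isCyclic_of_orderOf_eq_card a (by rw [hk', hQ]; norm_num))
      apply orderOf_dvd_iff_pow_eq_one.mp
      rw [hk']
      exact (pow_dvd_pow 2 (show k ≤ 1 by omega)).trans (by rw [pow_one])
    have h1 : Monoid.exponent (G ⧸ _root_.commutator G) ∣ 2 := Monoid.exponent_dvd_of_forall_pow_eq_one hexp
    rcases (Nat.dvd_prime Nat.prime_two).mp h1 with h | h
    · exfalso
      rw [Monoid.exp_eq_one_iff] at h
      have := Nat.card_of_subsingleton (1 : G ⧸ _root_.commutator G)
      omega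
    · exact h
  · intro h
    exact (maxClass_of_card_abelianization n G (by omega) hG h.card_four).2 hn

end Cfsg.Agent.Lib.PGrpJ
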