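import Mathlib
import Cfsg.Agent.Lib.PGrpG
import Cfsg.Agent.Lib.PGrpB

/-!
2-groups of 2-rank at least three.
-/

set_option autoImplicit false

namespace Cfsg.Agent.Lib.PGrpK

open Subgroup Cfsg.Agent.Lib.Basic Cfsg.Agent.Lib.PGrpA Cfsg.Agent.Lib.PGrpC
open scoped commutatorElement Pointwise

variable {G : Type*} [Group G]

theorem comm_of_sq {V : Subgroup G} (hV : ∀ v ∈ V, v ^ 2 = 1) : ∀ x ∈ V, ∀ y ∈ V, x * y = y * x := by
  intro x hx y hy
  have h1 := hV _ (mul_mem hx hy)
  have h2 := hV x hx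
  have h3 := hV y hy
  rw [sq] at h1 h2 h3
  have hx' : x⁻¹ = x := inv_eq_of_mul_eq_one_left h2
  have hy' : y⁻¹ = y := inv_eq_of_mul_eq_one_left h3
  have : x * y = (x * y)⁻¹ := (inv_eq_of_mul_eq_one_left h1).symm
  rw [this, mul_inv_rev, hx', hy']

theorem extend [Finite G] {V : Subgroup G} {n : ℕ} (hc : Nat.card V = n) (hV : ∀ v ∈ V, v ^ 2 = 1) {t : G}
    (ht : t ^ 2 = 1) (htV : t ∉ V) (htc : ∀ v ∈ V, v * t = t * v) :
    ∃ W : Subgroup G, V ≤ W ∧ t ∈ W ∧ Nat.card W = n * 2 ∧ ∀ w ∈ W, w ^ 2 = 1 := by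
  have hN : zpowers t ≤ normalizer (V : Set G) := by
    rw [zpowers_le, mem_normalizer_iff]
    intro v
    constructor
    · intro hv
      rw [← htc v hv]; simpa using hv
    · intro hv
      have := htc _ hv
      have h2 : t * v * t⁻¹ * t = t * v := by group
      rw [h2] at this
      have h3 : v = t * v * t⁻¹ := mul_left_cancel this
      rw [h3]; exact hv
  have ht1 : t ≠ 1 := fun h => htV (h ▸ one_mem _)
  have hto : orderOf t = 2 := orderOf_eq_prime ht ht1
  have hinf : V ⊓ zpowers t = ⊥ := by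
    rw [eq_bot_iff]
    intro x hx
    obtain ⟨k, hk⟩ := mem_zpowers_iff.mp hx.2
    have hxV := hx.1
    rcases Int.even_or_odd k with ⟨l, hl⟩ | ⟨l, hl⟩
    · have h1 : t ^ (2 : ℤ) = 1 := by exact_mod_cast ht
      rw [mem_bot, ← hk, hl, ← two_mul, zpow_mul, h1, one_zpow]
    · exfalso
      have h1 : t ^ (2 : ℤ) = 1 := by exact_mod_cast ht
      rw [hl, zpow_add, zpow_mul, h1, one_zpow, one_mul, zpow_one] at hk
      exact htV (hk ▸ hxV)
  refine ⟨V ⊔ zpowers t, le_sup_left, mem_sup_right (mem_zpowers t), ?_, ?_⟩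
  · rw [card_sup_of_inf_eq_bot hN hinf, hc, Nat.card_zpowers, hto]
  · intro w hw
    rw [mem_sup_iff_left hN] at hw
    obtain ⟨v, hv, s, hs, rfl⟩ := hw
    obtain ⟨k, rfl⟩ := mem_zpowers_iff.mp hs
    have h1 : Commute v (t ^ k) := (show Commute v t from htc v hv).zpow_right k
    rw [h1.mul_pow, hV v hv, one_mul, ← zpow_natCast, ← zpow_mul, mul_comm, zpow_mul, zpow_natCast, ht,
      one_zpow]

theorem relIndex_le_index [Finite G] (H K : Subgroup G) : H.relIndex K ≤ H.index := by
  rw [← relIndex_top_right]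
  exact relIndex_le_of_le_right le_top (by rw [relIndex_top_right]; exact index_ne_zero_of_finite)

/-- a 2-group with an elementary abelian subgroup of order 8 has a normal four-group contained in
an elementary abelian subgroup of order 8 -/
theorem exists_klein [Finite G] (hG : IsPGroup 2 G)
    (hE : ∃ E : Subgroup G, Nat.card E = 8 ∧ ∀ e ∈ E, e ^ 2 = 1) :
    ∃ V W : Subgroup G, V.Normal ∧ Nat.card V = 4 ∧ (∀ v ∈ V, v ^ 2 = 1) ∧ V ≤ W ∧ Nat.card W = 8 ∧
      (∀ w ∈ W, w ^ 2 = 1) ∧ (centralizer (V : Set G)).index ≤ 2 := by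
  obtain ⟨E, hEc, hE2⟩ := hE
  have hV : ∃ V : Subgroup G, V.Normal ∧ Nat.card V = 4 ∧ ∀ v ∈ V, v ^ 2 = 1 := by
    by_contra hcon
    obtain ⟨C, hC, hCi⟩ := PGrpG.no_normal_klein hG hcon
    have h1 : C.relIndex E ≤ 2 := (relIndex_le_index C E).trans hCi
    have h2 : Nat.card (C.subgroupOf E) ≤ 2 := by
      have hcyc : IsCyclic (C.subgroupOf E) := by
        have : IsCyclic (E.subgroupOf C) := inferInstance
        have h3 : IsCyclic (C ⊓ E : Subgroup G) := by
          have e : (C ⊓ E).subgroupOf C = E.subgroupOf C := by rw [inf_subgroupOf_left]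
          have h4 : IsCyclic ((C ⊓ E).subgroupOf C) := inferInstance
          exact isCyclic_of_surjective (subgroupOfEquivOfLe (inf_le_left : C ⊓ E ≤ C))
            (subgroupOfEquivOfLe (inf_le_left : C ⊓ E ≤ C)).surjective
        have e : (C ⊓ E).subgroupOf E = C.subgroupOf E := by rw [inf_subgroupOf_right]
        rw [← e]
        exact isCyclic_of_surjective (subgroupOfEquivOfLe (inf_le_right : C ⊓ E ≤ E)).symm
            (subgroupOfEquivOfLe (inf_le_right : C ⊓ E ≤ E)).symm.surjective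
      obtain ⟨g, hg⟩ := hcyc.exists_generator
      rw [← orderOf_eq_card_of_forall_mem_zpowers hg]
      apply orderOf_le_of_pow_eq_one (by norm_num)
      apply Subtype.ext; apply Subtype.ext
      exact hE2 _ g.1.2
    have h3 := (C.subgroupOf E).card_mul_index
    rw [hEc] at h3
    have h4 : Nat.card (C.subgroupOf E) * (C.subgroupOf E).index ≤ 2 * 2 := Nat.mul_le_mul h2 h1
    omega
  obtain ⟨V, hVn, hVc, hV2⟩ := hV
  have hCi : (centralizer (V : Set G)).index ≤ 2 := by
    have := PGrpB.index_centralizer_le hG 2 V hVn (by rw [hVc]; norm_num)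
    simpa using this
  have hVab := comm_of_sq hV2
  have hEab := comm_of_sq hE2
  obtain ⟨e, heE, heC, heV⟩ : ∃ e ∈ E, e ∈ centralizer (V : Set G) ∧ e ∉ V := by
    by_contra hcon
    push Not at hcon
    have h1 : (centralizer (V : Set G)).relIndex E ≤ 2 :=
      (relIndex_le_index (centralizer (V : Set G)) E).trans hCi
    have h2 : E ⊓ centralizer (V : Set G) ≤ V := fun x hx => hcon x hx.1 hx.2
    have h3 : 4 ≤ Nat.card (E ⊓ centralizer (V : Set G) : Subgroup G) := by
      have h4 := ((centralizer (V : Set G)).subgroupOf E).card_mul_index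
      rw [hEc] at h4
      have e : (E ⊓ centralizer (V : Set G)).subgroupOf E = (centralizer (V : Set G)).subgroupOf E := by
        rw [inf_subgroupOf_left]
      rw [← e, Nat.card_congr (subgroupOfEquivOfLe inf_le_left).toEquiv, e] at h4
      by_contra h5
      have h6 : Nat.card (E ⊓ centralizer (V : Set G) : Subgroup G) *
          ((centralizer (V : Set G)).subgroupOf E).index ≤ 3 * 2 := Nat.mul_le_mul (by omega) h1
      omega
    have h4 : E ⊓ centralizer (V : Set G) = V := eq_of_le_of_card_ge h2 (by rw [hVc]; exact h3)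
    have h5 : V ≤ E := h4 ▸ inf_le_left
    have h6 : E ≤ V := by
      intro x hx
      rw [← h4]
      exact ⟨hx, mem_centralizer_iff.mpr fun y hy => hEab y (h5 hy) x hx⟩
    have h7 := card_le_of_le h6
    omega
  obtain ⟨W, hVW, -, hWc, hW2⟩ := extend hVc hV2 (hE2 e heE) heV (fun v hv => mem_centralizer_iff.mp heC v hv)
  exact ⟨V, W, hVn, hVc, hV2, hVW, hWc, hW2, hCi⟩

end Cfsg.Agent.Lib.PGrpK
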