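import Cfsg.Agent.Lib.McB

/-!
# `p`-reduced normal subgroups, part 2
-/

set_option autoImplicit false

namespace Cfsg.Agent.Lib.PRed

open Subgroup POf PIrr WClos
open scoped commutatorElement

variable {H : Type*} [Group H] {p : ℕ}

theorem norm_top (N : Subgroup H) [N.Normal] (x : H) : x ∈ normalizer (N : Set H) := by
  rw [normalizer_eq_top]; exact mem_top x

/-- elements of `p`-power order modulo a centralizer: `N ≤ (N ∩ C) P` -/
theorem le_of_syl [Finite H] [Fact p.Prime] {L N C P : Subgroup H} (hP : Syl p L P) (hNL : N ≤ L)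
    (hN : L ≤ normalizer (N : Set H)) (hC : L ≤ normalizer (C : Set H)) (hx : ∀ x ∈ N, ∃ k : ℕ, x ^ (p ^ k) ∈ C) :
    N ≤ (N ⊓ C) ⊔ (P ⊓ N) := by
  have h1 := syl_inf' hP N hNL hN
  refine syl_sup h1 ?_ ?_
  · intro y hy
    rw [mem_normalizer_conj, conj_inf, conj_of_mem hy, mem_normalizer_conj.mp (hC (hNL hy))]
  · intro y hy ho
    obtain ⟨k, hk⟩ := hx y hy
    exact ⟨hy, mem_of_pow ho hk⟩

/-- S2802, ambient form -/
theorem closure_red [Finite H] [Fact p.Prime] (hchar : centralizer (pCore p H : Set H) ≤ pCore p H)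
    (T : Sylow p H) {R X : Subgroup H} (hTR : (T : Subgroup H) ≤ R) (hX : Red p R X) :
    IsPReducedNormal p (normalClosure (X : Set H)) := by
  haveI hpn : (pCore p H).Normal := Cores.pCore_normal p
  have hOR : pCore p H ≤ pCoreOf p R := by
    refine POf.le_pCoreOf ((Cores.pCore_le_sylow T).trans hTR) (Cores.pCore_isPGroup p) ?_
    intro x _; exact norm_top _ x
  have hXO : X ≤ zc p (pCore p H) := by
    intro x hx
    have h1 : x ∈ centralizer (pCore p H : Set H) :=
      (le_centralizer_iff.mp ((hOR.trans hX.pCoreOf_le))) hx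
    exact mem_zc (hchar h1) h1 (hX.2.2.1.2 x hx)
  haveI hzn : (zc p (pCore p H)).Normal := by
    rw [← normalizer_eq_top_iff, eq_top_iff]
    intro x _
    rw [mem_normalizer_conj, zc_conj, mem_normalizer_conj.mp (norm_top _ x)]
  have hV : normalClosure (X : Set H) ≤ zc p (pCore p H) := normalClosure_le_normal hXO
  rw [reducedNormal_iff]
  refine ⟨normalClosure_normal, el_mono hV (el_zc _ _), ?_⟩
  intro N hN hx
  rw [le_centralizer_iff]
  haveI : (centralizer (N : Set H)).Normal := inferInstance
  refine normalClosure_le_normal ?_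
  show X ≤ centralizer (N : Set H)
  rw [← le_centralizer_iff]
  have h1 : N ⊓ R ≤ centralizer (X : Set H) := by
    refine hX.2.2.2 _ inf_le_right ?_ ?_
    · intro x hx
      rw [mem_normalizer_conj, conj_inf, conj_of_mem hx, mem_normalizer_conj.mp (norm_top N x)]
    · intro x hx'
      obtain ⟨k, hk⟩ := hx x hx'.1
      exact ⟨k, centralizer_le (subset_normalClosure) hk⟩
  have h2 := le_of_syl (sylow_syl T le_top) (le_top : N ≤ ⊤) (fun x _ => norm_top N x)
    (fun x _ => norm_top (centralizer ((normalClosure (X : Set H) : Subgroup H) : Set H)) x) hx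
  refine h2.trans (sup_le ?_ ?_)
  · exact inf_le_right.trans (centralizer_le subset_normalClosure)
  · refine le_trans (le_inf inf_le_right (inf_le_left.trans hTR)) h1

/-- S2802 -/
theorem s2802 [Finite H] [Fact p.Prime] (hchar : centralizer (pCore p H : Set H) ≤ pCore p H) (T : Sylow p H)
    (R : Subgroup H) (hTR : (T : Subgroup H) ≤ R) (X : Subgroup ↥R) (hX : IsPReducedNormal p X) :
    IsPReducedNormal p (normalClosure ((X.map R.subtype : Subgroup H) : Set H)) := by
  apply closure_red hchar T hTR
  rw [red_iff (map_subtype_le X)]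
  have : (X.map R.subtype).subgroupOf R = X := comap_map_eq_self_of_injective R.subtype_injective _
  rwa [this]

/-- S2803 -/
theorem s2803 [Finite H] [Fact p.Prime] (hchar : centralizer (pCore p H : Set H) ≤ pCore p H)
    (T : Sylow p H) (Y : Subgroup H) (hY : (IsPReducedNormal p Y ∧ ∀ V : Subgroup H, IsPReducedNormal p V → V ≤ Y))
    (TL : Subgroup H) (hTL : TL = (T : Subgroup H) ⊓ centralizer (Y : Set H)) :
    (∀ g : H, ∃ a ∈ normalizer (TL : Set H), ∃ c ∈ centralizer (Y : Set H), g = a * c) ∧
      (pCore p ↥(normalizer (TL : Set H))).map (normalizer (TL : Set H)).subtype = TL ∧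
      Y = omegaOne p (TL ⊓ centralizer (TL : Set H)) := by
  obtain ⟨hYr, hYmax⟩ := hY
  obtain ⟨hYn, hYe, hYred⟩ := reducedNormal_iff.mp hYr
  haveI hYn' := hYn
  haveI hpn : (pCore p H).Normal := Cores.pCore_normal p
  set C := centralizer (Y : Set H) with hC
  haveI hCn : C.Normal := inferInstance
  have hfr : ∀ g : H, ∃ a ∈ normalizer (TL : Set H), ∃ c ∈ C, g = a * c := by
    intro g
    obtain ⟨c, hc, n, hn, e⟩ := QuadD.frattini_inf C T g
    rw [← hTL] at hn
    refine ⟨n, hn, n⁻¹ * c * n, ?_, by rw [e]; group⟩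
    have := hCn.conj_mem c hc n⁻¹
    rwa [inv_inv] at this
  have hTLp : IsPGroup p TL := by rw [hTL]; exact T.2.to_le inf_le_left
  set N := normalizer (TL : Set H) with hN
  have hTN : (T : Subgroup H) ≤ N := by
    intro x hx
    rw [hN, mem_normalizer_conj, hTL, conj_inf, conj_of_mem hx, mem_normalizer_conj.mp (norm_top C x)]
  -- subgroups of `C`-quotient
  have hred : ∀ D : Subgroup H, D ≤ N → N ≤ normalizer (D : Set H) → (∀ x ∈ D, ∃ k : ℕ, x ^ (p ^ k) ∈ C) → D ≤ C := by
    intro D hDN hND hx
    have h1 : C ⊔ D ≤ C := by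
      apply hYred
      · rw [← normalizer_eq_top_iff, eq_top_iff]
        intro g _
        obtain ⟨a, ha, c, hc, rfl⟩ := hfr g
        refine mul_mem ?_ ?_
        · rw [mem_normalizer_conj, Subgroup.map_sup, mem_normalizer_conj.mp (norm_top C a),
            mem_normalizer_conj.mp (hND ha)]
        · exact le_normalizer (le_sup_left (a := C) hc)
      · intro x hx'
        exact pow_mem_of_sup' (fun y _ => norm_top C y) hx hx'
    exact le_sup_right.trans h1
  have hOp : pCoreOf p N = TL := by
    apply le_antisymm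
    · have h1 : pCoreOf p N ≤ C := hred _ POf.pCoreOf_le le_normalizer_pCoreOf (fun x hx => by
        obtain ⟨k, hk⟩ := pCoreOf_isPGroup (p := p) (H := N) ⟨x, hx⟩
        exact ⟨k, by rw [show x ^ (p ^ k) = 1 from congrArg Subtype.val hk]; exact one_mem _⟩)
      rw [hTL]
      exact le_inf (sylow_syl T hTN).pCoreOf_le h1
    · exact POf.le_pCoreOf le_normalizer hTLp le_rfl
  refine ⟨hfr, hOp, ?_⟩
  have hYT : Y ≤ TL := by
    rw [hTL]
    refine le_inf ((Cores.le_pCore hYn (el_isPGroup hYe)).trans (Cores.pCore_le_sylow T)) ?_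
    intro x hx
    exact mem_centralizer_iff.mpr (fun y hy => (el_iff.mp hYe).1 y hy x hx)
  have hTLC : TL ≤ C := by rw [hTL]; exact inf_le_right
  apply le_antisymm
  · intro x hx
    refine mem_zc (hYT hx) ?_ (hYe.2 x hx)
    exact (le_centralizer_iff.mp hTLC) hx
  · -- `Z* = Ω₁(Z(T_L))` is `p`-reduced in `N`
    change zc p TL ≤ Y
    have hYZ : Y ≤ zc p TL := by
      intro x hx
      exact mem_zc (hYT hx) ((le_centralizer_iff.mp hTLC) hx) (hYe.2 x hx)
    have hR : Red p N (zc p TL) := by
      refine ⟨(zc_le p TL).trans le_normalizer, ?_, el_zc _ _, ?_⟩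
      · intro x hx
        rw [mem_normalizer_conj, zc_conj, mem_normalizer_conj.mp hx]
      · intro D hDN hND hx
        have h1 : D ≤ C := hred D hDN hND (fun x hx' => by
          obtain ⟨k, hk⟩ := hx x hx'
          exact ⟨k, centralizer_le hYZ hk⟩)
        have hNC : N ≤ normalizer ((centralizer (zc p TL : Set H) : Subgroup H) : Set H) := by
          intro x hx
          rw [mem_normalizer_conj, centralizer_conj, zc_conj, mem_normalizer_conj.mp hx]
        have h2 := le_of_syl (sylow_syl T hTN) hDN hND hNC hx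
        refine h2.trans (sup_le inf_le_right ?_)
        have h3 : (T : Subgroup H) ⊓ D ≤ TL := by rw [hTL]; exact inf_le_inf_left _ h1
        rw [le_centralizer_iff]
        exact (zc_le_cent p TL).trans (centralizer_le h3)
    exact le_trans (subset_normalClosure) (hYmax _ (closure_red hchar T hTN hR))

end Cfsg.Agent.Lib.PRed
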