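import Cfsg.Agent.Lib.PRedB

/-!
# the trace homomorphism, Kieler's lemma, subnormal subgroups and `p`-reduced normal subgroups
-/

set_option autoImplicit false

namespace Cfsg.Agent.Lib.PRed

open Subgroup POf PIrr WClos
open scoped commutatorElement

variable {H : Type*} [Group H] {p : ℕ}

/-- the trace map of `V` over `R/T` -/
theorem exists_trace [Finite H] [hp : Fact p.Prime] {V R P : Subgroup H} (hV : ∀ x ∈ V, ∀ y ∈ V, x * y = y * x)
    (hRV : R ≤ normalizer (V : Set H)) (hP : Syl p R P) :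
    ∃ (τ : V →* V) (n : ℕ), n.Coprime p ∧
      (∀ v : V, (v : H) ∈ centralizer (P : Set H) → ((τ v : V) : H) ∈ centralizer (R : Set H)) ∧
      (∀ v : V, (v : H) ∈ centralizer (R : Set H) → τ v = v ^ n) ∧
      (∀ v : V, (v : H) ∈ centralizer (P : Set H) → ((τ v * (v ^ n)⁻¹ : V) : H) ∈ ⁅V, R⁆) ∧
      (∀ t : H, t ∈ normalizer (R : Set H) → t ∈ normalizer (P : Set H) →
        ∀ v v' : V, (v : H) ∈ centralizer (P : Set H) → (v' : H) = t * v * t⁻¹ → t ∈ normalizer (V : Set H) →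
          ((τ v' : V) : H) = t * ((τ v : V) : H) * t⁻¹) := by
  classical
  obtain ⟨T, hT⟩ := hP
  letI : CommGroup V := { (inferInstance : Group V) with mul_comm := fun x y => Subtype.ext (hV x x.2 y y.2) }
  have hmem : ∀ (r : R) (v : V), (r : H) * v * (r : H)⁻¹ ∈ V := fun r v =>
    (mem_normalizer_iff.mp (hRV r.2) v).mp v.2
  let cj : R → V →* V := fun r =>
    { toFun := fun v => ⟨(r : H) * v * (r : H)⁻¹, hmem r v⟩
      map_one' := by apply Subtype.ext; show (r : H) * 1 * (r : H)⁻¹ = 1; group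
      map_mul' := by
        intro x y
        apply Subtype.ext
        show (r : H) * ((x : H) * y) * (r : H)⁻¹ = ((r : H) * x * (r : H)⁻¹) * ((r : H) * y * (r : H)⁻¹)
        group }
  haveI : Fintype (R ⧸ (T : Subgroup R)) := Fintype.ofFinite _
  let τ : V →* V := ∏ q : R ⧸ (T : Subgroup R), cj q.out
  have hτ : ∀ v, τ v = ∏ q : R ⧸ (T : Subgroup R), cj q.out v := fun v => by
    show (∏ q : R ⧸ (T : Subgroup R), cj q.out) v = _
    rw [MonoidHom.finsetProd_apply]
  have hTP : ∀ t : R, t ∈ (T : Subgroup R) → (t : H) ∈ P := fun t ht => by rw [← hT]; exact ⟨t, ht, rfl⟩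
  -- independence of representatives
  have hrep : ∀ v : V, (v : H) ∈ centralizer (P : Set H) → ∀ r s : R,
      (QuotientGroup.mk r : R ⧸ (T : Subgroup R)) = QuotientGroup.mk s → cj r v = cj s v := by
    intro v hv r s hrs
    have h1 : r⁻¹ * s ∈ (T : Subgroup R) := QuotientGroup.eq.mp hrs
    have h2 : ((r⁻¹ * s : R) : H) * v = v * ((r⁻¹ * s : R) : H) := mem_centralizer_iff.mp hv _ (hTP _ h1)
    apply Subtype.ext
    show (r : H) * v * (r : H)⁻¹ = s * v * (s : H)⁻¹
    have h3 : (s : H) = r * ((r⁻¹ * s : R) : H) := by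
      rw [Subgroup.coe_mul, Subgroup.coe_inv]; group
    calc (r : H) * v * (r : H)⁻¹ = r * (v * ((r⁻¹ * s : R) : H)) * ((r⁻¹ * s : R) : H)⁻¹ * (r : H)⁻¹ := by group
      _ = r * (((r⁻¹ * s : R) : H) * v) * ((r⁻¹ * s : R) : H)⁻¹ * (r : H)⁻¹ := by rw [h2]
      _ = (r * ((r⁻¹ * s : R) : H)) * v * (r * ((r⁻¹ * s : R) : H))⁻¹ := by group
      _ = _ := by rw [← h3]
  have hout : ∀ q : R ⧸ (T : Subgroup R), (QuotientGroup.mk q.out : R ⧸ (T : Subgroup R)) = q := fun q => Quotient.out_eq' q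
  set n := Fintype.card (R ⧸ (T : Subgroup R)) with hn
  refine ⟨τ, n, ?_, ?_, ?_, ?_, ?_⟩
  · rw [Nat.coprime_comm, Nat.Prime.coprime_iff_not_dvd hp.out, hn, ← Nat.card_eq_fintype_card]
    exact T.not_dvd_index
  · intro v hv
    rw [mem_centralizer_iff]
    intro s hs
    have h1 : cj ⟨s, hs⟩ (τ v) = τ v := by
      rw [hτ, map_prod]
      have h2 : ∀ q : R ⧸ (T : Subgroup R), cj ⟨s, hs⟩ (cj q.out v) = cj ((⟨s, hs⟩ : R) • q).out v := by
        intro q
        have h3 : cj ⟨s, hs⟩ (cj q.out v) = cj (⟨s, hs⟩ * q.out) v := by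
          apply Subtype.ext
          show s * (((q.out : R) : H) * v * ((q.out : R) : H)⁻¹) * s⁻¹ =
            ((⟨s, hs⟩ * q.out : R) : H) * v * ((⟨s, hs⟩ * q.out : R) : H)⁻¹
          rw [Subgroup.coe_mul]; group
        rw [h3]
        apply hrep v hv
        rw [hout]
        conv_rhs => rw [← hout q]
        rfl
      rw [Finset.prod_congr rfl (fun q _ => h2 q)]
      exact Function.Bijective.prod_comp (MulAction.bijective (⟨s, hs⟩ : R))
        (fun q : R ⧸ (T : Subgroup R) => cj q.out v)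
    exact mul_inv_eq_iff_eq_mul.mp (congrArg Subtype.val h1)
  · intro v hv
    rw [hτ]
    have h1 : ∀ q : R ⧸ (T : Subgroup R), cj q.out v = v := by
      intro q
      apply Subtype.ext
      show ((q.out : R) : H) * v * ((q.out : R) : H)⁻¹ = v
      rw [mem_centralizer_iff.mp hv _ q.out.2, mul_inv_cancel_right]
    rw [Finset.prod_congr rfl (fun q _ => h1 q), Finset.prod_const, Finset.card_univ]
  · intro v hv
    have h2 : τ v * (v ^ n)⁻¹ = ∏ q : R ⧸ (T : Subgroup R), (cj q.out v * v⁻¹) := by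
      rw [hτ, Finset.prod_mul_distrib, Finset.prod_const, Finset.card_univ, inv_pow]
    have h3 : τ v * (v ^ n)⁻¹ ∈ (⁅V, R⁆ : Subgroup H).subgroupOf V := by
      rw [h2]
      refine Subgroup.prod_mem _ (fun q _ => ?_)
      show ((q.out : R) : H) * v * ((q.out : R) : H)⁻¹ * (v : H)⁻¹ ∈ ⁅V, R⁆
      rw [commutator_comm]
      exact commutator_mem_commutator q.out.2 v.2
    exact h3
  · intro t htR htP v v' hv hv' htV
    have hv'P : (v' : H) ∈ centralizer (P : Set H) := by
      rw [mem_centralizer_iff]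
      intro x hx
      have h1 : t⁻¹ * x * t ∈ P := by
        have := (mem_normalizer_iff.mp (inv_mem htP) x).mp hx
        rwa [inv_inv] at this
      have h2 : (t⁻¹ * x * t) * v = v * (t⁻¹ * x * t) := mem_centralizer_iff.mp hv _ h1
      rw [hv']
      calc x * (t * v * t⁻¹) = t * ((t⁻¹ * x * t) * v) * t⁻¹ := by group
        _ = t * (v * (t⁻¹ * x * t)) * t⁻¹ := by rw [h2]
        _ = _ := by group
    have htRm : ∀ r : R, t * (r : H) * t⁻¹ ∈ R := fun r => (mem_normalizer_iff.mp htR r).mp r.2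
    let f : R ⧸ (T : Subgroup R) → R ⧸ (T : Subgroup R) := fun q => QuotientGroup.mk ⟨t * (q.out : R) * t⁻¹, htRm _⟩
    have hf : Function.Bijective f := by
      apply Function.Injective.bijective_of_finite
      intro a b hab
      have h1 := QuotientGroup.eq.mp hab
      have h2 : (t * ((a.out : R) : H) * t⁻¹)⁻¹ * (t * ((b.out : R) : H) * t⁻¹) ∈ P := hTP _ h1
      have h3 : t * (((a.out : R) : H)⁻¹ * ((b.out : R) : H)) * t⁻¹ ∈ P := by
        have : t * (((a.out : R) : H)⁻¹ * ((b.out : R) : H)) * t⁻¹ =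
          (t * ((a.out : R) : H) * t⁻¹)⁻¹ * (t * ((b.out : R) : H) * t⁻¹) := by group
        rw [this]; exact h2
      have h4 : ((a.out : R) : H)⁻¹ * ((b.out : R) : H) ∈ P := (mem_normalizer_iff.mp htP _).mpr h3
      rw [← hT] at h4
      obtain ⟨z, hz, e⟩ := h4
      have h5 : (a.out : R)⁻¹ * b.out ∈ (T : Subgroup R) := by
        have : (a.out : R)⁻¹ * b.out = z := Subtype.ext e.symm
        rw [this]; exact hz
      rw [← hout a, ← hout b]
      exact QuotientGroup.eq.mpr h5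
    have h1 : τ v' = ∏ q : R ⧸ (T : Subgroup R), cj ⟨t * (q.out : R) * t⁻¹, htRm _⟩ v' := by
      rw [hτ, ← Function.Bijective.prod_comp hf (fun q : R ⧸ (T : Subgroup R) => cj q.out v')]
      refine Finset.prod_congr rfl (fun q _ => ?_)
      apply hrep v' hv'P
      rw [hout]
    let φ : V →* V :=
      { toFun := fun x => ⟨t * x * t⁻¹, (mem_normalizer_iff.mp htV x).mp x.2⟩
        map_one' := by apply Subtype.ext; show t * 1 * t⁻¹ = 1; group
        map_mul' := by
          intro x y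
          apply Subtype.ext
          show t * ((x : H) * y) * t⁻¹ = (t * x * t⁻¹) * (t * y * t⁻¹)
          group }
    have h2 : φ (τ v) = τ v' := by
      rw [h1, hτ, map_prod]
      refine Finset.prod_congr rfl (fun q _ => ?_)
      apply Subtype.ext
      show t * (((q.out : R) : H) * v * ((q.out : R) : H)⁻¹) * t⁻¹ =
        (t * ((q.out : R) : H) * t⁻¹) * v' * (t * ((q.out : R) : H) * t⁻¹)⁻¹
      rw [hv']; group
    exact (congrArg Subtype.val h2).symm

theorem eq_one_of_coprime [hp : Fact p.Prime] {P : Subgroup H} (hP : IsPGroup p P) {x : H} (hx : x ∈ P)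
    (ho : (orderOf x).Coprime p) : x = 1 := by
  obtain ⟨k, hk⟩ := IsPGroup.iff_orderOf.mp hP ⟨x, hx⟩
  rw [← Subgroup.orderOf_coe] at hk
  change orderOf x = p ^ k at hk
  rw [hk] at ho
  rw [← orderOf_eq_one_iff, hk]
  rcases Nat.eq_zero_or_pos k with rfl | hk0
  · rfl
  · exact absurd ((Nat.coprime_pow_left_iff hk0 _ _).mp ho) (by
      rw [Nat.coprime_self]; exact hp.out.one_lt.ne')

/-- quadratic coprime action on a `p`-group is trivial -/
theorem cent_of_quad [Finite H] [hp : Fact p.Prime] {V : Subgroup H} (hV : IsPGroup p V) {x : H}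
    (hx : x ∈ normalizer (V : Set H)) (ho : (orderOf x).Coprime p) {W : Subgroup H}
    (h1 : ∀ v ∈ V, ⁅v, x⁆ ∈ W) (h2 : ∀ w ∈ W, w * x = x * w) (hn : V ≤ normalizer (W : Set H)) :
    x ∈ centralizer (V : Set H) := by
  rw [mem_centralizer_iff]
  refine coprime_nil hV hx ho (n := 2) ?_
  show ⁅⁅V, zpowers x⁆, zpowers x⁆ = ⊥
  have h3 : ⁅V, zpowers x⁆ ≤ W := by
    have hxW : x ∈ normalizer (W : Set H) := by
      rw [mem_normalizer_iff]
      intro w
      constructor
      · intro hw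
        rwa [← h2 w hw, mul_inv_cancel_right]
      · intro hw
        have h4 := h2 _ hw
        have h5 : w = x * w * x⁻¹ := by
          have h6 : x⁻¹ * (x * w * x⁻¹) * x = x * w * x⁻¹ := by
            calc x⁻¹ * (x * w * x⁻¹) * x = x⁻¹ * ((x * w * x⁻¹) * x) := by group
              _ = x⁻¹ * (x * (x * w * x⁻¹)) := by rw [h4]
              _ = _ := by group
          rw [← h6]; group
        rw [h5]; exact hw
    have hmul : ∀ l m : H, (l ∈ normalizer (W : Set H) ∧ ∀ v ∈ V, ⁅v, l⁆ ∈ W) →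
        (m ∈ normalizer (W : Set H) ∧ ∀ v ∈ V, ⁅v, m⁆ ∈ W) →
        (l * m ∈ normalizer (W : Set H) ∧ ∀ v ∈ V, ⁅v, l * m⁆ ∈ W) := by
      rintro l m ⟨hl, hl'⟩ ⟨hm, hm'⟩
      refine ⟨mul_mem hl hm, fun v hv => ?_⟩
      have e : ⁅v, l * m⁆ = ⁅v, l⁆ * (l * ⁅v, m⁆ * l⁻¹) := by
        simp only [commutatorElement_def]; group
      rw [e]
      exact W.mul_mem (hl' v hv) ((mem_normalizer_iff.mp hl _).mp (hm' v hv))
    have hinv : ∀ l : H, (l ∈ normalizer (W : Set H) ∧ ∀ v ∈ V, ⁅v, l⁆ ∈ W) →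
        (l⁻¹ ∈ normalizer (W : Set H) ∧ ∀ v ∈ V, ⁅v, l⁻¹⁆ ∈ W) := by
      rintro l ⟨hl, hl'⟩
      refine ⟨inv_mem hl, fun v hv => ?_⟩
      have e : ⁅v, l⁻¹⁆ = l⁻¹ * ⁅v, l⁆⁻¹ * l⁻¹⁻¹ := by
        simp only [commutatorElement_def]; group
      rw [e]
      exact (mem_normalizer_iff.mp (inv_mem hl) _).mp (W.inv_mem (hl' v hv))
    let S : Subgroup H :=
      { carrier := {l | l ∈ normalizer (W : Set H) ∧ ∀ v ∈ V, ⁅v, l⁆ ∈ W}
        one_mem' := ⟨Subgroup.one_mem _, fun v _ => by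
          rw [commutatorElement_one_right]; exact W.one_mem⟩
        mul_mem' := fun {l m} hl hm => hmul l m hl hm
        inv_mem' := fun {l} hl => hinv l hl }
    have h4 : zpowers x ≤ S := zpowers_le.mpr ⟨hxW, h1⟩
    rw [commutator_le]
    intro v hv l hl
    exact (h4 hl).2 v hv
  rw [commutator_eq_bot_iff_le_centralizer]
  refine h3.trans ?_
  intro w hw
  rw [mem_centralizer_iff]
  intro z hz
  obtain ⟨n, rfl⟩ := mem_zpowers_iff.mp hz
  exact ((show Commute x w from (h2 w hw).symm).zpow_left n).eq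

/-- characteristic `p` passes to normal subgroups, ambient form -/
theorem char_ambient [Finite H] [hp : Fact p.Prime] {K L : Subgroup H}
    (hK : K ⊓ centralizer (pCoreOf p K : Set H) ≤ pCoreOf p K) (hLK : L ≤ K) (hn : K ≤ normalizer (L : Set H)) :
    L ⊓ centralizer (pCoreOf p L : Set H) ≤ pCoreOf p L := by
  refine POf.le_pCoreOf inf_le_left ?_ ?_
  · apply isPGroup_of_coprime
    rintro x ⟨hxL, hxC⟩ ho
    have hxK := hLK hxL
    have h1 : x ∈ centralizer (pCoreOf p K : Set H) := by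
      refine cent_of_quad pCoreOf_isPGroup (le_normalizer_pCoreOf hxK) ho (W := pCoreOf p K ⊓ L) ?_ ?_ ?_
      · intro v hv
        have hvK : v ∈ K := POf.pCoreOf_le hv
        constructor
        · have : ⁅v, x⁆ = v * (x * v⁻¹ * x⁻¹) := by rw [commutatorElement_def]; group
          rw [this]
          exact Subgroup.mul_mem _ hv ((mem_normalizer_iff.mp (le_normalizer_pCoreOf hxK) _).mp (Subgroup.inv_mem _ hv))
        · have : ⁅v, x⁆ = (v * x * v⁻¹) * x⁻¹ := by rw [commutatorElement_def]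
          rw [this]
          exact L.mul_mem ((mem_normalizer_iff.mp (hn hvK) _).mp hxL) (L.inv_mem hxL)
      · intro w hw
        have h2 : w ∈ pCoreOf p L := by
          refine POf.le_pCoreOf (Q := pCoreOf p K ⊓ L) inf_le_right (pCoreOf_isPGroup.to_le inf_le_left) ?_ hw
          intro y hy
          rw [mem_normalizer_conj, conj_inf, conj_of_mem hy, mem_normalizer_conj.mp (le_normalizer_pCoreOf (hLK hy))]
        exact mem_centralizer_iff.mp hxC w h2
      · intro y hy
        have hyK : y ∈ K := POf.pCoreOf_le hy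
        rw [mem_normalizer_conj, conj_inf, mem_normalizer_conj.mp (hn hyK), conj_of_mem hy]
    exact eq_one_of_coprime pCoreOf_isPGroup (hK ⟨hxK, h1⟩) ho
  · intro y hy
    rw [mem_normalizer_conj, conj_inf, conj_of_mem hy, centralizer_conj,
      mem_normalizer_conj.mp (le_normalizer_pCoreOf hy)]

theorem exists_fixed [Finite H] [hp : Fact p.Prime] {P K : Subgroup H} (hP : IsPGroup p P) (hKP : K ≤ P)
    (hn : P ≤ normalizer (K : Set H)) (hK : K ≠ ⊥) : ∃ v ∈ K, v ≠ 1 ∧ v ∈ centralizer (P : Set H) := by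
  haveI := hP.isNilpotent
  haveI : (K.subgroupOf P).Normal := (normal_subgroupOf_iff_le_normalizer hKP).mpr hn
  have h1 : K.subgroupOf P ≠ ⊥ := by
    intro h
    apply hK
    have h2 := congrArg (Subgroup.map P.subtype) h
    rwa [subgroupOf_map_subtype, inf_eq_left.mpr hKP, Subgroup.map_bot] at h2
  have h2 := Nilp.normal_inf_center_ne_bot (K.subgroupOf P) h1
  obtain ⟨v', hv'⟩ := ne_bot_iff_exists_ne_one.mp h2
  obtain ⟨v, hv, hv1⟩ : ∃ v : P, v ∈ K.subgroupOf P ⊓ center P ∧ v ≠ 1 := ⟨v', v'.2, fun h => hv' (Subtype.ext h)⟩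
  refine ⟨v, hv.1, fun h => hv1 (Subtype.ext h), ?_⟩
  rw [mem_centralizer_iff]
  intro y hy
  exact congrArg Subtype.val (mem_center_iff.mp hv.2 ⟨y, hy⟩)

theorem coprime_pow_mem_cent [hp : Fact p.Prime] {x : H} {n k : ℕ} (hn : n.Coprime p) (hx : x ^ (p ^ k) = 1) {C : Subgroup H}
    (h : x ^ n ∈ C) : x ∈ C := by
  have h1 : n.Coprime (orderOf x) := by
    obtain ⟨j, _, hj⟩ := (Nat.dvd_prime_pow hp.out).mp (orderOf_dvd_of_pow_eq_one hx)
    rw [hj]; exact Nat.Coprime.pow_right _ hn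
  obtain ⟨m, hm⟩ := exists_pow_eq_self_of_coprime h1
  rw [← hm]; exact C.pow_mem h m

/-- Kieler's lemma for a normal subgroup -/
theorem kieler_normal [Finite H] [hp : Fact p.Prime] {K L P : Subgroup H}
    (hK : K ⊓ centralizer (pCoreOf p K : Set H) ≤ pCoreOf p K) (hLK : L ≤ K) (hn : K ≤ normalizer (L : Set H))
    (hP : Syl p K P) :
    L ⊓ centralizer (zc p P : Set H) = L ⊓ centralizer (zc p (P ⊓ L) : Set H) := by
  have hL := char_ambient hK hLK hn
  have hPK := hP.le
  have hPL : Syl p L (P ⊓ L) := syl_inf' hP L hLK hn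
  have hPn : P ≤ normalizer (L : Set H) := hPK.trans hn
  have hPPL : P ≤ normalizer ((P ⊓ L : Subgroup H) : Set H) := by
    intro x hx
    rw [mem_normalizer_conj, conj_inf, conj_of_mem hx, mem_normalizer_conj.mp (hPn hx)]
  have hAZ : ∀ (D : Subgroup H), Syl p L D → zc p D ≤ zc p (pCoreOf p L) := by
    intro D hD x hx
    refine mem_zc (hD.zc_le_pCoreOf (charP_of_inf hL) hx) ?_ ((el_zc p D).2 x hx)
    exact centralizer_le hD.pCoreOf_le (zc_le_cent p D hx)
  apply le_antisymm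
  · -- `Y = C_L(Ω₁Z(P))` centralises `Ω₁ Z(P ∩ L)`
    set Y := L ⊓ centralizer (zc p P : Set H) with hY
    refine le_inf inf_le_left ?_
    have hPLY : P ⊓ L ≤ Y := le_inf inf_le_right (inf_le_left.trans (by
      rw [le_centralizer_iff]; exact zc_le_cent p P))
    have hYs : Syl p Y (P ⊓ L) := hPL.of_le hPLY inf_le_left
    set D := zc p (pCoreOf p L) with hD
    have hDe := el_iff.mp (el_zc p (pCoreOf p L))
    have hLD : L ≤ normalizer (D : Set H) := by
      intro x hx
      rw [mem_normalizer_conj, hD, zc_conj, mem_normalizer_conj.mp (le_normalizer_pCoreOf hx)]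
    have hPD : P ≤ normalizer (D : Set H) := by
      intro x hx
      rw [mem_normalizer_conj, hD, zc_conj, ← pCoreOf_conj, mem_normalizer_conj.mp (hPn hx)]
    have hPY : P ≤ normalizer (Y : Set H) := by
      intro x hx
      rw [mem_normalizer_conj, hY, conj_inf, centralizer_conj, zc_conj, conj_of_mem hx, mem_normalizer_conj.mp (hPn hx)]
    obtain ⟨τ, n, hn', h1, h2, _, h4⟩ := exists_trace hDe.1 (inf_le_left.trans hLD : Y ≤ normalizer (D : Set H)) hYs
    have hDpow : ∀ v : D, (v : H) ^ (p ^ 1) = 1 := fun v => by rw [pow_one]; exact hDe.2 v v.2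
    -- the kernel
    let Kr : Subgroup H :=
      { carrier := {v | ∃ h : v ∈ D, v ∈ centralizer ((P ⊓ L : Subgroup H) : Set H) ∧ τ ⟨v, h⟩ = 1}
        one_mem' := ⟨D.one_mem, Subgroup.one_mem _, map_one τ⟩
        mul_mem' := by
          rintro a b ⟨ha, ha1, ha2⟩ ⟨hb, hb1, hb2⟩
          exact ⟨D.mul_mem ha hb, Subgroup.mul_mem _ ha1 hb1, by
            rw [show (⟨a * b, D.mul_mem ha hb⟩ : D) = ⟨a, ha⟩ * ⟨b, hb⟩ from rfl, map_mul, ha2, hb2, mul_one]⟩
        inv_mem' := by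
          rintro a ⟨ha, ha1, ha2⟩
          exact ⟨D.inv_mem ha, Subgroup.inv_mem _ ha1, by
            rw [show (⟨a⁻¹, D.inv_mem ha⟩ : D) = (⟨a, ha⟩)⁻¹ from rfl, map_inv, ha2, inv_one]⟩ }
    have hKrD : Kr ≤ D := fun v hv => hv.1
    have hDP : D ≤ P := by
      refine (zc_le p _).trans (hPL.pCoreOf_le.trans inf_le_left)
    have hKr : Kr = ⊥ := by
      by_contra hc
      obtain ⟨v, ⟨hvD, hvC, hv1⟩, hvne, hvP⟩ := exists_fixed hP.isPGroup (hKrD.trans hDP) (by
        apply le_normalizer_of_conj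
        rintro x hx _ ⟨v, ⟨hvD, hvC, hv1⟩, rfl⟩
        have hxv : x * v * x⁻¹ ∈ D := (mem_normalizer_iff.mp (hPD hx) v).mp hvD
        refine ⟨hxv, ?_, ?_⟩
        · have h5 : x * v * x⁻¹ ∈ (centralizer ((P ⊓ L : Subgroup H) : Set H)).map (MulAut.conj x).toMonoidHom := ⟨v, hvC, rfl⟩
          rw [centralizer_conj, mem_normalizer_conj.mp (hPPL hx)] at h5
          exact h5
        · apply Subtype.ext
          have h5 := h4 x (hPY hx) (hPPL hx) ⟨v, hvD⟩ ⟨x * v * x⁻¹, hxv⟩ hvC rfl (hPD hx)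
          show ((τ ⟨x * v * x⁻¹, hxv⟩ : D) : H) = 1
          rw [h5, hv1]
          show x * 1 * x⁻¹ = 1
          group) hc
      have hvA : v ∈ zc p P := mem_zc (hDP hvD) hvP (hDe.2 v hvD)
      have hvY : v ∈ centralizer (Y : Set H) := (le_centralizer_iff.mp (inf_le_right : Y ≤ _)) hvA
      have h5 := h2 ⟨v, hvD⟩ hvY
      rw [hv1] at h5
      have h6 : v ^ n = 1 := (congrArg Subtype.val h5).symm
      apply hvne
      have h7 : v ∈ (⊥ : Subgroup H) := coprime_pow_mem_cent hn' (hDpow ⟨v, hvD⟩) (by rw [h6]; exact one_mem _)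
      exact mem_bot.mp h7
    rw [le_centralizer_iff]
    intro v hv
    have hvD : v ∈ D := hAZ _ hPL hv
    have hvC : v ∈ centralizer ((P ⊓ L : Subgroup H) : Set H) := zc_le_cent p _ hv
    have hc := h1 ⟨v, hvD⟩ hvC
    set c := τ ⟨v, hvD⟩ with hcdef
    have h5 : ((⟨v, hvD⟩ : D) ^ n * c⁻¹ : D) ∈ (Kr.subgroupOf D) := by
      refine ⟨((⟨v, hvD⟩ : D) ^ n * c⁻¹ : D).2, ?_, ?_⟩
      · refine Subgroup.mul_mem _ (Subgroup.pow_mem _ hvC n) (Subgroup.inv_mem _ ?_)
        exact centralizer_le hPLY hc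
      · show τ (⟨v, hvD⟩ ^ n * c⁻¹) = 1
        rw [map_mul, map_pow, map_inv, ← hcdef, h2 c hc, mul_inv_cancel]
    rw [hKr, bot_subgroupOf, mem_bot, mul_inv_eq_one] at h5
    have h6 : v ^ n = (c : H) := congrArg Subtype.val h5
    exact coprime_pow_mem_cent hn' (hDpow ⟨v, hvD⟩) (by rw [h6]; exact hc)
  · -- `X = C_L(Ω₁Z(P ∩ L))` centralises `Ω₁ Z(P)`
    set X := L ⊓ centralizer (zc p (P ⊓ L) : Set H) with hX
    refine le_inf inf_le_left ?_
    have hPLX : P ⊓ L ≤ X := le_inf inf_le_right (by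
      rw [le_centralizer_iff]; exact zc_le_cent p _)
    have hXs : Syl p X (P ⊓ L) := hPL.of_le hPLX inf_le_left
    set D := zc p (pCoreOf p K) with hD
    have hDe := el_iff.mp (el_zc p (pCoreOf p K))
    have hKD : K ≤ normalizer (D : Set H) := by
      intro x hx
      rw [mem_normalizer_conj, hD, zc_conj, mem_normalizer_conj.mp (le_normalizer_pCoreOf hx)]
    obtain ⟨τ, n, hn', h1, h2, h3, _⟩ := exists_trace hDe.1 ((inf_le_left.trans hLK).trans hKD : X ≤ normalizer (D : Set H)) hXs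
    have hDpow : ∀ v : D, (v : H) ^ (p ^ 1) = 1 := fun v => by rw [pow_one]; exact hDe.2 v v.2
    rw [le_centralizer_iff]
    intro a ha
    have haD : a ∈ D := by
      refine mem_zc (hP.zc_le_pCoreOf (charP_of_inf hK) ha) ?_ ((el_zc p P).2 a ha)
      exact centralizer_le hP.pCoreOf_le (zc_le_cent p P ha)
    have haC : a ∈ centralizer ((P ⊓ L : Subgroup H) : Set H) := centralizer_le inf_le_left (zc_le_cent p P ha)
    have hc := h1 ⟨a, haD⟩ haC
    have hw := h3 ⟨a, haD⟩ haC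
    set c := τ ⟨a, haD⟩ with hcdef
    set w : D := c * ((⟨a, haD⟩ : D) ^ n)⁻¹ with hw'
    have hwP : (w : H) ∈ P ⊓ L := by
      constructor
      · exact hP.pCoreOf_le ((zc_le p _) w.2)
      · have h5 : ⁅D, X⁆ ≤ L := by
          rw [commutator_le]
          intro d hd x hx
          have hdK : d ∈ K := POf.pCoreOf_le (zc_le p _ hd)
          exact L.mul_mem ((mem_normalizer_iff.mp (hn hdK) _).mp hx.1) (L.inv_mem hx.1)
        exact h5 hw
    have hwC : (w : H) ∈ centralizer ((P ⊓ L : Subgroup H) : Set H) := by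
      refine Subgroup.mul_mem _ (centralizer_le hPLX hc) (Subgroup.inv_mem _ ?_)
      exact Subgroup.pow_mem _ haC n
    have hwZ : (w : H) ∈ zc p (P ⊓ L) := mem_zc hwP hwC (hDe.2 w w.2)
    have hwX : (w : H) ∈ centralizer (X : Set H) := (le_centralizer_iff.mp (inf_le_right : X ≤ _)) hwZ
    have h6 : a ^ n = (w : H)⁻¹ * (c : H) := by
      have : (w : H) = (c : H) * (a ^ n)⁻¹ := rfl
      rw [this]; group
    refine coprime_pow_mem_cent hn' (hDpow ⟨a, haD⟩) ?_
    rw [h6]
    exact Subgroup.mul_mem _ (Subgroup.inv_mem _ hwX) hc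

end Cfsg.Agent.Lib.PRed
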