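import Cfsg.Agent.Lib.PRedC

/-!
# Kieler's lemma, subnormal subgroups and `p`-reduced normal subgroups
-/

set_option autoImplicit false

namespace Cfsg.Agent.Lib.PRed

open Subgroup POf PIrr WClos
open scoped commutatorElement

variable {H : Type*} [Group H] {p : ℕ}

theorem pCoreOf_top [Finite H] : pCoreOf p (⊤ : Subgroup H) = pCore p H := by
  haveI hpn : (pCore p H).Normal := Cores.pCore_normal p
  apply le_antisymm
  · refine Cores.le_pCore ?_ pCoreOf_isPGroup
    rw [← normalizer_eq_top_iff, eq_top_iff]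
    exact le_normalizer_pCoreOf
  · exact POf.le_pCoreOf le_top (Cores.pCore_isPGroup p) (fun x _ => norm_top _ x)

/-- Kieler's lemma -/
theorem kieler [Finite H] [hp : Fact p.Prime] (hH : centralizer (pCore p H : Set H) ≤ pCore p H) (T : Sylow p H)
    {L : Subgroup H} (hL : L.IsSubnormal) :
    L ⊓ centralizer (zc p (T : Subgroup H) : Set H) = L ⊓ centralizer (zc p ((T : Subgroup H) ⊓ L) : Set H) ∧
      L ⊓ centralizer (pCoreOf p L : Set H) ≤ pCoreOf p L ∧ Syl p L ((T : Subgroup H) ⊓ L) := by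
  induction hL with
  | top =>
    refine ⟨by rw [inf_top_eq], ?_, ?_⟩
    · rw [pCoreOf_top]
      exact inf_le_right.trans hH
    · rw [inf_top_eq]; exact sylow_syl T le_top
  | step L K hLK _ hN ih =>
    obtain ⟨h1, h2, h3⟩ := ih
    have hn : K ≤ normalizer (L : Set H) := (normal_subgroupOf_iff_le_normalizer hLK).mp hN
    have h4 := kieler_normal h2 hLK hn h3
    have e : (T : Subgroup H) ⊓ K ⊓ L = (T : Subgroup H) ⊓ L := by
      rw [inf_assoc, inf_eq_right.mpr hLK]
    rw [e] at h4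
    refine ⟨?_, char_ambient h2 hLK hn, ?_⟩
    · calc L ⊓ centralizer (zc p (T : Subgroup H) : Set H)
          = L ⊓ (K ⊓ centralizer (zc p (T : Subgroup H) : Set H)) := by rw [← inf_assoc, inf_eq_left.mpr hLK]
        _ = L ⊓ (K ⊓ centralizer (zc p ((T : Subgroup H) ⊓ K) : Set H)) := by rw [h1]
        _ = L ⊓ centralizer (zc p ((T : Subgroup H) ⊓ K) : Set H) := by rw [← inf_assoc, inf_eq_left.mpr hLK]
        _ = _ := h4
    · have := syl_inf' h3 L hLK hn
      rwa [e] at this

/-- S2826 -/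
theorem s2826 [Finite H] [hp : Fact p.Prime] (T : Sylow p H) (V : Subgroup H) [V.Normal]
    (hV : IsElementaryAbelian p V)
    (hZV : (omegaOne p ((T : Subgroup H) ⊓ centralizer (((T : Subgroup H) : Subgroup H) : Set H))) ≤ V) :
    centralizer ((omegaOne p ((T : Subgroup H) ⊓ centralizer (((T : Subgroup H) : Subgroup H) : Set H))) : Set H) =
      centralizer (((⁅V, pResidual p H⁆ ⊓ (omegaOne p ((T : Subgroup H) ⊓
        centralizer (((T : Subgroup H) : Subgroup H) : Set H)))) : Subgroup H) : Set H) := by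
  change centralizer (zc p (T : Subgroup H) : Set H) =
    centralizer ((⁅V, pResidual p H⁆ ⊓ zc p (T : Subgroup H) : Subgroup H) : Set H)
  apply le_antisymm (centralizer_le inf_le_right)
  haveI hRn : (pResidual p H).Normal := Resid.pResidual_normal p
  set R := pResidual p H with hR
  have hVe := el_iff.mp hV
  have hVT : V ≤ (T : Subgroup H) := (Cores.le_pCore inferInstance (el_isPGroup hV)).trans (Cores.pCore_le_sylow T)
  have hPs : Syl p R ((T : Subgroup H) ⊓ R) := syl_inf R T (fun x _ => norm_top R x)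
  obtain ⟨τ, n, hn', h1, h2, h3, h4⟩ := exists_trace hVe.1 (fun x _ => norm_top V x : R ≤ normalizer (V : Set H)) hPs
  intro x hx
  rw [mem_centralizer_iff]
  intro a ha
  have haV : a ∈ V := hZV ha
  have haT : a ∈ centralizer ((T : Subgroup H) : Set H) := zc_le_cent p _ ha
  have haC : a ∈ centralizer (((T : Subgroup H) ⊓ R : Subgroup H) : Set H) := centralizer_le inf_le_left haT
  have hc := h1 ⟨a, haV⟩ haC
  have hw := h3 ⟨a, haV⟩ haC
  set c := τ ⟨a, haV⟩ with hcdef
  have hcT : ∀ t ∈ (T : Subgroup H), t * (c : H) * t⁻¹ = c := by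
    intro t ht
    have h5 := h4 t (norm_top R t) (by
      rw [mem_normalizer_conj, conj_inf, conj_of_mem ht, mem_normalizer_conj.mp (norm_top R t)]) ⟨a, haV⟩ ⟨a, haV⟩ haC
      (by show a = t * a * t⁻¹; rw [mem_centralizer_iff.mp haT t ht, mul_inv_cancel_right]) (norm_top V t)
    exact h5.symm
  have hcTc : (c : H) ∈ centralizer ((T : Subgroup H) : Set H) := by
    rw [mem_centralizer_iff]
    intro t ht
    exact mul_inv_eq_iff_eq_mul.mp (hcT t ht)
  have hcen : (⊤ : Subgroup H) ≤ centralizer {(c : H)} := by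
    rw [← Resid.sylow_sup_pResidual T]
    refine sup_le ?_ ?_
    · intro t ht
      exact mem_centralizer_singleton_iff.mpr (mem_centralizer_iff.mp hcTc t ht)
    · intro t ht
      exact mem_centralizer_singleton_iff.mpr (mem_centralizer_iff.mp hc t ht)
  have hxc : x * c = c * x := mem_centralizer_singleton_iff.mp (hcen (mem_top x))
  have hwZ : ((c * ((⟨a, haV⟩ : V) ^ n)⁻¹ : V) : H) ∈ zc p (T : Subgroup H) := by
    refine mem_zc (hVT (c * ((⟨a, haV⟩ : V) ^ n)⁻¹ : V).2) ?_ (hVe.2 _ (c * ((⟨a, haV⟩ : V) ^ n)⁻¹ : V).2)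
    exact Subgroup.mul_mem _ hcTc (Subgroup.inv_mem _ (Subgroup.pow_mem _ haT n))
  have hxw : Commute x ((c : H) * (a ^ n)⁻¹) := (mem_centralizer_iff.mp hx _ ⟨hw, hwZ⟩).symm
  have h6 : Commute x (a ^ n) := by
    have h7 : a ^ n = ((c : H) * (a ^ n)⁻¹)⁻¹ * c := by group
    rw [h7]
    exact hxw.inv_right.mul_right hxc
  have h8 : a ∈ centralizer {x} := by
    refine coprime_pow_mem_cent hn' (k := 1) (by rw [pow_one]; exact hVe.2 a haV) ?_
    rw [mem_centralizer_singleton_iff]
    exact h6.symm.eq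
  exact mem_centralizer_singleton_iff.mp h8

/-! ### subnormal subgroups -/

theorem red_subn [Finite H] {V : Subgroup H} (hV : IsPReducedNormal p V) {N : Subgroup H} (hN : N.IsSubnormal)
    (hx : ∀ x ∈ N, ∃ k : ℕ, x ^ (p ^ k) ∈ centralizer (V : Set H)) : N ≤ centralizer (V : Set H) := by
  obtain ⟨_, _, hC, hO⟩ := hV
  have h1 : (N.map (QuotientGroup.mk' (centralizer (V : Set H)))).IsSubnormal :=
    IsSubnormal.map (QuotientGroup.mk'_surjective _) hN
  have h2 : IsPGroup p (N.map (QuotientGroup.mk' (centralizer (V : Set H)))) := by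
    rintro ⟨_, x, hxN, rfl⟩
    obtain ⟨k, hk⟩ := hx x hxN
    refine ⟨k, Subtype.ext ?_⟩
    show (QuotientGroup.mk' _ x) ^ (p ^ k) = 1
    rw [← map_pow]
    exact (QuotientGroup.eq_one_iff _).mpr hk
  have h3 := PComp.subnormal_le_pCore h1 h2
  rw [hO] at h3
  intro x hxN
  have h4 : QuotientGroup.mk' (centralizer (V : Set H)) x ∈ (⊥ : Subgroup _) := h3 ⟨x, hxN, rfl⟩
  exact (QuotientGroup.eq_one_iff _).mp (mem_bot.mp h4)

/-- the `p'`-part -/
theorem exists_coprime_pow [Finite H] [hp : Fact p.Prime] (x : H) : ∃ a : ℕ, (orderOf (x ^ (p ^ a))).Coprime p := by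
  obtain ⟨a, m, hm, hd⟩ := Nat.exists_eq_pow_mul_and_not_dvd (n := orderOf x) (p := p)
    (orderOf_pos x).ne' (Fact.out : p.Prime).ne_one
  refine ⟨a, ?_⟩
  have h1 : (x ^ (p ^ a)) ^ m = 1 := by rw [← pow_mul, ← hd, pow_orderOf_eq_one]
  exact Nat.Coprime.coprime_dvd_left (orderOf_dvd_of_pow_eq_one h1) ((Nat.Prime.coprime_iff_not_dvd hp.out).mpr hm).symm

theorem key [Finite H] [hp : Fact p.Prime] {V : Subgroup H} (hV : IsPReducedNormal p V) {N : Subgroup H}
    (hN : N.IsSubnormal) {W : Subgroup H} (hVW : V ≤ normalizer (W : Set H))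
    (hcomm : ∀ v ∈ V, ∀ y ∈ N, (orderOf y).Coprime p → ⁅v, y⁆ ∈ W)
    (hx : ∀ x ∈ N, ∃ k : ℕ, x ^ (p ^ k) ∈ centralizer (W : Set H)) : N ≤ centralizer (V : Set H) := by
  apply red_subn hV hN
  intro x hxN
  obtain ⟨a, ha⟩ := exists_coprime_pow (p := p) x
  refine ⟨a, ?_⟩
  have hy : x ^ (p ^ a) ∈ N := N.pow_mem hxN _
  obtain ⟨k, hk⟩ := hx _ hy
  have h1 : x ^ (p ^ a) ∈ centralizer (W : Set H) := mem_of_pow ha hk
  haveI := hV.1
  exact cent_of_quad (el_isPGroup hV.2.1) (norm_top V _) ha (fun v hv => hcomm v hv _ hy ha)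
    (fun w hw => mem_centralizer_iff.mp h1 w hw) hVW

theorem res_idem (K : Subgroup H) :
    (pResidual p ↥((pResidual p K).map K.subtype)).map ((pResidual p K).map K.subtype).subtype =
      (pResidual p K).map K.subtype := by
  apply le_antisymm (map_subtype_le _)
  rw [res_le_iff]
  intro x hx ho
  exact mem_res (mem_res hx ho) ho

theorem res_isSubnormal {K : Subgroup H} (hK : K.IsSubnormal) : ((pResidual p K).map K.subtype).IsSubnormal :=
  IsSubnormal.step _ K (res_le p K) hK ((normal_subgroupOf_iff_le_normalizer (res_le p K)).mpr (le_normalizer_res p K))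

theorem V_le_normalizer_res [Finite H] [hp : Fact p.Prime] {V K : Subgroup H} (hV : V.Normal) (hVp : IsPGroup p V)
    (hK : K.IsSubnormal) : V ≤ normalizer ((pResidual p K).map K.subtype : Set H) := by
  refine (subnormal_res V _ ?_ (res_isSubnormal hK) hVp (res_idem K)).1
  exact IsSubnormal.step _ ⊤ le_top IsSubnormal.top (by infer_instance)

theorem sub_of_normal {N K : Subgroup H} (hN : N ≤ K) (hn : K ≤ normalizer (N : Set H)) (hK : K.IsSubnormal) :
    N.IsSubnormal := IsSubnormal.step _ K hN hK ((normal_subgroupOf_iff_le_normalizer hN).mpr hn)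

/-- S2804 -/
theorem s2804 [Finite H] [hp : Fact p.Prime] (V : Subgroup H) (hV : IsPReducedNormal p V) (K : Subgroup H)
    (hK : K.IsSubnormal) :
    ⁅V, (pResidual p ↥K).map K.subtype⁆ ≤ K ∧
      IsPReducedNormal p ((⁅V, (pResidual p ↥K).map K.subtype⁆).subgroupOf K) := by
  set R := (pResidual p ↥K).map K.subtype with hR
  have hVn := hV.1
  have hRK : R ≤ K := res_le p K
  have hVR : V ≤ normalizer (R : Set H) := V_le_normalizer_res hVn (el_isPGroup hV.2.1) hK
  have h1 : ⁅V, R⁆ ≤ R := by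
    rw [commutator_comm]
    exact Coprime.commutator_le_of_normalizes hVR
  have h2 : ⁅V, R⁆ ≤ V := commutator_le_left V R
  refine ⟨h1.trans hRK, ?_⟩
  rw [← red_iff (h1.trans hRK)]
  have hKW : K ≤ normalizer ((⁅V, R⁆ : Subgroup H) : Set H) := by
    intro x hx
    rw [mem_normalizer_conj, map_commutator, mem_normalizer_conj.mp (norm_top V x),
      mem_normalizer_conj.mp (le_normalizer_res p K hx)]
  refine ⟨h1.trans hRK, hKW, el_mono h2 hV.2.1, ?_⟩
  intro N hNK hKN hx
  refine le_trans ?_ (centralizer_le h2)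
  refine key hV (sub_of_normal hNK hKN hK) (Coprime.le_normalizer_commutator_left R V) ?_ hx
  intro v hv y hy ho
  exact commutator_mem_commutator hv (mem_res (hNK hy) ho)

end Cfsg.Agent.Lib.PRed
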