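import Cfsg.Agent.Lib.PRedD

/-!
# subnormal subgroups and the largest `p`-reduced normal subgroup; subnormal closure
-/

set_option autoImplicit false

namespace Cfsg.Agent.Lib.PRed

open Subgroup POf PIrr WClos
open scoped commutatorElement

variable {H : Type*} [Group H] {p : ℕ}

/-- a form of Thompson's `P × Q` lemma: `P` and `Q` commute only modulo the kernel -/
theorem PxQ' [Finite H] [Fact p.Prime] {P Q : Subgroup H} (hP : IsPGroup p P)
    (hQ : (Nat.card Q).Coprime p) (n : ℕ) :
    ∀ U : Subgroup H, Nat.card U ≤ n → IsPGroup p U → P ≤ normalizer (U : Set H) →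
      Q ≤ normalizer (U : Set H) → ⁅P, Q⁆ ≤ centralizer (U : Set H) → U ⊓ centralizer (P : Set H) ≤ centralizer (Q : Set H) →
      ⁅U, Q⁆ = ⊥ := by
  induction n with
  | zero => intro U h; exact absurd h (by have := Nat.card_pos (α := U); omega)
  | succ n ih =>
    intro U hcard hU hPU hQU hPQ hC
    have hcop := CoprimeB.card_coprime_of_isPGroup hQ hU
    have hs := CoprimeB.isSolvable_of_isPGroup hU
    -- `P` normalises `[U,Q]` and `Q` normalises `[U,P]`
    have hnorm : ∀ A B : Subgroup H, A ≤ normalizer (U : Set H) → B ≤ normalizer (U : Set H) →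
        ⁅A, B⁆ ≤ centralizer (U : Set H) → A ≤ normalizer ((⁅U, B⁆ : Subgroup H) : Set H) := by
      intro A B hA hB hAB
      have hUB : ⁅U, B⁆ ≤ U := Coprime.commutator_le_of_normalizes hB
      apply le_normalizer_of_conj
      intro a ha
      rw [map_le_iff_le_comap, commutator_le]
      intro u hu b hb
      show a * ⁅u, b⁆ * a⁻¹ ∈ ⁅U, B⁆
      have hu' : a * u * a⁻¹ ∈ U := (mem_normalizer_iff.mp (hA ha) u).mp hu
      have hc : ⁅a, b⁆ ∈ centralizer (U : Set H) := hAB (commutator_mem_commutator ha hb)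
      have hk : ⁅a * u * a⁻¹, b⁆ ∈ ⁅U, B⁆ := commutator_mem_commutator hu' hb
      have e1 : a * ⁅u, b⁆ * a⁻¹ = ⁅a * u * a⁻¹, ⁅a, b⁆ * b⁆ := by
        simp only [commutatorElement_def]; group
      have h1 : (a * u * a⁻¹) * ⁅a, b⁆ = ⁅a, b⁆ * (a * u * a⁻¹) := mem_centralizer_iff.mp hc _ hu'
      have h2 : ⁅a * u * a⁻¹, b⁆ * ⁅a, b⁆ = ⁅a, b⁆ * ⁅a * u * a⁻¹, b⁆ := mem_centralizer_iff.mp hc _ (hUB hk)
      have e2 : ⁅a * u * a⁻¹, ⁅a, b⁆ * b⁆ = ⁅a * u * a⁻¹, b⁆ := by
        set w := a * u * a⁻¹ with hw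
        set c := ⁅a, b⁆ with hc'
        calc ⁅w, c * b⁆ = (w * c) * b * w⁻¹ * b⁻¹ * c⁻¹ := by rw [commutatorElement_def]; group
          _ = (c * w) * b * w⁻¹ * b⁻¹ * c⁻¹ := by rw [h1]
          _ = (c * ⁅w, b⁆) * c⁻¹ := by rw [commutatorElement_def]; group
          _ = (⁅w, b⁆ * c) * c⁻¹ := by rw [h2]
          _ = ⁅w, b⁆ := by group
      rw [e1, e2]
      exact hk
    by_cases hU0 : U = ⊥
    · rw [hU0]; exact commutator_bot_left _
    have step : ∀ U' : Subgroup H, U' < U → P ≤ normalizer (U' : Set H) →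
        Q ≤ normalizer (U' : Set H) → ⁅U', Q⁆ = ⊥ := by
      intro U' hlt h1 h2
      have h3 := Basic.card_lt_card_of_lt hlt
      exact ih U' (by omega) (hU.to_le hlt.le) h1 h2 (hPQ.trans (centralizer_le hlt.le)) ((inf_le_inf_right _ hlt.le).trans hC)
    have hQP : ⁅Q, P⁆ ≤ centralizer (U : Set H) := by rw [commutator_comm]; exact hPQ
    rcases (Coprime.commutator_le_of_normalizes hQU).lt_or_eq with hlt | heq
    · have h1 := step ⁅U, Q⁆ hlt (hnorm P Q hPU hQU hPQ) (Coprime.le_normalizer_commutator_right Q U)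
      rw [Coprime.commutator_commutator_eq hQU hcop (Or.inr hs)] at h1
      exact h1
    · have hlt := CoprimeB.commutator_lt_of_pgroup hU hP hPU hU0
      have h1 := step ⁅U, P⁆ hlt (Coprime.le_normalizer_commutator_right P U) (hnorm Q P hQU hPU hQP)
      have h2 : ⁅⁅P, Q⁆, U⁆ = ⊥ := commutator_eq_bot_iff_le_centralizer.mpr hPQ
      have h3 := CoprimeB.three_subgroups h1 h2
      rw [commutator_comm Q U, heq, commutator_comm] at h3
      have h4 : U ≤ centralizer (P : Set H) := by
        rw [le_centralizer_iff]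
        exact commutator_eq_bot_iff_le_centralizer.mp h3
      rw [commutator_eq_bot_iff_le_centralizer]
      exact (le_inf le_rfl h4).trans hC

theorem Red.conj {L V : Subgroup H} (h : Red p L V) (x : H) :
    Red p (L.map (MulAut.conj x).toMonoidHom) (V.map (MulAut.conj x).toMonoidHom) := by
  obtain ⟨h1, h2, h3, h4⟩ := h
  refine ⟨conj_mono h1 x, conj_normalizer h2 x, el_conj h3 x, ?_⟩
  intro N hNL hLN hx
  rw [← conj_inv_conj L x] at h4
  have h5 := h4 (N.map (MulAut.conj x⁻¹).toMonoidHom) (conj_mono hNL x⁻¹) (conj_normalizer hLN x⁻¹) (by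
    rintro _ ⟨y, hy, rfl⟩
    obtain ⟨k, hk⟩ := hx y hy
    refine ⟨k, ?_⟩
    rw [← map_pow]
    have h6 : (MulAut.conj x⁻¹).toMonoidHom (y ^ (p ^ k)) ∈
        (centralizer ((V.map (MulAut.conj x).toMonoidHom : Subgroup H) : Set H)).map (MulAut.conj x⁻¹).toMonoidHom :=
      ⟨_, hk, rfl⟩
    rw [centralizer_conj, conj_inv_conj] at h6
    exact h6)
  have h6 := conj_mono h5 x
  rwa [conj_conj_inv, centralizer_conj] at h6

theorem largestOf_conj (L : Subgroup H) (x : H) :
    (largestPReducedOf p L).map (MulAut.conj x).toMonoidHom = largestPReducedOf p (L.map (MulAut.conj x).toMonoidHom) := by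
  have h1 : ∀ (L : Subgroup H) (x : H), (largestPReducedOf p L).map (MulAut.conj x).toMonoidHom ≤
      largestPReducedOf p (L.map (MulAut.conj x).toMonoidHom) := fun L x => ((red_largest p L).conj x).le_largestOf
  apply le_antisymm (h1 L x)
  have h2 := conj_mono (h1 (L.map (MulAut.conj x).toMonoidHom) x⁻¹) x
  rwa [conj_inv_conj, conj_conj_inv] at h2

/-- the step for a normal subgroup -/
theorem step_normal [Finite H] [hp : Fact p.Prime] {K L : Subgroup H} (hLK : L ≤ K) (hn : K ≤ normalizer (L : Set H)) :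
    L ⊓ centralizer (largestPReducedOf p K : Set H) ≤ centralizer (largestPReducedOf p L : Set H) := by
  classical
  let S : Set (Subgroup H) := {X | Red p L X ∧ K ≤ normalizer (X : Set H) ∧
    L ⊓ centralizer (X : Set H) ≤ centralizer (largestPReducedOf p L : Set H)}
  have hS : S.Nonempty := ⟨largestPReducedOf p L, red_largest p L, by
    intro x hx
    rw [mem_normalizer_conj, largestOf_conj, mem_normalizer_conj.mp (hn hx)], inf_le_right⟩
  obtain ⟨X, hX, hmin⟩ := (Set.toFinite S).exists_minimal hS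
  obtain ⟨hXr, hKX, hXC⟩ := hX
  have hXK : X ≤ K := hXr.1.trans hLK
  have hred : Red p K X := by
    refine ⟨hXK, hKX, hXr.2.2.1, ?_⟩
    intro N hNK hKN hx
    by_contra hc
    set V := X ⊓ centralizer (N : Set H) with hV
    have hVX : V ≤ X := inf_le_left
    have hVlt : ¬ X ≤ V := by
      intro h
      apply hc
      rw [le_centralizer_iff]
      exact h.trans inf_le_right
    apply hVlt
    have hKV : K ≤ normalizer (V : Set H) := by
      intro x hx'
      rw [mem_normalizer_conj, hV, conj_inf, centralizer_conj, mem_normalizer_conj.mp (hKX hx'),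
        mem_normalizer_conj.mp (hKN hx')]
    -- `N ∩ L` centralises `X`
    have hNL : N ⊓ L ≤ centralizer (X : Set H) := by
      refine hXr.2.2.2 _ inf_le_right ?_ (fun x hx' => hx x hx'.1)
      intro x hx'
      rw [mem_normalizer_conj, conj_inf, conj_of_mem hx', mem_normalizer_conj.mp (hKN (hLK hx'))]
    -- a Sylow subgroup of `N`
    obtain ⟨P, hP⟩ := exists_syl p N
    have hNC : N ≤ normalizer ((N ⊓ centralizer (X : Set H) : Subgroup H) : Set H) := by
      intro x hx'
      rw [mem_normalizer_conj, conj_inf, conj_of_mem hx', centralizer_conj, mem_normalizer_conj.mp (hKX (hNK hx'))]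
    have hNP : N ≤ (N ⊓ centralizer (X : Set H)) ⊔ P := by
      refine syl_sup hP hNC ?_
      intro y hy ho
      obtain ⟨k, hk⟩ := hx y hy
      exact ⟨hy, mem_of_pow ho hk⟩
    have hVP : X ⊓ centralizer (P : Set H) ≤ V := by
      refine le_inf inf_le_left ?_
      rw [le_centralizer_iff]
      refine hNP.trans (sup_le ?_ ?_)
      · exact inf_le_right.trans (centralizer_le inf_le_left)
      · rw [le_centralizer_iff]; exact inf_le_right
    have hmain : ∀ N₁ : Subgroup H, N₁ ≤ L → L ≤ normalizer (N₁ : Set H) →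
        (∀ x ∈ N₁, ∃ k : ℕ, x ^ (p ^ k) ∈ centralizer (V : Set H)) → N₁ ≤ centralizer (X : Set H) := by
      intro N₁ hN₁ hLN₁ hx₁
      refine hXr.2.2.2 _ hN₁ hLN₁ (fun x hx' => ?_)
      obtain ⟨a, ha⟩ := exists_coprime_pow (p := p) x
      refine ⟨a, ?_⟩
      set y := x ^ (p ^ a) with hy
      have hyN : y ∈ N₁ := N₁.pow_mem hx' _
      obtain ⟨k, hk⟩ := hx₁ _ hyN
      have hyV : y ∈ centralizer (V : Set H) := mem_of_pow ha hk
      have hyL : y ∈ L := hN₁ hyN
      have h1 : ⁅X, zpowers y⁆ = ⊥ := by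
        refine PxQ' hP.isPGroup (Q := zpowers y) (by rw [Nat.card_zpowers]; exact ha) _ X le_rfl
          (el_isPGroup hXr.2.2.1) ((hP.le.trans hNK).trans hKX) (zpowers_le.mpr (hXr.2.1 hyL)) ?_ ?_
        · refine le_trans ?_ hNL
          rw [commutator_le]
          intro g hg z hz
          have hgN : g ∈ N := hP.le hg
          have hzL : z ∈ L := (zpowers_le.mpr hyL) hz
          constructor
          · have : ⁅g, z⁆ = g * (z * g⁻¹ * z⁻¹) := by rw [commutatorElement_def]; group
            rw [this]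
            exact N.mul_mem hgN ((mem_normalizer_iff.mp (hKN (hLK hzL)) _).mp (N.inv_mem hgN))
          · have : ⁅g, z⁆ = (g * z * g⁻¹) * z⁻¹ := by rw [commutatorElement_def]
            rw [this]
            exact L.mul_mem ((mem_normalizer_iff.mp (hn (hNK hgN)) _).mp hzL) (L.inv_mem hzL)
        · refine hVP.trans ?_
          rw [le_centralizer_iff, zpowers_le]
          exact hyV
      have h2 := commutator_eq_bot_iff_le_centralizer.mp h1
      rw [le_centralizer_iff, zpowers_le] at h2
      exact h2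
    have hVS : V ∈ S := by
      refine ⟨⟨hVX.trans hXr.1, hLK.trans hKV, el_mono hVX hXr.2.2.1, ?_⟩, hKV, ?_⟩
      · intro N₁ hN₁ hLN₁ hx₁
        exact (hmain N₁ hN₁ hLN₁ hx₁).trans (centralizer_le hVX)
      · have h1 : L ⊓ centralizer (V : Set H) ≤ centralizer (X : Set H) := by
          refine hmain _ inf_le_left ?_ (fun x hx' => ⟨0, by rw [pow_zero, pow_one]; exact hx'.2⟩)
          intro x hx'
          rw [mem_normalizer_conj, conj_inf, conj_of_mem hx', centralizer_conj,
            mem_normalizer_conj.mp (hKV (hLK hx'))]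
        exact (le_inf inf_le_left h1).trans hXC
    exact hmin hVS hVX
  refine le_trans ?_ hXC
  exact inf_le_inf_left _ (centralizer_le hred.le_largestOf)

end Cfsg.Agent.Lib.PRed
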