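import Cfsg.Agent.Lib.PRedE

/-!
# subnormal subgroups and the largest `p`-reduced normal subgroup; subnormal closure
-/

set_option autoImplicit false

namespace Cfsg.Agent.Lib.PRed

open Subgroup POf PIrr WClos
open scoped commutatorElement

variable {H : Type*} [Group H] {p : ℕ}

theorem largestOf_top : largestPReducedOf p (⊤ : Subgroup H) = largestPReduced p H := by
  apply le_antisymm
  · have h1 := red_largest p (⊤ : Subgroup H)
    refine le_largest (reducedNormal_iff.mpr ⟨?_, h1.2.2.1, fun N _ hx => h1.2.2.2 N le_top (fun x _ => norm_top N x) hx⟩)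
    rw [← normalizer_eq_top_iff, eq_top_iff]
    exact h1.2.1
  · obtain ⟨h1, h2, h3⟩ := reducedNormal_iff.mp (largest_reduced p H)
    apply Red.le_largestOf
    refine ⟨le_top, fun x _ => norm_top _ x, h2, fun N _ hN hx => h3 N ?_ hx⟩
    rw [← normalizer_eq_top_iff, eq_top_iff]
    exact hN

theorem step_subnormal [Finite H] [hp : Fact p.Prime] {L : Subgroup H} (hL : L.IsSubnormal) :
    L ⊓ centralizer (largestPReduced p H : Set H) ≤ centralizer (largestPReducedOf p L : Set H) := by
  induction hL with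
  | top =>
    rw [largestOf_top]; exact inf_le_right
  | step L K hLK _ hN ih =>
    have h1 := step_normal (p := p) hLK ((normal_subgroupOf_iff_le_normalizer hLK).mp hN)
    refine le_trans (le_inf inf_le_left ?_) h1
    exact (inf_le_inf_right _ hLK).trans ih

/-- S2825 -/
theorem s2825 [Finite H] [hp : Fact p.Prime] (L : Subgroup H) (hL : L.IsSubnormal) :
    largestPReduced p H ⊓ L = largestPReduced p H ⊓ (largestPReducedOf p L) ∧
      IsPReducedNormal p ((largestPReduced p H ⊓ L).subgroupOf L) ∧
      L ⊓ centralizer ((largestPReducedOf p L : Subgroup H) : Set H) = L ⊓ centralizer (largestPReduced p H : Set H) ∧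
      L ⊓ centralizer (largestPReduced p H : Set H) = L ⊓ centralizer ((largestPReduced p H ⊓ L : Subgroup H) : Set H) ∧
      (pResidual p H ≤ L → (⁅(largestPReducedOf p L), L⁆ = ⊥ ↔ ⁅largestPReduced p H, (⊤ : Subgroup H)⁆ = ⊥)) := by
  set Y := largestPReduced p H with hY
  have hYr := largest_reduced p H
  obtain ⟨hYn, hYe, hYred⟩ := reducedNormal_iff.mp hYr
  set W := Y ⊓ L with hW
  have hWn : L ≤ normalizer (W : Set H) := by
    intro x hx
    rw [mem_normalizer_conj, hW, conj_inf, conj_of_mem hx, mem_normalizer_conj.mp (norm_top Y x)]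
  -- the key fact
  have hkey : ∀ N : Subgroup H, N ≤ L → L ≤ normalizer (N : Set H) →
      (∀ x ∈ N, ∃ k : ℕ, x ^ (p ^ k) ∈ centralizer (W : Set H)) → N ≤ centralizer (Y : Set H) := by
    intro N hNL hLN hx
    have hNs := sub_of_normal hNL hLN hL
    refine key hYr hNs ?_ ?_ hx
    · intro y hy
      -- `Y` is abelian so it normalises `W`
      rw [mem_normalizer_iff]
      have hc : ∀ w, w ∈ Y → y * w * y⁻¹ = w := by
        intro w hw
        rw [(el_iff.mp hYe).1 y hy w hw, mul_inv_cancel_right]
      intro w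
      constructor
      · intro hw; rw [hc w hw.1]; exact hw
      · intro hw
        have h1 : w ∈ Y := by
          have := hYn.conj_mem _ hw.1 y⁻¹
          rwa [show y⁻¹ * (y * w * y⁻¹) * y⁻¹⁻¹ = w by group] at this
        rwa [hc w h1] at hw
    · intro v hv y hy ho
      have h1 := V_le_normalizer_res hYn (el_isPGroup hYe) hNs hv
      have h2 : y ∈ (pResidual p N).map N.subtype := mem_res hy ho
      refine ⟨?_, ?_⟩
      · have : ⁅v, y⁆ = v * (y * v⁻¹ * y⁻¹) := by rw [commutatorElement_def]; group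
        rw [this]
        exact Y.mul_mem hv (hYn.conj_mem _ (Y.inv_mem hv) y)
      · have : ⁅v, y⁆ = (v * y * v⁻¹) * y⁻¹ := by rw [commutatorElement_def]
        rw [this]
        exact L.mul_mem (hNL (res_le p N ((mem_normalizer_iff.mp h1 y).mp h2))) (L.inv_mem (hNL hy))
  have hWred : Red p L W := ⟨inf_le_right, hWn, el_mono inf_le_left hYe,
    fun N hNL hLN hx => (hkey N hNL hLN hx).trans (centralizer_le inf_le_left)⟩
  have h1 : Y ⊓ L = Y ⊓ largestPReducedOf p L :=
    le_antisymm (le_inf inf_le_left hWred.le_largestOf) (inf_le_inf_left _ (largestOf_le L))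
  have h4 : L ⊓ centralizer (Y : Set H) = L ⊓ centralizer (W : Set H) := by
    apply le_antisymm (inf_le_inf_left _ (centralizer_le inf_le_left))
    refine le_inf inf_le_left (hkey (L ⊓ centralizer (W : Set H)) inf_le_left ?_
      (fun x hx => ⟨0, by rw [pow_zero, pow_one]; exact hx.2⟩))
    intro x hx
    rw [mem_normalizer_conj, conj_inf L (centralizer (W : Set H)) x, conj_of_mem hx, centralizer_conj W x,
      mem_normalizer_conj.mp (hWn hx)]
  have h3 : L ⊓ centralizer ((largestPReducedOf p L : Subgroup H) : Set H) = L ⊓ centralizer (Y : Set H) := by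
    apply le_antisymm
    · rw [h4]
      exact inf_le_inf_left _ (centralizer_le hWred.le_largestOf)
    · exact le_inf inf_le_left (step_subnormal hL)
  refine ⟨h1, (red_iff inf_le_right).mp hWred, h3, h4, ?_⟩
  intro hO
  rw [commutator_eq_bot_iff_le_centralizer, commutator_eq_bot_iff_le_centralizer, le_centralizer_iff,
    le_centralizer_iff (H := Y)]
  constructor
  · intro h
    have h5 : L ≤ centralizer (Y : Set H) := by
      have : L ≤ L ⊓ centralizer (Y : Set H) := by rw [← h3]; exact le_inf le_rfl h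
      exact this.trans inf_le_right
    refine hYred ⊤ inferInstance (fun x _ => ?_)
    haveI := Resid.pResidual_normal (G := H) p
    obtain ⟨k, hk⟩ := Resid.quotient_pResidual (G := H) (p := p) (QuotientGroup.mk' _ x)
    rw [← map_pow] at hk
    exact ⟨k, h5 (hO ((QuotientGroup.eq_one_iff _).mp hk))⟩
  · intro h
    have : L ≤ L ⊓ centralizer ((largestPReducedOf p L : Subgroup H) : Set H) := by
      rw [h3]; exact le_inf le_rfl (le_top.trans h)
    exact this.trans inf_le_right

/-! ### transfer to the ambient group -/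

theorem zc_map {L : Subgroup H} (P : Subgroup L) : (zc p P).map L.subtype = zc p (P.map L.subtype) := by
  show (closure {x : L | x ∈ P ⊓ centralizer (P : Set L) ∧ x ^ p = 1}).map L.subtype =
    closure {x : H | x ∈ P.map L.subtype ⊓ centralizer ((P.map L.subtype : Subgroup H) : Set H) ∧ x ^ p = 1}
  rw [MonoidHom.map_closure]
  congr 1
  ext x
  constructor
  · rintro ⟨y, ⟨⟨hyP, hyC⟩, hy⟩, rfl⟩
    refine ⟨⟨⟨y, hyP, rfl⟩, ?_⟩, ?_⟩
    · apply mem_centralizer_iff.mpr
      rintro _ ⟨z, hz, rfl⟩
      exact congrArg Subtype.val (mem_centralizer_iff.mp hyC z hz)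
    · rw [← map_pow, hy, map_one]
  · rintro ⟨⟨⟨y, hyP, rfl⟩, hyC⟩, hy⟩
    refine ⟨y, ⟨⟨hyP, ?_⟩, Subtype.ext hy⟩, rfl⟩
    apply mem_centralizer_iff.mpr
    intro z hz
    exact Subtype.ext (mem_centralizer_iff.mp hyC z ⟨z, hz, rfl⟩)

/-- `Y_L = Ω₁ Z(C_T(Y_L))` -/
theorem largestOf_eq_zc [Finite H] [hp : Fact p.Prime] {L P : Subgroup H} (hL : centralizer (pCore p L : Set L) ≤ pCore p L)
    (hP : Syl p L P) : largestPReducedOf p L = zc p (P ⊓ centralizer (largestPReducedOf p L : Set H)) := by
  obtain ⟨T, rfl⟩ := hP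
  have h1 := (s2803 hL T (largestPReduced p L) ⟨largest_reduced p L, fun V hV => le_largest hV⟩ _ rfl).2.2
  have h2 := congrArg (Subgroup.map L.subtype) h1
  change largestPReducedOf p L = (zc p _).map L.subtype at h2
  rw [zc_map] at h2
  have h3 : ((T : Subgroup L) ⊓ centralizer (largestPReduced p L : Set L)).map L.subtype =
      (T : Subgroup L).map L.subtype ⊓ centralizer (largestPReducedOf p L : Set H) := by
    ext x
    constructor
    · rintro ⟨y, ⟨hyT, hyC⟩, rfl⟩
      refine ⟨⟨y, hyT, rfl⟩, ?_⟩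
      apply mem_centralizer_iff.mpr
      rintro _ ⟨z, hz, rfl⟩
      exact congrArg Subtype.val (mem_centralizer_iff.mp hyC z hz)
    · rintro ⟨⟨y, hyT, rfl⟩, hyC⟩
      refine ⟨y, ⟨hyT, ?_⟩, rfl⟩
      apply mem_centralizer_iff.mpr
      intro z hz
      exact Subtype.ext (mem_centralizer_iff.mp hyC z ⟨z, hz, rfl⟩)
  rw [h3] at h2
  exact h2

/-- S2824 -/
theorem s2824 [Finite H] [hp : Fact p.Prime] (T : Sylow p H) (L M : Subgroup H) (hTL : (T : Subgroup H) ≤ L)
    (hTM : (T : Subgroup H) ≤ M) (hL : centralizer (pCore p ↥L : Set ↥L) ≤ pCore p ↥L)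
    (T₀ : Subgroup H) (hT₀ : T₀ = (T : Subgroup H) ⊓ centralizer (((largestPReducedOf p L) : Subgroup H) : Set H))
    (hfac : M ⊔ centralizer (((largestPReducedOf p L) : Subgroup H) : Set H) =
      L ⊔ centralizer (((largestPReducedOf p L) : Subgroup H) : Set H)) (Ls : Subgroup H)
    (hLs : Ls = M ⊓ normalizer ((T₀ : Subgroup H) : Set H)) :
    (largestPReducedOf p Ls) = (largestPReducedOf p L) ∧
      L ⊔ centralizer (((largestPReducedOf p L) : Subgroup H) : Set H) =
        Ls ⊔ centralizer (((largestPReducedOf p L) : Subgroup H) : Set H) := by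
  have hY := red_largest p L
  set Y := largestPReducedOf p L with hYdef
  set C := centralizer (Y : Set H) with hC
  have hTs : Syl p L (T : Subgroup H) := sylow_syl T hTL
  have hD := daggerOf_le_normalizer (p := p) L
  have hDC : L ⊔ C ≤ normalizer (C : Set H) := hD.trans (normalizer_le_normalizer_centralizer Y)
  have hMD : M ≤ L ⊔ C := by rw [← hfac]; exact le_sup_left
  have hMC : M ≤ normalizer (C : Set H) := hMD.trans hDC
  have hTT₀ : (T : Subgroup H) ≤ normalizer (T₀ : Set H) := by
    intro x hx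
    rw [mem_normalizer_conj, hT₀, conj_inf, conj_of_mem hx, mem_normalizer_conj.mp (hMC (hTM hx))]
  have hTLs : (T : Subgroup H) ≤ Ls := by rw [hLs]; exact le_inf hTM hTT₀
  -- Frattini
  have hMCn : M ≤ normalizer ((M ⊓ C : Subgroup H) : Set H) := by
    intro x hx
    rw [mem_normalizer_conj, conj_inf, conj_of_mem hx, mem_normalizer_conj.mp (hMC hx)]
  have hT₀s : Syl p (M ⊓ C) T₀ := by
    have h1 := syl_inf' (sylow_syl T hTM) (M ⊓ C) inf_le_left hMCn
    have h2 : (T : Subgroup H) ⊓ (M ⊓ C) = T₀ := by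
      rw [hT₀, ← inf_assoc, inf_eq_left.mpr hTM]
    rwa [h2] at h1
  have hMLs : M ≤ Ls ⊔ C := by
    intro g hg
    have h1 : T₀.map (MulAut.conj g).toMonoidHom ≤ M ⊓ C := by
      have := conj_mono hT₀s.le g
      rwa [mem_normalizer_conj.mp (hMCn hg)] at this
    have h2 : Syl p (M ⊓ C) (T₀.map (MulAut.conj g).toMonoidHom) := by
      have := hT₀s.conj g
      rwa [mem_normalizer_conj.mp (hMCn hg)] at this
    obtain ⟨c, hc, e⟩ := h2.exists_conj hT₀s
    rw [conj_conj] at e
    have h3 : c * g ∈ Ls := by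
      rw [hLs]
      exact ⟨M.mul_mem hc.1 hg, mem_normalizer_conj.mpr e.symm⟩
    have h4 : g = c⁻¹ * (c * g) := by group
    rw [h4]
    exact mul_mem ((le_sup_right : C ≤ Ls ⊔ C) (C.inv_mem hc.2)) ((le_sup_left : Ls ≤ Ls ⊔ C) h3)
  have hfac2 : L ⊔ C = Ls ⊔ C := by
    rw [← hfac]
    apply le_antisymm (sup_le hMLs le_sup_right)
    refine sup_le_sup_right ?_ C
    rw [hLs]; exact inf_le_left
  refine ⟨?_, hfac2⟩
  apply le_antisymm
  · -- `Y_{L*} ≤ Ω₁ Z(T₀) = Y_L`
    have hYs := red_largest p Ls
    have h1 : T₀ ≤ pCoreOf p Ls := by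
      refine POf.le_pCoreOf ?_ ?_ ?_
      · refine le_trans ?_ hTLs
        rw [hT₀]; exact inf_le_left
      · rw [hT₀]; exact T.2.to_le inf_le_left
      · rw [hLs]; exact inf_le_right
    have h2 : largestPReducedOf p Ls ≤ (T : Subgroup H) := hYs.le_pCoreOf.trans (sylow_syl T hTLs).pCoreOf_le
    have h3 : T₀ ≤ centralizer ((largestPReducedOf p Ls : Subgroup H) : Set H) := h1.trans hYs.pCoreOf_le
    have h4 : Y ≤ T₀ := by
      rw [hT₀]
      refine le_inf (hY.le_pCoreOf.trans hTs.pCoreOf_le) ?_
      intro x hx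
      exact mem_centralizer_iff.mpr (fun y hy => (el_iff.mp hY.2.2.1).1 y hy x hx)
    have h5 : largestPReducedOf p Ls ≤ T₀ := by
      conv_rhs => rw [hT₀]
      refine le_inf h2 ?_
      rw [le_centralizer_iff]
      exact h4.trans h3
    have h6 : Y = zc p T₀ := by rw [hT₀]; exact largestOf_eq_zc hL hTs
    rw [h6]
    intro x hx
    exact mem_zc (h5 hx) ((le_centralizer_iff.mp h3) hx) (hYs.2.2.1.2 x hx)
  · exact s2822 T Ls L hTLs hTL hfac2.symm

/-! ### the subnormal closure -/

/-- S2814 -/
theorem s2814 [Finite H] [hp : Fact p.Prime] (A : Subgroup H) (K : Subgroup H) (hK : K = subnormalClosure A) :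
    (normalClosure ((A.subgroupOf K : Subgroup ↥K) : Set ↥K)).map K.subtype = K ∧
      normalizer (A : Set H) ≤ normalizer (K : Set H) ∧
      A ⊔ (pResidual p ↥K).map K.subtype = K ∧
      (IsPGroup p ↥A → ⁅(pResidual p ↥K).map K.subtype, A⁆ = (pResidual p ↥K).map K.subtype) := by
  have hAK : A ≤ K := by rw [hK]; exact le_sInf fun B hB => hB.1
  have hle : ∀ B : Subgroup H, A ≤ B → B.IsSubnormal → K ≤ B := fun B h1 h2 => by
    rw [hK]; exact sInf_le ⟨h1, h2⟩
  have hKs : K.IsSubnormal := by
    have h1 : ∀ S : Set (Subgroup H), S.Finite → (∀ B ∈ S, B.IsSubnormal) → (sInf S).IsSubnormal := by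
      intro S hS
      induction S, hS using Set.Finite.induction_on with
      | empty => intro _; rw [sInf_empty]; exact IsSubnormal.top
      | insert _ _ ih =>
        intro h
        rw [sInf_insert]
        exact IsSubnormal.inf (h _ (Set.mem_insert _ _)) (ih fun B hB => h B (Set.mem_insert_of_mem _ hB))
    rw [hK]
    exact h1 _ (Set.toFinite _) (fun B hB => hB.2)
  set R := (pResidual p ↥K).map K.subtype with hR
  have hRK : R ≤ K := res_le p K
  have hKR : K ≤ normalizer (R : Set H) := le_normalizer_res p K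
  have h3 : A ⊔ R = K := by
    apply le_antisymm (sup_le hAK hRK)
    apply hle _ le_sup_left
    -- `A R` is subnormal in `K`
    haveI hRn : (pResidual p K).Normal := Resid.pResidual_normal p
    have h4 : ((A.subgroupOf K).map (QuotientGroup.mk' (pResidual p K))).IsSubnormal :=
      Subnorm.isSubnormal_of_nilpotent (Resid.quotient_pResidual (G := K) (p := p)).isNilpotent _
    have h5 := IsSubnormal.comap (QuotientGroup.mk' (pResidual p K)) h4
    rw [Subgroup.comap_map_eq, QuotientGroup.ker_mk'] at h5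
    have h6 : (A.subgroupOf K ⊔ pResidual p K).map K.subtype = A ⊔ R := by
      rw [Subgroup.map_sup, subgroupOf_map_subtype, inf_eq_left.mpr hAK]
    rw [← h6]
    exact IsSubnormal.trans' h5 hKs
  refine ⟨?_, ?_, h3, ?_⟩
  · apply le_antisymm (map_subtype_le _)
    apply hle
    · intro x hx
      exact ⟨⟨x, hAK hx⟩, subset_normalClosure hx, rfl⟩
    · refine IsSubnormal.step _ K (map_subtype_le _) hKs ?_
      have : ((normalClosure ((A.subgroupOf K : Subgroup ↥K) : Set ↥K)).map K.subtype).subgroupOf K =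
        normalClosure ((A.subgroupOf K : Subgroup ↥K) : Set ↥K) := comap_map_eq_self_of_injective K.subtype_injective _
      rw [this]
      infer_instance
  · have h4 : ∀ g ∈ normalizer (A : Set H), K ≤ K.map (MulAut.conj g).toMonoidHom := by
      intro g hg
      apply hle
      · have := conj_mono hAK g
        rwa [mem_normalizer_conj.mp hg] at this
      · exact IsSubnormal.map (MulAut.conj g).surjective hKs
    intro g hg
    rw [mem_normalizer_conj]
    exact eq_of_le_conj (h4 g hg)
  · intro hA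
    apply le_antisymm (Coprime.commutator_le_of_normalizes (hAK.trans hKR))
    set W := ⁅R, A⁆ with hW
    have hRW : R ≤ normalizer (W : Set H) := Coprime.le_normalizer_commutator_left A R
    have hAW : A ≤ normalizer (W : Set H) := Coprime.le_normalizer_commutator_right A R
    have hKW : K ≤ normalizer (W : Set H) := by rw [← h3]; exact sup_le hAW hRW
    have hWK : W ≤ K := (Coprime.commutator_le_of_normalizes (hAK.trans hKR)).trans hRK
    have h4 : K ≤ W ⊔ A := by
      apply hle _ le_sup_right
      refine IsSubnormal.step _ K (sup_le hWK hAK) hKs ((normal_subgroupOf_iff_le_normalizer (sup_le hWK hAK)).mpr ?_)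
      conv_lhs => rw [← h3]
      refine sup_le (le_sup_right.trans le_normalizer) ?_
      apply le_normalizer_of_conj
      intro r hr
      rw [Subgroup.map_sup, mem_normalizer_conj.mp (hRW hr)]
      refine sup_le le_sup_left ?_
      rintro _ ⟨a, ha, rfl⟩
      show r * a * r⁻¹ ∈ _
      have : r * a * r⁻¹ = ⁅r, a⁆ * a := by rw [commutatorElement_def]; group
      rw [this]
      exact mul_mem ((le_sup_left : W ≤ _) (commutator_mem_commutator hr ha)) ((le_sup_right : A ≤ _) ha)
    rw [hR, res_le_iff]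
    intro x hx ho
    exact mem_of_sup hA hAW (h4 hx) ho

end Cfsg.Agent.Lib.PRed
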