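import Cfsg.Agent.Lib.PRedF
import Cfsg.Agent.Lib.MinAct
import Cfsg.Agent.Lib.Components

/-!
# Frattini subgroups, quasisimple `O^p(H)`, weakly closed subgroups and commutators
-/

set_option autoImplicit false

namespace Cfsg.Agent.Lib.PRed

open Subgroup POf PIrr WClos
open scoped commutatorElement

variable {H : Type*} [Group H] {p : ℕ}

theorem mul_pow_mem_commutator {P : Type*} [Group P] (a b : P) (n : ℕ) :
    (a * b) ^ n * (b ^ n)⁻¹ * (a ^ n)⁻¹ ∈ commutator P := by
  have h1 : (Abelianization.of ((a * b) ^ n * (b ^ n)⁻¹ * (a ^ n)⁻¹) : Abelianization P) = 1 := by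
    rw [map_mul, map_mul, map_inv, map_inv, map_pow, map_pow, map_pow, map_mul, mul_pow]
    rw [mul_inv_cancel_right, mul_inv_cancel]
  rw [← Abelianization.ker_of P]
  exact h1

/-- S2819 -/
theorem s2819 {G : Type*} [Group G] [Finite G] [hp : Fact p.Prime] (P : Subgroup G) (hP : IsPGroup p ↥P) (H : Subgroup G)
    (hH : H ≤ normalizer (P : Set G)) (Y : Subgroup G) (hYH : Y ≤ H)
    (hYc : Y ≤ centralizer ((⁅P, P⁆ : Subgroup G) : Set G)) (hel : IsElementaryAbelian p ⁅P, Y⁆) (NY : Subgroup G)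
    (hNY : NY = (normalClosure ((Y.subgroupOf H : Subgroup ↥H) : Set ↥H)).map H.subtype) :
    (pResidual p ↥NY).map NY.subtype ≤ centralizer (((frattini ↥P).map P.subtype : Subgroup G) : Set G) := by
  set Φ := (frattini ↥P).map P.subtype with hΦ
  have hΦP : Φ ≤ P := map_subtype_le _
  have hPP : ⁅P, P⁆ ≤ P := commutator_le_self P
  have hcomm : (commutator ↥P).map P.subtype = ⁅P, P⁆ := map_subtype_commutator P
  have hHΦ : H ≤ normalizer (Φ : Set G) := hH.trans (MinAct.normalizer_le_normalizer_char (frattini ↥P))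
  have hHP' : H ≤ normalizer ((⁅P, P⁆ : Subgroup G) : Set G) := by
    intro x hx
    rw [mem_normalizer_conj, map_commutator, mem_normalizer_conj.mp (hH hx)]
  -- `Y` acts trivially on `Φ / P'`
  have hY1 : ∀ y ∈ Y, ∀ g ∈ Φ, y * g * y⁻¹ * g⁻¹ ∈ ⁅P, P⁆ := by
    intro y hy
    have hyP : y ∈ normalizer (P : Set G) := hH (hYH hy)
    let D : Subgroup P :=
      { carrier := {g | y * (g : G) * y⁻¹ * (g : G)⁻¹ ∈ ⁅P, P⁆}
        one_mem' := by
          show y * 1 * y⁻¹ * 1⁻¹ ∈ ⁅P, P⁆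
          have : y * 1 * y⁻¹ * 1⁻¹ = 1 := by group
          rw [this]; exact one_mem _
        mul_mem' := by
          intro a b ha hb
          show y * ((a : G) * b) * y⁻¹ * ((a : G) * b)⁻¹ ∈ ⁅P, P⁆
          have e : y * ((a : G) * b) * y⁻¹ * ((a : G) * b)⁻¹ =
            (y * a * y⁻¹ * (a : G)⁻¹) * ((a : G) * (y * b * y⁻¹ * (b : G)⁻¹) * (a : G)⁻¹) := by group
          rw [e]
          have h1 : (a : G) ∈ normalizer ((⁅P, P⁆ : Subgroup G) : Set G) := Coprime.le_normalizer_commutator_left P P a.2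
          exact mul_mem ha ((mem_normalizer_iff.mp h1 _).mp hb)
        inv_mem' := by
          intro a ha
          show y * (a : G)⁻¹ * y⁻¹ * (a : G)⁻¹⁻¹ ∈ ⁅P, P⁆
          have e : y * (a : G)⁻¹ * y⁻¹ * (a : G)⁻¹⁻¹ = (a : G)⁻¹ * (y * a * y⁻¹ * (a : G)⁻¹)⁻¹ * (a : G)⁻¹⁻¹ := by group
          rw [e]
          have h1 : (a : G)⁻¹ ∈ normalizer ((⁅P, P⁆ : Subgroup G) : Set G) :=
            Coprime.le_normalizer_commutator_left P P (P.inv_mem a.2)
          exact (mem_normalizer_iff.mp h1 _).mp (inv_mem ha) }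
    have hDP : commutator P ≤ D := by
      intro g hg
      have h1 : (g : G) ∈ ⁅P, P⁆ := by rw [← hcomm]; exact ⟨g, hg, rfl⟩
      show y * (g : G) * y⁻¹ * (g : G)⁻¹ ∈ ⁅P, P⁆
      have h2 : y * (g : G) = g * y := (mem_centralizer_iff.mp (hYc hy) g h1).symm
      rw [h2]
      have : (g : G) * y * y⁻¹ * (g : G)⁻¹ = 1 := by group
      rw [this]; exact one_mem _
    haveI : D.Normal := Subgroup.Normal.of_commutator_le P hDP
    have h1 : frattini P ≤ D := by
      apply Nilp.frattini_le_of_elementary_quotient (p := p)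
      · exact hDP
      · intro x
        show y * ((x : G) ^ p) * y⁻¹ * ((x : G) ^ p)⁻¹ ∈ ⁅P, P⁆
        have hc : ⁅(x : G), y⁆ ∈ ⁅P, Y⁆ := commutator_mem_commutator x.2 hy
        have hcP : ⁅(x : G), y⁆ ∈ P := Coprime.commutator_le_of_normalizes (hYH.trans hH) hc
        set c : P := ⟨⁅(x : G), y⁆⁻¹, P.inv_mem hcP⟩ with hcdef
        have hcp : c ^ p = 1 := by
          apply Subtype.ext
          show (⁅(x : G), y⁆⁻¹) ^ p = 1
          rw [inv_pow, hel.2 _ hc, inv_one]
        have e1 : y * (x : G) * y⁻¹ = ((c * x : P) : G) := by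
          show y * (x : G) * y⁻¹ = ⁅(x : G), y⁆⁻¹ * x
          rw [commutatorElement_def]; group
        have e2 : y * ((x : G) ^ p) * y⁻¹ * ((x : G) ^ p)⁻¹ = (((c * x) ^ p * (x ^ p)⁻¹ * (c ^ p)⁻¹ : P) : G) := by
          rw [← conj_pow, e1, hcp]
          show _ = ((c * x : P) : G) ^ p * ((x : G) ^ p)⁻¹ * (1 : G)⁻¹
          rw [inv_one, mul_one]
        rw [e2, ← hcomm]
        exact ⟨_, mul_pow_mem_commutator c x p, rfl⟩
    rintro _ ⟨g, hg, rfl⟩
    exact h1 hg
  -- the kernel of the action on `Φ / P'` and `P'`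
  let E : Subgroup H :=
    { carrier := {n | (∀ g ∈ Φ, (n : G) * g * (n : G)⁻¹ * g⁻¹ ∈ ⁅P, P⁆) ∧ (n : G) ∈ centralizer ((⁅P, P⁆ : Subgroup G) : Set G)}
      one_mem' := ⟨fun g _ => by
        have : ((1 : H) : G) * g * ((1 : H) : G)⁻¹ * g⁻¹ = 1 := by rw [Subgroup.coe_one]; group
        rw [this]; exact one_mem _, one_mem _⟩
      mul_mem' := by
        rintro a b ⟨ha, ha'⟩ ⟨hb, hb'⟩
        refine ⟨fun g hg => ?_, mul_mem ha' hb'⟩
        have hbg : (b : G) * g * (b : G)⁻¹ ∈ Φ := (mem_normalizer_iff.mp (hHΦ b.2) g).mp hg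
        have e : ((a * b : H) : G) * g * ((a * b : H) : G)⁻¹ * g⁻¹ =
          ((a : G) * (b * g * (b : G)⁻¹) * (a : G)⁻¹ * (b * g * (b : G)⁻¹)⁻¹) * ((b : G) * g * (b : G)⁻¹ * g⁻¹) := by
          rw [Subgroup.coe_mul]; group
        rw [e]
        exact mul_mem (ha _ hbg) (hb g hg)
      inv_mem' := by
        rintro a ⟨ha, ha'⟩
        refine ⟨fun g hg => ?_, inv_mem ha'⟩
        have hag : (a : G)⁻¹ * g * a ∈ Φ := by
          have := (mem_normalizer_iff.mp (hHΦ (H.inv_mem a.2)) g).mp hg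
          rwa [inv_inv] at this
        have e : ((a⁻¹ : H) : G) * g * ((a⁻¹ : H) : G)⁻¹ * g⁻¹ =
          ((a : G) * ((a : G)⁻¹ * g * a) * (a : G)⁻¹ * ((a : G)⁻¹ * g * a)⁻¹)⁻¹ := by
          rw [Subgroup.coe_inv]; group
        rw [e]
        exact inv_mem (ha _ hag) }
  have hEn : E.Normal := by
    constructor
    rintro n ⟨hn, hn'⟩ h
    refine ⟨fun g hg => ?_, ?_⟩
    · have hhg : (h : G)⁻¹ * g * h ∈ Φ := by
        have := (mem_normalizer_iff.mp (hHΦ (H.inv_mem h.2)) g).mp hg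
        rwa [inv_inv] at this
      have e : ((h * n * h⁻¹ : H) : G) * g * ((h * n * h⁻¹ : H) : G)⁻¹ * g⁻¹ =
        (h : G) * ((n : G) * ((h : G)⁻¹ * g * h) * (n : G)⁻¹ * ((h : G)⁻¹ * g * h)⁻¹) * (h : G)⁻¹ := by
        rw [Subgroup.coe_mul, Subgroup.coe_mul, Subgroup.coe_inv]; group
      rw [e]
      exact (mem_normalizer_iff.mp (hHP' h.2) _).mp (hn _ hhg)
    · have h1 : (h : G) * n * (h : G)⁻¹ ∈ (centralizer ((⁅P, P⁆ : Subgroup G) : Set G)).map (MulAut.conj (h : G)).toMonoidHom :=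
        ⟨n, hn', rfl⟩
      rw [centralizer_conj, mem_normalizer_conj.mp (hHP' h.2)] at h1
      exact h1
  have hNYE : NY ≤ E.map H.subtype := by
    rw [hNY]
    apply Subgroup.map_mono
    haveI := hEn
    refine normalClosure_le_normal ?_
    intro y hy
    exact ⟨hY1 y hy, hYc hy⟩
  rw [res_le_iff]
  intro x hx ho
  obtain ⟨n, hn, rfl⟩ := hNYE hx
  refine cent_of_quad (hP.to_le hΦP) (hHΦ n.2) ho (W := ⁅P, P⁆) ?_ ?_ ?_
  · intro v hv
    have e : ⁅v, (n : G)⁆ = ((n : G) * v * (n : G)⁻¹ * v⁻¹)⁻¹ := by rw [commutatorElement_def]; group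
    show ⁅v, (n : G)⁆ ∈ _
    rw [e]
    exact inv_mem (hn.1 v hv)
  · intro w hw
    exact mem_centralizer_iff.mp hn.2 w hw
  · exact hΦP.trans (Coprime.le_normalizer_commutator_left P P)

/-- S2841, first part -/
theorem wc_prod [Finite H] [Fact p.Prime] {Q : Subgroup H} (hQp : IsPGroup p ↥Q)
    (hwc : IsWeaklyClosedSubgroup p Q) (N : Subgroup H) (hQN : Q ≤ normalizer (N : Set H)) :
    ∀ n ∈ N, ∃ a ∈ N ⊓ normalizer (Q : Set H), ∃ b ∈ ⁅N, Q⁆, n = a * b := by
  intro n hn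
  have hNQN : ⁅N, Q⁆ ≤ N := Coprime.commutator_le_of_normalizes hQN
  have hQW : Q ≤ normalizer ((⁅N, Q⁆ : Subgroup H) : Set H) := Coprime.le_normalizer_commutator_right Q N
  have h1 : Q.map (MulAut.conj n⁻¹).toMonoidHom ≤ ⁅N, Q⁆ ⊔ Q := by
    rintro _ ⟨q, hq, rfl⟩
    show n⁻¹ * q * n⁻¹⁻¹ ∈ _
    have : n⁻¹ * q * n⁻¹⁻¹ = ⁅n⁻¹, q⁆ * q := by rw [commutatorElement_def]; group
    rw [this]
    exact mul_mem ((le_sup_left : ⁅N, Q⁆ ≤ _) (commutator_mem_commutator (N.inv_mem hn) hq)) ((le_sup_right : Q ≤ _) hq)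
  obtain ⟨k, hk, e⟩ := wc_conj hQp hwc (le_sup_right : Q ≤ ⁅N, Q⁆ ⊔ Q) h1
  obtain ⟨c, hc, q, hq, rfl⟩ := (Basic.mem_sup_iff_left hQW).mp hk
  rw [← conj_conj, conj_of_mem hq] at e
  -- `n⁻¹ ∈ c N(Q)`
  have h2 : n * c ∈ normalizer (Q : Set H) := by
    rw [mem_normalizer_conj, ← conj_conj, ← e]
    have := conj_conj_inv Q n
    exact this
  refine ⟨n * c, ⟨N.mul_mem hn (hNQN hc), h2⟩, c⁻¹, inv_mem hc, by group⟩

/-- S2841 -/
theorem s2841 [Finite H] [Fact p.Prime] {Q : Subgroup H} (hQp : IsPGroup p ↥Q)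
    (hwc : IsWeaklyClosedSubgroup p Q) (N : Subgroup H) [N.Normal] :
    (∀ n : H, n ∈ N → ∃ a ∈ N ⊓ normalizer ((Q : Subgroup H) : Set H), ∃ b ∈ ⁅N, Q⁆, n = a * b) ∧
      (∀ c : H, c ∈ ⁅N, Q⁆ → ∃ a ∈ Q ⊓ ⁅N, Q⁆, ∃ b ∈ ⁅⁅N, Q⁆, Q⁆, c = a * b) := by
  have h1 := wc_prod hQp hwc N (fun x _ => norm_top N x)
  refine ⟨h1, ?_⟩
  set W := ⁅N, Q⁆ with hW
  have hQW : Q ≤ normalizer (W : Set H) := Coprime.le_normalizer_commutator_right Q N
  have hNW : N ≤ normalizer (W : Set H) := Coprime.le_normalizer_commutator_left Q N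
  have hQWQ : Q ≤ normalizer ((⁅W, Q⁆ : Subgroup H) : Set H) := Coprime.le_normalizer_commutator_right Q W
  have hQI : Q ⊓ W ≤ normalizer ((⁅W, Q⁆ : Subgroup H) : Set H) := inf_le_left.trans hQWQ
  have h2 : W ≤ (Q ⊓ W) ⊔ ⁅W, Q⁆ := by
    rw [hW, commutator_le]
    intro n hn q hq
    obtain ⟨a, ha, b, hb, rfl⟩ := h1 n hn
    have e : ⁅a * b, q⁆ = (a * ⁅b, q⁆ * a⁻¹) * ⁅a, q⁆ := by simp only [commutatorElement_def]; group
    rw [e]
    refine mul_mem ((le_sup_right : ⁅W, Q⁆ ≤ _) ?_) ((le_sup_left : Q ⊓ W ≤ _) ⟨?_, commutator_mem_commutator ha.1 hq⟩)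
    · have h3 : a ∈ normalizer ((⁅W, Q⁆ : Subgroup H) : Set H) := by
        rw [mem_normalizer_conj, map_commutator, mem_normalizer_conj.mp (hNW ha.1), mem_normalizer_conj.mp ha.2]
      exact (mem_normalizer_iff.mp h3 _).mp (commutator_mem_commutator hb hq)
    · have : ⁅a, q⁆ = (a * q * a⁻¹) * q⁻¹ := by rw [commutatorElement_def]
      rw [this]
      exact Q.mul_mem ((mem_normalizer_iff.mp ha.2 q).mp hq) (Q.inv_mem hq)
  intro c hc
  have h3 := h2 hc
  rw [sup_comm] at h3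
  obtain ⟨y, hy, n, hn, e⟩ := (Basic.mem_sup_iff_right hQI).mp h3
  exact ⟨y, hy, n, hn, e.symm⟩

/-! ### `O^p(H)` quasisimple -/

/-- S2815 -/
theorem s2815 [Finite H] [hp : Fact p.Prime] (hpd : p ∣ Nat.card H) (hO : pCore p H = ⊥)
    (hq : IsQuasisimple ↥(pResidual p H)) :
    pResidual p H = generalizedFittingSubgroup H ∧
      (∀ Y : Subgroup H, IsPGroup p ↥Y → Y ≠ ⊥ → ⁅pResidual p H, Y⁆ = pResidual p H ∧
        pResidual p H ≤ ⨆ k : ↥(pResidual p H), Y.map (MulAut.conj (k : H)).toMonoidHom) ∧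
      (∀ C : Subgroup H, C.Normal → ¬ pResidual p H ≤ C → (Nat.card ↥C).Coprime p) ∧ IsPIrreducible p H := by
  haveI hKn : (pResidual p H).Normal := Resid.pResidual_normal p
  have hquot : IsPGroup p (H ⧸ pResidual p H) := Resid.quotient_pResidual
  set K := pResidual p H with hK
  have hKsub : K.IsSubnormal := IsSubnormal.step _ ⊤ le_top IsSubnormal.top (by infer_instance)
  have hKc : IsComponent K := ⟨hKsub, hq⟩
  have hKperf := Components.component_commutator hKc
  have hcomp : ∀ C : Subgroup H, IsComponent C → C = K := by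
    intro C hC
    apply Components.component_eq_of_le hC hKc
    have h1 := Components.component_commutator hC
    have h2 : ⁅C.map (QuotientGroup.mk' K), C.map (QuotientGroup.mk' K)⁆ = C.map (QuotientGroup.mk' K) := by
      rw [← map_commutator, h1]
    haveI := hquot.isNilpotent
    have h3 : C.map (QuotientGroup.mk' K) = ⊥ := by
      by_contra hne
      exact (IsSolvable.commutator_lt_of_ne_bot hne).ne h2
    intro x hx
    have h4 : QuotientGroup.mk' K x ∈ C.map (QuotientGroup.mk' K) := ⟨x, hx, rfl⟩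
    rw [h3, mem_bot] at h4
    exact (QuotientGroup.eq_one_iff x).mp h4
  have hfit : fittingSubgroup H ≤ K := by
    rw [Cores.fitting_eq_iSup_pCore]
    refine iSup_le fun q => ?_
    by_cases hqp : (q : ℕ) = p
    · rw [hqp, hO]; exact bot_le
    · intro x hx
      apply Resid.mem_pResidual
      haveI : Fact (q : ℕ).Prime := ⟨q.2⟩
      obtain ⟨k, hk⟩ := IsPGroup.iff_orderOf.mp (Cores.pCore_isPGroup (G := H) (q : ℕ)) ⟨x, hx⟩
      rw [← Subgroup.orderOf_coe] at hk
      change orderOf x = (q : ℕ) ^ k at hk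
      rw [hk]
      exact Nat.Coprime.pow_left _ ((Nat.coprime_primes q.2 hp.out).mpr hqp)
  have hlay : layer H = K := by
    obtain ⟨S, hS, hS'⟩ := Components.layer_eq_sSup_finset (G := H)
    apply le_antisymm
    · rw [← hS']
      exact sSup_le fun C hC => (hcomp C ((hS C).mp hC)).le
    · exact Components.component_le_layer hKc
  have hF : K = generalizedFittingSubgroup H := by
    apply le_antisymm
    · exact (Components.component_le_layer hKc).trans Components.layer_le_generalizedFitting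
    · rw [generalizedFittingSubgroup]
      exact sup_le (by first | exact hlay.le | exact hfit) (by first | exact hfit | exact hlay.le)
  have hCK : centralizer (K : Set H) ≤ K := by
    conv_lhs => rw [hF]
    rw [hF]
    exact Components.centralizer_generalizedFitting_le
  have hZ : ∀ Y : Subgroup H, IsPGroup p Y → Y ≤ centralizer (K : Set H) → Y = ⊥ := by
    intro Y hY hYC
    set Z := K ⊓ centralizer (K : Set H) with hZ
    haveI : Z.Normal := inferInstance
    have hYZ : Y ≤ Z := le_inf (hYC.trans hCK) hYC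
    have h1 : Y.subgroupOf Z ≤ pCore p Z := by
      apply Cores.le_pCore _ (hY.comap_of_injective Z.subtype Z.subtype_injective)
      constructor
      intro n hn g
      have h2 : g * n * g⁻¹ = n := by
        apply Subtype.ext
        show (g : H) * n * (g : H)⁻¹ = n
        have : (g : H) * n = n * g := mem_centralizer_iff.mp n.2.2 g g.2.1
        rw [this, mul_inv_cancel_right]
      rwa [h2]
    have h2 := (Subgroup.map_mono (f := Z.subtype) h1).trans (Cores.map_pCore_le Z)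
    rw [subgroupOf_map_subtype, inf_eq_left.mpr hYZ, hO] at h2
    exact le_bot_iff.mp h2
  have hY : ∀ Y : Subgroup H, IsPGroup p ↥Y → Y ≠ ⊥ → ⁅K, Y⁆ = K := by
    intro Y hYp hY1
    have h1 : ⁅K, Y⁆ ≤ K := commutator_le_left K Y
    have h2 : ((⁅K, Y⁆ : Subgroup H).subgroupOf K).Normal :=
      (normal_subgroupOf_iff_le_normalizer h1).mpr (Coprime.le_normalizer_commutator_left Y K)
    rcases Components.quasisimple_normal hq _ h2 with h3 | h3
    · exact le_antisymm h1 (subgroupOf_eq_top.mp h3)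
    · exfalso
      apply hY1
      apply hZ Y hYp
      have h4 : ⁅⁅K, Y⁆, K⁆ = ⊥ := by
        rw [commutator_eq_bot_iff_le_centralizer]
        intro x hx
        rw [mem_centralizer_iff]
        intro y hy
        have h5 : (⟨x, h1 hx⟩ : K) ∈ center K := h3 hx
        exact congrArg Subtype.val (mem_center_iff.mp h5 ⟨y, hy⟩)
      have h5 := Components.commutator_eq_bot_of_perfect hKperf h4
      rw [commutator_comm] at h5
      exact commutator_eq_bot_iff_le_centralizer.mp h5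
  have hC : ∀ C : Subgroup H, C.Normal → ¬ K ≤ C → (Nat.card ↥C).Coprime p := by
    intro C hCn hKC
    rw [Nat.coprime_comm, Nat.Prime.coprime_iff_not_dvd hp.out]
    intro hd
    obtain ⟨x, hx⟩ := exists_prime_orderOf_dvd_card' (G := C) p hd
    have h1 : IsPGroup p (zpowers (x : H)) := by
      rw [IsPGroup.iff_card, Nat.card_zpowers, Subgroup.orderOf_coe, hx]
      exact ⟨1, (pow_one p).symm⟩
    have h2 : zpowers (x : H) ≠ ⊥ := by
      rw [Ne, zpowers_eq_bot]
      intro h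
      have h3 : x = 1 := Subtype.ext h
      rw [h3, orderOf_one] at hx
      exact hp.out.one_lt.ne hx
    have h3 := hY _ h1 h2
    apply hKC
    rw [← h3]
    refine (commutator_mono le_rfl (?_ : zpowers (x : H) ≤ C)).trans (commutator_le_right K C)
    exact zpowers_le.mpr x.2
  refine ⟨hF, fun Y hYp hY1 => ⟨hY Y hYp hY1, ?_⟩, hC, ?_, ?_⟩
  · conv_lhs => rw [← hY Y hYp hY1]
    rw [commutator_le]
    intro k hk y hy
    have e : ⁅k, y⁆ = (k * y * k⁻¹) * y⁻¹ := by rw [commutatorElement_def]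
    rw [e]
    refine mul_mem ?_ (inv_mem ?_)
    · exact (le_iSup (fun k : ↥K => Y.map (MulAut.conj (k : H)).toMonoidHom) ⟨k, hk⟩) ⟨y, hy, rfl⟩
    · refine (le_iSup (fun k : ↥K => Y.map (MulAut.conj (k : H)).toMonoidHom) 1) ?_
      rw [mem_conj]
      simpa using hy
  · intro hcl
    obtain ⟨T⟩ := (inferInstance : Nonempty (Sylow p H))
    have h1 := (closed_iff'.mp hcl) _ T.2
    rw [hO] at h1
    have h2 : Nat.card (T : Subgroup H) = 1 := by rw [le_bot_iff.mp h1]; exact Subgroup.card_bot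
    have h3 := T.card_eq_multiplicity
    rw [h2] at h3
    have h4 : 0 < (Nat.card H).factorization p := hp.out.factorization_pos_of_dvd Nat.card_pos.ne' hpd
    have h5 : 1 < p ^ (Nat.card H).factorization p := Nat.one_lt_pow h4.ne' hp.out.one_lt
    omega
  · intro N hN hNc
    by_contra hKN
    apply hNc
    haveI := hN
    rw [closed_iff]
    intro Q hQN hQ
    have h1 := hC N hN hKN
    obtain ⟨k, hk⟩ := IsPGroup.iff_card.mp hQ
    have h2 : Nat.card Q ∣ Nat.card N := Subgroup.card_dvd_of_le hQN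
    have h3 : Nat.card Q = 1 := by
      rcases Nat.eq_zero_or_pos k with h | h
      · rw [hk, h, pow_zero]
      · exfalso
        have h4 : p ∣ Nat.card N := (dvd_pow_self p h.ne').trans (hk ▸ h2)
        have h5 := Nat.Coprime.coprime_dvd_left h4 h1
        rw [Nat.coprime_self] at h5
        exact hp.out.one_lt.ne' h5
    rw [Subgroup.card_eq_one.mp h3]
    exact bot_le

end Cfsg.Agent.Lib.PRed
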