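import Cfsg.Agent.Lib.PRedG

/-!
# weakly closed and large subgroups, part 2
-/

set_option autoImplicit false

namespace Cfsg.Agent.Lib.PRed

open Subgroup POf PIrr WClos
open scoped commutatorElement

variable {H : Type*} [Group H] {p : ℕ}

local notation "cj[" Q ", " g "]" => Subgroup.map (MulEquiv.toMonoidHom (MulAut.conj g)) Q

theorem wc_le_normalizer [Finite H] [Fact p.Prime] {Q : Subgroup H} (hQp : IsPGroup p Q)
    (hwc : IsWeaklyClosedSubgroup p Q) {R : Subgroup H} (hR : IsPGroup p R) (h : Q ≤ normalizer (R : Set H)) :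
    R ≤ normalizer (Q : Set H) := by
  have h1 := wc_NC hwc (Q ⊔ R) (isPGroup_sup hQp hR h) le_sup_left
  exact le_sup_right.trans (le_normalizer.trans h1)

/-- the common argument: `E` acts on `O` faithfully for `p'`-elements, `[O,Q]` centralised by `E` -/
theorem core_arg [Finite H] [hp : Fact p.Prime] {Q : Subgroup H} (hQp : IsPGroup p Q)
    (hwc : IsWeaklyClosedSubgroup p Q) (hCQ : centralizer (Q : Set H) ≤ Q) {O E : Subgroup H} (hO : IsPGroup p O)
    (hQO : Q ≤ normalizer (O : Set H)) (hEO : E ≤ normalizer (O : Set H)) (hQE : Q ≤ normalizer (E : Set H))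
    (hfaith : ∀ z ∈ E, (orderOf z).Coprime p → z ∈ centralizer (O : Set H) → z = 1)
    (hOQ : ⁅O, Q⁆ ≤ centralizer (E : Set H))
    (hQcE : E ≤ normalizer (Q : Set H) → Q ⊓ E ≤ centralizer (E : Set H)) :
    IsPGroup p E ∧ ⁅Q, E⁆ ≤ Q ⊓ E := by
  have hOQn : O ≤ normalizer ((⁅O, Q⁆ : Subgroup H) : Set H) := Coprime.le_normalizer_commutator_left Q O
  have hOQO : ⁅O, Q⁆ ≤ O := Coprime.commutator_le_of_normalizes hQO
  have hQE' : ⁅Q, E⁆ ≤ E := by rw [commutator_comm]; exact Coprime.commutator_le_of_normalizes hQE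
  -- `[Q,E]` acts on `O` with commutators in `[O,Q]`
  have hEC : ∀ d ∈ E, d ∈ centralizer ((⁅O, Q⁆ : Subgroup H) : Set H) := fun d hd => (le_centralizer_iff.mp hOQ) hd
  let S : Subgroup H :=
    { carrier := {s | s ∈ normalizer (O : Set H) ∧ s ∈ normalizer ((⁅O, Q⁆ : Subgroup H) : Set H) ∧ ∀ o ∈ O, ⁅o, s⁆ ∈ ⁅O, Q⁆}
      one_mem' := ⟨one_mem _, one_mem _, fun o _ => by rw [commutatorElement_one_right]; exact one_mem _⟩
      mul_mem' := by
        rintro a b ⟨ha, ha', ha''⟩ ⟨hb, hb', hb''⟩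
        refine ⟨mul_mem ha hb, mul_mem ha' hb', fun o ho => ?_⟩
        have e : ⁅o, a * b⁆ = ⁅o, a⁆ * (a * ⁅o, b⁆ * a⁻¹) := by simp only [commutatorElement_def]; group
        rw [e]
        exact mul_mem (ha'' o ho) ((mem_normalizer_iff.mp ha' _).mp (hb'' o ho))
      inv_mem' := by
        rintro a ⟨ha, ha', ha''⟩
        refine ⟨inv_mem ha, inv_mem ha', fun o ho => ?_⟩
        have e : ⁅o, a⁻¹⁆ = a⁻¹ * ⁅o, a⁆⁻¹ * a⁻¹⁻¹ := by simp only [commutatorElement_def]; group
        rw [e]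
        exact (mem_normalizer_iff.mp (inv_mem ha') _).mp (inv_mem (ha'' o ho)) }
  have hEn : E ≤ normalizer ((⁅O, Q⁆ : Subgroup H) : Set H) :=
    fun d hd => centralizer_le_normalizer _ (hEC d hd)
  have hQS : Q ≤ S := fun q hq => ⟨hQO hq, Coprime.le_normalizer_commutator_right Q O hq,
    fun o ho => commutator_mem_commutator ho hq⟩
  have hSE : ∀ d ∈ E, ∀ s ∈ S, d * s * d⁻¹ ∈ S := by
    intro d hd s hs
    refine ⟨mul_mem (mul_mem (hEO hd) hs.1) (inv_mem (hEO hd)), mul_mem (mul_mem (hEn hd) hs.2.1) (inv_mem (hEn hd)), ?_⟩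
    intro o ho
    have hod : d⁻¹ * o * d ∈ O := by
      have := (mem_normalizer_iff.mp (inv_mem (hEO hd)) o).mp ho
      rwa [inv_inv] at this
    have e : ⁅o, d * s * d⁻¹⁆ = d * ⁅d⁻¹ * o * d, s⁆ * d⁻¹ := by simp only [commutatorElement_def]; group
    rw [e]
    exact (mem_normalizer_iff.mp (hEn hd) _).mp (hs.2.2 _ hod)
  have hQES : ⁅Q, E⁆ ≤ S := by
    rw [commutator_le]
    intro q hq d hd
    have e : ⁅q, d⁆ = q * (d * q⁻¹ * d⁻¹) := by rw [commutatorElement_def]; group
    rw [e]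
    exact mul_mem (hQS hq) (hSE d hd _ (inv_mem (hQS hq)))
  have hQEp : IsPGroup p (⁅Q, E⁆ : Subgroup H) := by
    apply isPGroup_of_coprime
    intro z hz ho
    apply hfaith z (hQE' hz) ho
    exact cent_of_quad hO (hEO (hQE' hz)) ho (hQES hz).2.2
      (fun w hw => mem_centralizer_iff.mp (hEC z (hQE' hz)) w hw) hOQn
  -- `E` normalises `Q`
  have hEQ : E ≤ normalizer (Q : Set H) := by
    have hQQE : Q ≤ normalizer ((⁅Q, E⁆ : Subgroup H) : Set H) := Coprime.le_normalizer_commutator_left E Q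
    intro d hd
    rw [mem_normalizer_conj]
    refine wc_in hwc hQp (isPGroup_sup hQp hQEp hQQE) le_sup_left ?_
    rintro _ ⟨q, hq, rfl⟩
    show d * q * d⁻¹ ∈ _
    have e : d * q * d⁻¹ = q * ⁅q⁻¹, d⁆ := by rw [commutatorElement_def]; group
    rw [e]
    exact mul_mem ((le_sup_left : Q ≤ _) hq) ((le_sup_right : ⁅Q, E⁆ ≤ _) (commutator_mem_commutator (Q.inv_mem hq) hd))
  have h1 := comm_of_normalize hQE hEQ
  refine ⟨?_, h1⟩
  apply isPGroup_of_coprime
  intro x hx ho
  have hxQ : x ∈ centralizer (Q : Set H) := by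
    refine cent_of_quad hQp (hEQ hx) ho (W := Q ⊓ E) ?_ ?_ ?_
    · intro v hv
      exact h1 (commutator_mem_commutator hv hx)
    · intro w hw
      exact (mem_centralizer_iff.mp (hQcE hEQ hw) x hx).symm
    · intro q hq
      rw [mem_normalizer_conj, conj_inf, conj_of_mem hq, mem_normalizer_conj.mp (hQE hq)]
  exact eq_one_of_coprime hQp (hCQ hxQ) ho

theorem pCoreOf_mono_normal {L D : Subgroup H} (hD : D ≤ L) (hn : L ≤ normalizer (D : Set H)) :
    pCoreOf p D ≤ pCoreOf p L := by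
  refine POf.le_pCoreOf (POf.pCoreOf_le.trans hD) pCoreOf_isPGroup ?_
  intro x hx
  rw [mem_normalizer_conj, ← pCoreOf_conj, mem_normalizer_conj.mp (hn hx)]

/-- Lemma A: `G₁` of characteristic `p` containing `L` and `C(O_p(L))` -/
theorem lemA [Finite H] [hp : Fact p.Prime] {Q : Subgroup H} (hQp : IsPGroup p Q)
    (hwc : IsWeaklyClosedSubgroup p Q) (hCQ : centralizer (Q : Set H) ≤ Q) {L K : Subgroup H} (hQL : Q ≤ L)
    (hLK : L ≤ K) (hDK : centralizer (pCoreOf p L : Set H) ≤ K)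
    (hK : K ⊓ centralizer (pCoreOf p K : Set H) ≤ pCoreOf p K) :
    ⁅Q, centralizer (pCoreOf p L : Set H)⁆ ≤ Q ⊓ pCoreOf p L ∧ IsPGroup p (centralizer (pCoreOf p L : Set H)) ∧
      L ⊓ centralizer (pCoreOf p L : Set H) ≤ pCoreOf p L := by
  set P := pCoreOf p L with hP
  set D := centralizer (P : Set H) with hD
  have hLD : L ≤ normalizer (D : Set H) := le_normalizer_pCoreOf.trans (normalizer_le_normalizer_centralizer _)
  have hLDn : L ≤ normalizer ((L ⊓ D : Subgroup H) : Set H) := by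
    intro x hx
    rw [mem_normalizer_conj, conj_inf, conj_of_mem hx, mem_normalizer_conj.mp (hLD hx)]
  have hKL : pCoreOf p K ⊓ L ≤ P := by
    refine POf.le_pCoreOf inf_le_right (pCoreOf_isPGroup.to_le inf_le_left) ?_
    intro x hx
    rw [mem_normalizer_conj, conj_inf, conj_of_mem hx, mem_normalizer_conj.mp (le_normalizer_pCoreOf (hLK hx))]
  have hQO : Q ≤ normalizer (pCoreOf p K : Set H) := (hQL.trans hLK).trans le_normalizer_pCoreOf
  have hON : pCoreOf p K ≤ normalizer (Q : Set H) := wc_le_normalizer hQp hwc pCoreOf_isPGroup hQO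
  have hQP : D ≤ normalizer (Q : Set H) → Q ⊓ D ≤ P := by
    intro hDQ
    have h1 : Q ⊓ D ≤ pCoreOf p (L ⊓ D) := by
      refine POf.le_pCoreOf (le_inf (inf_le_left.trans hQL) inf_le_right) (hQp.to_le inf_le_left) ?_
      intro x hx
      rw [mem_normalizer_conj, conj_inf, conj_of_mem hx.2, mem_normalizer_conj.mp (hDQ hx.2)]
    exact h1.trans (pCoreOf_mono_normal inf_le_left hLDn)
  obtain ⟨h1, h2⟩ := core_arg hQp hwc hCQ (O := pCoreOf p K) (E := D) pCoreOf_isPGroup hQO
    (hDK.trans le_normalizer_pCoreOf) (hQL.trans hLD) (by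
      intro z hz ho hzO
      exact eq_one_of_coprime pCoreOf_isPGroup (hK ⟨hDK hz, hzO⟩) ho) (by
      rw [le_centralizer_iff]
      apply centralizer_le
      refine le_trans ?_ hKL
      have := comm_of_normalize hON hQO
      exact le_inf (this.trans inf_le_left) ((this.trans inf_le_right).trans hQL)) (by
      intro hDQ
      rw [le_centralizer_iff]
      exact centralizer_le (hQP hDQ))
  have hDQ : D ≤ normalizer (Q : Set H) := (normalize_of_comm h2).2
  refine ⟨le_inf (h2.trans inf_le_left) (h2.trans (hQP hDQ)), h1, ?_⟩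
  exact POf.le_pCoreOf inf_le_left (h1.to_le inf_le_right) hLDn

/-- Lemma B: characteristic `p` from the centralizer of an element -/
theorem lemB [Finite H] [hp : Fact p.Prime] {Q : Subgroup H} (hQp : IsPGroup p Q)
    (hwc : IsWeaklyClosedSubgroup p Q) (hCQ : centralizer (Q : Set H) ≤ Q) {M : Subgroup H} (hQM : Q ≤ M)
    {y : H} (hyM : y ∈ pCoreOf p M) (hyQ : y ∈ centralizer (Q : Set H))
    (hy : centralizer {y} ⊓ centralizer (pCoreOf p (centralizer {y}) : Set H) ≤ pCoreOf p (centralizer {y})) :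
    M ⊓ centralizer (pCoreOf p M : Set H) ≤ pCoreOf p M := by
  set D := M ⊓ centralizer (pCoreOf p M : Set H) with hD
  set K : Subgroup H := centralizer {y} with hK
  set O := pCoreOf p K with hO
  have hMD : M ≤ normalizer (D : Set H) := by
    intro x hx
    rw [mem_normalizer_conj, hD, conj_inf, conj_of_mem hx, centralizer_conj, mem_normalizer_conj.mp (le_normalizer_pCoreOf hx)]
  have hDK : D ≤ K := by
    intro x hx
    rw [hK, mem_centralizer_singleton_iff]
    exact (mem_centralizer_iff.mp hx.2 y hyM).symm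
  have hQK : Q ≤ K := by
    intro x hx
    rw [hK, mem_centralizer_singleton_iff]
    exact mem_centralizer_iff.mp hyQ x hx
  have hDO : D ≤ normalizer (O : Set H) := hDK.trans le_normalizer_pCoreOf
  have hQO : Q ≤ normalizer (O : Set H) := hQK.trans le_normalizer_pCoreOf
  have hON : O ≤ normalizer (Q : Set H) := wc_le_normalizer hQp hwc pCoreOf_isPGroup hQO
  have hOp : IsPGroup p O := pCoreOf_isPGroup
  -- `p'`-elements of `D` centralise `O ∩ M`
  have hODp : O ⊓ D ≤ pCoreOf p M := by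
    have h1 : O ⊓ D ≤ pCoreOf p D := by
      refine POf.le_pCoreOf inf_le_right (hOp.to_le inf_le_left) ?_
      intro x hx
      rw [mem_normalizer_conj, conj_inf, conj_of_mem hx, mem_normalizer_conj.mp (hDO hx)]
    exact h1.trans (pCoreOf_mono_normal inf_le_left hMD)
  have hres : ∀ x ∈ D, (orderOf x).Coprime p → x ∈ centralizer ((O ⊓ M : Subgroup H) : Set H) := by
    intro x hx ho
    have hxn : x ∈ normalizer ((O ⊓ M : Subgroup H) : Set H) := by
      rw [mem_normalizer_conj, conj_inf, mem_normalizer_conj.mp (hDO hx), conj_of_mem hx.1]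
    refine cent_of_quad (hOp.to_le inf_le_left) hxn ho (W := O ⊓ D) ?_ ?_ ?_
    · intro v hv
      constructor
      · have : ⁅v, x⁆ = v * (x * v⁻¹ * x⁻¹) := by rw [commutatorElement_def]; group
        rw [this]
        exact Subgroup.mul_mem _ hv.1 ((mem_normalizer_iff.mp (hDO hx) _).mp (Subgroup.inv_mem _ hv.1))
      · have : ⁅v, x⁆ = (v * x * v⁻¹) * x⁻¹ := by rw [commutatorElement_def]
        rw [this]
        exact D.mul_mem ((mem_normalizer_iff.mp (hMD hv.2) _).mp hx) (D.inv_mem hx)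
    · intro w hw
      exact mem_centralizer_iff.mp hx.2 w (hODp hw)
    · intro v hv
      rw [mem_normalizer_conj, conj_inf, conj_of_mem hv.1, mem_normalizer_conj.mp (hMD hv.2)]
  set D₀ := (pResidual p D).map D.subtype with hD₀
  have hD₀D : D₀ ≤ D := res_le p D
  have hMD₀ : M ≤ normalizer (D₀ : Set H) := by
    apply le_normalizer_of_conj
    intro x hx
    rw [hD₀, res_eq, map_le_iff_le_comap, closure_le]
    rintro z ⟨hz, hzo⟩
    show x * z * x⁻¹ ∈ Subgroup.closure _
    refine subset_closure ⟨(mem_normalizer_iff.mp (hMD hx) z).mp hz, ?_⟩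
    rwa [orderOf_conj]
  have hD₀c : D₀ ≤ centralizer ((O ⊓ M : Subgroup H) : Set H) := by
    rw [hD₀, res_le_iff]; exact hres
  have hQD₀ : Q ≤ normalizer (D₀ : Set H) := hQM.trans hMD₀
  have hcomm := comm_of_normalize hON hQO
  obtain ⟨h1, h2⟩ := core_arg hQp hwc hCQ (O := O) (E := D₀) hOp hQO (hD₀D.trans hDO) hQD₀ (by
      intro z hz ho hzO
      exact eq_one_of_coprime hOp (hy ⟨hDK (hD₀D hz), hzO⟩) ho) (by
      rw [le_centralizer_iff]
      refine hD₀c.trans (centralizer_le ?_)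
      exact le_inf (hcomm.trans inf_le_left) ((hcomm.trans inf_le_right).trans hQM)) (by
      intro hEQ
      have h3 : Q ⊓ D₀ ≤ pCoreOf p M := by
        have h4 : Q ⊓ D₀ ≤ pCoreOf p D₀ := by
          refine POf.le_pCoreOf inf_le_right (hQp.to_le inf_le_left) ?_
          intro x hx
          rw [mem_normalizer_conj, conj_inf, conj_of_mem hx, mem_normalizer_conj.mp (hEQ hx)]
        exact h4.trans (pCoreOf_mono_normal (hD₀D.trans inf_le_left) hMD₀)
      rw [le_centralizer_iff]
      exact (hD₀D.trans inf_le_right).trans (centralizer_le h3))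
  have hDp : IsPGroup p D := by
    apply isPGroup_of_coprime
    intro x hx ho
    exact eq_one_of_coprime h1 (mem_res hx ho) ho
  exact POf.le_pCoreOf inf_le_left hDp hMD

theorem char_iff {L : Subgroup H} (h : centralizer (pCore p L : Set L) ≤ pCore p L) :
    L ⊓ centralizer (pCoreOf p L : Set H) ≤ pCoreOf p L := charP_inf h

/-- S2842 -/
theorem s2842 [Finite H] [hp : Fact p.Prime] (Q : Subgroup H) (hQp : IsPGroup p ↥Q)
    (hwc : IsWeaklyClosedSubgroup p Q) (hCQ : centralizer ((Q : Subgroup H) : Set H) ≤ Q) (L : Subgroup H) (hQL : Q ≤ L)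
    (hyp : centralizer (pCore p H : Set H) ≤ pCore p H ∨ ∃ y : H, y ≠ 1 ∧
      y ∈ (pCoreOf p L) ⊓ centralizer ((Q : Subgroup H) : Set H) ∧
      centralizer (pCore p ↥(centralizer ({y} : Set H)) : Set ↥(centralizer ({y} : Set H))) ≤
        pCore p ↥(centralizer ({y} : Set H))) :
    ⁅Q, centralizer (((pCoreOf p L) : Subgroup H) : Set H)⁆ ≤ Q ⊓ (pCoreOf p L) ∧
      IsPGroup p ↥(centralizer (((pCoreOf p L) : Subgroup H) : Set H)) ∧
      centralizer (pCore p ↥L : Set ↥L) ≤ pCore p ↥L := by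
  have hmain : ⁅Q, centralizer (((pCoreOf p L) : Subgroup H) : Set H)⁆ ≤ Q ⊓ (pCoreOf p L) ∧
      IsPGroup p ↥(centralizer (((pCoreOf p L) : Subgroup H) : Set H)) ∧
      L ⊓ centralizer (((pCoreOf p L) : Subgroup H) : Set H) ≤ pCoreOf p L := by
    rcases hyp with h | ⟨y, _, ⟨hyL, hyQ⟩, hy⟩
    · refine lemA hQp hwc hCQ hQL (K := ⊤) le_top le_top ?_
      rw [pCoreOf_top]
      exact inf_le_right.trans h
    · set D := centralizer (pCoreOf p L : Set H) with hD
      have hLD : L ≤ normalizer (D : Set H) := le_normalizer_pCoreOf.trans (normalizer_le_normalizer_centralizer _)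
      have hPM : pCoreOf p L ≤ pCoreOf p (L ⊔ D) := by
        refine POf.le_pCoreOf (POf.pCoreOf_le.trans le_sup_left) pCoreOf_isPGroup ?_
        refine sup_le le_normalizer_pCoreOf ?_
        exact centralizer_le_normalizer _
      have h1 : (L ⊔ D) ⊓ centralizer (pCoreOf p (L ⊔ D) : Set H) ≤ pCoreOf p (L ⊔ D) :=
        lemB hQp hwc hCQ (hQL.trans le_sup_left) (hPM hyL) hyQ (char_iff hy)
      exact lemA hQp hwc hCQ hQL (K := L ⊔ D) le_sup_left le_sup_right h1
  exact ⟨hmain.1, hmain.2.1, charP_of_inf hmain.2.2⟩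

/-! ### large subgroups -/

theorem exists_fixed' [Finite H] [hp : Fact p.Prime] {Q Y : Subgroup H} (hQ : IsPGroup p Q) (hY : IsPGroup p Y)
    (hY1 : Y ≠ ⊥) (hn : Q ≤ normalizer (Y : Set H)) : ∃ v ∈ Y, v ≠ 1 ∧ v ∈ centralizer (Q : Set H) := by
  obtain ⟨v, hv, hv1, hvc⟩ := exists_fixed (isPGroup_sup hQ hY hn) (le_sup_right : Y ≤ Q ⊔ Y)
    (sup_le hn le_normalizer) hY1
  exact ⟨v, hv, hv1, centralizer_le (le_sup_left : Q ≤ Q ⊔ Y) hvc⟩

/-- `C(Y) ≤ N(Q)` -/
theorem cent_le_normalizer [Finite H] [hp : Fact p.Prime] {Q Y : Subgroup H} (hQ : IsPGroup p Q) (hL : IsLarge Q)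
    (hY : IsPGroup p Y) (hY1 : Y ≠ ⊥) (hn : Q ≤ normalizer (Y : Set H)) :
    centralizer (Y : Set H) ≤ normalizer (Q : Set H) := by
  obtain ⟨v, hv, hv1, hvc⟩ := exists_fixed' hQ hY hY1 hn
  have h1 := hL.2 (zpowers v) (zpowers_le.mpr hvc) (by rwa [Ne, zpowers_eq_bot])
  refine le_trans ?_ h1
  refine le_trans ?_ (centralizer_le_normalizer _)
  exact centralizer_le (zpowers_le.mpr hv)

/-- S2843 -/
theorem s2843 [Finite H] [hp : Fact p.Prime] (Q : Subgroup H) (hQp : IsPGroup p ↥Q) (hQ1 : Q ≠ ⊥) (hL : IsLarge Q)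
    (L : Subgroup H) (hQL : Q ≤ L) (Y : Subgroup H) (hYp : IsPGroup p ↥Y) (hY1 : Y ≠ ⊥)
    (hLY : L ≤ normalizer ((Y : Subgroup H) : Set H)) :
    weakClosure Q L = weakClosure Q (L ⊔ centralizer ((Y : Subgroup H) : Set H)) ∧
      ⁅weakClosure Q L, centralizer ((Y : Subgroup H) : Set H)⁆ ≤ (pCoreOf p (weakClosure Q L)) ∧
      centralizer ((Y : Subgroup H) : Set H) ≤ normalizer (((weakClosure Q L) : Subgroup H) : Set H) := by
  have hwc := large_wc hQp hQ1 hL
  set C := centralizer (Y : Set H) with hC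
  have hLC : L ≤ normalizer (C : Set H) := hLY.trans (normalizer_le_normalizer_centralizer _)
  have h1 : weakClosure Q L = ⨆ k : ↥L, cj[Q, (k : H)] := (s2840 Q hQp hwc L hQL _ rfl).1
  have hCg : ∀ g ∈ L, C ≤ normalizer ((cj[Q, g] : Subgroup H) : Set H) := fun g hg =>
    cent_le_normalizer (isPGroup_conj hQp g) (large_conj hL g) hYp hY1 (by
      have := conj_mono hQL g
      rw [conj_of_mem hg] at this
      exact this.trans hLY)
  have hCn : C ≤ normalizer ((weakClosure Q L : Subgroup H) : Set H) := by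
    apply le_normalizer_of_conj
    intro x hx
    rw [h1, Subgroup.map_iSup]
    refine iSup_le fun k => ?_
    rw [mem_normalizer_conj.mp (hCg k k.2 hx)]
    exact le_iSup (fun k : ↥L => cj[Q, (k : H)]) k
  have hQW : Q ≤ weakClosure Q L := by
    rw [h1]
    refine le_trans ?_ (le_iSup (fun k : ↥L => cj[Q, (k : H)]) 1)
    intro x hx
    rw [mem_conj]
    simpa using hx
  refine ⟨?_, ?_, hCn⟩
  · apply le_antisymm
    · refine iSup_le fun g => ?_
      exact le_iSup (fun g : {g : H // cj[Q, g] ≤ L ⊔ C} => cj[Q, (g : H)]) ⟨g, g.2.trans le_sup_left⟩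
    · have h2 := (s2840 Q hQp hwc (L ⊔ C) (hQL.trans le_sup_left) _ rfl).1
      rw [h2]
      refine iSup_le fun k => ?_
      have hk : (k : H) ∈ C ⊔ L := by
        have := k.2
        exact (sup_comm L C).le this
      obtain ⟨l, hl, c, hc, e⟩ := (Basic.mem_sup_iff_right hLC).mp hk
      rw [← e, ← conj_conj]
      have h3 : cj[Q, c] = Q := by
        have := hCg 1 L.one_mem hc
        have h4 : cj[Q, (1 : H)] = Q := conj_of_mem Q.one_mem
        rw [h4] at this
        exact mem_normalizer_conj.mp this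
      rw [h3, h1]
      exact le_iSup (fun k : ↥L => cj[Q, (k : H)]) ⟨l, hl⟩
  · -- `[L°, C] ≤ O_p(L°)`
    set W := weakClosure Q L with hW
    have hWL : W ≤ L := by
      rw [h1]
      refine iSup_le fun k => ?_
      have := conj_mono hQL (k : H)
      rwa [conj_of_mem k.2] at this
    have hWn : W ≤ normalizer ((C ⊓ W : Subgroup H) : Set H) := by
      intro x hx
      rw [mem_normalizer_conj, conj_inf, conj_of_mem hx, mem_normalizer_conj.mp (hLC (hWL hx))]
    have hstep : ∀ g ∈ L, ⁅cj[Q, g], C⁆ ≤ pCoreOf p W := by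
      intro g hg
      have hQgW : cj[Q, g] ≤ W := by rw [h1]; exact le_iSup (fun k : ↥L => cj[Q, (k : H)]) ⟨g, hg⟩
      have hQgC : cj[Q, g] ≤ normalizer (C : Set H) := (hQgW.trans hWL).trans hLC
      have h2 := comm_of_normalize hQgC (hCg g hg)
      refine h2.trans ?_
      have h3 : cj[Q, g] ⊓ C ≤ pCoreOf p (C ⊓ W) := by
        refine POf.le_pCoreOf (le_inf inf_le_right (inf_le_left.trans hQgW)) ((isPGroup_conj hQp g).to_le inf_le_left) ?_
        intro x hx
        rw [mem_normalizer_conj, conj_inf, conj_of_mem hx.1, mem_normalizer_conj.mp (hCg g hg hx.1)]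
      exact h3.trans (pCoreOf_mono_normal inf_le_right hWn)
    have hCO : C ≤ normalizer ((pCoreOf p W : Subgroup H) : Set H) := by
      intro x hx
      rw [mem_normalizer_conj, ← pCoreOf_conj, mem_normalizer_conj.mp (hCn hx)]
    let S : Subgroup H :=
      { carrier := {w | w ∈ normalizer ((pCoreOf p W : Subgroup H) : Set H) ∧ ∀ c ∈ C, ⁅w, c⁆ ∈ pCoreOf p W}
        one_mem' := ⟨one_mem _, fun c _ => by rw [commutatorElement_one_left]; exact one_mem _⟩
        mul_mem' := by
          rintro a b ⟨ha, ha'⟩ ⟨hb, hb'⟩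
          refine ⟨mul_mem ha hb, fun c hc => ?_⟩
          have e : ⁅a * b, c⁆ = (a * ⁅b, c⁆ * a⁻¹) * ⁅a, c⁆ := by simp only [commutatorElement_def]; group
          rw [e]
          exact mul_mem ((mem_normalizer_iff.mp ha _).mp (hb' c hc)) (ha' c hc)
        inv_mem' := by
          rintro a ⟨ha, ha'⟩
          refine ⟨inv_mem ha, fun c hc => ?_⟩
          have e : ⁅a⁻¹, c⁆ = a⁻¹ * ⁅a, c⁆⁻¹ * a⁻¹⁻¹ := by simp only [commutatorElement_def]; group
          rw [e]
          exact (mem_normalizer_iff.mp (inv_mem ha) _).mp (inv_mem (ha' c hc)) }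
    have hWS : W ≤ S := by
      conv_lhs => rw [h1]
      refine iSup_le fun k => ?_
      intro x hx
      have hxW : x ∈ W := by rw [h1]; exact le_iSup (fun k : ↥L => cj[Q, (k : H)]) k hx
      exact ⟨le_normalizer_pCoreOf hxW, fun c hc => hstep k k.2 (commutator_mem_commutator hx hc)⟩
    rw [commutator_le]
    intro w hw c hc
    exact (hWS hw).2 c hc

/-- first part of S2845 -/
theorem large_main [Finite H] [hp : Fact p.Prime] {Q : Subgroup H} (hQp : IsPGroup p ↥Q) (hQ1 : Q ≠ ⊥) (hL : IsLarge Q)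
    (L : Subgroup H) (hQL : Q ≤ L) (hO : pCore p ↥L ≠ ⊥) :
    IsPGroup p ↥(centralizer (((pCoreOf p L) : Subgroup H) : Set H)) ∧ centralizer (pCore p ↥L : Set ↥L) ≤ pCore p ↥L := by
  have hwc := large_wc hQp hQ1 hL
  have hO' : pCoreOf p L ≠ ⊥ := by
    intro h
    exact hO ((Subgroup.map_eq_bot_iff_of_injective _ L.subtype_injective).mp h)
  obtain ⟨y, hy, hy1, hyQ⟩ := exists_fixed' hQp pCoreOf_isPGroup hO' (hQL.trans le_normalizer_pCoreOf)
  have hKN : centralizer ({y} : Set H) ≤ normalizer (Q : Set H) := by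
    have h1 := hL.2 (zpowers y) (zpowers_le.mpr hyQ) (by rwa [Ne, zpowers_eq_bot])
    refine le_trans ?_ h1
    refine le_trans ?_ (centralizer_le_normalizer _)
    intro x hx
    rw [mem_centralizer_iff]
    intro z hz
    obtain ⟨n, rfl⟩ := mem_zpowers_iff.mp hz
    have h2 : Commute y x := (mem_centralizer_singleton_iff.mp hx).symm
    exact (h2.zpow_left n).eq
  have hQK : Q ≤ centralizer ({y} : Set H) := by
    intro x hx
    rw [mem_centralizer_singleton_iff]
    exact mem_centralizer_iff.mp hyQ x hx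
  have h1 : Q ≤ pCoreOf p (centralizer ({y} : Set H)) := POf.le_pCoreOf hQK hQp hKN
  have h2 := s2842 Q hQp hwc hL.1 L hQL (Or.inr ⟨y, hy1, ⟨hy, hyQ⟩, charP_of_inf (by
    refine inf_le_right.trans ((centralizer_le h1).trans (hL.1.trans h1)))⟩)
  exact ⟨h2.2.1, h2.2.2⟩

/-- S2845 -/
theorem s2845 [Finite H] [hp : Fact p.Prime] (Q : Subgroup H) (hQp : IsPGroup p ↥Q) (hQ1 : Q ≠ ⊥) (hL : IsLarge Q) :
    (∀ L : Subgroup H, Q ≤ L → pCore p ↥L ≠ ⊥ → IsPGroup p ↥(centralizer (((pCoreOf p L) : Subgroup H) : Set H)) ∧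
      centralizer (pCore p ↥L : Set ↥L) ≤ pCore p ↥L ∧
      (weakClosure Q L = Q ∨ centralizer (((weakClosure Q L) : Subgroup H) : Set H) = ⊥)) ∧
      (∀ R : Subgroup H, IsParabolic p R → pCore p ↥R ≠ ⊥ →
        centralizer (((pCoreOf p R) : Subgroup H) : Set H) ≤ (pCoreOf p R)) ∧ IsOfParabolicCharacteristic p H := by
  have hwc := large_wc hQp hQ1 hL
  have hpar : ∀ R : Subgroup H, IsParabolic p R → pCore p ↥R ≠ ⊥ →
      centralizer (((pCoreOf p R) : Subgroup H) : Set H) ≤ (pCoreOf p R) := by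
    rintro R ⟨T, hTR⟩ hO
    obtain ⟨h, hh⟩ := exists_conj_le T hQp
    have h1 := (large_main (isPGroup_conj hQp h) (by
      intro h2
      apply hQ1
      rw [← conj_inv_conj Q h, h2, Subgroup.map_bot]) (large_conj hL h) R (hh.trans hTR) hO).1
    have hn : R ≤ normalizer ((centralizer (pCoreOf p R : Set H) : Subgroup H) : Set H) :=
      le_normalizer_pCoreOf.trans (normalizer_le_normalizer_centralizer _)
    have h2 : IsPGroup p ((T : Subgroup H) ⊔ centralizer (pCoreOf p R : Set H) : Subgroup H) :=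
      isPGroup_sup T.2 h1 (hTR.trans hn)
    have h3 : centralizer (pCoreOf p R : Set H) ≤ (T : Subgroup H) := by
      have h4 : (T : Subgroup H) ⊔ centralizer (pCoreOf p R : Set H) = T := T.3 h2 le_sup_left
      rw [← h4]; exact le_sup_right
    exact POf.le_pCoreOf (h3.trans hTR) h1 hn
  refine ⟨?_, hpar, ?_⟩
  · intro L hQL hO
    obtain ⟨h1, h2⟩ := large_main hQp hQ1 hL L hQL hO
    refine ⟨h1, h2, ?_⟩
    by_cases h3 : weakClosure Q L = Q
    · exact Or.inl h3
    · right
      have h4 := (s2840 Q hQp hwc L hQL _ rfl).1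
      have h5 : ∃ k ∈ L, cj[Q, k] ≠ Q := by
        by_contra hc
        push Not at hc
        apply h3
        rw [h4]
        apply le_antisymm
        · exact iSup_le fun k => (hc k k.2).le
        · refine le_trans ?_ (le_iSup (fun k : ↥L => cj[Q, (k : H)]) 1)
          exact (hc 1 L.one_mem).ge
      obtain ⟨k, hk, hkne⟩ := h5
      have h6 := large_disj hQp hQ1 hL (g := k) (fun h => hkne (mem_normalizer_conj.mp h))
      rw [eq_bot_iff, ← h6]
      refine le_inf (centralizer_le ?_) (centralizer_le ?_)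
      · rw [h4]
        refine le_trans ?_ (le_iSup (fun k : ↥L => cj[Q, (k : H)]) 1)
        have : cj[Q, ((1 : L) : H)] = Q := conj_of_mem Q.one_mem
        rw [this]
      · rw [h4]
        exact le_iSup (fun k : ↥L => cj[Q, (k : H)]) ⟨k, hk⟩
  · intro R hR hR1 hRp
    have h1 : pCore p ↥(normalizer (R : Set H)) ≠ ⊥ := by
      intro h
      apply hR1
      have h2 : R ≤ pCoreOf p (normalizer (R : Set H)) := POf.le_pCoreOf le_normalizer hR le_rfl
      rw [pCoreOf, h, Subgroup.map_bot] at h2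
      exact le_bot_iff.mp h2
    exact charP_of_inf (inf_le_right.trans (hpar _ hRp h1))

end Cfsg.Agent.Lib.PRed
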