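import Cfsg.Agent.Lib.PRedH

/-!
# `Y`-minimal groups; asymmetric `Y_M`
-/

set_option autoImplicit false

namespace Cfsg.Agent.Lib.PRed

open Subgroup POf PIrr WClos
open scoped commutatorElement

variable {H : Type*} [Group H] {p : ℕ}

local notation "cj[" Q ", " g "]" => Subgroup.map (MulEquiv.toMonoidHom (MulAut.conj g)) Q

theorem coatom_conj {M : Subgroup H} (hM : IsCoatom M) (g : H) : IsCoatom cj[M, g] :=
  (OrderIso.isCoatom_iff (MulEquiv.mapSubgroup (MulAut.conj g)) M).mpr hM

theorem coatom_comap {K : Type*} [Group K] {f : H →* K} (hf : Function.Surjective f) {M : Subgroup K} (hM : IsCoatom M) :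
    IsCoatom (M.comap f) := Subgroup.isCoatom_comap_of_surjective hf hM

theorem coatom_map {K : Type*} [Group K] {f : H →* K} (hf : Function.Surjective f) {M : Subgroup H} (hM : IsCoatom M)
    (hker : f.ker ≤ M) : IsCoatom (M.map f) := by
  constructor
  · intro h3
    apply hM.1
    have h4 := congrArg (Subgroup.comap f) h3
    rwa [Subgroup.comap_map_eq_self hker, Subgroup.comap_top] at h4
  · intro K' hK
    have h4 : M < K'.comap f := by
      have h5 : (M.map f).comap f < K'.comap f := (comap_lt_comap_of_surjective hf).mpr hK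
      rwa [Subgroup.comap_map_eq_self hker] at h5
    have h5 := hM.2 _ h4
    rw [← map_comap_eq_self_of_surjective hf K', h5]
    exact Subgroup.map_top_of_surjective _ hf

/-- S2836 -/
theorem s2836 {L : Type*} [Group L] [Finite L] [hp : Fact p.Prime] (L₀ : Subgroup L) (hL₀ : IsCoatom L₀)
    (T : Sylow p ↥L₀) (Y : Subgroup L) (hYT : Y ≤ (T : Subgroup ↥L₀).map L₀.subtype) (hmin : IsMinimalOver Y) :
    (pCore p L ≤ L₀.normalCore ∧
      (L₀.normalCore).map (QuotientGroup.mk' (pCore p L)) = frattini (L ⧸ pCore p L) ∧ IsPClosed p ↥(L₀.normalCore)) ∧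
      ∀ (N : Subgroup L) [N.Normal], N ≤ L₀ → IsPClosed p ↥N ∧ Group.IsNilpotent (↥N ⧸ pCore p ↥N) ∧
        (Nat.card (↥N ⧸ pCore p ↥N)).Coprime p := by
  obtain ⟨h1, h2, ⟨P, hP⟩, h4, h5, _⟩ := min_over L₀ hL₀ T Y hYT hmin
  haveI hOn : (pCore p L).Normal := Cores.pCore_normal p
  set O := pCore p L with hO
  set D := L₀.normalCore with hD
  have hDL₀ : D ≤ L₀ := normalCore_le L₀
  have hOD : O ≤ D := (normal_le_normalCore).mpr h2
  have hPL₀ : (P : Subgroup L) ≤ L₀ := by rw [hP]; exact map_subtype_le _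
  have hYP : Y ≤ (P : Subgroup L) := by rw [hP]; exact hYT
  have hYL₀ : Y ≤ L₀ := hYP.trans hPL₀
  -- `P ∩ D ≤ O_p(L)`
  have hPD : (P : Subgroup L) ⊓ D ≤ O := by
    have hn : (P : Subgroup L) ≤ normalizer (((P : Subgroup L) ⊓ D : Subgroup L) : Set L) := by
      intro x hx
      rw [mem_normalizer_conj, conj_inf, conj_of_mem hx, mem_normalizer_conj.mp (norm_top D x)]
    by_cases h6 : normalizer (((P : Subgroup L) ⊓ D : Subgroup L) : Set L) = ⊤
    · exact Cores.le_pCore (normalizer_eq_top_iff.mp h6) (P.2.to_le inf_le_left)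
    · exfalso
      have h7 := min_le hmin hL₀ hYL₀ h6 (hYP.trans hn)
      apply hL₀.1
      rw [eq_top_iff]
      intro g _
      obtain ⟨c, hc, n, hn', rfl⟩ := QuadD.frattini_inf D P g
      exact L₀.mul_mem (hDL₀ hc) (h7 hn')
  -- `p`-subgroups of `D` lie in `O_p(L)`
  have hcl : ∀ Q : Subgroup L, Q ≤ D → IsPGroup p Q → Q ≤ O := by
    intro Q hQD hQ
    obtain ⟨g, hg⟩ := exists_conj_le P hQ
    have h6 : cj[Q, g] ≤ O := by
      refine le_trans (le_inf hg ?_) hPD
      have := conj_mono hQD g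
      rwa [mem_normalizer_conj.mp (norm_top D g)] at this
    have h7 := conj_mono h6 g⁻¹
    rwa [conj_inv_conj, mem_normalizer_conj.mp (norm_top O g⁻¹)] at h7
  have hDcl : IsPClosed p ↥D := by
    rw [closed_iff]
    intro Q hQD hQ
    exact hcl Q hQD hQ
  -- maximal subgroups contain `D`
  have hmax : ∀ M : Subgroup L, IsCoatom M → O ≤ M → D ≤ M := by
    intro M hM hOM
    by_contra hDM
    have h6 : D ⊔ M = ⊤ := by
      rcases (le_sup_right : M ≤ D ⊔ M).eq_or_lt with h | h
      · exact absurd (h ▸ le_sup_left) hDM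
      · exact hM.2 _ h
    -- `M` contains a Sylow `p`-subgroup
    have h7 : ∃ g : L, cj[(P : Subgroup L), g] ≤ M := by
      obtain ⟨S⟩ := (inferInstance : Nonempty (Sylow p M))
      have hSM : (S : Subgroup M).map M.subtype ≤ M := map_subtype_le _
      obtain ⟨R, hR⟩ := (S.2.map M.subtype).exists_le_sylow
      -- the index of `M`
      have hidx : ¬ p ∣ M.index := by
        have e1 := Basic.card_sup_mul_card_inf (N := D) (H := M) (fun x _ => norm_top D x)
        rw [h6, Subgroup.card_top] at e1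
        have e2 := M.card_mul_index
        have e3 : M.index * Nat.card (D ⊓ M : Subgroup L) = Nat.card D := by
          apply Nat.eq_of_mul_eq_mul_left (Nat.card_pos (α := M))
          calc Nat.card M * (M.index * Nat.card (D ⊓ M : Subgroup L))
              = (Nat.card M * M.index) * Nat.card (D ⊓ M : Subgroup L) := by ring
            _ = Nat.card L * Nat.card (D ⊓ M : Subgroup L) := by rw [e2]
            _ = _ := by rw [e1]; ring
        have e4 := Basic.relIndex_mul_card (inf_le_left : D ⊓ M ≤ D)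
        have e5 : M.index = (D ⊓ M).relIndex D := by
          apply Nat.eq_of_mul_eq_mul_right (Nat.card_pos (α := (D ⊓ M : Subgroup L)))
          rw [e3, e4]
        rw [e5]
        intro hd
        have hOle : O ≤ D ⊓ M := le_inf hOD hOM
        have h8 : p ∣ O.relIndex D := hd.trans (relIndex_dvd_of_le_left D hOle)
        -- a `p`-subgroup of `D` not in `O`
        obtain ⟨S', hS'⟩ := QuadD.exists_sylow_inf D P
        have h9 : (S' : Subgroup D) ≤ O.subgroupOf D := by
          rw [hS']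
          intro x hx
          exact hPD ⟨hx, x.2⟩
        have h10 := S'.not_dvd_index
        apply h10
        refine h8.trans ?_
        exact index_dvd_of_le h9
      have hP' := P.card_eq_multiplicity
      have h8 : (S : Subgroup M).map M.subtype = R := by
        have h9 : IsPGroup p ((R : Subgroup L).subgroupOf M) := R.2.comap_of_injective M.subtype M.subtype_injective
        rcases hR.eq_or_lt with h | h
        · exact h
        · exfalso
          have e1 : Nat.card ((S : Subgroup M).map M.subtype) = Nat.card S := card_map_of_injective M.subtype_injective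
          have e2 := S.card_eq_multiplicity
          have e3 := R.card_eq_multiplicity
          have e4 : (Nat.card M).factorization p = (Nat.card L).factorization p := by
            rw [← M.card_mul_index, Nat.factorization_mul Nat.card_pos.ne' (index_ne_zero_of_finite),
              Finsupp.add_apply, Nat.factorization_eq_zero_of_not_dvd hidx, add_zero]
          have e5 := Basic.card_lt_card_of_lt h
          rw [e1] at e5
          change Nat.card S < Nat.card R at e5
          rw [e2, e3, e4] at e5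
          exact lt_irrefl _ e5
      obtain ⟨g, hg⟩ := exists_conj_le R P.2
      refine ⟨g, hg.trans ?_⟩
      rw [← h8]; exact hSM
    obtain ⟨g, hg⟩ := h7
    have h8 : Y ≤ cj[M, g⁻¹] := by
      rw [← conj_inv_conj Y g]
      exact conj_mono ((conj_mono hYP g).trans hg) g⁻¹
    have h9 : cj[M, g⁻¹] = L₀ := hmin.2.unique ⟨coatom_conj hM g⁻¹, h8⟩ ⟨hL₀, hYL₀⟩
    apply hDM
    have h10 := conj_mono hDL₀ g
    rwa [mem_normalizer_conj.mp (norm_top D g), ← h9, conj_conj_inv] at h10
  have hsurj := QuotientGroup.mk'_surjective O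
  have hker : (QuotientGroup.mk' O).ker ≤ D := by rw [QuotientGroup.ker_mk']; exact hOD
  have hfr : D.map (QuotientGroup.mk' O) = frattini (L ⧸ O) := by
    apply le_antisymm
    · refine le_iInf₂ fun M hM => ?_
      rw [map_le_iff_le_comap]
      refine hmax _ (coatom_comap hsurj hM) ?_
      intro x hx
      show QuotientGroup.mk' O x ∈ M
      rw [show QuotientGroup.mk' O x = 1 from (QuotientGroup.eq_one_iff x).mpr hx]
      exact M.one_mem
    · intro y hy
      obtain ⟨l, rfl⟩ := hsurj y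
      refine ⟨l, ?_, rfl⟩
      show ∀ g, g * l * g⁻¹ ∈ L₀
      intro g
      have hker' : (QuotientGroup.mk' O).ker ≤ L₀ := by rw [QuotientGroup.ker_mk']; exact h2
      have h6 := frattini_le_coatom (coatom_map hsurj hL₀ hker')
      have h7 : QuotientGroup.mk' O (g * l * g⁻¹) ∈ frattini (L ⧸ O) := by
        rw [map_mul, map_mul, map_inv]
        exact (inferInstance : (frattini (L ⧸ O)).Normal).conj_mem _ hy _
      have h8 : g * l * g⁻¹ ∈ (L₀.map (QuotientGroup.mk' O)).comap (QuotientGroup.mk' O) := h6 h7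
      rwa [Subgroup.comap_map_eq_self hker'] at h8
  refine ⟨⟨hOD, hfr, hDcl⟩, ?_⟩
  intro N _ hN
  have hND : N ≤ D := normal_le_normalCore.mpr hN
  have hNcl : IsPClosed p ↥N := by
    rw [closed_iff]
    intro Q hQN hQ
    exact hcl Q (hQN.trans hND) hQ
  have hpN : (pCore p N).Normal := Cores.pCore_normal p
  refine ⟨hNcl, ?_, ?_⟩
  · have hNO : (pCore p N).map N.subtype ≤ O := Cores.map_pCore_le N
    let f : N →* frattini (L ⧸ O) := ((QuotientGroup.mk' O).comp N.subtype).codRestrict (frattini (L ⧸ O)) (fun n => by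
      rw [← hfr]
      exact ⟨n, hND n.2, rfl⟩)
    have hf : ∀ n ∈ pCore p N, f n = 1 := by
      intro n hn
      apply Subtype.ext
      show QuotientGroup.mk' O (n : L) = 1
      exact (QuotientGroup.eq_one_iff _).mpr (hNO ⟨n, hn, rfl⟩)
    have hinj : Function.Injective (QuotientGroup.lift (pCore p N) f hf) := by
      rw [injective_iff_map_eq_one]
      intro y hy
      obtain ⟨n, rfl⟩ := QuotientGroup.mk_surjective y
      have h5' : f n = 1 := hy
      have h6 : QuotientGroup.mk' O (n : L) = 1 := congrArg Subtype.val h5'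
      have h7 : (n : L) ∈ O := (QuotientGroup.eq_one_iff _).mp h6
      exact (QuotientGroup.eq_one_iff _).mpr (Cores.pCore_subgroupOf_le N h7)
    exact Components.isNilpotent_of_injective _ hinj frattini_nilpotent
  · obtain ⟨S⟩ := (inferInstance : Nonempty (Sylow p N))
    have h6 : (S : Subgroup N) ≤ pCore p N := Cores.le_pCore (hNcl S) S.2
    rw [← index_eq_card, Nat.coprime_comm, Nat.Prime.coprime_iff_not_dvd hp.out]
    intro hd
    exact S.not_dvd_index (hd.trans (index_dvd_of_le h6))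

/-- S2837 -/
theorem s2837 {L : Type*} [Group L] [Finite L] [hp : Fact p.Prime] (L₀ : Subgroup L) (hL₀ : IsCoatom L₀) (Y : Subgroup L)
    (hYL₀ : Y ≤ L₀) (hYel : IsElementaryAbelian p Y) (hmin : IsMinimalOver Y)
    (hOY : pCore p L ≤ normalizer (Y : Set L)) (A : Subgroup L)
    (hA : A = normalClosure (((pCore p L ⊓ Y : Subgroup L)) : Set L)) (g : L) (hg : g ∉ L₀) :
    (frattini ↥A).map A.subtype = ⁅A, A⁆ ∧ ⁅A, A⁆ = ⁅A ⊓ Y, A⁆ ∧
      ⁅A ⊓ Y, A⁆ = ⁅A ⊓ Y, A ⊓ Y.map (MulAut.conj g).toMonoidHom⁆ ∧ ⁅A ⊓ Y, A⁆ ≤ Y ⊓ center L ∧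
      Y ⊓ Y.map (MulAut.conj g).toMonoidHom = Y ⊓ center L ∧
      (A ⊓ Y) ⊓ (A ⊓ Y.map (MulAut.conj g).toMonoidHom) = Y ⊓ center L ∧ A ⊓ center L = Y ⊓ center L := by
  have hYe := el_iff.mp hYel
  haveI hOn : (pCore p L).Normal := Cores.pCore_normal p
  set O := pCore p L with hO
  -- apply the `Y`-minimal lemma
  obtain ⟨T, hT⟩ : ∃ T : Sylow p L₀, Y ≤ (T : Subgroup L₀).map L₀.subtype := by
    obtain ⟨T, hT⟩ := ((el_isPGroup hYel).comap_of_injective L₀.subtype L₀.subtype_injective).exists_le_sylow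
    refine ⟨T, fun y hy => ⟨⟨y, hYL₀ hy⟩, hT hy, rfl⟩⟩
  obtain ⟨_, _, _, _, h5, h6⟩ := min_over L₀ hL₀ T Y hT hmin
  have hgen := h5 g hg
  have hcap : Y ⊓ Y.map (MulAut.conj g).toMonoidHom = Y ⊓ center L := h6 hYel.1 g hg
  set Yg := Y.map (MulAut.conj g).toMonoidHom with hYg
  have hYge := el_iff.mp (el_conj hYel g)
  set Y₀ := O ⊓ Y with hY₀
  set Y₁ := O ⊓ Yg with hY₁
  have hOYg : O ≤ normalizer (Yg : Set L) := by
    have := conj_normalizer hOY g
    rwa [mem_normalizer_conj.mp (norm_top O g)] at this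
  have hOY0 : ⁅O, Y⁆ ≤ Y₀ := by
    refine le_inf (commutator_le_left O Y) ?_
    rw [commutator_comm]
    exact Coprime.commutator_le_of_normalizes hOY
  have hOY1 : ⁅O, Yg⁆ ≤ Y₁ := by
    refine le_inf (commutator_le_left O Yg) ?_
    rw [commutator_comm]
    exact Coprime.commutator_le_of_normalizes hOYg
  have hY₀Y₁ : Y₀.map (MulAut.conj g).toMonoidHom = Y₁ := by
    rw [hY₀, conj_inf, mem_normalizer_conj.mp (norm_top O g)]
  -- generic: a subgroup `B ≤ O` containing `Y₀` is normalised by `Y`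
  have hnY : ∀ (Z Z₀ B : Subgroup L), ⁅O, Z⁆ ≤ Z₀ → Z₀ ≤ B → B ≤ O → Z ≤ normalizer (B : Set L) := by
    intro Z Z₀ B hZ hZB hBO
    apply le_normalizer_of_conj
    rintro z hz _ ⟨b, hb, rfl⟩
    show z * b * z⁻¹ ∈ B
    have e : z * b * z⁻¹ = b * ⁅b⁻¹, z⁆ := by rw [commutatorElement_def]; group
    rw [e]
    exact B.mul_mem hb (hZB (hZ (commutator_mem_commutator (O.inv_mem (hBO hb)) hz)))
  have hYY : Y₀ ⊔ Y₁ ≤ O := sup_le inf_le_left inf_le_left
  have hAe : A = Y₀ ⊔ Y₁ := by
    apply le_antisymm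
    · rw [hA]
      haveI : (Y₀ ⊔ Y₁).Normal := by
        rw [← normalizer_eq_top_iff, eq_top_iff, ← hgen]
        exact sup_le (hnY Y Y₀ _ hOY0 le_sup_left hYY) (hnY Yg Y₁ _ hOY1 le_sup_right hYY)
      exact normalClosure_le_normal (SetLike.coe_subset_coe.mpr (le_sup_left : Y₀ ≤ Y₀ ⊔ Y₁))
    · rw [hA]
      have h7 : Y₀ ≤ normalClosure (Y₀ : Set L) := le_normalClosure
      refine sup_le h7 ?_
      rw [← hY₀Y₁]
      have h8 := conj_mono h7 g
      rwa [mem_normalizer_conj.mp (norm_top (normalClosure (Y₀ : Set L)) g)] at h8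
  have hAO : A ≤ O := by rw [hAe]; exact hYY
  have hAY : A ⊓ Y = Y₀ := by
    apply le_antisymm
    · exact inf_le_inf_right _ hAO
    · refine le_inf ?_ inf_le_right
      rw [hAe]; exact le_sup_left
  have hAYg : A ⊓ Yg = Y₁ := by
    apply le_antisymm
    · exact inf_le_inf_right _ hAO
    · refine le_inf ?_ inf_le_right
      rw [hAe]; exact le_sup_right
  have hY₀n : Y₁ ≤ normalizer (Y₀ : Set L) := by
    refine (inf_le_left : Y₁ ≤ O).trans ?_
    intro x hx
    rw [mem_normalizer_conj, conj_inf, conj_of_mem hx, mem_normalizer_conj.mp (hOY hx)]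
  have hY₁n : Y₀ ≤ normalizer (Y₁ : Set L) := by
    refine (inf_le_left : Y₀ ≤ O).trans ?_
    intro x hx
    rw [mem_normalizer_conj, conj_inf, conj_of_mem hx, mem_normalizer_conj.mp (hOYg hx)]
  have hC01 : ⁅Y₀, Y₁⁆ ≤ Y ⊓ center L := by
    rw [← hcap]
    exact (comm_of_normalize hY₁n hY₀n).trans (inf_le_inf inf_le_right inf_le_right)
  have hmemA : ∀ a ∈ A, ∃ y ∈ Y₀, ∃ z ∈ Y₁, y * z = a := by
    intro a ha
    rw [hAe] at ha
    exact (Basic.mem_sup_iff_left hY₀n).mp ha
  -- commutators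
  have hcomm : ∀ y ∈ Y₀, ∀ z ∈ Y₁, ∀ y' ∈ Y₀, ∀ z' ∈ Y₁, ⁅y * z, y' * z'⁆ = ⁅y, z'⁆ * ⁅y', z⁆⁻¹ := by
    intro y hy z hz y' hy' z' hz'
    have hcen : ∀ w ∈ ⁅Y₀, Y₁⁆, ∀ x : L, x * w = w * x := fun w hw x => mem_center_iff.mp (hC01 hw).2 x
    have h1 : Commute y y' := hYe.1 y hy.2 y' hy'.2
    have h2 : Commute z z' := hYge.1 z hz.2 z' hz'.2
    have k1 : ⁅y, z'⁆ ∈ ⁅Y₀, Y₁⁆ := commutator_mem_commutator hy hz'
    have k2 : ⁅y', z⁆ ∈ ⁅Y₀, Y₁⁆ := commutator_mem_commutator hy' hz
    have e1 : y * z' = ⁅y, z'⁆ * (z' * y) := by rw [commutatorElement_def]; group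
    have e2 : z * y' = ⁅y', z⁆⁻¹ * (y' * z) := by rw [commutatorElement_def]; group
    have k2' : ∀ x : L, x * ⁅y', z⁆⁻¹ = ⁅y', z⁆⁻¹ * x := fun x => hcen _ (inv_mem k2) x
    have k1' : ∀ x : L, x * ⁅y, z'⁆ = ⁅y, z'⁆ * x := fun x => hcen _ k1 x
    have key : (y * z) * (y' * z') = (⁅y, z'⁆ * ⁅y', z⁆⁻¹) * ((y' * z') * (y * z)) := by
      calc (y * z) * (y' * z') = y * (z * y') * z' := by group
        _ = y * (⁅y', z⁆⁻¹ * (y' * z)) * z' := by rw [← e2]
        _ = (y * ⁅y', z⁆⁻¹) * (y' * (z * z')) := by group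
        _ = (⁅y', z⁆⁻¹ * y) * (y' * (z' * z)) := by rw [k2', h2.eq]
        _ = ⁅y', z⁆⁻¹ * ((y * y') * (z' * z)) := by group
        _ = ⁅y', z⁆⁻¹ * ((y' * y) * (z' * z)) := by rw [h1.eq]
        _ = ⁅y', z⁆⁻¹ * (y' * (y * z') * z) := by group
        _ = ⁅y', z⁆⁻¹ * (y' * (⁅y, z'⁆ * (z' * y)) * z) := by rw [← e1]
        _ = ⁅y', z⁆⁻¹ * ((y' * ⁅y, z'⁆) * (z' * y) * z) := by group
        _ = ⁅y', z⁆⁻¹ * ((⁅y, z'⁆ * y') * (z' * y) * z) := by rw [k1']
        _ = (⁅y', z⁆⁻¹ * ⁅y, z'⁆) * ((y' * z') * (y * z)) := by group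
        _ = _ := by rw [k1']
    have e3 : ⁅y * z, y' * z'⁆ = ((y * z) * (y' * z')) * ((y' * z') * (y * z))⁻¹ := by rw [commutatorElement_def]; group
    rw [e3, key, mul_inv_cancel_right]
  have hAA : ⁅A, A⁆ ≤ ⁅Y₀, Y₁⁆ := by
    rw [commutator_le]
    intro a ha b hb
    obtain ⟨y, hy, z, hz, rfl⟩ := hmemA a ha
    obtain ⟨y', hy', z', hz', rfl⟩ := hmemA b hb
    rw [hcomm y hy z hz y' hy' z' hz']
    exact mul_mem (commutator_mem_commutator hy hz') (inv_mem (commutator_mem_commutator hy' hz))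
  have hY₀A : Y₀ ≤ A := by rw [hAe]; exact le_sup_left
  have hY₁A : Y₁ ≤ A := by rw [hAe]; exact le_sup_right
  have hc1 : ⁅Y₀, Y₁⁆ ≤ ⁅Y₀, A⁆ := commutator_mono le_rfl hY₁A
  have hc2 : ⁅Y₀, A⁆ ≤ ⁅A, A⁆ := commutator_mono hY₀A le_rfl
  have hfr : (frattini ↥A).map A.subtype = ⁅A, A⁆ := by
    have hAp : IsPGroup p A := (Cores.pCore_isPGroup p).to_le hAO
    apply le_antisymm
    · have h7 : frattini A ≤ commutator A := by
        apply Nilp.frattini_le_of_elementary_quotient (p := p) _ le_rfl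
        intro x
        obtain ⟨y, hy, z, hz, e⟩ := hmemA x x.2
        have e1 : x = ⟨y, hY₀A hy⟩ * ⟨z, hY₁A hz⟩ := Subtype.ext e.symm
        have h8 := mul_pow_mem_commutator (⟨y, hY₀A hy⟩ : A) (⟨z, hY₁A hz⟩ : A) p
        have h9 : (⟨y, hY₀A hy⟩ : A) ^ p = 1 := Subtype.ext (hYe.2 y hy.2)
        have h10 : (⟨z, hY₁A hz⟩ : A) ^ p = 1 := Subtype.ext (hYge.2 z hz.2)
        rw [h9, h10, inv_one, mul_one, mul_one] at h8
        rw [e1]; exact h8
      have h8 := Subgroup.map_mono (f := A.subtype) h7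
      rwa [map_subtype_commutator] at h8
    · have h7 := Nilp.commutator_le_frattini hAp
      have h8 := Subgroup.map_mono (f := A.subtype) h7
      rwa [map_subtype_commutator] at h8
  have hYZ : Y ⊓ center L ≤ Y₀ ⊓ Y₁ := by
    have h7 : Y ⊓ center L ≤ O := by
      apply Cores.le_pCore
      · rw [← normalizer_eq_top_iff, eq_top_iff]
        intro x _
        rw [mem_normalizer_iff]
        intro y
        constructor
        · intro hy
          rwa [mem_center_iff.mp hy.2 x, mul_inv_cancel_right]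
        · intro hy
          have h8 : y = x⁻¹ * (x * y * x⁻¹) * x := by group
          rw [h8, mem_center_iff.mp hy.2 x⁻¹, inv_mul_cancel_right]
          exact hy
      · exact (el_isPGroup hYel).to_le inf_le_left
    refine le_inf (le_inf h7 inf_le_left) (le_inf h7 ?_)
    rw [← hcap]; exact inf_le_right
  refine ⟨hfr, ?_, ?_, ?_, hcap, ?_, ?_⟩
  · rw [hAY]; exact le_antisymm (hAA.trans hc1) hc2
  · rw [hAY, hAYg]; exact le_antisymm (hc2.trans hAA) hc1
  · rw [hAY]; exact (hc2.trans hAA).trans hC01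
  · rw [hAY, hAYg]
    apply le_antisymm _ hYZ
    rw [← hcap]
    exact inf_le_inf inf_le_right inf_le_right
  · apply le_antisymm
    · rintro a ⟨ha, haZ⟩
      obtain ⟨y, hy, z, hz, rfl⟩ := hmemA a ha
      have hzZ : z ∈ center L := by
        rw [mem_center_iff]
        have h7 : (⊤ : Subgroup L) ≤ centralizer {z} := by
          rw [← hgen]
          refine sup_le ?_ ?_
          · intro x hx
            rw [mem_centralizer_singleton_iff]
            have h8 : Commute x (y * z) := mem_center_iff.mp haZ x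
            have h9 : Commute x y := hYe.1 x hx y hy.2
            have h10 : Commute x (y⁻¹ * (y * z)) := h9.inv_right.mul_right h8
            rw [inv_mul_cancel_left] at h10
            exact h10.eq
          · intro x hx
            rw [mem_centralizer_singleton_iff]
            exact hYge.1 x hx z hz.2
        intro x
        exact mem_centralizer_singleton_iff.mp (h7 (mem_top x))
      have hyZ : y ∈ center L := by
        have := Subgroup.mul_mem (Subgroup.center _) haZ (Subgroup.inv_mem (Subgroup.center _) hzZ)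
        rwa [mul_inv_cancel_right] at this
      have hzY : z ∈ Y := by
        have h7 : g⁻¹ * z * g ∈ Y := mem_conj.mp hz.2
        rwa [mul_assoc, ← mem_center_iff.mp hzZ g, inv_mul_cancel_left] at h7
      exact ⟨Y.mul_mem hy.2 hzY, haZ⟩
    · refine le_inf ?_ inf_le_right
      exact (hYZ.trans inf_le_left).trans hY₀A

/-! ### asymmetric `Y_M` -/

/-- `O_p(M)` is a Sylow subgroup of `C(Y_M)` -/
theorem frakM_inf [Finite H] [Fact p.Prime] (S : Sylow p H) (M : Subgroup H) (hSM : (S : Subgroup H) ≤ M)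
    (hM : IsInFrakM p M) : pCoreOf p M = (S : Subgroup H) ⊓ centralizer ((largestPReducedOf p M : Subgroup H) : Set H) := by
  have hY := red_largest p M
  set Y := largestPReducedOf p M with hYdef
  set C := centralizer (Y : Set H) with hC
  obtain ⟨_, _, _, _, hcl, _⟩ := hM
  have hSs := sylow_syl S hSM
  apply le_antisymm (le_inf hSs.pCoreOf_le hY.pCoreOf_le)
  have hMC : M ≤ normalizer ((M ⊓ C : Subgroup H) : Set H) := by
    intro x hx
    rw [mem_normalizer_conj, conj_inf, conj_of_mem hx, hC, centralizer_conj, mem_normalizer_conj.mp (hY.2.1 hx)]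
  have h3 := syl_inf' hSs (M ⊓ C) inf_le_left hMC
  obtain ⟨P, hP⟩ := h3
  have h4 : (P : Subgroup ↥(M ⊓ C)).Normal := hcl P
  have h5 : (P : Subgroup ↥(M ⊓ C)) ≤ pCore p ↥(M ⊓ C) := Cores.le_pCore h4 P.2
  have h6 : (S : Subgroup H) ⊓ (M ⊓ C) ≤ pCoreOf p (M ⊓ C) := by
    rw [← hP]
    exact Subgroup.map_mono h5
  refine le_trans ?_ (h6.trans (pCoreOf_mono_normal inf_le_left hMC))
  exact le_inf inf_le_left (le_inf (inf_le_left.trans hSM) inf_le_right)

/-- an asymmetric subgroup and conjugates inside its normalizer -/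
theorem asym_comm {Y : Subgroup H} (hasym : ¬ IsSymmetricIn Y) {g : H} (h1 : cj[Y, g] ≤ normalizer (Y : Set H))
    (h2 : Y ≤ normalizer ((cj[Y, g] : Subgroup H) : Set H)) : ⁅Y, cj[Y, g]⁆ = ⊥ := by
  by_contra hc
  exact hasym ⟨g, hc, comm_of_normalize h2 h1⟩

end Cfsg.Agent.Lib.PRed
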