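import Cfsg.Agent.Lib.PRedI

/-!
# The basic property: existence of members of `𝔐_H`
-/

set_option autoImplicit false

namespace Cfsg.Agent.Lib.PRed

open Subgroup POf PIrr WClos
open scoped commutatorElement

variable {H : Type*} [Group H] {p : ℕ}

local notation "cj[" Q ", " g "]" => Subgroup.map (MulEquiv.toMonoidHom (MulAut.conj g)) Q

theorem Red.subgroupOf {K R V : Subgroup H} (hRK : R ≤ K) (h : Red p R V) :
    Red p (R.subgroupOf K) (V.subgroupOf K) := by
  obtain ⟨h1, h2, h3, h4⟩ := h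
  have h3' := el_iff.mp h3
  refine ⟨fun x hx => h1 hx, ?_, ?_, ?_⟩
  · have h5 : R.subgroupOf K ≤ (normalizer (V : Set H)).subgroupOf K := fun x hx => h2 hx
    exact h5.trans (le_normalizer_comap K.subtype)
  · rw [el_iff]
    refine ⟨fun x hx y hy => Subtype.ext (h3'.1 x hx y hy), fun x hx => Subtype.ext (h3'.2 x hx)⟩
  · intro N hN hn hx
    have h5 : N.map K.subtype ≤ R := by
      rintro _ ⟨n, hn', rfl⟩
      exact hN hn'
    have h6 : R ≤ normalizer ((N.map K.subtype : Subgroup H) : Set H) := by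
      have h7 : R = (R.subgroupOf K).map K.subtype := by
        rw [subgroupOf_map_subtype, inf_eq_left.mpr hRK]
      rw [h7]
      exact (Subgroup.map_mono hn).trans (le_normalizer_map K.subtype)
    have h7 := h4 (N.map K.subtype) h5 h6 (by
      rintro _ ⟨n, hn', rfl⟩
      obtain ⟨k, hk⟩ := hx n hn'
      refine ⟨k, ?_⟩
      rw [mem_centralizer_iff] at hk ⊢
      intro v hv
      have hvK : v ∈ K := hRK (h1 hv)
      have h8 := hk ⟨v, hvK⟩ hv
      exact congrArg Subtype.val h8)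
    intro n hn'
    have h8 := h7 ⟨n, hn', rfl⟩
    rw [mem_centralizer_iff] at h8 ⊢
    intro v hv
    exact Subtype.ext (h8 v hv)

/-- `Y` is monotone on subgroups containing `T` -/
theorem largestOf_mono [Finite H] [hp : Fact p.Prime] (T : Sylow p H) {L K : Subgroup H} (hTL : (T : Subgroup H) ≤ L)
    (hLK : L ≤ K) (hK : centralizer (pCore p K : Set K) ≤ pCore p K) :
    largestPReducedOf p L ≤ largestPReducedOf p K := by
  have h0 := (red_largest p L).subgroupOf hLK
  have h1 := closure_red (H := K) hK (T.subtype (hTL.trans hLK)) (R := L.subgroupOf K)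
    (X := (largestPReducedOf p L).subgroupOf K) (by
      rw [Sylow.coe_subtype]
      exact fun x hx => hTL hx) h0
  have h2 := le_largest h1
  intro x hx
  have hxK : x ∈ K := hLK (largestOf_le L hx)
  exact ⟨⟨x, hxK⟩, h2 (subset_normalClosure (by exact hx)), rfl⟩

theorem charP_of_mem {K : Subgroup H} (hK : K ∈ charPSubgroups p H) :
    centralizer (pCore p K : Set K) ≤ pCore p K := charP_of_inf (inf_le_right.trans hK.2)

theorem mem_charP_of_parabolic [Finite H] [Fact p.Prime] (hH : IsOfParabolicCharacteristic p H) (T : Sylow p H)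
    {K : Subgroup H} (hTK : (T : Subgroup H) ≤ K) (hO : pCoreOf p K ≠ ⊥) : K ∈ charPSubgroups p H := by
  set R := pCoreOf p K with hR
  have hRp : IsPGroup p R := pCoreOf_isPGroup
  have hKN : K ≤ normalizer (R : Set H) := le_normalizer_pCoreOf
  have hTN := hTK.trans hKN
  have h1 := charP_inf (hH R hRp hO ⟨T, hTN⟩)
  have h2 : pCoreOf p (normalizer (R : Set H)) = R := by
    apply le_antisymm
    · refine le_pCoreOf ?_ pCoreOf_isPGroup ?_
      · exact ((sylow_syl T hTN).pCoreOf_le).trans hTK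
      · exact hKN.trans le_normalizer_pCoreOf
    · refine le_pCoreOf ?_ hRp le_rfl
      exact pCoreOf_le.trans hKN
  rw [h2] at h1
  refine ⟨?_, ?_⟩
  · intro h
    apply hO
    rw [hR, pCoreOf, h, Subgroup.map_bot]
  · intro x hx
    exact h1 ⟨centralizer_le_normalizer _ hx, hx⟩

theorem zc_ne_bot [Finite H] [hp : Fact p.Prime] {P : Subgroup H} (hP : IsPGroup p P) (h1 : P ≠ ⊥) : zc p P ≠ ⊥ := by
  obtain ⟨v, hv, hv1, hvc⟩ := exists_fixed hP le_rfl le_normalizer h1
  obtain ⟨k, hk⟩ := hP ⟨v, hv⟩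
  have hk' : v ^ p ^ k = 1 := congrArg Subtype.val hk
  obtain ⟨m, hm⟩ : ∃ m, v ^ p ^ m = 1 := ⟨k, hk'⟩
  classical
  have hex : ∃ m, v ^ p ^ m = 1 := ⟨k, hk'⟩
  have hf := Nat.find_spec hex
  have hmin := fun j (hj : j < Nat.find hex) => Nat.find_min hex hj
  set n := Nat.find hex with hn
  have hn0 : n ≠ 0 := by
    intro h0
    rw [h0, pow_zero, pow_one] at hf
    exact hv1 hf
  obtain ⟨j, hj⟩ := Nat.exists_eq_succ_of_ne_zero hn0
  intro hbot
  have hw : v ^ p ^ j ∈ zc p P := by
    refine mem_zc (P.pow_mem hv _) ((centralizer (P : Set H)).pow_mem hvc _) ?_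
    rw [← pow_mul, ← pow_succ, ← Nat.succ_eq_add_one, ← hj]
    exact hf
  rw [hbot, mem_bot] at hw
  exact hmin j (by omega) hw

theorem largestOf_ne_bot [Finite H] [hp : Fact p.Prime] {K : Subgroup H} (hK : K ∈ charPSubgroups p H) :
    largestPReducedOf p K ≠ ⊥ := by
  obtain ⟨P, hP⟩ := exists_syl p K
  have hP1 : P ≠ ⊥ := by
    intro h
    have h2 := hP.pCoreOf_le
    rw [h, le_bot_iff] at h2
    apply hK.1
    rw [eq_bot_iff]
    intro x hx
    have h3 : (x : H) ∈ pCoreOf p K := ⟨x, hx, rfl⟩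
    rw [h2, mem_bot] at h3
    exact mem_bot.mpr (Subtype.ext h3)
  have h3 := hP.zc_le_Z.trans (red_Z (charP_of_mem hK)).le_largestOf
  intro h
  rw [h, le_bot_iff] at h3
  exact zc_ne_bot hP.isPGroup hP1 h3

/-- a subgroup between `T` and `N(Y)` is in `𝓛` -/
theorem mem_charP_of_norm [Finite H] [Fact p.Prime] (hH : IsOfParabolicCharacteristic p H) (T : Sylow p H)
    {K Y : Subgroup H} (hTK : (T : Subgroup H) ≤ K) (hYT : Y ≤ (T : Subgroup H)) (hY1 : Y ≠ ⊥)
    (hKY : K ≤ normalizer (Y : Set H)) : K ∈ charPSubgroups p H := by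
  refine mem_charP_of_parabolic hH T hTK ?_
  intro h
  have h1 : Y ≤ pCoreOf p K := POf.le_pCoreOf (hYT.trans hTK) (T.2.to_le hYT) hKY
  rw [h, le_bot_iff] at h1
  exact hY1 h1

/-- a supplement of a normal subgroup above its `p`-part contains a Sylow subgroup -/
theorem sylow_in_supp {L : Type*} [Group L] [Finite L] [hp : Fact p.Prime] {D M O : Subgroup L} [D.Normal]
    (P : Sylow p L) (hOD : O ≤ D) (hPD : (P : Subgroup L) ⊓ D ≤ O) (hOM : O ≤ M) (h6 : D ⊔ M = ⊤) :
    ∃ g : L, cj[(P : Subgroup L), g] ≤ M := by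
  obtain ⟨S⟩ := (inferInstance : Nonempty (Sylow p M))
  have hSM : (S : Subgroup M).map M.subtype ≤ M := map_subtype_le _
  obtain ⟨R, hR⟩ := (S.2.map M.subtype).exists_le_sylow
  -- the index of `M`
  have hidx : ¬ p ∣ M.index := by
    have e1 := Basic.card_sup_mul_card_inf (N := D) (H := M) (fun x _ => norm_top D x)
    rw [h6, Subgroup.card_top] at e1
    have e2 := M.card_mul_index
    have e3 : M.index * Nat.card (D ⊓ M : Subgroup L) = Nat.card D := by
      apply Nat.eq_of_mul_eq_mul_left (Nat.card_pos (α := M))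
      calc Nat.card M * (M.index * Nat.card (D ⊓ M : Subgroup L))
          = (Nat.card M * M.index) * Nat.card (D ⊓ M : Subgroup L) := by ring
        _ = Nat.card L * Nat.card (D ⊓ M : Subgroup L) := by rw [e2]
        _ = _ := by rw [e1]; ring
    have e4 := Basic.relIndex_mul_card (inf_le_left : D ⊓ M ≤ D)
    have e5 : M.index = (D ⊓ M).relIndex D := by
      apply Nat.eq_of_mul_eq_mul_right (Nat.card_pos (α := (D ⊓ M : Subgroup L)))
      rw [e3, e4]
    rw [e5]
    intro hd
    have hOle : O ≤ D ⊓ M := le_inf hOD hOM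
    have h8 : p ∣ O.relIndex D := hd.trans (relIndex_dvd_of_le_left D hOle)
    obtain ⟨S', hS'⟩ := QuadD.exists_sylow_inf D P
    have h9 : (S' : Subgroup D) ≤ O.subgroupOf D := by
      rw [hS']
      intro x hx
      exact hPD ⟨hx, x.2⟩
    have h10 := S'.not_dvd_index
    apply h10
    refine h8.trans ?_
    exact index_dvd_of_le h9
  have h8 : (S : Subgroup M).map M.subtype = R := by
    rcases hR.eq_or_lt with h | h
    · exact h
    · exfalso
      have e1 : Nat.card ((S : Subgroup M).map M.subtype) = Nat.card S := card_map_of_injective M.subtype_injective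
      have e2 := S.card_eq_multiplicity
      have e3 := R.card_eq_multiplicity
      have e4 : (Nat.card M).factorization p = (Nat.card L).factorization p := by
        rw [← M.card_mul_index, Nat.factorization_mul Nat.card_pos.ne' (index_ne_zero_of_finite),
          Finsupp.add_apply, Nat.factorization_eq_zero_of_not_dvd hidx, add_zero]
      have e5 := Basic.card_lt_card_of_lt h
      rw [e1] at e5
      change Nat.card S < Nat.card R at e5
      rw [e2, e3, e4] at e5
      exact lt_irrefl _ e5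
  obtain ⟨g, hg⟩ := exists_conj_le R P.2
  refine ⟨g, hg.trans ?_⟩
  rw [← h8]; exact hSM

/-- S2847 -/
theorem s2847 [Finite H] [hp : Fact p.Prime] (hH : IsOfParabolicCharacteristic p H) (T : Sylow p H) (L : Subgroup H)
    (hTL : (T : Subgroup H) ≤ L) (hL : L ∈ charPSubgroups p H) :
    ∃ M Ls : Subgroup H, (T : Subgroup H) ≤ M ∧ IsInFrakM p M ∧ (T : Subgroup H) ≤ Ls ∧ Ls ≤ M ∧
      Ls ∈ charPSubgroups p H ∧ (largestPReducedOf p L) = (largestPReducedOf p Ls) ∧
      (largestPReducedOf p L) ≤ (largestPReducedOf p M) ∧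
      L ⊔ centralizer (((largestPReducedOf p L) : Subgroup H) : Set H) =
        Ls ⊔ centralizer (((largestPReducedOf p L) : Subgroup H) : Set H) := by
  have hredL := red_largest p L
  have hYL1 : largestPReducedOf p L ≠ ⊥ := largestOf_ne_bot hL
  have hYT : ∀ X : Subgroup H, (T : Subgroup H) ≤ X → largestPReducedOf p X ≤ (T : Subgroup H) :=
    fun X hX => ((red_largest p X).le_pCoreOf).trans (sylow_syl T hX).pCoreOf_le
  have hDL := daggerOf_le_normalizer (p := p) L
  have hs22 := fun K (hTK : (T : Subgroup H) ≤ K) => s2822 T K L hTK hTL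
  have hs24 := fun K (hTK : (T : Subgroup H) ≤ K) => s2824 T L K hTL hTK (charP_of_mem hL)
  set YL := largestPReducedOf p L with hYL
  set C := centralizer (YL : Set H) with hC
  obtain ⟨X₀, ⟨hX₀L, K, hTK, hKX₀, hKC⟩, hmax⟩ := Set.exists_max_image
    {X : Subgroup H | X ∈ charPSubgroups p H ∧ ∃ K : Subgroup H, (T : Subgroup H) ≤ K ∧ K ≤ X ∧ K ⊔ C = L ⊔ C}
    (fun X => Nat.card (largestPReducedOf p X)) (Set.toFinite _) ⟨L, hL, L, hTL, le_rfl, rfl⟩
  have hTX₀ := hTK.trans hKX₀
  have hY1 : largestPReducedOf p X₀ ≠ ⊥ := largestOf_ne_bot hX₀L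
  have hYT₀ := hYT X₀ hTX₀
  have hXN : X₀ ≤ normalizer ((largestPReducedOf p X₀ : Subgroup H) : Set H) := (red_largest p X₀).2.1
  set Y := largestPReducedOf p X₀ with hY
  have hNY : normalizer (Y : Set H) ∈ charPSubgroups p H :=
    mem_charP_of_norm hH T (hTX₀.trans hXN) hYT₀ hY1 le_rfl
  obtain ⟨X, ⟨hXL, hNX⟩, hXmax⟩ := Set.exists_max_image
    {X : Subgroup H | X ∈ charPSubgroups p H ∧ normalizer (Y : Set H) ≤ X} (fun X => Nat.card X)
    (Set.toFinite _) ⟨_, hNY, le_rfl⟩
  have hX₀X : X₀ ≤ X := hXN.trans hNX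
  have hTX := hTX₀.trans hX₀X
  have hKX := hKX₀.trans hX₀X
  have hYX : largestPReducedOf p X = Y := by
    have h1 : Y ≤ largestPReducedOf p X := largestOf_mono T hTX₀ hX₀X (charP_of_mem hXL)
    have h2 := hmax X ⟨hXL, K, hTK, hKX, hKC⟩
    exact (Subgroup.eq_of_le_of_card_ge h1 h2).symm
  have hXeq : X = normalizer (Y : Set H) := by
    apply le_antisymm _ hNX
    rw [← hYX]; exact (red_largest p X).2.1
  have hXM : X ∈ maxCharPSubgroups p H :=
    ⟨hXL, fun L' hL' hXL' => (Subgroup.eq_of_le_of_card_ge hXL' (hXmax L' ⟨hL', hNX.trans hXL'⟩)).symm⟩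
  set D := centralizer (Y : Set H) with hD
  have hDX : D ≤ X := by rw [hXeq]; exact centralizer_le_normalizer _
  have hXD : X ≤ normalizer (D : Set H) := by
    rw [hXeq]; exact normalizer_le_normalizer_centralizer Y
  obtain ⟨M, ⟨hTM, hMX, hMD⟩, hMmin⟩ := Set.exists_min_image
    {M : Subgroup H | (T : Subgroup H) ≤ M ∧ M ≤ X ∧ M ⊔ D = X} (fun M => Nat.card M)
    (Set.toFinite _) ⟨X, hTX, le_rfl, sup_eq_left.mpr hDX⟩
  have hmin : ∀ M₁ : Subgroup H, M₁ ≤ M → (T : Subgroup H) ≤ M₁ → M₁ ⊔ D = X → M₁ = M := by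
    intro M₁ h1 h2 h3
    exact Subgroup.eq_of_le_of_card_ge h1 (hMmin M₁ ⟨h2, h1.trans hMX, h3⟩)
  have hMN : M ≤ normalizer (Y : Set H) := hXeq ▸ hMX
  have hML : M ∈ charPSubgroups p H := mem_charP_of_norm hH T hTM hYT₀ hY1 hMN
  have hYM : largestPReducedOf p M = Y := by
    apply le_antisymm
    · rw [← hYX]; exact largestOf_mono T hTM hMX (charP_of_mem hXL)
    · have h1 := s2822 T M X hTM hTX (by rw [hYX, sup_eq_left.mpr hDX]; exact hMD)
      rwa [hYX] at h1
  have hYLK := hs22 K hTK hKC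
  have hYLY : YL ≤ Y := by
    rw [← hYX]
    exact hYLK.trans (largestOf_mono T hTK hKX (charP_of_mem hXL))
  have hDC : D ≤ C := by
    have h : (YL : Set H) ⊆ (Y : Set H) := hYLY
    exact centralizer_le h
  -- `K' = K D ∩ M`
  have hK'D : ((K ⊔ D) ⊓ M) ⊔ D = K ⊔ D := by
    apply le_antisymm (sup_le inf_le_left le_sup_right)
    intro x hx
    have h1 : x ∈ M ⊔ D := by rw [hMD]; exact (sup_le hKX hDX) hx
    rw [sup_comm] at h1
    obtain ⟨d, hd, m, hm, rfl⟩ := (Basic.mem_sup_iff_left (hMX.trans hXD)).mp h1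
    have h2 : m ∈ K ⊔ D := by
      have h3 := mul_mem ((K ⊔ D).inv_mem ((le_sup_right : D ≤ K ⊔ D) hd)) hx
      rwa [inv_mul_cancel_left] at h3
    exact mul_mem ((le_sup_right : D ≤ ((K ⊔ D) ⊓ M) ⊔ D) hd) ((le_sup_left : (K ⊔ D) ⊓ M ≤ _) ⟨h2, hm⟩)
  have hTK' : (T : Subgroup H) ≤ (K ⊔ D) ⊓ M := le_inf (hTK.trans le_sup_left) hTM
  have hK'C : ((K ⊔ D) ⊓ M) ⊔ C = L ⊔ C := by
    have h1 : (((K ⊔ D) ⊓ M) ⊔ D) ⊔ C = ((K ⊔ D) ⊓ M) ⊔ C := by
      rw [sup_assoc, sup_eq_right.mpr hDC]
    rw [← h1, hK'D, sup_assoc, sup_eq_right.mpr hDC, hKC]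
  set K' := (K ⊔ D) ⊓ M with hK'
  have hK'M : K' ≤ M := inf_le_right
  have hMCn : M ≤ normalizer ((M ⊓ D : Subgroup H) : Set H) := by
    intro x hx
    rw [mem_normalizer_conj, conj_inf, conj_of_mem hx, mem_normalizer_conj.mp (hXD (hMX hx))]
  -- `T ∩ D` is normal in `M`
  have hT₀s : Syl p (M ⊓ D) ((T : Subgroup H) ⊓ D) := by
    have h1 := syl_inf' (sylow_syl T hTM) (M ⊓ D) inf_le_left hMCn
    rwa [← inf_assoc, inf_eq_left.mpr hTM] at h1
  have hTD : M ≤ normalizer (((T : Subgroup H) ⊓ D : Subgroup H) : Set H) := by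
    have h1 : M ⊓ normalizer (((T : Subgroup H) ⊓ D : Subgroup H) : Set H) = M := by
      apply hmin _ inf_le_left
      · refine le_inf hTM ?_
        intro x hx
        rw [mem_normalizer_conj, conj_inf, conj_of_mem hx, mem_normalizer_conj.mp (hXD (hTX hx))]
      · apply le_antisymm
        · exact sup_le (inf_le_left.trans hMX) hDX
        · rw [← hMD]
          refine sup_le ?_ le_sup_right
          intro g hg
          have h1 : cj[(T : Subgroup H) ⊓ D, g] ≤ M ⊓ D := by
            have := conj_mono hT₀s.le g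
            rwa [mem_normalizer_conj.mp (hMCn hg)] at this
          have h2 : Syl p (M ⊓ D) cj[(T : Subgroup H) ⊓ D, g] := by
            have := hT₀s.conj g
            rwa [mem_normalizer_conj.mp (hMCn hg)] at this
          obtain ⟨c, hc, e⟩ := h2.exists_conj hT₀s
          rw [conj_conj] at e
          have h3 : c * g ∈ M ⊓ normalizer (((T : Subgroup H) ⊓ D : Subgroup H) : Set H) :=
            ⟨M.mul_mem hc.1 hg, mem_normalizer_conj.mpr e.symm⟩
          have h4 : g = c⁻¹ * (c * g) := by group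
          rw [h4]
          exact mul_mem ((le_sup_right : D ≤ _ ⊔ D) (D.inv_mem hc.2)) ((le_sup_left : _ ≤ _ ⊔ D) h3)
    exact inf_eq_left.mp h1
  -- uniqueness
  have huniq : ∀ X' ∈ maxCharPSubgroups p H, M ≤ X' → X' = X := by
    intro X' hX' hMX'
    have h1 := hmax X' ⟨hX'.1, K', hTK', hK'M.trans hMX', hK'C⟩
    have h2 : Y ≤ largestPReducedOf p X' := by
      rw [← hYM]; exact largestOf_mono T hTM hMX' (charP_of_mem hX'.1)
    have h3 : Y = largestPReducedOf p X' := Subgroup.eq_of_le_of_card_ge h2 h1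
    have h4 : X' ≤ X := by
      rw [hXeq, h3]; exact (red_largest p X').2.1
    exact (hX'.2 X hXL h4).symm
  have hfrak : IsInFrakM p M := by
    refine ⟨hML, ?_, ?_, ?_, ?_, ?_⟩
    · rw [hYM, ← hD, hMD]; exact hXM
    · rw [hYM, ← hD, hMD]; exact huniq
    · rw [hYM, ← hD, hMD, hYX]
    · rw [hYM, ← hD]
      obtain ⟨S₀, hS₀⟩ := hT₀s
      have hn : (S₀ : Subgroup ↥(M ⊓ D)).Normal := by
        constructor
        intro x hx g
        have h1 : (x : H) ∈ (T : Subgroup H) ⊓ D := by rw [← hS₀]; exact ⟨x, hx, rfl⟩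
        have h2 : ((g * x * g⁻¹ : ↥(M ⊓ D)) : H) ∈ (T : Subgroup H) ⊓ D :=
          (mem_normalizer_iff.mp (hTD g.2.1) (x : H)).mp h1
        rw [← hS₀] at h2
        obtain ⟨y, hy, e⟩ := h2
        have h3 : y = g * x * g⁻¹ := Subtype.ext e
        rw [← h3]; exact hy
      intro P
      haveI := Sylow.unique_of_normal S₀ hn
      rw [Subsingleton.elim P S₀]
      exact hn
    · rw [hYM, ← hD]
      haveI : ((M ⊓ D).subgroupOf M).Normal := by
        rw [← normalizer_eq_top_iff, eq_top_iff]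
        refine le_trans ?_ (le_normalizer_comap M.subtype)
        intro x _
        exact hMCn x.2
      refine le_iInf₂ fun W hW => ?_
      rw [map_le_iff_le_comap]
      have hW' := coatom_comap (QuotientGroup.mk'_surjective (pCore p M)) hW
      have hOW : pCore p M ≤ W.comap (QuotientGroup.mk' (pCore p M)) := by
        intro x hx
        show QuotientGroup.mk' (pCore p M) x ∈ W
        rw [show QuotientGroup.mk' (pCore p M) x = 1 from (QuotientGroup.eq_one_iff x).mpr hx]
        exact W.one_mem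
      set W' := W.comap (QuotientGroup.mk' (pCore p M)) with hW'def
      by_contra hDW
      have h6 : (M ⊓ D).subgroupOf M ⊔ W' = ⊤ := by
        rcases (le_sup_right : W' ≤ (M ⊓ D).subgroupOf M ⊔ W').eq_or_lt with h | h
        · exact absurd (h ▸ le_sup_left) hDW
        · exact hW'.2 _ h
      have hOn : (((T : Subgroup H) ⊓ D).subgroupOf M).Normal := by
        rw [← normalizer_eq_top_iff, eq_top_iff]
        refine le_trans ?_ (le_normalizer_comap M.subtype)
        intro x _
        exact hTD x.2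
      have hOp : ((T : Subgroup H) ⊓ D).subgroupOf M ≤ pCore p M :=
        Cores.le_pCore hOn ((T.2.to_le inf_le_left).comap_of_injective M.subtype M.subtype_injective)
      obtain ⟨g, hg⟩ := sylow_in_supp (T.subtype hTM) (O := ((T : Subgroup H) ⊓ D).subgroupOf M)
        (D := (M ⊓ D).subgroupOf M) (M := W') (fun x hx => ⟨x.2, hx.2⟩) (by
          rw [Sylow.coe_subtype]
          exact fun x hx => ⟨hx.1, hx.2.2⟩) (hOp.trans hOW) h6
      have h7 := conj_mono hg g⁻¹
      rw [conj_inv_conj, Sylow.coe_subtype] at h7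
      have h8 : (M ⊓ D).subgroupOf M ⊔ cj[W', g⁻¹] = ⊤ := by
        have h9 := congrArg (Subgroup.map (MulAut.conj g⁻¹).toMonoidHom) h6
        rw [Subgroup.map_sup, mem_normalizer_conj.mp (norm_top ((M ⊓ D).subgroupOf M) g⁻¹)] at h9
        rw [h9]
        exact Subgroup.map_top_of_surjective _ (MulAut.conj g⁻¹).surjective
      have h9 : (cj[W', g⁻¹]).map M.subtype = M := by
        apply hmin _ (map_subtype_le _)
        · intro x hx
          exact ⟨⟨x, hTM hx⟩, h7 hx, rfl⟩
        · apply le_antisymm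
          · exact sup_le ((map_subtype_le _).trans hMX) hDX
          · rw [← hMD]
            refine sup_le ?_ le_sup_right
            have h10 : M = (((M ⊓ D).subgroupOf M ⊔ cj[W', g⁻¹]).map M.subtype) := by
              rw [h8, ← MonoidHom.range_eq_map, M.range_subtype]
            conv_lhs => rw [h10]
            rw [Subgroup.map_sup]
            refine sup_le ?_ le_sup_left
            rintro _ ⟨y, hy, rfl⟩
            exact (le_sup_right : D ≤ _ ⊔ D) hy.2
      have h10 : cj[W', g⁻¹] = ⊤ := by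
        rw [eq_top_iff]
        intro x _
        have h11 : (x : H) ∈ (cj[W', g⁻¹]).map M.subtype := by rw [h9]; exact x.2
        obtain ⟨y, hy, e⟩ := h11
        have h12 : y = x := Subtype.ext e
        rw [← h12]; exact hy
      exact (coatom_conj hW' g⁻¹).1 h10
  -- `L*`
  obtain ⟨h1, h2⟩ := hs24 K' hTK' _ rfl hK'C _ rfl
  set Ls := K' ⊓ normalizer ((((T : Subgroup H) ⊓ C : Subgroup H)) : Set H) with hLs
  have hK'N : K' ≤ normalizer (C : Set H) := by
    refine le_trans ?_ (hDL.trans (normalizer_le_normalizer_centralizer YL))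
    rw [← hK'C]; exact le_sup_left
  have hTLs : (T : Subgroup H) ≤ Ls := by
    refine le_inf hTK' ?_
    intro x hx
    rw [mem_normalizer_conj, conj_inf, conj_of_mem hx, mem_normalizer_conj.mp (hK'N (hTK' hx))]
  have hLsN : Ls ≤ normalizer (YL : Set H) := by
    refine le_trans ?_ hDL
    rw [← hK'C]; exact inf_le_left.trans le_sup_left
  refine ⟨M, Ls, hTM, hfrak, hTLs, inf_le_left.trans hK'M, ?_, h1.symm, ?_, h2⟩
  · exact mem_charP_of_norm hH T hTLs (hYT L hTL) hYL1 hLsN
  · rw [hYM]; exact hYLY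

theorem weakClosure_mono {Q L M : Subgroup H} (h : L ≤ M) : weakClosure Q L ≤ weakClosure Q M := by
  refine iSup_le fun g => ?_
  exact le_iSup (fun g : {g : H // cj[Q, g] ≤ M} => cj[Q, (g : H)]) ⟨g.1, g.2.trans h⟩

theorem le_normalizer_weakClosure {Q L : Subgroup H} : L ≤ normalizer ((weakClosure Q L : Subgroup H) : Set H) := by
  refine le_normalizer_of_conj ?_
  intro x hx
  rw [weakClosure, Subgroup.map_iSup]
  refine iSup_le fun g => ?_
  rw [conj_conj]
  refine le_iSup (fun g : {g : H // cj[Q, g] ≤ L} => cj[Q, (g : H)]) ⟨x * g.1, ?_⟩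
  have h1 := conj_mono g.2 x
  rwa [conj_conj, conj_of_mem hx] at h1

/-- S2846 -/
theorem s2846 [Finite H] [hp : Fact p.Prime] (Q : Subgroup H) (hQp : IsPGroup p ↥Q) (hQ1 : Q ≠ ⊥) (hLg : IsLarge Q)
    (S : Sylow p H) (hQS : Q ≤ (S : Subgroup H)) (L : Subgroup H) (hSL : (S : Subgroup H) ≤ L)
    (hL : L ∈ charPSubgroups p H) :
    ∃ M Ls : Subgroup H, (S : Subgroup H) ≤ M ∧ IsInFrakM p M ∧ (S : Subgroup H) ≤ Ls ∧ Ls ≤ M ∧
      Ls ∈ charPSubgroups p H ∧
      L ⊔ centralizer (((largestPReducedOf p L) : Subgroup H) : Set H) =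
        Ls ⊔ centralizer (((largestPReducedOf p L) : Subgroup H) : Set H) ∧
      weakClosure Q L = weakClosure Q Ls ∧ weakClosure Q Ls ≤ weakClosure Q M ∧
      (largestPReducedOf p L) = (largestPReducedOf p Ls) ∧ (largestPReducedOf p Ls) ≤ (largestPReducedOf p M) ∧
      (¬ L ≤ normalizer ((Q : Subgroup H) : Set H) → ¬ Ls ≤ normalizer ((Q : Subgroup H) : Set H) ∧
        ¬ M ≤ normalizer ((Q : Subgroup H) : Set H)) := by
  obtain ⟨M, Ls, h1, h2, h3, h4, h5, h6, h7, h8⟩ := s2847 (s2845 Q hQp hQ1 hLg).2.2 S L hSL hL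
  have hYp : IsPGroup p (largestPReducedOf p L) := el_isPGroup (red_largest p L).2.2.1
  have hY1 : largestPReducedOf p L ≠ ⊥ := largestOf_ne_bot hL
  have hD := daggerOf_le_normalizer (p := p) L
  have e1 := (s2843 Q hQp hQ1 hLg L (hQS.trans hSL) _ hYp hY1 (le_sup_left.trans hD)).1
  have hLsN : Ls ≤ normalizer ((largestPReducedOf p L : Subgroup H) : Set H) := by
    refine le_trans ?_ hD
    rw [h8]; exact le_sup_left
  have e2 := (s2843 Q hQp hQ1 hLg Ls (hQS.trans h3) _ hYp hY1 hLsN).1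
  have e3 : weakClosure Q L = weakClosure Q Ls := by rw [e1, e2, h8]
  have hwc := large_wc hQp hQ1 hLg
  have key : ¬ L ≤ normalizer ((Q : Subgroup H) : Set H) → ¬ Ls ≤ normalizer ((Q : Subgroup H) : Set H) := by
    intro h h'
    apply h
    have e4 : weakClosure Q Ls = Q := by
      apply le_antisymm
      · refine iSup_le fun g => ?_
        obtain ⟨k, hk, e⟩ := wc_conj hQp hwc (hQS.trans h3) g.2
        rw [e, mem_normalizer_conj.mp (h' hk)]
      · have h9 := le_iSup (fun g : {g : H // cj[Q, g] ≤ Ls} => cj[Q, (g : H)]) ⟨1, by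
          rw [conj_of_mem Q.one_mem]; exact hQS.trans h3⟩
        rwa [show cj[Q, (((⟨1, by rw [conj_of_mem Q.one_mem]; exact hQS.trans h3⟩ : {g : H // cj[Q, g] ≤ Ls}) : H))] = Q from
          conj_of_mem Q.one_mem] at h9
    have e5 := le_normalizer_weakClosure (Q := Q) (L := L)
    rwa [e3, e4] at e5
  refine ⟨M, Ls, h1, h2, h3, h4, h5, h8, e3, weakClosure_mono h4, h6, ?_, ?_⟩
  · rw [← h6]; exact h7
  · intro h
    exact ⟨key h, fun h' => key h (h4.trans h')⟩

end Cfsg.Agent.Lib.PRed
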