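import Cfsg.Agent.Lib.PRedJ

/-!
# Asymmetric `Y_M`: `O_p(M)` is weakly closed
-/

set_option autoImplicit false

namespace Cfsg.Agent.Lib.PRed

open Subgroup POf PIrr WClos
open scoped commutatorElement

variable {H : Type*} [Group H] {p : ℕ}

local notation "cj[" Q ", " g "]" => Subgroup.map (MulEquiv.toMonoidHom (MulAut.conj g)) Q

theorem mem_charP_iff {L : Subgroup H} : L ∈ charPSubgroups p H ↔
    pCoreOf p L ≠ ⊥ ∧ centralizer (pCoreOf p L : Set H) ≤ pCoreOf p L := by
  constructor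
  · rintro ⟨h1, h2⟩
    refine ⟨?_, h2⟩
    intro h
    apply h1
    rwa [pCoreOf, Subgroup.map_eq_bot_iff_of_injective _ L.subtype_injective] at h
  · rintro ⟨h1, h2⟩
    refine ⟨?_, h2⟩
    intro h
    apply h1
    rw [pCoreOf, h, Subgroup.map_bot]

theorem mem_charP_conj {L : Subgroup H} (hL : L ∈ charPSubgroups p H) (x : H) : cj[L, x] ∈ charPSubgroups p H := by
  rw [mem_charP_iff] at hL ⊢
  rw [pCoreOf_conj, ← centralizer_conj]
  refine ⟨?_, conj_mono hL.2 x⟩
  intro h
  apply hL.1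
  have h1 := congrArg (Subgroup.map (MulAut.conj x⁻¹).toMonoidHom) h
  rwa [conj_inv_conj, Subgroup.map_bot] at h1

theorem max_conj {L : Subgroup H} (hL : L ∈ maxCharPSubgroups p H) (x : H) : cj[L, x] ∈ maxCharPSubgroups p H := by
  refine ⟨mem_charP_conj hL.1 x, ?_⟩
  intro K hK hLK
  have h1 := conj_mono hLK x⁻¹
  rw [conj_inv_conj] at h1
  have h2 := hL.2 _ (mem_charP_conj hK x⁻¹) h1
  rw [← h2, conj_conj_inv]

/-- `N(W) ≤ M†` for `1 ≠ W` normalised by `M` -/
theorem norm_le_dagger [Finite H] [hp : Fact p.Prime] (hH : IsOfParabolicCharacteristic p H) (S : Sylow p H)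
    {M : Subgroup H} (hSM : (S : Subgroup H) ≤ M) (hM : IsInFrakM p M) {W : Subgroup H} (hWp : IsPGroup p W)
    (hW1 : W ≠ ⊥) (hMW : M ≤ normalizer (W : Set H)) :
    normalizer (W : Set H) ≤ M ⊔ centralizer ((largestPReducedOf p M : Subgroup H) : Set H) := by
  have hN : normalizer (W : Set H) ∈ charPSubgroups p H := by
    refine mem_charP_of_parabolic hH S (hSM.trans hMW) ?_
    intro h
    have h1 : W ≤ pCoreOf p (normalizer (W : Set H)) := POf.le_pCoreOf le_normalizer hWp le_rfl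
    rw [h, le_bot_iff] at h1
    exact hW1 h1
  obtain ⟨X, ⟨hXL, hNX⟩, hXmax⟩ := Set.exists_max_image
    {X : Subgroup H | X ∈ charPSubgroups p H ∧ normalizer (W : Set H) ≤ X} (fun X => Nat.card X)
    (Set.toFinite _) ⟨_, hN, le_rfl⟩
  have hXM : X ∈ maxCharPSubgroups p H :=
    ⟨hXL, fun L' hL' hXL' => (Subgroup.eq_of_le_of_card_ge hXL' (hXmax L' ⟨hL', hNX.trans hXL'⟩)).symm⟩
  rw [← hM.2.2.1 X hXM (hMW.trans hNX)]
  exact hNX

theorem frakM_norm [Finite H] [hp : Fact p.Prime] (hH : IsOfParabolicCharacteristic p H) (S : Sylow p H)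
    {M : Subgroup H} (hSM : (S : Subgroup H) ≤ M) (hM : IsInFrakM p M) :
    normalizer ((largestPReducedOf p M : Subgroup H) : Set H) =
      M ⊔ centralizer ((largestPReducedOf p M : Subgroup H) : Set H) := by
  apply le_antisymm
  · exact norm_le_dagger hH S hSM hM (el_isPGroup (red_largest p M).2.2.1) (largestOf_ne_bot hM.1)
      (red_largest p M).2.1
  · exact daggerOf_le_normalizer M

theorem frakM_syl [Finite H] [hp : Fact p.Prime] (S : Sylow p H)
    {M : Subgroup H} (hSM : (S : Subgroup H) ≤ M) (hM : IsInFrakM p M) :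
    Syl p (centralizer ((largestPReducedOf p M : Subgroup H) : Set H)) (pCoreOf p M) := by
  rw [frakM_inf S M hSM hM]
  refine syl_inf _ S ?_
  exact hSM.trans ((red_largest p M).2.1.trans (normalizer_le_normalizer_centralizer _))

theorem frakM_zc [Finite H] [hp : Fact p.Prime] (S : Sylow p H)
    {M : Subgroup H} (hSM : (S : Subgroup H) ≤ M) (hM : IsInFrakM p M) :
    largestPReducedOf p M = zc p (pCoreOf p M) := by
  rw [frakM_inf S M hSM hM]
  exact largestOf_eq_zc (charP_of_mem hM.1) (sylow_syl S hSM)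

theorem frakM_normR [Finite H] [hp : Fact p.Prime] (S : Sylow p H)
    {M : Subgroup H} (hSM : (S : Subgroup H) ≤ M) (hM : IsInFrakM p M) :
    normalizer (pCoreOf p M : Set H) ≤ normalizer ((largestPReducedOf p M : Subgroup H) : Set H) := by
  intro x hx
  rw [mem_normalizer_conj] at hx ⊢
  rw [frakM_zc S hSM hM, zc_conj, hx]

/-! ### the graph of mutually normalising conjugates -/

/-- adjacency -/
def Adj (R : Subgroup H) (a b : H) : Prop :=
  cj[R, a] ≤ normalizer ((cj[R, b] : Subgroup H) : Set H) ∧ cj[R, b] ≤ normalizer ((cj[R, a] : Subgroup H) : Set H)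

theorem Adj.symm {R : Subgroup H} {a b : H} (h : Adj R a b) : Adj R b a := ⟨h.2, h.1⟩

theorem Adj.mul {R : Subgroup H} {a b : H} (h : Adj R a b) (x : H) : Adj R (x * a) (x * b) := by
  constructor
  · have := conj_normalizer h.1 x
    rwa [conj_conj, conj_conj] at this
  · have := conj_normalizer h.2 x
    rwa [conj_conj, conj_conj] at this

/-- walks -/
def Wk (R : Subgroup H) : ℕ → H → H → Prop
  | 0, a, c => cj[R, a] = cj[R, c]
  | n + 1, a, c => ∃ b, Adj R a b ∧ Wk R n b c

theorem Wk.last {R : Subgroup H} : ∀ (n : ℕ) (a c : H), Wk R (n + 1) a c → ∃ b, Wk R n a b ∧ Adj R b c := by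
  intro n
  induction n with
  | zero =>
    rintro a c ⟨b, hab, hbc⟩
    refine ⟨a, rfl, ?_⟩
    have hbc' : cj[R, b] = cj[R, c] := hbc
    unfold Adj at hab ⊢
    rwa [hbc'] at hab
  | succ n ih =>
    rintro a c ⟨b, hab, hbc⟩
    obtain ⟨d, hd, hdc⟩ := ih b c hbc
    exact ⟨d, ⟨b, hab, hd⟩, hdc⟩

/-- connectedness -/
def Conn (R : Subgroup H) (a b : H) : Prop := Relation.ReflTransGen (Adj R) a b

theorem wk_of_conn {R : Subgroup H} {a c : H} (h : Conn R a c) : ∃ n, Wk R n a c := by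
  unfold Conn at h
  induction h using Relation.ReflTransGen.head_induction_on with
  | refl => exact ⟨0, rfl⟩
  | head h1 _ ih =>
    obtain ⟨n, hn⟩ := ih
    exact ⟨n + 1, _, h1, hn⟩

theorem Conn.symm {R : Subgroup H} {a c : H} (h : Conn R a c) : Conn R c a := by
  unfold Conn at h ⊢
  induction h with
  | refl => exact Relation.ReflTransGen.refl
  | tail _ h1 ih => exact Relation.ReflTransGen.head h1.symm ih

theorem Conn.trans {R : Subgroup H} {a b c : H} (h : Conn R a b) (h' : Conn R b c) : Conn R a c := by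
  unfold Conn at h h' ⊢
  exact Relation.ReflTransGen.trans h h'

theorem Conn.mul {R : Subgroup H} {a c : H} (h : Conn R a c) (x : H) : Conn R (x * a) (x * c) := by
  unfold Conn at h ⊢
  induction h with
  | refl => exact Relation.ReflTransGen.refl
  | tail _ h1 ih => exact Relation.ReflTransGen.tail ih (h1.mul x)

theorem Conn.single {R : Subgroup H} {a c : H} (h : Adj R a c) : Conn R a c := Relation.ReflTransGen.single h

theorem Conn.rfl' {R : Subgroup H} {a : H} : Conn R a a := Relation.ReflTransGen.refl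

/-- the subgroup of the component -/
def CW (R Y : Subgroup H) : Subgroup H := ⨆ c : {c : H // Conn R 1 c}, cj[Y, (c : H)]

theorem le_CW {R Y : Subgroup H} {c : H} (hc : Conn R 1 c) : cj[Y, c] ≤ CW R Y :=
  le_iSup (fun c : {c : H // Conn R 1 c} => cj[Y, (c : H)]) ⟨c, hc⟩

theorem norm_CW {R Y : Subgroup H} {b : H} (hb : Conn R 1 b) :
    normalizer ((cj[R, b] : Subgroup H) : Set H) ≤ normalizer ((CW R Y : Subgroup H) : Set H) := by
  refine le_normalizer_of_conj ?_
  intro x hx
  have e : cj[R, x * b] = cj[R, b] := by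
    rw [← conj_conj]; exact mem_normalizer_conj.mp hx
  have h1 : Conn R b (x * b) := by
    refine Conn.single ?_
    unfold Adj
    rw [e]
    exact ⟨le_normalizer, le_normalizer⟩
  unfold CW
  rw [Subgroup.map_iSup]
  refine iSup_le fun c => ?_
  rw [conj_conj]
  exact le_CW (hb.trans (h1.trans ((hb.symm.trans c.2).mul x)))

/-- the key claim -/
theorem wk_le [Finite H] [hp : Fact p.Prime] {R Y : Subgroup H} (hRp : IsPGroup p R) (hRs : Syl p (centralizer (Y : Set H)) R)
    (hY : Y = zc p R) (hasym : ¬ IsSymmetricIn Y) (n : ℕ) :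
    ∀ a c : H, Wk R n a c → cj[Y, c] ≤ cj[R, a] ∧ cj[Y, a] ≤ cj[R, c] := by
  have hYR : Y ≤ R := by rw [hY]; exact zc_le p R
  have hzc : ∀ a : H, cj[Y, a] = zc p cj[R, a] := fun a => by rw [hY, zc_conj]
  have hNN : ∀ a : H, normalizer ((cj[R, a] : Subgroup H) : Set H) ≤ normalizer ((cj[Y, a] : Subgroup H) : Set H) := by
    intro a x hx
    rw [mem_normalizer_conj] at hx ⊢
    rw [hzc, zc_conj, hx]
  -- asymmetry
  have has : ∀ a c : H, cj[Y, c] ≤ normalizer ((cj[Y, a] : Subgroup H) : Set H) →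
      cj[Y, a] ≤ normalizer ((cj[Y, c] : Subgroup H) : Set H) → cj[Y, c] ≤ centralizer ((cj[Y, a] : Subgroup H) : Set H) := by
    intro a c h1 h2
    have h3 : cj[Y, a⁻¹ * c] ≤ normalizer (Y : Set H) := by
      have := conj_normalizer h1 a⁻¹
      rwa [conj_conj, conj_inv_conj] at this
    have h4 : Y ≤ normalizer ((cj[Y, a⁻¹ * c] : Subgroup H) : Set H) := by
      have := conj_normalizer h2 a⁻¹
      rwa [conj_inv_conj, conj_conj] at this
    have h5 := asym_comm hasym h3 h4
    have h6 : cj[Y, a⁻¹ * c] ≤ centralizer (Y : Set H) := by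
      rw [commutator_comm, commutator_eq_bot_iff_le_centralizer] at h5
      exact h5
    have h7 := conj_mono h6 a
    rwa [conj_conj, centralizer_conj, mul_inv_cancel_left] at h7
  -- Sylow
  have hsy : ∀ (a : H) (P : Subgroup H), IsPGroup p P → P ≤ centralizer ((cj[Y, a] : Subgroup H) : Set H) →
      P ≤ normalizer ((cj[R, a] : Subgroup H) : Set H) → P ≤ cj[R, a] := by
    intro a P hP h1 h2
    have h3 := hRs.conj a
    rw [centralizer_conj] at h3
    have h4 := h3.max (sup_le h1 h3.le) (isPGroup_sup hP h3.isPGroup h2) le_sup_right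
    rw [← h4]; exact le_sup_left
  induction n with
  | zero =>
    intro a c h
    have h' : cj[R, a] = cj[R, c] := h
    refine ⟨?_, ?_⟩
    · rw [h']; exact conj_mono hYR c
    · rw [← h']; exact conj_mono hYR a
  | succ n ih =>
    intro a c h
    obtain ⟨d, hd, hdc⟩ := Wk.last n a c h
    obtain ⟨b, hab, hbc⟩ := h
    have h1 : cj[Y, c] ≤ normalizer ((cj[R, a] : Subgroup H) : Set H) := (ih b c hbc).1.trans hab.2
    have h2 : cj[Y, a] ≤ normalizer ((cj[R, c] : Subgroup H) : Set H) := (ih a d hd).2.trans hdc.1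
    have h3 := has a c (h1.trans (hNN a)) (h2.trans (hNN c))
    have h4 := has c a (h2.trans (hNN c)) (h1.trans (hNN a))
    exact ⟨hsy a _ (pgroup_conj (hRp.to_le hYR) c) h3 h1, hsy c _ (pgroup_conj (hRp.to_le hYR) a) h4 h2⟩

theorem CW_le [Finite H] [hp : Fact p.Prime] {R Y : Subgroup H} (hRp : IsPGroup p R)
    (hRs : Syl p (centralizer (Y : Set H)) R) (hzc : Y = zc p R) (hasym : ¬ IsSymmetricIn Y) : CW R Y ≤ R := by
  have h1R : cj[R, 1] = R := conj_of_mem (one_mem R)
  unfold CW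
  refine iSup_le ?_
  rintro ⟨c, hc⟩
  obtain ⟨n, hn⟩ := wk_of_conn hc
  have h1 := (wk_le hRp hRs hzc hasym n 1 c hn).1
  rw [h1R] at h1
  exact h1

theorem le_CW_self {R Y : Subgroup H} : Y ≤ CW R Y := by
  have hYd : cj[Y, 1] = Y := conj_of_mem (one_mem Y)
  have h1 := le_CW (Y := Y) (Conn.rfl' (R := R) (a := 1))
  rw [hYd] at h1
  exact h1

theorem norm_CW_self {R Y : Subgroup H} : normalizer (R : Set H) ≤ normalizer ((CW R Y : Subgroup H) : Set H) := by
  have h1R : cj[R, 1] = R := conj_of_mem (one_mem R)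
  have h1 := norm_CW (Y := Y) (Conn.rfl' (R := R) (a := 1))
  rw [h1R] at h1
  exact h1


theorem cc_abs1 {W M D : Subgroup H} {g : H} (hWp : IsPGroup p W) (hW1 : W ≠ ⊥)
    (hMgW : cj[M, g] ≤ normalizer (W : Set H))
    (hnd : ∀ W : Subgroup H, IsPGroup p W → W ≠ ⊥ → M ≤ normalizer (W : Set H) → normalizer (W : Set H) ≤ D) :
    normalizer (W : Set H) ≤ cj[D, g] := by
  have h4 : M ≤ normalizer ((cj[W, g⁻¹] : Subgroup H) : Set H) := by
    have := conj_normalizer hMgW g⁻¹
    rw [conj_inv_conj] at this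
    exact this
  have h5 : cj[W, g⁻¹] ≠ ⊥ := by
    intro h
    apply hW1
    have h6 := congrArg (Subgroup.map (MulAut.conj g).toMonoidHom) h
    rw [conj_conj_inv, Subgroup.map_bot] at h6
    exact h6
  have h6 := hnd _ (pgroup_conj hWp g⁻¹) h5 h4
  intro x hx
  rw [mem_conj]
  apply h6
  rw [mem_normalizer_cj, inv_inv]
  have e : g * (g⁻¹ * x * g) * g⁻¹ = x := by
    rw [mul_assoc g⁻¹, mul_inv_cancel_left, mul_inv_cancel_right]
  rw [e]; exact hx


/-- the conjugate property, abstract form -/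
theorem cc_abs [Finite H] [hp : Fact p.Prime] {R Y M D : Subgroup H} (hRp : IsPGroup p R)
    (hRs : Syl p (centralizer (Y : Set H)) R) (hzc : Y = zc p R) (hasym : ¬ IsSymmetricIn Y) (hY1 : Y ≠ ⊥)
    (hMR : M ≤ normalizer (R : Set H))
    (hnd : ∀ W : Subgroup H, IsPGroup p W → W ≠ ⊥ → M ≤ normalizer (W : Set H) → normalizer (W : Set H) ≤ D)
    (huni : ∀ g : H, M ≤ cj[D, g] → cj[D, g] = D) (hDY : ∀ g : H, cj[D, g] = D → cj[Y, g] = Y) : CC R := by
  intro g hg
  have hg12 := normalize_of_comm hg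
  have h1R : cj[R, 1] = R := conj_of_mem (one_mem R)
  have hWR : CW R Y ≤ R := CW_le hRp hRs hzc hasym
  have hWp : IsPGroup p (CW R Y) := hRp.to_le hWR
  have hYW : Y ≤ CW R Y := le_CW_self
  have hW1 : CW R Y ≠ ⊥ := by
    intro h
    rw [h, le_bot_iff] at hYW
    exact hY1 hYW
  have hadj : Adj R 1 g := by
    unfold Adj
    rw [h1R]
    exact hg12
  have hMW : M ≤ normalizer ((CW R Y : Subgroup H) : Set H) := hMR.trans norm_CW_self
  have hMgW : cj[M, g] ≤ normalizer ((CW R Y : Subgroup H) : Set H) := by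
    refine le_trans ?_ (norm_CW (Conn.single hadj))
    exact conj_normalizer hMR g
  have h3 : normalizer ((CW R Y : Subgroup H) : Set H) ≤ cj[D, g] := cc_abs1 hWp hW1 hMgW hnd
  have h5 : cj[Y, g] = Y := hDY g (huni g (hMW.trans h3))
  have h6 := hRs.conj g
  rw [centralizer_conj, h5] at h6
  have h7 := hRs.max (sup_le h6.le hRs.le) (isPGroup_sup h6.isPGroup hRp hg12.2) le_sup_right
  have h8 : cj[R, g] ≤ R := le_sup_left.trans h7.le
  exact eq_of_conj_le h8

/-- `O_p(M)` has the conjugate property -/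
theorem cc_frak [Finite H] [hp : Fact p.Prime] (hH : IsOfParabolicCharacteristic p H) (S : Sylow p H) {M : Subgroup H}
    (hSM : (S : Subgroup H) ≤ M) (hM : IsInFrakM p M) (hasym : ¬ IsSymmetricIn (largestPReducedOf p M)) :
    CC (pCoreOf p M) := by
  refine cc_abs (Y := largestPReducedOf p M) (M := M)
    (D := M ⊔ centralizer ((largestPReducedOf p M : Subgroup H) : Set H)) pCoreOf_isPGroup
    (frakM_syl S hSM hM) (frakM_zc S hSM hM) hasym (largestOf_ne_bot hM.1) le_normalizer_pCoreOf ?_ ?_ ?_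
  · intro W h1 h2 h3
    exact norm_le_dagger hH S hSM hM h1 h2 h3
  · intro g hg
    exact hM.2.2.1 _ (max_conj hM.2.1 g) hg
  · intro g hg
    have h6 := largestOf_conj (p := p) (M ⊔ centralizer ((largestPReducedOf p M : Subgroup H) : Set H)) g
    rw [hg] at h6
    rw [← hM.2.2.2.1] at h6
    exact h6

/-- S2850 -/
theorem s2850 [Finite H] [hp : Fact p.Prime] (hH : IsOfParabolicCharacteristic p H) (S : Sylow p H) (M : Subgroup H)
    (hSM : (S : Subgroup H) ≤ M) (hM : IsInFrakM p M) (hasym : ¬ IsSymmetricIn (largestPReducedOf p M)) :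
    (∀ L : Subgroup H, IsPGroup p ↥L → (pCoreOf p M) ≤ L →
      normalizer ((L : Subgroup H) : Set H) ≤ normalizer (((pCoreOf p M) : Subgroup H) : Set H) ∧
        normalizer (((pCoreOf p M) : Subgroup H) : Set H) ≤
          (M ⊔ centralizer (((largestPReducedOf p M) : Subgroup H) : Set H))) ∧
      IsWeaklyClosedSubgroup p (pCoreOf p M) ∧
      (∀ L : Subgroup H, (pCoreOf p M) ≤ L →
        IsParabolic p ((L ⊓ (M ⊔ centralizer (((largestPReducedOf p M) : Subgroup H) : Set H))).subgroupOf L)) ∧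
      (∀ x ∈ (largestPReducedOf p M), ∀ g : H, g * x * g⁻¹ ∈ (largestPReducedOf p M) →
        ∃ m ∈ M, m * x * m⁻¹ = g * x * g⁻¹) := by
  have hcc := cc_frak hH S hSM hM hasym
  have hRp : IsPGroup p (pCoreOf p M) := pCoreOf_isPGroup
  have hnc : NC p (pCoreOf p M) := CC_NC hcc
  have hwc : IsWeaklyClosedSubgroup p (pCoreOf p M) := (s2838 hRp).1.mpr hcc
  have hRD : normalizer (((pCoreOf p M) : Subgroup H) : Set H) ≤
      (M ⊔ centralizer (((largestPReducedOf p M) : Subgroup H) : Set H)) := by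
    rw [← frakM_norm hH S hSM hM]
    exact frakM_normR S hSM hM
  refine ⟨fun L hL hRL => ⟨hnc L hL hRL, hRD⟩, hwc, ?_, ?_⟩
  · intro L hRL
    obtain ⟨P, hP, hRP⟩ := exists_syl_ge hRL hRp
    obtain ⟨P', hP'⟩ := hP
    have h1 : P ≤ normalizer (((pCoreOf p M) : Subgroup H) : Set H) :=
      le_normalizer.trans (hnc P (by rw [← hP']; exact P'.2.map _) hRP)
    refine ⟨P', ?_⟩
    intro x hx
    refine ⟨x.2, hRD (h1 ?_)⟩
    rw [← hP']
    exact ⟨x, hx, rfl⟩
  · intro x hx g hg
    have hYc := frakM_zc S hSM hM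
    have hRc : ∀ y ∈ largestPReducedOf p M, pCoreOf p M ≤ centralizer {y} := by
      intro y hy r hr
      rw [mem_centralizer_singleton_iff]
      have h1 := (red_largest p M).pCoreOf_le hr
      exact (mem_centralizer_iff.mp h1 y hy).symm
    have h1 : cj[pCoreOf p M, g] ≤ centralizer {g * x * g⁻¹} := by
      rintro _ ⟨r, hr, rfl⟩
      rw [mem_centralizer_singleton_iff]
      have h2 := mem_centralizer_singleton_iff.mp (hRc x hx hr)
      show g * r * g⁻¹ * (g * x * g⁻¹) = g * x * g⁻¹ * (g * r * g⁻¹)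
      have e1 : g * r * g⁻¹ * (g * x * g⁻¹) = g * (r * x) * g⁻¹ := by group
      have e2 : g * x * g⁻¹ * (g * r * g⁻¹) = g * (x * r) * g⁻¹ := by group
      rw [e1, e2, h2]
    obtain ⟨k, hk, e⟩ := wc_conj hRp hwc (hRc _ hg) h1
    have h2 : k⁻¹ * g ∈ normalizer (((pCoreOf p M) : Subgroup H) : Set H) := by
      rw [mem_normalizer_conj, ← conj_conj, e, conj_inv_conj]
    have h3 := hRD h2
    have hMC : M ≤ normalizer ((centralizer (((largestPReducedOf p M) : Subgroup H) : Set H) : Subgroup H) : Set H) :=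
      (red_largest p M).2.1.trans (normalizer_le_normalizer_centralizer _)
    rw [sup_comm] at h3
    obtain ⟨m, hm, c, hc, e2⟩ := (Basic.mem_sup_iff_right hMC).mp h3
    refine ⟨m, hm, ?_⟩
    have h4 : c * x = x * c := (mem_centralizer_iff.mp hc x hx).symm
    have h5 : k * (g * x * g⁻¹) = g * x * g⁻¹ * k := mem_centralizer_singleton_iff.mp hk
    have h6 : m = k⁻¹ * g * c⁻¹ := by rw [← e2, mul_inv_cancel_right]
    rw [h6]
    have h7 : c⁻¹ * x * c = x := by
      rw [mul_assoc, ← h4, inv_mul_cancel_left]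
    calc k⁻¹ * g * c⁻¹ * x * (k⁻¹ * g * c⁻¹)⁻¹ = k⁻¹ * (g * (c⁻¹ * x * c) * g⁻¹ * k) := by group
      _ = k⁻¹ * (k * (g * x * g⁻¹)) := by rw [h7, ← h5]
      _ = g * x * g⁻¹ := by group

end Cfsg.Agent.Lib.PRed
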