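import Cfsg.Agent.Lib.PRedK

/-!
# The set `ℌ_G(O_p(M))`
-/

set_option autoImplicit false

namespace Cfsg.Agent.Lib.PRed

open Subgroup POf PIrr WClos
open scoped commutatorElement

variable {H : Type*} [Group H] {p : ℕ}

local notation "cj[" Q ", " g "]" => Subgroup.map (MulEquiv.toMonoidHom (MulAut.conj g)) Q

theorem pcore_norm [Finite H] [Fact p.Prime] {R : Subgroup H} (hRp : IsPGroup p R) (hnc : NC p R) {L : Subgroup H}
    (hRL : R ≤ L) : pCoreOf p L ≤ normalizer (R : Set H) := by
  obtain ⟨P, hP, hRP⟩ := exists_syl_ge hRL hRp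
  exact hP.pCoreOf_le.trans (le_normalizer.trans (hnc P hP.isPGroup hRP))

/-- the normal closure as a join of conjugates -/
def ncj (K A : Subgroup H) : Subgroup H := ⨆ k : ↥K, cj[A, (k : H)]

theorem conj_le_ncj {K A : Subgroup H} {k : H} (hk : k ∈ K) : cj[A, k] ≤ ncj K A :=
  le_iSup (fun k : ↥K => cj[A, (k : H)]) ⟨k, hk⟩

theorem le_ncj {K A : Subgroup H} : A ≤ ncj K A := by
  have h := conj_le_ncj (A := A) K.one_mem
  rw [show cj[A, 1] = A from conj_of_mem A.one_mem] at h
  exact h

theorem norm_ncj {K A : Subgroup H} : K ≤ normalizer ((ncj K A : Subgroup H) : Set H) := by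
  refine le_normalizer_of_conj ?_
  intro x hx
  unfold ncj
  rw [Subgroup.map_iSup]
  refine iSup_le fun k => ?_
  rw [conj_conj]
  exact conj_le_ncj (K.mul_mem hx k.2)

theorem ncj_le {K A B : Subgroup H} (hAB : A ≤ B) (hn : K ≤ normalizer (B : Set H)) : ncj K A ≤ B := by
  unfold ncj
  refine iSup_le fun k => ?_
  have h := conj_mono hAB (k : H)
  rw [mem_normalizer_conj.mp (hn k.2)] at h
  exact h

theorem ncj_le_self {K A : Subgroup H} (hAK : A ≤ K) : ncj K A ≤ K := ncj_le hAK le_normalizer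

theorem ncl_eq {K A : Subgroup H} (hAK : A ≤ K) :
    (normalClosure ((A.subgroupOf K : Subgroup ↥K) : Set ↥K)).map K.subtype = ncj K A := by
  apply le_antisymm
  · have h1 : ((ncj K A).subgroupOf K).Normal := by
      rw [← normalizer_eq_top_iff, eq_top_iff]
      refine le_trans ?_ (le_normalizer_comap K.subtype)
      intro x _
      exact norm_ncj x.2
    have h2 : normalClosure ((A.subgroupOf K : Subgroup ↥K) : Set ↥K) ≤ (ncj K A).subgroupOf K := by
      refine normalClosure_le_normal ?_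
      intro x hx
      exact le_ncj hx
    rintro _ ⟨x, hx, rfl⟩
    exact h2 hx
  · refine ncj_le ?_ ?_
    · intro a ha
      exact ⟨⟨a, hAK ha⟩, subset_normalClosure (by exact ha), rfl⟩
    · have h1 := le_normalizer_map K.subtype (H := normalClosure ((A.subgroupOf K : Subgroup ↥K) : Set ↥K))
      rw [normalizer_eq_top, ← MonoidHom.range_eq_map, K.range_subtype] at h1
      exact h1

theorem pCoreOf_inf_le {P K : Subgroup H} (hPK : P ≤ K) : pCoreOf p K ⊓ P ≤ pCoreOf p P := by
  refine POf.le_pCoreOf inf_le_right (pCoreOf_isPGroup.to_le inf_le_left) ?_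
  intro x hx
  rw [mem_normalizer_conj, conj_inf, conj_of_mem hx, mem_normalizer_conj.mp (le_normalizer_pCoreOf (hPK hx))]

/-- S2852 -/
theorem s2852 [Finite H] [hp : Fact p.Prime] (hH : IsOfParabolicCharacteristic p H) (S : Sylow p H) (M : Subgroup H)
    (hSM : (S : Subgroup H) ≤ M) (hM : IsInFrakM p M) (htall : IsCharPTall p (largestPReducedOf p M))
    (hasym : ¬ IsSymmetricIn (largestPReducedOf p M)) : ∃ K : Subgroup H, IsInFrakH p M K := by
  obtain ⟨T, L, hTL, hLc, hYL⟩ := htall
  have hcc := cc_frak hH S hSM hM hasym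
  have hRp : IsPGroup p (pCoreOf p M) := pCoreOf_isPGroup
  have hnc : NC p (pCoreOf p M) := CC_NC hcc
  have hYR : largestPReducedOf p M ≤ pCoreOf p M := (red_largest p M).le_pCoreOf
  have hTs : Syl p (centralizer ((largestPReducedOf p M : Subgroup H) : Set H))
      ((T : Subgroup ↥(centralizer ((largestPReducedOf p M : Subgroup H) : Set H))).map
        (centralizer ((largestPReducedOf p M : Subgroup H) : Set H)).subtype) := ⟨T, rfl⟩
  obtain ⟨x, hx, e⟩ := hTs.exists_conj (frakM_syl S hSM hM)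
  have hL1 := charP_conj hLc x
  have hRL : pCoreOf p M ≤ cj[L, x] := by rw [e]; exact conj_mono hTL x
  have hYL1 : ¬ largestPReducedOf p M ≤ pCoreOf p cj[L, x] := by
    intro h
    apply hYL
    rw [pCoreOf_conj] at h
    have h1 := conj_mono h x⁻¹
    rw [conj_inv_conj, mem_normalizer_conj.mp (centralizer_le_normalizer _ (Subgroup.inv_mem _ hx))] at h1
    exact h1
  obtain ⟨K, ⟨hRK, hKc, hYK⟩, hmin⟩ := Set.exists_min_image
    {K : Subgroup H | pCoreOf p M ≤ K ∧ K ⊓ centralizer (pCoreOf p K : Set H) ≤ pCoreOf p K ∧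
      ¬ largestPReducedOf p M ≤ pCoreOf p K} (fun K => Nat.card K) (Set.toFinite _) ⟨_, hRL, hL1, hYL1⟩
  refine ⟨K, charP_of_inf hKc, hRK, hYK, ?_⟩
  intro P hRP hPK
  have hON : pCoreOf p K ≤ normalizer (pCoreOf p M : Set H) := pcore_norm hRp hnc hRK
  have hPO : P ≤ normalizer (pCoreOf p K : Set H) := hPK.le.trans le_normalizer_pCoreOf
  have hP₁K : pCoreOf p K ⊔ P ≤ K := sup_le pCoreOf_le hPK.le
  rcases hP₁K.eq_or_lt with h | h
  · exfalso
    have h1 : ncj K (pCoreOf p M) ≤ P := by
      unfold ncj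
      refine iSup_le ?_
      rintro ⟨k, hk⟩
      rw [← h] at hk
      obtain ⟨y, hy, n, hn, e⟩ := (Basic.mem_sup_iff_right hPO).mp hk
      show cj[pCoreOf p M, k] ≤ P
      rw [← e, ← conj_conj, mem_normalizer_conj.mp (hON hn)]
      have h2 := conj_mono hRP y
      rwa [conj_of_mem hy] at h2
    have h2 := char_ambient hKc (ncj_le_self hRK) norm_ncj
    have h3 := hmin _ ⟨le_ncj, h2, fun h4 => hYK (h4.trans (pCoreOf_mono_normal (ncj_le_self hRK) norm_ncj))⟩
    have h4 := Basic.card_lt_card_of_lt (h1.trans_lt hPK)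
    exact absurd h3 (not_le.mpr h4)
  · by_contra hYP
    have h1 : pCoreOf p K ≤ pCoreOf p (pCoreOf p K ⊔ P) :=
      POf.le_pCoreOf le_sup_left pCoreOf_isPGroup (hP₁K.trans le_normalizer_pCoreOf)
    have h2 : (pCoreOf p K ⊔ P) ⊓ centralizer (pCoreOf p (pCoreOf p K ⊔ P) : Set H) ≤ pCoreOf p (pCoreOf p K ⊔ P) := by
      refine le_trans ?_ h1
      refine le_trans ?_ hKc
      refine inf_le_inf hP₁K ?_
      have h3 : (pCoreOf p K : Set H) ⊆ (pCoreOf p (pCoreOf p K ⊔ P) : Set H) := h1
      exact centralizer_le h3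
    have h3 : largestPReducedOf p M ≤ pCoreOf p (pCoreOf p K ⊔ P) := by
      by_contra h4
      have h5 := hmin _ ⟨hRP.trans le_sup_right, h2, h4⟩
      exact absurd h5 (not_le.mpr (Basic.card_lt_card_of_lt h))
    exact hYP ((le_inf h3 (hYR.trans hRP)).trans (pCoreOf_inf_le le_sup_right))

/-- a proper subgroup containing `O^p(K)` lies in a proper normal subgroup -/
theorem eq_top_of_res [Finite H] [hp : Fact p.Prime] {P : Subgroup H} (hP : pResidual p H ≤ P)
    (hmin : ∀ C : Subgroup H, C.Normal → P ≤ C → C = ⊤) : P = ⊤ := by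
  by_contra hPt
  obtain ⟨C, hC, hPC⟩ := (eq_top_or_exists_le_coatom P).resolve_left hPt
  have hBC : pResidual p H ≤ C := hP.trans hPC
  haveI : (pResidual p H).Normal := Resid.pResidual_normal p
  have hq : IsPGroup p (H ⧸ pResidual p H) := Resid.quotient_pResidual
  haveI := hq.isNilpotent
  have hsurj := QuotientGroup.mk'_surjective (pResidual p H)
  have hker : (QuotientGroup.mk' (pResidual p H)).ker ≤ C := by rw [QuotientGroup.ker_mk']; exact hBC
  have hC' := coatom_map hsurj hC hker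
  have hn : (C.map (QuotientGroup.mk' (pResidual p H))).Normal :=
    NormalizerCondition.normal_of_coatom _ Group.normalizerCondition_of_isNilpotent hC'
  have hCn : C.Normal := by
    have h1 : ((C.map (QuotientGroup.mk' (pResidual p H))).comap (QuotientGroup.mk' (pResidual p H))).Normal :=
      hn.comap _
    rwa [Subgroup.comap_map_eq_self hker] at h1
  exact hC.1 (hmin C hCn hPC)

section FrakH

variable [Finite H] [hp : Fact p.Prime] {M K : Subgroup H}

theorem frakH_closure (hK : IsInFrakH p M K) : ncj K (pCoreOf p M) = K := by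
  obtain ⟨_, hRK, hYK, hP⟩ := hK
  by_contra h
  have h1 := hP _ le_ncj (lt_of_le_of_ne (ncj_le_self hRK) h)
  exact hYK (h1.trans (pCoreOf_mono_normal (ncj_le_self hRK) norm_ncj))

theorem frakH_res (hK : IsInFrakH p M K) : (pResidual p ↥K).map K.subtype ⊔ pCoreOf p M = K := by
  have hRK := hK.2.1
  have hle : (pResidual p ↥K).map K.subtype ⊔ pCoreOf p M ≤ K := sup_le (res_le p K) hRK
  have h1 : ((pResidual p ↥K).map K.subtype ⊔ pCoreOf p M).subgroupOf K = ⊤ := by
    apply eq_top_of_res (p := p)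
    · intro x hx
      exact (le_sup_left : (pResidual p ↥K).map K.subtype ≤ _) ⟨x, hx, rfl⟩
    · intro C hC hPC
      have h2 : ncj K (pCoreOf p M) ≤ C.map K.subtype := by
        refine ncj_le ?_ ?_
        · intro r hr
          refine ⟨⟨r, hRK hr⟩, hPC ?_, rfl⟩
          exact (le_sup_right : pCoreOf p M ≤ (pResidual p ↥K).map K.subtype ⊔ pCoreOf p M) hr
        · have h1 := le_normalizer_map K.subtype (H := C)
          rw [normalizer_eq_top, ← MonoidHom.range_eq_map, K.range_subtype] at h1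
          exact h1
      rw [frakH_closure hK] at h2
      rw [eq_top_iff]
      intro x _
      obtain ⟨y, hy, e⟩ := h2 x.2
      have e' : y = x := Subtype.ext e
      rw [← e']; exact hy
  apply le_antisymm hle
  intro x hx
  have h2 : (⟨x, hx⟩ : K) ∈ ((pResidual p ↥K).map K.subtype ⊔ pCoreOf p M).subgroupOf K := by
    rw [h1]; trivial
  exact h2

theorem frakH_res_le (hK : IsInFrakH p M K) :
    (pResidual p ↥K).map K.subtype ≤ ncj K (largestPReducedOf p M) := by
  have hRK := hK.2.1
  have hYR : largestPReducedOf p M ≤ pCoreOf p M := (red_largest p M).le_pCoreOf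
  have hYK := hYR.trans hRK
  have hXK := ncj_le_self hYK
  have hnX : K ≤ normalizer ((ncj K (largestPReducedOf p M) : Subgroup H) : Set H) := norm_ncj
  have h1 : ncj K (largestPReducedOf p M) ⊔ pCoreOf p M = K := by
    by_contra h
    have h2 := hK.2.2.2 _ le_sup_right (lt_of_le_of_ne (sup_le hXK hRK) h)
    have h3 : largestPReducedOf p M ≤ pCoreOf p (ncj K (largestPReducedOf p M)) :=
      (le_inf h2 le_ncj).trans (pCoreOf_inf_le le_sup_left)
    exact hK.2.2.1 (h3.trans (pCoreOf_mono_normal hXK hnX))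
  rw [res_le_iff]
  intro x hx ho
  rw [← h1] at hx
  exact mem_of_sup pCoreOf_isPGroup (hRK.trans hnX) hx ho

/-- S2853, the group-theoretic part -/
theorem frakH_comm (hK : IsInFrakH p M K) :
    ⁅(pResidual p ↥K).map K.subtype, largestPReducedOf p M⁆ = (pResidual p ↥K).map K.subtype ∧
      (pResidual p ↥K).map K.subtype ⊔ largestPReducedOf p M = ncj K (largestPReducedOf p M) := by
  have hRK := hK.2.1
  have hYR : largestPReducedOf p M ≤ pCoreOf p M := (red_largest p M).le_pCoreOf
  have hYK := hYR.trans hRK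
  have hBX := frakH_res_le hK
  have hBR := frakH_res hK
  have hYp : IsPGroup p (largestPReducedOf p M) := el_isPGroup (red_largest p M).2.2.1
  have hRY : pCoreOf p M ≤ normalizer ((largestPReducedOf p M : Subgroup H) : Set H) :=
    pCoreOf_le.trans (red_largest p M).2.1
  have hKB : K ≤ normalizer (((pResidual p ↥K).map K.subtype : Subgroup H) : Set H) := le_normalizer_res p K
  have hBK := res_le p K
  set B := (pResidual p ↥K).map K.subtype with hB
  set Y := largestPReducedOf p M with hY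
  have hYB : Y ≤ normalizer (B : Set H) := hYK.trans hKB
  have hDB : ⁅B, Y⁆ ≤ B := by
    exact Coprime.commutator_le_of_normalizes hYB
  have hnB : B ≤ normalizer ((⁅B, Y⁆ : Subgroup H) : Set H) := Coprime.le_normalizer_commutator_left Y B
  have hnY : Y ≤ normalizer ((⁅B, Y⁆ : Subgroup H) : Set H) := Coprime.le_normalizer_commutator_right Y B
  have hnR : pCoreOf p M ≤ normalizer ((⁅B, Y⁆ : Subgroup H) : Set H) := by
    intro x hx
    rw [mem_normalizer_conj, map_commutator, mem_normalizer_conj.mp (hKB (hRK hx)), mem_normalizer_conj.mp (hRY hx)]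
  have hnK : K ≤ normalizer ((⁅B, Y⁆ : Subgroup H) : Set H) := by
    rw [← hBR]; exact sup_le hnB hnR
  have hnDY : K ≤ normalizer ((⁅B, Y⁆ ⊔ Y : Subgroup H) : Set H) := by
    rw [← hBR]
    refine sup_le ?_ ?_
    · refine le_normalizer_of_conj ?_
      intro b hb
      rw [Subgroup.map_sup, mem_normalizer_conj.mp (hnB hb)]
      refine sup_le le_sup_left ?_
      rintro _ ⟨y, hy, rfl⟩
      show b * y * b⁻¹ ∈ _
      have e : b * y * b⁻¹ = ⁅b, y⁆ * y := by rw [commutatorElement_def]; group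
      rw [e]
      exact mul_mem ((le_sup_left : ⁅B, Y⁆ ≤ ⁅B, Y⁆ ⊔ Y) (commutator_mem_commutator hb hy))
        ((le_sup_right : Y ≤ ⁅B, Y⁆ ⊔ Y) hy)
    · intro x hx
      rw [mem_normalizer_conj, Subgroup.map_sup, mem_normalizer_conj.mp (hnR hx), mem_normalizer_conj.mp (hRY hx)]
  have hXDY : ncj K Y ≤ ⁅B, Y⁆ ⊔ Y := ncj_le le_sup_right hnDY
  have hBD : B ≤ ⁅B, Y⁆ := by
    rw [hB, res_le_iff]
    intro x hx ho
    exact mem_of_sup hYp hnY (hXDY (hBX (mem_res hx ho))) ho
  have hBe := le_antisymm hDB hBD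
  refine ⟨hBe, ?_⟩
  apply le_antisymm
  · exact sup_le hBX le_ncj
  · rw [hBe] at hXDY; exact hXDY

end FrakH

/-- S2853 -/
theorem s2853 [Finite H] [hp : Fact p.Prime] (hH : IsOfParabolicCharacteristic p H) (S : Sylow p H) (M : Subgroup H)
    (hSM : (S : Subgroup H) ≤ M) (hM : IsInFrakM p M) (hasym : ¬ IsSymmetricIn (largestPReducedOf p M))
    (K : Subgroup H) (hK : IsInFrakH p M K) (R : Subgroup H) (hR : R = (pResidual p ↥K).map K.subtype) :
    (∀ T : Sylow p ↥(K ⊓ (M ⊔ centralizer (((largestPReducedOf p M) : Subgroup H) : Set H))),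
      ∃ P : Sylow p ↥K, ((P : Subgroup ↥K).map K.subtype) =
        (T : Subgroup ↥(K ⊓ (M ⊔ centralizer (((largestPReducedOf p M) : Subgroup H) : Set H)))).map
          (K ⊓ (M ⊔ centralizer (((largestPReducedOf p M) : Subgroup H) : Set H))).subtype) ∧
      pCoreOf p K ≤ normalizer (((pCoreOf p M) : Subgroup H) : Set H) ⊓
        normalizer (((largestPReducedOf p M) : Subgroup H) : Set H) ∧
      ⁅R, (largestPReducedOf p M)⁆ = R ∧ R ⊔ (pCoreOf p M) = K ∧
      R ⊔ (largestPReducedOf p M) =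
        (normalClosure ((((largestPReducedOf p M)).subgroupOf K : Subgroup ↥K) : Set ↥K)).map K.subtype ∧
      (normalClosure ((((pCoreOf p M)).subgroupOf K : Subgroup ↥K) : Set ↥K)).map K.subtype = K := by
  have hcc := cc_frak hH S hSM hM hasym
  have hRp : IsPGroup p (pCoreOf p M) := pCoreOf_isPGroup
  have hnc : NC p (pCoreOf p M) := CC_NC hcc
  have hYR : largestPReducedOf p M ≤ pCoreOf p M := (red_largest p M).le_pCoreOf
  have h50 := s2850 hH S M hSM hM hasym
  have hc := pcore_norm hRp hnc hK.2.1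
  obtain ⟨e1, e2⟩ := frakH_comm hK
  subst hR
  refine ⟨?_, le_inf hc (hc.trans (frakM_normR S hSM hM)), e1, frakH_res hK, ?_, ?_⟩
  · intro T
    obtain ⟨P', hP'⟩ := h50.2.2.1 K hK.2.1
    have h1 : Syl p K ((P' : Subgroup K).map K.subtype) := ⟨P', rfl⟩
    have h2 : (P' : Subgroup K).map K.subtype ≤
        K ⊓ (M ⊔ centralizer (((largestPReducedOf p M) : Subgroup H) : Set H)) := by
      rintro _ ⟨x, hx, rfl⟩
      exact hP' hx
    have h3 := h1.of_le h2 inf_le_left
    obtain ⟨x, hx, e⟩ := h3.exists_conj (⟨T, rfl⟩ : Syl p _ _)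
    rw [e]
    exact h1.conj_mem hx.1
  · rw [e2, ncl_eq (hYR.trans hK.2.1)]
  · rw [ncl_eq hK.2.1]; exact frakH_closure hK

end Cfsg.Agent.Lib.PRed
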