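import Cfsg.Agent.Lib.PRedL

/-!
# The set `ℌ_G(O_p(M))`, part 2
-/

set_option autoImplicit false

namespace Cfsg.Agent.Lib.PRed

open Subgroup POf PIrr WClos
open scoped commutatorElement

variable {H : Type*} [Group H] {p : ℕ}

local notation "cj[" Q ", " g "]" => Subgroup.map (MulEquiv.toMonoidHom (MulAut.conj g)) Q

/-- centralizer modulo `O` -/
def CMod (N O : Subgroup H) : Subgroup H where
  carrier := {x | x ∈ normalizer (O : Set H) ∧ ∀ n ∈ N, ⁅n, x⁆ ∈ O}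
  one_mem' := ⟨one_mem _, fun n _ => by rw [commutatorElement_one_right]; exact O.one_mem⟩
  mul_mem' := by
    rintro x y ⟨hx1, hx2⟩ ⟨hy1, hy2⟩
    refine ⟨Subgroup.mul_mem _ hx1 hy1, fun n hn => ?_⟩
    have e : ⁅n, x * y⁆ = ⁅n, x⁆ * (x * ⁅n, y⁆ * x⁻¹) := by
      simp only [commutatorElement_def]; group
    rw [e]
    exact O.mul_mem (hx2 n hn) ((mem_normalizer_iff.mp hx1 _).mp (hy2 n hn))
  inv_mem' := by
    rintro x ⟨hx1, hx2⟩
    refine ⟨Subgroup.inv_mem _ hx1, fun n hn => ?_⟩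
    have e : ⁅n, x⁻¹⁆ = x⁻¹ * ⁅n, x⁆⁻¹ * x⁻¹⁻¹ := by
      simp only [commutatorElement_def]; group
    rw [e]
    exact (mem_normalizer_iff.mp (Subgroup.inv_mem _ hx1) _).mp (O.inv_mem (hx2 n hn))

theorem comm_ncj {K N O Y : Subgroup H} (hYK : Y ≤ K) (hKN : K ≤ normalizer (N : Set H))
    (hKO : K ≤ normalizer (O : Set H)) (h : ⁅N, Y⁆ ≤ O) : ∀ n ∈ N, ∀ x ∈ ncj K Y, ⁅n, x⁆ ∈ O := by
  have h1 : ncj K Y ≤ CMod N O := by
    refine ncj_le ?_ ?_
    · intro y hy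
      exact ⟨hKO (hYK hy), fun n hn => h (commutator_mem_commutator hn hy)⟩
    · refine le_normalizer_of_conj ?_
      rintro k hk _ ⟨x, ⟨hx1, hx2⟩, rfl⟩
      show k * x * k⁻¹ ∈ CMod N O
      refine ⟨Subgroup.mul_mem _ (Subgroup.mul_mem _ (hKO hk) hx1) (Subgroup.inv_mem _ (hKO hk)), fun n hn => ?_⟩
      have e : ⁅n, k * x * k⁻¹⁆ = k * ⁅k⁻¹ * n * k⁻¹⁻¹, x⁆ * k⁻¹ := by
        simp only [commutatorElement_def]; group
      rw [e]
      refine (mem_normalizer_iff.mp (hKO hk) _).mp (hx2 _ ?_)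
      exact (mem_normalizer_iff.mp (Subgroup.inv_mem _ (hKN hk)) _).mp hn
  intro n hn x hx
  exact (h1 hx).2 n hn

theorem norm_of_comm [Finite H] [hp : Fact p.Prime] {N A O : Subgroup H} (hA : Syl p N A) (hOA : O ≤ A)
    (h : ∀ z ∈ N, (orderOf z).Coprime p → ∀ a ∈ A, ⁅z, a⁆ ∈ O) : N ≤ normalizer (A : Set H) := by
  have hE : (pResidual p N).map N.subtype ≤ normalizer (A : Set H) := by
    rw [res_le_iff]
    intro z hz ho
    have h1 : cj[A, z] ≤ A := by
      rintro _ ⟨a, ha, rfl⟩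
      show z * a * z⁻¹ ∈ A
      have e : z * a * z⁻¹ = ⁅z, a⁆ * a := by rw [commutatorElement_def]; group
      rw [e]; exact A.mul_mem (hOA (h z hz ho a ha)) ha
    exact mem_normalizer_conj.mpr (eq_of_conj_le h1)
  exact (syl_sup hA (le_normalizer_res p N) (fun x hx ho => mem_res hx ho)).trans (sup_le hE le_normalizer)

theorem pgroups_le [Finite H] [hp : Fact p.Prime] {N A : Subgroup H} (hA : Syl p N A) (hn : N ≤ normalizer (A : Set H))
    {Q : Subgroup H} (hQN : Q ≤ N) (hQ : IsPGroup p Q) : Q ≤ A := by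
  obtain ⟨A', hA', h⟩ := exists_syl_ge hQN hQ
  obtain ⟨x, hx, e⟩ := hA.exists_conj hA'
  have e2 : A' = A := e.trans (mem_normalizer_conj.mp (hn hx))
  rw [← e2]; exact h

theorem irr_aux [Finite H] [hp : Fact p.Prime] {K K' R Y : Subgroup H} (hRp : IsPGroup p R) (hnc : NC p R)
    (hYR : Y ≤ R) (hRK : R ≤ K) (hKK' : K ≤ K') (hn : K' ≤ normalizer (K : Set H))
    (hres : ∀ x ∈ K', (orderOf x).Coprime p → x ∈ K) (hP : ∀ P : Subgroup H, R ≤ P → P < K → Y ≤ pCoreOf p P)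
    (hBX : (pResidual p K).map K.subtype ≤ ncj K Y) {N : Subgroup H} (hNK' : N ≤ K')
    (hK'N : K' ≤ normalizer (N : Set H)) (hBN : ¬ (pResidual p K).map K.subtype ≤ N) :
    ∀ Q : Subgroup H, Q ≤ N → IsPGroup p Q → Q ≤ pCoreOf p K' := by
  have hYK := hYR.trans hRK
  have hN₀n : K' ≤ normalizer ((N ⊓ K : Subgroup H) : Set H) := by
    intro x hx
    rw [mem_normalizer_conj, conj_inf, mem_normalizer_conj.mp (hK'N hx), mem_normalizer_conj.mp (hn hx)]
  have hKN₀ : K ≤ normalizer ((N ⊓ K : Subgroup H) : Set H) := hKK'.trans hN₀n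
  have hlt : (N ⊓ K) ⊔ R < K := by
    refine lt_of_le_of_ne (sup_le inf_le_right hRK) ?_
    intro h
    apply hBN
    rw [res_le_iff]
    intro x hx ho
    rw [← h] at hx
    exact (mem_of_sup hRp (hRK.trans hKN₀) hx ho).1
  have hY1 := hP _ le_sup_right hlt
  have hOn : K' ≤ normalizer ((pCoreOf p (N ⊓ K) : Subgroup H) : Set H) := by
    intro x hx
    rw [mem_normalizer_conj, ← pCoreOf_conj, mem_normalizer_conj.mp (hN₀n hx)]
  have hKO : K ≤ normalizer ((pCoreOf p (N ⊓ K) : Subgroup H) : Set H) := hKK'.trans hOn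
  have h1 : ⁅N ⊓ K, Y⁆ ≤ pCoreOf p (N ⊓ K) := by
    refine le_trans ?_ (pCoreOf_inf_le (p := p) (le_sup_left : N ⊓ K ≤ (N ⊓ K) ⊔ R))
    rw [commutator_le]
    intro n hn' y hy
    refine ⟨?_, ?_⟩
    · have h2 := (mem_normalizer_iff.mp (le_normalizer_pCoreOf (p := p) ((le_sup_left : N ⊓ K ≤ (N ⊓ K) ⊔ R) hn')) y).mp (hY1 hy)
      rw [commutatorElement_def]
      exact Subgroup.mul_mem _ h2 (Subgroup.inv_mem _ (hY1 hy))
    · have h2 := (mem_normalizer_iff.mp (hKN₀ (hYK hy)) n⁻¹).mp (Subgroup.inv_mem _ hn')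
      have e : ⁅n, y⁆ = n * (y * n⁻¹ * y⁻¹) := by rw [commutatorElement_def]; group
      rw [e]
      exact Subgroup.mul_mem _ hn' h2
  have h2 := fun n (hn' : n ∈ N ⊓ K) x (hx : x ∈ (pResidual p K).map K.subtype) =>
    comm_ncj hYK hKN₀ hKO h1 n hn' x (hBX hx)
  obtain ⟨A, hA⟩ := exists_syl p (N ⊓ K)
  have hAn : N ⊓ K ≤ normalizer (A : Set H) := by
    refine norm_of_comm hA hA.pCoreOf_le ?_
    intro z hz ho a ha
    have h3 := h2 a (hA.le ha) z (mem_res hz.2 ho)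
    rw [← commutatorElement_inv]
    exact Subgroup.inv_mem _ h3
  have hAO : A ≤ pCoreOf p (N ⊓ K) := POf.le_pCoreOf hA.le hA.isPGroup hAn
  obtain ⟨P, hPs, hRP⟩ := exists_syl_ge (hRK.trans hKK') hRp
  have hPR : P ≤ normalizer (R : Set H) := le_normalizer.trans (hnc P hPs.isPGroup hRP)
  have hT₁ := syl_inf' hPs N hNK' hK'N
  have h4 : ⁅P ⊓ N, Y⁆ ≤ pCoreOf p (N ⊓ K) := by
    have h5 : R ⊓ (N ⊓ K) ≤ pCoreOf p (N ⊓ K) :=
      (pgroups_le hA hAn inf_le_right (hRp.to_le inf_le_left)).trans hAO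
    refine le_trans ?_ h5
    rw [commutator_le]
    intro t ht y hy
    have h6 : ⁅t, y⁆ ∈ R := by
      rw [commutatorElement_def]
      exact R.mul_mem ((mem_normalizer_iff.mp (hPR ht.1) y).mp (hYR hy)) (R.inv_mem (hYR hy))
    refine ⟨h6, ?_, hRK h6⟩
    have e : ⁅t, y⁆ = t * (y * t⁻¹ * y⁻¹) := by rw [commutatorElement_def]; group
    rw [e]
    exact N.mul_mem ht.2 ((mem_normalizer_iff.mp (hK'N (hKK' (hYK hy))) _).mp (N.inv_mem ht.2))
  have hTN₀ : P ⊓ N ≤ normalizer ((N ⊓ K : Subgroup H) : Set H) := (inf_le_right.trans hNK').trans hN₀n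
  have hNN : N ≤ (N ⊓ K) ⊔ (P ⊓ N) := by
    refine syl_sup hT₁ (hNK'.trans hN₀n) ?_
    intro x hx ho
    exact ⟨hx, hres x (hNK' hx) ho⟩
  have h5 : ⁅N, Y⁆ ≤ pCoreOf p (N ⊓ K) := by
    rw [commutator_le]
    intro n hn' y hy
    obtain ⟨a, ha, t, ht, rfl⟩ := (Basic.mem_sup_iff_left hTN₀).mp (hNN hn')
    have e : ⁅a * t, y⁆ = a * ⁅t, y⁆ * a⁻¹ * ⁅a, y⁆ := by simp only [commutatorElement_def]; group
    rw [e]
    refine Subgroup.mul_mem _ ?_ (h1 (commutator_mem_commutator ha hy))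
    exact (mem_normalizer_iff.mp (le_normalizer_pCoreOf ha) _).mp (h4 (commutator_mem_commutator ht hy))
  have h6 := fun n (hn' : n ∈ N) x (hx : x ∈ (pResidual p K).map K.subtype) =>
    comm_ncj hYK (hKK'.trans hK'N) hKO h5 n hn' x (hBX hx)
  have hOK' : pCoreOf p (N ⊓ K) ≤ pCoreOf p K' :=
    pCoreOf_mono_normal (inf_le_left.trans hNK') hN₀n
  have hTn : N ≤ normalizer ((P ⊓ N : Subgroup H) : Set H) := by
    refine norm_of_comm (O := pCoreOf p (N ⊓ K)) hT₁ ?_ ?_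
    · exact le_inf (hOK'.trans hPs.pCoreOf_le) (pCoreOf_le.trans inf_le_left)
    · intro z hz ho a ha
      have h3 := h6 a ha.2 z (mem_res (hres z (hNK' hz) ho) ho)
      rw [← commutatorElement_inv]
      exact Subgroup.inv_mem _ h3
  intro Q hQN hQ
  have h7 := pgroups_le hT₁ hTn hQN hQ
  have h8 : P ⊓ N ≤ pCoreOf p N := POf.le_pCoreOf hT₁.le hT₁.isPGroup hTn
  exact h7.trans (h8.trans (pCoreOf_mono_normal hNK' hK'N))

theorem irr_main [Finite H] [hp : Fact p.Prime] {K K' R Y : Subgroup H} (hRp : IsPGroup p R) (hnc : NC p R)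
    (hYR : Y ≤ R) (hRK : R ≤ K) (hKK' : K ≤ K') (hn : K' ≤ normalizer (K : Set H))
    (hres : ∀ x ∈ K', (orderOf x).Coprime p → x ∈ K) (hYK : ¬ Y ≤ pCoreOf p K)
    (hP : ∀ P : Subgroup H, R ≤ P → P < K → Y ≤ pCoreOf p P)
    (hBX : (pResidual p K).map K.subtype ≤ ncj K Y)
    (hBB : (pResidual p K).map K.subtype = (pResidual p K').map K'.subtype) : IsPIrreducible p ↥K' := by
  constructor
  · intro hc
    rw [closed_iff'] at hc
    have h1 := hc (R.subgroupOf K') (hRp.comap_of_injective K'.subtype K'.subtype_injective)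
    apply hYK
    refine le_trans (le_inf ?_ (hYR.trans hRK)) (pCoreOf_inf_le hKK')
    intro y hy
    exact ⟨⟨y, hKK' (hRK (hYR hy))⟩, h1 (hYR hy), rfl⟩
  · intro N hN hNc
    by_contra hBN
    apply hNc
    rw [closed_iff N]
    intro Q hQN hQ
    have h1 : K' ≤ normalizer ((N.map K'.subtype : Subgroup H) : Set H) := by
      have h1 := le_normalizer_map K'.subtype (H := N)
      rw [normalizer_eq_top, ← MonoidHom.range_eq_map, K'.range_subtype] at h1
      exact h1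
    have h2 : ¬ (pResidual p K).map K.subtype ≤ N.map K'.subtype := by
      intro h
      apply hBN
      intro x hx
      rw [hBB] at h
      obtain ⟨y, hy, e⟩ := h ⟨x, hx, rfl⟩
      have e' : y = x := Subtype.ext e
      rw [← e']; exact hy
    have h3 := irr_aux hRp hnc hYR hRK hKK' hn hres hP hBX (map_subtype_le N) h1 h2 (Q.map K'.subtype)
      (Subgroup.map_mono hQN) (hQ.map _)
    intro x hx
    obtain ⟨y, hy, e⟩ := h3 ⟨x, hx, rfl⟩
    have e' : y = x := Subtype.ext e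
    rw [← e']; exact hy

theorem norm_of_closure {K R Q' : Subgroup H} (hcl : ncj K R = K) (hKQ : K ≤ normalizer (Q' : Set H))
    (hQR : Q' ≤ normalizer (R : Set H)) : Q' ≤ normalizer (K : Set H) := by
  refine le_normalizer_of_conj ?_
  intro x hx
  have h1 : cj[ncj K R, x] ≤ ncj K R := by
    conv_lhs => unfold ncj
    rw [Subgroup.map_iSup]
    refine iSup_le ?_
    rintro ⟨k, hk⟩
    rw [conj_conj]
    have h2 : k⁻¹ * x * k⁻¹⁻¹ ∈ Q' := (mem_normalizer_iff.mp (Subgroup.inv_mem _ (hKQ hk)) x).mp hx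
    have e : x * k = k * (k⁻¹ * x * k⁻¹⁻¹) := by group
    show cj[R, x * k] ≤ ncj K R
    rw [e, ← conj_conj, mem_normalizer_conj.mp (hQR h2)]
    exact conj_le_ncj hk
  rwa [hcl] at h1

/-- S2854 -/
theorem s2854 [Finite H] [hp : Fact p.Prime] (hH : IsOfParabolicCharacteristic p H) (S : Sylow p H) (Q : Subgroup H)
    (hQp : IsPGroup p Q) (M : Subgroup H)
    (hSM : (S : Subgroup H) ≤ M) (hM : IsInFrakM p M) (hasym : ¬ IsSymmetricIn (largestPReducedOf p M))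
    (K : Subgroup H) (hK : IsInFrakH p M K) (g : H) (hKQ : K ≤ normalizer ((cj[Q, g] : Subgroup H) : Set H)) :
    cj[Q, g] ≤ pCoreOf p (K ⊔ cj[Q, g]) ∧
      pCoreOf p (K ⊔ cj[Q, g]) ≤ normalizer (((pCoreOf p M) : Subgroup H) : Set H) ∧
      normalizer (((pCoreOf p M) : Subgroup H) : Set H) ≤ normalizer (((largestPReducedOf p M) : Subgroup H) : Set H) ∧
      normalizer (((largestPReducedOf p M) : Subgroup H) : Set H) =
        (M ⊔ centralizer (((largestPReducedOf p M) : Subgroup H) : Set H)) ∧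
      (K.subgroupOf (K ⊔ cj[Q, g])).Normal ∧
      (pResidual p ↥K).map K.subtype = (pResidual p ↥(K ⊔ cj[Q, g])).map (K ⊔ cj[Q, g]).subtype ∧
      IsPIrreducible p ↥(K ⊔ cj[Q, g]) := by
  have hcc := cc_frak hH S hSM hM hasym
  have hRp : IsPGroup p (pCoreOf p M) := pCoreOf_isPGroup
  have hnc : NC p (pCoreOf p M) := CC_NC hcc
  have hYR : largestPReducedOf p M ≤ pCoreOf p M := (red_largest p M).le_pCoreOf
  have hQ'p : IsPGroup p cj[Q, g] := pgroup_conj hQp g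
  generalize cj[Q, g] = Q' at hKQ hQ'p
  have hRK := hK.2.1
  have hKK' : K ≤ K ⊔ Q' := le_sup_left
  have c1 : Q' ≤ pCoreOf p (K ⊔ Q') := POf.le_pCoreOf le_sup_right hQ'p (sup_le hKQ le_normalizer)
  have c2 : pCoreOf p (K ⊔ Q') ≤ normalizer (((pCoreOf p M) : Subgroup H) : Set H) :=
    pcore_norm hRp hnc (hRK.trans hKK')
  have hQK : Q' ≤ normalizer (K : Set H) := norm_of_closure (frakH_closure hK) hKQ (c1.trans c2)
  have hn : K ⊔ Q' ≤ normalizer (K : Set H) := sup_le le_normalizer hQK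
  have hres : ∀ x ∈ K ⊔ Q', (orderOf x).Coprime p → x ∈ K := fun x hx ho => mem_of_sup hQ'p hQK hx ho
  have hBB : (pResidual p ↥K).map K.subtype = (pResidual p ↥(K ⊔ Q')).map (K ⊔ Q').subtype := by
    apply le_antisymm
    · rw [res_le_iff]
      intro x hx ho
      exact mem_res (hKK' hx) ho
    · rw [res_le_iff]
      intro x hx ho
      exact mem_res (hres x hx ho) ho
  refine ⟨c1, c2, frakM_normR S hSM hM, frakM_norm hH S hSM hM, ?_, hBB, ?_⟩
  · rw [← normalizer_eq_top_iff, eq_top_iff]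
    refine le_trans ?_ (le_normalizer_comap (K ⊔ Q').subtype)
    intro x _
    exact hn x.2
  · exact irr_main hRp hnc hYR hRK hKK' hn hres hK.2.2.1 hK.2.2.2 (frakH_res_le hK) hBB

end Cfsg.Agent.Lib.PRed
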