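import Cfsg.Agent.Lib.PRedM

/-!
# Asymmetric `Y_M` and the generalized Fitting subgroup
-/

set_option autoImplicit false

namespace Cfsg.Agent.Lib.PRed

open Subgroup POf PIrr WClos
open scoped commutatorElement

variable {H : Type*} [Group H] {p : ℕ}

local notation "cj[" Q ", " g "]" => Subgroup.map (MulEquiv.toMonoidHom (MulAut.conj g)) Q

/-- a subgroup normalised by `F` which meets `F` in a `p`-group modulo `C` lies in `C` -/
theorem lemZ [Finite H] [hp : Fact p.Prime] {C : Subgroup H} [C.Normal] (hred : pCore p (H ⧸ C) = ⊥)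
    {F : Subgroup H} (hF : F = (generalizedFittingSubgroup (H ⧸ C)).comap (QuotientGroup.mk' C))
    {A : Subgroup H} (hFA : F ≤ normalizer (A : Set H)) (hAF : ∀ x ∈ A ⊓ F, ∃ k : ℕ, x ^ (p ^ k) ∈ C) : A ≤ C := by
  haveI hGn : (generalizedFittingSubgroup (H ⧸ C)).Normal := Components.generalizedFitting_normal
  have hFn : F.Normal := by rw [hF]; exact hGn.comap _
  have hsurj := QuotientGroup.mk'_surjective C
  -- step 1
  have h1 : A ⊓ F ≤ C := by
    have hle : (A ⊓ F).map (QuotientGroup.mk' C) ≤ generalizedFittingSubgroup (H ⧸ C) := by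
      rintro _ ⟨x, hx, rfl⟩
      have h2 := hx.2
      rw [hF] at h2
      exact h2
    have hpg : IsPGroup p ((A ⊓ F).map (QuotientGroup.mk' C)) := by
      rintro ⟨_, x, hx, rfl⟩
      obtain ⟨k, hk⟩ := hAF x hx
      refine ⟨k, Subtype.ext ?_⟩
      show (QuotientGroup.mk' C x) ^ (p ^ k) = 1
      rw [← map_pow]
      exact (QuotientGroup.eq_one_iff _).mpr hk
    have hnorm : generalizedFittingSubgroup (H ⧸ C) ≤
        normalizer (((A ⊓ F).map (QuotientGroup.mk' C) : Subgroup (H ⧸ C)) : Set (H ⧸ C)) := by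
      intro y hy
      obtain ⟨f, rfl⟩ := hsurj y
      have hf : f ∈ F := by rw [hF]; exact hy
      have h2 : f ∈ normalizer ((A ⊓ F : Subgroup H) : Set H) := by
        rw [mem_normalizer_conj, conj_inf, mem_normalizer_conj.mp (hFA hf), conj_of_mem hf]
      exact le_normalizer_map (QuotientGroup.mk' C) ⟨f, h2, rfl⟩
    have h2 := POf.le_pCoreOf hle hpg hnorm
    have h3 : pCoreOf p (generalizedFittingSubgroup (H ⧸ C)) ≤ pCore p (H ⧸ C) := Cores.map_pCore_le _
    have h4 := h2.trans h3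
    rw [hred, le_bot_iff, Subgroup.map_eq_bot_iff, QuotientGroup.ker_mk'] at h4
    exact h4
  -- step 2
  intro x hx
  have h2 : QuotientGroup.mk' C x ∈ centralizer (generalizedFittingSubgroup (H ⧸ C) : Set (H ⧸ C)) := by
    rw [mem_centralizer_iff]
    intro y hy
    obtain ⟨f, rfl⟩ := hsurj y
    have hf : f ∈ F := by rw [hF]; exact hy
    have h3 : f * x * f⁻¹ * x⁻¹ ∈ A ⊓ F := by
      refine ⟨A.mul_mem ((mem_normalizer_iff.mp (hFA hf) x).mp hx) (A.inv_mem hx), ?_⟩
      have e : f * x * f⁻¹ * x⁻¹ = f * (x * f⁻¹ * x⁻¹) := by group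
      rw [e]
      exact F.mul_mem hf (hFn.conj_mem _ (F.inv_mem hf) x)
    have h4 : QuotientGroup.mk' C (f * x * f⁻¹ * x⁻¹) = 1 := (QuotientGroup.eq_one_iff _).mpr (h1 h3)
    rw [map_mul, map_mul, map_mul, map_inv, map_inv] at h4
    rw [mul_inv_eq_one, mul_inv_eq_iff_eq_mul] at h4
    exact h4
  have h3 := Components.centralizer_generalizedFitting_le h2
  have h4 : x ∈ F := by rw [hF]; exact h3
  exact h1 ⟨hx, h4⟩

/-- S2851 -/
theorem s2851 [Finite H] [hp : Fact p.Prime] (hH : IsOfParabolicCharacteristic p H) (S : Sylow p H) (M : Subgroup H)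
    (hSM : (S : Subgroup H) ≤ M) (hM : IsInFrakM p M) (hasym : ¬ IsSymmetricIn (largestPReducedOf p M))
    {D C : Subgroup H} (hC : C = centralizer (((largestPReducedOf p M) : Subgroup H) : Set H)) (hD : D = M ⊔ C)
    [hn : (C.subgroupOf D).Normal] (F : Subgroup H)
    (hF : F = ((generalizedFittingSubgroup (↥D ⧸ C.subgroupOf D)).comap (QuotientGroup.mk' (C.subgroupOf D))).map D.subtype)
    (K : Subgroup H) (hFK : F ≤ K) (hK : centralizer (pCore p ↥K : Set ↥K) ≤ pCore p ↥K) :
    largestPReducedOf p M ≤ largestPReducedOf p K := by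
  have hcc := cc_frak hH S hSM hM hasym
  have hRp : IsPGroup p (pCoreOf p M) := pCoreOf_isPGroup
  have hnc : NC p (pCoreOf p M) := CC_NC hcc
  have hYR : largestPReducedOf p M ≤ pCoreOf p M := (red_largest p M).le_pCoreOf
  have hND : normalizer (((largestPReducedOf p M) : Subgroup H) : Set H) = D := by
    rw [hD, hC]; exact frakM_norm hH S hSM hM
  have hRD : normalizer (((pCoreOf p M) : Subgroup H) : Set H) ≤ D := by
    rw [← hND]; exact frakM_normR S hSM hM
  have hRC : pCoreOf p M ≤ C := by rw [hC]; exact (red_largest p M).pCoreOf_le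
  have hredD : Red p D (largestPReducedOf p M) := by
    have h1 := red_largest p D
    have h2 : largestPReducedOf p D = largestPReducedOf p M := by
      rw [hD, hC]; exact hM.2.2.2.1.symm
    rwa [h2] at h1
  have hyc : ∀ x ∈ largestPReducedOf p M, ∀ y ∈ largestPReducedOf p M, x * y = y * x := (el_iff.mp hredD.2.2.1).1
  have hYp := hredD.2.2.1
  set Y := largestPReducedOf p M with hY
  set R := pCoreOf p M with hR
  have hCD : C ≤ D := by rw [hD]; exact le_sup_right
  -- the quotient is `p`-reduced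
  have hred : pCore p (↥D ⧸ C.subgroupOf D) = ⊥ := by
    rw [reduced_iff]
    intro N hN hx
    have h1 : N.map D.subtype ≤ centralizer (Y : Set H) := by
      refine hredD.2.2.2 _ (map_subtype_le _) ?_ ?_
      · have h1 := le_normalizer_map D.subtype (H := N)
        rw [normalizer_eq_top, ← MonoidHom.range_eq_map, D.range_subtype] at h1
        exact h1
      · rintro _ ⟨x, hx', rfl⟩
        obtain ⟨k, hk⟩ := hx x hx'
        refine ⟨k, ?_⟩
        rw [← hC]; exact hk
    intro x hx'
    have h2 := h1 ⟨x, hx', rfl⟩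
    rw [← hC] at h2
    exact h2
  have hCF : C ≤ F := by
    intro c hc
    rw [hF]
    refine ⟨⟨c, hCD hc⟩, ?_, rfl⟩
    show QuotientGroup.mk' (C.subgroupOf D) ⟨c, hCD hc⟩ ∈ generalizedFittingSubgroup (↥D ⧸ C.subgroupOf D)
    have h1 : QuotientGroup.mk' (C.subgroupOf D) ⟨c, hCD hc⟩ = 1 := (QuotientGroup.eq_one_iff _).mpr hc
    rw [h1]; exact one_mem _
  have hRK : R ≤ K := (hRC.trans hCF).trans hFK
  have hFD : F ≤ D := by rw [hF]; exact map_subtype_le _
  -- the ambient lemma
  have key : ∀ A : Subgroup H, A ≤ D → F ≤ normalizer (A : Set H) → (∀ x ∈ A, ∃ k : ℕ, x ^ (p ^ k) ∈ C) → A ≤ C := by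
    intro A hAD hFA hx
    have h1 : A.subgroupOf D ≤ C.subgroupOf D := by
      refine lemZ hred (F := (generalizedFittingSubgroup (↥D ⧸ C.subgroupOf D)).comap (QuotientGroup.mk' (C.subgroupOf D)))
        rfl ?_ ?_
      · intro f hf
        have h2 : (f : H) ∈ F := by rw [hF]; exact ⟨f, hf, rfl⟩
        exact le_normalizer_comap D.subtype (hFA h2)
      · rintro x ⟨hxA, _⟩
        exact hx x hxA
    intro x hxA
    exact h1 (show (⟨x, hAD hxA⟩ : D) ∈ A.subgroupOf D from hxA)
  have hO : pCoreOf p K ≤ C := by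
    refine key _ ((pcore_norm hRp hnc hRK).trans hRD) (hFK.trans le_normalizer_pCoreOf) ?_
    intro x hx
    obtain ⟨k, hk⟩ := (pCoreOf_isPGroup (p := p) (H := K)) ⟨x, hx⟩
    refine ⟨k, ?_⟩
    have hk' : x ^ p ^ k = 1 := congrArg Subtype.val hk
    rw [hk']; exact C.one_mem
  have hYcO : Y ≤ centralizer (pCoreOf p K : Set H) := by
    rw [le_centralizer_iff]
    rw [hC] at hO
    exact hO
  have hYO : Y ≤ pCoreOf p K := (le_inf (hYR.trans hRK) hYcO).trans (charP_inf hK)
  have hVz : ncj K Y ≤ zc p (pCoreOf p K) := by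
    refine ncj_le ?_ ?_
    · intro y hy
      exact mem_zc (hYO hy) (hYcO hy) ((el_iff.mp hYp).2 y hy)
    · intro x hx
      rw [mem_normalizer_conj, zc_conj, mem_normalizer_conj.mp (le_normalizer_pCoreOf hx)]
  have hYV : Y ≤ ncj K Y := le_ncj
  have hCV : centralizer ((ncj K Y : Subgroup H) : Set H) ≤ C := by
    have h1 : (Y : Set H) ⊆ (ncj K Y : Set H) := hYV
    rw [hC]; exact centralizer_le h1
  have hV : Red p K (ncj K Y) := by
    refine ⟨ncj_le_self (hYR.trans hRK), norm_ncj, el_mono hVz (el_zc _ _), ?_⟩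
    intro N hNK hKN hx
    obtain ⟨P, hP, hRP⟩ := exists_syl_ge hRK hRp
    have hPD : P ≤ D := (le_normalizer.trans (hnc P hP.isPGroup hRP)).trans hRD
    have h1 := le_of_syl (C := centralizer ((ncj K Y : Subgroup H) : Set H)) hP hNK hKN
      (norm_ncj.trans (normalizer_le_normalizer_centralizer _)) hx
    have h2 : N ⊓ D ≤ C := by
      refine key _ inf_le_right ?_ ?_
      · intro f hf
        rw [mem_normalizer_conj, conj_inf, mem_normalizer_conj.mp (hKN (hFK hf)), conj_of_mem (hFD hf)]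
      · rintro x ⟨hxN, _⟩
        obtain ⟨k, hk⟩ := hx x hxN
        exact ⟨k, hCV hk⟩
    have h3 : N ≤ C := h1.trans (sup_le (inf_le_right.trans hCV)
      ((le_inf inf_le_right (inf_le_left.trans hPD)).trans h2))
    rw [le_centralizer_iff]
    refine ncj_le ?_ (hKN.trans (normalizer_le_normalizer_centralizer _))
    rw [le_centralizer_iff]
    rw [hC] at h3
    exact h3
  exact hYV.trans hV.le_largestOf

end Cfsg.Agent.Lib.PRed
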