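import Cfsg.Agent.Lib.PRedM
import Cfsg.Agent.Lib.CommNine

/-!
# Weak closures of weakly closed subgroups and central products
-/

set_option autoImplicit false

namespace Cfsg.Agent.Lib.PRed

open Subgroup POf PIrr WClos
open scoped commutatorElement

variable {H : Type*} [Group H] {p : ℕ}

local notation "cj[" Q ", " g "]" => Subgroup.map (MulEquiv.toMonoidHom (MulAut.conj g)) Q

theorem norm_le_norm_res (W : Subgroup H) :
    normalizer (W : Set H) ≤ normalizer (((pResidual p W).map W.subtype : Subgroup H) : Set H) := by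
  refine le_normalizer_of_conj ?_
  intro x hx
  rw [conj_le_iff, res_le_iff]
  intro z hz ho
  rw [mem_conj, inv_inv]
  refine mem_res ((mem_normalizer_iff.mp hx z).mp hz) ?_
  rw [orderOf_conj]
  exact ho

theorem weakClosure_le {Q L : Subgroup H} : weakClosure Q L ≤ L := by
  unfold weakClosure
  exact iSup_le fun g => g.2

theorem le_weakClosure {Q L : Subgroup H} {g : H} (h : cj[Q, g] ≤ L) : cj[Q, g] ≤ weakClosure Q L :=
  le_iSup (fun g : {g : H // cj[Q, g] ≤ L} => cj[Q, (g : H)]) ⟨g, h⟩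

theorem self_le_weakClosure {Q L : Subgroup H} (h : Q ≤ L) : Q ≤ weakClosure Q L := by
  have h1 : cj[Q, 1] = Q := conj_of_mem Q.one_mem
  have h2 := le_weakClosure (Q := Q) (L := L) (g := 1) (by rw [h1]; exact h)
  rwa [h1] at h2

theorem wc_self (Q L : Subgroup H) : weakClosure Q (weakClosure Q L) = weakClosure Q L := by
  apply le_antisymm weakClosure_le
  conv_lhs => unfold weakClosure
  exact iSup_le fun g => le_weakClosure (le_weakClosure g.2)

theorem ncj_wc [Finite H] [Fact p.Prime] {Q L : Subgroup H} (hQp : IsPGroup p Q) (hwc : IsWeaklyClosedSubgroup p Q)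
    (hQL : Q ≤ L) : ncj (weakClosure Q L) Q = weakClosure Q L := by
  have h1 := (s2840 Q hQp hwc (weakClosure Q L) (self_le_weakClosure hQL) _ rfl).1
  rw [wc_self] at h1
  exact h1.symm

theorem sup_norm {A Q D : Subgroup H} (hA : A ≤ normalizer (D : Set H)) (hQ : Q ≤ normalizer (D : Set H))
    (h : ⁅A, Q⁆ ≤ D) : A ≤ normalizer ((D ⊔ Q : Subgroup H) : Set H) := by
  refine le_normalizer_of_conj ?_
  intro a ha
  rw [Subgroup.map_sup, mem_normalizer_conj.mp (hA ha)]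
  refine sup_le le_sup_left ?_
  rintro _ ⟨q, hq, rfl⟩
  show a * q * a⁻¹ ∈ _
  have e : a * q * a⁻¹ = ⁅a, q⁆ * q := by rw [commutatorElement_def]; group
  rw [e]
  exact mul_mem ((le_sup_left : D ≤ D ⊔ Q) (h (commutator_mem_commutator ha hq))) ((le_sup_right : Q ≤ D ⊔ Q) hq)

/-- `O^p(W) = [O^p(W), Q]` and `W = O^p(W) Q` for `W` generated by conjugates of `Q` -/
theorem wc_res [Finite H] [hp : Fact p.Prime] {Q W : Subgroup H} (hQp : IsPGroup p Q) (hQW : Q ≤ W)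
    (hW : ncj W Q = W) : (pResidual p W).map W.subtype ⊔ Q = W ∧
      ⁅(pResidual p W).map W.subtype, Q⁆ = (pResidual p W).map W.subtype := by
  have hKW := res_le p W
  have hWK : W ≤ normalizer (((pResidual p W).map W.subtype : Subgroup H) : Set H) := le_normalizer_res p W
  have h1 : ((pResidual p W).map W.subtype ⊔ Q).subgroupOf W = ⊤ := by
    apply eq_top_of_res (p := p)
    · intro x hx
      exact (le_sup_left : (pResidual p W).map W.subtype ≤ _) ⟨x, hx, rfl⟩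
    · intro C hC hPC
      have h2 : ncj W Q ≤ C.map W.subtype := by
        refine ncj_le ?_ ?_
        · intro r hr
          exact ⟨⟨r, hQW hr⟩, hPC ((le_sup_right : Q ≤ (pResidual p W).map W.subtype ⊔ Q) hr), rfl⟩
        · have h1 := le_normalizer_map W.subtype (H := C)
          rw [normalizer_eq_top, ← MonoidHom.range_eq_map, W.range_subtype] at h1
          exact h1
      rw [hW] at h2
      rw [eq_top_iff]
      intro x _
      obtain ⟨y, hy, e⟩ := h2 x.2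
      have e' : y = x := Subtype.ext e
      rw [← e']; exact hy
  have h2 : (pResidual p W).map W.subtype ⊔ Q = W := by
    apply le_antisymm (sup_le hKW hQW)
    intro x hx
    have h2 : (⟨x, hx⟩ : W) ∈ ((pResidual p W).map W.subtype ⊔ Q).subgroupOf W := by
      rw [h1]; trivial
    exact h2
  refine ⟨h2, ?_⟩
  have hDB : ⁅(pResidual p W).map W.subtype, Q⁆ ≤ (pResidual p W).map W.subtype :=
    Coprime.commutator_le_of_normalizes (hQW.trans hWK)
  apply le_antisymm hDB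
  have hn1 := Coprime.le_normalizer_commutator_left Q ((pResidual p W).map W.subtype)
  have hn2 := Coprime.le_normalizer_commutator_right Q ((pResidual p W).map W.subtype)
  have h3 : W ≤ normalizer ((⁅(pResidual p W).map W.subtype, Q⁆ ⊔ Q : Subgroup H) : Set H) := by
    conv_lhs => rw [← h2]
    exact sup_le (sup_norm hn1 hn2 le_rfl) (le_sup_right.trans le_normalizer)
  have h4 : W ≤ ⁅(pResidual p W).map W.subtype, Q⁆ ⊔ Q := by
    have h5 := ncj_le (le_sup_right : Q ≤ ⁅(pResidual p W).map W.subtype, Q⁆ ⊔ Q) h3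
    rwa [hW] at h5
  rw [res_le_iff]
  intro x hx ho
  exact mem_of_sup hQp hn2 (h4 hx) ho

/-- one half of S2859 -/
theorem s2859_half [Finite H] [hp : Fact p.Prime] {Q : Subgroup H} (hQp : IsPGroup p Q)
    (hwc : IsWeaklyClosedSubgroup p Q) {Hc A B : Subgroup H} (hHc : Hc = weakClosure Q ⊤) (hA : A ≤ Hc)
    (hAn : Hc ≤ normalizer (A : Set H)) (hB : B ≤ Hc) (hBn : Hc ≤ normalizer (B : Set H)) (hAB : A ⊔ B = Hc)
    (hcomm : ⁅A, B⁆ ≤ normalizer (Q : Set H)) {K : Subgroup H}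
    (hK : K = (pResidual p ↥(weakClosure Q (A ⊔ Q))).map (weakClosure Q (A ⊔ Q)).subtype) :
    ⁅K, Q⁆ = K ∧ ⁅K, A⁆ = K ∧ K ≤ ⁅A, A⁆ ∧ Hc ≤ normalizer (K : Set H) ∧ K ≤ A ∧
      weakClosure Q (A ⊔ Q) = K ⊔ Q ∧ (∀ b ∈ B, ∀ k ∈ K, ⁅b, k⁆ ∈ pCoreOf p Hc) := by
  have hQHc : Q ≤ Hc := by rw [hHc]; exact self_le_weakClosure le_top
  have hHcn : ncj Hc Q = Hc := by rw [hHc]; exact ncj_wc hQp hwc le_top
  have hAA : A ≤ normalizer (B : Set H) := hA.trans hBn
  have hBA : B ≤ normalizer (A : Set H) := hB.trans hAn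
  have hQA : Q ≤ normalizer (A : Set H) := hQHc.trans hAn
  have hEA : ⁅A, B⁆ ≤ A := Coprime.commutator_le_of_normalizes hBA
  have hEn : Hc ≤ normalizer ((⁅A, B⁆ : Subgroup H) : Set H) := by
    intro x hx
    rw [mem_normalizer_conj, map_commutator, mem_normalizer_conj.mp (hAn hx), mem_normalizer_conj.mp (hBn hx)]
  have hOn : Hc ≤ normalizer ((pCoreOf p ⁅A, B⁆ : Subgroup H) : Set H) := by
    intro x hx
    rw [mem_normalizer_conj, ← pCoreOf_conj, mem_normalizer_conj.mp (hEn hx)]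
  have hOp : IsPGroup p (pCoreOf p ⁅A, B⁆) := pCoreOf_isPGroup
  have hOA : pCoreOf p ⁅A, B⁆ ≤ A := pCoreOf_le.trans hEA
  have hOH : pCoreOf p ⁅A, B⁆ ≤ pCoreOf p Hc := pCoreOf_mono_normal (hEA.trans hA) hEn
  -- `[E, H°] ≤ O_p(E)`
  have hEQ : ⁅⁅A, B⁆, Q⁆ ≤ pCoreOf p ⁅A, B⁆ := by
    have h1 : ⁅⁅A, B⁆, Q⁆ ≤ ⁅A, B⁆ ⊓ Q := comm_of_normalize hcomm (hQHc.trans hEn)
    refine h1.trans (POf.le_pCoreOf inf_le_left (hQp.to_le inf_le_right) ?_)
    intro x hx
    rw [mem_normalizer_conj, conj_inf, conj_of_mem hx, mem_normalizer_conj.mp (hcomm hx)]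
  have hEH : ∀ n ∈ ⁅A, B⁆, ∀ x ∈ Hc, ⁅n, x⁆ ∈ pCoreOf p ⁅A, B⁆ := by
    have h1 := comm_ncj hQHc hEn hOn hEQ
    rwa [hHcn] at h1
  have hEB : ⁅A, B⁆ ≤ CMod B (pCoreOf p ⁅A, B⁆) := by
    intro e he
    refine ⟨hOn ((hEA.trans hA) he), fun b hb => ?_⟩
    rw [← commutatorElement_inv]
    exact Subgroup.inv_mem _ (hEH e he b (hB hb))
  -- `[[A, A], B] ≤ O`
  have hAAB : ⁅A, A⁆ ≤ CMod B (pCoreOf p ⁅A, B⁆) := by
    have h0 : ∀ x y, x ∈ A → y ∈ A → ∀ b ∈ B, ⁅⁅x, y⁆, b⁆ ∈ pCoreOf p ⁅A, B⁆ := by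
      have hEA' : ⁅⁅A, B⁆, A⁆ ≤ pCoreOf p ⁅A, B⁆ := by
        rw [commutator_le]
        intro n hn x hx
        exact hEH n hn x (hA hx)
      have h1 : ⁅⁅A, A⁆, B⁆ ≤ pCoreOf p ⁅A, B⁆ :=
        CommNine.three_sub_le (X := A) (Y := B) (Z := A) (hA.trans hOn) (hB.trans hOn) (hA.trans hOn) hEA'
          (by rw [commutator_comm B A]; exact hEA')
      intro x y hx hy b hb
      exact h1 (commutator_mem_commutator (commutator_mem_commutator hx hy) hb)
    rw [commutator_le]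
    intro x hx y hy
    refine ⟨hOn (hA ?_), fun b hb => ?_⟩
    · rw [commutatorElement_def]
      exact A.mul_mem (A.mul_mem (A.mul_mem hx hy) (A.inv_mem hx)) (A.inv_mem hy)
    · rw [← commutatorElement_inv]
      exact Subgroup.inv_mem _ (h0 x y hx hy b hb)
  have hAQ : ⁅A, Q⁆ ≤ CMod B (pCoreOf p ⁅A, B⁆) := by
    rw [commutator_le]
    intro a ha q hq
    have hq' := hQHc hq
    rw [← hAB] at hq'
    obtain ⟨a', ha', b', hb', rfl⟩ := (Basic.mem_sup_iff_left hBA).mp hq'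
    have e : ⁅a, a' * b'⁆ = ⁅a, a'⁆ * (a' * ⁅a, b'⁆ * a'⁻¹) := by simp only [commutatorElement_def]; group
    rw [e]
    refine Subgroup.mul_mem _ (hAAB (commutator_mem_commutator ha ha')) (hEB ?_)
    exact (mem_normalizer_iff.mp (hEn (hA ha')) _).mp (commutator_mem_commutator ha hb')
  -- `W`
  have hQAQ : Q ≤ A ⊔ Q := le_sup_right
  have hQW : Q ≤ weakClosure Q (A ⊔ Q) := self_le_weakClosure hQAQ
  have hAW : A ≤ normalizer ((weakClosure Q (A ⊔ Q) : Subgroup H) : Set H) :=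
    le_sup_left.trans le_normalizer_weakClosure
  have hnW := ncj_wc hQp hwc hQAQ
  obtain ⟨hWK, hKQ⟩ := wc_res hQp hQW hnW
  have hWD : weakClosure Q (A ⊔ Q) ≤ ⁅A, Q⁆ ⊔ Q := by
    have h1 := (s2840 Q hQp hwc (A ⊔ Q) hQAQ _ rfl).1
    rw [h1]
    have h2 : A ⊔ Q ≤ normalizer ((⁅A, Q⁆ ⊔ Q : Subgroup H) : Set H) :=
      sup_le (sup_norm (Coprime.le_normalizer_commutator_left Q A) (Coprime.le_normalizer_commutator_right Q A) le_rfl)
        (le_sup_right.trans le_normalizer)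
    exact ncj_le le_sup_right h2
  have hKAQ : K ≤ ⁅A, Q⁆ := by
    rw [hK, res_le_iff]
    intro x hx ho
    exact mem_of_sup hQp (Coprime.le_normalizer_commutator_right Q A) (hWD hx) ho
  have hKA : K ≤ A := hKAQ.trans (Coprime.commutator_le_of_normalizes hQA)
  have hKnA : A ≤ normalizer (K : Set H) := by
    rw [hK]; exact hAW.trans (norm_le_norm_res _)
  have hKB : ∀ b ∈ B, ∀ k ∈ K, ⁅b, k⁆ ∈ pCoreOf p ⁅A, B⁆ := fun b hb k hk => (hAQ (hKAQ hk)).2 b hb
  have hres : ∀ L : Subgroup H, K ≤ L ↔ ∀ x ∈ weakClosure Q (A ⊔ Q), (orderOf x).Coprime p → x ∈ L := by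
    intro L; rw [hK, res_le_iff]
  have hKm : ∀ x ∈ weakClosure Q (A ⊔ Q), (orderOf x).Coprime p → x ∈ K := (hres K).mp le_rfl
  have hOK : pCoreOf p ⁅A, B⁆ ≤ normalizer (K : Set H) := hOA.trans hKnA
  -- normality
  have hKO : Hc ≤ normalizer ((K ⊔ pCoreOf p ⁅A, B⁆ : Subgroup H) : Set H) := by
    rw [← hAB]
    refine sup_le ?_ ?_
    · intro x hx
      rw [mem_normalizer_conj, Subgroup.map_sup, mem_normalizer_conj.mp (hKnA hx), mem_normalizer_conj.mp (hOn (hA hx))]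
    · refine le_normalizer_of_conj ?_
      intro b hb
      rw [Subgroup.map_sup, mem_normalizer_conj.mp (hOn (hB hb))]
      refine sup_le ?_ le_sup_right
      rintro _ ⟨k, hk, rfl⟩
      show b * k * b⁻¹ ∈ _
      have e : b * k * b⁻¹ = ⁅b, k⁆ * k := by rw [commutatorElement_def]; group
      rw [e]
      exact mul_mem ((le_sup_right : pCoreOf p ⁅A, B⁆ ≤ K ⊔ pCoreOf p ⁅A, B⁆) (hKB b hb k hk))
        ((le_sup_left : K ≤ K ⊔ pCoreOf p ⁅A, B⁆) hk)
  have hresKO : (pResidual p ↥(K ⊔ pCoreOf p ⁅A, B⁆)).map (K ⊔ pCoreOf p ⁅A, B⁆).subtype = K := by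
    apply le_antisymm
    · rw [res_le_iff]
      intro x hx ho
      exact mem_of_sup hOp hOK hx ho
    · rw [hres]
      intro x hx ho
      exact mem_res ((le_sup_left : K ≤ K ⊔ pCoreOf p ⁅A, B⁆) (hKm x hx ho)) ho
  have hnK : Hc ≤ normalizer (K : Set H) := by
    have h1 := hKO.trans (norm_le_norm_res (p := p) _)
    rwa [hresKO] at h1
  rw [← hK] at hKQ hWK
  -- `[K, A] = K`
  have hKA' : ⁅K, A⁆ = K := by
    apply le_antisymm (Coprime.commutator_le_of_normalizes hKnA)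
    have hnKA : pCoreOf p ⁅A, B⁆ ≤ normalizer ((⁅K, A⁆ : Subgroup H) : Set H) := by
      intro x hx
      rw [mem_normalizer_conj, map_commutator, mem_normalizer_conj.mp (hOK hx), conj_of_mem (hOA hx)]
    have h1 : K ≤ ⁅K, A⁆ ⊔ pCoreOf p ⁅A, B⁆ := by
      conv_lhs => rw [← hKQ]
      rw [commutator_le]
      intro k hk q hq
      have hq' := hQHc hq
      rw [← hAB] at hq'
      obtain ⟨a', ha', b', hb', rfl⟩ := (Basic.mem_sup_iff_left hBA).mp hq'
      have e : ⁅k, a' * b'⁆ = ⁅k, a'⁆ * (a' * ⁅k, b'⁆ * a'⁻¹) := by simp only [commutatorElement_def]; group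
      rw [e]
      refine mul_mem ((le_sup_left : ⁅K, A⁆ ≤ _) (commutator_mem_commutator hk ha'))
        ((le_sup_right : pCoreOf p ⁅A, B⁆ ≤ _) ?_)
      refine (mem_normalizer_iff.mp (hOn (hA ha')) _).mp ?_
      rw [← commutatorElement_inv]
      exact Subgroup.inv_mem _ (hKB b' hb' k hk)
    rw [hres]
    intro x hx ho
    exact mem_of_sup hOp hnKA (h1 (hKm x hx ho)) ho
  refine ⟨hKQ, hKA', ?_, hnK, hKA, hWK.symm, fun b hb k hk => hOH (hKB b hb k hk)⟩
  conv_lhs => rw [← hKA']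
  exact commutator_mono hKA le_rfl

/-- S2859 -/
theorem s2859 [Finite H] [hp : Fact p.Prime] (Q : Subgroup H) (hQp : IsPGroup p Q)
    (hwc : IsWeaklyClosedSubgroup p Q) (Hc A B : Subgroup H) (hHc : Hc = weakClosure Q ⊤) (hA : A ≤ Hc)
    (hAn : Hc ≤ normalizer (A : Set H)) (hB : B ≤ Hc) (hBn : Hc ≤ normalizer (B : Set H)) (hAB : A ⊔ B = Hc)
    (hcomm : ⁅A, B⁆ ≤ normalizer (Q : Set H)) (K₁ K₂ : Subgroup H)
    (hK₁ : K₁ = (pResidual p ↥(weakClosure Q (A ⊔ Q))).map (weakClosure Q (A ⊔ Q)).subtype)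
    (hK₂ : K₂ = (pResidual p ↥(weakClosure Q (B ⊔ Q))).map (weakClosure Q (B ⊔ Q)).subtype) :
    (⁅K₁, Q⁆ = K₁ ∧ ⁅K₁, A⁆ = K₁ ∧ K₁ ≤ ⁅A, A⁆ ∧ Hc ≤ normalizer (K₁ : Set H)) ∧
      (⁅K₂, Q⁆ = K₂ ∧ ⁅K₂, B⁆ = K₂ ∧ K₂ ≤ ⁅B, B⁆ ∧ Hc ≤ normalizer (K₂ : Set H)) ∧
      K₁ ⊔ K₂ = (pResidual p ↥Hc).map Hc.subtype ∧ ⁅K₁, K₂⁆ ≤ pCoreOf p Hc := by
  have hQHc : Q ≤ Hc := by rw [hHc]; exact self_le_weakClosure le_top
  have hHcn : ncj Hc Q = Hc := by rw [hHc]; exact ncj_wc hQp hwc le_top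
  obtain ⟨a1, a2, a3, a4, a5, a6, a7⟩ := s2859_half hQp hwc hHc hA hAn hB hBn hAB hcomm hK₁
  obtain ⟨b1, b2, b3, b4, b5, b6, b7⟩ := s2859_half hQp hwc hHc hB hBn hA hAn (by rw [sup_comm]; exact hAB)
    (by rw [commutator_comm]; exact hcomm) hK₂
  refine ⟨⟨a1, a2, a3, a4⟩, ⟨b1, b2, b3, b4⟩, ?_, ?_⟩
  · have hn12 : Hc ≤ normalizer ((K₁ ⊔ K₂ : Subgroup H) : Set H) := by
      intro x hx
      rw [mem_normalizer_conj, Subgroup.map_sup, mem_normalizer_conj.mp (a4 hx), mem_normalizer_conj.mp (b4 hx)]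
    apply le_antisymm
    · refine sup_le ?_ ?_
      · rw [hK₁, res_le_iff]
        intro x hx ho
        refine mem_res ?_ ho
        rw [a6] at hx
        exact (sup_le (a5.trans hA) hQHc) hx
      · rw [hK₂, res_le_iff]
        intro x hx ho
        refine mem_res ?_ ho
        rw [b6] at hx
        exact (sup_le (b5.trans hB) hQHc) hx
    · have hW1 : A ≤ normalizer ((K₁ ⊔ Q : Subgroup H) : Set H) := by
        rw [← a6]; exact le_sup_left.trans le_normalizer_weakClosure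
      have hW2 : B ≤ normalizer ((K₂ ⊔ Q : Subgroup H) : Set H) := by
        rw [← b6]; exact le_sup_left.trans le_normalizer_weakClosure
      have h1 : Hc ≤ normalizer ((K₁ ⊔ K₂ ⊔ Q : Subgroup H) : Set H) := by
        conv_lhs => rw [← hAB]
        refine sup_le ?_ ?_
        · refine le_normalizer_of_conj ?_
          intro x hx
          rw [Subgroup.map_sup, mem_normalizer_conj.mp (hn12 (hA hx))]
          refine sup_le le_sup_left ?_
          have h2 := conj_mono (le_sup_right : Q ≤ K₁ ⊔ Q) x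
          rw [mem_normalizer_conj.mp (hW1 hx)] at h2
          exact h2.trans (sup_le_sup_right le_sup_left Q)
        · refine le_normalizer_of_conj ?_
          intro x hx
          rw [Subgroup.map_sup, mem_normalizer_conj.mp (hn12 (hB hx))]
          refine sup_le le_sup_left ?_
          have h2 := conj_mono (le_sup_right : Q ≤ K₂ ⊔ Q) x
          rw [mem_normalizer_conj.mp (hW2 hx)] at h2
          exact h2.trans (sup_le_sup_right le_sup_right Q)
      have h2 : Hc ≤ K₁ ⊔ K₂ ⊔ Q := by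
        have h3 := ncj_le (le_sup_right : Q ≤ K₁ ⊔ K₂ ⊔ Q) h1
        rwa [hHcn] at h3
      rw [res_le_iff]
      intro x hx ho
      exact mem_of_sup hQp (hQHc.trans hn12) (h2 hx) ho
  · rw [commutator_comm, commutator_le]
    intro k₂ hk₂ k₁ hk₁
    exact a7 k₂ (b5 hk₂) k₁ hk₁

end Cfsg.Agent.Lib.PRed
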