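import Cfsg.Agent.Lib.QfE
import Cfsg.Agent.Lib.NilD

/-!
`Qd(p)` is involved in a finite group iff it is involved in a model of its fusion system.
-/

set_option autoImplicit false
set_option linter.unusedSectionVars false
set_option linter.style.haveILetI false
set_option linter.unusedVariables false

namespace Cfsg.Agent.Lib.QfF

open Cfsg Cfsg.FusionSystem Cfsg.Agent.Lib.FusBase Cfsg.Agent.Lib.FusSat Cfsg.Agent.Lib.StrongEmb
open Cfsg.Agent.Lib.FusAlperin Cfsg.Agent.Lib.FusNormal Cfsg.Agent.Lib.FusNormalB Cfsg.Agent.Lib.SylRel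
open Cfsg.Agent.Lib.FusSub Cfsg.Agent.Lib.FusPuig Cfsg.Agent.Lib.FusNK Cfsg.Agent.Lib.FusNKB Cfsg.Agent.Lib.FusMor Cfsg.Agent.Lib.FusGroup
open Cfsg.Agent.Lib.FusHyp Cfsg.Agent.Lib.FusHypB Cfsg.Agent.Lib.FusInv Cfsg.Agent.Lib.FusInvB Cfsg.Agent.Lib.FusModel
open Cfsg.Agent.Lib.MdlA Cfsg.Agent.Lib.MdlB Cfsg.Agent.Lib.MdlC Cfsg.Agent.Lib.MdlD Cfsg.Agent.Lib.PNilp
open Cfsg.Agent.Lib.NilA Cfsg.Agent.Lib.NilB Cfsg.Agent.Lib.NilC Cfsg.Agent.Lib.NilD Cfsg.Agent.Lib.NilE Cfsg.Agent.Lib.CSecA Cfsg.Agent.Lib.FusSimple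
open Cfsg.Agent.Lib.QfA Cfsg.Agent.Lib.QfB Cfsg.Agent.Lib.QfC Cfsg.Agent.Lib.QfD Cfsg.Agent.Lib.QfE Cfsg.Agent.Lib.Involve
open Cfsg.Agent.Lib.QdA Cfsg.Agent.Lib.QdD Cfsg.Agent.Lib.QdE
open scoped commutatorElement

universe u v w

section group

theorem quad_bot {X : Type u} [Group X] [Finite X] {P : Subgroup X} {g : X}
    (h : ∀ y ∈ P, (y⁻¹ * (g * y * g⁻¹)) * g = g * (y⁻¹ * (g * y * g⁻¹))) :
    ⁅⁅P, Subgroup.zpowers g⁆, Subgroup.zpowers g⁆ = ⊥ := by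
  rw [Subgroup.commutator_eq_bot_iff_le_centralizer, Subgroup.commutator_le]
  intro y hy x hx
  have hc : ∀ c : X, c * g = g * c → c ∈ Subgroup.centralizer (Subgroup.zpowers g : Set X) := by
    intro c hc
    rw [Subgroup.mem_centralizer_iff]
    intro z hz
    obtain ⟨k, rfl⟩ := Subgroup.mem_zpowers_iff.1 hz
    have : Commute c (g ^ k) := Commute.zpow_right (show Commute c g from hc) k
    exact this.symm.eq
  apply hc
  have hx' : x ∈ Submonoid.powers g := (mem_powers_iff_mem_zpowers).2 hx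
  obtain ⟨n, rfl⟩ := Submonoid.mem_powers_iff _ _ |>.1 hx'
  clear hx hx'
  induction n with
  | zero => simp
  | succ n ih =>
    have h1 := h y⁻¹ (inv_mem hy)
    rw [inv_inv] at h1
    have h2 : Commute (y * (g * y⁻¹ * g⁻¹)) g := h1
    have h3 : g ^ n * (y * (g * y⁻¹ * g⁻¹)) * (g ^ n)⁻¹ = y * (g * y⁻¹ * g⁻¹) := by
      have h4 : Commute (y * (g * y⁻¹ * g⁻¹)) (g ^ n) := h2.pow_right n
      rw [← h4.eq]; group
    have e : ⁅y, g ^ (n + 1)⁆ = ⁅y, g ^ n⁆ * (y * (g * y⁻¹ * g⁻¹)) := by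
      rw [← h3, commutatorElement_def, commutatorElement_def, pow_succ]; group
    rw [e]
    exact (Commute.mul_left (show Commute ⁅y, g ^ n⁆ g from ih) h2).eq

variable {p : ℕ} [Fact p.Prime]

/-- a group acting on a `p`-group as a `p`-group has nontrivial fixed points -/
theorem exists_fixed {X : Type u} [Group X] [Finite X] {P K : Subgroup X} (hP : IsPGroup p P) (hne : P ≠ ⊥)
    (hKN : K ≤ Subgroup.normalizer (P : Set X)) (hK : ∀ x ∈ K, (orderOf x).Coprime p → x ∈ Subgroup.centralizer (P : Set X)) :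
    ∃ y ∈ P, y ≠ 1 ∧ ∀ x ∈ K, x * y * x⁻¹ = y := by
  have hA : IsPGroup p ((K.subgroupOf (Subgroup.normalizer (P : Set X))).map (Subgroup.normalizerMonoidHom P)) := by
    refine Cfsg.Agent.Lib.PNInd.isPGroup_of_no_pprime fun a ha ho => ?_
    obtain ⟨x, hx, rfl⟩ := ha
    obtain ⟨n, h1, h2⟩ := Cfsg.Agent.Lib.PPart.lift (Subgroup.normalizerMonoidHom P) ho
    rw [← h1]
    have h3 : ((x ^ n : Subgroup.normalizer (P : Set X)) : X) ∈ Subgroup.centralizer (P : Set X) :=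
      hK _ (by exact Subgroup.pow_mem _ hx n) (by rwa [Subgroup.orderOf_coe])
    refine MulEquiv.ext fun y => Subtype.ext ?_
    show ((x ^ n : Subgroup.normalizer (P : Set X)) : X) * y * ((x ^ n : Subgroup.normalizer (P : Set X)) : X)⁻¹ = y
    rw [← Subgroup.mem_centralizer_iff.1 h3 y y.2]; group
  have hp : p ∣ Nat.card P := by
    haveI := (Subgroup.nontrivial_iff_ne_bot P).2 hne
    obtain ⟨k, hk, hk'⟩ := hP.nontrivial_iff_card.1 inferInstance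
    rw [hk']; exact dvd_pow_self p hk.ne'
  obtain ⟨b, hb, hb1⟩ := hA.exists_fixed_point_of_prime_dvd_card_of_fixed_point P hp (a := 1) (fun a => by
    show (a : MulAut P) 1 = 1
    exact map_one _)
  refine ⟨b, b.2, fun h => hb1 (Subtype.ext h.symm), fun x hx => ?_⟩
  have h1 := hb ⟨Subgroup.normalizerMonoidHom P ⟨x, hKN hx⟩, ⟨⟨x, hKN hx⟩, hx, rfl⟩⟩
  exact congrArg Subtype.val h1

/-- the group-level criterion -/
theorem grp_involves (hp : p ≠ 2) {L : Type u} [Group L] [Finite L] {U T : Subgroup L} (hTU : T ≤ U) (hU : IsPGroup p U)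
    (hn : U ≤ Subgroup.normalizer (T : Set L)) (hne : T ≠ U) {γ η : L} (γU : ∀ x ∈ U, γ * x * γ⁻¹ ∈ U)
    (γT : γ ∈ Subgroup.normalizer (T : Set L)) (ηU : ∀ x ∈ U, η * x * η⁻¹ ∈ U) (ηT : η ∈ Subgroup.normalizer (T : Set L))
    (quad : ∀ x ∈ U, (x⁻¹ * (γ * x * γ⁻¹))⁻¹ * (γ * (x⁻¹ * (γ * x * γ⁻¹)) * γ⁻¹) ∈ T)
    (nofix : ∀ x ∈ U, x⁻¹ * (γ * x * γ⁻¹) ∈ T → (η * x * η⁻¹)⁻¹ * (γ * (η * x * η⁻¹) * γ⁻¹) ∈ T → x ∈ T) : Involves (qd p) L := by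
  by_contra hcon
  have hLq : ¬ Involves (qd p) (Subgroup.normalizer (T : Set L) ⧸ T.subgroupOf (Subgroup.normalizer (T : Set L))) := fun h =>
    hcon (involves_trans h (involves_trans (involves_quot _) (involves_subgroup _)))
  have hst := Cfsg.Agent.Lib.QdF.stable_of_free hp hLq
  rw [Cfsg.Agent.Lib.PStab.pstable_iff] at hst
  have hone : ∀ a : Subgroup.normalizer (T : Set L), QuotientGroup.mk' (T.subgroupOf (Subgroup.normalizer (T : Set L))) a = 1 ↔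
      (a : L) ∈ T := fun a => QuotientGroup.eq_one_iff a
  generalize hπdef : QuotientGroup.mk' (T.subgroupOf (Subgroup.normalizer (T : Set L))) = π at hone
  have hPU : ∀ y, y ∈ (U.subgroupOf (Subgroup.normalizer (T : Set L))).map π ↔
      ∃ u : Subgroup.normalizer (T : Set L), (u : L) ∈ U ∧ π u = y := fun y => Iff.rfl
  have hPp : IsPGroup p ((U.subgroupOf (Subgroup.normalizer (T : Set L))).map π) := (isPGroup_subgroupOf hU).map _
  have hγN : π ⟨γ, γT⟩ ∈ Subgroup.normalizer (((U.subgroupOf (Subgroup.normalizer (T : Set L))).map π : Subgroup _) : Set _) := by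
    refine mem_normalizer_of_conj_mem fun y hy => ?_
    obtain ⟨u, hu, rfl⟩ := (hPU y).1 hy
    rw [← map_inv, ← map_mul, ← map_mul]
    exact (hPU _).2 ⟨_, γU u hu, rfl⟩
  have hηN : π ⟨η, ηT⟩ ∈ Subgroup.normalizer (((U.subgroupOf (Subgroup.normalizer (T : Set L))).map π : Subgroup _) : Set _) := by
    refine mem_normalizer_of_conj_mem fun y hy => ?_
    obtain ⟨u, hu, rfl⟩ := (hPU y).1 hy
    rw [← map_inv, ← map_mul, ← map_mul]
    exact (hPU _).2 ⟨_, ηU u hu, rfl⟩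
  obtain ⟨K, hKN, hNK, hgK, hKp⟩ := hst _ hPp _ hγN (quad_bot fun y hy => by
    obtain ⟨u, hu, rfl⟩ := (hPU y).1 hy
    have h1 := (hone (((u⁻¹ * (⟨γ, γT⟩ * u * (⟨γ, γT⟩)⁻¹)))⁻¹ * (⟨γ, γT⟩ * (u⁻¹ * (⟨γ, γT⟩ * u * (⟨γ, γT⟩)⁻¹)) * (⟨γ, γT⟩)⁻¹))).2 (quad u hu)
    rw [map_mul, map_inv, inv_mul_eq_one] at h1
    simp only [map_mul, map_inv] at h1 ⊢
    conv_lhs => rw [h1]
    group)
  have hne' : (U.subgroupOf (Subgroup.normalizer (T : Set L))).map π ≠ ⊥ := by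
    intro h
    apply hne
    refine le_antisymm hTU fun x hx => ?_
    have h1 : π ⟨x, hn hx⟩ ∈ (U.subgroupOf (Subgroup.normalizer (T : Set L))).map π := (hPU _).2 ⟨_, hx, rfl⟩
    rw [h, Subgroup.mem_bot] at h1
    exact (hone _).1 h1
  obtain ⟨y, hy, hy1, hyK⟩ := exists_fixed hPp hne' hKN hKp
  obtain ⟨u, hu, rfl⟩ := (hPU y).1 hy
  apply hy1
  rw [hone]
  refine nofix u hu ?_ ?_
  · have h1 := hyK _ hgK
    apply (hone (u⁻¹ * (⟨γ, γT⟩ * u * (⟨γ, γT⟩)⁻¹))).1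
    simp only [map_mul, map_inv]
    rw [h1, inv_mul_cancel]
  · have h2 : (π ⟨η, ηT⟩)⁻¹ * π ⟨γ, γT⟩ * π ⟨η, ηT⟩ ∈ K := by
      have h3 := inv_mem (hNK hηN)
      have h4 := (Subgroup.mem_normalizer_iff.1 h3 _).1 hgK
      rwa [inv_inv] at h4
    have h1 := hyK _ h2
    apply (hone ((⟨η, ηT⟩ * u * (⟨η, ηT⟩)⁻¹)⁻¹ * (⟨γ, γT⟩ * (⟨η, ηT⟩ * u * (⟨η, ηT⟩)⁻¹) * (⟨γ, γT⟩)⁻¹))).1
    simp only [map_mul, map_inv]
    rw [inv_mul_eq_one]
    conv_lhs => rw [← h1]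
    group

/-- the configuration coming from a section `Qd(p)` -/
theorem cfg_of_surj {X : Type u} [Group X] [Finite X] (f : X →* qd p) (hf : Function.Surjective f) :
    ∃ (U T : Subgroup X) (γ η : X), T ≤ U ∧ IsPGroup p U ∧ U ≤ Subgroup.normalizer (T : Set X) ∧ T ≠ U ∧
      (∀ x ∈ U, γ * x * γ⁻¹ ∈ U) ∧ γ ∈ Subgroup.normalizer (T : Set X) ∧ (∀ x ∈ U, η * x * η⁻¹ ∈ U) ∧
      η ∈ Subgroup.normalizer (T : Set X) ∧
      (∀ x ∈ U, (x⁻¹ * (γ * x * γ⁻¹))⁻¹ * (γ * (x⁻¹ * (γ * x * γ⁻¹)) * γ⁻¹) ∈ T) ∧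
      ∀ x ∈ U, x⁻¹ * (γ * x * γ⁻¹) ∈ T → (η * x * η⁻¹)⁻¹ * (γ * (η * x * η⁻¹) * γ⁻¹) ∈ T → x ∈ T := by
  obtain ⟨T, hT, -⟩ := exists_sylIn (p := p) (X := (⊥ : Subgroup X)) (H := f.ker) bot_le IsPGroup.of_bot
  have hTk : T ≤ f.ker := hT.le
  obtain ⟨U, hU, hTU⟩ := exists_sylIn (p := p) (X := T) (H := Subgroup.normalizer (T : Set X) ⊓ (V p).comap f)
    (le_inf Subgroup.le_normalizer fun x hx => by
      show f x ∈ V p
      rw [show f x = 1 from hTk hx]; exact one_mem _) hT.isPGroup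
  have hUN : U ≤ Subgroup.normalizer (T : Set X) := hU.le.trans inf_le_left
  have hUV : ∀ x ∈ U, f x ∈ V p := fun x hx => (hU.le hx).2
  -- `U ∩ ker f = T`
  have hUk : ∀ x ∈ U, f x = 1 → x ∈ T := by
    have h1 : T ≤ U ⊓ f.ker := le_inf hTU hTk
    have h2 : Nat.card (U ⊓ f.ker : Subgroup X) ≤ Nat.card T := hT.card_le inf_le_right (hU.isPGroup.to_le inf_le_left)
    have h3 := Subgroup.eq_of_le_of_card_ge h1 h2
    intro x hx hfx
    rw [h3]; exact ⟨hx, hfx⟩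
  -- translations
  have htr : ∀ a b a' b' : ZMod p, tran (p := p) a b = tran a' b' → a = a' ∧ b = b' := fun a b a' b' h => (A0 p).inj' h
  have hneg : ∀ a b : ZMod p, (tran a b)⁻¹ = tran (p := p) (-a) (-b) := fun a b => (A0 p).neg a b
  have hadd : ∀ a b a' b' : ZMod p, tran (a + a') (b + b') = tran (p := p) a b * tran a' b' := (A0 p).add
  have hzero : tran (p := p) 0 0 = 1 := (A0 p).zero
  -- `T ≠ U`
  have hne : T ≠ U := by
    intro hTU'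
    obtain ⟨d, hd⟩ := hf (tran 1 0)
    obtain ⟨e, he, heN⟩ := hT.frattini (Δ := f.ker) (g := d) (fun x hx => (f.normal_ker).conj_mem x hx d)
    have hedN : e * d ∈ Subgroup.normalizer (T : Set X) := mem_normalizer_of_conj_mem heN
    have hfed : f (e * d) = tran 1 0 := by rw [map_mul, show f e = 1 from he, one_mul, hd]
    obtain ⟨m, n, h1, ⟨a, h2⟩, h3⟩ := Cfsg.Agent.Lib.PPart.decomp p (e * d)
    have hV10 : tran (p := p) 1 0 ∈ V p := ⟨1, 0, rfl⟩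
    have hp1 : f ((e * d) ^ n) = 1 := by
      obtain ⟨k, hk⟩ := (A0 p).V_pgroup ⟨f ((e * d) ^ n), by
        rw [map_pow, hfed]; exact Subgroup.pow_mem _ hV10 n⟩
      have hk' : (f ((e * d) ^ n)) ^ p ^ k = 1 := congrArg Subtype.val hk
      exact Cfsg.Agent.Lib.PPart.eq_one_of (orderOf_dvd_of_pow_eq_one hk') (Nat.Coprime.coprime_dvd_left (orderOf_map_dvd f _) h3)
    have hp2 : f ((e * d) ^ m) = tran 1 0 := by
      rw [← hfed]; conv_rhs => rw [h1]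
      rw [map_mul, hp1, mul_one]
    have hmem : (e * d) ^ m ∈ Subgroup.normalizer (T : Set X) ⊓ (V p).comap f :=
      ⟨Subgroup.pow_mem _ hedN m, by show f _ ∈ V p; rw [hp2]; exact hV10⟩
    obtain ⟨g, hg, hgx⟩ := hU.conj_le (X := Subgroup.zpowers ((e * d) ^ m)) (Subgroup.zpowers_le.2 hmem) (by
      intro x
      refine ⟨a, ?_⟩
      obtain ⟨j, hj⟩ := Subgroup.mem_zpowers_iff.1 x.2
      refine Subtype.ext ?_
      show (x : X) ^ p ^ a = 1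
      rw [← hj, ← zpow_natCast, zpow_comm, zpow_natCast, orderOf_dvd_iff_pow_eq_one.1 h2, one_zpow])
    have h4 := hgx _ (Subgroup.mem_zpowers _)
    rw [← hTU', ← Subgroup.mem_normalizer_iff.1 hg.1] at h4
    have h5 : f ((e * d) ^ m) = 1 := hTk h4
    rw [hp2, ← hzero] at h5
    exact one_ne_zero (htr _ _ _ _ h5).1
  -- elements normalizing `U` and `T`
  have hex : ∀ s : Matrix.SpecialLinearGroup (Fin 2) (ZMod p), ∃ γ : X, (∀ x ∈ U, γ * x * γ⁻¹ ∈ U) ∧ γ ∈ Subgroup.normalizer (T : Set X) ∧ lin (f γ) = s := by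
    intro s
    obtain ⟨q, rfl⟩ := lin_surj (p := p) s
    obtain ⟨d, rfl⟩ := hf q
    obtain ⟨e, he, heN⟩ := hT.frattini (Δ := f.ker) (g := d) (fun x hx => (f.normal_ker).conj_mem x hx d)
    have hedN : e * d ∈ Subgroup.normalizer (T : Set X) := mem_normalizer_of_conj_mem heN
    have hfed : f (e * d) = f d := by rw [map_mul, show f e = 1 from he, one_mul]
    obtain ⟨c, hc, hcN⟩ := hU.frattini (g := e * d) (fun x hx => ⟨Subgroup.mul_mem _ (Subgroup.mul_mem _ hedN hx.1) (Subgroup.inv_mem _ hedN), by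
      show f (e * d * x * (e * d)⁻¹) ∈ V p
      rw [map_mul, map_mul, map_inv]
      exact V_normal.conj_mem _ hx.2 _⟩)
    refine ⟨c * (e * d), hcN, mul_mem hc.1 hedN, ?_⟩
    have h1 : lin (f c) = 1 := by
      have : f c ∈ (lin (p := p)).ker := by rw [ker_lin]; exact hc.2
      exact this
    rw [map_mul, map_mul, h1, one_mul, hfed]
  obtain ⟨γ, γU, γT, γl⟩ := hex (SL2.t 1)
  obtain ⟨η, ηU, ηT, ηl⟩ := hex (SL2.s 1)
  have hγa : ∀ a b, f γ * tran a b * (f γ)⁻¹ = tran (a + b) b := by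
    intro a b
    rw [tran_act, γl]
    simp [Cfsg.Agent.Lib.DickB.ga, Cfsg.Agent.Lib.DickB.gb, Cfsg.Agent.Lib.DickB.gc, Cfsg.Agent.Lib.DickB.gd]
  have hηa : ∀ a b, f η * tran a b * (f η)⁻¹ = tran a (a + b) := by
    intro a b
    rw [tran_act, ηl]
    simp [Cfsg.Agent.Lib.DickB.ga, Cfsg.Agent.Lib.DickB.gb, Cfsg.Agent.Lib.DickB.gc, Cfsg.Agent.Lib.DickB.gd]
  have hm : ∀ x ∈ U, f x = 1 → x ∈ T := hUk
  have hc1 : ∀ x a b, f x = tran a b → f (x⁻¹ * (γ * x * γ⁻¹)) = tran b 0 := by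
    intro x a b h
    rw [map_mul, map_inv, map_mul, map_mul, map_inv, h, hγa, hneg, ← hadd]
    congr 1 <;> ring
  have hdiff : ∀ x a b, f x = tran a b → f (η * x * η⁻¹) = tran a (a + b) := by
    intro x a b h
    rw [map_mul, map_mul, map_inv, h, hηa]
  refine ⟨U, T, γ, η, hTU, hU.isPGroup, hUN, hne, γU, γT, ηU, ηT, fun x hx => ?_, fun x hx h1 h2 => ?_⟩
  · obtain ⟨a, b, hab⟩ := hUV x hx
    have hab' : f x = tran a b := hab
    have h3 := hc1 x a b hab'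
    have h4 : x⁻¹ * (γ * x * γ⁻¹) ∈ U := mul_mem (inv_mem hx) (γU x hx)
    refine hm _ (mul_mem (inv_mem h4) (γU _ h4)) ?_
    rw [hc1 _ b 0 h3, hzero]
  · obtain ⟨a, b, hab⟩ := hUV x hx
    have hab' : f x = tran a b := hab
    have h3 : tran (p := p) b 0 = 1 := by rw [← hc1 x a b hab']; exact hTk h1
    have h4 : tran (p := p) (a + b) 0 = 1 := by rw [← hc1 _ a (a + b) (hdiff x a b hab')]; exact hTk h2
    rw [← hzero] at h3 h4
    have hb := (htr _ _ _ _ h3).1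
    have hab2 := (htr _ _ _ _ h4).1
    refine hm x hx ?_
    rw [hab', ← hzero]
    congr 1
    rw [hb, add_zero] at hab2; exact hab2

end group

variable {Ω : Type u} [Group Ω] {S : Subgroup Ω} [Finite S] {F : FusionSystem S} {p : ℕ} [Fact p.Prime]
variable {X X₁ U T : Subgroup Ω} {g h φ : Ω → Ω}

/-- a section of `X` on which two automorphisms act like generators of `SL₂(p)` on the natural module -/
structure Cf (F : FusionSystem S) (X U T : Subgroup Ω) (g h : Ω → Ω) : Prop where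
  UX : U ≤ X
  TU : T ≤ U
  nT : ∀ x ∈ U, ∀ y ∈ T, x * y * x⁻¹ ∈ T
  ne : T ≠ U
  ig : Iso F X X g
  ih : Iso F X X h
  gU : ∀ x ∈ U, g x ∈ U
  hU : ∀ x ∈ U, h x ∈ U
  gT : ∀ x ∈ T, g x ∈ T
  hT : ∀ x ∈ T, h x ∈ T
  quad : ∀ x ∈ U, (x⁻¹ * g x)⁻¹ * g (x⁻¹ * g x) ∈ T
  nofix : ∀ x ∈ U, x⁻¹ * g x ∈ T → (h x)⁻¹ * g (h x) ∈ T → x ∈ T

theorem mem_of_img (hφ : Mor F X φ) (hT : T ≤ X) {x : Ω} (hx : x ∈ X) (h : φ x ∈ img T φ) : x ∈ T := by
  obtain ⟨t, ht, hte⟩ := (hφ.restrict hT).mem_img.1 h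
  rwa [← hφ.inj (hT ht) hx hte]

theorem Cf.trans (hc : Cf F X U T g h) (hφ : Iso F X X₁ φ) : ∃ g' h', Cf F X₁ (img U φ) (img T φ) g' h' := by
  obtain ⟨ψ, hψ, hψφ, hφψ⟩ := hφ.symm
  have hTX := hc.TU.trans hc.UX
  have hU' : ∀ y, y ∈ img U φ ↔ ∃ u ∈ U, φ u = y := fun y => (hφ.mor.restrict hc.UX).mem_img
  have hT' : ∀ y, y ∈ img T φ ↔ ∃ u ∈ T, φ u = y := fun y => (hφ.mor.restrict hTX).mem_img
  have hgX : ∀ x ∈ X, g x ∈ X := fun x hx => hc.ig.map_mem hx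
  have hhX : ∀ x ∈ X, h x ∈ X := fun x hx => hc.ih.map_mem hx
  refine ⟨fun y => φ (g (ψ y)), fun y => φ (h (ψ y)), ?_⟩
  constructor
  · rw [← hφ.img_eq]; exact img_mono hc.UX
  · exact img_mono hc.TU
  · intro x hx y hy
    obtain ⟨u, hu, rfl⟩ := (hU' x).1 hx
    obtain ⟨t, ht, rfl⟩ := (hT' y).1 hy
    rw [← hφ.mor.conj (hc.UX hu) (hTX ht)]
    exact (hT' _).2 ⟨_, hc.nT u hu t ht, rfl⟩
  · intro he
    apply hc.ne
    refine le_antisymm hc.TU fun x hx => ?_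
    exact mem_of_img hφ.mor hTX (hc.UX hx) (by rw [he]; exact (hU' _).2 ⟨x, hx, rfl⟩)
  · exact (hψ.trans hc.ig).trans hφ
  · exact (hψ.trans hc.ih).trans hφ
  · intro y hy
    obtain ⟨u, hu, rfl⟩ := (hU' y).1 hy
    show φ (g (ψ (φ u))) ∈ _
    rw [hψφ u (hc.UX hu)]
    exact (hU' _).2 ⟨_, hc.gU u hu, rfl⟩
  · intro y hy
    obtain ⟨u, hu, rfl⟩ := (hU' y).1 hy
    show φ (h (ψ (φ u))) ∈ _
    rw [hψφ u (hc.UX hu)]
    exact (hU' _).2 ⟨_, hc.hU u hu, rfl⟩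
  · intro y hy
    obtain ⟨u, hu, rfl⟩ := (hT' y).1 hy
    show φ (g (ψ (φ u))) ∈ _
    rw [hψφ u (hTX hu)]
    exact (hT' _).2 ⟨_, hc.gT u hu, rfl⟩
  · intro y hy
    obtain ⟨u, hu, rfl⟩ := (hT' y).1 hy
    show φ (h (ψ (φ u))) ∈ _
    rw [hψφ u (hTX hu)]
    exact (hT' _).2 ⟨_, hc.hT u hu, rfl⟩
  · intro y hy
    obtain ⟨u, hu, rfl⟩ := (hU' y).1 hy
    show ((φ u)⁻¹ * φ (g (ψ (φ u))))⁻¹ * φ (g (ψ ((φ u)⁻¹ * φ (g (ψ (φ u)))))) ∈ _
    have huX := hc.UX hu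
    have hgu := hgX u huX
    rw [hψφ u huX, ← hφ.mor.inv huX, ← hφ.mor.mul (X.inv_mem huX) hgu, hψφ _ (X.mul_mem (X.inv_mem huX) hgu),
      ← hφ.mor.inv (X.mul_mem (X.inv_mem huX) hgu), ← hφ.mor.mul (X.inv_mem (X.mul_mem (X.inv_mem huX) hgu))
      (hgX _ (X.mul_mem (X.inv_mem huX) hgu))]
    exact (hT' _).2 ⟨_, hc.quad u hu, rfl⟩
  · intro y hy
    obtain ⟨u, hu, rfl⟩ := (hU' y).1 hy
    have huX := hc.UX hu
    have hgu := hgX u huX
    have hhu := hhX u huX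
    show (φ u)⁻¹ * φ (g (ψ (φ u))) ∈ _ → (φ (h (ψ (φ u))))⁻¹ * φ (g (ψ (φ (h (ψ (φ u)))))) ∈ _ → _
    rw [hψφ u huX, hψφ _ hhu, ← hφ.mor.inv huX, ← hφ.mor.mul (X.inv_mem huX) hgu, ← hφ.mor.inv hhu,
      ← hφ.mor.mul (X.inv_mem hhu) (hgX _ hhu)]
    intro h1 h2
    exact (hT' _).2 ⟨u, hc.nofix u hu (mem_of_img hφ.mor hTX (X.mul_mem (X.inv_mem huX) hgu) h1)
      (mem_of_img hφ.mor hTX (X.mul_mem (X.inv_mem hhu) (hgX _ hhu)) h2), rfl⟩

theorem Cf.up (hS : IsPGroup p S) (hF : F.IsSaturated p) (hc : Cf F X U T g h) (hn : F.IsFullyNormalized X) :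
    ∃ g' h', Cf F (X ⊔ centralizerIn S X) U T g' h' := by
  obtain ⟨g', hg', hgg⟩ := cent_ext hS hF hn hc.ig
  obtain ⟨h', hh', hhh⟩ := cent_ext hS hF hn hc.ih
  have hgX : ∀ x ∈ X, g x ∈ X := fun x hx => hc.ig.map_mem hx
  have hhX : ∀ x ∈ X, h x ∈ X := fun x hx => hc.ih.map_mem hx
  refine ⟨g', h', ?_⟩
  constructor
  · exact hc.UX.trans le_sup_left
  · exact hc.TU
  · exact hc.nT
  · exact hc.ne
  · exact hg'
  · exact hh'
  · intro x hx; rw [hgg x (hc.UX hx)]; exact hc.gU x hx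
  · intro x hx; rw [hhh x (hc.UX hx)]; exact hc.hU x hx
  · intro x hx; rw [hgg x (hc.UX (hc.TU hx))]; exact hc.gT x hx
  · intro x hx; rw [hhh x (hc.UX (hc.TU hx))]; exact hc.hT x hx
  · intro x hx
    have hxX := hc.UX hx
    rw [hgg x hxX, hgg _ (X.mul_mem (X.inv_mem hxX) (hgX x hxX))]
    exact hc.quad x hx
  · intro x hx
    have hxX := hc.UX hx
    rw [hgg x hxX, hhh x hxX, hgg _ (hhX x hxX)]
    exact hc.nofix x hx

/-- section-free systems have no such configuration -/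
theorem Cf.false (hp : p ≠ 2) (hS : IsPGroup p S) (hF : F.IsSaturated p) (hfree : F.IsSectionFree p (qd p))
    (hc : Cf F X U T g h) : False := by
  obtain ⟨X', ⟨U', T', g', h', hc'⟩, hXF, hXc, -⟩ := exists_max (F := F) hS hF (fun X => ∃ U T g h, Cf F X U T g h)
    (fun X ⟨U, T, g, h, hX⟩ => hX.ig.le_left)
    (fun X ⟨U, T, g, h, hX⟩ => by
      obtain ⟨X₁, hcj, hFN⟩ := exists_FN F hX.ig.le_left
      obtain ⟨f, hf⟩ := isConj_iff.1 hcj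
      obtain ⟨g', h', hX'⟩ := hX.trans hf
      exact ⟨X₁, ⟨_, _, _, _, hX'⟩, hFN, hFN.2 _ (isConj_symm hcj), hf.card_eq.le⟩)
    (fun X ⟨U, T, g, h, hX⟩ hFN => by
      obtain ⟨g', h', hX'⟩ := hX.up hS hF hFN
      exact ⟨_, _, _, _, hX'⟩) ⟨X, U, T, g, h, hc⟩
  clear hc
  obtain ⟨E, L, _, ι, hE, hM, hn, hemb⟩ := exists_model_norm hS hF hXF hXc
  haveI := hM.1
  refine hfree X' hXF hXc E hE L ι hM ?_
  have hXS := hXF.1
  haveI : Finite X' := finite_of_le hXS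
  have hXN : X' ≤ normalizerIn S X' := le_normalizerIn hXS
  have hUX := hc'.UX
  have hTX := hc'.TU.trans hc'.UX
  have hUN := hUX.trans hXN
  have hTN := hTX.trans hXN
  haveI : Finite T' := finite_of_le (hTX.trans hXS)
  have hlift : ∀ k, Iso F X' X' k → ∃ γ : L, ∀ x ∈ X', ev ι (k x) = γ * ev ι x * γ⁻¹ := by
    intro k hk
    have h1 : Mor E X' k := mor_norm_of hE hk.mor le_rfl hXN (fun x hx => hXN (hk.map_mem hx)) (fun x hx => hk.map_mem hx)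
    exact ((mor_real hM.2.1).1 h1).2.2
  obtain ⟨γ, hγ⟩ := hlift g' hc'.ig
  obtain ⟨η, hη⟩ := hlift h' hc'.ih
  have hgX : ∀ x ∈ X', g' x ∈ X' := fun x hx => hc'.ig.map_mem hx
  have hhX : ∀ x ∈ X', h' x ∈ X' := fun x hx => hc'.ih.map_mem hx
  have hev : ∀ x y, x ∈ X' → y ∈ X' → ev ι (x * y) = ev ι x * ev ι y := fun x y hx hy => ev_mul (hXN hx) (hXN hy)
  have hevi : ∀ x, x ∈ X' → ev ι x⁻¹ = (ev ι x)⁻¹ := fun x hx => ev_inv (hXN hx)
  have hTm : ∀ x ∈ X', ev ι x ∈ (T'.subgroupOf (normalizerIn S X')).map ι → x ∈ T' := by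
    intro x hx h1
    obtain ⟨y, hy, hyx⟩ := (mem_im hTN).1 h1
    rwa [← ev_inj hM.2.1.1 (hTN hy) (hXN hx) hyx]
  haveI : Finite ((T'.subgroupOf (normalizerIn S X')).map ι) := inferInstance
  refine grp_involves hp (U := (U'.subgroupOf (normalizerIn S X')).map ι) (T := (T'.subgroupOf (normalizerIn S X')).map ι)
    (γ := γ) (η := η) (Subgroup.map_mono (fun x hx => hc'.TU hx)) (hemb.syl.isPGroup.to_le im_le_range) ?_ ?_ ?_ ?_ ?_ ?_ ?_ ?_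
  · intro y hy
    obtain ⟨x, hx, rfl⟩ := (mem_im hUN).1 hy
    refine mem_normalizer_of_conj_mem fun z hz => ?_
    obtain ⟨t, ht, rfl⟩ := (mem_im hTN).1 hz
    rw [← ev_conj (hUN hx) (hTN ht)]
    exact (mem_im hTN).2 ⟨_, hc'.nT x hx t ht, rfl⟩
  · intro he
    exact hc'.ne (im_inj hM.2.1.1 hTN hUN he)
  · intro y hy
    obtain ⟨x, hx, rfl⟩ := (mem_im hUN).1 hy
    rw [← hγ x (hUX hx)]
    exact (mem_im hUN).2 ⟨_, hc'.gU x hx, rfl⟩
  · refine mem_normalizer_of_conj_mem fun y hy => ?_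
    obtain ⟨x, hx, rfl⟩ := (mem_im hTN).1 hy
    rw [← hγ x (hTX hx)]
    exact (mem_im hTN).2 ⟨_, hc'.gT x hx, rfl⟩
  · intro y hy
    obtain ⟨x, hx, rfl⟩ := (mem_im hUN).1 hy
    rw [← hη x (hUX hx)]
    exact (mem_im hUN).2 ⟨_, hc'.hU x hx, rfl⟩
  · refine mem_normalizer_of_conj_mem fun y hy => ?_
    obtain ⟨x, hx, rfl⟩ := (mem_im hTN).1 hy
    rw [← hη x (hTX hx)]
    exact (mem_im hTN).2 ⟨_, hc'.hT x hx, rfl⟩
  · intro y hy
    obtain ⟨x, hx, rfl⟩ := (mem_im hUN).1 hy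
    have hxX := hUX hx
    have hcX := X'.mul_mem (X'.inv_mem hxX) (hgX x hxX)
    rw [← hγ x hxX, ← hevi x hxX, ← hev _ _ (X'.inv_mem hxX) (hgX x hxX), ← hγ _ hcX, ← hevi _ hcX, ← hev _ _ (X'.inv_mem hcX) (hgX _ hcX)]
    exact (mem_im hTN).2 ⟨_, hc'.quad x hx, rfl⟩
  · intro y hy
    obtain ⟨x, hx, rfl⟩ := (mem_im hUN).1 hy
    have hxX := hUX hx
    rw [← hγ x hxX, ← hη x hxX, ← hγ _ (hhX x hxX), ← hevi x hxX, ← hevi _ (hhX x hxX), ← hev _ _ (X'.inv_mem hxX) (hgX x hxX),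
      ← hev _ _ (X'.inv_mem (hhX x hxX)) (hgX _ (hhX x hxX))]
    intro h1 h2
    exact (mem_im hTN).2 ⟨x, hc'.nofix x hx (hTm _ (X'.mul_mem (X'.inv_mem hxX) (hgX x hxX)) h1)
      (hTm _ (X'.mul_mem (X'.inv_mem (hhX x hxX)) (hgX _ (hhX x hxX))) h2), rfl⟩

/-- `Qd(p)`-freeness of a group and of its fusion system -/
theorem free_iff {G : Type u} [Group G] [Finite G] (hp : p ≠ 2) (P : Sylow p G) :
    (groupFusionSystem (P : Subgroup G)).IsSectionFree p (qd p) ↔ ¬ Involves (qd p) G := by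
  refine ⟨fun hfree hinv => ?_, fun h => free_group h P⟩
  obtain ⟨K, f, hf⟩ := involves_iff.1 hinv
  obtain ⟨U, T, γ, η, hTU, hU, hn, hne, γU, γT, ηU, ηT, quad, nofix⟩ := cfg_of_surj f hf
  -- conjugate `U` into `P`
  obtain ⟨c, -, hc⟩ := (sylIn_of_sylow P).conj_le (X := U.map K.subtype) le_top (hU.map _)
  have hUP : ∀ u ∈ U, c * (u : G) * c⁻¹ ∈ (P : Subgroup G) := fun u hu => hc _ ⟨u, hu, rfl⟩
  let j : K →* G := (MulAut.conj c).toMonoidHom.comp K.subtype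
  have hj : Function.Injective j := (MulAut.conj c).injective.comp K.subtype_injective
  have hconj : ∀ x y : K, j (x * y * x⁻¹) = j x * j y * (j x)⁻¹ := fun x y => by rw [map_mul, map_mul, map_inv]
  have hjP : U.map j ≤ (P : Subgroup G) := by rintro _ ⟨u, hu, rfl⟩; exact hUP u hu
  haveI : Finite (U.map j) := inferInstance
  have hiso : ∀ ζ : K, (∀ x ∈ U, ζ * x * ζ⁻¹ ∈ U) → Iso (groupFusionSystem (P : Subgroup G)) (U.map j) (U.map j) (fun x => j ζ * x * (j ζ)⁻¹) := by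
    intro ζ hζ
    have h1 : ∀ x ∈ U.map j, j ζ * x * (j ζ)⁻¹ ∈ U.map j := by
      rintro _ ⟨u, hu, rfl⟩
      rw [← hconj]; exact ⟨_, hζ u hu, rfl⟩
    exact (mor_grp.2 ⟨hjP, fun x hx => hjP (h1 x hx), j ζ, fun x _ => rfl⟩).iso_of_map h1
  have hmT : ∀ x : K, j x ∈ T.map j → x ∈ T := by
    rintro x ⟨t, ht, hte⟩
    rwa [← hj hte]
  refine Cf.false (F := groupFusionSystem (P : Subgroup G)) (X := U.map j) (U := U.map j) (T := T.map j) (g := fun x => j γ * x * (j γ)⁻¹)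
    (h := fun x => j η * x * (j η)⁻¹) hp P.2 (saturated_grp P) hfree ?_
  constructor
  · exact le_rfl
  · exact Subgroup.map_mono hTU
  · rintro _ ⟨u, hu, rfl⟩ _ ⟨t, ht, rfl⟩
    rw [← hconj]
    exact ⟨_, (Subgroup.mem_normalizer_iff.1 (hn hu) t).1 ht, rfl⟩
  · intro he
    exact hne (Subgroup.map_injective hj he)
  · exact hiso γ γU
  · exact hiso η ηU
  · rintro _ ⟨u, hu, rfl⟩
    show j γ * j u * (j γ)⁻¹ ∈ _
    rw [← hconj]; exact ⟨_, γU u hu, rfl⟩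
  · rintro _ ⟨u, hu, rfl⟩
    show j η * j u * (j η)⁻¹ ∈ _
    rw [← hconj]; exact ⟨_, ηU u hu, rfl⟩
  · rintro _ ⟨t, ht, rfl⟩
    show j γ * j t * (j γ)⁻¹ ∈ _
    rw [← hconj]; exact ⟨_, (Subgroup.mem_normalizer_iff.1 γT t).1 ht, rfl⟩
  · rintro _ ⟨t, ht, rfl⟩
    show j η * j t * (j η)⁻¹ ∈ _
    rw [← hconj]; exact ⟨_, (Subgroup.mem_normalizer_iff.1 ηT t).1 ht, rfl⟩
  · rintro _ ⟨u, hu, rfl⟩
    refine ⟨_, quad u hu, ?_⟩
    simp only [map_mul, map_inv]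
  · rintro _ ⟨u, hu, rfl⟩ h1 h2
    refine ⟨u, nofix u hu (hmT _ ?_) (hmT _ ?_), rfl⟩
    · simp only [map_mul, map_inv]; exact h1
    · simp only [map_mul, map_inv]; exact h2

end Cfsg.Agent.Lib.QfF
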