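import Cfsg.Agent.Lib.QfF

/-!
Centric-radical subgroups of finite groups, the core of a section-free fusion system.
-/

set_option autoImplicit false
set_option linter.unusedSectionVars false
set_option linter.style.haveILetI false
set_option linter.unusedVariables false

namespace Cfsg.Agent.Lib.QfG

open Cfsg Cfsg.FusionSystem Cfsg.Agent.Lib.FusBase Cfsg.Agent.Lib.FusSat Cfsg.Agent.Lib.StrongEmb
open Cfsg.Agent.Lib.FusAlperin Cfsg.Agent.Lib.FusNormal Cfsg.Agent.Lib.FusNormalB Cfsg.Agent.Lib.SylRel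
open Cfsg.Agent.Lib.FusSub Cfsg.Agent.Lib.FusPuig Cfsg.Agent.Lib.FusNK Cfsg.Agent.Lib.FusNKB Cfsg.Agent.Lib.FusMor Cfsg.Agent.Lib.FusGroup
open Cfsg.Agent.Lib.FusHyp Cfsg.Agent.Lib.FusHypB Cfsg.Agent.Lib.FusInv Cfsg.Agent.Lib.FusInvB Cfsg.Agent.Lib.FusModel
open Cfsg.Agent.Lib.MdlA Cfsg.Agent.Lib.MdlB Cfsg.Agent.Lib.MdlC Cfsg.Agent.Lib.MdlD Cfsg.Agent.Lib.PNilp
open Cfsg.Agent.Lib.NilA Cfsg.Agent.Lib.NilB Cfsg.Agent.Lib.NilC Cfsg.Agent.Lib.NilD Cfsg.Agent.Lib.NilE Cfsg.Agent.Lib.CSecA Cfsg.Agent.Lib.FusSimple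
open Cfsg.Agent.Lib.QfA Cfsg.Agent.Lib.QfB Cfsg.Agent.Lib.QfC Cfsg.Agent.Lib.QfD Cfsg.Agent.Lib.QfE Cfsg.Agent.Lib.QfF Cfsg.Agent.Lib.Involve
open Cfsg.Agent.Lib.QdA Cfsg.Agent.Lib.QdD Cfsg.Agent.Lib.QdE

universe u v w

section fusion
variable {Ω : Type u} [Group Ω] {S : Subgroup Ω} [Finite S] {F : FusionSystem S} {p : ℕ} [Fact p.Prime]

/-- normality in the normalizer system of a normal subgroup -/
theorem norm_normal_iff {Z : Subgroup Ω} (hZ : F.IsNormal Z) {N : FusionSystem (normalizerIn S Z)} (hN : F.IsNormalizerSystem Z N)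
    {R : Subgroup Ω} : N.IsNormal R ↔ F.IsNormal R := by
  have hT : normalizerIn S Z = S := norm_eq (StronglyClosed_normalizer (normal_stronglyClosed hZ))
  have hm : ∀ P f, Mor N P f ↔ Mor F P f := fun P f => mor_of_hom_eq' (norm_hom_eq hZ hN P)
  rw [isNormal_iff, isNormal_iff]
  simp only [hm]
  exact ⟨fun h => ⟨h.1.trans hT.le, h.2⟩, fun h => ⟨h.1.trans hT.ge, h.2⟩⟩
where
  mor_of_hom_eq' {S T : Subgroup Ω} {F : FusionSystem S} {E : FusionSystem T} {P : Subgroup Ω} {f : Ω → Ω} (h : E.Hom P = F.Hom P) :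
      Mor E P f ↔ Mor F P f := by
    unfold Mor
    rw [h]

theorem core_radical (hS : IsPGroup p S) (hF : F.IsSaturated p) (hc : centralizerIn S F.core ≤ F.core) : F.IsRadical p F.core := by
  have hQ := core_normal F
  have hQsc := normal_stronglyClosed hQ
  have hQF : F.IsFullyNormalized F.core := FN_of_norm hQsc.1 (StronglyClosed_normalizer hQsc)
  have hQc : F.IsCentric F.core := centric_of_FC (FN_FC hS hF hQF) hc
  obtain ⟨E, L, _, ι, hE, hM, hn, hemb⟩ := exists_model_norm hS hF hQF hQc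
  refine radical_of_core hS hQsc.1 hQc hE hM hn ?_
  apply le_antisymm
  · refine sSup_le fun R hR => ?_
    exact le_core ((norm_normal_iff hQ hE).1 hR)
  · exact le_core hn

end fusion

section group
variable {G : Type u} [Group G] [Finite G] {p : ℕ} [Fact p.Prime] {P : Sylow p G} {R : Subgroup G}

theorem centric_of_syl (hR : R ≤ (P : Subgroup G)) (h : SylIn p (R ⊓ Subgroup.centralizer (R : Set G)) (Subgroup.centralizer (R : Set G))) :
    (groupFusionSystem (P : Subgroup G)).IsCentric R := by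
  refine ⟨hR, fun R' hcj => ?_⟩
  obtain ⟨-, hR', g, rfl⟩ := isConj_grp.1 hcj
  intro c hc
  rw [mem_centralizerIn] at hc
  -- `g⁻¹ c g` is a `p`-element of `C_G(R)`
  have h1 : g⁻¹ * c * g ∈ Subgroup.centralizer (R : Set G) := by
    rw [Subgroup.mem_centralizer_iff]
    intro x hx
    have h2 := hc.2 (g * x * g⁻¹) ⟨x, hx, rfl⟩
    calc x * (g⁻¹ * c * g) = g⁻¹ * (g * x * g⁻¹ * c) * g := by group
      _ = g⁻¹ * (c * (g * x * g⁻¹)) * g := by rw [h2]
      _ = _ := by group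
  have hz : IsPGroup p (Subgroup.zpowers (g⁻¹ * c * g)) := by
    have h3 : Subgroup.zpowers (g⁻¹ * c * g) ≤ (P : Subgroup G).map (MulAut.conj g⁻¹).toMonoidHom := by
      rw [Subgroup.zpowers_le]
      exact ⟨c, hc.1, by show g⁻¹ * c * g⁻¹⁻¹ = _; rw [inv_inv]⟩
    exact (P.2.map _).to_le h3
  obtain ⟨d, hd, hdx⟩ := h.conj_le (Subgroup.zpowers_le.2 h1) hz
  have h4 := hdx _ (Subgroup.mem_zpowers _)
  -- `R ∩ C(R)` is central in `C(R)`
  have h5 : g⁻¹ * c * g = d * (g⁻¹ * c * g) * d⁻¹ := by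
    have h6 : d⁻¹ * (d * (g⁻¹ * c * g) * d⁻¹) * d = d * (g⁻¹ * c * g) * d⁻¹ := by
      have h7 := Subgroup.mem_centralizer_iff.1 hd _ h4.1
      rw [mul_assoc, h7]; group
    rw [← h6]; group
  rw [← h5] at h4
  refine ⟨_, h4.1, ?_⟩
  show g * (g⁻¹ * c * g) * g⁻¹ = c
  group

theorem syl_of_centric (hc : (groupFusionSystem (P : Subgroup G)).IsCentric R) (hF : (groupFusionSystem (P : Subgroup G)).IsFullyNormalized R) :
    SylIn p (R ⊓ Subgroup.centralizer (R : Set G)) (Subgroup.centralizer (R : Set G)) := by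
  have hN : NSyl p ⊤ (P : Subgroup G) R := by
    rw [grp_eq_sub] at hF
    exact (FN_sub_iff (sylIn_of_sylow P) hF.1).1 hF
  have h1 := hN.centralizer (sylIn_of_sylow P)
  rw [top_inf_eq] at h1
  have h2 : (P : Subgroup G) ⊓ Subgroup.centralizer (R : Set G) = R ⊓ Subgroup.centralizer (R : Set G) := by
    apply le_antisymm
    · intro x hx
      refine ⟨centric_self hc (mem_centralizerIn.2 ⟨hx.1, fun y hy => Subgroup.mem_centralizer_iff.1 hx.2 y hy⟩), hx.2⟩
    · exact inf_le_inf_right _ hc.1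
  rwa [h2] at h1

theorem comap_inn : (Inn R).comap (Subgroup.normalizerMonoidHom R) = (R ⊔ Subgroup.centralizer (R : Set G)).subgroupOf (Subgroup.normalizer (R : Set G)) := by
  ext n
  constructor
  · intro hn
    obtain ⟨r, hr, hrx⟩ := mem_inn.1 (show Subgroup.normalizerMonoidHom R n ∈ Inn R from hn)
    have h1 : r⁻¹ * (n : G) ∈ Subgroup.centralizer (R : Set G) := by
      rw [Subgroup.mem_centralizer_iff]
      intro x hx
      have h2 : (n : G) * x * (n : G)⁻¹ = r * x * r⁻¹ := hrx ⟨x, hx⟩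
      calc x * (r⁻¹ * n) = r⁻¹ * (r * x * r⁻¹) * n := by group
        _ = r⁻¹ * ((n : G) * x * (n : G)⁻¹) * n := by rw [h2]
        _ = _ := by group
    show (n : G) ∈ R ⊔ Subgroup.centralizer (R : Set G)
    have e : (n : G) = r * (r⁻¹ * n) := by group
    rw [e]
    exact mul_mem ((le_sup_left : R ≤ _) hr) ((le_sup_right : Subgroup.centralizer (R : Set G) ≤ _) h1)
  · intro hn
    obtain ⟨r, hr, c, hc, hrc⟩ := (Cfsg.Agent.Lib.Basic.mem_sup_iff_left (cent_le_norm R)).1 (show (n : G) ∈ R ⊔ Subgroup.centralizer (R : Set G) from hn)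
    show Subgroup.normalizerMonoidHom R n ∈ Inn R
    refine mem_inn.2 ⟨r, hr, fun x => ?_⟩
    show (n : G) * x * (n : G)⁻¹ = r * x * r⁻¹
    rw [← hrc]
    have h2 := Subgroup.mem_centralizer_iff.1 hc x x.2
    calc r * c * x * (r * c)⁻¹ = r * (c * x * c⁻¹) * r⁻¹ := by group
      _ = _ := by rw [← h2]; group

theorem autInducedBy_eq : autInducedBy ⊤ R = (Subgroup.normalizerMonoidHom R).range := by
  ext α
  rw [mem_autInducedBy]
  constructor
  · rintro ⟨g, -, hg⟩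
    refine ⟨⟨g, mem_normalizer_of_forall_conj hg⟩, ?_⟩
    exact MulEquiv.ext fun x => Subtype.ext (hg x).symm
  · rintro ⟨n, rfl⟩
    exact ⟨n, Subgroup.mem_top _, fun x => rfl⟩

theorem radical_of_group (hR : R ≤ (P : Subgroup G))
    (h : ∀ X : Subgroup G, X ≤ Subgroup.normalizer (R : Set G) →
        (∀ n ∈ Subgroup.normalizer (R : Set G), X.map (MulAut.conj n).toMonoidHom = X) →
        R ⊔ Subgroup.centralizer (R : Set G) ≤ X → (∃ k : ℕ, (R ⊔ Subgroup.centralizer (R : Set G)).relIndex X = p ^ k) →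
        X = R ⊔ Subgroup.centralizer (R : Set G)) : (groupFusionSystem (P : Subgroup G)).IsRadical p R := by
  have hA : (groupFusionSystem (P : Subgroup G)).autGroup R = (Subgroup.normalizerMonoidHom R).range := by
    rw [autGroup_grp hR, autInducedBy_eq]
  refine ⟨hR, ?_⟩
  generalize (groupFusionSystem (P : Subgroup G)).autGroup R = A at hA
  subst hA
  set O := (pCore p (Subgroup.normalizerMonoidHom R).range).map (Subgroup.normalizerMonoidHom R).range.subtype with hO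
  have hOp : IsPGroup p O := (Cfsg.Agent.Lib.Cores.pCore_isPGroup p).map _
  have hOn := Cfsg.Agent.Lib.Cores.pCore_normal (G := (Subgroup.normalizerMonoidHom R).range) p
  have hRp : IsPGroup p R := P.2.to_le hR
  have hinn : Inn R ≤ O := by
    have h1 : Inn R ≤ (Subgroup.normalizerMonoidHom R).range := by
      intro α hα
      obtain ⟨g, hg, hgx⟩ := mem_inn.1 hα
      exact ⟨⟨g, Subgroup.le_normalizer hg⟩, MulEquiv.ext fun x => Subtype.ext (hgx x).symm⟩
    have h2 : ((Inn R).subgroupOf (Subgroup.normalizerMonoidHom R).range).Normal := inferInstance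
    have h3 : IsPGroup p (Inn R) := by
      rw [inn_eq_autInducedBy]
      exact isPGroup_autInducedBy hRp R
    have h4 := Cfsg.Agent.Lib.Cores.le_pCore h2 (isPGroup_subgroupOf h3)
    intro α hα
    exact ⟨⟨α, h1 hα⟩, h4 hα, rfl⟩
  refine le_antisymm ?_ hinn
  have hRC : R ⊔ Subgroup.centralizer (R : Set G) ≤ Subgroup.normalizer (R : Set G) := sup_le Subgroup.le_normalizer (cent_le_norm R)
  have hRC' : ((Inn R).comap (Subgroup.normalizerMonoidHom R)).map (Subgroup.normalizer (R : Set G)).subtype =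
      R ⊔ Subgroup.centralizer (R : Set G) := by
    rw [comap_inn, Subgroup.map_subgroupOf_eq_of_le hRC]
  have hOc : ∀ n m : Subgroup.normalizer (R : Set G), Subgroup.normalizerMonoidHom R m ∈ O → Subgroup.normalizerMonoidHom R (n * m * n⁻¹) ∈ O := by
    intro n m hm
    obtain ⟨α, hα, hαm⟩ := Subgroup.mem_map.1 hm
    have hβ : ∃ β : (Subgroup.normalizerMonoidHom R).range, (β : MulAut R) = Subgroup.normalizerMonoidHom R n := ⟨⟨_, ⟨n, rfl⟩⟩, rfl⟩
    obtain ⟨β, hβ⟩ := hβ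
    have h5 := hOn.conj_mem α hα β
    refine Subgroup.mem_map.2 ⟨β * α * β⁻¹, h5, ?_⟩
    rw [map_mul, map_mul, map_inv, map_mul, map_mul, map_inv, ← hαm, ← hβ]
    rfl
  have hOr : O ≤ (Subgroup.normalizerMonoidHom R).range := by
    rintro _ ⟨α, -, rfl⟩; exact α.2
  clear hO
  clear_value O
  have hX := h ((O.comap (Subgroup.normalizerMonoidHom R)).map (Subgroup.normalizer (R : Set G)).subtype) (Subgroup.map_subtype_le _) (by
      intro n hn
      have key : ∀ n (hn : n ∈ Subgroup.normalizer (R : Set G)) y, y ∈ (O.comap (Subgroup.normalizerMonoidHom R)).map (Subgroup.normalizer (R : Set G)).subtype →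
          n * y * n⁻¹ ∈ (O.comap (Subgroup.normalizerMonoidHom R)).map (Subgroup.normalizer (R : Set G)).subtype := by
        rintro n hn _ ⟨m, hm, rfl⟩
        exact ⟨⟨n, hn⟩ * m * (⟨n, hn⟩)⁻¹, hOc _ _ hm, rfl⟩
      apply le_antisymm
      · rintro _ ⟨y, hy, rfl⟩; exact key n hn y hy
      · intro y hy
        refine ⟨n⁻¹ * y * n⁻¹⁻¹, key n⁻¹ (Subgroup.inv_mem _ hn) y hy, ?_⟩
        show n * (n⁻¹ * y * n⁻¹⁻¹) * n⁻¹ = y
        group) (by
      rw [← hRC']
      exact Subgroup.map_mono (Subgroup.comap_mono hinn)) (by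
      rw [← hRC', Subgroup.relIndex_map_map_of_injective _ _ (Subgroup.subtype_injective _), Subgroup.relIndex_comap]
      have h1 : (Inn R).relIndex ((O.comap (Subgroup.normalizerMonoidHom R)).map (Subgroup.normalizerMonoidHom R)) ∣
          Nat.card ((O.comap (Subgroup.normalizerMonoidHom R)).map (Subgroup.normalizerMonoidHom R)) := Subgroup.relIndex_dvd_card _ _
      obtain ⟨j, hj⟩ := IsPGroup.iff_card.1 (hOp.to_le (Subgroup.map_comap_le (Subgroup.normalizerMonoidHom R) O))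
      rw [hj] at h1
      obtain ⟨k, -, hk⟩ := (Nat.dvd_prime_pow Fact.out).1 h1
      exact ⟨k, hk⟩)
  rintro α hα
  obtain ⟨m, rfl⟩ := hOr hα
  have hmX : (m : G) ∈ (O.comap (Subgroup.normalizerMonoidHom R)).map (Subgroup.normalizer (R : Set G)).subtype :=
    ⟨m, hα, rfl⟩
  rw [hX, ← hRC'] at hmX
  obtain ⟨m', hm', hmm⟩ := hmX
  rw [← Subtype.ext (a1 := m') (a2 := m) hmm]
  exact hm'

theorem group_of_radical (hr : (groupFusionSystem (P : Subgroup G)).IsRadical p R) {X : Subgroup G}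
    (hXN : X ≤ Subgroup.normalizer (R : Set G)) (hXn : ∀ n ∈ Subgroup.normalizer (R : Set G), X.map (MulAut.conj n).toMonoidHom = X)
    (hle : R ⊔ Subgroup.centralizer (R : Set G) ≤ X) (hk : ∃ k : ℕ, (R ⊔ Subgroup.centralizer (R : Set G)).relIndex X = p ^ k) :
    X = R ⊔ Subgroup.centralizer (R : Set G) := by
  have hR := hr.1
  have hRp : IsPGroup p R := P.2.to_le hR
  have hA : (groupFusionSystem (P : Subgroup G)).autGroup R = (Subgroup.normalizerMonoidHom R).range := by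
    rw [autGroup_grp hR, autInducedBy_eq]
  have hRC : R ⊔ Subgroup.centralizer (R : Set G) ≤ Subgroup.normalizer (R : Set G) := sup_le Subgroup.le_normalizer (cent_le_norm R)
  obtain ⟨k, hk⟩ := hk
  have hrel : (Inn R).relIndex ((X.subgroupOf (Subgroup.normalizer (R : Set G))).map (Subgroup.normalizerMonoidHom R)) = p ^ k := by
    rw [← Subgroup.relIndex_comap, comap_inn, ← hk, ← Subgroup.relIndex_map_map_of_injective _ _ (Subgroup.subtype_injective _),
      Subgroup.map_subgroupOf_eq_of_le hRC, Subgroup.map_subgroupOf_eq_of_le hXN]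
  have hinn : Inn R ≤ (X.subgroupOf (Subgroup.normalizer (R : Set G))).map (Subgroup.normalizerMonoidHom R) := by
    intro α hα
    obtain ⟨g, hg, hgx⟩ := mem_inn.1 hα
    exact ⟨⟨g, Subgroup.le_normalizer hg⟩, hle ((le_sup_left : R ≤ _) hg), MulEquiv.ext fun x => Subtype.ext (hgx x).symm⟩
  have hInnp : IsPGroup p (Inn R) := by
    rw [inn_eq_autInducedBy]
    exact isPGroup_autInducedBy hRp R
  have hKp : IsPGroup p ((X.subgroupOf (Subgroup.normalizer (R : Set G))).map (Subgroup.normalizerMonoidHom R)) := by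
    obtain ⟨j, hj⟩ := IsPGroup.iff_card.1 hInnp
    refine IsPGroup.of_card (n := k + j) ?_
    rw [← SylRel.relIndex_mul_card' hinn, hrel, hj, pow_add]
  have hK := radical_le hr (K := (X.subgroupOf (Subgroup.normalizer (R : Set G))).map (Subgroup.normalizerMonoidHom R)) (by
    rw [hA]; exact Subgroup.map_le_range _ _) hKp (by
    rw [hA]
    rintro _ ⟨n, rfl⟩ _ ⟨m, hm, rfl⟩
    refine ⟨n * m * n⁻¹, ?_, by rw [map_mul, map_mul, map_inv]⟩
    have h1 := hXn n n.2
    show (n : G) * m * (n : G)⁻¹ ∈ X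
    rw [← h1]; exact ⟨m, hm, rfl⟩)
  refine le_antisymm (fun x hx => ?_) hle
  have h2 : Subgroup.normalizerMonoidHom R ⟨x, hXN hx⟩ ∈ Inn R := hK ⟨_, hx, rfl⟩
  have h3 : (⟨x, hXN hx⟩ : Subgroup.normalizer (R : Set G)) ∈ (Inn R).comap (Subgroup.normalizerMonoidHom R) := h2
  rw [comap_inn] at h3
  exact h3

/-- the configuration coming from a section `Qd(p)` -/
theorem cfg_base {X : Type u} [Group X] [Finite X] (f : X →* qd p) (hf : Function.Surjective f) :
    ∃ U : Subgroup X, IsPGroup p U ∧ (∀ x ∈ U, f x ∈ V p) ∧ (∃ u ∈ U, f u ≠ 1) ∧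
      ∀ s : Matrix.SpecialLinearGroup (Fin 2) (ZMod p), ∃ γ : X, (∀ x ∈ U, γ * x * γ⁻¹ ∈ U) ∧ lin (f γ) = s := by
  obtain ⟨T, hT, -⟩ := exists_sylIn (p := p) (X := (⊥ : Subgroup X)) (H := f.ker) bot_le IsPGroup.of_bot
  have hTk : T ≤ f.ker := hT.le
  obtain ⟨U, hU, hTU⟩ := exists_sylIn (p := p) (X := T) (H := Subgroup.normalizer (T : Set X) ⊓ (V p).comap f)
    (le_inf Subgroup.le_normalizer fun x hx => by
      show f x ∈ V p
      rw [show f x = 1 from hTk hx]; exact one_mem _) hT.isPGroup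
  have hUN : U ≤ Subgroup.normalizer (T : Set X) := hU.le.trans inf_le_left
  have hUV : ∀ x ∈ U, f x ∈ V p := fun x hx => (hU.le hx).2
  -- `U ∩ ker f = T`
  have hUk : ∀ x ∈ U, f x = 1 → x ∈ T := by
    have h1 : T ≤ U ⊓ f.ker := le_inf hTU hTk
    have h2 : Nat.card (U ⊓ f.ker : Subgroup X) ≤ Nat.card T := hT.card_le inf_le_right (hU.isPGroup.to_le inf_le_left)
    have h3 := Subgroup.eq_of_le_of_card_ge h1 h2
    intro x hx hfx
    rw [h3]; exact ⟨hx, hfx⟩
  -- translations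
  have htr : ∀ a b a' b' : ZMod p, tran (p := p) a b = tran a' b' → a = a' ∧ b = b' := fun a b a' b' h => (A0 p).inj' h
  have hneg : ∀ a b : ZMod p, (tran a b)⁻¹ = tran (p := p) (-a) (-b) := fun a b => (A0 p).neg a b
  have hadd : ∀ a b a' b' : ZMod p, tran (a + a') (b + b') = tran (p := p) a b * tran a' b' := (A0 p).add
  have hzero : tran (p := p) 0 0 = 1 := (A0 p).zero
  -- `T ≠ U`
  have hne : T ≠ U := by
    intro hTU'
    obtain ⟨d, hd⟩ := hf (tran 1 0)
    obtain ⟨e, he, heN⟩ := hT.frattini (Δ := f.ker) (g := d) (fun x hx => (f.normal_ker).conj_mem x hx d)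
    have hedN : e * d ∈ Subgroup.normalizer (T : Set X) := mem_normalizer_of_conj_mem heN
    have hfed : f (e * d) = tran 1 0 := by rw [map_mul, show f e = 1 from he, one_mul, hd]
    obtain ⟨m, n, h1, ⟨a, h2⟩, h3⟩ := Cfsg.Agent.Lib.PPart.decomp p (e * d)
    have hV10 : tran (p := p) 1 0 ∈ V p := ⟨1, 0, rfl⟩
    have hp1 : f ((e * d) ^ n) = 1 := by
      obtain ⟨k, hk⟩ := (A0 p).V_pgroup ⟨f ((e * d) ^ n), by
        rw [map_pow, hfed]; exact Subgroup.pow_mem _ hV10 n⟩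
      have hk' : (f ((e * d) ^ n)) ^ p ^ k = 1 := congrArg Subtype.val hk
      exact Cfsg.Agent.Lib.PPart.eq_one_of (orderOf_dvd_of_pow_eq_one hk') (Nat.Coprime.coprime_dvd_left (orderOf_map_dvd f _) h3)
    have hp2 : f ((e * d) ^ m) = tran 1 0 := by
      rw [← hfed]; conv_rhs => rw [h1]
      rw [map_mul, hp1, mul_one]
    have hmem : (e * d) ^ m ∈ Subgroup.normalizer (T : Set X) ⊓ (V p).comap f :=
      ⟨Subgroup.pow_mem _ hedN m, by show f _ ∈ V p; rw [hp2]; exact hV10⟩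
    obtain ⟨g, hg, hgx⟩ := hU.conj_le (X := Subgroup.zpowers ((e * d) ^ m)) (Subgroup.zpowers_le.2 hmem) (by
      intro x
      refine ⟨a, ?_⟩
      obtain ⟨j, hj⟩ := Subgroup.mem_zpowers_iff.1 x.2
      refine Subtype.ext ?_
      show (x : X) ^ p ^ a = 1
      rw [← hj, ← zpow_natCast, zpow_comm, zpow_natCast, orderOf_dvd_iff_pow_eq_one.1 h2, one_zpow])
    have h4 := hgx _ (Subgroup.mem_zpowers _)
    rw [← hTU', ← Subgroup.mem_normalizer_iff.1 hg.1] at h4
    have h5 : f ((e * d) ^ m) = 1 := hTk h4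
    rw [hp2, ← hzero] at h5
    exact one_ne_zero (htr _ _ _ _ h5).1
  -- elements normalizing `U` and `T`
  have hex : ∀ s : Matrix.SpecialLinearGroup (Fin 2) (ZMod p), ∃ γ : X, (∀ x ∈ U, γ * x * γ⁻¹ ∈ U) ∧ γ ∈ Subgroup.normalizer (T : Set X) ∧ lin (f γ) = s := by
    intro s
    obtain ⟨q, rfl⟩ := lin_surj (p := p) s
    obtain ⟨d, rfl⟩ := hf q
    obtain ⟨e, he, heN⟩ := hT.frattini (Δ := f.ker) (g := d) (fun x hx => (f.normal_ker).conj_mem x hx d)
    have hedN : e * d ∈ Subgroup.normalizer (T : Set X) := mem_normalizer_of_conj_mem heN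
    have hfed : f (e * d) = f d := by rw [map_mul, show f e = 1 from he, one_mul]
    obtain ⟨c, hc, hcN⟩ := hU.frattini (g := e * d) (fun x hx => ⟨Subgroup.mul_mem _ (Subgroup.mul_mem _ hedN hx.1) (Subgroup.inv_mem _ hedN), by
      show f (e * d * x * (e * d)⁻¹) ∈ V p
      rw [map_mul, map_mul, map_inv]
      exact V_normal.conj_mem _ hx.2 _⟩)
    refine ⟨c * (e * d), hcN, mul_mem hc.1 hedN, ?_⟩
    have h1 : lin (f c) = 1 := by
      have : f c ∈ (lin (p := p)).ker := by rw [ker_lin]; exact hc.2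
      exact this
    rw [map_mul, map_mul, h1, one_mul, hfed]
  refine ⟨U, hU.isPGroup, hUV, ?_, fun s => ?_⟩
  · by_contra hcon
    push Not at hcon
    exact hne (le_antisymm hTU fun x hx => hUk x hx (hcon x hx))
  · obtain ⟨γ, h1, -, h3⟩ := hex s
    exact ⟨γ, h1, h3⟩

theorem lin_eq_one {X : Type u} [Group X] [Finite X] (f : X →* qd p) {U : Subgroup X} (hV : ∀ x ∈ U, f x ∈ V p) (hne : ∃ u ∈ U, f u ≠ 1)
    (hex : ∀ s : Matrix.SpecialLinearGroup (Fin 2) (ZMod p), ∃ γ : X, (∀ x ∈ U, γ * x * γ⁻¹ ∈ U) ∧ lin (f γ) = s)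
    {x : X} (hx : ∀ u ∈ U, x * u * x⁻¹ = u) : lin (f x) = 1 := by
  have htr : ∀ a b a' b' : ZMod p, tran (p := p) a b = tran a' b' → a = a' ∧ b = b' := fun a b a' b' h => (A0 p).inj' h
  have hneg : ∀ a b : ZMod p, (tran a b)⁻¹ = tran (p := p) (-a) (-b) := fun a b => (A0 p).neg a b
  have hadd : ∀ a b a' b' : ZMod p, tran (a + a') (b + b') = tran (p := p) a b * tran a' b' := (A0 p).add
  have hzero : tran (p := p) 0 0 = 1 := (A0 p).zero
  obtain ⟨γ, γU, γl⟩ := hex (SL2.t 1)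
  obtain ⟨η, ηU, ηl⟩ := hex (SL2.s 1)
  have hγa : ∀ a b, f γ * tran a b * (f γ)⁻¹ = tran (a + b) b := by
    intro a b
    rw [tran_act, γl]
    simp [Cfsg.Agent.Lib.DickB.ga, Cfsg.Agent.Lib.DickB.gb, Cfsg.Agent.Lib.DickB.gc, Cfsg.Agent.Lib.DickB.gd]
  have hηa : ∀ a b, f η * tran a b * (f η)⁻¹ = tran a (a + b) := by
    intro a b
    rw [tran_act, ηl]
    simp [Cfsg.Agent.Lib.DickB.ga, Cfsg.Agent.Lib.DickB.gb, Cfsg.Agent.Lib.DickB.gc, Cfsg.Agent.Lib.DickB.gd]
  -- the set of translations in the image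
  let I : ZMod p → ZMod p → Prop := fun a b => ∃ u ∈ U, f u = tran a b
  have hsub : ∀ a b a' b', I a b → I a' b' → I (a - a') (b - b') := by
    rintro a b a' b' ⟨u, hu, hfu⟩ ⟨v, hv, hfv⟩
    refine ⟨u * v⁻¹, U.mul_mem hu (U.inv_mem hv), ?_⟩
    rw [map_mul, map_inv, hfu, hfv, hneg, ← hadd]
    congr 1 <;> ring
  have hIγ : ∀ a b, I a b → I (a + b) b := by
    rintro a b ⟨u, hu, hfu⟩
    exact ⟨_, γU u hu, by rw [map_mul, map_mul, map_inv, hfu, hγa]⟩
  have hIη : ∀ a b, I a b → I a (a + b) := by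
    rintro a b ⟨u, hu, hfu⟩
    exact ⟨_, ηU u hu, by rw [map_mul, map_mul, map_inv, hfu, hηa]⟩
  obtain ⟨u, hu, hu1⟩ := hne
  obtain ⟨a, b, hab⟩ := hV u hu
  have hab' : f u = tran a b := hab
  have hI : I a b := ⟨u, hu, hab'⟩
  -- a nonzero scalar `c` with `(c, 0)` and `(0, c)` in the image
  have hc : ∃ c : ZMod p, c ≠ 0 ∧ I c 0 ∧ I 0 c := by
    have h1 : I b 0 := by
      have := hsub _ _ _ _ (hIγ a b hI) hI
      rwa [add_sub_cancel_left, sub_self] at this
    have h2 : I 0 a := by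
      have := hsub _ _ _ _ (hIη a b hI) hI
      rwa [sub_self, add_sub_cancel_right] at this
    by_cases hb : b = 0
    · have ha : a ≠ 0 := by
        intro ha
        apply hu1
        rw [hab', ha, hb, hzero]
      refine ⟨a, ha, ?_, h2⟩
      have := hsub _ _ _ _ (hIγ 0 a h2) h2
      rwa [zero_add, sub_zero, sub_self] at this
    · refine ⟨b, hb, h1, ?_⟩
      have := hsub _ _ _ _ (hIη b 0 h1) h1
      rwa [add_zero, sub_zero, sub_self] at this
  obtain ⟨c, hc0, ⟨u₁, hu₁, hf₁⟩, ⟨u₂, hu₂, hf₂⟩⟩ := hc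
  have e1 : f x * tran c 0 * (f x)⁻¹ = tran c 0 := by
    rw [← hf₁, ← map_mul, ← map_inv, ← map_mul, hx u₁ hu₁]
  have e2 : f x * tran 0 c * (f x)⁻¹ = tran 0 c := by
    rw [← hf₂, ← map_mul, ← map_inv, ← map_mul, hx u₂ hu₂]
  rw [tran_act] at e1 e2
  obtain ⟨h1, h2⟩ := htr _ _ _ _ e1
  obtain ⟨h3, h4⟩ := htr _ _ _ _ e2
  rw [mul_zero, add_zero] at h1 h2
  rw [mul_zero, zero_add] at h3 h4
  have g1 := mul_right_cancel₀ hc0 (h1.trans (one_mul c).symm)
  have g2 := (mul_eq_zero.1 h2).resolve_right hc0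
  have g3 := (mul_eq_zero.1 h3).resolve_right hc0
  have g4 := mul_right_cancel₀ hc0 (h4.trans (one_mul c).symm)
  refine Subtype.ext ?_
  ext i j
  fin_cases i <;> fin_cases j
  · exact g1
  · exact g3
  · exact g2
  · exact g4

/-- if no section `SL₂(p)` occurs in the automizers then `Qd(p)` is not involved -/
theorem free_of_no_section (hfree : ∀ Q : Subgroup G, IsPGroup p Q → ¬ ∃ (H K : Subgroup G) (_ : (K.subgroupOf H).Normal),
      Subgroup.centralizer (Q : Set G) ≤ K ∧ K ≤ H ∧ H ≤ Subgroup.normalizer (Q : Set G) ∧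
      Nonempty ((↥H ⧸ K.subgroupOf H) ≃* Matrix.SpecialLinearGroup (Fin 2) (ZMod p))) : ¬ Involves (qd p) G := by
  classical
  intro hinv
  obtain ⟨K₀, f, hf⟩ := involves_iff.1 hinv
  obtain ⟨U, hU, hV, hne, hex⟩ := cfg_base f hf
  have hwd : ∀ x : K₀, (x : G) ∈ Subgroup.centralizer ((U.map K₀.subtype : Subgroup G) : Set G) → lin (f x) = 1 := by
    intro x hx
    refine lin_eq_one f hV hne hex fun u hu => Subtype.ext ?_
    have := Subgroup.mem_centralizer_iff.1 hx u ⟨u, hu, rfl⟩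
    show (x : G) * u * (x : G)⁻¹ = u
    rw [← this]; group
  have hNU : (Subgroup.normalizer (U : Set K₀)).map K₀.subtype ≤ Subgroup.normalizer ((U.map K₀.subtype : Subgroup G) : Set G) := by
    rintro _ ⟨x, hx, rfl⟩
    refine mem_normalizer_of_conj_mem ?_
    rintro _ ⟨u, hu, rfl⟩
    exact ⟨_, (Subgroup.mem_normalizer_iff.1 hx u).1 hu, rfl⟩
  have hNC := hNU.trans (norm_norm_cent (U.map K₀.subtype))
  generalize hCdef : Subgroup.centralizer ((U.map K₀.subtype : Subgroup G) : Set G) = C at hwd hNC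
  have hrep : ∀ g ∈ C ⊔ (Subgroup.normalizer (U : Set K₀)).map K₀.subtype, ∃ x : K₀, x ∈ Subgroup.normalizer (U : Set K₀) ∧ g * (x : G)⁻¹ ∈ C := by
    intro g hg
    obtain ⟨c, hc, _, ⟨x, hx, rfl⟩, rfl⟩ := (Cfsg.Agent.Lib.Basic.mem_sup_iff_left hNC).1 hg
    exact ⟨x, hx, by rw [show c * K₀.subtype x * (x : G)⁻¹ = c by show c * (x : G) * (x : G)⁻¹ = c; group]; exact hc⟩
  have hwd2 : ∀ (g : G) (x y : K₀), g * (x : G)⁻¹ ∈ C → g * (y : G)⁻¹ ∈ C → lin (f x) = lin (f y) := by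
    intro g x y h1 h2
    have h3 : ((x * y⁻¹ : K₀) : G) ∈ C := by
      have := C.mul_mem (C.inv_mem h1) h2
      rwa [show (g * (x : G)⁻¹)⁻¹ * (g * (y : G)⁻¹) = ((x * y⁻¹ : K₀) : G) by
        show _ = (x : G) * (y : G)⁻¹
        group] at this
    have h4 := hwd _ h3
    rwa [map_mul, map_mul, map_inv, map_inv, mul_inv_eq_one] at h4
  choose! r hr hrC using hrep
  let ρ : (C ⊔ (Subgroup.normalizer (U : Set K₀)).map K₀.subtype : Subgroup G) →* Matrix.SpecialLinearGroup (Fin 2) (ZMod p) :=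
    MonoidHom.mk' (fun g => lin (f (r g))) (by
      intro a b
      rw [← map_mul, ← map_mul]
      refine hwd2 ((a * b : (C ⊔ (Subgroup.normalizer (U : Set K₀)).map K₀.subtype : Subgroup G)) : G) _ _ (hrC _ (a * b).2) ?_
      have h1 := hrC _ a.2
      have h2 := hrC _ b.2
      have h3 := (Subgroup.mem_normalizer_iff.1 (hNC ⟨_, hr _ a.2, rfl⟩) _).1 h2
      have h4 := C.mul_mem h1 h3
      convert h4 using 1
      show (a : G) * b * (((r a : K₀) : G) * (r b : K₀))⁻¹ = (a : G) * ((r a : K₀) : G)⁻¹ * (((r a : K₀) : G) * (b * ((r b : K₀) : G)⁻¹) * ((r a : K₀) : G)⁻¹)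
      group)
  have hρ : Function.Surjective ρ := by
    intro s
    obtain ⟨γ, hγ, hl⟩ := hex s
    have hγN : γ ∈ Subgroup.normalizer (U : Set K₀) := mem_normalizer_of_conj_mem hγ
    refine ⟨⟨γ, (le_sup_right : _ ≤ C ⊔ _) ⟨γ, hγN, rfl⟩⟩, ?_⟩
    rw [← hl]
    refine hwd2 γ _ _ (hrC _ ((le_sup_right : _ ≤ C ⊔ _) ⟨γ, hγN, rfl⟩)) ?_
    rw [mul_inv_cancel]; exact C.one_mem
  have hker : (ρ.ker.map (C ⊔ (Subgroup.normalizer (U : Set K₀)).map K₀.subtype).subtype).subgroupOf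
      (C ⊔ (Subgroup.normalizer (U : Set K₀)).map K₀.subtype) = ρ.ker :=
    Subgroup.comap_map_eq_self_of_injective (Subgroup.subtype_injective _) _
  have hkn : ((ρ.ker.map (C ⊔ (Subgroup.normalizer (U : Set K₀)).map K₀.subtype).subtype).subgroupOf
      (C ⊔ (Subgroup.normalizer (U : Set K₀)).map K₀.subtype)).Normal := by rw [hker]; exact ρ.normal_ker
  refine hfree (U.map K₀.subtype) (hU.map _) ⟨C ⊔ (Subgroup.normalizer (U : Set K₀)).map K₀.subtype,
    ρ.ker.map (C ⊔ (Subgroup.normalizer (U : Set K₀)).map K₀.subtype).subtype, hkn, ?_, ?_, ?_, ?_⟩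
  · rw [hCdef]
    intro c hc
    refine ⟨⟨c, (le_sup_left : C ≤ _) hc⟩, ?_, rfl⟩
    show lin (f (r c)) = 1
    have h1 : lin (f (r c)) = lin (f 1) := hwd2 c _ _ (hrC _ ((le_sup_left : C ≤ _) hc)) (by simpa using hc)
    rw [h1, map_one, map_one]
  · exact Subgroup.map_subtype_le _
  · refine sup_le ?_ hNU
    rw [← hCdef]; exact cent_le_norm _
  · exact ⟨(QuotientGroup.quotientMulEquivOfEq hker).trans (QuotientGroup.quotientKerEquivOfSurjective ρ hρ)⟩

theorem syl_iff {Q : Subgroup G} : (∃ R : Sylow p ↥(Subgroup.centralizer (Q : Set G)),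
        (R : Subgroup ↥(Subgroup.centralizer (Q : Set G))).map (Subgroup.centralizer (Q : Set G)).subtype = Q ⊓ Subgroup.centralizer (Q : Set G)) ↔
    SylIn p (Q ⊓ Subgroup.centralizer (Q : Set G)) (Subgroup.centralizer (Q : Set G)) := by
  rw [sylIn_iff inf_le_right]
  constructor
  · rintro ⟨R, hR⟩
    refine ⟨R, ?_⟩
    rw [← hR]
    exact (Subgroup.comap_map_eq_self_of_injective (Subgroup.subtype_injective _) _).symm
  · rintro ⟨R, hR⟩
    exact ⟨R, by rw [hR, Subgroup.map_subgroupOf_eq_of_le inf_le_right]⟩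

/-- the smallest centric-radical subgroup -/
theorem exists_min_cr (hp : p ≠ 2) (P : Sylow p G)
    (hfree : ∀ Q : Subgroup G, IsPGroup p ↥Q → ¬ ∃ (H K : Subgroup G) (_ : (K.subgroupOf H).Normal),
      Subgroup.centralizer (Q : Set G) ≤ K ∧ K ≤ H ∧ H ≤ Subgroup.normalizer (Q : Set G) ∧
      Nonempty ((↥H ⧸ K.subgroupOf H) ≃* Matrix.SpecialLinearGroup (Fin 2) (ZMod p)))
    (cr : Subgroup G → Prop)
    (hcr : ∀ Q : Subgroup G, cr Q ↔ (Q ≤ (P : Subgroup G) ∧
      (∃ R : Sylow p ↥(Subgroup.centralizer (Q : Set G)),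
        (R : Subgroup ↥(Subgroup.centralizer (Q : Set G))).map (Subgroup.centralizer (Q : Set G)).subtype = Q ⊓ Subgroup.centralizer (Q : Set G)) ∧
      ∀ X : Subgroup G, X ≤ Subgroup.normalizer (Q : Set G) →
        (∀ n ∈ Subgroup.normalizer (Q : Set G), X.map (MulAut.conj n).toMonoidHom = X) →
        Q ⊔ Subgroup.centralizer (Q : Set G) ≤ X → (∃ k : ℕ, (Q ⊔ Subgroup.centralizer (Q : Set G)).relIndex X = p ^ k) →
        X = Q ⊔ Subgroup.centralizer (Q : Set G))) :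
    ∃ Q : Subgroup G, cr Q ∧ (∀ R : Subgroup G, cr R → Q ≤ R) ∧ (∀ x ∈ (P : Subgroup G), Q.map (MulAut.conj x).toMonoidHom = Q) ∧
      ∀ A : Subgroup G, A ≤ (P : Subgroup G) → ∀ g : G, A.map (MulAut.conj g).toMonoidHom ≤ (P : Subgroup G) →
        ∃ h ∈ Subgroup.normalizer (Q : Set G), ∃ c ∈ Subgroup.centralizer (A : Set G), g = h * c := by
  have hP : IsPGroup p (P : Subgroup G) := P.2
  have hF := saturated_grp P
  have hff := free_group (free_of_no_section hfree) P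
  have hc := core_centric hp hP hF hff
  have hrad := core_radical hP hF hc
  have hQ := core_normal (groupFusionSystem (P : Subgroup G))
  have hQsc := normal_stronglyClosed hQ
  have hQF := FN_of_norm (F := groupFusionSystem (P : Subgroup G)) hQsc.1 (StronglyClosed_normalizer hQsc)
  have hQc := centric_of_FC (FN_FC hP hF hQF) hc
  refine ⟨(groupFusionSystem (P : Subgroup G)).core, ?_, fun R hR => ?_, fun x hx => ?_, fun A hA g hg => ?_⟩
  · rw [hcr, syl_iff]
    exact ⟨hQsc.1, syl_of_centric hQc hQF, fun X h1 h2 h3 h4 => group_of_radical hrad h1 h2 h3 h4⟩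
  · rw [hcr, syl_iff] at hR
    exact normal_le_centric_radical hP hQ (centric_of_syl hR.1 hR.2.1) (radical_of_group hR.1 hR.2.2)
  · exact Cfsg.Agent.Lib.ZJ.map_conj_eq_of_mem (StronglyClosed_normalizer hQsc hx)
  · have hm : Mor (groupFusionSystem (P : Subgroup G)) A (fun x => g * x * g⁻¹) :=
      mor_grp.2 ⟨hA, fun x hx => hg ⟨x, hx, rfl⟩, g, fun x _ => rfl⟩
    obtain ⟨-, hex⟩ := isNormal_iff.1 hQ
    obtain ⟨k, hk, hkg, hkQ⟩ := hex A _ hm
    obtain ⟨-, -, h, hh⟩ := mor_grp.1 hk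
    refine ⟨h, mem_normalizer_of_conj_mem fun x hx => ?_, h⁻¹ * g, ?_, by group⟩
    · rw [← hh x ((le_sup_right : _ ≤ A ⊔ _) hx)]
      rw [← hkQ]; exact mem_img_of_mem hx
    · rw [Subgroup.mem_centralizer_iff]
      intro x hx
      have h1 : g * x * g⁻¹ = h * x * h⁻¹ := by rw [← hh x ((le_sup_left : A ≤ _) hx), hkg x hx]
      calc x * (h⁻¹ * g) = h⁻¹ * (h * x * h⁻¹) * g := by group
        _ = h⁻¹ * (g * x * g⁻¹) * g := by rw [h1]
        _ = _ := by group

end group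

end Cfsg.Agent.Lib.QfG
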