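import Mathlib
import Cfsg.Agent.Lib.AltO

/-! Spectra. -/

set_option linter.all false
set_option maxHeartbeats 400000

namespace Cfsg.Agent.Lib.Spc

/-- all multisets with parts in `[2, m+1]` and sum at most `r` -/
def allP : ℕ → ℕ → List (List ℕ)
  | 0, _ => [[]]
  | m + 1, r => (List.range (r + 1)).flatMap (fun c => if c * (m + 2) ≤ r then (allP m (r - c * (m + 2))).map (fun l => List.replicate c (m + 2) ++ l) else [])

theorem allP_complete (m : ℕ) : ∀ (r : ℕ) (s : Multiset ℕ), (∀ a ∈ s, 2 ≤ a ∧ a ≤ m + 1) → s.sum ≤ r → ∃ l ∈ allP m r, (l : Multiset ℕ) = s := by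
  induction m with
  | zero =>
    intro r s hs _
    refine ⟨[], List.mem_singleton.mpr rfl, ?_⟩
    symm
    rw [Multiset.coe_nil, Multiset.eq_zero_iff_forall_notMem]
    intro a ha
    have := hs a ha
    omega
  | succ m ih =>
    intro r s hs hsum
    have hdec : s = Multiset.replicate (s.count (m + 2)) (m + 2) + s.filter (fun a => a ≠ m + 2) := by
      have h1 := Multiset.filter_add_not (fun a => a = m + 2) s
      have h2 : s.filter (fun a => a = m + 2) = Multiset.replicate (s.count (m + 2)) (m + 2) := Multiset.filter_eq' s (m + 2)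
      rw [h2] at h1
      exact h1.symm
    set c := s.count (m + 2)
    have h3 : s.sum = c * (m + 2) + (s.filter (fun a => a ≠ m + 2)).sum := by
      conv_lhs => rw [hdec]
      rw [Multiset.sum_add, Multiset.sum_replicate, smul_eq_mul]
    have h4 : c * (m + 2) ≤ r := by omega
    obtain ⟨l, hl, hls⟩ := ih (r - c * (m + 2)) (s.filter (fun a => a ≠ m + 2)) (by
      intro a ha
      rw [Multiset.mem_filter] at ha
      have := hs a ha.1
      omega) (by omega)
    refine ⟨List.replicate c (m + 2) ++ l, ?_, ?_⟩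
    · rw [allP, List.mem_flatMap]
      refine ⟨c, List.mem_range.mpr ?_, ?_⟩
      · have : c ≤ c * (m + 2) := Nat.le_mul_of_pos_right c (by omega)
        omega
      · rw [if_pos h4]
        exact List.mem_map.mpr ⟨l, hl, rfl⟩
    · rw [← Multiset.coe_add, hls, Multiset.coe_replicate]
      exact hdec.symm

theorem chk10 : ∀ l ∈ allP 9 10, (l.sum + l.length) % 2 = 0 → l.foldr Nat.lcm 1 ∈ [1, 2, 3, 4, 5, 6, 7, 8, 9, 10, 12, 15, 21] := by
  decide +kernel

theorem lcm_list (l : List ℕ) : (l : Multiset ℕ).lcm = l.foldr Nat.lcm 1 := by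
  induction l with
  | nil => rfl
  | cons a l ih =>
    rw [← Multiset.cons_coe, Multiset.lcm_cons, ih]
    rfl

theorem mem_range {n : ℕ} (m : Multiset ℕ) (hm : m.sum ≤ n) (h2 : ∀ a ∈ m, 2 ≤ a) (he : (m.sum + Multiset.card m) % 2 = 0) {k : ℕ} (hk : m.lcm = k) :
    k ∈ Set.range (orderOf : alternatingGroup (Fin n) → ℕ) := by
  obtain ⟨σ, hσ⟩ := AltO.exists_alt m hm h2 (Nat.even_iff.mpr he)
  exact ⟨σ, hσ.trans hk⟩

theorem s2477 : Set.range (orderOf : alternatingGroup (Fin 10) → ℕ) = {1, 2, 3, 4, 5, 6, 7, 8, 9, 10, 12, 15, 21} := by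
  ext k
  constructor
  · rintro ⟨σ, rfl⟩
    obtain ⟨l, hl, hls⟩ := allP_complete 9 10 (σ : Equiv.Perm (Fin 10)).cycleType (fun a ha => ⟨Equiv.Perm.two_le_of_mem_cycleType ha, by
      have h1 := Multiset.le_sum_of_mem ha
      have h2 := AltO.sum_le (σ : Equiv.Perm (Fin 10))
      omega⟩) (AltO.sum_le _)
    have hsgn := Equiv.Perm.mem_alternatingGroup.mp σ.2
    rw [Equiv.Perm.sign_of_cycleType, ← hls] at hsgn
    have hpar : (l.sum + l.length) % 2 = 0 := by
      rw [Multiset.sum_coe, Multiset.coe_card] at hsgn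
      rcases Nat.mod_two_eq_zero_or_one (l.sum + l.length) with h | h
      · exact h
      · exfalso
        rw [(Nat.odd_iff.mpr h).neg_one_pow] at hsgn
        exact absurd hsgn (by decide)
    have h1 := chk10 l hl hpar
    have h2 : orderOf σ = l.foldr Nat.lcm 1 := by
      rw [← Subgroup.orderOf_coe, ← Equiv.Perm.lcm_cycleType, ← hls, lcm_list]
    rw [h2]
    simpa using h1
  · intro hk
    simp only [Set.mem_insert_iff, Set.mem_singleton_iff] at hk
    rcases hk with rfl | rfl | rfl | rfl | rfl | rfl | rfl | rfl | rfl | rfl | rfl | rfl | rfl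
    · exact mem_range (([] : List ℕ) : Multiset ℕ) (by decide) (by decide) (by decide) (by rw [lcm_list]; decide)
    · exact mem_range (([2, 2] : List ℕ) : Multiset ℕ) (by decide) (by decide) (by decide) (by rw [lcm_list]; decide)
    · exact mem_range (([3] : List ℕ) : Multiset ℕ) (by decide) (by decide) (by decide) (by rw [lcm_list]; decide)
    · exact mem_range (([4, 2] : List ℕ) : Multiset ℕ) (by decide) (by decide) (by decide) (by rw [lcm_list]; decide)
    · exact mem_range (([5] : List ℕ) : Multiset ℕ) (by decide) (by decide) (by decide) (by rw [lcm_list]; decide)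
    · exact mem_range (([3, 2, 2] : List ℕ) : Multiset ℕ) (by decide) (by decide) (by decide) (by rw [lcm_list]; decide)
    · exact mem_range (([7] : List ℕ) : Multiset ℕ) (by decide) (by decide) (by decide) (by rw [lcm_list]; decide)
    · exact mem_range (([8, 2] : List ℕ) : Multiset ℕ) (by decide) (by decide) (by decide) (by rw [lcm_list]; decide)
    · exact mem_range (([9] : List ℕ) : Multiset ℕ) (by decide) (by decide) (by decide) (by rw [lcm_list]; decide)
    · exact mem_range (([5, 2, 2] : List ℕ) : Multiset ℕ) (by decide) (by decide) (by decide) (by rw [lcm_list]; decide)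
    · exact mem_range (([4, 3, 2] : List ℕ) : Multiset ℕ) (by decide) (by decide) (by decide) (by rw [lcm_list]; decide)
    · exact mem_range (([5, 3] : List ℕ) : Multiset ℕ) (by decide) (by decide) (by decide) (by rw [lcm_list]; decide)
    · exact mem_range (([7, 3] : List ℕ) : Multiset ℕ) (by decide) (by decide) (by decide) (by rw [lcm_list]; decide)

end Cfsg.Agent.Lib.Spc
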