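import Cfsg.Prelude.Def_Sporadic_a
import Mathlib.Combinatorics.Enumerative.DoubleCounting

/-!
Counting in Steiner systems.
-/

set_option autoImplicit false

namespace Cfsg.Agent.Lib.Steiner

open Cfsg Finset

variable {α : Type*} [Fintype α] [DecidableEq α]

/-- the blocks as a finset -/
noncomputable def blk (B : Set (Finset α)) : Finset (Finset α) := (Set.toFinite B).toFinset

theorem mem_blk {B : Set (Finset α)} {b : Finset α} : b ∈ blk B ↔ b ∈ B := by simp [blk]

theorem card_blk (B : Set (Finset α)) : (blk B).card = B.ncard := by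
  rw [blk, ← Set.ncard_eq_toFinset_card]

/-- number of `t`-sets between `P` and `b` -/
theorem card_between {P b : Finset α} (hP : P ⊆ b) {t : ℕ} (ht : P.card ≤ t) :
    (b.powerset.filter (fun s => s.card = t ∧ P ⊆ s)).card = (b.card - P.card).choose (t - P.card) := by
  rw [← Finset.card_sdiff_of_subset hP, ← Finset.card_powersetCard]
  apply Finset.card_bij' (fun s _ => s \ P) (fun s _ => s ∪ P)
  · intro s hs
    rw [mem_filter, mem_powerset] at hs
    rw [mem_powersetCard]
    exact ⟨Finset.sdiff_subset_sdiff hs.1 (Finset.Subset.refl P),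
      by rw [Finset.card_sdiff_of_subset hs.2.2, hs.2.1]⟩
  · intro s hs
    rw [mem_powersetCard] at hs
    rw [mem_filter, mem_powerset]
    refine ⟨Finset.union_subset (hs.1.trans Finset.sdiff_subset) hP, ?_, Finset.subset_union_right⟩
    have hd : Disjoint s P := Finset.disjoint_of_subset_left hs.1 Finset.sdiff_disjoint
    rw [Finset.card_union_of_disjoint hd, hs.2]
    omega
  · intro s hs
    rw [mem_filter] at hs
    exact Finset.sdiff_union_of_subset hs.2.2
  · intro s hs
    rw [mem_powersetCard] at hs
    have hd : Disjoint s P := Finset.disjoint_of_subset_left hs.1 Finset.sdiff_disjoint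
    exact Finset.union_sdiff_cancel_right hd

/-- number of blocks through a set of `j ≤ t` points -/
theorem card_through {t k : ℕ} {B : Set (Finset α)} (hB : IsSteinerSystem t k B) {P : Finset α}
    (hP : P.card ≤ t) :
    ((blk B).filter (fun b => P ⊆ b)).card * (k - P.card).choose (t - P.card) =
      (Fintype.card α - P.card).choose (t - P.card) := by
  have h1 := Finset.sum_card_bipartiteAbove_eq_sum_card_bipartiteBelow (fun (b s : Finset α) => s ⊆ b)
    (s := (blk B).filter (fun b => P ⊆ b))
    (t := (Finset.univ : Finset (Finset α)).filter (fun s => s.card = t ∧ P ⊆ s))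
  have h2 : ∀ b ∈ (blk B).filter (fun b => P ⊆ b),
      (Finset.bipartiteAbove (fun (b s : Finset α) => s ⊆ b)
        ((Finset.univ : Finset (Finset α)).filter (fun s => s.card = t ∧ P ⊆ s)) b).card =
        (k - P.card).choose (t - P.card) := by
    intro b hb
    rw [mem_filter, mem_blk] at hb
    rw [← hB.1 b hb.1, ← card_between hb.2 hP]
    congr 1
    ext s
    simp only [Finset.bipartiteAbove, mem_filter, mem_univ, true_and, mem_powerset]
    tauto
  have h3 : ∀ s ∈ (Finset.univ : Finset (Finset α)).filter (fun s => s.card = t ∧ P ⊆ s),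
      (Finset.bipartiteBelow (fun (b s : Finset α) => s ⊆ b) ((blk B).filter (fun b => P ⊆ b)) s).card = 1 := by
    intro s hs
    rw [mem_filter] at hs
    obtain ⟨b, ⟨hb1, hb2⟩, hb3⟩ := hB.2 s hs.2.1
    rw [Finset.card_eq_one]
    refine ⟨b, ?_⟩
    ext c
    simp only [Finset.bipartiteBelow, mem_filter, mem_singleton, mem_blk]
    constructor
    · rintro ⟨⟨h4, _⟩, h5⟩; exact hb3 c ⟨h4, h5⟩
    · rintro rfl; exact ⟨⟨hb1, hs.2.2.trans hb2⟩, hb2⟩
  rw [Finset.sum_congr rfl h2, Finset.sum_congr rfl h3, Finset.sum_const, Finset.sum_const,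
    smul_eq_mul, smul_eq_mul, mul_one] at h1
  rw [h1]
  have h4 := card_between (P := P) (b := Finset.univ) (Finset.subset_univ _) hP
  rw [Finset.card_univ] at h4
  rw [← h4]
  congr 1

/-- the moments of the intersection numbers with a set -/
theorem sum_choose {t k : ℕ} {B : Set (Finset α)} (hB : IsSteinerSystem t k B) (X : Finset α) {j : ℕ}
    (hj : j ≤ t) :
    (∑ c ∈ blk B, (c ∩ X).card.choose j) * (k - j).choose (t - j) =
      X.card.choose j * (Fintype.card α - j).choose (t - j) := by
  have h1 := Finset.sum_card_bipartiteAbove_eq_sum_card_bipartiteBelow (fun (b s : Finset α) => s ⊆ b)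
    (s := blk B) (t := X.powersetCard j)
  have h2 : ∀ b ∈ blk B, (Finset.bipartiteAbove (fun (b s : Finset α) => s ⊆ b) (X.powersetCard j) b).card =
      (b ∩ X).card.choose j := by
    intro b _
    rw [← Finset.card_powersetCard]
    congr 1
    ext s
    simp only [Finset.bipartiteAbove, mem_filter, mem_powersetCard, Finset.subset_inter_iff]
    tauto
  rw [Finset.sum_congr rfl h2] at h1
  rw [h1, Finset.sum_mul]
  rw [Finset.sum_congr rfl (g := fun _ => (Fintype.card α - j).choose (t - j))]
  · rw [Finset.sum_const, Finset.card_powersetCard, smul_eq_mul]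
  · intro P hP
    rw [mem_powersetCard] at hP
    have := card_through hB (P := P) (by omega)
    rw [hP.2] at this
    exact this

/-- grouping by intersection size -/
theorem sum_group {B : Set (Finset α)} (X : Finset α) (n : ℕ) (hn : ∀ c ∈ B, (c ∩ X).card < n) (g : ℕ → ℕ) :
    ∑ c ∈ blk B, g (c ∩ X).card = ∑ i ∈ range n, ((blk B).filter (fun c => (c ∩ X).card = i)).card * g i := by
  rw [← Finset.sum_fiberwise_of_maps_to (s := blk B) (t := range n) (g := fun c => (c ∩ X).card)
    (fun c hc => mem_range.2 (hn c (mem_blk.1 hc)))]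
  apply Finset.sum_congr rfl
  intro i _
  rw [← smul_eq_mul, ← Finset.sum_const]
  apply Finset.sum_congr rfl
  intro c hc
  rw [(mem_filter.1 hc).2]

/-- two blocks with `t` common points are equal -/
theorem block_eq {t k : ℕ} {B : Set (Finset α)} (hB : IsSteinerSystem t k B) {b c : Finset α}
    (hb : b ∈ B) (hc : c ∈ B) (h : t ≤ (b ∩ c).card) : b = c := by
  obtain ⟨s, hs, hs'⟩ := Finset.exists_subset_card_eq h
  obtain ⟨d, _, hd⟩ := hB.2 s hs'
  rw [hd b ⟨hb, hs.trans Finset.inter_subset_left⟩, hd c ⟨hc, hs.trans Finset.inter_subset_right⟩]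

end Cfsg.Agent.Lib.Steiner
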