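import Mathlib
set_option autoImplicit false

/-!
# Wielandt's count of subgroups of prime power order
-/

open Subgroup
open scoped Pointwise

namespace Cfsg.Agent.Lib.SubCount

theorem dvd_card_of_orbits {G Ω : Type*} [Group G] [MulAction G Ω] [Finite Ω] (N : ℕ) (S : Set Ω)
    (hS : ∀ x ∈ S, ∀ g : G, g • x ∈ S) (h : ∀ x ∈ S, N ∣ Nat.card (MulAction.orbit G x)) :
    N ∣ Nat.card {x : Ω // x ∈ S} := by
  classical
  have : Finite (MulAction.orbitRel.Quotient G Ω) := inferInstance
  have : Fintype (MulAction.orbitRel.Quotient G Ω) := Fintype.ofFinite _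
  have h1 : Nat.card {x : Ω // x ∈ S} = ∑ ω : MulAction.orbitRel.Quotient G Ω,
      Nat.card {x : Ω // x ∈ S ∧ (Quotient.mk _ x : MulAction.orbitRel.Quotient G Ω) = ω} := by
    rw [← Nat.card_sigma]
    refine Nat.card_congr ⟨fun g => ⟨Quotient.mk _ g.1, g.1, g.2, rfl⟩,
      fun x => ⟨x.2.1, x.2.2.1⟩, fun _ => rfl, ?_⟩
    rintro ⟨z, g, hg, rfl⟩
    rfl
  rw [h1]
  apply Finset.dvd_sum
  intro ω _
  by_cases hω : ∃ x ∈ S, (Quotient.mk _ x : MulAction.orbitRel.Quotient G Ω) = ω
  · obtain ⟨x, hx, rfl⟩ := hω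
    have h2 : Nat.card {y : Ω // y ∈ S ∧ (Quotient.mk _ y : MulAction.orbitRel.Quotient G Ω) =
        Quotient.mk _ x} = Nat.card (MulAction.orbit G x) := by
      refine Nat.card_congr (Equiv.subtypeEquivRight fun y => ?_)
      constructor
      · rintro ⟨-, hy⟩
        exact Quotient.exact hy
      · intro hy
        obtain ⟨g, rfl⟩ := hy
        exact ⟨hS x hx g, Quotient.sound ⟨g, rfl⟩⟩
    rw [h2]
    exact h x hx
  · have : Nat.card {x : Ω // x ∈ S ∧ (Quotient.mk _ x : MulAction.orbitRel.Quotient G Ω) = ω} = 0 := by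
      rw [Nat.card_eq_zero]
      left
      exact ⟨fun x => hω ⟨x.1, x.2.1, x.2.2⟩⟩
    rw [this]
    exact dvd_zero _

theorem orbit_stab {G Ω : Type*} [Group G] [MulAction G Ω] (x : Ω) :
    Nat.card (MulAction.orbit G x) * Nat.card (MulAction.stabilizer G x) = Nat.card G := by
  rw [← (MulAction.stabilizer G x).index_mul_card, MulAction.index_stabilizer]
  rfl

/-- right cosets as finsets -/
noncomputable def cosF {G : Type*} [Group G] [Fintype G] (H : Subgroup G) (g : G) : Finset G := by
  classical exact Finset.univ.filter (fun x => x * g⁻¹ ∈ H)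

theorem mem_cosF {G : Type*} [Group G] [Fintype G] {H : Subgroup G} {g x : G} :
    x ∈ cosF H g ↔ x * g⁻¹ ∈ H := by
  classical simp [cosF]

theorem card_cosF {G : Type*} [Group G] [Fintype G] (H : Subgroup G) (g : G) :
    (cosF H g).card = Nat.card H := by
  classical
  rw [← Fintype.card_coe, ← Nat.card_eq_fintype_card]
  refine Nat.card_congr ⟨fun x => ⟨x.1 * g⁻¹, mem_cosF.mp x.2⟩, fun h => ⟨h.1 * g, ?_⟩, ?_, ?_⟩
  · rw [mem_cosF, mul_inv_cancel_right]; exact h.2
  · intro x; exact Subtype.ext (inv_mul_cancel_right _ _)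
  · intro x; exact Subtype.ext (mul_inv_cancel_right _ _)

theorem stabilizer_cosF {G : Type*} [Group G] [Fintype G] [DecidableEq G] (H : Subgroup G) (g : G) :
    MulAction.stabilizer G (cosF H g) = H := by
  ext x
  rw [MulAction.mem_stabilizer_iff]
  constructor
  · intro h
    have h2 : x • g ∈ x • cosF H g := by
      apply Finset.smul_mem_smul_finset
      rw [mem_cosF, mul_inv_cancel]; exact one_mem _
    rw [h, mem_cosF, smul_eq_mul, mul_inv_cancel_right] at h2
    exact h2
  · intro h
    ext y
    rw [Finset.mem_smul_finset]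
    constructor
    · rintro ⟨z, hz, rfl⟩
      rw [mem_cosF] at hz ⊢
      rw [smul_eq_mul, mul_assoc]
      exact mul_mem h hz
    · intro hy
      refine ⟨x⁻¹ * y, ?_, by simp⟩
      rw [mem_cosF] at hy ⊢
      rw [mul_assoc]
      exact mul_mem (inv_mem h) hy

theorem cosF_stabilizer {G : Type*} [Group G] [Fintype G] [DecidableEq G] {A : Finset G} {g : G}
    (hA : A.card = Nat.card (MulAction.stabilizer G A)) (hg : g ∈ A) :
    cosF (MulAction.stabilizer G A) g = A := by
  apply Finset.eq_of_subset_of_card_le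
  · intro x hx
    rw [mem_cosF] at hx
    have h2 : (x * g⁻¹) • A = A := hx
    rw [← h2]
    have := Finset.smul_mem_smul_finset (a := x * g⁻¹) hg
    rw [smul_eq_mul, inv_mul_cancel_right] at this
    exact this
  · rw [card_cosF, hA]

theorem card_stabilizer_dvd {G : Type*} [Group G] [Finite G] [DecidableEq G] (A : Finset G) :
    Nat.card (MulAction.stabilizer G A) ∣ A.card := by
  have h := dvd_card_of_orbits (G := MulAction.stabilizer G A) (Ω := G)
    (Nat.card (MulAction.stabilizer G A)) (A : Set G) (by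
      intro x hx g
      have h1 : (g : G) • A = A := g.2
      have h2 := Finset.smul_mem_smul_finset (a := (g : G)) (Finset.mem_coe.mp hx)
      rw [h1] at h2
      exact Finset.mem_coe.mpr h2) (by
      intro x _
      have h2 := orbit_stab (G := MulAction.stabilizer G A) x
      have h3 : MulAction.stabilizer (MulAction.stabilizer G A) x = ⊥ := by
        rw [eq_bot_iff]
        intro g hg
        have h4 : (g : G) * x = x := hg
        rw [mem_bot]
        exact Subtype.ext (mul_eq_right.mp h4)
      rw [h3, card_bot, mul_one] at h2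
      rw [h2])
  have h4 : Nat.card {x : G // x ∈ (A : Set G)} = A.card := by
    rw [Nat.card_congr (Equiv.subtypeEquivRight fun y => Finset.mem_coe)]
    exact Nat.card_eq_card_toFinset _ |>.trans (by simp)
  rw [h4] at h
  exact h

theorem count_modEq {G : Type*} [Group G] [Finite G] (p β : ℕ) (hp : p.Prime)
    (hdiv : p ^ β ∣ Nat.card G) :
    Nat.card {H : Subgroup G // Nat.card H = p ^ β} * Nat.card G ≡
      p ^ β * (Nat.card G).choose (p ^ β) [MOD p * Nat.card G] := by
  classical
  have : Fintype G := Fintype.ofFinite G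
  obtain ⟨m, hm⟩ := hdiv
  -- sets with small stabilizer
  have hY : p * m ∣ Nat.card {A : Finset G // A ∈
      {A : Finset G | A.card = p ^ β ∧ Nat.card (MulAction.stabilizer G A) ≠ p ^ β}} := by
    refine dvd_card_of_orbits (G := G) _ _ ?_ ?_
    · rintro A ⟨hA1, hA2⟩ g
      refine ⟨by rw [Finset.card_smul_finset]; exact hA1, ?_⟩
      rw [MulAction.stabilizer_smul_eq_stabilizer_map_conj, Subgroup.card_map_of_injective]
      · exact hA2
      · exact (MulAut.conj g).injective
    · rintro A ⟨hA1, hA2⟩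
      have h1 := card_stabilizer_dvd A
      rw [hA1] at h1
      obtain ⟨j, hj, hAj⟩ := (Nat.dvd_prime_pow hp).mp h1
      have hjlt : j < β := lt_of_le_of_ne hj (by rintro rfl; exact hA2 hAj)
      have h2 := orbit_stab (G := G) A
      rw [hm, hAj] at h2
      have h3 : p ^ β = p * p ^ j * p ^ (β - j - 1) := by
        rw [← pow_succ', ← pow_add]; congr 1; omega
      have h4 : Nat.card (MulAction.orbit G A) = p * m * p ^ (β - j - 1) := by
        have h5 : Nat.card (MulAction.orbit G A) * p ^ j = (p * m * p ^ (β - j - 1)) * p ^ j := by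
          rw [h2, h3]; ring
        exact Nat.eq_of_mul_eq_mul_right (pow_pos hp.pos _) h5
      rw [h4]
      exact dvd_mul_right _ _
  -- sets with big stabilizer
  have hX : Nat.card {H : Subgroup G // Nat.card H = p ^ β} * Nat.card G =
      Nat.card {A : Finset G // A.card = p ^ β ∧ Nat.card (MulAction.stabilizer G A) = p ^ β} *
        p ^ β := by
    have : Fintype {A : Finset G // A.card = p ^ β ∧ Nat.card (MulAction.stabilizer G A) = p ^ β} :=
      Fintype.ofFinite _
    have h1 : Nat.card (Σ A : {A : Finset G // A.card = p ^ β ∧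
        Nat.card (MulAction.stabilizer G A) = p ^ β}, {g : G // g ∈ A.1}) =
        Nat.card {A : Finset G // A.card = p ^ β ∧ Nat.card (MulAction.stabilizer G A) = p ^ β} *
        p ^ β := by
      rw [Nat.card_sigma, Finset.sum_congr rfl (g := fun _ => p ^ β)]
      · rw [Finset.sum_const, smul_eq_mul, Finset.card_univ, ← Nat.card_eq_fintype_card]
      · intro A _
        rw [Nat.card_eq_fintype_card, Fintype.card_coe]
        exact A.2.1
    rw [← h1, ← Nat.card_prod]
    refine Nat.card_congr ⟨fun x => ⟨⟨cosF x.1.1 x.2,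
      ⟨by rw [card_cosF]; exact x.1.2, by rw [stabilizer_cosF]; exact x.1.2⟩⟩,
      ⟨x.2, by rw [mem_cosF, mul_inv_cancel]; exact one_mem _⟩⟩,
      fun x => (⟨MulAction.stabilizer G x.1.1, x.1.2.2⟩, x.2.1), ?_, ?_⟩
    · rintro ⟨⟨H, hH⟩, g⟩
      refine Prod.ext (Subtype.ext ?_) rfl
      exact stabilizer_cosF H g
    · rintro ⟨⟨A, hA1, hA2⟩, ⟨g, hg⟩⟩
      have h2 : cosF (MulAction.stabilizer G A) g = A := cosF_stabilizer (hA1.trans hA2.symm) hg
      simp only [Sigma.mk.injEq, Subtype.mk.injEq]
      refine ⟨h2, ?_⟩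
      congr! 1
      ext x
      rw [h2]
  -- total
  have htot : (Nat.card G).choose (p ^ β) =
      Nat.card {A : Finset G // A.card = p ^ β ∧ Nat.card (MulAction.stabilizer G A) = p ^ β} +
      Nat.card {A : Finset G // A ∈
      {A : Finset G | A.card = p ^ β ∧ Nat.card (MulAction.stabilizer G A) ≠ p ^ β}} := by
    rw [Nat.card_eq_fintype_card, ← Fintype.card_finset_len, ← Nat.card_eq_fintype_card,
      ← Nat.card_sum]
    refine Nat.card_congr ⟨fun A => if h : Nat.card (MulAction.stabilizer G A.1) = p ^ β then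
      Sum.inl ⟨A.1, A.2, h⟩ else Sum.inr ⟨A.1, A.2, h⟩,
      fun x => Sum.elim (fun y => ⟨y.1, y.2.1⟩) (fun y => ⟨y.1, y.2.1⟩) x, ?_, ?_⟩
    · intro A
      by_cases h : Nat.card (MulAction.stabilizer G A.1) = p ^ β
      · simp only [h, dite_true]; rfl
      · simp only [h, dite_false]; rfl
    · rintro (y | y)
      · exact dif_pos y.2.2
      · exact dif_neg y.2.2
  rw [hX, htot, mul_add, mul_comm (Nat.card {A : Finset G // A.card = p ^ β ∧
    Nat.card (MulAction.stabilizer G A) = p ^ β}) (p ^ β)]
  have h5 : p * Nat.card G ∣ p ^ β * Nat.card {A : Finset G // A ∈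
      {A : Finset G | A.card = p ^ β ∧ Nat.card (MulAction.stabilizer G A) ≠ p ^ β}} := by
    rw [hm, show p * (p ^ β * m) = p ^ β * (p * m) by ring]
    exact Nat.mul_dvd_mul_left _ hY
  have h6 := (Nat.modEq_zero_iff_dvd.mpr h5).symm
  have h7 := Nat.ModEq.add_left (p ^ β * Nat.card {A : Finset G // A.card = p ^ β ∧
    Nat.card (MulAction.stabilizer G A) = p ^ β}) h6
  rw [add_zero] at h7
  exact h7

theorem card_subgroups_cyclic {C : Type*} [Group C] [Finite C] [IsCyclic C] (d : ℕ)
    (hd : d ∣ Nat.card C) : Nat.card {H : Subgroup C // Nat.card H = d} = 1 := by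
  have hd0 : 0 < d := Nat.pos_of_dvd_of_pos hd Nat.card_pos
  rw [Nat.card_eq_one_iff_unique]
  constructor
  · constructor
    have key : ∀ H : Subgroup C, Nat.card H = d → (H : Set C) = {x : C | x ^ d = 1} := by
      intro H hH
      classical
      have : Fintype C := Fintype.ofFinite C
      refine Set.eq_of_subset_of_ncard_le ?_ ?_ (Set.toFinite _)
      · intro x hx
        have := pow_card_eq_one' (x := (⟨x, hx⟩ : H))
        rw [hH] at this
        exact congrArg Subtype.val this
      · have h1 := IsCyclic.card_pow_eq_one_le (α := C) hd0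
        have h2 : ({x : C | x ^ d = 1} : Set C).ncard = (Finset.univ.filter (fun a : C => a ^ d = 1)).card := by
          rw [← Set.ncard_coe_finset]
          congr 1
          ext x
          simp
        rw [h2]
        refine h1.trans ?_
        have h3 : (H : Set C).ncard = Nat.card H := rfl
        rw [h3, hH]
    rintro ⟨H, hH⟩ ⟨K, hK⟩
    apply Subtype.ext
    apply SetLike.coe_injective
    change (H : Set C) = (K : Set C)
    rw [key H hH, key K hK]
  · obtain ⟨g, hg⟩ := IsCyclic.exists_ofOrder_eq_natCard (α := C)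
    obtain ⟨e, he⟩ := hd
    refine ⟨⟨zpowers (g ^ e), ?_⟩⟩
    have he0 : e ≠ 0 := by
      rintro rfl
      rw [mul_zero] at he
      exact Nat.card_pos.ne' he
    rw [Nat.card_zpowers, orderOf_pow' _ he0, hg, he, Nat.gcd_eq_right (dvd_mul_left _ _),
      Nat.mul_div_cancel _ (Nat.pos_of_ne_zero he0)]

/-- the number of subgroups of order `p^β` is `≡ 1 (mod p)` -/
theorem card_subgroups_modEq_one {G : Type*} [Group G] [Finite G] (p β : ℕ) (hp : p.Prime)
    (hdiv : p ^ β ∣ Nat.card G) : Nat.card {H : Subgroup G // Nat.card H = p ^ β} ≡ 1 [MOD p] := by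
  have hn : NeZero (Nat.card G) := ⟨Nat.card_pos.ne'⟩
  have hC : Nat.card (Multiplicative (ZMod (Nat.card G))) = Nat.card G := by
    rw [Nat.card_congr Multiplicative.toAdd]; exact Nat.card_zmod _
  have h1 := count_modEq (G := G) p β hp hdiv
  have h2 := count_modEq (G := Multiplicative (ZMod (Nat.card G))) p β hp (by rw [hC]; exact hdiv)
  rw [card_subgroups_cyclic _ (by rw [hC]; exact hdiv), hC] at h2
  have h3 := h1.trans h2.symm
  exact Nat.ModEq.mul_right_cancel' Nat.card_pos.ne' h3

end Cfsg.Agent.Lib.SubCount
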