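import Cfsg.Agent.Lib.StrongEmbB
import Cfsg.Prelude.Def_SylowChains
import Mathlib.Order.RelSeries

/-!
Connectedness of the Sylow graph and strongly `p`-embedded subgroups.
-/

set_option autoImplicit false
set_option linter.unusedSectionVars false

namespace Cfsg.Agent.Lib.SylChain

open Cfsg Cfsg.Agent.Lib.StrongEmb Cfsg.Agent.Lib.SylRel Cfsg.Agent.Lib.StrongEmbB

universe u

variable {G : Type u} [Group G] {p : ℕ} [Fact p.Prime] [Finite G]

/-- adjacency -/
def Adj (S T : Sylow p G) : Prop := (S : Subgroup G) ⊓ (T : Subgroup G) ≠ ⊥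

/-- being in the same component -/
def Conn : Sylow p G → Sylow p G → Prop := Relation.ReflTransGen Adj

theorem Adj.symm {S T : Sylow p G} (h : Adj S T) : Adj T S := by
  unfold Adj at *; rwa [inf_comm]

theorem Conn.symm {S T : Sylow p G} (h : Conn S T) : Conn T S := by
  induction h with
  | refl => exact Relation.ReflTransGen.refl
  | tail _ h ih => exact Relation.ReflTransGen.trans (Relation.ReflTransGen.single h.symm) ih

theorem Conn.trans {S T U : Sylow p G} (h : Conn S T) (h' : Conn T U) : Conn S U := Relation.ReflTransGen.trans h h'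

theorem adj_of_mem {S T : Sylow p G} {x : G} (hx : x ≠ 1) (hS : x ∈ (S : Subgroup G)) (hT : x ∈ (T : Subgroup G)) : Adj S T := by
  intro h
  have : x ∈ (S : Subgroup G) ⊓ (T : Subgroup G) := ⟨hS, hT⟩
  rw [h, Subgroup.mem_bot] at this
  exact hx this

theorem conn_of_mem {S T : Sylow p G} {x : G} (hx : x ≠ 1) (hS : x ∈ (S : Subgroup G)) (hT : x ∈ (T : Subgroup G)) : Conn S T :=
  Relation.ReflTransGen.single (adj_of_mem hx hS hT)

theorem exists_of_ne_bot {A : Subgroup G} (h : A ≠ ⊥) : ∃ x ∈ A, x ≠ 1 := by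
  obtain ⟨x, hx⟩ := Subgroup.ne_bot_iff_exists_ne_one.1 h
  exact ⟨x, x.2, fun h => hx (Subtype.ext h)⟩

theorem Adj.smul {S T : Sylow p G} (h : Adj S T) (g : G) : Adj (g • S) (g • T) := by
  obtain ⟨x, hx, hx1⟩ := exists_of_ne_bot h
  refine adj_of_mem (x := g * x * g⁻¹) ?_ (conj_mem_smul hx.1) (conj_mem_smul hx.2)
  intro h1
  apply hx1
  have := congrArg (fun z => g⁻¹ * z * g) h1
  simpa [mul_assoc] using this

theorem Conn.smul {S T : Sylow p G} (h : Conn S T) (g : G) : Conn (g • S) (g • T) := by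
  induction h with
  | refl => exact Relation.ReflTransGen.refl
  | tail _ h ih => exact Relation.ReflTransGen.tail ih (h.smul g)

theorem isSylowChainConnected_iff : IsSylowChainConnected p G ↔ ∀ S T : Sylow p G, Conn S T := by
  constructor
  · intro h S T
    obtain ⟨n, c, rfl, rfl, -, h1⟩ := h S T
    have : ∀ i : Fin (n + 1), Conn (c 0) (c i) := by
      intro i
      induction i using Fin.induction with
      | zero => exact Relation.ReflTransGen.refl
      | succ i ih => exact Relation.ReflTransGen.tail ih (h1 i).2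
    exact this _
  · intro h S T
    by_cases hST : S = T
    · subst hST
      exact ⟨0, fun _ => S, rfl, rfl, fun _ => inf_le_left, fun i => i.elim0⟩
    by_cases hadj : Adj S T
    · refine ⟨1, ![S, T], rfl, rfl, ?_, ?_⟩
      · intro i
        fin_cases i
        · exact inf_le_left
        · exact inf_le_right
      · intro i
        fin_cases i
        exact ⟨hST, hadj⟩
    · have hb : (S : Subgroup G) ⊓ (T : Subgroup G) = ⊥ := not_not.1 hadj
      have key : ∀ T, Conn S T → ∃ c : RelSeries {q : Sylow p G × Sylow p G | q.1 ≠ q.2 ∧ Adj q.1 q.2}, c.head = S ∧ c.last = T := by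
        intro T h
        induction h with
        | refl => exact ⟨RelSeries.singleton _ S, rfl, rfl⟩
        | @tail U V _ h ih =>
          obtain ⟨c, h1, h2⟩ := ih
          by_cases hUV : U = V
          · subst hUV; exact ⟨c, h1, h2⟩
          · refine ⟨c.snoc V (show _ ∧ _ from by rw [h2]; exact ⟨hUV, h⟩), ?_, ?_⟩
            · rw [RelSeries.head_snoc, h1]
            · rw [RelSeries.last_snoc]
      obtain ⟨c, h1, h2⟩ := key T (h S T)
      exact ⟨c.length, c.toFun, h1, h2, fun i => by rw [hb]; exact bot_le, fun i => c.step i⟩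

theorem exists_se {S T : Sylow p G} (h : ¬ Conn S T) : ∃ H : Subgroup G, (S : Subgroup G) ≤ H ∧ IsSE p H := by
  let H : Subgroup G :=
    { carrier := {g | Conn S (g • S)}
      one_mem' := by
        show Conn S ((1 : G) • S)
        rw [one_smul]; exact Relation.ReflTransGen.refl
      mul_mem' := by
        intro a b ha hb
        show Conn S ((a * b) • S)
        rw [mul_smul]
        exact Conn.trans ha (Conn.smul hb a)
      inv_mem' := by
        intro a ha
        have := Conn.smul (show Conn S (a • S) from ha) a⁻¹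
        rw [inv_smul_smul] at this
        exact this.symm }
  have hH : ∀ g, g ∈ H ↔ Conn S (g • S) := fun g => Iff.rfl
  have hSH : (S : Subgroup G) ≤ H := by
    intro s hs
    rw [hH, Sylow.smul_eq_iff_mem_normalizer.2 (Subgroup.le_normalizer hs)]
    exact Relation.ReflTransGen.refl
  have hne : H ≠ ⊤ := by
    intro hb
    obtain ⟨g, rfl⟩ := MulAction.exists_smul_eq G S T
    have : g ∈ H := by rw [hb]; trivial
    exact h this
  have hS1 : (S : Subgroup G) ≠ ⊥ := by
    intro hb
    apply h
    have h1 : ¬ p ∣ Nat.card G := by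
      have := S.card_eq_multiplicity
      rw [hb, Subgroup.card_bot] at this
      intro hd
      have h2 := (Nat.Prime.factorization_pos_of_dvd Fact.out Nat.card_pos.ne' hd)
      have h3 : 1 < p ^ (Nat.card G).factorization p := Nat.one_lt_pow h2.ne' (Fact.out : p.Prime).one_lt
      omega
    have h2 : ∀ T : Sylow p G, (T : Subgroup G) = ⊥ := by
      intro T
      by_contra hT
      exact h1 ((dvd_card_of_ne_bot T.2 hT).trans (Subgroup.card_subgroup_dvd_card _))
    have : S = T := Sylow.ext ((h2 S).trans (h2 T).symm)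
    rw [this]
    exact Relation.ReflTransGen.refl
  refine ⟨H, hSH, of_elt hne ((dvd_card_of_ne_bot S.2 hS1).trans (Subgroup.card_dvd_of_le hSH)) ?_⟩
  -- an element of order `p` in `H` lies in a conjugate of `S` by `H`
  have key : ∀ x ∈ H, orderOf x = p → ∃ U : Sylow p G, x ∈ (U : Subgroup G) ∧ Conn S U := by
    intro x hx hxo
    obtain ⟨a, ha, h1⟩ := ((sylIn_of_sylow S).mono hSH le_top).conj_le ((Subgroup.zpowers_le).2 hx)
      (isPGroup_zpowers ⟨1, by rw [hxo, pow_one]⟩)
    refine ⟨a⁻¹ • S, ?_, (hH _).1 (H.inv_mem ha)⟩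
    have := conj_mem_smul (g := a⁻¹) (T := S) (h1 x (Subgroup.mem_zpowers x))
    have e : a⁻¹ * (a * x * a⁻¹) * a⁻¹⁻¹ = x := by group
    rwa [e] at this
  intro x hx hxo g hg
  have hx1 : x ≠ 1 := by
    rintro rfl
    rw [orderOf_one] at hxo
    exact (Fact.out : p.Prime).one_lt.ne hxo
  have hgx1 : g * x * g⁻¹ ≠ 1 := by
    intro h1
    apply hx1
    have := congrArg (fun z => g⁻¹ * z * g) h1
    simpa [mul_assoc] using this
  obtain ⟨U, hxU, hU⟩ := key x hx hxo
  obtain ⟨V, hxV, hV⟩ := key _ hg (by rw [orderOf_conj', hxo])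
  rw [hH]
  exact (hV.trans (conn_of_mem hgx1 hxV (conj_mem_smul hxU))).trans (hU.smul g).symm

theorem not_connected_of_se {H : Subgroup G} (h : IsSE p H) : ¬ ∀ S T : Sylow p G, Conn S T := by
  intro hc
  obtain ⟨R, hR, hRH, hR1⟩ := exists_sylIn_top h
  obtain ⟨S, hS⟩ := hR.isPGroup.exists_le_sylow
  have hSR : (S : Subgroup G) = R :=
    (Subgroup.eq_of_le_of_card_ge hS (hR.card_le le_top S.2)).symm
  have key : ∀ T : Sylow p G, Conn S T → (T : Subgroup G) ≤ H := by
    intro T hT
    induction hT with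
    | refl => rw [hSR]; exact hRH
    | @tail U V _ hUV ih =>
      obtain ⟨g, rfl⟩ := MulAction.exists_smul_eq G S V
      obtain ⟨x, hx, hx1⟩ := exists_of_ne_bot hUV
      have h1 : g⁻¹ * x * g ∈ S := mem_smul.1 hx.2
      have h2 : g⁻¹ * x * g ∈ H := hRH (hSR ▸ h1)
      have hxp : ∃ k : ℕ, orderOf (x : G) = p ^ k := by
        obtain ⟨k, hk⟩ := (IsPGroup.iff_orderOf.1 U.2) ⟨x, hx.1⟩
        rw [Subgroup.orderOf_mk] at hk
        exact ⟨k, hk⟩
      have h3 : g⁻¹ ∈ H := mem_of_conj_elt h (ih hx.1) hxp hx1 (by rw [inv_inv]; exact h2)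
      have h4 : g ∈ H := by simpa using H.inv_mem h3
      intro y hy
      have h5 : g⁻¹ * y * g ∈ H := hRH (hSR ▸ (mem_smul.1 hy))
      have := H.mul_mem (H.mul_mem h4 h5) h3
      have e : g * (g⁻¹ * y * g) * g⁻¹ = y := by group
      rwa [e] at this
  apply h.1
  rw [eq_top_iff]
  intro g _
  refine mem_of_conj h hRH hR.isPGroup hR1 fun a ha => ?_
  exact key (g • S) (hc _ _) (conj_mem_smul (show a ∈ (S : Subgroup G) from hSR ▸ ha))

end Cfsg.Agent.Lib.SylChain
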