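import Cfsg.Agent.Lib.QfD
import Cfsg.Agent.Lib.QfE
import Cfsg.Agent.Lib.QfG
import Cfsg.Agent.Lib.Tate
import Cfsg.Agent.Lib.Wiel
import Cfsg.Agent.Lib.PCon
import Cfsg.Agent.Lib.CSecB

/-!
Criteria for a saturated fusion system to be inner.
-/

set_option autoImplicit false
set_option linter.unusedSectionVars false
set_option linter.style.haveILetI false
set_option linter.unusedVariables false

namespace Cfsg.Agent.Lib.ThfA

open Cfsg Cfsg.FusionSystem Cfsg.Agent.Lib.FusBase Cfsg.Agent.Lib.FusSat Cfsg.Agent.Lib.StrongEmb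
open Cfsg.Agent.Lib.FusAlperin Cfsg.Agent.Lib.FusNormal Cfsg.Agent.Lib.FusNormalB Cfsg.Agent.Lib.SylRel
open Cfsg.Agent.Lib.FusSub Cfsg.Agent.Lib.FusPuig Cfsg.Agent.Lib.FusNK Cfsg.Agent.Lib.FusNKB Cfsg.Agent.Lib.FusMor Cfsg.Agent.Lib.FusGroup
open Cfsg.Agent.Lib.FusHyp Cfsg.Agent.Lib.FusHypB Cfsg.Agent.Lib.FusInv Cfsg.Agent.Lib.FusInvB Cfsg.Agent.Lib.FusModel
open Cfsg.Agent.Lib.MdlA Cfsg.Agent.Lib.MdlB Cfsg.Agent.Lib.MdlC Cfsg.Agent.Lib.MdlD Cfsg.Agent.Lib.PNilp
open Cfsg.Agent.Lib.NilA Cfsg.Agent.Lib.NilB Cfsg.Agent.Lib.NilC Cfsg.Agent.Lib.NilE Cfsg.Agent.Lib.CSecA Cfsg.Agent.Lib.FusSimple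
open Cfsg.Agent.Lib.QfA Cfsg.Agent.Lib.QfB Cfsg.Agent.Lib.QfC Cfsg.Agent.Lib.QfD Cfsg.Agent.Lib.QfE Cfsg.Agent.Lib.QfG Cfsg.Agent.Lib.Involve

open scoped commutatorElement

universe u v w

variable {Ω : Type u} [Group Ω] {S : Subgroup Ω} [Finite S] {F : FusionSystem S} {p : ℕ} [Fact p.Prime]

/-- strongly closed subgroups of `Q C_S(Q)`, abelian modulo the normal subgroup `Q`, are normal -/
theorem normal_of_le_sup_cent (hS : IsPGroup p S) (hF : F.IsSaturated p) {Q D : Subgroup Ω} (hQn : F.IsNormal Q)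
    (hD : F.StronglyClosed D) (hDle : D ≤ Q ⊔ centralizerIn S Q)
    (hab : ∀ x ∈ D, ∀ b ∈ D, x⁻¹ * (b * x * b⁻¹) ∈ Q) : F.IsNormal D := by
  have hQsc := normal_stronglyClosed hQn
  have hQS := hQsc.1
  obtain ⟨n, Rs, h0, hnQ, hmono, hnorm, hle, hcomm⟩ := exists_chain_of_normal hS hQn
  refine normal_of_chain hS hF (fun i => if i ≤ n then Rs i ⊓ D else D) (n + 1) ?_ ?_ ?_ ?_
  · simp [h0]
  · simp
  · intro i hi
    by_cases h : i ≤ n
    · simp only [h, if_true]; exact stronglyClosed_inf (normal_stronglyClosed (hnorm i)) hD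
    · simp only [h, if_false]; exact hD
  · intro i hi b hb x hx
    have hin : i ≤ n := by omega
    simp only [hin, if_true]
    have hxD : x ∈ D := by
      by_cases h : i + 1 ≤ n
      · simp only [h, if_true] at hx; exact hx.2
      · simp only [h, if_false] at hx; exact hx
    have hxb : x⁻¹ * (b * x * b⁻¹) ∈ D := D.mul_mem (D.inv_mem hxD) (StronglyClosed_conj hD (hD.1 hb) hxD)
    refine ⟨?_, hxb⟩
    by_cases h : i + 1 ≤ n
    · simp only [h, if_true] at hx
      have hxQ : x ∈ Q := hle _ hx.1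
      obtain ⟨q, hq, c, hc, hqc⟩ := (Cfsg.Agent.Lib.Basic.mem_sup_iff_left
        (centralizerIn_le.trans (StronglyClosed_normalizer hQsc))).1 (hDle hb)
      have hcx : x * c = c * x := (mem_centralizerIn.1 hc).2 x hxQ
      have h1 : q * x * q⁻¹ * x⁻¹ ∈ Rs i := hcomm i (Subgroup.commutator_mem_commutator hq hx.1)
      have h2 := StronglyClosed_conj (normal_stronglyClosed (hnorm i)) (S.inv_mem (hQS hxQ)) h1
      have e : x⁻¹ * (b * x * b⁻¹) = x⁻¹ * (q * x * q⁻¹ * x⁻¹) * x⁻¹⁻¹ := by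
        have h3 : c * x * c⁻¹ = x := by rw [← hcx]; group
        rw [← hqc]
        calc x⁻¹ * (q * c * x * (q * c)⁻¹) = x⁻¹ * (q * (c * x * c⁻¹) * q⁻¹) := by group
          _ = _ := by rw [h3]; group
      rw [e]; exact h2
    · have hi' : i = n := by omega
      rw [hi', hnQ]
      exact hab x hxD b hb

/-- if `D` is normal and centric and `Aut_F(D)` is a `p`-group, then `F` is inner -/
theorem inner_of_aut (hS : IsPGroup p S) (hF : F.IsSaturated p) {D : Subgroup Ω} (hD : F.IsNormal D) (hc : F.IsCentric D)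
    (hA : IsPGroup p (F.autGroup D)) (P : Subgroup Ω) : F.Hom P = (innerFusionSystem S).Hom P := by
  have hDsc := normal_stronglyClosed hD
  have hDS := hDsc.1
  haveI : Finite D := finite_of_le hDS
  have hFN : F.IsFullyNormalized D := FN_of_norm hDS (StronglyClosed_normalizer hDsc)
  have hAE := autGroup_eq_of_isPGroup (FN_FA hS hF hFN) hA
  refine Cfsg.Agent.Lib.FusSimple.hom_eq_of_mor fun f => ⟨fun hf => ?_, fun hf => ?_⟩
  · obtain ⟨-, hex⟩ := isNormal_iff.1 hD
    obtain ⟨g, hg, hgf, hgD⟩ := hex P f hf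
    have hgi : Iso F D D g := ⟨hg.restrict le_sup_right, hgD⟩
    have h1 := autOf_mem hgi
    rw [hAE] at h1
    obtain ⟨s, hs, hsg⟩ := mem_autInducedBy.1 h1
    have hPD : P ⊔ D ≤ S := hg.le
    obtain ⟨z, hz, hzc, hzg⟩ := agree_centric hS hF (le_sup_right : D ≤ P ⊔ D) hc (mor_conj F hPD hs) hg (fun x hx => by
      have := hsg ⟨x, hx⟩
      rw [autOf_apply] at this
      exact this.symm)
    refine mor_inner.2 ⟨hf.le, s * z, S.mul_mem hs (hDS hz), fun x hx => ?_⟩
    rw [← hgf x hx, hzg x ((le_sup_left : P ≤ P ⊔ D) hx)]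
    group
  · obtain ⟨hP, s, hs, hsf⟩ := mor_inner.1 hf
    exact (mor_conj F hP hs).congr fun x hx => (hsf x hx).symm

/-- `Q` is normal in `N_F(Q)` -/
theorem norm_isNormal {Q : Subgroup Ω} (hQS : Q ≤ S) {N : FusionSystem (normalizerIn S Q)} (hN : F.IsNormalizerSystem Q N) :
    N.IsNormal Q := by
  haveI : Finite Q := finite_of_le hQS
  rw [isNormal_iff]
  refine ⟨le_normalizerIn hQS, fun A f hf => ?_⟩
  obtain ⟨hA, hfA, g, hg, hgf, κ, -, hκ⟩ := (norm_iff hN).1 hf
  have hgY : ∀ x ∈ Q, g x ∈ Q := fun x hx => by rw [hκ x hx]; exact fn_mem' _ hx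
  refine ⟨g, mor_norm_of hN hg le_sup_right (sup_le hA (le_normalizerIn hQS)) ?_ hgY, hgf, img_eq_of_mem (hg.restrict le_sup_right) hgY⟩
  exact Mor_map_sup hg (fun x hx => by rw [hgf x hx]; exact hfA x hx) (fun x hx => le_normalizerIn hQS (hgY x hx))

theorem norm_le {Q : Subgroup Ω} {N : FusionSystem (normalizerIn S Q)} (hN : F.IsNormalizerSystem Q N) {P : Subgroup Ω}
    {f : Ω → Ω} (hf : Mor N P f) : Mor F P f := NKMor.mor ((norm_iff hN).1 hf)

/-- group theoretic step -/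
theorem group_step {L : Type u} [Group L] [Finite L] (P : Sylow p L) (hc : Subgroup.centralizer ((pCore p L : Subgroup L) : Set L) ≤ pCore p L)
    (K : Subgroup L) [hKn : K.Normal] (hKP : K ≤ P) (hK1 : ∀ x ∈ (P : Subgroup L), ∀ y ∈ (P : Subgroup L), x⁻¹ * (y * x * y⁻¹) ∈ K)
    (hK2 : K ≤ (frattini P).map (P : Subgroup L).subtype) (hN : IsPGroup p (Subgroup.normalizer ((P : Subgroup L) : Set L))) :
    IsPGroup p L := by
  have hNP : Subgroup.normalizer ((P : Subgroup L) : Set L) = P := by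
    apply P.3 hN
    exact Subgroup.le_normalizer
  -- the quotient is `p`-nilpotent
  have hsyl : ¬ p ∣ ((P : Subgroup L).map (QuotientGroup.mk' K)).index := by
    have := (Cfsg.Agent.Lib.CSecB.sylIn_quot (sylIn_of_sylow P) K).not_dvd
    rwa [Subgroup.relIndex_top_right] at this
  have hpg : IsPGroup p ((P : Subgroup L).map (QuotientGroup.mk' K)) := P.2.map _
  have hq : PNil p (L ⧸ K) := by
    refine Cfsg.Agent.Lib.Wiel.pNil_of_normalizer_le_centralizer (hpg.toSylow hsyl) ?_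
    show Subgroup.normalizer (((P : Subgroup L).map (QuotientGroup.mk' K) : Subgroup (L ⧸ K)) : Set (L ⧸ K)) ≤
      Subgroup.centralizer (((P : Subgroup L).map (QuotientGroup.mk' K) : Subgroup (L ⧸ K)) : Set (L ⧸ K))
    intro x hx
    obtain ⟨g, rfl⟩ := QuotientGroup.mk'_surjective K x
    have hg : g ∈ (P : Subgroup L) := by
      rw [← hNP, Subgroup.mem_normalizer_iff]
      have hcomap : ((P : Subgroup L).map (QuotientGroup.mk' K)).comap (QuotientGroup.mk' K) = P := by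
        rw [Subgroup.comap_map_eq, QuotientGroup.ker_mk', sup_eq_left.2 hKP]
      intro y
      rw [Subgroup.mem_normalizer_iff] at hx
      have h1 := hx (QuotientGroup.mk' K y)
      rw [← map_inv, ← map_mul, ← map_mul, ← Subgroup.mem_comap, ← Subgroup.mem_comap, hcomap] at h1
      exact h1
    rw [Subgroup.mem_centralizer_iff]
    rintro _ ⟨y, hy, rfl⟩
    have h1 := hK1 y hy g hg
    have h2 : QuotientGroup.mk' K (y⁻¹ * (g * y * g⁻¹)) = 1 := (QuotientGroup.eq_one_iff _).2 h1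
    rw [map_mul, map_mul, map_mul, map_inv, map_inv, inv_mul_eq_one] at h2
    exact (eq_mul_inv_iff_mul_eq.1 h2)
  obtain ⟨M', hM'n, hM'c, k, hM'k⟩ := hq
  haveI := hM'n
  have hle : M'.comap (QuotientGroup.mk' K) ⊓ (P : Subgroup L) ≤ K := by
    rintro x ⟨hx1, hx2⟩
    have h1 : QuotientGroup.mk' K x ∈ M' := hx1
    obtain ⟨j, hj⟩ := IsPGroup.iff_orderOf.1 hpg ⟨QuotientGroup.mk' K x, ⟨x, hx2, rfl⟩⟩
    have h2 : orderOf (QuotientGroup.mk' K x) = p ^ j := by
      rw [← hj]; exact (Subgroup.orderOf_mk _ _).symm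
    have h3 : orderOf (QuotientGroup.mk' K x) ∣ Nat.card M' := Subgroup.orderOf_dvd_natCard _ h1
    have h4 : orderOf (QuotientGroup.mk' K x) = 1 := by
      have h5 : (p ^ j).Coprime (p ^ j) := by
        have := Nat.Coprime.coprime_dvd_left h3 hM'c
        rw [h2] at this
        exact Nat.Coprime.pow_right j this
      rw [h2]
      exact (Nat.coprime_self _).1 h5
    exact (QuotientGroup.eq_one_iff x).1 (orderOf_eq_one_iff.1 h4)
  have hM : PNil p (M'.comap (QuotientGroup.mk' K)) := Cfsg.Agent.Lib.Tate.pNil_of_le_frattini P _ (hle.trans hK2)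
  have hL : PNil p L := by
    refine PNil.of_normal (M'.comap (QuotientGroup.mk' K)) ⟨k, ?_⟩ hM
    rw [Subgroup.index_comap_of_surjective _ (QuotientGroup.mk'_surjective K), hM'k]
  have h1 := isPGroup_of_pNil hc (K := ⊤) le_top (hL.of_equiv Subgroup.topEquiv.symm)
  exact h1.of_equiv Subgroup.topEquiv

theorem main_step (hS : IsPGroup p S) (hF : F.IsSaturated p) (hA : IsPGroup p (F.autGroup S)) {Q : Subgroup Ω} (hQ : F.IsNormal Q)
    (h1 : (commutator ↥S).map S.subtype ≤ Q) (h2 : Q ≤ (frattini ↥S).map S.subtype) (P : Subgroup Ω) :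
    F.Hom P = (innerFusionSystem S).Hom P := by
  have hQsc := normal_stronglyClosed hQ
  have hQS := hQsc.1
  have hD := stronglyClosed_sup_centralizer hS hF hQsc
  have hab : ∀ x ∈ S, ∀ b ∈ S, x⁻¹ * (b * x * b⁻¹) ∈ Q := by
    intro x hx b hb
    apply h1
    refine ⟨(⟨x, hx⟩ : S)⁻¹ * (⟨b, hb⟩ * ⟨x, hx⟩ * (⟨b, hb⟩ : S)⁻¹), ?_, rfl⟩
    have h3 : (⟨x, hx⟩ : S)⁻¹ * (⟨b, hb⟩ * ⟨x, hx⟩ * (⟨b, hb⟩ : S)⁻¹) = ⁅(⟨x, hx⟩ : S)⁻¹, ⟨b, hb⟩⁆ := by
      rw [commutatorElement_def]; group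
    rw [h3]
    exact Subgroup.commutator_mem_commutator (Subgroup.mem_top _) (Subgroup.mem_top _)
  have hDn := normal_of_le_sup_cent hS hF hQ hD le_rfl (fun x hx b hb => hab x (hD.1 hx) b (hD.1 hb))
  have hDF : F.IsFullyNormalized (Q ⊔ centralizerIn S Q) := FN_of_norm hD.1 (StronglyClosed_normalizer hD)
  have hDc : F.IsCentric (Q ⊔ centralizerIn S Q) := by
    refine centric_of_FC (FN_FC hS hF hDF) fun x hx => ?_
    refine (le_sup_right : centralizerIn S Q ≤ _) (mem_centralizerIn.2 ⟨centralizerIn_le hx, fun y hy => ?_⟩)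
    exact (mem_centralizerIn.1 hx).2 y ((le_sup_left : Q ≤ Q ⊔ _) hy)
  generalize Q ⊔ centralizerIn S Q = D at *
  obtain ⟨E, L, _, ι, hE, hM, -, hemb⟩ := exists_model_norm hS hF hDF hDc
  haveI := hemb.fin
  have hT : normalizerIn S D = S := norm_eq (StronglyClosed_normalizer hD)
  haveI : Finite (normalizerIn S D) := finite_of_le normalizerIn_le
  have hi : ¬ p ∣ ι.range.index := by
    have := hemb.syl.not_dvd
    rwa [Subgroup.relIndex_top_right] at this
  have hL : IsPGroup p L := by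
    have hQT : Q ≤ normalizerIn S D := by rw [hT]; exact hQS
    haveI hQn : ((Q.subgroupOf (normalizerIn S D)).map ι).Normal := im_normal hM ((norm_normal_iff hDn hE).2 hQ)
    refine group_step (hemb.syl.isPGroup.toSylow hi) hM.2.2.2 ((Q.subgroupOf (normalizerIn S D)).map ι) im_le_range ?_ ?_ ?_
    · intro x hx y hy
      obtain ⟨a, ha, rfl⟩ := exists_of_range hx
      obtain ⟨b, hb, rfl⟩ := exists_of_range hy
      refine (mem_im hQT).2 ⟨a⁻¹ * (b * a * b⁻¹), hab a (hT.le ha) b (hT.le hb), ?_⟩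
      rw [ev_mul (Subgroup.inv_mem _ ha) (Subgroup.mul_mem _ (Subgroup.mul_mem _ hb ha) (Subgroup.inv_mem _ hb)), ev_inv ha,
        ev_conj hb ha]
    · rintro y hy
      obtain ⟨x, hx, rfl⟩ := (mem_im hQT).1 hy
      have hxS := hQS hx
      obtain ⟨z, hz, hzx⟩ := h2 hx
      have h3 := frattini_le_comap_frattini_of_surjective (φ := ι.rangeRestrict.comp (Subgroup.inclusion hT.ge)) (by
        rintro ⟨_, t, rfl⟩
        exact ⟨⟨t, hT.le t.2⟩, rfl⟩) hz
      refine ⟨_, h3, ?_⟩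
      show ι (Subgroup.inclusion hT.ge z) = ev ι x
      rw [ev_mem (hQT hx)]
      congr 1
      exact Subtype.ext hzx
    · have hAT : IsPGroup p (F.autGroup (normalizerIn S D)) := by rw [hT]; exact hA
      refine Cfsg.Agent.Lib.PCon.isPGroup_of_forall fun g hg hgo => ?_
      have hg1 : g ∈ Subgroup.normalizer ((((normalizerIn S D).subgroupOf (normalizerIn S D)).map ι : Subgroup L) : Set L) := by
        rw [Subgroup.subgroupOf_self, ← MonoidHom.range_eq_map]; exact hg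
      have h3 := hemb.centralizes le_rfl hAT hg1 hgo
      exact (pprime_eq_one hM.2.1.1 hemb.syl (isPGroup_le hS normalizerIn_le) hM.2.2.2 le_rfl (fun t ht _ => ht)
        (fun x hx => by
          have := h3 x hx
          exact mul_inv_eq_iff_eq_mul.1 this) hgo)
  refine inner_of_aut hS hF hDn hDc ?_ P
  by_contra hcon
  exact not_pNil_model hE hM ⟨hD.1, hcon⟩ (pNil_of_isPGroup hL)

end Cfsg.Agent.Lib.ThfA
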