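
import Cfsg.Agent.Lib.ThfA
import Cfsg.Agent.Lib.ThB

/-!
Thompson's normal `p`-complement theorem for fusion systems, and relatives.
-/

set_option autoImplicit false
set_option linter.unusedSectionVars false
set_option linter.style.haveILetI false
set_option linter.unusedVariables false

namespace Cfsg.Agent.Lib.ThC

open Cfsg Cfsg.FusionSystem Cfsg.Agent.Lib.FusBase Cfsg.Agent.Lib.FusSat Cfsg.Agent.Lib.StrongEmb
open Cfsg.Agent.Lib.FusAlperin Cfsg.Agent.Lib.FusNormal Cfsg.Agent.Lib.FusNormalB Cfsg.Agent.Lib.SylRel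
open Cfsg.Agent.Lib.FusSub Cfsg.Agent.Lib.FusPuig Cfsg.Agent.Lib.FusNK Cfsg.Agent.Lib.FusNKB Cfsg.Agent.Lib.FusMor Cfsg.Agent.Lib.FusGroup
open Cfsg.Agent.Lib.FusHyp Cfsg.Agent.Lib.FusHypB Cfsg.Agent.Lib.FusInv Cfsg.Agent.Lib.FusInvB Cfsg.Agent.Lib.FusModel
open Cfsg.Agent.Lib.MdlA Cfsg.Agent.Lib.MdlB Cfsg.Agent.Lib.MdlC Cfsg.Agent.Lib.MdlD Cfsg.Agent.Lib.PNilp
open Cfsg.Agent.Lib.NilA Cfsg.Agent.Lib.NilB Cfsg.Agent.Lib.NilC Cfsg.Agent.Lib.NilE Cfsg.Agent.Lib.CSecA Cfsg.Agent.Lib.CSecB Cfsg.Agent.Lib.FusSimple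
open Cfsg.Agent.Lib.QfA Cfsg.Agent.Lib.QfB Cfsg.Agent.Lib.QfC Cfsg.Agent.Lib.QfD Cfsg.Agent.Lib.QfE Cfsg.Agent.Lib.QfG Cfsg.Agent.Lib.Involve
open Cfsg.Agent.Lib.ThfA

open scoped commutatorElement

universe u v w

variable {Ω : Type u} [Group Ω] {S : Subgroup Ω} [Finite S] {F : FusionSystem S} {p : ℕ} [Fact p.Prime]
variable {X R Q : Subgroup Ω} {f g : Ω → Ω}

/-- the map has `p`-power order on `R` -/
def PPow (p : ℕ) (R : Subgroup Ω) (f : Ω → Ω) : Prop := ∃ k : ℕ, ∀ x ∈ R, f^[p ^ k] x = x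

theorem iterate_autOf (h : Iso F R R f) (n : ℕ) (x : R) : (((autOf h) ^ n) x : Ω) = f^[n] x := by
  induction n with
  | zero => simp
  | succ n ih =>
    rw [pow_succ', MulAut.mul_apply, autOf_apply, ih, Function.iterate_succ_apply']

theorem iterate_fn (α : MulAut R) (n : ℕ) (x : R) : ((α ^ n) x : Ω) = (fn α)^[n] x := by
  induction n with
  | zero => simp
  | succ n ih =>
    rw [pow_succ', MulAut.mul_apply, Function.iterate_succ_apply', ← ih, fn_apply]

theorem iterate_mem (h : Iso F R R f) {x : Ω} (hx : x ∈ R) (n : ℕ) : f^[n] x ∈ R := by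
  induction n with
  | zero => exact hx
  | succ n ih => rw [Function.iterate_succ_apply']; exact h.map_mem ih

theorem notP_iff : NotP F p R ↔ ∃ f, Iso F R R f ∧ ¬ PPow p R f := by
  constructor
  · rintro ⟨hR, hn⟩
    unfold IsPGroup at hn
    push Not at hn
    obtain ⟨α, hα⟩ := hn
    refine ⟨fn (α : MulAut R), iso_fn hR α.2, ?_⟩
    rintro ⟨k, hk⟩
    apply hα k
    apply Subtype.ext
    apply MulEquiv.ext
    intro x
    apply Subtype.ext
    have := iterate_fn (α : MulAut R) (p ^ k) x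
    rw [hk x x.2] at this
    exact this
  · rintro ⟨f, hf, hn⟩
    refine ⟨hf.le_left, fun h => hn ?_⟩
    obtain ⟨k, hk⟩ := h ⟨autOf hf, autOf_mem hf⟩
    refine ⟨k, fun x hx => ?_⟩
    have h1 : (autOf hf) ^ p ^ k = 1 := congrArg Subtype.val hk
    have h2 := iterate_autOf hf (p ^ k) ⟨x, hx⟩
    rw [h1] at h2
    exact h2.symm

theorem PPow.res (h : PPow p R f) {R' : Subgroup Ω} (hR : R' ≤ R) : PPow p R' f := by
  obtain ⟨k, hk⟩ := h
  exact ⟨k, fun x hx => hk x (hR hx)⟩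

theorem PPow.congr (h : PPow p R f) (hf : Iso F R R f) (hfg : ∀ x ∈ R, f x = g x) : PPow p R g := by
  obtain ⟨k, hk⟩ := h
  refine ⟨k, fun x hx => ?_⟩
  have key : ∀ n : ℕ, g^[n] x = f^[n] x := by
    intro n
    induction n with
    | zero => rfl
    | succ n ih => rw [Function.iterate_succ_apply', Function.iterate_succ_apply', ih, hfg _ (iterate_mem hf hx n)]
  rw [key]; exact hk x hx

/-- `N_F(X)` is not inner -/
def Bad (F : FusionSystem S) (p : ℕ) (X : Subgroup Ω) : Prop :=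
  ∃ (R : Subgroup Ω) (f : Ω → Ω), X ≤ R ∧ R ≤ normalizerIn S X ∧ Iso F R R f ∧ (∀ x ∈ X, f x ∈ X) ∧ ¬ PPow p R f

theorem Bad.le (h : Bad F p X) : X ≤ S := by
  obtain ⟨R, f, h1, h2, h3, -⟩ := h
  exact h1.trans h3.le_left

theorem bad_of_notP (h : NotP F p R) : Bad F p R := by
  obtain ⟨f, hf, hn⟩ := notP_iff.1 h
  exact ⟨R, f, le_rfl, le_normalizerIn hf.le_left, hf, fun x hx => hf.map_mem hx, hn⟩

theorem Bad.ne_bot (h : Bad F p X) : ∃ R, NotP F p R ∧ R ≠ ⊥ := by
  obtain ⟨R, f, h1, h2, h3, h4, h5⟩ := h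
  refine ⟨R, notP_iff.2 ⟨f, h3, h5⟩, ?_⟩
  rintro rfl
  apply h5
  refine ⟨0, fun x hx => ?_⟩
  rw [Subgroup.mem_bot.1 hx, pow_zero, Function.iterate_one, h3.mor.one]

theorem Bad.transport (h : Bad F p X) {X' : Subgroup Ω} (hg : Mor F (normalizerIn S X) g) (hX' : img X g = X')
    (hgN : ∀ x ∈ normalizerIn S X, g x ∈ normalizerIn S X') : Bad F p X' := by
  obtain ⟨R, f, h1, h2, h3, h4, h5⟩ := h
  have hXN : X ≤ normalizerIn S X := h1.trans h2
  obtain ⟨γ, hγ, hγ1, hγ2⟩ := hg.iso.symm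
  have hgR : Mor F R g := hg.restrict h2
  have hi : Iso F R (img R g) g := hgR.iso
  obtain ⟨γ', hγ', hγ'1, hγ'2⟩ := hi.symm
  have hf' : Iso F (img R g) (img R g) (fun y => g (f (γ' y))) := (hγ'.trans h3).trans hi
  refine ⟨img R g, fun y => g (f (γ' y)), ?_, ?_, hf', ?_, ?_⟩
  · rw [← hX']; exact img_mono h1
  · rw [img_le_iff]; exact fun x hx => hgN x (h2 hx)
  · intro y hy
    rw [← hX', (hg.restrict hXN).mem_img] at hy
    obtain ⟨x, hx, rfl⟩ := hy
    show g (f (γ' (g x))) ∈ X'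
    rw [hγ'1 x (h1 hx), ← hX']
    exact mem_img_of_mem (h4 x hx)
  · rintro ⟨k, hk⟩
    apply h5
    refine ⟨k, fun x hx => ?_⟩
    have key : ∀ n : ℕ, (fun y => g (f (γ' y)))^[n] (g x) = g (f^[n] x) := by
      intro n
      induction n with
      | zero => rfl
      | succ n ih =>
        rw [Function.iterate_succ_apply', ih, Function.iterate_succ_apply']
        show g (f (γ' (g (f^[n] x)))) = _
        rw [hγ'1 _ (iterate_mem h3 hx n)]
    have h6 := hk (g x) (mem_img_of_mem hx)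
    rw [key] at h6
    exact hgR.inj (iterate_mem h3 hx _) hx h6

theorem Bad.exists_fn (hS : IsPGroup p S) (hF : F.IsSaturated p) (h : Bad F p X) : ∃ X', Bad F p X' ∧ F.IsFullyNormalized X' ∧
    Nat.card (normalizerIn S X) ≤ Nat.card (normalizerIn S X') ∧ Nat.card X' = Nat.card X := by
  have hXS := h.le
  obtain ⟨X', hcj, hX'⟩ := exists_FN F hXS
  obtain ⟨f₀, hf₀⟩ := isConj_iff.1 hcj
  haveI : Finite X' := finite_of_le hX'.1
  obtain ⟨a, g, ha, hg, hga, hgN⟩ := extend_to_FN hS hF hX' hf₀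
  have hgX : ∀ x ∈ X, g x ∈ X' := fun x hx => by rw [hga x hx]; exact ha.map_mem (hf₀.map_mem hx)
  have himg : img X g = X' := ((hg.restrict (le_normalizerIn hXS)).iso_of_card (Q := X') hgX (hf₀.card_eq.ge)).img_eq
  refine ⟨X', h.transport hg himg hgN, hX', ?_, hf₀.card_eq.symm⟩
  haveI : Finite (normalizerIn S X') := finite_of_le normalizerIn_le
  refine Nat.card_le_card_of_injective (fun y : normalizerIn S X => (⟨g y, hgN y y.2⟩ : normalizerIn S X')) ?_
  intro a b hab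
  exact Subtype.ext (hg.inj a.2 b.2 (congrArg Subtype.val hab))

theorem Bad.notP (h : Bad F p X) {N : FusionSystem (normalizerIn S X)} (hN : F.IsNormalizerSystem X N) : ∃ R, X ≤ R ∧ NotP N p R := by
  haveI : Finite (normalizerIn S X) := finite_of_le normalizerIn_le
  obtain ⟨R, f, h1, h2, h3, h4, h5⟩ := h
  refine ⟨R, h1, notP_iff.2 ⟨f, ⟨mor_norm_of hN h3.mor h1 h2 (fun x hx => h2 (h3.map_mem hx)) h4, h3.img_eq⟩, h5⟩⟩

theorem bad_of_normal {T : Subgroup Ω} {E : FusionSystem T} (hE : ∀ P f, Mor E P f → Mor F P f) {Y : Subgroup Ω} (hY : E.IsNormal Y)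
    (hR : NotP E p R) (hTS : T ≤ S) : Bad F p Y := by
  haveI : Finite T := finite_of_le hTS
  obtain ⟨f, hf, hn⟩ := notP_iff.1 hR
  obtain ⟨hYT, hex⟩ := isNormal_iff.1 hY
  obtain ⟨g, hg, hgf, hgY⟩ := hex R f hf.mor
  have hRY : R ⊔ Y ≤ T := hg.le
  have himg : img (R ⊔ Y) g = R ⊔ Y := by
    rw [img_sup hg, img_congr hgf, hf.img_eq, hgY]
  refine ⟨R ⊔ Y, g, le_sup_right, ?_, ⟨hE _ _ hg, himg⟩, fun x hx => ?_, fun h => hn ?_⟩
  · refine le_inf (hRY.trans hTS) (hRY.trans (StronglyClosed_normalizer (normal_stronglyClosed hY)))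
  · rw [← hgY]; exact mem_img_of_mem hx
  · have h1 : Iso E R R g := hf.congr fun x hx => (hgf x hx).symm
    exact (h.res le_sup_left).congr h1 hgf

/-- the induction hypothesis -/
def TH (p : ℕ) (n : ℕ) : Prop := ∀ (Ω' : Type u) [Group Ω'] (S' : Subgroup Ω') [Finite S'] (E : FusionSystem S'), Nat.card S' < n →
  IsPGroup p S' → E.IsSaturated p → (p ≠ 2 ∨ E.IsSectionFree p (Equiv.Perm (Fin 4))) → (∃ X, NotP E p X) →
  ∃ Q ≤ S', Q ≠ ⊥ ∧ (Q.subgroupOf S').Characteristic ∧ NotP E p Q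

theorem char_normalizer {T Q : Subgroup Ω} (hQT : Q ≤ T) (h : (Q.subgroupOf T).Characteristic) :
    Subgroup.normalizer (T : Set Ω) ≤ Subgroup.normalizer (Q : Set Ω) := by
  have h1 := Cfsg.Agent.Lib.MinAct.normalizer_le_normalizer_char (P := T) (Q.subgroupOf T)
  rwa [Subgroup.map_subgroupOf_eq_of_le hQT] at h1

/-- the first step -/
theorem exists_normal_bad (hS : IsPGroup p S) (hF : F.IsSaturated p) (hfree : p ≠ 2 ∨ F.IsSectionFree p (Equiv.Perm (Fin 4)))
    (ih : TH.{u} p (Nat.card S)) (hne : ∃ X, NotP F p X) : ∃ X, Bad F p X ∧ X ≠ ⊥ ∧ S ≤ Subgroup.normalizer (X : Set Ω) := by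
  classical
  haveI : Finite (Subgroup S) := inferInstance
  -- maximal bad subgroup
  have hfin : Set.Finite {X : Subgroup Ω | Bad F p X ∧ X ≠ ⊥} := by
    refine (Set.finite_range (fun A : Subgroup S => A.map S.subtype)).subset ?_
    rintro X ⟨hX, -⟩
    exact ⟨X.subgroupOf S, Subgroup.map_subgroupOf_eq_of_le hX.le⟩
  obtain ⟨X₀, hX₀⟩ := hne
  obtain ⟨R₀, hR₀, hR₀ne⟩ := (bad_of_notP hX₀).ne_bot
  obtain ⟨X₁, ⟨hX₁, hX₁ne⟩, hmax⟩ := Set.exists_max_image _ (fun X : Subgroup Ω => Nat.card (normalizerIn S X)) hfin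
    ⟨R₀, bad_of_notP hR₀, hR₀ne⟩
  obtain ⟨X, hX, hXF, hle, hcard⟩ := hX₁.exists_fn hS hF
  have hXne : X ≠ ⊥ := by
    intro h
    apply hX₁ne
    rw [h, Subgroup.card_bot] at hcard
    haveI : Finite X₁ := finite_of_le hX₁.le
    exact Subgroup.card_eq_one.1 hcard.symm
  have hmax' : ∀ Y, Bad F p Y → Y ≠ ⊥ → Nat.card (normalizerIn S Y) ≤ Nat.card (normalizerIn S X) :=
    fun Y hY hYne => (hmax Y ⟨hY, hYne⟩).trans hle
  refine ⟨X, hX, hXne, ?_⟩
  by_contra hcon
  have hTS : normalizerIn S X < S := lt_of_le_of_ne normalizerIn_le fun h => hcon (h.ge.trans inf_le_right)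
  obtain ⟨N, hN⟩ := exists_norm F hX.le
  haveI : Finite (normalizerIn S X) := finite_of_le normalizerIn_le
  have hsat := norm_saturated hS hF hXF hN
  have hfree' : p ≠ 2 ∨ N.IsSectionFree p (Equiv.Perm (Fin 4)) := hfree.imp_right fun h => free_norm hS hF h hXF hN
  obtain ⟨R, -, hR⟩ := hX.notP hN
  obtain ⟨Q, hQT, hQne, hQc, hQ⟩ := ih _ _ N (card_lt_of_lt hTS le_rfl) (isPGroup_le hS normalizerIn_le) hsat hfree' ⟨R, hR⟩
  have hQF : NotP F p Q := by
    obtain ⟨f, hf, hn⟩ := notP_iff.1 hQ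
    exact notP_iff.2 ⟨f, ⟨norm_le hN hf.mor, hf.img_eq⟩, hn⟩
  have h1 := hmax' Q (bad_of_notP hQF) hQne
  have h2 : normalizerIn S X < normalizerIn S Q := by
    refine (lt_normalizerIn hS hTS).trans_le ?_
    exact le_inf inf_le_left (inf_le_right.trans (char_normalizer hQT hQc))
  have h3 := card_lt_of_lt h2 normalizerIn_le
  omega

/-- `N_F(X)` as a system over `S` when `X` is normal in `S` -/
theorem norm_over (hS : IsPGroup p S) (hF : F.IsSaturated p) (hX : X ≤ S) (hn : S ≤ Subgroup.normalizer (X : Set Ω)) :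
    ∃ E : FusionSystem S, (∀ P f, Mor E P f → Mor F P f) ∧ E.IsSaturated p ∧ E.IsNormal X ∧
      (∀ P f, X ≤ P → Mor F P f → (∀ x ∈ X, f x ∈ X) → Mor E P f) ∧
      (F.IsSectionFree p (Equiv.Perm (Fin 4)) → E.IsSectionFree p (Equiv.Perm (Fin 4))) := by
  obtain ⟨N, hN⟩ := exists_norm F hX
  have hXF : F.IsFullyNormalized X := FN_of_norm hX hn
  have hT : normalizerIn S X = S := norm_eq hn
  have h1 : ∀ P f, Mor N P f → Mor F P f := fun P f hf => norm_le hN hf
  have h2 := norm_saturated hS hF hXF hN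
  have h3 := norm_isNormal hX hN
  have h4 : ∀ P f, X ≤ P → Mor F P f → (∀ x ∈ X, f x ∈ X) → Mor N P f := fun P f hXP hf hfX =>
    mor_norm_of hN hf hXP (by rw [hT]; exact hf.le) (fun x hx => by rw [hT]; exact hf.mem hx) hfX
  have h5 : F.IsSectionFree p (Equiv.Perm (Fin 4)) → N.IsSectionFree p (Equiv.Perm (Fin 4)) := fun h => free_norm hS hF h hXF hN
  clear hN
  generalize normalizerIn S X = T at N hT
  subst hT
  exact ⟨N, h1, h2, h3, h4, h5⟩

/-- the model of a constrained system -/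
theorem model_over (hS : IsPGroup p S) (hF : F.IsSaturated p) (hX : F.IsNormal X) (hc : F.IsCentric X) :
    ∃ (L : Type u) (_ : Group L) (ι : S →* L), F.IsModel p L ι ∧ Emb F p S L ι ∧ (NotP F p X → ¬ PNil p L) ∧
      (F.IsSectionFree p (Equiv.Perm (Fin 4)) → ¬ Involves (Equiv.Perm (Fin 4)) L) := by
  have hXsc := normal_stronglyClosed hX
  have hXF : F.IsFullyNormalized X := FN_of_norm hXsc.1 (StronglyClosed_normalizer hXsc)
  have hT : normalizerIn S X = S := norm_eq (StronglyClosed_normalizer hXsc)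
  obtain ⟨E, L, instL, ι, hE, hM, -, hemb⟩ := exists_model_norm hS hF hXF hc
  have h1 : ∀ P, E.Hom P = F.Hom P := norm_hom_eq hX hE
  have h2 : NotP F p X → ¬ PNil p L := fun h => not_pNil_model hE hM h
  have h3 : F.IsSectionFree p (Equiv.Perm (Fin 4)) → ¬ Involves (Equiv.Perm (Fin 4)) L := fun h => h X hXF hc E hE L ι hM
  clear hE
  generalize normalizerIn S X = T at E ι hT
  subst hT
  have hEF : E = F := by
    refine le_antisymm' ?_ ?_
    · intro P φ hφ; rw [← h1]; exact hφ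
    · intro P φ hφ; rw [h1]; exact hφ
  subst hEF
  exact ⟨L, instL, ι, hM, hemb, h2, h3⟩

/-- realized systems embed -/
theorem emb_of_real {L : Type v} [Group L] [Finite L] {ι : S →* L} (hr : F.IsRealizedBy ι) (hsyl : SylIn p ι.range ⊤) : Emb F p S L ι :=
  ⟨inferInstance, le_rfl, hr.1, hsyl, fun P f g hP hf hfg => (mor_real hr).2 ⟨hP, hf, g, hfg⟩⟩

/-- the factor system -/
theorem exists_factor (hS : IsPGroup p S) (hF : F.IsSaturated p) (hX : F.StronglyClosed X) :
    ∃ (Ω' : Type u) (_ : Group Ω') (θ : S →* Ω') (E : FusionSystem (⊤ : Subgroup Ω')), F.IsFactorSystem X θ E ∧ ker' θ = X ∧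
      Function.Surjective θ ∧ Finite Ω' := by
  haveI : (X.subgroupOf S).Normal := ⟨fun x hx g => StronglyClosed_conj hX g.2 hx⟩
  have hker : ker' (QuotientGroup.mk' (X.subgroupOf S)) = X := by
    ext x
    rw [mem_ker']
    constructor
    · rintro ⟨h1, h2⟩
      rw [ev_mem h1] at h2
      exact (QuotientGroup.eq_one_iff (⟨x, h1⟩ : S)).1 h2
    · intro hx
      refine ⟨hX.1 hx, ?_⟩
      rw [ev_mem (hX.1 hx)]
      exact (QuotientGroup.eq_one_iff (⟨x, hX.1 hx⟩ : S)).2 hx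
  obtain ⟨E, hE⟩ := factor_exists (F := F) (S₀ := X) (θ := QuotientGroup.mk' (X.subgroupOf S)) (S' := ⊤) hX hker
    (MonoidHom.range_eq_top.2 (QuotientGroup.mk'_surjective _))
  exact ⟨S ⧸ X.subgroupOf S, inferInstance, QuotientGroup.mk' (X.subgroupOf S), E, hE, hker, QuotientGroup.mk'_surjective _, inferInstance⟩

/-- the key step -/
theorem exists_key (hS : IsPGroup p S) (hF : F.IsSaturated p) (hfree : p ≠ 2 ∨ F.IsSectionFree p (Equiv.Perm (Fin 4)))
    (ih : TH.{u} p (Nat.card S)) (hne : ∃ X, NotP F p X) :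
    ∃ (E : FusionSystem S) (X : Subgroup Ω) (L : Type u) (_ : Group L) (ι : S →* L), (∀ P f, Mor E P f → Mor F P f) ∧ E.IsSaturated p ∧
      E.IsNormal X ∧ E.IsCentric X ∧ NotP E p X ∧ Emb E p S L ι ∧ ¬ PNil p L ∧
      Subgroup.centralizer ((pCore p L : Subgroup L) : Set L) ≤ pCore p L ∧ PNil p (L ⧸ pCore p L) ∧
      (p ≠ 2 ∨ ¬ Involves (Equiv.Perm (Fin 4)) L) := by
  classical
  haveI : Finite (Subgroup S) := inferInstance
  have hfin : Set.Finite {X : Subgroup Ω | Bad F p X ∧ X ≠ ⊥ ∧ S ≤ Subgroup.normalizer (X : Set Ω)} := by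
    refine (Set.finite_range (fun A : Subgroup S => A.map S.subtype)).subset ?_
    rintro X ⟨hX, -⟩
    exact ⟨X.subgroupOf S, Subgroup.map_subgroupOf_eq_of_le hX.le⟩
  obtain ⟨X, ⟨hX, hXne, hXn⟩, hmax⟩ := Set.exists_max_image _ (fun X : Subgroup Ω => Nat.card X) hfin
    (by obtain ⟨X, h1, h2, h3⟩ := exists_normal_bad hS hF hfree ih hne; exact ⟨X, h1, h2, h3⟩)
  have hXS := hX.le
  have hA : ∀ R : Subgroup Ω, X < R → S ≤ Subgroup.normalizer (R : Set Ω) → ¬ Bad F p R := by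
    intro R hR hRn hRb
    have h1 := hmax R ⟨hRb, ne_bot_of_gt hR, hRn⟩
    haveI : Finite R := finite_of_le hRb.le
    have h2 := card_lt_of_lt hR (le_refl R)
    omega
  obtain ⟨E, hEF, hEs, hXE, hEmor, hEf⟩ := norm_over hS hF hXS hXn
  have hEfree : p ≠ 2 ∨ E.IsSectionFree p (Equiv.Perm (Fin 4)) := hfree.imp_right hEf
  obtain ⟨R₀, f₀, hXR₀, -, hf₀, hf₀X, hf₀n⟩ := hX
  have hR₀ : NotP E p R₀ := notP_iff.2 ⟨f₀, ⟨hEmor _ _ hXR₀ hf₀.mor hf₀X, hf₀.img_eq⟩, hf₀n⟩
  have hXsc := normal_stronglyClosed hXE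
  -- `X = O_p(E)`
  have hB : ∀ Y, E.IsNormal Y → Y ≤ X := by
    intro Y hY
    have h1 := normal_sup hY hXE
    have h2 : Bad F p (Y ⊔ X) := bad_of_normal hEF h1 hR₀ le_rfl
    by_contra hcon
    exact hA (Y ⊔ X) (lt_of_le_of_ne le_sup_right fun h => hcon (h.ge.trans' le_sup_left))
      (StronglyClosed_normalizer (normal_stronglyClosed h1)) h2
  -- the factor system
  obtain ⟨Ω', _, θ, E', hE', hker, hθ, hfinΩ⟩ := exists_factor hS hEs hXsc
  have hα := surj_of_factor hS hEs hXsc hE'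
  have hEs' := sat_of_surj hS hEs hα
  have hS' : IsPGroup p (⊤ : Subgroup Ω') := (hS.of_surjective θ hθ).to_subgroup ⊤
  have hS'' : IsPGroup p Ω' := hS.of_surjective θ hθ
  have hcard : Nat.card (⊤ : Subgroup Ω') < Nat.card S := by
    have h1 := card_preimage (α := θ) (P' := ⊤) (by rw [MonoidHom.range_eq_top.2 hθ])
    have h2 : preimageAlong θ ⊤ = S :=
      le_antisymm preimageAlong_le fun x hx => mem_preimageAlong.2 ⟨hx, Subgroup.mem_top _⟩
    rw [h2, hker] at h1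
    haveI : Finite X := finite_of_le hXS
    have h3 : 1 < Nat.card X := (Subgroup.one_lt_card_iff_ne_bot X).2 hXne
    have h4 : 0 < Nat.card (⊤ : Subgroup Ω') := Nat.card_pos
    rw [h1]
    nlinarith
  have hEfree' : p ≠ 2 ∨ E'.IsSectionFree p (Equiv.Perm (Fin 4)) := hEfree.imp_right fun h => free_factor hS hEs hXE h hE'
  -- the factor system is inner
  have hC : ∀ Y, ¬ NotP E' p Y := by
    intro Y hY
    obtain ⟨Q, -, hQne, hQc, hQ⟩ := ih _ _ E' hcard hS' hEs' hEfree' ⟨Y, hY⟩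
    obtain ⟨f', hf', hn'⟩ := notP_iff.1 hQ
    obtain ⟨f, hf, hff⟩ := mor_lift hα hf'.mor
    haveI : Finite (preimageAlong θ Q) := finite_of_le preimageAlong_le
    have hfi : Iso E (preimageAlong θ Q) (preimageAlong θ Q) f := by
      refine hf.iso_of_map fun x hx => mem_preimageAlong.2 ⟨hf.mem hx, ?_⟩
      rw [← hff x hx]
      exact hf'.map_mem (mem_preimageAlong.1 hx).2
    have hkey : ∀ (n : ℕ), ∀ x ∈ preimageAlong θ Q, f'^[n] (ev θ x) = ev θ (f^[n] x) := by
      intro n x hx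
      induction n with
      | zero => rfl
      | succ n ih => rw [Function.iterate_succ_apply', Function.iterate_succ_apply', ih, hff _ (iterate_mem hfi hx n)]
    have hnP : NotP F p (preimageAlong θ Q) := by
      refine notP_iff.2 ⟨f, ⟨hEF _ _ hfi.mor, hfi.img_eq⟩, fun h => hn' ?_⟩
      obtain ⟨k, hk⟩ := h
      refine ⟨k, fun y hy => ?_⟩
      obtain ⟨x, hx, rfl⟩ := exists_ev_pre hα (le_top : Q ≤ ⊤) hy
      rw [hkey _ x hx, hk x hx]
    have hXR : X < preimageAlong θ Q := by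
      refine lt_of_le_of_ne ?_ ?_
      · intro x hx
        rw [← hker, mem_ker'] at hx
        exact mem_preimageAlong.2 ⟨hx.1, by rw [hx.2]; exact Subgroup.one_mem _⟩
      · intro h
        apply hQne
        rw [eq_bot_iff]
        intro y hy
        obtain ⟨x, hx, rfl⟩ := exists_ev_pre hα (le_top : Q ≤ ⊤) hy
        rw [← h, ← hker, mem_ker'] at hx
        rw [Subgroup.mem_bot]; exact hx.2
    refine hA _ hXR ?_ (bad_of_notP hnP)
    intro s hs
    refine mem_normalizer_of_conj_mem fun x hx => ?_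
    obtain ⟨hxS, hxQ⟩ := mem_preimageAlong.1 hx
    refine mem_preimageAlong.2 ⟨S.mul_mem (S.mul_mem hs hxS) (S.inv_mem hs), ?_⟩
    rw [ev_conj hs hxS]
    have h1 := char_normalizer (le_top : Q ≤ ⊤) hQc
    have h2 : ev θ s ∈ Subgroup.normalizer (Q : Set Ω') := h1 (Subgroup.le_normalizer (Subgroup.mem_top _))
    exact (Subgroup.mem_normalizer_iff.1 h2 _).1 hxQ
  have hinner : ∀ P, E'.Hom P = (innerFusionSystem (⊤ : Subgroup Ω')).Hom P := by
    intro P
    refine inner_of_isPGroup hS' hEs' (fun Y hY => ?_) P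
    by_contra hcon
    exact hC Y ⟨hY, hcon⟩
  -- `C_S(X) ≤ X`
  have hD := stronglyClosed_sup_centralizer hS hEs hXsc
  have hXD : ker' θ ≤ X ⊔ centralizerIn S X := by rw [hker]; exact le_sup_left
  have hD' := sc_image hα hD hXD
  have hcent : centralizerIn S X ≤ X := by
    have hWsc : E'.StronglyClosed (imageAlong θ (X ⊔ centralizerIn S X) ⊓ Subgroup.center Ω') := by
      rw [stronglyClosed_iff]
      refine ⟨le_top, fun P f hf x hx hxD => ?_⟩
      rw [mor_of_hom_eq (hinner P)] at hf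
      obtain ⟨-, q, -, hqf⟩ := mor_inner.1 hf
      have h1 : f x = x := by
        rw [hqf x hx, Subgroup.mem_center_iff.1 hxD.2 q]; group
      rw [h1]; exact hxD
    have hW := sc_preimage hα hWsc
    have hWD : preimageAlong θ (imageAlong θ (X ⊔ centralizerIn S X) ⊓ Subgroup.center Ω') ≤ X ⊔ centralizerIn S X := by
      intro x hx
      have h1 : x ∈ preimageAlong θ (imageAlong θ (X ⊔ centralizerIn S X)) :=
        mem_preimageAlong.2 ⟨preimageAlong_le hx, (mem_preimageAlong.1 hx).2.1⟩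
      rwa [preimage_image hD.1 hXD] at h1
    have hWn := normal_of_le_sup_cent hS hEs hXE hW hWD (fun x hx b hb => by
      rw [← hker, mem_ker']
      have hxS := preimageAlong_le hx
      have hbS := preimageAlong_le hb
      refine ⟨S.mul_mem (S.inv_mem hxS) (S.mul_mem (S.mul_mem hbS hxS) (S.inv_mem hbS)), ?_⟩
      have h1 := Subgroup.mem_center_iff.1 (mem_preimageAlong.1 hx).2.2 (ev θ b)
      rw [ev_mul (S.inv_mem hxS) (S.mul_mem (S.mul_mem hbS hxS) (S.inv_mem hbS)), ev_conj hbS hxS, h1, ev_inv hxS]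
      group)
    have hWX := hB _ hWn
    by_contra hcon
    have hne : imageAlong θ (X ⊔ centralizerIn S X) ≠ ⊥ := by
      intro h
      apply hcon
      intro c hc
      have h1 : ev θ c ∈ imageAlong θ (X ⊔ centralizerIn S X) := ev_mem_imageAlong hD.1 ((le_sup_right : centralizerIn S X ≤ _) hc)
      rw [h, Subgroup.mem_bot] at h1
      rw [← hker, mem_ker']
      exact ⟨centralizerIn_le hc, h1⟩
    haveI hDn : (imageAlong θ (X ⊔ centralizerIn S X)).Normal :=
      ⟨fun x hx g => StronglyClosed_conj hD' (Subgroup.mem_top g) hx⟩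
    haveI : Group.IsNilpotent Ω' := hS''.isNilpotent
    apply Cfsg.Agent.Lib.Nilp.normal_inf_center_ne_bot (imageAlong θ (X ⊔ centralizerIn S X)) hne
    rw [eq_bot_iff]
    intro y hy
    obtain ⟨x, hx, rfl⟩ := exists_ev_pre hα (le_top : imageAlong θ (X ⊔ centralizerIn S X) ⊓ Subgroup.center Ω' ≤ ⊤) hy
    have h1 := hWX hx
    rw [← hker, mem_ker'] at h1
    rw [Subgroup.mem_bot]; exact h1.2
  have hXEF : E.IsFullyNormalized X := FN_of_norm hXS hXn
  have hXc : E.IsCentric X := centric_of_FC (FN_FC hS hEs hXEF) hcent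
  have hXn' : NotP E p X := by
    refine ⟨hXS, fun h => ?_⟩
    have h1 := inner_of_aut hS hEs hXE hXc h
    exact hR₀.2 (isPGroup_of_inner hS h1 hR₀.1)
  obtain ⟨L, _, ι, hM, hemb, hLn, hLf⟩ := model_over hS hEs hXE hXc
  haveI := hemb.fin
  refine ⟨E, X, L, _, ι, hEF, hEs, hXE, hXc, hXn', hemb, hLn hXn', hM.2.2.2, ?_, hEfree.imp_right hLf⟩
  -- `L / O_p(L)`
  haveI hOLn := Cfsg.Agent.Lib.Cores.pCore_normal (G := L) p
  have hBn : ((X.subgroupOf S).map ι).Normal := by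
    refine ⟨fun x hx g => ?_⟩
    obtain ⟨y, hy, rfl⟩ := (mem_im hXS).1 hx
    obtain ⟨f, hf, hfg⟩ := conj_core hXE hM g
    rw [hfg y hy]
    exact (mem_im hXS).2 ⟨f y, hf.map_mem hy, rfl⟩
  obtain ⟨θ₁, hθ₁, hev⟩ := real_factor hE' hM.2.1 (B := (X.subgroupOf S).map ι) rfl
  have hsyl : SylIn p θ₁.range ⊤ := by
    have h1 := sylIn_quot hemb.syl ((X.subgroupOf S).map ι)
    have h2 : θ₁.range = ι.range.map (QuotientGroup.mk' ((X.subgroupOf S).map ι)) := by
      apply le_antisymm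
      · rintro _ ⟨⟨y, -⟩, rfl⟩
        obtain ⟨x, rfl⟩ := hθ y
        refine ⟨ι x, ⟨x, rfl⟩, ?_⟩
        have h3 := hev x x.2
        rw [ev_apply (α := ι), ev_apply (α := θ), ev_mem (Subgroup.mem_top _)] at h3
        exact h3.symm
      · rintro _ ⟨_, ⟨x, rfl⟩, rfl⟩
        have h3 := hev x x.2
        rw [ev_apply (α := ι), ev_apply (α := θ), ev_mem (Subgroup.mem_top _)] at h3
        exact ⟨_, h3⟩
    rw [h2]; exact h1
  have hemb' := emb_of_real hθ₁ hsyl
  have hq : PNil p (L ⧸ (X.subgroupOf S).map ι) := by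
    by_contra hcon
    obtain ⟨P, -, hP⟩ := hemb'.exists_notP hcon
    exact hC P hP
  have hle : (X.subgroupOf S).map ι ≤ pCore p L :=
    Cfsg.Agent.Lib.Cores.le_pCore hBn (hemb.syl.isPGroup.to_le im_le_range)
  refine hq.of_surjective (QuotientGroup.map _ _ (MonoidHom.id L) (by rw [Subgroup.comap_id]; exact hle)) ?_
  intro y
  obtain ⟨x, rfl⟩ := QuotientGroup.mk'_surjective _ y
  exact ⟨QuotientGroup.mk' _ x, rfl⟩

/-- a minimal non-`p`-nilpotent group in a group of characteristic `p` -/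
theorem exists_min_of_emb (hS : IsPGroup p S) {L : Type u} [Group L] {ι : S →* L} (hemb : Emb F p S L ι) (hLn : ¬ PNil p L)
    (hLc : Subgroup.centralizer ((pCore p L : Subgroup L) : Set L) ≤ pCore p L) (hLq : PNil p (L ⧸ pCore p L))
    (hLf : p ≠ 2 ∨ ¬ Involves (Equiv.Perm (Fin 4)) L) :
    ∃ (H : Type u) (_ : Group H) (ι : S →* H), Emb F p S H ι ∧ ¬ PNil p H ∧ IsCoatom ι.range ∧
      Subgroup.centralizer ((pCore p H : Subgroup H) : Set H) ≤ pCore p H ∧ PNil p (H ⧸ pCore p H) ∧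
      (p ≠ 2 ∨ ¬ Involves (Equiv.Perm (Fin 4)) H) := by
  haveI := hemb.fin
  classical
  let A : Set (Subgroup L) := {H | ι.range ≤ H ∧ ¬ PNil p H}
  have hAne : A.Nonempty := ⟨⊤, le_top, fun h => hLn (h.of_equiv Subgroup.topEquiv)⟩
  obtain ⟨H, ⟨hH, hHn⟩, hmin⟩ := Set.exists_min_image A (fun H => Nat.card H) (Set.toFinite A) hAne
  have hsub := hemb.sub hH
  set κ : S →* H := ι.codRestrict H fun x => hH ⟨x, rfl⟩ with hκ
  haveI hOLn := Cfsg.Agent.Lib.Cores.pCore_normal (G := L) p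
  haveI hOHn := Cfsg.Agent.Lib.Cores.pCore_normal (G := H) p
  have hOL : pCore p L ≤ ι.range := pCore_le_syl hemb.syl
  have hc : Subgroup.centralizer ((pCore p H : Subgroup H) : Set H) ≤ pCore p H := by
    intro x hx
    apply Cfsg.Agent.Lib.Cores.pCore_subgroupOf_le H
    show (x : L) ∈ pCore p L
    apply hLc
    rw [Subgroup.mem_centralizer_iff]
    intro y hy
    have hy' : (⟨y, hH (hOL hy)⟩ : H) ∈ pCore p H := Cfsg.Agent.Lib.Cores.pCore_subgroupOf_le H hy
    exact congrArg Subtype.val (Subgroup.mem_centralizer_iff.1 hx _ hy')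
  have hpC : pCore p H ≤ κ.range := pCore_le_syl hsub.syl
  have hcoatom : IsCoatom κ.range := by
    constructor
    · intro h
      apply hHn
      have h1 : IsPGroup p (⊤ : Subgroup H) := h ▸ hsub.syl.isPGroup
      exact (pNil_of_isPGroup h1).of_equiv Subgroup.topEquiv
    · intro K hSK
      by_contra hK
      have h1 : ¬ PNil p K := by
        intro h1
        have h2 : IsPGroup p K := isPGroup_of_pNil hc (hpC.trans hSK.le) h1
        have h3 := hsub.syl.card_le le_top h2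
        exact absurd (Cfsg.Agent.Lib.Basic.card_lt_card_of_lt hSK) (not_lt.2 h3)
      have h2 : ¬ PNil p (K.map H.subtype) := fun h => h1 (h.of_injective (H.subtype.subgroupMap K) (by
        intro a b hab
        have h3 := congrArg (fun z : (K.map H.subtype : Subgroup L) => (z : L)) hab
        exact Subtype.ext (H.subtype_injective h3)))
      have h3 : ι.range ≤ K.map H.subtype := by
        rintro _ ⟨x, rfl⟩
        exact ⟨κ x, hSK.le ⟨x, rfl⟩, rfl⟩
      have h4 := hmin _ ⟨h3, h2⟩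
      have h5 : Nat.card (K.map H.subtype) = Nat.card K := Subgroup.card_map_of_injective H.subtype_injective
      rw [h5] at h4
      have h6 : Nat.card K < Nat.card H := Cfsg.Agent.Lib.Basic.card_lt_of_ne_top hK
      omega
  refine ⟨H, inferInstance, κ, hsub, hHn, hcoatom, hc, ?_, hLf.imp_right fun h1 h2 => h1 (involves_trans h2 (involves_subgroup H))⟩
  -- the quotient
  have h1 : PNil p (H ⧸ (pCore p L).subgroupOf H) := by
    refine hLq.of_injective (QuotientGroup.map _ _ H.subtype le_rfl) ?_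
    rw [← MonoidHom.ker_eq_bot_iff, eq_bot_iff]
    intro y hy
    obtain ⟨x, rfl⟩ := QuotientGroup.mk'_surjective _ y
    rw [MonoidHom.mem_ker] at hy
    have h2 : QuotientGroup.mk' (pCore p L) (x : L) = 1 := hy
    rw [Subgroup.mem_bot]
    exact (QuotientGroup.eq_one_iff x).2 ((QuotientGroup.eq_one_iff (x : L)).1 h2)
  refine h1.of_surjective (QuotientGroup.map _ _ (MonoidHom.id H) (by rw [Subgroup.comap_id]; exact Cfsg.Agent.Lib.Cores.pCore_subgroupOf_le H)) ?_
  intro y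
  obtain ⟨x, rfl⟩ := QuotientGroup.mk'_surjective _ y
  exact ⟨QuotientGroup.mk' _ x, rfl⟩

/-- restriction to a smaller system -/
theorem emb_mono {E : FusionSystem S} (hEF : ∀ P f, Mor E P f → Mor F P f) {L : Type v} [Group L] {ι : S →* L} (h : Emb E p S L ι) :
    Emb F p S L ι := ⟨h.fin, h.le, h.inj, h.syl, fun P f g hP hf hfg => hEF _ _ (h.mor P f g hP hf hfg)⟩

theorem exists_min (hS : IsPGroup p S) (hF : F.IsSaturated p) (hfree : p ≠ 2 ∨ F.IsSectionFree p (Equiv.Perm (Fin 4)))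
    (ih : TH.{u} p (Nat.card S)) (hne : ∃ X, NotP F p X) :
    ∃ (H : Type u) (_ : Group H) (ι : S →* H), Emb F p S H ι ∧ ¬ PNil p H ∧ IsCoatom ι.range ∧
      Subgroup.centralizer ((pCore p H : Subgroup H) : Set H) ≤ pCore p H ∧ PNil p (H ⧸ pCore p H) ∧
      (p ≠ 2 ∨ ¬ Involves (Equiv.Perm (Fin 4)) H) := by
  obtain ⟨E, X, L, _, ι, hEF, -, -, -, -, hemb, h1, h2, h3, h4⟩ := exists_key hS hF hfree ih hne
  exact exists_min_of_emb hS (emb_mono hEF hemb) h1 h2 h3 h4

/-! ### the Thompson subgroup -/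

/-- the Thompson subgroup as a functor -/
abbrev jaf : ∀ (Q : Type u) [Group Q], Subgroup Q := fun Q _ => thompsonSubgroupA Q

theorem mem_maxAb {P : Type u} [Group P] {A : Subgroup P} : A ∈ maxAbelianSubgroups P ↔ A ∈ Cfsg.Agent.Lib.ZJ.Fam 0 (⊤ : Subgroup P) := by
  constructor
  · rintro ⟨hA, hm⟩
    refine ⟨le_top, ⟨fun x hx y hy => congrArg Subtype.val (hA.is_comm.comm (⟨x, hx⟩ : A) ⟨y, hy⟩), fun x _ => pow_zero x⟩, fun B _ hB => hm B ⟨⟨fun a b => Subtype.ext (hB.1 a a.2 b b.2)⟩⟩⟩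
  · rintro ⟨-, hA, hm⟩
    refine ⟨⟨⟨fun a b => Subtype.ext (hA.1 a a.2 b b.2)⟩⟩, fun B hB => hm B le_top ⟨fun x hx y hy => congrArg Subtype.val (hB.is_comm.comm (⟨x, hx⟩ : B) ⟨y, hy⟩), fun x _ => pow_zero x⟩⟩

theorem jaf_eq (P : Type u) [Group P] : thompsonSubgroupA P = sSup (Cfsg.Agent.Lib.ZJ.Fam 0 (⊤ : Subgroup P)) := by
  unfold thompsonSubgroupA
  congr 1
  ext A; exact mem_maxAb

theorem jaf_char : IsCharPFunctor.{u} p jaf := by
  refine ⟨fun Q _ _ hQ hn h => ?_, fun Q R _ _ _ hQ φ => ?_⟩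
  · -- the centre is nontrivial
    have h0 : thompsonSubgroupA Q = ⊥ := h
    rw [jaf_eq] at h0
    obtain ⟨A, hA⟩ := Cfsg.Agent.Lib.ZJ.exists_fam 0 (⊤ : Subgroup Q)
    have hA0 : A = ⊥ := eq_bot_iff.2 (h0 ▸ le_sSup hA)
    have hc : Nontrivial (Subgroup.center Q) := hQ.center_nontrivial
    have h1 := hA.2.2 (Subgroup.center Q) le_top ⟨fun x hx y hy => (Subgroup.mem_center_iff.1 hx y).symm, fun x _ => pow_zero x⟩
    rw [hA0, Subgroup.card_bot] at h1
    have h2 := Finite.one_lt_card (α := Subgroup.center Q)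
    omega
  · show (thompsonSubgroupA Q).map φ.toMonoidHom = thompsonSubgroupA R
    rw [jaf_eq, jaf_eq, (Subgroup.gc_map_comap φ.toMonoidHom).l_sSup]
    apply le_antisymm
    · refine iSup₂_le fun A hA => ?_
      have := Cfsg.Agent.Lib.ZJ.fam_map φ hA
      rw [Subgroup.map_top_of_surjective _ φ.surjective] at this
      exact le_sSup this
    · refine sSup_le fun B hB => ?_
      have := Cfsg.Agent.Lib.ZJ.fam_map φ.symm hB
      rw [Subgroup.map_top_of_surjective _ φ.symm.surjective] at this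
      refine le_trans ?_ (le_iSup₂ _ this)
      intro x hx
      exact ⟨φ.symm x, ⟨x, hx, rfl⟩, φ.apply_symm_apply x⟩

theorem ja_eq (D : Subgroup Ω) : thompsonSubgroupAOf D = inducedFunctor (G := Ω) jaf D := rfl

theorem ja_le (D : Subgroup Ω) : thompsonSubgroupAOf D ≤ D := Subgroup.map_subtype_le _

theorem ja_cent {D : Subgroup Ω} [Finite D] {t : Ω} (ht : t ∈ D) (h : ∀ x ∈ thompsonSubgroupAOf D, x * t = t * x) :
    t ∈ thompsonSubgroupAOf D := by
  rw [Cfsg.Agent.Lib.ZJ.thompsonA_eq] at h ⊢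
  have hex : ∃ A, A ∈ Cfsg.Agent.Lib.ZJ.Fam 0 D := by
    obtain ⟨A, hA⟩ := Cfsg.Agent.Lib.ZJ.exists_fam 0 (⊤ : Subgroup D)
    refine ⟨A.map D.subtype, Subgroup.map_subtype_le _, ?_, fun B hB hBa => ?_⟩
    · exact hA.2.1.map _
    · have h1 := hA.2.2 (B.subgroupOf D) le_top (hBa.comap D.subtype D.subtype_injective)
      rw [Subgroup.card_map_of_injective D.subtype_injective]
      rwa [Nat.card_congr (Subgroup.subgroupOfEquivOfLe hB).toEquiv] at h1
  obtain ⟨A, hA⟩ := hex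
  refine le_sSup hA ?_
  -- the abelian subgroup generated by `A` and `t`
  have hcomm : ∀ x ∈ A ⊔ Subgroup.zpowers t, ∀ y ∈ A ⊔ Subgroup.zpowers t, x * y = y * x := by
    have key : A ⊔ Subgroup.zpowers t ≤ Subgroup.centralizer ((A ⊔ Subgroup.zpowers t : Subgroup Ω) : Set Ω) := by
      rw [Cfsg.Agent.Lib.QuadA.centralizer_sup]
      have h1 : t ∈ Subgroup.centralizer (A : Set Ω) := Subgroup.mem_centralizer_iff.2 fun y hy => h y (le_sSup hA hy)
      refine sup_le (le_inf ?_ ?_) (le_inf ?_ ?_)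
      · intro x hx; exact Subgroup.mem_centralizer_iff.2 fun y hy => hA.2.1.1 y hy x hx
      · rw [Subgroup.le_centralizer_iff, Subgroup.zpowers_le]; exact h1
      · rw [Subgroup.zpowers_le]; exact h1
      · rw [Subgroup.zpowers_le]
        refine Subgroup.mem_centralizer_iff.2 fun y hy => ?_
        obtain ⟨n, rfl⟩ := Subgroup.mem_zpowers_iff.1 hy
        exact (Commute.refl t).zpow_left n
    intro x hx y hy
    exact (Subgroup.mem_centralizer_iff.1 (key hx) y hy).symm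
  have h2 := hA.2.2 (A ⊔ Subgroup.zpowers t) (sup_le hA.1 (Subgroup.zpowers_le.2 ht)) ⟨hcomm, fun x _ => pow_zero x⟩
  haveI : Finite (A ⊔ Subgroup.zpowers t : Subgroup Ω) := finite_of_le' (sup_le hA.1 (Subgroup.zpowers_le.2 ht))
  have h3 : A = A ⊔ Subgroup.zpowers t := Subgroup.eq_of_le_of_card_ge le_sup_left h2
  rw [h3]
  exact (le_sup_right : Subgroup.zpowers t ≤ _) (Subgroup.mem_zpowers t)

/-- if the large abelian subgroups lie in `O_p`, the Thompson subgroup is normal -/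
theorem ja_normal {M : Type u} [Group M] [Finite M] {P : Subgroup M} (hP : SylIn p P ⊤)
    (h : ∀ A ∈ Cfsg.Agent.Lib.ZJ.Fam 0 P, A ≤ pCore p M) : (thompsonSubgroupAOf P).Normal := by
  haveI hOn := Cfsg.Agent.Lib.Cores.pCore_normal (G := M) p
  have hQP : pCore p M ≤ P := pCore_le_syl hP
  have hfam : Cfsg.Agent.Lib.ZJ.Fam 0 P = Cfsg.Agent.Lib.ZJ.Fam 0 (pCore p M) := by
    ext A
    constructor
    · rintro hA
      exact ⟨h A hA, hA.2.1, fun B hB hBa => hA.2.2 B (hB.trans hQP) hBa⟩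
    · rintro hA
      refine ⟨hA.1.trans hQP, hA.2.1, fun B hB hBa => ?_⟩
      obtain ⟨A₁, hA₁⟩ := Cfsg.Agent.Lib.ZJ.exists_fam 0 P
      have h1 := hA₁.2.2 B hB hBa
      exact h1.trans (hA.2.2 A₁ (h A₁ hA₁) hA₁.2.1)
  rw [Cfsg.Agent.Lib.ZJ.thompsonA_eq, hfam]
  have hpres : ∀ g : M, (sSup (Cfsg.Agent.Lib.ZJ.Fam 0 (pCore p M))).map (MulAut.conj g).toMonoidHom ≤
      sSup (Cfsg.Agent.Lib.ZJ.Fam 0 (pCore p M)) := by
    intro g
    rw [(Subgroup.gc_map_comap (MulAut.conj g).toMonoidHom).l_sSup]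
    refine iSup₂_le fun A hA => ?_
    have h1 := Cfsg.Agent.Lib.ZJ.fam_map (MulAut.conj g) hA
    have h2 : (pCore p M).map (MulAut.conj g).toMonoidHom = pCore p M := by
      apply Cfsg.Agent.Lib.ZJ.map_conj_eq_of_mem
      rw [Subgroup.normalizer_eq_top_iff.2 hOn]; exact Subgroup.mem_top _
    rw [h2] at h1
    exact le_sSup h1
  exact ⟨fun x hx g => hpres g ⟨x, hx, rfl⟩⟩

theorem ja_im (hS : IsPGroup p S) {L : Type u} [Group L] {ι : S →* L} (hι : Function.Injective ι) :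
    ((thompsonSubgroupAOf S).subgroupOf S).map ι = thompsonSubgroupAOf ι.range := by
  have h1 := ind_im jaf_char hS hι (le_refl S)
  rw [← ja_eq, Subgroup.subgroupOf_self, ← MonoidHom.range_eq_map] at h1
  exact h1

/-- `p'`-elements are trivial in a group embedded in `F` with a normal subgroup with good properties -/
theorem pNil_of_normal (hS : IsPGroup p S) {L : Type u} [Group L] {ι : S →* L} (hemb : Emb F p S L ι)
    (hLc : Subgroup.centralizer ((pCore p L : Subgroup L) : Set L) ≤ pCore p L) {W : Subgroup Ω} (hW : W ≤ S)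
    (hWn : ((W.subgroupOf S).map ι).Normal) (hWc : ∀ t ∈ S, (∀ x ∈ W, x * t = t * x) → t ∈ W) (hA : IsPGroup p (F.autGroup W)) :
    PNil p L := by
  haveI := hemb.fin
  apply pNil_of_isPGroup
  have h1 : IsPGroup p (⊤ : Subgroup L) := by
    refine Cfsg.Agent.Lib.PCon.isPGroup_of_forall fun g _ hgo => ?_
    have hg1 : g ∈ Subgroup.normalizer (((W.subgroupOf S).map ι : Subgroup L) : Set L) := by
      rw [Subgroup.normalizer_eq_top_iff.2 hWn]; exact Subgroup.mem_top _
    have h3 := hemb.centralizes hW hA hg1 hgo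
    exact pprime_eq_one hemb.inj hemb.syl hS hLc hW hWc (fun x hx => mul_inv_eq_iff_eq_mul.1 (h3 x hx)) hgo
  exact h1.of_equiv Subgroup.topEquiv

/-- central extensions by `p`-groups -/
theorem pNil_of_central {H : Type u} [Group H] [Finite H] {B : Subgroup H} [hBn : B.Normal] (hB : B ≤ Subgroup.center H) (hBp : IsPGroup p B)
    (h : PNil p (H ⧸ B)) : PNil p H := by
  obtain ⟨K, hK, hKc, k, hk⟩ := h
  have hKn : (K.comap (QuotientGroup.mk' B)).Normal := hK.comap _
  refine PNil.of_normal (K.comap (QuotientGroup.mk' B)) ⟨k, ?_⟩ ?_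
  · rw [Subgroup.index_comap_of_surjective _ (QuotientGroup.mk'_surjective B), hk]
  · have hBL : B ≤ K.comap (QuotientGroup.mk' B) := by
      intro x hx
      show QuotientGroup.mk' B x ∈ K
      have : QuotientGroup.mk' B x = 1 := (QuotientGroup.eq_one_iff x).2 hx
      rw [this]; exact Subgroup.one_mem _
    have hidx : ¬ p ∣ (B.subgroupOf (K.comap (QuotientGroup.mk' B))).index := by
      have h1 : (B.subgroupOf (K.comap (QuotientGroup.mk' B))).index = Nat.card K := by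
        show B.relIndex (K.comap (QuotientGroup.mk' B)) = _
        have h2 := Subgroup.relIndex_comap (f := QuotientGroup.mk' B) ⊥ (K.comap (QuotientGroup.mk' B))
        rw [MonoidHom.comap_bot, Subgroup.map_comap_eq_self_of_surjective (QuotientGroup.mk'_surjective B), Subgroup.relIndex_bot_left,
          QuotientGroup.ker_mk'] at h2
        exact h2
      rw [h1]
      exact (Nat.Prime.coprime_iff_not_dvd Fact.out).1 hKc.symm
    refine pNil_of_central_sylow ((hBp.comap_subtype (K := K.comap (QuotientGroup.mk' B))).toSylow hidx) ?_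
    intro x hx
    rw [Subgroup.mem_center_iff]
    intro y
    exact Subtype.ext (Subgroup.mem_center_iff.1 (hB hx) y)

theorem char_comap {G : Type u} [Group G] {K : Type v} [Group K] (π : G →* K) (hπ : Function.Surjective π) (hk : π.ker.Characteristic)
    {C : Subgroup K} (hC : C.Characteristic) : (C.comap π).Characteristic := by
  rw [Subgroup.characteristic_iff_le_comap]
  intro φ x hx
  have h1 : π.ker.map φ.toMonoidHom = π.ker := Subgroup.characteristic_iff_map_eq.1 hk φ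
  let e : G ⧸ π.ker ≃* K := QuotientGroup.quotientKerEquivOfSurjective π hπ
  let ψ : K ≃* K := e.symm.trans ((QuotientGroup.congr π.ker π.ker φ h1).trans e)
  have h2 : ψ (π x) = π (φ x) := by
    have h3 : e.symm (π x) = QuotientGroup.mk' π.ker x := by
      rw [MulEquiv.symm_apply_eq]; rfl
    show e (QuotientGroup.congr π.ker π.ker φ h1 (e.symm (π x))) = _
    rw [h3]; rfl
  have h3 := (Subgroup.characteristic_iff_le_comap.1 hC ψ) (show π x ∈ C from hx)
  have h4 : ψ (π x) ∈ C := h3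
  rw [h2] at h4
  exact h4

theorem center_case (hS : IsPGroup p S) (hSne : S ≠ ⊥) (ih : TH.{u} p (Nat.card S)) {H : Type u} [Group H] {ι : S →* H} (hemb : Emb F p S H ι)
    (hHn : ¬ PNil p H) (hHf : p ≠ 2 ∨ ¬ Involves (Equiv.Perm (Fin 4)) H)
    (hz : ∀ z ∈ ι.range, (∀ s ∈ ι.range, s * z = z * s) → z ∈ Subgroup.center H) :
    ∃ Q ≤ S, Q ≠ ⊥ ∧ (Q.subgroupOf S).Characteristic ∧ NotP F p Q := by
  haveI := hemb.fin
  obtain ⟨B, hBdef⟩ : ∃ B : Subgroup H, B = (Subgroup.center S).map ι := ⟨_, rfl⟩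
  have hBc : B ≤ Subgroup.center H := by
    rw [hBdef]
    rintro _ ⟨z, hzc, rfl⟩
    refine hz _ ⟨z, rfl⟩ ?_
    rintro _ ⟨s, rfl⟩
    rw [← map_mul, ← map_mul, Subgroup.mem_center_iff.1 hzc s]
  haveI hBn : B.Normal := ⟨fun x hx g => by
    have h1 := Subgroup.mem_center_iff.1 (hBc hx) g
    rw [h1, mul_inv_cancel_right]; exact hx⟩
  have hBr : B ≤ ι.range := by rw [hBdef]; exact Subgroup.map_le_range _ _
  have hBp : IsPGroup p B := hemb.syl.isPGroup.to_le hBr
  have hqn : ¬ PNil p (H ⧸ B) := fun h => hHn (pNil_of_central hBc hBp h)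
  have hsyl := sylIn_quot hemb.syl B
  have hi : ¬ p ∣ (ι.range.map (QuotientGroup.mk' B)).index := by
    have := hsyl.not_dvd
    rwa [Subgroup.relIndex_top_right] at this
  obtain ⟨P, hP⟩ : ∃ P : Sylow p (H ⧸ B), (P : Subgroup (H ⧸ B)) = ι.range.map (QuotientGroup.mk' B) :=
    ⟨hsyl.isPGroup.toSylow hi, rfl⟩
  have hsat := saturated_grp P
  have hfree : p ≠ 2 ∨ (groupFusionSystem (P : Subgroup (H ⧸ B))).IsSectionFree p (Equiv.Perm (Fin 4)) :=
    hHf.imp_right fun h => free_group (fun h1 => h (involves_trans h1 (involves_quot B))) P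
  have hnotP : ∃ X, NotP (groupFusionSystem (P : Subgroup (H ⧸ B))) p X := by
    have he : Emb (groupFusionSystem (P : Subgroup (H ⧸ B))) p P (H ⧸ B) (P : Subgroup (H ⧸ B)).subtype := by
      refine ⟨inferInstance, le_rfl, Subgroup.subtype_injective _, ?_, fun A f g hA hf hfg => ?_⟩
      · rw [Subgroup.range_subtype]; exact sylIn_of_sylow P
      · refine mor_grp.2 ⟨hA, hf, g, fun x hx => ?_⟩
        have h1 := hfg x hx
        rw [ev_mem (hf x hx), ev_mem (hA hx)] at h1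
        exact h1
    obtain ⟨X, -, hX⟩ := he.exists_notP hqn
    exact ⟨X, hX⟩
  have hcard : Nat.card (P : Subgroup (H ⧸ B)) < Nat.card S := by
    have h1 := Cfsg.Agent.Lib.ThB.card_map_ker (QuotientGroup.mk' B) ι.range
    rw [QuotientGroup.ker_mk', inf_eq_right.2 hBr, ← hP] at h1
    have h2 : Nat.card ι.range = Nat.card S := Nat.card_congr (MonoidHom.ofInjective hemb.inj).symm.toEquiv
    have h3 : 1 < Nat.card B := by
      rw [Subgroup.one_lt_card_iff_ne_bot, hBdef]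
      intro h
      rw [Subgroup.map_eq_bot_iff_of_injective _ hemb.inj] at h
      haveI : Nontrivial S := (Subgroup.nontrivial_iff_ne_bot S).2 hSne
      have hc : Nontrivial (Subgroup.center S) := hS.center_nontrivial
      exact (Subgroup.nontrivial_iff_ne_bot _).1 hc h
    have h4 : 0 < Nat.card (P : Subgroup (H ⧸ B)) := Nat.card_pos
    rw [← h2, h1]
    nlinarith
  obtain ⟨Q, hQP, hQne, hQc, hQ⟩ := ih _ _ (groupFusionSystem (P : Subgroup (H ⧸ B))) hcard P.2 hsat hfree hnotP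
  -- the preimage in `S`
  have hιP : ∀ s : S, QuotientGroup.mk' B (ι s) ∈ (P : Subgroup (H ⧸ B)) := fun s => by rw [hP]; exact ⟨ι s, ⟨s, rfl⟩, rfl⟩
  let π : S →* (P : Subgroup (H ⧸ B)) := ((QuotientGroup.mk' B).comp ι).codRestrict P hιP
  have hπ : Function.Surjective π := by
    rintro ⟨y, hy⟩
    rw [hP] at hy
    obtain ⟨_, ⟨s, rfl⟩, rfl⟩ := hy
    exact ⟨s, rfl⟩
  have hπk : π.ker = Subgroup.center S := by
    ext s
    rw [MonoidHom.mem_ker]
    constructor
    · intro h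
      have h1 : QuotientGroup.mk' B (ι s) = 1 := congrArg Subtype.val h
      have h2 : ι s ∈ B := (QuotientGroup.eq_one_iff _).1 h1
      rw [hBdef] at h2
      obtain ⟨z, hz, hzs⟩ := h2
      rwa [← hemb.inj hzs]
    · intro h
      apply Subtype.ext
      show QuotientGroup.mk' B (ι s) = 1
      exact (QuotientGroup.eq_one_iff _).2 (by rw [hBdef]; exact ⟨s, h, rfl⟩)
  obtain ⟨R, hR⟩ : ∃ R : Subgroup S, R = (Q.subgroupOf (P : Subgroup (H ⧸ B))).comap π := ⟨_, rfl⟩
  have hRc : R.Characteristic := by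
    rw [hR]
    refine char_comap π hπ ?_ hQc
    rw [hπk]; infer_instance
  have hmemR : ∀ s : S, s ∈ R ↔ QuotientGroup.mk' B (ι s) ∈ Q := by
    intro s; rw [hR]; rfl
  have hR' : (R.map S.subtype).subgroupOf S = R := Subgroup.comap_map_eq_self_of_injective S.subtype_injective _
  have hRS : R.map S.subtype ≤ S := Subgroup.map_subtype_le _
  have hex : ∀ y ∈ Q, ∃ s ∈ R, QuotientGroup.mk' B (ι s) = y := by
    intro y hy
    have h1 := hQP hy
    rw [hP] at h1
    obtain ⟨_, ⟨s, rfl⟩, rfl⟩ := h1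
    exact ⟨s, (hmemR s).2 hy, rfl⟩
  refine ⟨R.map S.subtype, hRS, ?_, by rw [hR']; exact hRc, ?_⟩
  · intro h
    rw [Subgroup.map_eq_bot_iff_of_injective _ S.subtype_injective] at h
    apply hQne
    rw [eq_bot_iff]
    intro y hy
    obtain ⟨s, hs, rfl⟩ := hex y hy
    rw [h, Subgroup.mem_bot] at hs
    rw [hs, map_one, map_one]; exact Subgroup.one_mem _
  · obtain ⟨f', hf', hn'⟩ := notP_iff.1 hQ
    obtain ⟨-, -, g', hg'⟩ := mor_grp.1 hf'.mor
    obtain ⟨g, rfl⟩ := QuotientGroup.mk'_surjective B g'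
    have himR : (((R.map S.subtype).subgroupOf S).map ι) = Q.comap (QuotientGroup.mk' B) := by
      rw [hR']
      ext y
      constructor
      · rintro ⟨s, hs, rfl⟩
        exact (hmemR s).1 hs
      · intro hy
        have h1 : QuotientGroup.mk' B y ∈ (P : Subgroup (H ⧸ B)) := hQP hy
        rw [hP] at h1
        obtain ⟨_, ⟨s, rfl⟩, hs⟩ := h1
        have h2 : (ι s)⁻¹ * y ∈ B := QuotientGroup.eq.1 hs
        rw [hBdef] at h2
        obtain ⟨z, hz, hzs⟩ := h2
        have h3 : y = ι (s * z) := by rw [map_mul, hzs]; group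
        rw [h3]
        refine ⟨s * z, (hmemR _).2 ?_, rfl⟩
        rw [← h3]; exact hy
    have hgn : g ∈ Subgroup.normalizer ((((R.map S.subtype).subgroupOf S).map ι : Subgroup H) : Set H) := by
      rw [himR]
      haveI : Finite (Q.comap (QuotientGroup.mk' B)) := inferInstance
      refine mem_normalizer_of_conj_mem fun y hy => ?_
      show QuotientGroup.mk' B (g * y * g⁻¹) ∈ Q
      rw [map_mul, map_mul, map_inv, ← hg' _ hy]
      exact hf'.map_mem hy
    obtain ⟨f, hf, hfg⟩ := hemb.exists_iso hRS hgn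
    refine notP_iff.2 ⟨f, hf, fun h => hn' ?_⟩
    obtain ⟨k, hk⟩ := h
    have key : ∀ (n : ℕ), ∀ x ∈ R.map S.subtype, QuotientGroup.mk' B (ev ι (f^[n] x)) = f'^[n] (QuotientGroup.mk' B (ev ι x)) ∧
        QuotientGroup.mk' B (ev ι (f^[n] x)) ∈ Q := by
      intro n x hx
      have hmem : ∀ x ∈ R.map S.subtype, QuotientGroup.mk' B (ev ι x) ∈ Q := by
        rintro _ ⟨s, hs, rfl⟩
        show QuotientGroup.mk' B (ev ι (s : Ω)) ∈ Q
        rw [ev_apply (α := ι)]
        exact (hmemR s).1 hs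
      induction n with
      | zero => exact ⟨rfl, hmem x hx⟩
      | succ n ih =>
        rw [Function.iterate_succ_apply', Function.iterate_succ_apply']
        refine ⟨?_, hmem _ (hf.map_mem (iterate_mem hf hx n))⟩
        rw [hfg _ (iterate_mem hf hx n), map_mul, map_mul, map_inv, ← ih.1, ← hg' _ ih.2]
    refine ⟨k, fun y hy => ?_⟩
    obtain ⟨s, hs, rfl⟩ := hex y hy
    have h1 := (key (p ^ k) s ⟨s, hs, rfl⟩).1
    rw [hk s ⟨s, hs, rfl⟩, ev_apply (α := ι)] at h1
    exact h1.symm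

theorem th_all (n : ℕ) : TH.{u} p n := by
  induction n with
  | zero => intro Ω' _ S' _ E h; omega
  | succ n ihn =>
    intro Ω' _ S _ F hcard hS hF hfree hne
    have ih : TH.{u} p (Nat.card S) := by
      intro Ω'' _ S'' _ E' h'
      exact ihn Ω'' S'' E' (by omega)
    have hSne : S ≠ ⊥ := by
      rintro rfl
      obtain ⟨X, hX⟩ := hne
      obtain ⟨R, hR, hR0⟩ := (bad_of_notP hX).ne_bot
      exact hR0 (le_bot_iff.1 hR.1)
    obtain ⟨H, _, ι, hemb, hHn, hco, hHc, hHq, hHf⟩ := exists_min hS hF hfree ih hne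
    haveI := hemb.fin
    rcases Cfsg.Agent.Lib.ThB.key hemb.syl hco hHc hHq hHf with h1 | h1
    · -- the Thompson subgroup
      have hJn := ja_normal hemb.syl h1
      rw [← ja_im hS hemb.inj] at hJn
      refine ⟨thompsonSubgroupAOf S, ja_le S, ?_, ?_, ja_le S, fun hA => hHn ?_⟩
      · have h2 := ind_ne_bot jaf_char hS hSne
        rw [ja_eq]; exact h2
      · have h2 : (thompsonSubgroupAOf S).subgroupOf S = thompsonSubgroupA S :=
          Subgroup.comap_map_eq_self_of_injective S.subtype_injective _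
        rw [h2]
        refine Subgroup.characteristic_iff_map_eq.2 fun φ => ?_
        exact jaf_char.2 S S hS φ
      · exact pNil_of_normal hS hemb hHc (ja_le S) hJn (fun t ht h => ja_cent ht h) hA
    · exact center_case hS hSne ih hemb hHn hHf h1

/-- strengthened Frobenius criterion -/
theorem inner_of_char (hS : IsPGroup p S) (hF : F.IsSaturated p) (hfree : p ≠ 2 ∨ F.IsSectionFree p (Equiv.Perm (Fin 4)))
    (h : ∀ Q : Subgroup Ω, Q ≤ S → Q ≠ ⊥ → (Q.subgroupOf S).Characteristic → IsPGroup p (F.autGroup Q)) (P : Subgroup Ω) :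
    F.Hom P = (innerFusionSystem S).Hom P := by
  refine inner_of_isPGroup hS hF (fun X hX => ?_) P
  by_contra hcon
  obtain ⟨Q, hQS, hQne, hQc, hQ⟩ := th_all (Nat.card S + 1) Ω S F (Nat.lt_succ_self _) hS hF hfree ⟨X, hX, hcon⟩
  exact hQ.2 (h Q hQS hQne hQc)

theorem Emb.cent {Z : Subgroup Ω} {H : Type v} [Group H] {ι : S →* H} (h : Emb F p S H ι) (hZS : Z ≤ S) (hz : ∀ z ∈ Z, ev ι z ∈ Subgroup.center H)
    {C : FusionSystem (centralizerIn S Z)} (hC : F.IsCentralizerSystem Z C) : Emb C p S H ι := by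
  have hSC : S ≤ centralizerIn S Z := by
    intro s hs
    refine mem_centralizerIn.2 ⟨hs, fun x hx => ?_⟩
    apply ev_inj h.inj (S.mul_mem (hZS hx) hs) (S.mul_mem hs (hZS hx))
    rw [ev_mul (hZS hx) hs, ev_mul hs (hZS hx)]
    exact (Subgroup.mem_center_iff.1 (hz x hx) _).symm
  refine ⟨h.fin, hSC, h.inj, h.syl, fun P f g hP hf hfg => ?_⟩
  rw [cent_iff hC]
  have hPZ : P ⊔ Z ≤ S := sup_le hP hZS
  have hran : ∀ x ∈ P ⊔ Z, g * ev ι x * g⁻¹ ∈ ι.range := by
    intro x hx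
    have h1 : ev ι x ∈ ((P ⊔ Z).subgroupOf S).map ι := (mem_im hPZ).2 ⟨x, hx, rfl⟩
    have h2 : (((P ⊔ Z).subgroupOf S).map ι).map (MulAut.conj g).toMonoidHom ≤ ι.range := by
      rw [Subgroup.map_le_iff_le_comap, Subgroup.map_le_iff_le_comap]
      intro y hy
      have hy' : (y : Ω) ∈ P ⊔ Z := hy
      have h3 : P ⊔ Z ≤ (((ι.range.comap (MulAut.conj g).toMonoidHom).comap ι).map S.subtype) := by
        refine sup_le (fun z hz' => ?_) (fun z hz' => ?_)
        · refine ⟨⟨z, hP hz'⟩, ?_, rfl⟩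
          show g * ι ⟨z, hP hz'⟩ * g⁻¹ ∈ ι.range
          rw [← ev_mem (hP hz'), ← hfg z hz']
          exact ev_range (hf z hz')
        · refine ⟨⟨z, hZS hz'⟩, ?_, rfl⟩
          show g * ι ⟨z, hZS hz'⟩ * g⁻¹ ∈ ι.range
          rw [← ev_mem (hZS hz'), Subgroup.mem_center_iff.1 (hz z hz') g, mul_inv_cancel_right]
          exact ev_range (hZS hz')
      obtain ⟨z, hz', hzy⟩ := h3 hy'
      have h4 : z = y := Subtype.ext hzy
      rw [← h4]; exact hz'
    exact h2 ⟨_, h1, rfl⟩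
  obtain ⟨k, hk, hk1, hk2⟩ := h.exists_mor hPZ hran
  have hkf : ∀ x ∈ P, k x = f x := fun x hx => by
    apply ev_inj h.inj (hk1 x ((le_sup_left : P ≤ P ⊔ Z) hx)) (hf x hx)
    rw [hk2 x ((le_sup_left : P ≤ P ⊔ Z) hx), hfg x hx]
  have hkZ : ∀ x ∈ Z, k x = x := fun x hx => by
    have hx' := (le_sup_right : Z ≤ P ⊔ Z) hx
    apply ev_inj h.inj (hk1 x hx') (hZS hx)
    rw [hk2 x hx', Subgroup.mem_center_iff.1 (hz x hx) g, mul_inv_cancel_right]
  exact ⟨hP.trans hSC, fun x hx => hSC (hf x hx), k, hk, hkf, 1, Subgroup.mem_bot.2 rfl, fun x hx => by rw [hkZ x hx, fn_one hx]⟩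

/-- the two alternatives -/
theorem alternatives (hS : IsPGroup p S) (hF : F.IsSaturated p) (hfree : p ≠ 2 ∨ F.IsSectionFree p (Equiv.Perm (Fin 4)))
    (hne : ∃ X, NotP F p X) :
    (∀ N : FusionSystem (normalizerIn S (thompsonSubgroupAOf S)), F.IsNormalizerSystem (thompsonSubgroupAOf S) N → ∃ P, NotP N p P) ∨
      (∀ C : FusionSystem (centralizerIn S (S ⊓ Subgroup.centralizer (S : Set Ω))),
        F.IsCentralizerSystem (S ⊓ Subgroup.centralizer (S : Set Ω)) C → ∃ P, NotP C p P) := by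
  obtain ⟨H, _, ι, hemb, hHn, hco, hHc, hHq, hHf⟩ := exists_min hS hF hfree (th_all _) hne
  haveI := hemb.fin
  rcases Cfsg.Agent.Lib.ThB.key hemb.syl hco hHc hHq hHf with h1 | h1
  · left
    intro N hN
    have hJn := ja_normal hemb.syl h1
    rw [← ja_im hS hemb.inj] at hJn
    haveI : Finite (normalizerIn S (thompsonSubgroupAOf S)) := finite_of_le normalizerIn_le
    obtain ⟨P, -, hP⟩ := (hemb.norm (ja_le S) hJn hN).exists_notP hHn
    exact ⟨P, hP⟩
  · right
    intro C hC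
    haveI : Finite (centralizerIn S (S ⊓ Subgroup.centralizer (S : Set Ω))) := finite_of_le centralizerIn_le
    have h2 : Emb C p S H ι := Emb.cent hemb inf_le_left (fun z hz => by
      rw [ev_mem hz.1]
      refine h1 _ ⟨_, rfl⟩ ?_
      rintro _ ⟨s, rfl⟩
      rw [← map_mul, ← map_mul]
      congr 1
      exact Subtype.ext (Subgroup.mem_centralizer_iff.1 hz.2 s s.2)) hC
    obtain ⟨P, -, hP⟩ := h2.exists_notP hHn
    exact ⟨P, hP⟩

/-- a constrained non-inner subsystem over `S` -/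
theorem exists_constrained (hS : IsPGroup p S) (hF : F.IsSaturated p) (hfree : p ≠ 2 ∨ F.IsSectionFree p (Equiv.Perm (Fin 4)))
    (hne : ∃ X, NotP F p X) :
    ∃ E : FusionSystem S, (∀ P f, Mor E P f → Mor F P f) ∧ E.IsSaturated p ∧ E.IsConstrained p ∧ ∃ X, NotP E p X := by
  obtain ⟨E, X, L, _, ι, hEF, hEs, hXn, hXc, hXP, -⟩ := exists_key hS hF hfree (th_all _) hne
  obtain ⟨L, _, ι, hM, -⟩ := model_over hS hEs hXn hXc
  exact ⟨E, hEF, hEs, model_constrained hM, X, hXP⟩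

/-- automorphisms induced by `p`-nilpotent groups -/
theorem ppow_of_pNil {G : Type v} [Group G] [Finite G] {K P : Subgroup G} (hK : PNil p K) (hP : IsPGroup p P) (hPK : P ≤ K) {g : G} (hg : g ∈ K)
    {f : G → G} (hf : ∀ x ∈ P, f x = g * x * g⁻¹) (hfP : ∀ x ∈ P, f x ∈ P) : PPow p P f := by
  obtain ⟨i, j, hij, ⟨a, ha⟩, hj⟩ := Cfsg.Agent.Lib.PPart.decomp p g
  have hgP : g ∈ Subgroup.normalizer (P : Set G) := mem_normalizer_of_conj_mem fun x hx => by rw [← hf x hx]; exact hfP x hx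
  have h1 : g ^ j ∈ Subgroup.centralizer (P : Set G) :=
    centralizes_of_pNil (N := K ⊓ Subgroup.normalizer (P : Set G)) hP (le_inf hPK Subgroup.le_normalizer) inf_le_right
      (hK.of_le inf_le_left) ⟨Subgroup.pow_mem _ hg j, Subgroup.pow_mem _ hgP j⟩ hj
  have hiP : g ^ i ∈ Subgroup.normalizer (P : Set G) := Subgroup.pow_mem _ hgP i
  have h2 : ∀ x ∈ P, f x = g ^ i * x * (g ^ i)⁻¹ := by
    intro x hx
    have h3 : x * g ^ j = g ^ j * x := Subgroup.mem_centralizer_iff.1 h1 x hx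
    rw [hf x hx]
    have h4 : g * x * g⁻¹ = g ^ i * (g ^ j * x * (g ^ j)⁻¹) * (g ^ i)⁻¹ := by
      conv_lhs => rw [hij]
      group
    rw [h4, ← h3]; group
  refine ⟨a, fun x hx => ?_⟩
  have key : ∀ n : ℕ, f^[n] x = (g ^ i) ^ n * x * ((g ^ i) ^ n)⁻¹ ∧ f^[n] x ∈ P := by
    intro n
    induction n with
    | zero => exact ⟨by simp, hx⟩
    | succ n ih =>
      rw [Function.iterate_succ_apply']
      refine ⟨?_, hfP _ ih.2⟩
      rw [h2 _ ih.2, ih.1, pow_succ']
      group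
  rw [(key (p ^ a)).1, orderOf_dvd_iff_pow_eq_one.1 ha]; group

end Cfsg.Agent.Lib.ThC
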