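import Mathlib
import Cfsg.Agent.Lib.SL2

/-! Two by two matrices over finite fields: centralizers. -/

set_option linter.all false
set_option maxHeartbeats 400000

namespace Cfsg.Agent.Lib.Tw

open Matrix
open scoped MatrixGroups

variable {F : Type*} [Field F]

/-- the binary form `x² + t x y + d y²` -/
def bf (t d : F) (p : F × F) : F := p.1 ^ 2 + t * p.1 * p.2 + d * p.2 ^ 2

/-- non-scalar matrices -/
def NS (A : Matrix (Fin 2) (Fin 2) F) : Prop := ¬ (A 0 1 = 0 ∧ A 1 0 = 0 ∧ A 0 0 = A 1 1)

theorem ns_iff {A : Matrix (Fin 2) (Fin 2) F} : NS A ↔ ∀ c : F, A ≠ c • (1 : Matrix (Fin 2) (Fin 2) F) := by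
  constructor
  · rintro h c rfl
    exact h (by simp)
  · rintro h ⟨h1, h2, h3⟩
    apply h (A 0 0)
    ext i j
    fin_cases i <;> fin_cases j <;> simp [h1, h2, h3]

/-- no eigenvector -/
def NE (A : Matrix (Fin 2) (Fin 2) F) : Prop := ∀ (c : F) (v : Fin 2 → F), v ≠ 0 → A.mulVec v ≠ c • v

theorem det_form (A : Matrix (Fin 2) (Fin 2) F) (x y : F) :
    (x • (1 : Matrix (Fin 2) (Fin 2) F) + y • A).det = bf A.trace A.det (x, y) := by
  rw [Matrix.det_fin_two, Matrix.det_fin_two, Matrix.trace_fin_two, bf]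
  simp
  ring

theorem exists_eigvec_iff {A : Matrix (Fin 2) (Fin 2) F} (c : F) :
    (∃ v : Fin 2 → F, v ≠ 0 ∧ A.mulVec v = c • v) ↔ c ^ 2 - A.trace * c + A.det = 0 := by
  have h1 : (c • (1 : Matrix (Fin 2) (Fin 2) F) + (-1 : F) • A).det = c ^ 2 - A.trace * c + A.det := by
    rw [det_form, bf]; ring
  rw [← h1, ← Matrix.exists_mulVec_eq_zero_iff]
  constructor
  · rintro ⟨v, hv, h⟩
    refine ⟨v, hv, ?_⟩
    rw [Matrix.add_mulVec, Matrix.smul_mulVec, Matrix.smul_mulVec, Matrix.one_mulVec, h]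
    module
  · rintro ⟨v, hv, h⟩
    refine ⟨v, hv, ?_⟩
    rw [Matrix.add_mulVec, Matrix.smul_mulVec, Matrix.smul_mulVec, Matrix.one_mulVec] at h
    have : A.mulVec v = c • v - (c • v + (-1 : F) • A.mulVec v) := by module
    rw [this, h, sub_zero]

theorem ne_iff {A : Matrix (Fin 2) (Fin 2) F} : NE A ↔ ∀ c, c ^ 2 - A.trace * c + A.det ≠ 0 := by
  constructor
  · intro h c hc
    obtain ⟨v, hv, h2⟩ := (exists_eigvec_iff c).mpr hc
    exact h c v hv h2
  · intro h c v hv h2
    exact h c ((exists_eigvec_iff c).mp ⟨v, hv, h2⟩)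

theorem NE.ns {A : Matrix (Fin 2) (Fin 2) F} (h : NE A) : NS A := by
  rintro ⟨h1, h2, h3⟩
  rw [ne_iff] at h
  apply h (A 0 0)
  rw [Matrix.trace_fin_two, Matrix.det_fin_two, h1, ← h3]
  ring

theorem form_inj {A : Matrix (Fin 2) (Fin 2) F} (hA : NS A) {x y x' y' : F}
    (h : x • (1 : Matrix (Fin 2) (Fin 2) F) + y • A = x' • (1 : Matrix (Fin 2) (Fin 2) F) + y' • A) : x = x' ∧ y = y' := by
  have h00 := congrFun (congrFun h 0) 0
  have h01 := congrFun (congrFun h 0) 1
  have h10 := congrFun (congrFun h 1) 0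
  have h11 := congrFun (congrFun h 1) 1
  simp at h00 h01 h10 h11
  have hy : y = y' := by
    by_contra hy
    apply hA
    have hy' : y - y' ≠ 0 := sub_ne_zero.mpr hy
    have e1 : (y - y') * A 0 1 = 0 := by
      rcases h01 with h | h
      · exact absurd h hy
      · rw [h, mul_zero]
    have e2 : (y - y') * A 1 0 = 0 := by
      rcases h10 with h | h
      · exact absurd h hy
      · rw [h, mul_zero]
    have e3 : (y - y') * (A 0 0 - A 1 1) = 0 := by linear_combination h00 - h11
    exact ⟨(mul_eq_zero.mp e1).resolve_left hy', (mul_eq_zero.mp e2).resolve_left hy',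
      sub_eq_zero.mp ((mul_eq_zero.mp e3).resolve_left hy')⟩
  subst hy
  exact ⟨by linear_combination h00, rfl⟩

theorem comm_form {A X : Matrix (Fin 2) (Fin 2) F} (hA : NS A) (h : X * A = A * X) :
    ∃ x y : F, X = x • (1 : Matrix (Fin 2) (Fin 2) F) + y • A := by
  have h00 := congrFun (congrFun h 0) 0
  have h01 := congrFun (congrFun h 0) 1
  have h10 := congrFun (congrFun h 1) 0
  have h11 := congrFun (congrFun h 1) 1
  simp only [Matrix.mul_apply, Fin.sum_univ_two] at h00 h01 h10 h11
  by_cases hb : A 0 1 = 0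
  · by_cases hc : A 1 0 = 0
    · have hd : A 0 0 - A 1 1 ≠ 0 := fun h => hA ⟨hb, hc, sub_eq_zero.mp h⟩
      rw [hb] at h01 h00 h11
      rw [hc] at h10
      have e1 : X 0 1 = 0 := by
        have : (A 0 0 - A 1 1) * X 0 1 = 0 := by linear_combination -h01
        exact (mul_eq_zero.mp this).resolve_left hd
      have e2 : X 1 0 = 0 := by
        have : (A 0 0 - A 1 1) * X 1 0 = 0 := by linear_combination h10
        exact (mul_eq_zero.mp this).resolve_left hd
      refine ⟨X 0 0 - (X 0 0 - X 1 1) / (A 0 0 - A 1 1) * A 0 0, (X 0 0 - X 1 1) / (A 0 0 - A 1 1), ?_⟩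
      ext i j
      fin_cases i <;> fin_cases j
      · simp
      · simp [e1, hb]
      · simp [e2, hc]
      · simp
        field_simp
        ring
    · refine ⟨X 0 0 - X 1 0 / A 1 0 * A 0 0, X 1 0 / A 1 0, ?_⟩
      ext i j
      fin_cases i <;> fin_cases j
      · simp
      · simp
        field_simp
        linear_combination h00
      · simp
        field_simp
      · simp
        field_simp
        linear_combination h10
  · refine ⟨X 0 0 - X 0 1 / A 0 1 * A 0 0, X 0 1 / A 0 1, ?_⟩
    ext i j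
    fin_cases i <;> fin_cases j
    · simp
    · simp
      field_simp
    · simp
      field_simp
      linear_combination -h00
    · simp
      field_simp
      linear_combination -h01

theorem form_comm (A : Matrix (Fin 2) (Fin 2) F) (x y : F) :
    (x • (1 : Matrix (Fin 2) (Fin 2) F) + y • A) * A = A * (x • (1 : Matrix (Fin 2) (Fin 2) F) + y • A) := by
  rw [add_mul, mul_add, smul_mul_assoc, smul_mul_assoc, mul_smul_comm, mul_smul_comm, one_mul, mul_one]

/-- the centralizer in `GL_2` -/
noncomputable def centGL {A : GL (Fin 2) F} (hA : NS (A : Matrix (Fin 2) (Fin 2) F)) :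
    {p : F × F // bf (A : Matrix (Fin 2) (Fin 2) F).trace (A : Matrix (Fin 2) (Fin 2) F).det p ≠ 0} ≃
      Subgroup.centralizer ({A} : Set (GL (Fin 2) F)) :=
  Equiv.ofBijective (fun p => ⟨Matrix.GeneralLinearGroup.mkOfDetNeZero
      (p.1.1 • (1 : Matrix (Fin 2) (Fin 2) F) + p.1.2 • (A : Matrix (Fin 2) (Fin 2) F)) (by rw [det_form]; exact p.2), by
      rw [Subgroup.mem_centralizer_singleton_iff]
      apply Units.ext
      exact form_comm _ _ _⟩) (by
    constructor
    · intro p p' h
      have h1 := congrArg (fun z : Subgroup.centralizer ({A} : Set (GL (Fin 2) F)) => ((z : GL (Fin 2) F) : Matrix (Fin 2) (Fin 2) F)) h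
      obtain ⟨h2, h3⟩ := form_inj hA h1
      exact Subtype.ext (Prod.ext h2 h3)
    · intro z
      have h1 := Subgroup.mem_centralizer_singleton_iff.mp z.2
      have h2 := congrArg (fun z : GL (Fin 2) F => (z : Matrix (Fin 2) (Fin 2) F)) h1
      obtain ⟨x, y, hxy⟩ := comm_form hA h2
      refine ⟨⟨(x, y), ?_⟩, ?_⟩
      · rw [← det_form, ← hxy]
        exact (Matrix.isUnit_iff_isUnit_det _).mp z.1.isUnit |>.ne_zero
      · apply Subtype.ext
        apply Units.ext
        exact hxy.symm)

/-- the element of `SL_2` -/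
def fSL (A : SL(2, F)) (p : {p : F × F // bf (A : Matrix (Fin 2) (Fin 2) F).trace 1 p = 1}) : SL(2, F) :=
  ⟨(p.1.1 • (1 : Matrix (Fin 2) (Fin 2) F) + p.1.2 • (A : Matrix (Fin 2) (Fin 2) F)), by
      rw [det_form, A.det_coe]; exact p.2⟩

theorem fSL_coe (A : SL(2, F)) (p : {p : F × F // bf (A : Matrix (Fin 2) (Fin 2) F).trace 1 p = 1}) :
    (fSL A p : Matrix (Fin 2) (Fin 2) F) = p.1.1 • (1 : Matrix (Fin 2) (Fin 2) F) + p.1.2 • (A : Matrix (Fin 2) (Fin 2) F) := rfl

/-- the centralizer in `SL_2` -/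
noncomputable def centSL {A : SL(2, F)} (hA : NS (A : Matrix (Fin 2) (Fin 2) F)) :
    {p : F × F // bf (A : Matrix (Fin 2) (Fin 2) F).trace 1 p = 1} ≃
      Subgroup.centralizer ({A} : Set (SL(2, F))) :=
  Equiv.ofBijective (fun p => ⟨fSL A p, by
      rw [Subgroup.mem_centralizer_singleton_iff]
      apply Subtype.ext
      exact form_comm _ _ _⟩) (by
    constructor
    · intro p p' h
      have h1 := congrArg (fun z : Subgroup.centralizer ({A} : Set (SL(2, F))) => ((z : SL(2, F)) : Matrix (Fin 2) (Fin 2) F)) h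
      obtain ⟨h2, h3⟩ := form_inj hA h1
      exact Subtype.ext (Prod.ext h2 h3)
    · intro z
      have h1 := Subgroup.mem_centralizer_singleton_iff.mp z.2
      have h2 := congrArg (fun z : SL(2, F) => (z : Matrix (Fin 2) (Fin 2) F)) h1
      obtain ⟨x, y, hxy⟩ := comm_form hA h2
      refine ⟨⟨(x, y), ?_⟩, ?_⟩
      · have h3 := det_form (A : Matrix (Fin 2) (Fin 2) F) x y
        rw [← hxy, A.det_coe] at h3
        rw [← h3]
        exact z.1.det_coe
      · apply Subtype.ext
        apply Subtype.ext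
        exact hxy.symm)

section Count

variable [Fintype F]

/-- coordinates for a split form -/
noncomputable def splitE {α β : F} (h : α ≠ β) : F × F ≃ F × F where
  toFun p := (p.1 + α * p.2, p.1 + β * p.2)
  invFun u := (u.1 - α * ((u.1 - u.2) / (α - β)), (u.1 - u.2) / (α - β))
  left_inv p := by
    have : α - β ≠ 0 := sub_ne_zero.mpr h
    ext
    · simp; field_simp; ring
    · simp; field_simp
  right_inv u := by
    have : α - β ≠ 0 := sub_ne_zero.mpr h
    ext
    · simp
    · simp; field_simp; ring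

omit [Fintype F] in
theorem bf_split (α β : F) (p : F × F) : bf (α + β) (α * β) p = (p.1 + α * p.2) * (p.1 + β * p.2) := by
  rw [bf]; ring

theorem card_split_ne {α β : F} (h : α ≠ β) :
    Nat.card {p : F × F // bf (α + β) (α * β) p ≠ 0} = (Fintype.card F - 1) ^ 2 := by
  have e1 : {p : F × F // bf (α + β) (α * β) p ≠ 0} ≃ {u : F × F // u.1 ≠ 0 ∧ u.2 ≠ 0} :=
    (splitE h).subtypeEquiv (fun p => by rw [bf_split, mul_ne_zero_iff]; rfl)
  have e2 : {u : F × F // u.1 ≠ 0 ∧ u.2 ≠ 0} ≃ {x : F // x ≠ 0} × {x : F // x ≠ 0} :=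
    Equiv.subtypeProdEquivProd (p := fun x : F => x ≠ 0) (q := fun x : F => x ≠ 0)
  rw [Nat.card_congr (e1.trans e2), Nat.card_prod, Nat.card_congr (unitsEquivNeZero (G₀ := F)).symm, Nat.card_units,
    Nat.card_eq_fintype_card, pow_two]

theorem card_split_one {α β : F} (h : α ≠ β) :
    Nat.card {p : F × F // bf (α + β) (α * β) p = 1} = Fintype.card F - 1 := by
  have e1 : {p : F × F // bf (α + β) (α * β) p = 1} ≃ {u : F × F // u.1 * u.2 = 1} :=
    (splitE h).subtypeEquiv (fun p => by rw [bf_split]; rfl)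
  have e2 : {u : F × F // u.1 * u.2 = 1} ≃ Fˣ :=
    { toFun := fun u => ⟨u.1.1, u.1.2, u.2, by rw [mul_comm]; exact u.2⟩
      invFun := fun x => ⟨(x.val, x⁻¹.val), by simp⟩
      left_inv := fun u => by
        apply Subtype.ext; rfl
      right_inv := fun x => by
        apply Units.ext; rfl }
  rw [Nat.card_congr (e1.trans e2), Nat.card_units, Nat.card_eq_fintype_card]

/-- coordinates for a degenerate form -/
def parE (α : F) : F × F ≃ F × F where
  toFun p := (p.1 + α * p.2, p.2)
  invFun u := (u.1 - α * u.2, u.2)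
  left_inv p := by ext <;> simp
  right_inv u := by ext <;> simp

theorem card_par_ne (α : F) :
    Nat.card {p : F × F // bf (α + α) (α * α) p ≠ 0} = Fintype.card F * (Fintype.card F - 1) := by
  have e1 : {p : F × F // bf (α + α) (α * α) p ≠ 0} ≃ {u : F × F // u.1 ≠ 0 ∧ True} :=
    (parE α).subtypeEquiv (fun p => by rw [bf_split, mul_ne_zero_iff, and_self_iff, and_true]; rfl)
  have e2 : {u : F × F // u.1 ≠ 0 ∧ True} ≃ {x : F // x ≠ 0} × {x : F // True} :=
    Equiv.subtypeProdEquivProd (p := fun x : F => x ≠ 0) (q := fun x : F => True)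
  rw [Nat.card_congr (e1.trans e2), Nat.card_prod, Nat.card_congr (unitsEquivNeZero (G₀ := F)).symm, Nat.card_units,
    Nat.card_congr (Equiv.subtypeUnivEquiv (p := fun _ : F => True) (fun _ => trivial)), Nat.card_eq_fintype_card, mul_comm]

theorem card_par_one (α : F) :
    Nat.card {p : F × F // bf (α + α) (α * α) p = 1} = Nat.card {x : F // x ^ 2 = 1} * Fintype.card F := by
  have e1 : {p : F × F // bf (α + α) (α * α) p = 1} ≃ {u : F × F // u.1 ^ 2 = 1 ∧ True} :=
    (parE α).subtypeEquiv (fun p => by rw [bf_split, ← pow_two, and_true]; rfl)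
  have e2 : {u : F × F // u.1 ^ 2 = 1 ∧ True} ≃ {x : F // x ^ 2 = 1} × {x : F // True} :=
    Equiv.subtypeProdEquivProd (p := fun x : F => x ^ 2 = 1) (q := fun x : F => True)
  rw [Nat.card_congr (e1.trans e2), Nat.card_prod,
    Nat.card_congr (Equiv.subtypeUnivEquiv (p := fun _ : F => True) (fun _ => trivial)), Nat.card_eq_fintype_card (α := F)]

omit [Fintype F] in
theorem bf_eq_zero {t d : F} (h : ∀ c : F, c ^ 2 - t * c + d ≠ 0) {p : F × F} (hp : bf t d p = 0) : p = 0 := by
  obtain ⟨x, y⟩ := p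
  have hy : y = 0 := by
    by_contra hy
    apply h (-(x / y))
    rw [bf] at hp
    simp only at hp
    field_simp
    linear_combination hp
  subst hy
  rw [bf] at hp
  simp only [mul_zero, zero_pow two_ne_zero, add_zero] at hp
  rw [pow_eq_zero_iff two_ne_zero] at hp
  rw [hp]; rfl

theorem card_ne_ne {t d : F} (h : ∀ c : F, c ^ 2 - t * c + d ≠ 0) :
    Nat.card {p : F × F // bf t d p ≠ 0} = Fintype.card F ^ 2 - 1 := by
  classical
  have e : {p : F × F // bf t d p ≠ 0} ≃ {p : F × F // p ≠ 0} :=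
    Equiv.subtypeEquivRight (fun p => ⟨fun hp h0 => hp (by rw [h0, bf]; simp), fun hp h0 => hp (bf_eq_zero h h0)⟩)
  rw [Nat.card_congr e, Nat.card_eq_fintype_card]
  have h2 := Fintype.card_subtype_compl (fun p : F × F => p = 0)
  have h3 : Fintype.card {p : F × F // p = 0} = 1 := Fintype.card_subtype_eq _
  rw [h3, Fintype.card_prod] at h2
  rw [pow_two]
  exact h2

theorem card_one_le (t d : F) : Nat.card {p : F × F // bf t d p = 1} ≤ 2 * Fintype.card F := by
  classical
  have e : {p : F × F // bf t d p = 1} ≃ (y : F) × {x : F // bf t d (x, y) = 1} :=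
    { toFun := fun p => ⟨p.1.2, ⟨p.1.1, p.2⟩⟩
      invFun := fun s => ⟨(s.2.1, s.1), s.2.2⟩
      left_inv := fun p => rfl
      right_inv := fun s => rfl }
  rw [Nat.card_congr e, Nat.card_eq_fintype_card, Fintype.card_sigma]
  have hb : ∀ y : F, Fintype.card {x : F // bf t d (x, y) = 1} ≤ 2 := by
    intro y
    let f : Polynomial F := Polynomial.X ^ 2 + Polynomial.C (t * y) * Polynomial.X + Polynomial.C (d * y ^ 2 - 1)
    have hdeg : f.natDegree = 2 := by
      show (Polynomial.X ^ 2 + Polynomial.C (t * y) * Polynomial.X + Polynomial.C (d * y ^ 2 - 1) : Polynomial F).natDegree = 2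
      compute_degree!
    have hf0 : f ≠ 0 := by
      intro h; rw [h] at hdeg; simp at hdeg
    rw [Fintype.card_subtype, ← hdeg]
    refine le_trans (Finset.card_le_card (t := f.roots.toFinset) ?_) ((Multiset.toFinset_card_le _).trans (Polynomial.card_roots' f))
    intro x hx
    have hx' := (Finset.mem_filter.mp hx).2
    rw [Multiset.mem_toFinset, Polynomial.mem_roots hf0, Polynomial.IsRoot.def]
    simp only [f, Polynomial.eval_add, Polynomial.eval_mul, Polynomial.eval_pow, Polynomial.eval_X, Polynomial.eval_C]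
    rw [bf] at hx'
    simp only at hx'
    linear_combination hx'
  calc ∑ y : F, Fintype.card {x : F // bf t d (x, y) = 1} ≤ ∑ y : F, 2 := Finset.sum_le_sum (fun y _ => hb y)
    _ = 2 * Fintype.card F := by rw [Finset.sum_const, Finset.card_univ, smul_eq_mul, mul_comm]

end Count

end Cfsg.Agent.Lib.Tw
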