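import Mathlib
import Cfsg.Agent.Lib.Tw1

/-! Two by two matrices over finite fields: conjugacy. -/

set_option linter.all false
set_option maxHeartbeats 400000

namespace Cfsg.Agent.Lib.Tw

open Matrix
open scoped MatrixGroups

variable {F : Type*} [Field F]

/-- companion matrix -/
def cmp (t d : F) : Matrix (Fin 2) (Fin 2) F := !![0, -d; 1, t]

theorem exists_comp {A : Matrix (Fin 2) (Fin 2) F} (hA : NS A) :
    ∃ P : GL (Fin 2) F, A * (P : Matrix (Fin 2) (Fin 2) F) = P * cmp A.trace A.det := by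
  by_cases hc : A 1 0 = 0
  · by_cases hb : A 0 1 = 0
    · have hd : A 1 1 - A 0 0 ≠ 0 := fun h => hA ⟨hb, hc, (sub_eq_zero.mp h).symm⟩
      refine ⟨Matrix.GeneralLinearGroup.mkOfDetNeZero !![1, A 0 0; 1, A 1 1] (by
        rw [Matrix.det_fin_two_of]; intro h; apply hd; rw [← h]; ring), ?_⟩
      show A * !![1, A 0 0; 1, A 1 1] = !![1, A 0 0; 1, A 1 1] * cmp A.trace A.det
      ext i j
      fin_cases i <;> fin_cases j <;>
        simp [Matrix.mul_apply, Fin.sum_univ_two, cmp, Matrix.trace_fin_two, Matrix.det_fin_two, hb, hc] <;> ring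
    · refine ⟨Matrix.GeneralLinearGroup.mkOfDetNeZero !![0, A 0 1; 1, A 1 1] (by
        rw [Matrix.det_fin_two_of]; intro h; apply hb; linear_combination -h), ?_⟩
      show A * !![0, A 0 1; 1, A 1 1] = !![0, A 0 1; 1, A 1 1] * cmp A.trace A.det
      ext i j
      fin_cases i <;> fin_cases j <;>
        simp [Matrix.mul_apply, Fin.sum_univ_two, cmp, Matrix.trace_fin_two, Matrix.det_fin_two, hc] <;> ring
  · refine ⟨Matrix.GeneralLinearGroup.mkOfDetNeZero !![1, A 0 0; 0, A 1 0] (by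
      rw [Matrix.det_fin_two_of]; intro h; apply hc; linear_combination h), ?_⟩
    show A * !![1, A 0 0; 0, A 1 0] = !![1, A 0 0; 0, A 1 0] * cmp A.trace A.det
    ext i j
    fin_cases i <;> fin_cases j <;>
      simp [Matrix.mul_apply, Fin.sum_univ_two, cmp, Matrix.trace_fin_two, Matrix.det_fin_two] <;> ring

/-- similar matrices -/
theorem exists_sim {A B : Matrix (Fin 2) (Fin 2) F} (hA : NS A) (hB : NS B) (ht : A.trace = B.trace) (hd : A.det = B.det) :
    ∃ P : GL (Fin 2) F, A * (P : Matrix (Fin 2) (Fin 2) F) = P * B := by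
  obtain ⟨P, hP⟩ := exists_comp hA
  obtain ⟨Q, hQ⟩ := exists_comp hB
  refine ⟨P * Q⁻¹, ?_⟩
  have e1 : (B : Matrix (Fin 2) (Fin 2) F) = Q * cmp A.trace A.det * ((Q⁻¹ : GL (Fin 2) F) : Matrix (Fin 2) (Fin 2) F) := by
    rw [ht, hd, ← hQ, mul_assoc, ← Units.val_mul, mul_inv_cancel, Units.val_one, mul_one]
  rw [e1, Units.val_mul, ← mul_assoc, hP]
  have e2 : ((Q⁻¹ : GL (Fin 2) F) : Matrix (Fin 2) (Fin 2) F) * ((Q : Matrix (Fin 2) (Fin 2) F) * cmp A.trace A.det) = cmp A.trace A.det := by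
    rw [← mul_assoc, ← Units.val_mul, inv_mul_cancel, Units.val_one, one_mul]
  calc (P : Matrix (Fin 2) (Fin 2) F) * cmp A.trace A.det * ((Q⁻¹ : GL (Fin 2) F) : Matrix (Fin 2) (Fin 2) F)
      = (P : Matrix (Fin 2) (Fin 2) F) * (((Q⁻¹ : GL (Fin 2) F) : Matrix (Fin 2) (Fin 2) F) * ((Q : Matrix (Fin 2) (Fin 2) F) * cmp A.trace A.det)) *
          ((Q⁻¹ : GL (Fin 2) F) : Matrix (Fin 2) (Fin 2) F) := by rw [e2]
    _ = _ := by simp only [mul_assoc]

theorem isConj_GL_iff {A B : GL (Fin 2) F} : IsConj A B ↔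
    ∃ P : GL (Fin 2) F, (A : Matrix (Fin 2) (Fin 2) F) * (P : Matrix (Fin 2) (Fin 2) F) = P * (B : Matrix (Fin 2) (Fin 2) F) := by
  rw [isConj_comm, isConj_iff]
  constructor
  · rintro ⟨P, hP⟩
    refine ⟨P, ?_⟩
    rw [← Units.val_mul, ← Units.val_mul]
    congr 1
    rw [← hP]; group
  · rintro ⟨P, hP⟩
    refine ⟨P, ?_⟩
    rw [← Units.val_mul, ← Units.val_mul] at hP
    have := Units.ext hP
    rw [mul_inv_eq_iff_eq_mul]
    exact this.symm

theorem trace_conj_GL {A B : GL (Fin 2) F} (h : IsConj A B) :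
    (A : Matrix (Fin 2) (Fin 2) F).trace = (B : Matrix (Fin 2) (Fin 2) F).trace := by
  rw [isConj_iff] at h
  obtain ⟨g, rfl⟩ := h
  rw [Units.val_mul, Units.val_mul, Matrix.trace_mul_comm, ← mul_assoc, ← Units.val_mul, inv_mul_cancel, Units.val_one, one_mul]

theorem det_conj_GL {A B : GL (Fin 2) F} (h : IsConj A B) :
    (A : Matrix (Fin 2) (Fin 2) F).det = (B : Matrix (Fin 2) (Fin 2) F).det := by
  rw [isConj_iff] at h
  obtain ⟨g, rfl⟩ := h
  rw [Units.val_mul, Units.val_mul, Matrix.det_mul_comm, ← mul_assoc, ← Units.val_mul, inv_mul_cancel, Units.val_one, one_mul]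

theorem isConj_GL {A B : GL (Fin 2) F} (hA : NS (A : Matrix (Fin 2) (Fin 2) F)) (hB : NS (B : Matrix (Fin 2) (Fin 2) F))
    (ht : (A : Matrix (Fin 2) (Fin 2) F).trace = (B : Matrix (Fin 2) (Fin 2) F).trace)
    (hd : (A : Matrix (Fin 2) (Fin 2) F).det = (B : Matrix (Fin 2) (Fin 2) F).det) : IsConj A B :=
  isConj_GL_iff.mpr (exists_sim hA hB ht hd)

theorem isConj_SL_iff {A B : SL(2, F)} : IsConj A B ↔
    ∃ P : GL (Fin 2) F, (P : Matrix (Fin 2) (Fin 2) F).det = 1 ∧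
      (A : Matrix (Fin 2) (Fin 2) F) * (P : Matrix (Fin 2) (Fin 2) F) = P * (B : Matrix (Fin 2) (Fin 2) F) := by
  rw [isConj_comm, isConj_iff]
  constructor
  · rintro ⟨P, hP⟩
    refine ⟨(P : GL (Fin 2) F), P.det_coe, ?_⟩
    rw [mul_inv_eq_iff_eq_mul] at hP
    exact (congrArg (fun z : SL(2, F) => (z : Matrix (Fin 2) (Fin 2) F)) hP).symm
  · rintro ⟨P, hP1, hP⟩
    let P' : SL(2, F) := ⟨(P : Matrix (Fin 2) (Fin 2) F), hP1⟩
    refine ⟨P', ?_⟩
    rw [mul_inv_eq_iff_eq_mul]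
    apply Subtype.ext
    exact hP.symm

/-- all determinants occur in the centralizer -/
def Un (t d : F) : Prop := ∀ c : F, c ≠ 0 → ∃ p, bf t d p = c

theorem isConj_SL_of_det {A B : SL(2, F)} (hA : NS (A : Matrix (Fin 2) (Fin 2) F)) {P : GL (Fin 2) F}
    (hP : (A : Matrix (Fin 2) (Fin 2) F) * (P : Matrix (Fin 2) (Fin 2) F) = P * (B : Matrix (Fin 2) (Fin 2) F))
    (hp : ∃ p, bf (A : Matrix (Fin 2) (Fin 2) F).trace 1 p = (P : Matrix (Fin 2) (Fin 2) F).det) : IsConj A B := by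
  obtain ⟨p, hp⟩ := hp
  have hdP : (P : Matrix (Fin 2) (Fin 2) F).det ≠ 0 := ((Matrix.isUnit_iff_isUnit_det _).mp P.isUnit).ne_zero
  have hz : (p.1 • (1 : Matrix (Fin 2) (Fin 2) F) + p.2 • (A : Matrix (Fin 2) (Fin 2) F)).det = (P : Matrix (Fin 2) (Fin 2) F).det := by
    rw [det_form, A.det_coe, ← hp]
  let Z : GL (Fin 2) F := Matrix.GeneralLinearGroup.mkOfDetNeZero _ (hz.trans_ne hdP)
  have hZ : (Z : Matrix (Fin 2) (Fin 2) F) = p.1 • (1 : Matrix (Fin 2) (Fin 2) F) + p.2 • (A : Matrix (Fin 2) (Fin 2) F) := rfl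
  have hZA : (Z : Matrix (Fin 2) (Fin 2) F) * (A : Matrix (Fin 2) (Fin 2) F) = (A : Matrix (Fin 2) (Fin 2) F) * Z := form_comm _ _ _
  have hZA' : ((Z⁻¹ : GL (Fin 2) F) : Matrix (Fin 2) (Fin 2) F) * (A : Matrix (Fin 2) (Fin 2) F) =
      (A : Matrix (Fin 2) (Fin 2) F) * ((Z⁻¹ : GL (Fin 2) F) : Matrix (Fin 2) (Fin 2) F) := by
    calc ((Z⁻¹ : GL (Fin 2) F) : Matrix (Fin 2) (Fin 2) F) * (A : Matrix (Fin 2) (Fin 2) F)
        = ((Z⁻¹ : GL (Fin 2) F) : Matrix (Fin 2) (Fin 2) F) * ((A : Matrix (Fin 2) (Fin 2) F) * Z) * ((Z⁻¹ : GL (Fin 2) F) : Matrix (Fin 2) (Fin 2) F) := by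
          rw [mul_assoc, mul_assoc, ← Units.val_mul, mul_inv_cancel, Units.val_one, mul_one]
      _ = ((Z⁻¹ : GL (Fin 2) F) : Matrix (Fin 2) (Fin 2) F) * ((Z : Matrix (Fin 2) (Fin 2) F) * (A : Matrix (Fin 2) (Fin 2) F)) * ((Z⁻¹ : GL (Fin 2) F) : Matrix (Fin 2) (Fin 2) F) := by
          rw [hZA]
      _ = (A : Matrix (Fin 2) (Fin 2) F) * ((Z⁻¹ : GL (Fin 2) F) : Matrix (Fin 2) (Fin 2) F) := by
          rw [← mul_assoc, ← Units.val_mul, inv_mul_cancel, Units.val_one, one_mul]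
  rw [isConj_SL_iff]
  refine ⟨Z⁻¹ * P, ?_, ?_⟩
  · have h1 : ((Z⁻¹ * P : GL (Fin 2) F) : Matrix (Fin 2) (Fin 2) F).det * (Z : Matrix (Fin 2) (Fin 2) F).det = (P : Matrix (Fin 2) (Fin 2) F).det := by
      rw [mul_comm, ← Matrix.det_mul, ← Units.val_mul, mul_inv_cancel_left]
    rw [hZ, hz] at h1
    exact mul_right_cancel₀ hdP (h1.trans (one_mul _).symm)
  · rw [Units.val_mul, ← mul_assoc, ← hZA', mul_assoc, hP, mul_assoc]

theorem isConj_SL {A B : SL(2, F)} (hA : NS (A : Matrix (Fin 2) (Fin 2) F)) (hB : NS (B : Matrix (Fin 2) (Fin 2) F))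
    (ht : (A : Matrix (Fin 2) (Fin 2) F).trace = (B : Matrix (Fin 2) (Fin 2) F).trace)
    (hu : Un (A : Matrix (Fin 2) (Fin 2) F).trace 1) : IsConj A B := by
  obtain ⟨P, hP⟩ := exists_sim hA hB ht (A.det_coe.trans B.det_coe.symm)
  exact isConj_SL_of_det hA hP (hu _ ((Matrix.isUnit_iff_isUnit_det _).mp P.isUnit).ne_zero)

theorem un_split {α β : F} (h : α ≠ β) : Un (α + β) (α * β) := by
  intro c _
  have h1 : α - β ≠ 0 := sub_ne_zero.mpr h
  refine ⟨(c - α * ((c - 1) / (α - β)), (c - 1) / (α - β)), ?_⟩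
  rw [bf_split]
  have h2 : c - α * ((c - 1) / (α - β)) + α * ((c - 1) / (α - β)) = c := by ring
  have h3 : c - α * ((c - 1) / (α - β)) + β * ((c - 1) / (α - β)) = 1 := by
    field_simp
    ring
  rw [h2, h3, mul_one]

theorem trace_conj_SL {A B : SL(2, F)} (h : IsConj A B) :
    (A : Matrix (Fin 2) (Fin 2) F).trace = (B : Matrix (Fin 2) (Fin 2) F).trace := by
  rw [isConj_iff] at h
  obtain ⟨g, rfl⟩ := h
  rw [Matrix.SpecialLinearGroup.coe_mul, Matrix.SpecialLinearGroup.coe_mul, Matrix.trace_mul_comm, ← mul_assoc,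
    ← Matrix.SpecialLinearGroup.coe_mul, inv_mul_cancel, Matrix.SpecialLinearGroup.coe_one, one_mul]

section Fin

variable [Fintype F]

/-- anisotropic forms represent everything -/
theorem un_ne {t d : F} (h : ∀ c : F, c ^ 2 - t * c + d ≠ 0) :
    Un t d ∧ Nat.card {p : F × F // bf t d p = 1} = Fintype.card F + 1 := by
  classical
  have hd : d ≠ 0 := by
    intro hd; apply h 0; rw [hd]; ring
  let A : GL (Fin 2) F := Matrix.GeneralLinearGroup.mkOfDetNeZero (cmp t d) (by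
    rw [cmp, Matrix.det_fin_two_of]; simpa using hd)
  have hAt : (A : Matrix (Fin 2) (Fin 2) F).trace = t := by
    show (cmp t d).trace = t
    rw [cmp, Matrix.trace_fin_two_of]; ring
  have hAd : (A : Matrix (Fin 2) (Fin 2) F).det = d := by
    show (cmp t d).det = d
    rw [cmp, Matrix.det_fin_two_of]; ring
  have hA : NS (A : Matrix (Fin 2) (Fin 2) F) := by
    rintro ⟨_, h2, _⟩
    exact one_ne_zero (h2 : (1 : F) = 0)
  have hC := Nat.card_congr (centGL hA)
  rw [hAt, hAd, card_ne_ne h] at hC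
  let C := Subgroup.centralizer ({A} : Set (GL (Fin 2) F))
  let δ : C →* Fˣ := Matrix.GeneralLinearGroup.det.comp C.subtype
  have hker : Nat.card δ.ker = Nat.card {p : F × F // bf t d p = 1} := by
    refine Nat.card_congr (Equiv.symm ?_)
    refine Equiv.ofBijective (fun p => ⟨centGL hA ⟨p.1, by rw [hAt, hAd, p.2]; exact one_ne_zero⟩, ?_⟩) ⟨?_, ?_⟩
    · rw [MonoidHom.mem_ker]
      apply Units.ext
      show (p.1.1 • (1 : Matrix (Fin 2) (Fin 2) F) + p.1.2 • (A : Matrix (Fin 2) (Fin 2) F)).det = 1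
      rw [det_form, hAt, hAd]; exact p.2
    · intro p p' hpp
      have h1 := (centGL hA).injective (congrArg Subtype.val hpp)
      have h2 := congrArg Subtype.val h1
      exact Subtype.ext h2
    · intro z
      obtain ⟨⟨p, hp0⟩, hp⟩ := (centGL hA).surjective z.1
      refine ⟨⟨p, ?_⟩, Subtype.ext (by rw [← hp])⟩
      have h2 := z.2
      rw [MonoidHom.mem_ker, ← hp] at h2
      have h3 : (p.1 • (1 : Matrix (Fin 2) (Fin 2) F) + p.2 • (A : Matrix (Fin 2) (Fin 2) F)).det = 1 :=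
        congrArg Units.val h2
      rw [det_form, hAt, hAd] at h3
      exact h3
  have hmul : Nat.card δ.ker * Nat.card δ.range = Fintype.card F ^ 2 - 1 := by
    have e : Nat.card C = Fintype.card F ^ 2 - 1 := hC.symm
    rw [← e, ← Subgroup.index_ker, mul_comm]
    exact Subgroup.index_mul_card δ.ker
  have hle := card_one_le t d
  rw [← hker] at hle
  have hq : 1 < Fintype.card F := Fintype.one_lt_card
  obtain ⟨m, hm⟩ : Nat.card δ.range ∣ Nat.card Fˣ := Subgroup.card_subgroup_dvd_card _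
  rw [Nat.card_units, Nat.card_eq_fintype_card] at hm
  have hsq : Fintype.card F ^ 2 - 1 = (Fintype.card F - 1) * (Fintype.card F + 1) := by
    obtain ⟨k, hk⟩ : ∃ k, Fintype.card F = k + 1 := ⟨Fintype.card F - 1, by omega⟩
    rw [hk]
    have : (k + 1) ^ 2 = k * (k + 2) + 1 := by ring
    rw [this, Nat.add_sub_cancel, Nat.add_sub_cancel]
  have hm1 : m = 1 := by
    have hm0 : m ≠ 0 := by rintro rfl; omega
    by_contra hm1
    have hm2 : 2 ≤ m := by omega
    have hr : 0 < Nat.card δ.range := Nat.card_pos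
    have h4 : Nat.card δ.ker = m * (Fintype.card F + 1) := by
      have : Nat.card δ.range * Nat.card δ.ker = Nat.card δ.range * (m * (Fintype.card F + 1)) := by
        rw [mul_comm, hmul, hsq, hm]; ring
      exact Nat.eq_of_mul_eq_mul_left hr this
    nlinarith
  subst hm1
  rw [mul_one] at hm
  constructor
  · intro c hc
    have htop : δ.range = ⊤ := by
      apply Subgroup.eq_top_of_card_eq
      rw [← hm, Nat.card_units, Nat.card_eq_fintype_card]
    have : Units.mk0 c hc ∈ δ.range := by rw [htop]; trivial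
    obtain ⟨z, hz⟩ := this
    obtain ⟨⟨p, hp0⟩, hp⟩ := (centGL hA).surjective z
    refine ⟨p, ?_⟩
    have h3 : (p.1 • (1 : Matrix (Fin 2) (Fin 2) F) + p.2 • (A : Matrix (Fin 2) (Fin 2) F)).det = c := by
      rw [← hp] at hz
      exact congrArg Units.val hz
    rw [det_form, hAt, hAd] at h3
    exact h3
  · rw [← hker]
    have : Nat.card δ.range * Nat.card δ.ker = Nat.card δ.range * (Fintype.card F + 1) := by
      rw [mul_comm, hmul, hsq, hm]
    exact Nat.eq_of_mul_eq_mul_left Nat.card_pos this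

theorem card_centGL_ne {A : GL (Fin 2) F} (hA : NE (A : Matrix (Fin 2) (Fin 2) F)) :
    Nat.card (Subgroup.centralizer ({A} : Set (GL (Fin 2) F))) = Fintype.card F ^ 2 - 1 := by
  rw [← Nat.card_congr (centGL hA.ns), card_ne_ne (ne_iff.mp hA)]

theorem card_centSL_ne {A : SL(2, F)} (hA : NE (A : Matrix (Fin 2) (Fin 2) F)) :
    Nat.card (Subgroup.centralizer ({A} : Set SL(2, F))) = Fintype.card F + 1 := by
  rw [← Nat.card_congr (centSL hA.ns)]
  have := ne_iff.mp hA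
  rw [A.det_coe] at this
  exact (un_ne this).2

/-- split with distinct eigenvalues -/
theorem card_centGL_split {A : GL (Fin 2) F} {α β : F} (hαβ : α ≠ β) (ht : (A : Matrix (Fin 2) (Fin 2) F).trace = α + β)
    (hd : (A : Matrix (Fin 2) (Fin 2) F).det = α * β) :
    Nat.card (Subgroup.centralizer ({A} : Set (GL (Fin 2) F))) = (Fintype.card F - 1) ^ 2 := by
  have hA : NS (A : Matrix (Fin 2) (Fin 2) F) := by
    rintro ⟨h1, h2, h3⟩
    rw [Matrix.trace_fin_two, ← h3] at ht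
    rw [Matrix.det_fin_two, h1, ← h3] at hd
    apply hαβ
    have : (α - β) ^ 2 = 0 := by linear_combination (-(α + β) - 2 * (A : Matrix (Fin 2) (Fin 2) F) 0 0) * ht + 4 * hd
    exact sub_eq_zero.mp (pow_eq_zero_iff two_ne_zero |>.mp this)
  rw [← Nat.card_congr (centGL hA), ht, hd, card_split_ne hαβ]

theorem card_centSL_split {A : SL(2, F)} {α β : F} (hαβ : α ≠ β) (ht : (A : Matrix (Fin 2) (Fin 2) F).trace = α + β)
    (hd : α * β = 1) :
    Nat.card (Subgroup.centralizer ({A} : Set SL(2, F))) = Fintype.card F - 1 := by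
  have hA : NS (A : Matrix (Fin 2) (Fin 2) F) := by
    rintro ⟨h1, h2, h3⟩
    have hd' := A.det_coe
    rw [Matrix.trace_fin_two, ← h3] at ht
    rw [Matrix.det_fin_two, h1, ← h3] at hd'
    apply hαβ
    have : (α - β) ^ 2 = 0 := by
      linear_combination (-(α + β) - 2 * (A : Matrix (Fin 2) (Fin 2) F) 0 0) * ht + 4 * hd' - 4 * hd
    exact sub_eq_zero.mp (pow_eq_zero_iff two_ne_zero |>.mp this)
  rw [← Nat.card_congr (centSL hA), ht, ← hd, hd, ← hd]
  have := card_split_one hαβ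
  rw [hd] at this
  rw [hd]
  exact this

theorem card_centSL_par {A : SL(2, F)} {α : F} (hA : NS (A : Matrix (Fin 2) (Fin 2) F)) (ht : (A : Matrix (Fin 2) (Fin 2) F).trace = α + α)
    (hd : α * α = 1) :
    Nat.card (Subgroup.centralizer ({A} : Set SL(2, F))) = Nat.card {x : F // x ^ 2 = 1} * Fintype.card F := by
  rw [← Nat.card_congr (centSL hA), ht]
  have := card_par_one α
  rw [hd] at this
  exact this

end Fin

end Cfsg.Agent.Lib.Tw
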