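import Mathlib
import Cfsg.Agent.Lib.Tw2

/-! Conjugacy classes of `GL_2` and `SL_2` over finite fields. -/

set_option linter.all false
set_option maxHeartbeats 400000

namespace Cfsg.Agent.Lib.Tw

open Matrix
open scoped MatrixGroups

variable {F : Type*} [Field F]

theorem root_cases (t d : F) : (∃ α β : F, t = α + β ∧ d = α * β) ∨ (∀ c : F, c ^ 2 - t * c + d ≠ 0) := by
  by_cases h : ∃ c : F, c ^ 2 - t * c + d = 0
  · obtain ⟨c, hc⟩ := h
    exact Or.inl ⟨c, t - c, by ring, by linear_combination hc⟩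
  · right
    push Not at h
    exact h

theorem trace_cmp (t d : F) : (cmp t d).trace = t := by
  rw [cmp, Matrix.trace_fin_two_of]; ring

theorem det_cmp (t d : F) : (cmp t d).det = d := by
  rw [cmp, Matrix.det_fin_two_of]; ring

theorem ns_cmp (t d : F) : NS (cmp t d) := by
  rintro ⟨_, h2, _⟩
  exact one_ne_zero (h2 : (1 : F) = 0)

/-- companion matrix in `GL` -/
noncomputable def cmpG (t : F) (d : Fˣ) : GL (Fin 2) F :=
  Matrix.GeneralLinearGroup.mkOfDetNeZero (cmp t d) (by rw [det_cmp]; exact d.ne_zero)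

theorem cmpG_coe (t : F) (d : Fˣ) : (cmpG t d : Matrix (Fin 2) (Fin 2) F) = cmp t d := rfl

/-- companion matrix in `SL` -/
def cmpS (t : F) : SL(2, F) := ⟨cmp t 1, det_cmp t 1⟩

theorem cmpS_coe (t : F) : (cmpS t : Matrix (Fin 2) (Fin 2) F) = cmp t 1 := rfl

/-- scalar in `GL` -/
def scG (c : Fˣ) : GL (Fin 2) F := Units.map (Matrix.scalar (Fin 2) : F →+* Matrix (Fin 2) (Fin 2) F) c

theorem scG_coe (c : Fˣ) : (scG c : Matrix (Fin 2) (Fin 2) F) = (c : F) • 1 := by
  show Matrix.scalar (Fin 2) (c : F) = _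
  rw [Matrix.smul_one_eq_diagonal]
  rfl

theorem eq_scG {A : GL (Fin 2) F} (h : ¬ NS (A : Matrix (Fin 2) (Fin 2) F)) : ∃ c, A = scG c := by
  rw [ns_iff] at h
  push Not at h
  obtain ⟨c, hc⟩ := h
  have hc0 : c ≠ 0 := by
    rintro rfl
    have := ((Matrix.isUnit_iff_isUnit_det _).mp A.isUnit).ne_zero
    rw [hc, zero_smul, Matrix.det_zero] at this
    exact this rfl
  refine ⟨Units.mk0 c hc0, Units.ext ?_⟩
  rw [hc, scG_coe]
  rfl

theorem scG_conj {c : Fˣ} {B : GL (Fin 2) F} (h : IsConj (scG c) B) : B = scG c := by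
  rw [isConj_iff] at h
  obtain ⟨g, rfl⟩ := h
  apply Units.ext
  rw [Units.val_mul, Units.val_mul, scG_coe, mul_smul_comm, mul_one, smul_mul_assoc, ← Units.val_mul, mul_inv_cancel]
  rfl

theorem not_ns_scG (c : Fˣ) : ¬ NS (scG c : Matrix (Fin 2) (Fin 2) F) := by
  rw [ns_iff]
  push Not
  exact ⟨c, scG_coe c⟩

theorem isConj_cmpG {A : GL (Fin 2) F} (h : NS (A : Matrix (Fin 2) (Fin 2) F)) :
    IsConj A (cmpG (A : Matrix (Fin 2) (Fin 2) F).trace (Matrix.GeneralLinearGroup.det A)) := by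
  refine isConj_GL h (ns_cmp _ _) ?_ ?_
  · rw [cmpG_coe, trace_cmp]
  · rw [cmpG_coe, det_cmp]; rfl

/-- the classes of `GL_2` -/
theorem classesGL_bij : Function.Bijective (fun x : Fˣ ⊕ (F × Fˣ) =>
    (Sum.elim (fun c => ConjClasses.mk (scG c)) (fun p => ConjClasses.mk (cmpG p.1 p.2)) x : ConjClasses (GL (Fin 2) F))) := by
  constructor
  · rintro (c | p) (c' | p') h
    · have h1 := ConjClasses.mk_eq_mk_iff_isConj.mp h
      have h2 := congrArg (fun z : GL (Fin 2) F => (z : Matrix (Fin 2) (Fin 2) F) 0 0) (scG_conj h1)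
      simp only [scG_coe] at h2
      simp at h2
      have h3 : c' = c := Units.ext h2
      rw [h3]
    · have h1 := ConjClasses.mk_eq_mk_iff_isConj.mp h
      exact absurd (scG_conj h1 ▸ ns_cmp p'.1 p'.2 : NS (scG c : Matrix (Fin 2) (Fin 2) F)) (not_ns_scG c)
    · have h1 := (ConjClasses.mk_eq_mk_iff_isConj.mp h).symm
      exact absurd (scG_conj h1 ▸ ns_cmp p.1 p.2 : NS (scG c' : Matrix (Fin 2) (Fin 2) F)) (not_ns_scG c')
    · have h1 := ConjClasses.mk_eq_mk_iff_isConj.mp h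
      have h2 := trace_conj_GL h1
      have h3 := det_conj_GL h1
      rw [cmpG_coe, cmpG_coe, trace_cmp, trace_cmp] at h2
      rw [cmpG_coe, cmpG_coe, det_cmp, det_cmp] at h3
      congr 1
      exact Prod.ext h2 (Units.ext h3)
  · intro C
    obtain ⟨A, rfl⟩ := ConjClasses.mk_surjective C
    by_cases h : NS (A : Matrix (Fin 2) (Fin 2) F)
    · exact ⟨Sum.inr (_, _), (ConjClasses.mk_eq_mk_iff_isConj.mpr (isConj_cmpG h)).symm⟩
    · obtain ⟨c, rfl⟩ := eq_scG h
      exact ⟨Sum.inl c, rfl⟩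

theorem card_classesGL [Fintype F] : Nat.card (ConjClasses (GL (Fin 2) F)) = Fintype.card F ^ 2 - 1 := by
  rw [← Nat.card_congr (Equiv.ofBijective _ classesGL_bij), Nat.card_sum, Nat.card_prod, Nat.card_units, Nat.card_eq_fintype_card]
  have hq : 1 < Fintype.card F := Fintype.one_lt_card
  obtain ⟨k, hk⟩ : ∃ k, Fintype.card F = k + 1 := ⟨Fintype.card F - 1, by omega⟩
  rw [hk]
  have : (k + 1) ^ 2 = k * (k + 2) + 1 := by ring
  rw [this]
  simp only [Nat.add_sub_cancel]
  ring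

/-! `SL_2` -/

theorem not_ns_SL {A : SL(2, F)} (h : ¬ NS (A : Matrix (Fin 2) (Fin 2) F)) : A = 1 ∨ A = -1 := by
  unfold NS at h
  push Not at h
  obtain ⟨h1, h2, h3⟩ := h
  have hd := A.det_coe
  rw [Matrix.det_fin_two, h1, ← h3] at hd
  have h4 : ((A : Matrix (Fin 2) (Fin 2) F) 0 0 - 1) * ((A : Matrix (Fin 2) (Fin 2) F) 0 0 + 1) = 0 := by linear_combination hd
  rcases mul_eq_zero.mp h4 with h5 | h5
  · left
    have h6 : (A : Matrix (Fin 2) (Fin 2) F) 0 0 = 1 := sub_eq_zero.mp h5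
    ext i j
    fin_cases i <;> fin_cases j <;> simp [h1, h2, ← h3, h6]
  · right
    have h6 : (A : Matrix (Fin 2) (Fin 2) F) 0 0 = -1 := eq_neg_of_add_eq_zero_left h5
    ext i j
    fin_cases i <;> fin_cases j <;> simp [h1, h2, ← h3, h6]

theorem not_ns_one : ¬ NS ((1 : SL(2, F)) : Matrix (Fin 2) (Fin 2) F) := by
  intro h; exact h (by simp)

theorem not_ns_neg_one : ¬ NS ((-1 : SL(2, F)) : Matrix (Fin 2) (Fin 2) F) := by
  intro h; exact h (by simp)

section Fin

variable [Fintype F]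

theorem un_of {t : F} (h : ∀ α : F, t = α + α → α * α = 1 → ∀ c : F, IsSquare c) : Un t 1 := by
  rcases root_cases t 1 with ⟨α, β, h1, h2⟩ | h1
  · by_cases hαβ : α = β
    · subst hαβ
      intro c _
      obtain ⟨s, hs⟩ := h α h1 h2.symm c
      refine ⟨(s, 0), ?_⟩
      rw [bf, hs]; simp; ring
    · rw [h1, h2]
      exact un_split hαβ
  · exact (un_ne h1).1

/-- classes of `SL_2`, even characteristic -/
theorem card_classesSL_even [CharP F 2] : Nat.card (ConjClasses SL(2, F)) = Fintype.card F + 1 := by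
  have hsq : ∀ c : F, IsSquare c := by
    intro c
    exact FiniteField.isSquare_of_char_two (CharP.ringChar_of_prime_eq_zero Nat.prime_two (by
      have := CharP.cast_eq_zero F 2; exact_mod_cast this)) c
  have hneg : (-1 : SL(2, F)) = 1 := by
    ext i j
    fin_cases i <;> fin_cases j <;> simp [CharTwo.neg_eq]
  have hb : Function.Bijective (fun x : Unit ⊕ F =>
      (Sum.elim (fun _ => ConjClasses.mk 1) (fun t => ConjClasses.mk (cmpS t)) x : ConjClasses SL(2, F))) := by
    constructor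
    · rintro (c | p) (c' | p') h
      · rfl
      · have h1 := ConjClasses.mk_eq_mk_iff_isConj.mp h
        rw [isConj_one_right] at h1
        exact absurd (h1.symm ▸ ns_cmp p' 1 : NS ((1 : SL(2, F)) : Matrix (Fin 2) (Fin 2) F)) not_ns_one
      · have h1 := (ConjClasses.mk_eq_mk_iff_isConj.mp h).symm
        rw [isConj_one_right] at h1
        exact absurd (h1.symm ▸ ns_cmp p 1 : NS ((1 : SL(2, F)) : Matrix (Fin 2) (Fin 2) F)) not_ns_one
      · have h1 := ConjClasses.mk_eq_mk_iff_isConj.mp h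
        have h2 := trace_conj_SL h1
        rw [cmpS_coe, cmpS_coe, trace_cmp, trace_cmp] at h2
        rw [h2]
    · intro C
      obtain ⟨A, rfl⟩ := ConjClasses.mk_surjective C
      by_cases h : NS (A : Matrix (Fin 2) (Fin 2) F)
      · refine ⟨Sum.inr ((A : Matrix (Fin 2) (Fin 2) F).trace), (ConjClasses.mk_eq_mk_iff_isConj.mpr ?_).symm⟩
        refine isConj_SL h (ns_cmp _ _) ?_ (un_of (fun _ _ _ => hsq))
        rw [cmpS_coe, trace_cmp]
      · refine ⟨Sum.inl (), ?_⟩
        rcases not_ns_SL h with h | h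
        · rw [h]; rfl
        · rw [h, hneg]; rfl
  rw [← Nat.card_congr (Equiv.ofBijective _ hb), Nat.card_sum, Nat.card_eq_fintype_card (α := F), add_comm]
  simp

end Fin

end Cfsg.Agent.Lib.Tw
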