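import Mathlib
import Cfsg.Agent.Lib.Tw3

/-! Conjugacy classes of `SL_2` in odd characteristic. -/

set_option linter.all false
set_option maxHeartbeats 400000

namespace Cfsg.Agent.Lib.Tw

open Matrix
open scoped MatrixGroups

variable {F : Type*} [Field F]

section Fin

variable [Fintype F]

theorem sq_mul_of_not {a b : F} (ha : ¬ IsSquare a) (hb : ¬ IsSquare b) : IsSquare (a * b) := by
  classical
  have ha0 : a ≠ 0 := by rintro rfl; exact ha (IsSquare.zero)
  have hb0 : b ≠ 0 := by rintro rfl; exact hb (IsSquare.zero)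
  rw [← quadraticChar_one_iff_isSquare (mul_ne_zero ha0 hb0), map_mul, quadraticChar_neg_one_iff_not_isSquare.mpr ha,
    quadraticChar_neg_one_iff_not_isSquare.mpr hb]
  norm_num

theorem sq_div_of_not {a b : F} (ha : ¬ IsSquare a) (hb : ¬ IsSquare b) : IsSquare (a / b) := by
  have hb0 : b ≠ 0 := by rintro rfl; exact hb (IsSquare.zero)
  have : a / b = (a * b) / (b * b) := by field_simp
  rw [this]
  exact (sq_mul_of_not ha hb).div ⟨b, rfl⟩

theorem two_ne_zero_of_odd (hodd : Odd (Fintype.card F)) : (2 : F) ≠ 0 := by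
  intro h
  obtain ⟨p, hp⟩ := CharP.exists F
  obtain ⟨n, hpp, hn⟩ := FiniteField.card F p
  have h2 : ((2 : ℕ) : F) = 0 := by exact_mod_cast h
  have := (CharP.cast_eq_zero_iff F p 2).mp h2
  have hp2 : p = 2 := (Nat.prime_dvd_prime_iff_eq hpp Nat.prime_two).mp this
  rw [hn, hp2] at hodd
  rw [Nat.odd_pow_iff n.ne_zero] at hodd
  exact absurd hodd (by decide)

theorem exists_nonsq (h2 : (2 : F) ≠ 0) : ∃ ν : F, ν ≠ 0 ∧ ¬ IsSquare ν := by
  have hc : ringChar F ≠ 2 := by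
    intro h
    apply h2
    have : ((ringChar F : ℕ) : F) = 0 := ringChar.Nat.cast_ringChar
    rw [h] at this
    exact_mod_cast this
  obtain ⟨a, ha⟩ := FiniteField.exists_nonsquare hc
  exact ⟨a, by rintro rfl; exact ha IsSquare.zero, ha⟩

end Fin

/-- the twisted companion matrix -/
def twS (ν : Fˣ) (t : F) : SL(2, F) := ⟨!![0, -((ν⁻¹ : Fˣ) : F); (ν : F), t], by simp [Matrix.det_fin_two_of]⟩

theorem twS_coe (ν : Fˣ) (t : F) : (twS ν t : Matrix (Fin 2) (Fin 2) F) = !![0, -((ν⁻¹ : Fˣ) : F); (ν : F), t] := rfl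

theorem trace_twS (ν : Fˣ) (t : F) : (twS ν t : Matrix (Fin 2) (Fin 2) F).trace = t := by
  rw [twS_coe, Matrix.trace_fin_two_of]; ring

theorem ns_twS (ν : Fˣ) (t : F) : NS (twS ν t : Matrix (Fin 2) (Fin 2) F) := by
  rintro ⟨_, h2, _⟩
  exact ν.ne_zero (h2 : (ν : F) = 0)

/-- diagonal matrix of determinant `c` -/
noncomputable def dg (c : Fˣ) : GL (Fin 2) F := Matrix.GeneralLinearGroup.mkOfDetNeZero !![1, 0; 0, (c : F)] (by
  rw [Matrix.det_fin_two_of]; simp)

theorem dg_coe (c : Fˣ) : (dg c : Matrix (Fin 2) (Fin 2) F) = !![1, 0; 0, (c : F)] := rfl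

theorem det_dg (c : Fˣ) : (dg c : Matrix (Fin 2) (Fin 2) F).det = c := by
  rw [dg_coe, Matrix.det_fin_two_of]; ring

theorem cmp_dg (ν : Fˣ) (t : F) :
    cmp t 1 * (dg ν⁻¹ : Matrix (Fin 2) (Fin 2) F) = (dg ν⁻¹ : Matrix (Fin 2) (Fin 2) F) * (twS ν t : Matrix (Fin 2) (Fin 2) F) := by
  rw [dg_coe, twS_coe, cmp]
  ext i j
  fin_cases i <;> fin_cases j <;> simp [Matrix.mul_apply, Fin.sum_univ_two] <;> ring

/-- in the parabolic case determinants of commuting matrices are squares -/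
theorem isSquare_det_of_comm {A : SL(2, F)} (hA : NS (A : Matrix (Fin 2) (Fin 2) F)) {α : F}
    (ht : (A : Matrix (Fin 2) (Fin 2) F).trace = α + α) (hα : α * α = 1) {X : Matrix (Fin 2) (Fin 2) F}
    (h : X * (A : Matrix (Fin 2) (Fin 2) F) = (A : Matrix (Fin 2) (Fin 2) F) * X) : IsSquare X.det := by
  obtain ⟨x, y, rfl⟩ := comm_form hA h
  rw [det_form, A.det_coe, ht, ← hα, bf_split]
  exact ⟨_, rfl⟩

theorem exists_sim_cmp {A : SL(2, F)} (hA : NS (A : Matrix (Fin 2) (Fin 2) F)) :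
    ∃ P : GL (Fin 2) F, (A : Matrix (Fin 2) (Fin 2) F) * (P : Matrix (Fin 2) (Fin 2) F) =
      P * cmp (A : Matrix (Fin 2) (Fin 2) F).trace 1 := by
  have := exists_comp hA
  rw [A.det_coe] at this
  exact this

theorem not_conj_twS {ν : Fˣ} (hν : ¬ IsSquare (ν : F)) {α : F} (hα : α * α = 1) :
    ¬ IsConj (cmpS (α + α)) (twS ν (α + α)) := by
  intro h
  rw [isConj_SL_iff] at h
  obtain ⟨Q, hQ1, hQ⟩ := h
  apply hν
  have h1 : ((dg ν⁻¹ * Q⁻¹ : GL (Fin 2) F) : Matrix (Fin 2) (Fin 2) F) * (cmpS (α + α) : Matrix (Fin 2) (Fin 2) F) =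
      (cmpS (α + α) : Matrix (Fin 2) (Fin 2) F) * ((dg ν⁻¹ * Q⁻¹ : GL (Fin 2) F) : Matrix (Fin 2) (Fin 2) F) := by
    have h2 : ((Q⁻¹ : GL (Fin 2) F) : Matrix (Fin 2) (Fin 2) F) * (cmpS (α + α) : Matrix (Fin 2) (Fin 2) F) =
        (twS ν (α + α) : Matrix (Fin 2) (Fin 2) F) * ((Q⁻¹ : GL (Fin 2) F) : Matrix (Fin 2) (Fin 2) F) := by
      calc ((Q⁻¹ : GL (Fin 2) F) : Matrix (Fin 2) (Fin 2) F) * (cmpS (α + α) : Matrix (Fin 2) (Fin 2) F)
          = ((Q⁻¹ : GL (Fin 2) F) : Matrix (Fin 2) (Fin 2) F) * ((cmpS (α + α) : Matrix (Fin 2) (Fin 2) F) * Q) * ((Q⁻¹ : GL (Fin 2) F) : Matrix (Fin 2) (Fin 2) F) := by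
            rw [mul_assoc, mul_assoc, ← Units.val_mul, mul_inv_cancel, Units.val_one, mul_one]
        _ = _ := by rw [hQ, ← mul_assoc, ← Units.val_mul, inv_mul_cancel, Units.val_one, one_mul]
    rw [Units.val_mul, mul_assoc, h2, ← mul_assoc, ← cmp_dg, mul_assoc]
    rfl
  have h3 := isSquare_det_of_comm (A := cmpS (α + α)) (ns_cmp _ _) (by rw [cmpS_coe, trace_cmp]) hα h1
  have h4 : ((dg ν⁻¹ * Q⁻¹ : GL (Fin 2) F) : Matrix (Fin 2) (Fin 2) F).det = ((ν⁻¹ : Fˣ) : F) := by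
    have h5 : ((Q⁻¹ : GL (Fin 2) F) : Matrix (Fin 2) (Fin 2) F).det = 1 := by
      have : ((Q⁻¹ : GL (Fin 2) F) : Matrix (Fin 2) (Fin 2) F).det * (Q : Matrix (Fin 2) (Fin 2) F).det = 1 := by
        rw [← Matrix.det_mul, ← Units.val_mul, inv_mul_cancel, Units.val_one, Matrix.det_one]
      rw [hQ1, mul_one] at this
      exact this
    rw [Units.val_mul, Matrix.det_mul, det_dg, h5, mul_one]
  rw [h4, Units.val_inv_eq_inv_val] at h3
  have := h3.inv
  rwa [inv_inv] at this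

section Fin

variable [Fintype F]

theorem conj_cmp_or {A : SL(2, F)} (hA : NS (A : Matrix (Fin 2) (Fin 2) F)) {ν : Fˣ} (hν : ¬ IsSquare (ν : F)) :
    IsConj A (cmpS (A : Matrix (Fin 2) (Fin 2) F).trace) ∨ IsConj A (twS ν (A : Matrix (Fin 2) (Fin 2) F).trace) := by
  obtain ⟨P, hP⟩ := exists_sim_cmp hA
  by_cases h : IsSquare (P : Matrix (Fin 2) (Fin 2) F).det
  · left
    obtain ⟨s, hs⟩ := h
    refine isConj_SL_of_det (B := cmpS _) hA hP ⟨(s, 0), ?_⟩
    rw [hs, bf]; simp; ring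
  · right
    have h1 : IsSquare ((P : Matrix (Fin 2) (Fin 2) F).det * (ν⁻¹ : Fˣ)) := by
      rw [Units.val_inv_eq_inv_val, ← div_eq_mul_inv]
      exact sq_div_of_not h hν
    obtain ⟨s, hs⟩ := h1
    refine isConj_SL_of_det (B := twS ν _) (P := P * dg ν⁻¹) hA ?_ ⟨(s, 0), ?_⟩
    · rw [Units.val_mul, ← mul_assoc, hP, mul_assoc, cmp_dg, mul_assoc]
    · rw [Units.val_mul, Matrix.det_mul, det_dg, hs, bf]; simp; ring

theorem neg_one_ne (h2 : (2 : F) ≠ 0) : (-1 : SL(2, F)) ≠ 1 := by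
  intro h
  have := congrArg (fun z : SL(2, F) => (z : Matrix (Fin 2) (Fin 2) F) 0 0) h
  simp at this
  apply h2
  linear_combination -this

/-- classes of `SL_2`, odd characteristic -/
theorem card_classesSL_odd (h2 : (2 : F) ≠ 0) : Nat.card (ConjClasses SL(2, F)) = Fintype.card F + 4 := by
  obtain ⟨ν0, hν0, hν⟩ := exists_nonsq h2
  let ν : Fˣ := Units.mk0 ν0 hν0
  have hν : ¬ IsSquare (ν : F) := hν
  let sg : Bool → SL(2, F) := fun b => if b then 1 else -1
  let sf : Bool → F := fun b => if b then 1 else -1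
  have hsg : ∀ b, ¬ NS (sg b : Matrix (Fin 2) (Fin 2) F) := by
    intro b; cases b
    · exact not_ns_neg_one
    · exact not_ns_one
  have hsgc : ∀ b (x : SL(2, F)), IsConj (sg b) x → x = sg b := by
    intro b x h
    rw [isConj_iff] at h
    obtain ⟨g, rfl⟩ := h
    cases b
    · show g * (-1) * g⁻¹ = -1
      rw [mul_neg, mul_one, neg_mul, mul_inv_cancel]
    · show g * 1 * g⁻¹ = 1
      rw [mul_one, mul_inv_cancel]
  have hsfi : ∀ b b', sf b + sf b = sf b' + sf b' → b = b' := by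
    intro b b' h
    have h3 : (2 : F) * sf b = 2 * sf b' := by linear_combination h
    have h4 := mul_left_cancel₀ h2 h3
    cases b <;> cases b'
    · rfl
    · exfalso
      have : (-1 : F) = 1 := h4
      apply h2; linear_combination -this
    · exfalso
      have : (1 : F) = -1 := h4
      apply h2; linear_combination this
    · rfl
  have hsf1 : ∀ b, sf b * sf b = 1 := by intro b; cases b <;> simp [sf]
  let f : Bool ⊕ (F ⊕ Bool) → ConjClasses SL(2, F) :=
    Sum.elim (fun b => ConjClasses.mk (sg b)) (Sum.elim (fun t => ConjClasses.mk (cmpS t))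
      (fun b => ConjClasses.mk (twS ν (sf b + sf b))))
  have hb : Function.Bijective f := by
    constructor
    · rintro (b | t | b) (b' | t' | b') h
      · have h1 := hsgc b _ (ConjClasses.mk_eq_mk_iff_isConj.mp h)
        cases b <;> cases b'
        · rfl
        · exact absurd h1.symm (neg_one_ne h2)
        · exact absurd h1 (neg_one_ne h2)
        · rfl
      · have h1 := hsgc b _ (ConjClasses.mk_eq_mk_iff_isConj.mp h)
        exact absurd (h1 ▸ ns_cmp t' 1 : NS (sg b : Matrix (Fin 2) (Fin 2) F)) (hsg b)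
      · have h1 := hsgc b _ (ConjClasses.mk_eq_mk_iff_isConj.mp h)
        exact absurd (h1 ▸ ns_twS ν (sf b' + sf b') : NS (sg b : Matrix (Fin 2) (Fin 2) F)) (hsg b)
      · have h1 := hsgc b' _ (ConjClasses.mk_eq_mk_iff_isConj.mp h).symm
        exact absurd (h1 ▸ ns_cmp t 1 : NS (sg b' : Matrix (Fin 2) (Fin 2) F)) (hsg b')
      · have h1 := trace_conj_SL (ConjClasses.mk_eq_mk_iff_isConj.mp h)
        rw [cmpS_coe, cmpS_coe, trace_cmp, trace_cmp] at h1
        rw [h1]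
      · have h0 := ConjClasses.mk_eq_mk_iff_isConj.mp h
        have h1 := trace_conj_SL h0
        rw [cmpS_coe, trace_cmp, trace_twS] at h1
        subst h1
        exact absurd h0 (not_conj_twS hν (hsf1 b'))
      · have h1 := hsgc b' _ (ConjClasses.mk_eq_mk_iff_isConj.mp h).symm
        exact absurd (h1 ▸ ns_twS ν (sf b + sf b) : NS (sg b' : Matrix (Fin 2) (Fin 2) F)) (hsg b')
      · have h0 := (ConjClasses.mk_eq_mk_iff_isConj.mp h).symm
        have h1 := trace_conj_SL h0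
        rw [cmpS_coe, trace_cmp, trace_twS] at h1
        subst h1
        exact absurd h0 (not_conj_twS hν (hsf1 b))
      · have h1 := trace_conj_SL (ConjClasses.mk_eq_mk_iff_isConj.mp h)
        rw [trace_twS, trace_twS] at h1
        rw [hsfi _ _ h1]
    · intro C
      obtain ⟨A, rfl⟩ := ConjClasses.mk_surjective C
      by_cases h : NS (A : Matrix (Fin 2) (Fin 2) F)
      · by_cases ht : ∃ b, (A : Matrix (Fin 2) (Fin 2) F).trace = sf b + sf b
        · obtain ⟨b, hbt⟩ := ht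
          rcases conj_cmp_or h hν with h3 | h3
          · exact ⟨Sum.inr (Sum.inl _), (ConjClasses.mk_eq_mk_iff_isConj.mpr h3).symm⟩
          · rw [hbt] at h3
            exact ⟨Sum.inr (Sum.inr b), (ConjClasses.mk_eq_mk_iff_isConj.mpr h3).symm⟩
        · refine ⟨Sum.inr (Sum.inl ((A : Matrix (Fin 2) (Fin 2) F).trace)), (ConjClasses.mk_eq_mk_iff_isConj.mpr
            (isConj_SL (B := cmpS ((A : Matrix (Fin 2) (Fin 2) F).trace)) h (ns_cmp _ _) ?_
              (un_of (fun α h3 h4 => absurd ?_ ht)))).symm⟩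
          · rw [cmpS_coe, trace_cmp]
          · have h5 : (α - 1) * (α + 1) = 0 := by linear_combination h4
            rcases mul_eq_zero.mp h5 with h6 | h6
            · exact ⟨true, by rw [h3, sub_eq_zero.mp h6]; rfl⟩
            · exact ⟨false, by rw [h3, eq_neg_of_add_eq_zero_left h6]; rfl⟩
      · rcases not_ns_SL h with h | h
        · exact ⟨Sum.inl true, by rw [h]; rfl⟩
        · exact ⟨Sum.inl false, by rw [h]; rfl⟩
  rw [← Nat.card_congr (Equiv.ofBijective f hb), Nat.card_sum, Nat.card_sum, Nat.card_eq_fintype_card (α := F)]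
  simp
  ring

end Fin

end Cfsg.Agent.Lib.Tw
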