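import Mathlib
import Cfsg.Agent.Lib.Tw4

/-! Unipotent classes of `GL_2` and `SL_2` over finite fields. -/

set_option linter.all false
set_option maxHeartbeats 400000

namespace Cfsg.Agent.Lib.Tw

open Matrix
open scoped MatrixGroups

theorem card_carrier_mul {G : Type*} [Group G] [Finite G] (g : G) :
    Nat.card (ConjClasses.mk g).carrier * Nat.card (Subgroup.centralizer ({g} : Set G)) = Nat.card G := by
  classical
  cases nonempty_fintype G
  have h := ConjClasses.card_carrier g
  have h1 : Fintype.card (MulAction.stabilizer (ConjAct G) g) = Nat.card (Subgroup.centralizer ({g} : Set G)) := by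
    rw [← Nat.card_eq_fintype_card, ConjAct.stabilizer_eq_centralizer]
    rfl
  have h2 : Fintype.card (MulAction.stabilizer (ConjAct G) g) ∣ Fintype.card G := by
    rw [← Nat.card_eq_fintype_card, ← Nat.card_eq_fintype_card (α := G)]
    exact Subgroup.card_subgroup_dvd_card (MulAction.stabilizer (ConjAct G) g)
  rw [Nat.card_eq_fintype_card (α := (ConjClasses.mk g).carrier), h, ← h1, Nat.card_eq_fintype_card (α := G)]
  exact Nat.div_mul_cancel h2

variable {F : Type*} [Field F]

theorem trace_det_of_pow {p : ℕ} [Fact p.Prime] [CharP F p] {A : Matrix (Fin 2) (Fin 2) F} (h : A ^ p = 1) :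
    A.trace = 2 ∧ A.det = 1 := by
  have hn : IsNilpotent (A - 1) := ⟨p, by
    rw [sub_pow_char_of_commute p (Commute.one_right A), h, one_pow, sub_self]⟩
  constructor
  · have h1 := Matrix.isNilpotent_trace_of_isNilpotent hn
    rw [isNilpotent_iff_eq_zero, Matrix.trace_sub, Matrix.trace_one, Fintype.card_fin, sub_eq_zero] at h1
    rw [h1]; norm_num
  · have h1 : A.det ^ p = 1 := by rw [← Matrix.det_pow, h, Matrix.det_one]
    have h2 : (A.det - 1) ^ p = 0 := by rw [sub_pow_char, h1, one_pow, sub_self]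
    exact sub_eq_zero.mp (pow_eq_zero_iff (Fact.out : p.Prime).ne_zero |>.mp h2)

theorem ns_of_order {p : ℕ} [Fact p.Prime] [CharP F p] {A : Matrix (Fin 2) (Fin 2) F} (h : A ^ p = 1) (h1 : A ≠ 1) : NS A := by
  rw [ns_iff]
  rintro c rfl
  apply h1
  rw [smul_pow, one_pow] at h
  have h2 := congrFun (congrFun h 0) 0
  simp at h2
  have h3 : (c - 1) ^ p = 0 := by rw [sub_pow_char, h2, one_pow, sub_self]
  rw [sub_eq_zero.mp (pow_eq_zero_iff (Fact.out : p.Prime).ne_zero |>.mp h3), one_smul]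

theorem conj_order_GL {p : ℕ} [Fact p.Prime] [CharP F p] {g h : GL (Fin 2) F} (hg : orderOf g = p) (hh : orderOf h = p) :
    IsConj g h := by
  have e : ∀ g : GL (Fin 2) F, orderOf g = p → (g : Matrix (Fin 2) (Fin 2) F) ^ p = 1 ∧ (g : Matrix (Fin 2) (Fin 2) F) ≠ 1 := by
    intro g hg
    constructor
    · rw [← Units.val_pow_eq_pow_val, ← hg, pow_orderOf_eq_one, Units.val_one]
    · intro h
      have : g = 1 := Units.ext h
      rw [this, orderOf_one] at hg
      exact (Fact.out : p.Prime).ne_one hg.symm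
  have hg' := e g hg
  have hh' := e h hh
  have hg2 := trace_det_of_pow hg'.1
  have hh2 := trace_det_of_pow hh'.1
  exact isConj_GL (ns_of_order hg'.1 hg'.2) (ns_of_order hh'.1 hh'.2) (hg2.1.trans hh2.1.symm) (hg2.2.trans hh2.2.symm)

theorem order_facts {p : ℕ} [Fact p.Prime] [CharP F p] {g : SL(2, F)} (hg : orderOf g = p) :
    NS (g : Matrix (Fin 2) (Fin 2) F) ∧ (g : Matrix (Fin 2) (Fin 2) F).trace = 1 + 1 := by
  have h1 : (g : Matrix (Fin 2) (Fin 2) F) ^ p = 1 := by
    rw [← Matrix.SpecialLinearGroup.coe_pow, ← hg, pow_orderOf_eq_one, Matrix.SpecialLinearGroup.coe_one]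
  refine ⟨ns_of_order h1 ?_, ?_⟩
  · intro h
    have : g = 1 := Subtype.ext h
    rw [this, orderOf_one] at hg
    exact (Fact.out : p.Prime).ne_one hg.symm
  · rw [(trace_det_of_pow h1).1]; norm_num

section Fin

variable [Fintype F]

theorem card_class_order {p : ℕ} [Fact p.Prime] [CharP F p] {g : SL(2, F)} (hg : orderOf g = p) :
    Nat.card (ConjClasses.mk g).carrier * Nat.card {x : F // x ^ 2 = 1} = Fintype.card F ^ 2 - 1 := by
  obtain ⟨h1, h2⟩ := order_facts hg
  have h3 := card_carrier_mul g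
  rw [card_centSL_par h1 h2 (one_mul 1), SL2.card_SL2_eq, ← mul_assoc] at h3
  have hq : 0 < Fintype.card F := Fintype.card_pos
  apply Nat.eq_of_mul_eq_mul_right hq
  rw [h3, mul_comm]

theorem card_sq_one (h2 : (2 : F) ≠ 0) : Nat.card {x : F // x ^ 2 = 1} = 2 := by
  classical
  have e : {x : F // x ^ 2 = 1} ≃ ({1, -1} : Finset F) :=
    Equiv.subtypeEquivRight (fun x => by
      rw [Finset.mem_insert, Finset.mem_singleton]; exact sq_eq_one_iff)
  rw [Nat.card_congr e, Nat.card_eq_fintype_card, Fintype.card_coe]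
  apply Finset.card_pair
  intro h
  apply h2
  linear_combination h

theorem card_sq_one_two [CharP F 2] : Nat.card {x : F // x ^ 2 = 1} = 1 := by
  rw [Nat.card_eq_one_iff_unique]
  refine ⟨⟨fun a b => Subtype.ext ?_⟩, ⟨1, by simp⟩⟩
  have : ∀ x : F, x ^ 2 = 1 → x = 1 := by
    intro x hx
    have h : (x - 1) ^ 2 = 0 := by
      have h2 : (2 : F) = 0 := by have := CharP.cast_eq_zero F 2; exact_mod_cast this
      linear_combination hx + (1 - x) * h2
    exact sub_eq_zero.mp (pow_eq_zero_iff two_ne_zero |>.mp h)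
  rw [this a.1 a.2, this b.1 b.2]

theorem pow_p_of_trace {p : ℕ} [Fact p.Prime] [CharP F p] {A : Matrix (Fin 2) (Fin 2) F} (ht : A.trace = 1 + 1) (hd : A.det = 1) :
    A ^ p = 1 := by
  have h1 : (A - 1) ^ 2 = 0 := by
    rw [Matrix.trace_fin_two] at ht
    rw [Matrix.det_fin_two] at hd
    rw [pow_two]
    ext i j
    fin_cases i <;> fin_cases j <;> simp [Matrix.mul_apply, Fin.sum_univ_two]
    · linear_combination (A 0 0) * ht - hd
    · linear_combination (A 0 1) * ht
    · linear_combination (A 1 0) * ht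
    · linear_combination (A 1 1) * ht - hd
  have h2 : (A - 1) ^ p = 0 := by
    have : 2 ≤ p := (Fact.out : p.Prime).two_le
    obtain ⟨k, rfl⟩ : ∃ k, p = 2 + k := ⟨p - 2, by omega⟩
    rw [pow_add, h1, zero_mul]
  rw [sub_pow_char_of_commute p (Commute.one_right A), one_pow, sub_eq_zero] at h2
  exact h2

theorem order_of_trace {p : ℕ} [Fact p.Prime] [CharP F p] {A : SL(2, F)} (hA : NS (A : Matrix (Fin 2) (Fin 2) F))
    (ht : (A : Matrix (Fin 2) (Fin 2) F).trace = 1 + 1) : orderOf A = p := by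
  apply orderOf_eq_prime
  · apply Subtype.ext
    rw [Matrix.SpecialLinearGroup.coe_pow, pow_p_of_trace ht A.det_coe]
    rfl
  · rintro rfl
    exact not_ns_one hA

theorem card_classes_order {p : ℕ} [Fact p.Prime] [CharP F p] (h2 : (2 : F) ≠ 0) :
    Nat.card {C : ConjClasses SL(2, F) // ∃ g : SL(2, F), orderOf g = p ∧ ConjClasses.mk g = C} = 2 := by
  obtain ⟨ν0, hν0, hν⟩ := exists_nonsq h2
  let ν : Fˣ := Units.mk0 ν0 hν0
  have hν : ¬ IsSquare (ν : F) := hν
  have hb : Function.Bijective (fun b : Bool => (⟨ConjClasses.mk (if b then cmpS (1 + 1) else twS ν (1 + 1)), by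
      cases b
      · exact ⟨_, order_of_trace (ns_twS ν _) (trace_twS ν _), rfl⟩
      · exact ⟨_, order_of_trace (A := cmpS (1 + 1)) (ns_cmp _ _) (trace_cmp _ _), rfl⟩⟩ :
        {C : ConjClasses SL(2, F) // ∃ g : SL(2, F), orderOf g = p ∧ ConjClasses.mk g = C})) := by
    constructor
    · intro b b' h
      have h1 := ConjClasses.mk_eq_mk_iff_isConj.mp (congrArg Subtype.val h)
      cases b <;> cases b'
      · rfl
      · exact absurd h1.symm (not_conj_twS hν (one_mul 1))
      · exact absurd h1 (not_conj_twS hν (one_mul 1))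
      · rfl
    · rintro ⟨C, g, hg, rfl⟩
      obtain ⟨h3, h4⟩ := order_facts hg
      rcases conj_cmp_or h3 hν with h5 | h5
      · rw [h4] at h5
        exact ⟨true, Subtype.ext (ConjClasses.mk_eq_mk_iff_isConj.mpr h5).symm⟩
      · rw [h4] at h5
        exact ⟨false, Subtype.ext (ConjClasses.mk_eq_mk_iff_isConj.mpr h5).symm⟩
  rw [← Nat.card_congr (Equiv.ofBijective _ hb)]
  simp

omit [Fintype F] in
theorem isConj_t_iff {b b' : F} (hb : b ≠ 0) (hb' : b' ≠ 0) : IsConj (SL2.t b) (SL2.t b') ↔ IsSquare (b * b') := by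
  rw [isConj_iff]
  constructor
  · rintro ⟨x, hx⟩
    have h1 := SL2.mem_B_of_conj_t hb' hx
    rw [SL2.conj_t_of_mem_B h1] at hx
    have h2 := SL2.t_injective hx
    rw [← h2]
    exact ⟨(x : Matrix (Fin 2) (Fin 2) F) 0 0 * b, by ring⟩
  · rintro ⟨s, hs⟩
    have hs0 : s ≠ 0 := by
      rintro rfl
      rw [mul_zero] at hs
      rcases mul_eq_zero.mp hs with h | h
      · exact hb h
      · exact hb' h
    let u : Fˣ := Units.mk0 (s / b) (div_ne_zero hs0 hb)
    refine ⟨SL2.bMk u 0, ?_⟩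
    rw [SL2.conj_t_of_mem_B (SL2.bMk_mem _ _)]
    congr 1
    rw [SL2.bMk_coe]
    show (s / b) ^ 2 * b = b'
    field_simp
    linear_combination -hs

end Fin

end Cfsg.Agent.Lib.Tw
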