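import Mathlib
import Cfsg.Agent.Lib.Tw5

/-! Tori of `SL_2`. -/

set_option linter.all false
set_option maxHeartbeats 400000

namespace Cfsg.Agent.Lib.Tor

open Matrix Module Cfsg Cfsg.Agent.Lib.Tw
open scoped MatrixGroups

section grp

variable {G : Type*} [Group G]

/-- a subgroup `T` together with an inverting element -/
theorem dic_card {T N : Subgroup G} {n : G} (hn : n ∉ T) (hmem : ∀ g, g ∈ N ↔ g ∈ T ∨ n⁻¹ * g ∈ T) :
    Nat.card N = 2 * Nat.card T := by
  have e : T ⊕ T ≃ N := Equiv.ofBijective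
    (Sum.elim (fun t => ⟨t.1, (hmem _).mpr (Or.inl t.2)⟩) (fun t => ⟨n * t.1, (hmem _).mpr (Or.inr (by rw [inv_mul_cancel_left]; exact t.2))⟩)) (by
    constructor
    · apply Function.Injective.sumElim
      · intro a b h
        exact Subtype.ext (congrArg (fun x : N => x.1) h)
      · intro a b h
        exact Subtype.ext (mul_left_cancel (congrArg (fun x : N => x.1) h))
      · intro a b h
        have h1 : a.1 = n * b.1 := congrArg (fun x : N => x.1) h
        apply hn
        have : n = a.1 * b.1⁻¹ := by rw [h1, mul_inv_cancel_right]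
        rw [this]
        exact T.mul_mem a.2 (T.inv_mem b.2)
    · rintro ⟨g, hg⟩
      rcases (hmem g).mp hg with h | h
      · exact ⟨Sum.inl ⟨g, h⟩, rfl⟩
      · exact ⟨Sum.inr ⟨_, h⟩, Subtype.ext (mul_inv_cancel_left n g)⟩)
  rcases finite_or_infinite T with hf | hi
  · rw [← Nat.card_congr e, Nat.card_sum, two_mul]
  · haveI : Infinite N := Infinite.of_injective (fun t : T => (⟨t.1, (hmem _).mpr (Or.inl t.2)⟩ : N)) (fun a b h =>
      Subtype.ext (congrArg (fun x : N => x.1) h))
    rw [Nat.card_eq_zero_of_infinite, Nat.card_eq_zero_of_infinite]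

theorem dic_classes [Finite G] {T N : Subgroup G} {n : G} (hn : n ∉ T) (hmem : ∀ g, g ∈ N ↔ g ∈ T ∨ n⁻¹ * g ∈ T)
    (hinv : ∀ t ∈ T, n * t = t⁻¹ * n) (hcomm : ∀ s ∈ T, ∀ t ∈ T, s * t = t * s) (h2 : Nat.card {t : T // t * t = 1} = 2) :
    Nat.card (ConjClasses N) * 2 = Nat.card T + 6 := by
  classical
  haveI : Fintype G := Fintype.ofFinite _
  haveI : Fintype T := Fintype.ofFinite _
  haveI : Fintype N := Fintype.ofFinite _
  let e : T ⊕ T ≃ N := Equiv.ofBijective
    (Sum.elim (fun t => ⟨t.1, (hmem _).mpr (Or.inl t.2)⟩) (fun t => ⟨n * t.1, (hmem _).mpr (Or.inr (by rw [inv_mul_cancel_left]; exact t.2))⟩)) (by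
    constructor
    · apply Function.Injective.sumElim
      · intro a b h
        exact Subtype.ext (congrArg (fun x : N => x.1) h)
      · intro a b h
        exact Subtype.ext (mul_left_cancel (congrArg (fun x : N => x.1) h))
      · intro a b h
        have h1 : a.1 = n * b.1 := congrArg (fun x : N => x.1) h
        apply hn
        have : n = a.1 * b.1⁻¹ := by rw [h1, mul_inv_cancel_right]
        rw [this]
        exact T.mul_mem a.2 (T.inv_mem b.2)
    · rintro ⟨g, hg⟩
      rcases (hmem g).mp hg with h | h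
      · exact ⟨Sum.inl ⟨g, h⟩, rfl⟩
      · exact ⟨Sum.inr ⟨_, h⟩, Subtype.ext (mul_inv_cancel_left n g)⟩)
  have hcount := card_comm_eq_card_conjClasses_mul_card N
  have hcardN : Nat.card N = 2 * Nat.card T := dic_card hn hmem
  have hTpos : 0 < Nat.card T := Nat.card_pos
  have h3 : Nat.card {p : N × N // Commute p.1 p.2} = ∑ a : T ⊕ T, ∑ b : T ⊕ T, if Commute (e a) (e b) then 1 else 0 := by
    rw [Nat.card_eq_fintype_card, Fintype.card_subtype, Finset.card_filter, Fintype.sum_prod_type, ← Equiv.sum_comp e]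
    refine Finset.sum_congr rfl fun a _ => ?_
    rw [← Equiv.sum_comp e]
  have c1 : ∀ a b : T, Commute (e (Sum.inl a)) (e (Sum.inl b)) := fun a b => Subtype.ext (hcomm _ a.2 _ b.2)
  have hsq : ∀ t : T, (t : G) * t = 1 ↔ t * t = 1 := fun t => ⟨fun h => Subtype.ext h, fun h => congrArg Subtype.val h⟩
  have c2 : ∀ a b : T, Commute (e (Sum.inl a)) (e (Sum.inr b)) ↔ a * a = 1 := by
    intro a b
    rw [← hsq]
    have : Commute (e (Sum.inl a)) (e (Sum.inr b)) ↔ (a : G) * (n * b) = n * b * a := ⟨fun h => congrArg Subtype.val h, fun h => Subtype.ext h⟩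
    rw [this]
    have h4 : (a : G) * n = n * (a : G)⁻¹ := by
      have := hinv _ (T.inv_mem a.2)
      rw [inv_inv] at this
      exact this.symm
    rw [← mul_assoc, h4, mul_assoc, mul_assoc, mul_right_inj, hcomm _ b.2 _ a.2, mul_left_inj, inv_eq_iff_mul_eq_one]
  have c3 : ∀ a b : T, Commute (e (Sum.inr b)) (e (Sum.inl a)) ↔ a * a = 1 := by
    intro a b
    rw [← c2 a b]
    exact ⟨fun h => h.symm, fun h => h.symm⟩
  have c4 : ∀ a b : T, Commute (e (Sum.inr a)) (e (Sum.inr b)) ↔ (a⁻¹ * b) * (a⁻¹ * b) = 1 := by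
    intro a b
    have h5 : Commute (e (Sum.inr a)) (e (Sum.inr b)) ↔ n * (a : G) * (n * b) = n * b * (n * a) := ⟨fun h => congrArg Subtype.val h, fun h => Subtype.ext h⟩
    have h4 : ∀ a : T, (a : G) * n = n * (a : G)⁻¹ := by
      intro a
      have := hinv _ (T.inv_mem a.2)
      rw [inv_inv] at this
      exact this.symm
    rw [h5]
    have e1 : n * (a : G) * (n * b) = n * n * ((a : G)⁻¹ * b) := by
      rw [mul_assoc n (a : G), ← mul_assoc (a : G) n, h4]; group
    have e2 : n * (b : G) * (n * a) = n * n * ((b : G)⁻¹ * a) := by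
      rw [mul_assoc n (b : G), ← mul_assoc (b : G) n, h4]; group
    rw [e1, e2, mul_right_inj, ← hsq]
    have e3 : ((a⁻¹ * b : T) : G) = (a : G)⁻¹ * b := rfl
    rw [e3]
    have e4 : (b : G)⁻¹ * a = ((a : G)⁻¹ * b)⁻¹ := by group
    rw [e4, eq_inv_iff_mul_eq_one]
  have hc : ∑ a : T, (if a * a = 1 then 1 else 0) = 2 := by
    rw [← Finset.card_filter, ← Fintype.card_subtype, ← Nat.card_eq_fintype_card, h2]
  have hc' : ∀ a : T, ∑ b : T, (if (a⁻¹ * b) * (a⁻¹ * b) = 1 then 1 else 0) = 2 := by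
    intro a
    rw [← hc]
    exact Equiv.sum_comp (Equiv.mulLeft a⁻¹) (fun b : T => if b * b = 1 then 1 else 0)
  rw [h3, Fintype.sum_sum_type] at hcount
  simp only [Fintype.sum_sum_type, c1, c2, c3, c4, if_true, Finset.sum_add_distrib] at hcount
  rw [Finset.sum_congr rfl (fun a _ => hc' a)] at hcount
  simp only [Finset.sum_const, Finset.card_univ, smul_eq_mul, mul_one, ← Finset.mul_sum, hc] at hcount
  rw [hcardN, ← Nat.card_eq_fintype_card] at hcount
  have h6 : Nat.card T * (Nat.card (ConjClasses N) * 2) = Nat.card T * (Nat.card T + 6) := by nlinarith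
  exact Nat.eq_of_mul_eq_mul_left hTpos h6

end grp

end Cfsg.Agent.Lib.Tor
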