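import Mathlib
import Cfsg.Agent.Lib.Tor1

/-! Maximal tori of `SL_2(q)`. -/

set_option linter.all false
set_option maxHeartbeats 400000

namespace Cfsg.Agent.Lib.Tor

open Matrix Module Cfsg Cfsg.Agent.Lib.Tw
open scoped MatrixGroups

variable {F : Type*} [Field F]

/-- regular semisimple -/
def Reg (A : SL(2, F)) : Prop := (A : Matrix (Fin 2) (Fin 2) F).trace ^ 2 ≠ 4

/-- centralizer -/
abbrev Ct (A : SL(2, F)) : Subgroup SL(2, F) := Subgroup.centralizer ({A} : Set SL(2, F))

theorem Reg.ns {A : SL(2, F)} (h : Reg A) : NS (A : Matrix (Fin 2) (Fin 2) F) := by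
  intro hA
  have hd := A.det_coe
  rw [Matrix.det_fin_two, hA.1, hA.2.1, ← hA.2.2] at hd
  apply h
  rw [Matrix.trace_fin_two, ← hA.2.2]
  linear_combination 4 * hd

theorem mem_Ct {A : SL(2, F)} (hA : NS (A : Matrix (Fin 2) (Fin 2) F)) {h : SL(2, F)} :
    h ∈ Ct A ↔ ∃ x y : F, (h : Matrix (Fin 2) (Fin 2) F) = x • (1 : Matrix (Fin 2) (Fin 2) F) + y • (A : Matrix (Fin 2) (Fin 2) F) := by
  rw [Subgroup.mem_centralizer_singleton_iff]
  constructor
  · intro h1
    exact comm_form hA (congrArg Subtype.val h1)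
  · rintro ⟨x, y, hxy⟩
    apply Subtype.ext
    show (h : Matrix (Fin 2) (Fin 2) F) * A = A * h
    rw [hxy]
    exact form_comm _ _ _

theorem Ct_comm {A : SL(2, F)} (hA : NS (A : Matrix (Fin 2) (Fin 2) F)) {a b : SL(2, F)} (ha : a ∈ Ct A) (hb : b ∈ Ct A) : a * b = b * a := by
  obtain ⟨x, y, hxy⟩ := (mem_Ct hA).mp ha
  have h1 := Subgroup.mem_centralizer_singleton_iff.mp hb
  have h2 : (b : Matrix (Fin 2) (Fin 2) F) * A = A * b := congrArg Subtype.val h1
  apply Subtype.ext
  show (a : Matrix (Fin 2) (Fin 2) F) * b = b * a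
  rw [hxy, add_mul, mul_add, smul_mul_assoc, smul_mul_assoc, mul_smul_comm, mul_smul_comm, one_mul, mul_one, h2]

theorem self_mem (A : SL(2, F)) : A ∈ Ct A := Subgroup.mem_centralizer_singleton_iff.mpr rfl

theorem Ct_eq {A : SL(2, F)} (hA : NS (A : Matrix (Fin 2) (Fin 2) F)) {h : SL(2, F)} (hh : h ∈ Ct A) (hn : NS (h : Matrix (Fin 2) (Fin 2) F)) : Ct h = Ct A := by
  have hA' : A ∈ Ct h := by
    have := Subgroup.mem_centralizer_singleton_iff.mp hh
    exact Subgroup.mem_centralizer_singleton_iff.mpr this.symm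
  ext b
  constructor
  · intro hb
    exact Subgroup.mem_centralizer_singleton_iff.mpr (Ct_comm hn hb hA')
  · intro hb
    exact Subgroup.mem_centralizer_singleton_iff.mpr (Ct_comm hA hb hh)

theorem ns_of_ne {h : SL(2, F)} (h1 : h ≠ 1) (h2 : h ≠ -1) : NS (h : Matrix (Fin 2) (Fin 2) F) := by
  by_contra hcon
  rcases not_ns_SL hcon with h3 | h3
  · exact h1 h3
  · exact h2 h3

/-- the Cayley–Hamilton form of the inverse -/
theorem inv_form (A : SL(2, F)) : ((A⁻¹ : SL(2, F)) : Matrix (Fin 2) (Fin 2) F) =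
    (A : Matrix (Fin 2) (Fin 2) F).trace • (1 : Matrix (Fin 2) (Fin 2) F) - (A : Matrix (Fin 2) (Fin 2) F) := by
  rw [Matrix.SpecialLinearGroup.coe_inv, Matrix.adjugate_fin_two, Matrix.trace_fin_two]
  ext i j
  fin_cases i <;> fin_cases j <;> simp

theorem trace_inv (A : SL(2, F)) : ((A⁻¹ : SL(2, F)) : Matrix (Fin 2) (Fin 2) F).trace = (A : Matrix (Fin 2) (Fin 2) F).trace := by
  rw [inv_form, Matrix.trace_sub, Matrix.trace_smul, Matrix.trace_one, Fintype.card_fin, smul_eq_mul]
  push_cast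
  ring

theorem trace_form (A : Matrix (Fin 2) (Fin 2) F) (x y : F) : (x • (1 : Matrix (Fin 2) (Fin 2) F) + y • A).trace = 2 * x + y * A.trace := by
  rw [Matrix.trace_add, Matrix.trace_smul, Matrix.trace_smul, Matrix.trace_one, Fintype.card_fin, smul_eq_mul, smul_eq_mul]
  push_cast
  ring

/-- elements of the torus with the same trace -/
theorem eq_or_inv {A : SL(2, F)} (hA : Reg A) {h : SL(2, F)} (hh : h ∈ Ct A)
    (ht : (h : Matrix (Fin 2) (Fin 2) F).trace = (A : Matrix (Fin 2) (Fin 2) F).trace) : h = A ∨ h = A⁻¹ := by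
  obtain ⟨x, y, hxy⟩ := (mem_Ct hA.ns).mp hh
  have hd := det_form (A : Matrix (Fin 2) (Fin 2) F) x y
  rw [← hxy, h.det_coe, A.det_coe] at hd
  unfold bf at hd
  simp only at hd
  rw [hxy, trace_form] at ht
  set t := (A : Matrix (Fin 2) (Fin 2) F).trace with htr
  have hr : t ^ 2 - 4 ≠ 0 := sub_ne_zero.mpr hA
  have hy : y = 1 ∨ y = -1 := by
    have : (t ^ 2 - 4) * ((y - 1) * (y + 1)) = 0 := by
      linear_combination 4 * hd + (2 * x + t * y + t) * ht
    rcases mul_eq_zero.mp ((mul_eq_zero.mp this).resolve_left hr) with h | h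
    · exact Or.inl (sub_eq_zero.mp h)
    · exact Or.inr (eq_neg_of_add_eq_zero_left h)
  have hx : x = 0 ∨ x = t := by
    have : x * (x - t) = 0 := by
      rcases hy with rfl | rfl
      · linear_combination -hd - t * ht
      · linear_combination -hd
    rcases mul_eq_zero.mp this with h | h
    · exact Or.inl h
    · exact Or.inr (sub_eq_zero.mp h)
  have c1 : x = 0 → y = 1 → h = A := by
    rintro rfl rfl
    apply Subtype.ext
    rw [zero_smul, zero_add, one_smul] at hxy
    exact hxy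
  have c2 : x = t → y = -1 → h = A⁻¹ := by
    rintro rfl rfl
    apply Subtype.ext
    refine Eq.trans ?_ (inv_form A).symm
    rw [neg_smul, one_smul, ← sub_eq_add_neg] at hxy
    exact hxy
  rcases hx with hx | hx <;> rcases hy with hy | hy
  · exact Or.inl (c1 hx hy)
  · rw [hx, hy] at ht
    have h2 : (2 : F) * t = 0 := by linear_combination -ht
    rcases mul_eq_zero.mp h2 with h3 | h3
    · left
      refine c1 hx (hy.trans ?_)
      linear_combination -h3
    · right
      exact c2 (hx.trans h3.symm) hy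
  · rw [hx, hy] at ht
    have h2 : (2 : F) * t = 0 := by linear_combination ht
    rcases mul_eq_zero.mp h2 with h3 | h3
    · right
      refine c2 hx (hy.trans ?_)
      linear_combination h3
    · left
      exact c1 (hx.trans h3) hy
  · exact Or.inr (c2 hx hy)

theorem Reg.ne_inv {A : SL(2, F)} (hA : Reg A) : A ≠ A⁻¹ := by
  intro h
  have h1 := inv_form A
  rw [← h] at h1
  have h2 : (A : Matrix (Fin 2) (Fin 2) F) 0 0 = (A : Matrix (Fin 2) (Fin 2) F).trace - (A : Matrix (Fin 2) (Fin 2) F) 0 0 := by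
    have := congrFun (congrFun h1 0) 0
    simpa using this
  have h3 : (A : Matrix (Fin 2) (Fin 2) F) 0 1 = - (A : Matrix (Fin 2) (Fin 2) F) 0 1 := by
    have := congrFun (congrFun h1 0) 1
    simpa using this
  have h4 : (A : Matrix (Fin 2) (Fin 2) F) 1 0 = - (A : Matrix (Fin 2) (Fin 2) F) 1 0 := by
    have := congrFun (congrFun h1 1) 0
    simpa using this
  rw [Matrix.trace_fin_two] at h2
  have hd := A.det_coe
  rw [Matrix.det_fin_two] at hd
  apply hA
  rw [Matrix.trace_fin_two]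
  have e1 : (A : Matrix (Fin 2) (Fin 2) F) 0 0 = (A : Matrix (Fin 2) (Fin 2) F) 1 1 := by linear_combination h2
  linear_combination 4 * hd + ((A : Matrix (Fin 2) (Fin 2) F) 0 0 - (A : Matrix (Fin 2) (Fin 2) F) 1 1) * e1 + 2 * (A : Matrix (Fin 2) (Fin 2) F) 1 0 * h3

theorem Ct_inv (A : SL(2, F)) : Ct A⁻¹ = Ct A := by
  ext b
  rw [Subgroup.mem_centralizer_singleton_iff, Subgroup.mem_centralizer_singleton_iff]
  constructor
  · intro h
    have : Commute b A⁻¹ := h
    exact (Commute.inv_right_iff.mp this)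
  · intro h
    have : Commute b A := h
    exact (Commute.inv_right_iff.mpr this)

theorem Ct_conj (A n : SL(2, F)) (b : SL(2, F)) : n * b * n⁻¹ ∈ Ct (n * A * n⁻¹) ↔ b ∈ Ct A := by
  rw [Subgroup.mem_centralizer_singleton_iff, Subgroup.mem_centralizer_singleton_iff]
  constructor
  · intro h
    have h1 : n * (b * A) * n⁻¹ = n * (A * b) * n⁻¹ := by
      calc n * (b * A) * n⁻¹ = n * b * n⁻¹ * (n * A * n⁻¹) := by group
        _ = n * A * n⁻¹ * (n * b * n⁻¹) := h
        _ = _ := by group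
    exact mul_left_cancel (mul_right_cancel h1)
  · intro h
    calc n * b * n⁻¹ * (n * A * n⁻¹) = n * (b * A) * n⁻¹ := by group
      _ = n * (A * b) * n⁻¹ := by rw [h]
      _ = _ := by group

theorem trace_conj (A n : SL(2, F)) : ((n * A * n⁻¹ : SL(2, F)) : Matrix (Fin 2) (Fin 2) F).trace = (A : Matrix (Fin 2) (Fin 2) F).trace :=
  trace_conj_SL (isConj_comm.mp (isConj_iff.mpr ⟨n, rfl⟩))

theorem mem_norm_iff {A : SL(2, F)} (hA : Reg A) {n : SL(2, F)} :
    n ∈ Subgroup.normalizer (Ct A : Set SL(2, F)) ↔ n * A * n⁻¹ = A ∨ n * A * n⁻¹ = A⁻¹ := by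
  rw [Subgroup.mem_normalizer_iff]
  constructor
  · intro h
    exact eq_or_inv hA ((h A).mp (self_mem A)) (trace_conj A n)
  · intro h b
    show b ∈ Ct A ↔ n * b * n⁻¹ ∈ Ct A
    rcases h with h | h
    · conv_rhs => rw [← h]
      exact (Ct_conj A n b).symm
    · conv_rhs => rw [← Ct_inv, ← h]
      exact (Ct_conj A n b).symm

/-- an element inverting the torus squares to `-1` -/
theorem sq_of_inverts {A n : SL(2, F)} (hA : Reg A) (h : n * A * n⁻¹ = A⁻¹) : (n : Matrix (Fin 2) (Fin 2) F).trace = 0 ∧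
    (n : Matrix (Fin 2) (Fin 2) F) * n = -1 := by
  have h1 : n * A = A⁻¹ * n := by rw [← h]; group
  have h2 : (n : Matrix (Fin 2) (Fin 2) F) * A = ((A⁻¹ : SL(2, F)) : Matrix (Fin 2) (Fin 2) F) * n := congrArg Subtype.val h1
  rw [inv_form, sub_mul, smul_mul_assoc, one_mul] at h2
  have h00 := congrFun (congrFun h2 0) 0
  have h01 := congrFun (congrFun h2 0) 1
  have h10 := congrFun (congrFun h2 1) 0
  have h11 := congrFun (congrFun h2 1) 1
  simp only [Matrix.mul_apply, Fin.sum_univ_two, Matrix.sub_apply, Matrix.smul_apply, smul_eq_mul, Matrix.trace_fin_two] at h00 h01 h10 h11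
  have hd := A.det_coe
  rw [Matrix.det_fin_two] at hd
  have hr : (A : Matrix (Fin 2) (Fin 2) F).trace ^ 2 - 4 ≠ 0 := sub_ne_zero.mpr hA
  rw [Matrix.trace_fin_two] at hr
  have htr : (n : Matrix (Fin 2) (Fin 2) F).trace = 0 := by
    rw [Matrix.trace_fin_two]
    set a := (A : Matrix (Fin 2) (Fin 2) F) 0 0
    set b := (A : Matrix (Fin 2) (Fin 2) F) 0 1
    set c := (A : Matrix (Fin 2) (Fin 2) F) 1 0
    set d := (A : Matrix (Fin 2) (Fin 2) F) 1 1
    set x := (n : Matrix (Fin 2) (Fin 2) F) 0 0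
    set y := (n : Matrix (Fin 2) (Fin 2) F) 0 1
    set z := (n : Matrix (Fin 2) (Fin 2) F) 1 0
    set w := (n : Matrix (Fin 2) (Fin 2) F) 1 1
    have : ((a + d) ^ 2 - 4) * (x + w) = 0 := by
      linear_combination (a - d) * (h00 - h11) + 4 * c * h01 + 4 * (x + w) * hd
    exact (mul_eq_zero.mp this).resolve_left hr
  refine ⟨htr, ?_⟩
  have h3 := inv_form n
  rw [htr, zero_smul, zero_sub] at h3
  have h4 : n * n⁻¹ = 1 := mul_inv_cancel n
  have h5 : (n : Matrix (Fin 2) (Fin 2) F) * ((n⁻¹ : SL(2, F)) : Matrix (Fin 2) (Fin 2) F) = 1 := congrArg Subtype.val h4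
  rw [h3, mul_neg] at h5
  rw [← h5, neg_neg]

/-- the torus is cyclic -/
theorem Ct_cyclic [Finite F] {A : SL(2, F)} (hA : Reg A) : IsCyclic (Ct A) := by
  classical
  obtain ⟨l, hl⟩ : ∃ l : AlgebraicClosure F, l ^ 2 - algebraMap F (AlgebraicClosure F) (A : Matrix (Fin 2) (Fin 2) F).trace * l + 1 = 0 := by
    have hdeg : (Polynomial.X ^ 2 - Polynomial.C (algebraMap F (AlgebraicClosure F) (A : Matrix (Fin 2) (Fin 2) F).trace) * Polynomial.X + 1 :
        Polynomial (AlgebraicClosure F)).degree ≠ 0 := by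
      have : (Polynomial.X ^ 2 - Polynomial.C (algebraMap F (AlgebraicClosure F) (A : Matrix (Fin 2) (Fin 2) F).trace) * Polynomial.X + 1 :
        Polynomial (AlgebraicClosure F)).degree = 2 := by compute_degree!
      rw [this]; decide
    obtain ⟨l, hl⟩ := IsAlgClosed.exists_root _ hdeg
    refine ⟨l, ?_⟩
    simpa [Polynomial.IsRoot] using hl
  set φ := algebraMap F (AlgebraicClosure F) with hφ
  set t := (A : Matrix (Fin 2) (Fin 2) F).trace with ht
  have hform : ∀ h : Ct A, ∃ p : F × F, ((h : SL(2, F)) : Matrix (Fin 2) (Fin 2) F) = p.1 • (1 : Matrix (Fin 2) (Fin 2) F) + p.2 • (A : Matrix (Fin 2) (Fin 2) F) := by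
    intro h
    obtain ⟨x, y, hxy⟩ := (mem_Ct hA.ns).mp h.2
    exact ⟨(x, y), hxy⟩
  choose p hp using hform
  have uniq : ∀ (h : Ct A) (x y : F), ((h : SL(2, F)) : Matrix (Fin 2) (Fin 2) F) = x • (1 : Matrix (Fin 2) (Fin 2) F) + y • (A : Matrix (Fin 2) (Fin 2) F) →
      (p h).1 = x ∧ (p h).2 = y := by
    intro h x y hxy
    exact form_inj hA.ns ((hp h).symm.trans hxy)
  have hch : (A : Matrix (Fin 2) (Fin 2) F) * A = t • (A : Matrix (Fin 2) (Fin 2) F) - 1 := by
    have h1 : (A : Matrix (Fin 2) (Fin 2) F) * ((A⁻¹ : SL(2, F)) : Matrix (Fin 2) (Fin 2) F) = 1 := congrArg Subtype.val (mul_inv_cancel A)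
    rw [inv_form, mul_sub, mul_smul_comm, mul_one] at h1
    rw [← h1, ht]; abel
  let f : Ct A →* AlgebraicClosure F :=
    { toFun := fun h => φ (p h).1 + φ (p h).2 * l
      map_one' := by
        obtain ⟨e1, e2⟩ := uniq 1 1 0 (by rw [one_smul, zero_smul, add_zero]; rfl)
        rw [e1, e2, map_one, map_zero, zero_mul, add_zero]
      map_mul' := by
        intro h k
        have e : ((h * k : Ct A) : SL(2, F)) = (h : SL(2, F)) * k := rfl
        obtain ⟨e1, e2⟩ := uniq (h * k) ((p h).1 * (p k).1 - (p h).2 * (p k).2) ((p h).1 * (p k).2 + (p h).2 * (p k).1 + t * (p h).2 * (p k).2) (by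
          rw [e, Matrix.SpecialLinearGroup.coe_mul]
          nth_rewrite 1 [hp h, hp k]
          rw [add_mul, mul_add, mul_add, smul_mul_assoc, smul_mul_assoc, smul_mul_assoc, smul_mul_assoc, one_mul, one_mul, mul_smul_comm, mul_smul_comm, mul_one, hch]
          module)
        rw [e1, e2]
        simp only [map_sub, map_add, map_mul]
        linear_combination - φ (p h).2 * φ (p k).2 * hl }
  refine isCyclic_of_injective_ringHom f ?_
  rw [injective_iff_map_eq_one]
  intro h hh
  have h1 : φ (p h).1 + φ (p h).2 * l = 1 := hh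
  have hd := det_form (A : Matrix (Fin 2) (Fin 2) F) (p h).1 (p h).2
  rw [← hp h, (h : SL(2, F)).det_coe, A.det_coe] at hd
  unfold bf at hd
  simp only at hd
  have hd' := congrArg φ hd
  simp only [map_one, map_add, map_mul, map_pow] at hd'
  -- the other eigenvalue
  have h2 : φ (p h).1 + φ (p h).2 * (φ t - l) = 1 := by
    have h3 : (φ (p h).1 + φ (p h).2 * l) * (φ (p h).1 + φ (p h).2 * (φ t - l)) = 1 := by
      linear_combination -hd' - (φ (p h).2) ^ 2 * hl
    rwa [h1, one_mul] at h3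
  have h4 : φ (p h).2 = 0 := by
    have h5 : φ (p h).2 * (2 * l - φ t) = 0 := by linear_combination h1 - h2
    refine (mul_eq_zero.mp h5).resolve_right (fun h6 => ?_)
    apply hA
    apply (algebraMap F (AlgebraicClosure F)).injective
    show φ (t ^ 2) = φ 4
    rw [map_pow, map_ofNat]
    linear_combination -4 * hl + (2 * l - φ t) * h6
  rw [h4, zero_mul, add_zero] at h1
  have e1 : (p h).1 = 1 := (algebraMap F (AlgebraicClosure F)).injective (by rw [map_one]; exact h1)
  have e2 : (p h).2 = 0 := (algebraMap F (AlgebraicClosure F)).injective (by rw [map_zero]; exact h4)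
  apply Subtype.ext
  apply Subtype.ext
  rw [hp h, e1, e2, one_smul, zero_smul, add_zero]
  rfl

end Cfsg.Agent.Lib.Tor
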