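import Mathlib
import Cfsg.Agent.Lib.Tor2

/-! Normalizers of tori of `SL_2(q)`. -/

set_option linter.all false
set_option maxHeartbeats 400000

namespace Cfsg.Agent.Lib.Tor

open Matrix Module Cfsg Cfsg.Agent.Lib.Tw
open scoped MatrixGroups

variable {F : Type*} [Field F]

theorem reg_of_split {A : SL(2, F)} {a b : F} (hab : a ≠ b) (ht : (A : Matrix (Fin 2) (Fin 2) F).trace = a + b) (hd : a * b = 1) : Reg A := by
  intro h
  rw [ht] at h
  apply hab
  have : (a - b) ^ 2 = 0 := by linear_combination h - 4 * hd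
  exact sub_eq_zero.mp (pow_eq_zero_iff two_ne_zero |>.mp this)

theorem reg_of_ne {A : SL(2, F)} (h2 : (2 : F) ≠ 0) (hA : NE (A : Matrix (Fin 2) (Fin 2) F)) : Reg A := by
  intro h
  have h1 := ne_iff.mp hA ((A : Matrix (Fin 2) (Fin 2) F).trace / 2)
  apply h1
  rw [A.det_coe]
  field_simp
  linear_combination -h

/-- regular elements are split or have no eigenvectors -/
theorem Reg.cases {A : SL(2, F)} (hA : Reg A) :
    (∃ a b : F, a ≠ b ∧ (A : Matrix (Fin 2) (Fin 2) F).trace = a + b ∧ a * b = 1) ∨ NE (A : Matrix (Fin 2) (Fin 2) F) := by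
  rcases root_cases (A : Matrix (Fin 2) (Fin 2) F).trace 1 with ⟨a, b, ht, hd⟩ | h
  · left
    refine ⟨a, b, ?_, ht, hd.symm⟩
    rintro rfl
    apply hA
    rw [ht]
    linear_combination -4 * hd
  · right
    rw [ne_iff, A.det_coe]
    exact h

section fin

variable [Fintype F]

theorem Reg.un {A : SL(2, F)} (hA : Reg A) : Un (A : Matrix (Fin 2) (Fin 2) F).trace 1 := by
  rcases hA.cases with ⟨a, b, hab, ht, hd⟩ | h
  · rw [ht, ← hd]; exact un_split hab
  · have := ne_iff.mp h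
    rw [A.det_coe] at this
    exact (un_ne this).1

theorem reg_conj {A B : SL(2, F)} (hA : Reg A) (hB : NS (B : Matrix (Fin 2) (Fin 2) F))
    (ht : (A : Matrix (Fin 2) (Fin 2) F).trace = (B : Matrix (Fin 2) (Fin 2) F).trace) : ∃ n : SL(2, F), n * A * n⁻¹ = B :=
  isConj_iff.mp (isConj_SL hA.ns hB ht hA.un)

theorem exists_inverter {A : SL(2, F)} (hA : Reg A) : ∃ n : SL(2, F), n * A * n⁻¹ = A⁻¹ := by
  refine reg_conj hA ?_ (trace_inv A).symm
  have : Reg A⁻¹ := by unfold Reg; rw [trace_inv]; exact hA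
  exact this.ns

omit [Fintype F] in
theorem inverts_all {A n : SL(2, F)} (hA : Reg A) (h : n * A * n⁻¹ = A⁻¹) {b : SL(2, F)} (hb : b ∈ Ct A) : n * b * n⁻¹ = b⁻¹ := by
  obtain ⟨x, y, hxy⟩ := (mem_Ct hA.ns).mp hb
  have h1 : n * A = A⁻¹ * n := by rw [← h]; group
  have h2 : (n : Matrix (Fin 2) (Fin 2) F) * A = ((A⁻¹ : SL(2, F)) : Matrix (Fin 2) (Fin 2) F) * n := congrArg Subtype.val h1
  rw [inv_form, sub_mul, smul_mul_assoc, one_mul] at h2
  have h3 : n * b = b⁻¹ * n := by
    apply Subtype.ext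
    show (n : Matrix (Fin 2) (Fin 2) F) * b = ((b⁻¹ : SL(2, F)) : Matrix (Fin 2) (Fin 2) F) * n
    rw [inv_form, sub_mul, smul_mul_assoc, one_mul, hxy, trace_form, mul_add, mul_smul_comm, mul_smul_comm, mul_one, h2, add_mul, smul_mul_assoc,
      smul_mul_assoc, one_mul]
    module
  rw [h3]; group

omit [Fintype F] in
theorem inverter_notMem {A n : SL(2, F)} (hA : Reg A) (h : n * A * n⁻¹ = A⁻¹) : n ∉ Ct A := by
  intro hn
  have h1 := Ct_comm hA.ns hn (self_mem A)
  apply hA.ne_inv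
  rw [← h, h1]; group

omit [Fintype F] in
theorem mem_norm_iff' {A n : SL(2, F)} (hA : Reg A) (h : n * A * n⁻¹ = A⁻¹) (g : SL(2, F)) :
    g ∈ Subgroup.normalizer (Ct A : Set SL(2, F)) ↔ g ∈ Ct A ∨ n⁻¹ * g ∈ Ct A := by
  rw [mem_norm_iff hA]
  constructor
  · rintro (h1 | h1)
    · left
      rw [Subgroup.mem_centralizer_singleton_iff]
      exact mul_inv_eq_iff_eq_mul.mp h1
    · right
      rw [Subgroup.mem_centralizer_singleton_iff]
      have h3 : g * A = A⁻¹ * g := mul_inv_eq_iff_eq_mul.mp h1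
      have h4 : n * A = A⁻¹ * n := mul_inv_eq_iff_eq_mul.mp h
      have h5 : n⁻¹ * A⁻¹ = A * n⁻¹ := by
        rw [inv_mul_eq_iff_eq_mul, ← mul_assoc, h4]; group
      rw [mul_assoc, h3, ← mul_assoc, h5, mul_assoc]
  · rintro (h1 | h1)
    · left
      rw [Subgroup.mem_centralizer_singleton_iff] at h1
      exact mul_inv_eq_iff_eq_mul.mpr h1
    · right
      rw [Subgroup.mem_centralizer_singleton_iff] at h1
      have h4 : n * A = A⁻¹ * n := mul_inv_eq_iff_eq_mul.mp h
      apply mul_inv_eq_iff_eq_mul.mpr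
      calc g * A = n * (n⁻¹ * g * A) := by group
        _ = n * (A * (n⁻¹ * g)) := by rw [h1]
        _ = (n * A) * (n⁻¹ * g) := by group
        _ = A⁻¹ * g := by rw [h4]; group

theorem card_norm {A : SL(2, F)} (hA : Reg A) : Nat.card (Subgroup.normalizer (Ct A : Set SL(2, F))) = 2 * Nat.card (Ct A) := by
  obtain ⟨n, hn⟩ := exists_inverter hA
  exact dic_card (inverter_notMem hA hn) (mem_norm_iff' hA hn)

omit [Fintype F] in
theorem sq_eq_one {h : SL(2, F)} (h2 : (2 : F) ≠ 0) : h * h = 1 ↔ h = 1 ∨ h = -1 := by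
  constructor
  · intro h1
    by_contra hcon
    push Not at hcon
    have hns := ns_of_ne hcon.1 hcon.2
    have h3 : h = h⁻¹ := eq_inv_of_mul_eq_one_left h1
    have h4 := inv_form h
    rw [← h3] at h4
    have e := form_inj hns (x := 0) (y := 1) (x' := (h : Matrix (Fin 2) (Fin 2) F).trace) (y' := -1) (by
      rw [zero_smul, zero_add, one_smul, neg_smul, one_smul, ← sub_eq_add_neg]; exact h4)
    apply h2
    linear_combination e.2
  · rintro (rfl | rfl)
    · exact one_mul 1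
    · rw [neg_mul_neg, one_mul]

theorem card_invol (h2 : (2 : F) ≠ 0) (A : SL(2, F)) : Nat.card {t : Ct A // t * t = 1} = 2 := by
  rw [Nat.card_eq_two_iff]
  have hm : (-1 : SL(2, F)) ∈ Ct A := by
    rw [Subgroup.mem_centralizer_singleton_iff, neg_mul, mul_neg, one_mul, mul_one]
  refine ⟨⟨1, one_mul 1⟩, ⟨⟨-1, hm⟩, Subtype.ext ((sq_eq_one h2).mpr (Or.inr rfl))⟩, ?_, ?_⟩
  · intro h
    have h3 : (1 : SL(2, F)) = -1 := congrArg (fun x : {t : Ct A // t * t = 1} => x.1.1) h
    exact neg_one_ne h2 h3.symm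
  · ext x
    simp only [Set.mem_insert_iff, Set.mem_singleton_iff, Set.mem_univ, iff_true]
    rcases (sq_eq_one h2).mp (congrArg Subtype.val x.2 : (x.1.1 * x.1.1 : SL(2, F)) = 1) with h | h
    · exact Or.inl (Subtype.ext (Subtype.ext h))
    · exact Or.inr (Subtype.ext (Subtype.ext h))

theorem classes_norm {A : SL(2, F)} (h2 : (2 : F) ≠ 0) (hA : Reg A) :
    Nat.card (ConjClasses (Subgroup.normalizer (Ct A : Set SL(2, F)))) * 2 = Nat.card (Ct A) + 6 := by
  obtain ⟨n, hn⟩ := exists_inverter hA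
  refine dic_classes (inverter_notMem hA hn) (mem_norm_iff' hA hn) (fun t ht => ?_) (fun s hs t ht => Ct_comm hA.ns hs ht) (card_invol h2 A)
  exact mul_inv_eq_iff_eq_mul.mp (inverts_all hA hn ht)

theorem sq_outside {A g : SL(2, F)} (hA : Reg A) (hg : g ∈ Subgroup.normalizer (Ct A : Set SL(2, F))) (hg' : g ∉ Ct A) :
    (g : Matrix (Fin 2) (Fin 2) F) * g = -1 := by
  rcases (mem_norm_iff hA).mp hg with h | h
  · exact absurd (Subgroup.mem_centralizer_singleton_iff.mpr (mul_inv_eq_iff_eq_mul.mp h)) hg'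
  · exact (sq_of_inverts hA h).2

/-- existence of elements without eigenvectors -/
theorem exists_ne_trace (F : Type*) [Field F] [Fintype F] : ∃ t : F, ∀ c : F, c ^ 2 - t * c + 1 ≠ 0 := by
  classical
  by_contra hcon
  push Not at hcon
  have hs : Function.Surjective (fun u : Fˣ => (u : F) + ((u⁻¹ : Fˣ) : F)) := by
    intro t
    obtain ⟨c, hc⟩ := hcon t
    have hc0 : c ≠ 0 := by rintro rfl; norm_num at hc
    refine ⟨Units.mk0 c hc0, ?_⟩
    simp only [Units.val_mk0, Units.val_inv_eq_inv_val]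
    field_simp
    linear_combination hc
  have h1 := Fintype.card_le_of_surjective _ hs
  have h3 : Fintype.card Fˣ = Fintype.card F - 1 := Fintype.card_units F
  have hq : 1 < Fintype.card F := Fintype.one_lt_card
  omega

theorem ne_cmpS {t : F} (h : ∀ c : F, c ^ 2 - t * c + 1 ≠ 0) : NE (cmpS t : Matrix (Fin 2) (Fin 2) F) := by
  rw [ne_iff, (cmpS t).det_coe, cmpS_coe, trace_cmp]
  exact h

/-- every torus of the same type contains a conjugate -/
theorem exists_mem_trace {A : SL(2, F)} (h2 : (2 : F) ≠ 0) (hA : Reg A) {s y : F} (hy : s ^ 2 - 4 = y ^ 2 * ((A : Matrix (Fin 2) (Fin 2) F).trace ^ 2 - 4)) :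
    ∃ h ∈ Ct A, (h : Matrix (Fin 2) (Fin 2) F).trace = s := by
  set t := (A : Matrix (Fin 2) (Fin 2) F).trace with ht
  have hb : bf (A : Matrix (Fin 2) (Fin 2) F).trace 1 ((s - y * t) / 2, y) = 1 := by
    unfold bf
    simp only
    rw [← ht]
    field_simp
    linear_combination hy
  refine ⟨fSL A ⟨_, hb⟩, (mem_Ct hA.ns).mpr ⟨_, _, fSL_coe A _⟩, ?_⟩
  rw [fSL_coe, trace_form]
  field_simp
  ring

end fin

end Cfsg.Agent.Lib.Tor
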