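import Mathlib
import Cfsg.Agent.Lib.Tw5
import Cfsg.Agent.Lib.CharInd
import Cfsg.Prelude.Def_ParabolicCharacters

/-! Induction from the upper triangular subgroup. -/

set_option linter.all false
set_option maxHeartbeats 400000

namespace Cfsg.Agent.Lib.Tw

open Matrix Module Cfsg
open scoped MatrixGroups

theorem sum_orbit {G X : Type*} [Group G] [Fintype G] [Fintype X] [MulAction G X] [MulAction.IsPretransitive G X]
    (x0 : X) (f : X → ℂ) : (Fintype.card X : ℂ) * ∑ g : G, f (g • x0) = (Fintype.card G : ℂ) * ∑ x, f x := by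
  have h1 : ∀ x : X, ∑ g : G, f (g • x) = ∑ g : G, f (g • x0) := by
    intro x
    obtain ⟨h, rfl⟩ := MulAction.exists_smul_eq G x0 x
    rw [← Equiv.sum_comp (Equiv.mulRight h) (fun g => f (g • x0))]
    refine Finset.sum_congr rfl fun g _ => ?_
    rw [Equiv.coe_mulRight, mul_smul]
  have h2 : ∑ x : X, ∑ g : G, f (g • x) = (Fintype.card X : ℂ) * ∑ g : G, f (g • x0) := by
    rw [Finset.sum_congr rfl (fun x _ => h1 x), Finset.sum_const, Finset.card_univ, nsmul_eq_mul]
  rw [← h2, Finset.sum_comm]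
  have h3 : ∀ g : G, ∑ x : X, f (g • x) = ∑ x, f x := fun g => Equiv.sum_comp (MulAction.toPerm g) f
  rw [Finset.sum_congr rfl (fun g _ => h3 g), Finset.sum_const, Finset.card_univ, nsmul_eq_mul]

variable {F : Type*} [Field F]

/-- nonzero vectors -/
abbrev NV (F : Type*) [Field F] := {v : Fin 2 → F // v ≠ 0}

/-- action on nonzero vectors through a homomorphism -/
abbrev actNV {G : Type*} [Group G] (ι : G →* GL (Fin 2) F) : MulAction G (NV F) where
  smul g v := ⟨(ι g : Matrix (Fin 2) (Fin 2) F) *ᵥ v.1, fun h => v.2 (by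
    have h2 : ((ι g)⁻¹ : GL (Fin 2) F).1 *ᵥ ((ι g : Matrix (Fin 2) (Fin 2) F) *ᵥ v.1) = 0 := by
      rw [h, Matrix.mulVec_zero]
    rw [Matrix.mulVec_mulVec, ← Units.val_mul, inv_mul_cancel, Units.val_one, Matrix.one_mulVec] at h2
    exact h2)⟩
  one_smul v := by
    apply Subtype.ext
    show (ι 1 : Matrix (Fin 2) (Fin 2) F) *ᵥ v.1 = v.1
    rw [map_one, Units.val_one, Matrix.one_mulVec]
  mul_smul g h v := by
    apply Subtype.ext
    show (ι (g * h) : Matrix (Fin 2) (Fin 2) F) *ᵥ v.1 = (ι g : Matrix (Fin 2) (Fin 2) F) *ᵥ ((ι h : Matrix (Fin 2) (Fin 2) F) *ᵥ v.1)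
    rw [map_mul, Units.val_mul, Matrix.mulVec_mulVec]

/-- standard vector -/
def e1 (F : Type*) [Field F] : Fin 2 → F := ![1, 0]

theorem e1_ne : e1 F ≠ 0 := by
  intro h
  exact one_ne_zero (congrFun h 0)

section Fin

variable [Fintype F]

theorem card_NV : Nat.card (NV F) = Fintype.card F ^ 2 - 1 := by
  classical
  rw [Nat.card_eq_fintype_card]
  have h2 := Fintype.card_subtype_compl (fun v : Fin 2 → F => v = 0)
  rw [show Fintype.card {v : Fin 2 → F // v = 0} = 1 from Fintype.card_subtype_eq _, Fintype.card_fun, Fintype.card_fin] at h2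
  exact h2

/-- number of eigenvectors -/
theorem card_eig {M : Matrix (Fin 2) (Fin 2) F} (hM : NS M) {c : F} (hc : c ^ 2 - M.trace * c + M.det = 0) :
    Nat.card {v : NV F // M *ᵥ v.1 = c • v.1} = Fintype.card F - 1 := by
  classical
  let L : (Fin 2 → F) →ₗ[F] (Fin 2 → F) := Matrix.toLin' (M - c • 1)
  have hL : ∀ v, L v = 0 ↔ M *ᵥ v = c • v := by
    intro v
    rw [Matrix.toLin'_apply, Matrix.sub_mulVec, Matrix.smul_mulVec, Matrix.one_mulVec, sub_eq_zero]
  have hfr : finrank F (LinearMap.ker L) = 1 := by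
    have h1 : finrank F (LinearMap.ker L) ≠ 0 := by
      rw [Ne, Submodule.finrank_eq_zero]
      intro h
      obtain ⟨v, hv, hv2⟩ := (exists_eigvec_iff c).mpr hc
      have : v ∈ LinearMap.ker L := LinearMap.mem_ker.mpr ((hL v).mpr hv2)
      rw [h, Submodule.mem_bot] at this
      exact hv this
    have h2 : finrank F (LinearMap.ker L) ≤ 2 := by
      have := Submodule.finrank_le (LinearMap.ker L)
      rwa [Module.finrank_fin_fun] at this
    have h3 : finrank F (LinearMap.ker L) ≠ 2 := by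
      intro h
      have : LinearMap.ker L = ⊤ := Submodule.eq_top_of_finrank_eq (by rw [h, Module.finrank_fin_fun])
      rw [LinearMap.ker_eq_top] at this
      have h4 : M - c • 1 = 0 := Matrix.toLin'.injective (this.trans (map_zero _).symm)
      exact ns_iff.mp hM c (sub_eq_zero.mp h4)
    omega
  have e : {v : NV F // M *ᵥ v.1 = c • v.1} ≃ {v : LinearMap.ker L // v ≠ 0} :=
    { toFun := fun v => ⟨⟨v.1.1, LinearMap.mem_ker.mpr ((hL _).mpr v.2)⟩, fun h => v.1.2 (congrArg Subtype.val h)⟩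
      invFun := fun v => ⟨⟨v.1.1, fun h => v.2 (Subtype.ext h)⟩, (hL _).mp (LinearMap.mem_ker.mp v.1.2)⟩
      left_inv := fun v => rfl
      right_inv := fun v => rfl }
  rw [Nat.card_congr e, Nat.card_eq_fintype_card]
  have h5 := Fintype.card_subtype_compl (fun v : LinearMap.ker L => v = 0)
  rw [show Fintype.card {v : LinearMap.ker L // v = 0} = 1 from Fintype.card_subtype_eq _] at h5
  rw [← Nat.card_eq_fintype_card (α := LinearMap.ker L), Module.natCard_eq_pow_finrank (K := F), hfr, pow_one, Nat.card_eq_fintype_card] at h5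
  exact h5

/-- the general formula -/
theorem indB {G : Type*} [Group G] [Fintype G] (ι : G →* GL (Fin 2) F)
    (htr : ∀ v : NV F, ∃ g : G, (ι g : Matrix (Fin 2) (Fin 2) F) *ᵥ e1 F = v.1) (H : Subgroup G)
    (hH : ∀ g, g ∈ H ↔ (ι g : Matrix (Fin 2) (Fin 2) F) 1 0 = 0) (Θ : F → F → ℂ) (θ : H → ℂ)
    (hθ : ∀ b : H, θ b = Θ ((ι b : Matrix (Fin 2) (Fin 2) F) 0 0) ((ι b : Matrix (Fin 2) (Fin 2) F) 1 1))
    (hcard : Nat.card G = Nat.card H * (Fintype.card F + 1)) (g : G) :
    indFun H θ g = ((Fintype.card F : ℂ) - 1)⁻¹ * ∑ c : F,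
      (Nat.card {v : NV F // (ι g : Matrix (Fin 2) (Fin 2) F) *ᵥ v.1 = c • v.1} : ℂ) * Θ c ((ι g : Matrix (Fin 2) (Fin 2) F).det / c) := by
  classical
  letI := actNV ι
  set M := (ι g : Matrix (Fin 2) (Fin 2) F) with hMd
  haveI : MulAction.IsPretransitive G (NV F) := by
    refine ⟨fun x y => ?_⟩
    obtain ⟨a, ha⟩ := htr x
    obtain ⟨b, hb⟩ := htr y
    refine ⟨b * a⁻¹, ?_⟩
    have ha' : a • (⟨e1 F, e1_ne⟩ : NV F) = x := Subtype.ext ha
    have hb' : b • (⟨e1 F, e1_ne⟩ : NV F) = y := Subtype.ext hb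
    rw [← ha', mul_smul, inv_smul_smul, hb']
  let f : NV F → ℂ := fun v => ∑ c : F, if M *ᵥ v.1 = c • v.1 then Θ c (M.det / c) else 0
  have hext : ∀ x : G, extendByZero H θ (x⁻¹ * g * x) = f (x • (⟨e1 F, e1_ne⟩ : NV F)) := by
    intro x
    have hcol : ∀ N : Matrix (Fin 2) (Fin 2) F, N *ᵥ e1 F = ![N 0 0, N 1 0] := by
      intro N
      funext i
      fin_cases i <;> simp [e1, Matrix.mulVec, dotProduct, Fin.sum_univ_two]
    have hx : ∀ c : F, M *ᵥ (x • (⟨e1 F, e1_ne⟩ : NV F)).1 = c • (x • (⟨e1 F, e1_ne⟩ : NV F)).1 ↔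
        (ι (x⁻¹ * g * x) : Matrix (Fin 2) (Fin 2) F) *ᵥ e1 F = c • e1 F := by
      intro c
      have h1 : (x • (⟨e1 F, e1_ne⟩ : NV F)).1 = (ι x : Matrix (Fin 2) (Fin 2) F) *ᵥ e1 F := rfl
      rw [h1]
      have h2 : (ι (x⁻¹ * g * x) : Matrix (Fin 2) (Fin 2) F) = ((ι x)⁻¹ : GL (Fin 2) F).1 * M * (ι x : Matrix (Fin 2) (Fin 2) F) := by
        rw [map_mul, map_mul, map_inv, Units.val_mul, Units.val_mul]
      rw [h2, ← Matrix.mulVec_mulVec, ← Matrix.mulVec_mulVec]
      constructor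
      · intro h
        rw [h, Matrix.mulVec_smul, Matrix.mulVec_mulVec, ← Units.val_mul, inv_mul_cancel, Units.val_one, Matrix.one_mulVec]
      · intro h
        have h3 := congrArg (fun w => (ι x : Matrix (Fin 2) (Fin 2) F) *ᵥ w) h
        simp only [Matrix.mulVec_smul] at h3
        rw [Matrix.mulVec_mulVec, ← Units.val_mul, mul_inv_cancel, Units.val_one, Matrix.one_mulVec] at h3
        exact h3
    have hdet : (ι (x⁻¹ * g * x) : Matrix (Fin 2) (Fin 2) F).det = M.det := by
      rw [map_mul, map_mul, map_inv, Units.val_mul, Units.val_mul, Matrix.det_mul, Matrix.det_mul, mul_comm, ← mul_assoc, ← Matrix.det_mul,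
        ← Units.val_mul, mul_inv_cancel, Units.val_one, Matrix.det_one, one_mul]
    by_cases hm : x⁻¹ * g * x ∈ H
    · rw [CharInd.ext_mem H θ hm, hθ]
      have h10 := (hH _).mp hm
      set N := (ι (x⁻¹ * g * x) : Matrix (Fin 2) (Fin 2) F) with hN
      have hdN : N.det = N 0 0 * N 1 1 := by rw [Matrix.det_fin_two, h10]; ring
      have hN0 : N 0 0 ≠ 0 := by
        intro h
        have : N.det ≠ 0 := ((Matrix.isUnit_iff_isUnit_det _).mp (ι (x⁻¹ * g * x)).isUnit).ne_zero
        rw [hdN, h, zero_mul] at this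
        exact this rfl
      show _ = ∑ c : F, _
      rw [Finset.sum_eq_single (N 0 0)]
      · rw [if_pos ((hx _).mpr (by rw [hcol, h10]; funext i; fin_cases i <;> simp [e1]))]
        congr 1
        rw [← hdet, hdN]
        field_simp
      · intro c _ hc
        rw [if_neg]
        intro h
        have h4 := congrFun ((hx c).mp h) 0
        rw [hcol] at h4
        apply hc
        simpa [e1] using h4.symm
      · intro h; exact absurd (Finset.mem_univ _) h
    · rw [CharInd.ext_notMem H θ hm]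
      symm
      apply Finset.sum_eq_zero
      intro c _
      rw [if_neg]
      intro h
      apply hm
      rw [hH]
      have h4 := congrFun ((hx c).mp h) 1
      rw [hcol] at h4
      simpa [e1] using h4
  have hsum : ∑ x : G, extendByZero H θ (x⁻¹ * g * x) = ∑ x : G, f (x • (⟨e1 F, e1_ne⟩ : NV F)) :=
    Finset.sum_congr rfl (fun x _ => hext x)
  have h5 := sum_orbit (G := G) (⟨e1 F, e1_ne⟩ : NV F) f
  have hfs : ∑ v : NV F, f v = ∑ c : F, (Nat.card {v : NV F // M *ᵥ v.1 = c • v.1} : ℂ) * Θ c (M.det / c) := by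
    show ∑ v : NV F, ∑ c : F, _ = _
    rw [Finset.sum_comm]
    refine Finset.sum_congr rfl fun c _ => ?_
    rw [Finset.sum_ite, Finset.sum_const_zero, add_zero, Finset.sum_const, nsmul_eq_mul, Nat.card_eq_fintype_card,
      Fintype.card_subtype]
  have hq : 1 < Fintype.card F := Fintype.one_lt_card
  have hHc : (Nat.card H : ℂ) ≠ 0 := by exact_mod_cast (Nat.card_pos (α := H)).ne'
  have hq1 : ((Fintype.card F : ℂ) - 1) ≠ 0 := by
    intro h
    have : (Fintype.card F : ℂ) = ((1 : ℕ) : ℂ) := by push_cast; linear_combination h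
    have := Nat.cast_injective this
    omega
  have hq2 : ((Fintype.card F : ℂ) + 1) ≠ 0 := by
    exact_mod_cast (by omega : Fintype.card F + 1 ≠ 0)
  rw [CharInd.indFun_apply, hsum, ← hfs]
  have hX : (Fintype.card (NV F) : ℂ) = ((Fintype.card F : ℂ) - 1) * ((Fintype.card F : ℂ) + 1) := by
    rw [← Nat.card_eq_fintype_card, card_NV, Nat.cast_sub (Nat.one_le_pow _ _ (by omega))]
    push_cast
    ring
  have hGc : (Fintype.card G : ℂ) = (Nat.card H : ℂ) * ((Fintype.card F : ℂ) + 1) := by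
    rw [← Nat.card_eq_fintype_card, hcard]; push_cast; ring
  rw [hX, hGc] at h5
  have h6 : ((Fintype.card F : ℂ) - 1) * ∑ x : G, f (x • (⟨e1 F, e1_ne⟩ : NV F)) = (Nat.card H : ℂ) * ∑ v : NV F, f v := by
    apply mul_right_cancel₀ hq2
    linear_combination h5
  rw [eq_comm, inv_mul_eq_iff_eq_mul₀ hq1, ← mul_assoc, mul_comm ((Fintype.card F : ℂ) - 1), mul_assoc, h6, ← mul_assoc,
    inv_mul_cancel₀ hHc, one_mul]

end Fin

end Cfsg.Agent.Lib.Tw
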