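import Mathlib
import Cfsg.Agent.Lib.Tw6

/-! Principal series functions of `GL_2` and `SL_2`: values. -/

set_option linter.all false
set_option maxHeartbeats 400000

namespace Cfsg.Agent.Lib.Tw

open Matrix Module Cfsg
open scoped MatrixGroups

variable {F : Type*} [Field F]

section Fin

variable [Fintype F]

theorem q_sub_ne : ((Fintype.card F : ℂ) - 1) ≠ 0 := by
  have hq : 1 < Fintype.card F := Fintype.one_lt_card
  intro h
  have : (Fintype.card F : ℂ) = ((1 : ℕ) : ℂ) := by push_cast; linear_combination h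
  have := Nat.cast_injective this
  omega

theorem q_ne : (Fintype.card F : ℂ) ≠ 0 := by exact_mod_cast (Fintype.card_pos (α := F)).ne'

theorem q_add_ne : ((Fintype.card F : ℂ) + 1) ≠ 0 := by
  exact_mod_cast (by omega : Fintype.card F + 1 ≠ 0)

theorem card_eig_not {M : Matrix (Fin 2) (Fin 2) F} {c : F} (hc : c ^ 2 - M.trace * c + M.det ≠ 0) :
    Nat.card {v : NV F // M *ᵥ v.1 = c • v.1} = 0 := by
  rw [Nat.card_eq_zero]
  left
  refine ⟨fun v => hc ((exists_eigvec_iff c).mp ⟨v.1.1, v.1.2, v.2⟩)⟩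

theorem card_eig_sc [DecidableEq F] {a c : F} : Nat.card {v : NV F // (a • (1 : Matrix (Fin 2) (Fin 2) F)) *ᵥ v.1 = c • v.1} =
    if a = c then Fintype.card F ^ 2 - 1 else 0 := by
  split_ifs with h
  · subst h
    rw [← card_NV]
    refine Nat.card_congr (Equiv.subtypeUnivEquiv (fun v => ?_))
    rw [Matrix.smul_mulVec, Matrix.one_mulVec]
  · rw [Nat.card_eq_zero]
    left
    refine ⟨fun v => ?_⟩
    have h1 := v.2
    rw [Matrix.smul_mulVec, Matrix.one_mulVec, ← sub_eq_zero, ← sub_smul, smul_eq_zero] at h1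
    rcases h1 with h1 | h1
    · exact h (sub_eq_zero.mp h1)
    · exact v.1.2 h1

/-- data for induction from the upper triangular subgroup -/
structure BD {G : Type*} [Group G] (ι : G →* GL (Fin 2) F) (H : Subgroup G) : Prop where
  tr : ∀ v : NV F, ∃ g : G, (ι g : Matrix (Fin 2) (Fin 2) F) *ᵥ e1 F = v.1
  mem : ∀ g, g ∈ H ↔ (ι g : Matrix (Fin 2) (Fin 2) F) 1 0 = 0
  card : Nat.card G = Nat.card H * (Fintype.card F + 1)

variable {G : Type*} [Group G] [Fintype G] {ι : G →* GL (Fin 2) F} {H : Subgroup G}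

theorem BD.val_ns [DecidableEq F] (h : BD ι H) {Θ : F → F → ℂ} {θ : H → ℂ}
    (hθ : ∀ b : H, θ b = Θ ((ι b : Matrix (Fin 2) (Fin 2) F) 0 0) ((ι b : Matrix (Fin 2) (Fin 2) F) 1 1)) {g : G}
    (hg : NS (ι g : Matrix (Fin 2) (Fin 2) F)) :
    indFun H θ g = ∑ c : F, if c ^ 2 - (ι g : Matrix (Fin 2) (Fin 2) F).trace * c + (ι g : Matrix (Fin 2) (Fin 2) F).det = 0 then
      Θ c ((ι g : Matrix (Fin 2) (Fin 2) F).det / c) else 0 := by
  rw [indB ι h.tr H h.mem Θ θ hθ h.card, Finset.mul_sum]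
  refine Finset.sum_congr rfl fun c _ => ?_
  have hq : 1 < Fintype.card F := Fintype.one_lt_card
  split_ifs with hc
  · rw [card_eig hg hc, Nat.cast_sub hq.le, Nat.cast_one, ← mul_assoc, inv_mul_cancel₀ q_sub_ne, one_mul]
  · rw [card_eig_not hc, Nat.cast_zero, zero_mul, mul_zero]

theorem BD.val_sc (h : BD ι H) {Θ : F → F → ℂ} {θ : H → ℂ}
    (hθ : ∀ b : H, θ b = Θ ((ι b : Matrix (Fin 2) (Fin 2) F) 0 0) ((ι b : Matrix (Fin 2) (Fin 2) F) 1 1)) {g : G} {a : F}
    (hg : (ι g : Matrix (Fin 2) (Fin 2) F) = a • 1) :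
    indFun H θ g = ((Fintype.card F : ℂ) + 1) * Θ a a := by
  classical
  rw [indB ι h.tr H h.mem Θ θ hθ h.card, hg]
  have ha : a ≠ 0 := by
    rintro rfl
    have := ((Matrix.isUnit_iff_isUnit_det _).mp (ι g).isUnit).ne_zero
    rw [hg, zero_smul, Matrix.det_zero] at this
    exact this rfl
  rw [Finset.sum_eq_single a]
  · have hq : 1 < Fintype.card F := Fintype.one_lt_card
    rw [card_eig_sc, if_pos rfl, Nat.cast_sub (Nat.one_le_pow _ _ (by omega))]
    have e : (a • (1 : Matrix (Fin 2) (Fin 2) F)).det / a = a := by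
      rw [Matrix.det_smul, Matrix.det_one, Fintype.card_fin]
      field_simp
    rw [e]
    push_cast
    have := q_sub_ne (F := F)
    field_simp
    ring
  · intro c _ hc
    rw [card_eig_sc, if_neg (Ne.symm hc), Nat.cast_zero, zero_mul]
  · intro h; exact absurd (Finset.mem_univ _) h

theorem BD.val_ne (h : BD ι H) {Θ : F → F → ℂ} {θ : H → ℂ}
    (hθ : ∀ b : H, θ b = Θ ((ι b : Matrix (Fin 2) (Fin 2) F) 0 0) ((ι b : Matrix (Fin 2) (Fin 2) F) 1 1)) {g : G}
    (hg : NE (ι g : Matrix (Fin 2) (Fin 2) F)) : indFun H θ g = 0 := by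
  classical
  rw [h.val_ns hθ hg.ns]
  apply Finset.sum_eq_zero
  intro c _
  rw [if_neg (ne_iff.mp hg c)]

theorem BD.val_split (h : BD ι H) {Θ : F → F → ℂ} {θ : H → ℂ}
    (hθ : ∀ b : H, θ b = Θ ((ι b : Matrix (Fin 2) (Fin 2) F) 0 0) ((ι b : Matrix (Fin 2) (Fin 2) F) 1 1)) {g : G} {α β : F}
    (hαβ : α ≠ β) (ht : (ι g : Matrix (Fin 2) (Fin 2) F).trace = α + β) (hd : (ι g : Matrix (Fin 2) (Fin 2) F).det = α * β) :
    indFun H θ g = Θ α β + Θ β α := by
  classical
  have hg : NS (ι g : Matrix (Fin 2) (Fin 2) F) := by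
    rintro ⟨h1, h2, h3⟩
    rw [Matrix.trace_fin_two, ← h3] at ht
    rw [Matrix.det_fin_two, h1, ← h3] at hd
    apply hαβ
    have : (α - β) ^ 2 = 0 := by
      linear_combination (-(α + β) - 2 * (ι g : Matrix (Fin 2) (Fin 2) F) 0 0) * ht + 4 * hd
    exact sub_eq_zero.mp (pow_eq_zero_iff two_ne_zero |>.mp this)
  have hd0 : (ι g : Matrix (Fin 2) (Fin 2) F).det ≠ 0 := ((Matrix.isUnit_iff_isUnit_det _).mp (ι g).isUnit).ne_zero
  rw [hd] at hd0
  have hα : α ≠ 0 := left_ne_zero_of_mul hd0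
  have hβ : β ≠ 0 := right_ne_zero_of_mul hd0
  rw [h.val_ns hθ hg, ht, hd]
  have e : ∀ c : F, (c ^ 2 - (α + β) * c + α * β = 0) ↔ (c = α ∨ c = β) := by
    intro c
    rw [← sub_eq_zero (a := c) (b := α), ← sub_eq_zero (a := c) (b := β), ← mul_eq_zero]
    constructor
    · intro h; rw [← h]; ring
    · intro h; rw [← h]; ring
  simp only [e]
  rw [← Finset.sum_filter]
  have e2 : (Finset.univ.filter (fun c : F => c = α ∨ c = β)) = {α, β} := by
    ext c; simp
  rw [e2, Finset.sum_pair hαβ, mul_div_cancel_left₀ _ hα, mul_div_cancel_right₀ _ hβ]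

theorem BD.val_par (h : BD ι H) {Θ : F → F → ℂ} {θ : H → ℂ}
    (hθ : ∀ b : H, θ b = Θ ((ι b : Matrix (Fin 2) (Fin 2) F) 0 0) ((ι b : Matrix (Fin 2) (Fin 2) F) 1 1)) {g : G} {α : F}
    (hg : NS (ι g : Matrix (Fin 2) (Fin 2) F)) (ht : (ι g : Matrix (Fin 2) (Fin 2) F).trace = α + α)
    (hd : (ι g : Matrix (Fin 2) (Fin 2) F).det = α * α) :
    indFun H θ g = Θ α α := by
  classical
  have hd0 : (ι g : Matrix (Fin 2) (Fin 2) F).det ≠ 0 := ((Matrix.isUnit_iff_isUnit_det _).mp (ι g).isUnit).ne_zero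
  rw [hd] at hd0
  have hα : α ≠ 0 := left_ne_zero_of_mul hd0
  rw [h.val_ns hθ hg, ht, hd, Finset.sum_eq_single α]
  · rw [if_pos (by ring), mul_div_cancel_left₀ _ hα]
  · intro c _ hc
    rw [if_neg]
    intro h0
    apply hc
    have : (c - α) ^ 2 = 0 := by rw [← h0]; ring
    exact sub_eq_zero.mp (pow_eq_zero_iff two_ne_zero |>.mp this)
  · intro h; exact absurd (Finset.mem_univ _) h

omit [Fintype F] in
theorem mem_ut {g : GL (Fin 2) F} : g ∈ Cfsg.upperTriangularGL 2 F ↔ (g : Matrix (Fin 2) (Fin 2) F) 1 0 = 0 := by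
  constructor
  · intro h
    exact h (show (0 : Fin 2) < 1 by decide)
  · intro h i j hij
    fin_cases i <;> fin_cases j
    · exact absurd hij (lt_irrefl _)
    · exact absurd hij (by decide)
    · exact h
    · exact absurd hij (lt_irrefl _)

omit [Fintype F] in
theorem exists_SL_vec (v : NV F) : ∃ g : SL(2, F), (g : Matrix (Fin 2) (Fin 2) F) *ᵥ e1 F = v.1 := by
  obtain ⟨v, hv⟩ := v
  by_cases h0 : v 0 = 0
  · have h1 : v 1 ≠ 0 := by
      intro h1; apply hv; funext i; fin_cases i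
      · exact h0
      · exact h1
    refine ⟨⟨!![0, -(v 1)⁻¹; v 1, 0], by rw [Matrix.det_fin_two_of]; field_simp; ring⟩, ?_⟩
    funext i
    fin_cases i
    · show (!![0, -(v 1)⁻¹; v 1, 0] *ᵥ e1 F) 0 = v 0
      simp [e1, Matrix.mulVec, dotProduct, Fin.sum_univ_two, h0]
    · show (!![0, -(v 1)⁻¹; v 1, 0] *ᵥ e1 F) 1 = v 1
      simp [e1, Matrix.mulVec, dotProduct, Fin.sum_univ_two]
  · refine ⟨⟨!![v 0, 0; v 1, (v 0)⁻¹], by rw [Matrix.det_fin_two_of]; field_simp; ring⟩, ?_⟩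
    funext i
    fin_cases i
    · show (!![v 0, 0; v 1, (v 0)⁻¹] *ᵥ e1 F) 0 = v 0
      simp [e1, Matrix.mulVec, dotProduct, Fin.sum_univ_two]
    · show (!![v 0, 0; v 1, (v 0)⁻¹] *ᵥ e1 F) 1 = v 1
      simp [e1, Matrix.mulVec, dotProduct, Fin.sum_univ_two]

omit [Fintype F] in
theorem comap_eq_B : (Cfsg.upperTriangularGL 2 F).comap Matrix.SpecialLinearGroup.toGL = SL2.B F := by
  ext g
  rw [Subgroup.mem_comap, mem_ut, SL2.mem_B]
  rfl

theorem bdSL : BD (F := F) (G := SL(2, F)) Matrix.SpecialLinearGroup.toGL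
    ((Cfsg.upperTriangularGL 2 F).comap Matrix.SpecialLinearGroup.toGL) where
  tr := exists_SL_vec
  mem g := by rw [Subgroup.mem_comap, mem_ut]
  card := by
    rw [comap_eq_B, SL2.card_B, SL2.card_SL2, Nat.card_units, Nat.card_eq_fintype_card]
    ring

/-- the matrix -/
noncomputable def bG (a d : Fˣ) (b : F) : GL (Fin 2) F :=
  Matrix.GeneralLinearGroup.mkOfDetNeZero !![(a : F), b; 0, (d : F)] (by
    rw [Matrix.det_fin_two_of, mul_zero, sub_zero]; exact mul_ne_zero a.ne_zero d.ne_zero)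

omit [Fintype F] in
theorem bG_coe (a d : Fˣ) (b : F) : (bG a d b : Matrix (Fin 2) (Fin 2) F) = !![(a : F), b; 0, (d : F)] := rfl

/-- the upper triangular group of `GL_2` -/
noncomputable def bGE (F : Type*) [Field F] : (Fˣ × Fˣ) × F ≃ Cfsg.upperTriangularGL 2 F :=
  Equiv.ofBijective (fun p => ⟨bG p.1.1 p.1.2 p.2, by rw [mem_ut, bG_coe]; simp⟩) (by
    constructor
    · rintro ⟨⟨a, d⟩, b⟩ ⟨⟨a', d'⟩, b'⟩ h
      have h1 := congrArg (fun z : Cfsg.upperTriangularGL 2 F => ((z : GL (Fin 2) F) : Matrix (Fin 2) (Fin 2) F)) h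
      simp only [bG_coe] at h1
      have h00 := congrFun (congrFun h1 0) 0
      have h01 := congrFun (congrFun h1 0) 1
      have h11 := congrFun (congrFun h1 1) 1
      simp at h00 h01 h11
      rw [Units.ext h00, Units.ext h11, h01]
    · intro z
      have h10 := mem_ut.mp z.2
      have hd : ((z : GL (Fin 2) F) : Matrix (Fin 2) (Fin 2) F).det ≠ 0 :=
        ((Matrix.isUnit_iff_isUnit_det _).mp z.1.isUnit).ne_zero
      rw [Matrix.det_fin_two, h10, mul_zero, sub_zero] at hd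
      refine ⟨((Units.mk0 _ (left_ne_zero_of_mul hd), Units.mk0 _ (right_ne_zero_of_mul hd)),
        ((z : GL (Fin 2) F) : Matrix (Fin 2) (Fin 2) F) 0 1), ?_⟩
      apply Subtype.ext
      apply Units.ext
      show !![_, _; _, _] = _
      ext i j
      fin_cases i <;> fin_cases j <;> simp [h10])

theorem bdGL : BD (F := F) (G := GL (Fin 2) F) (MonoidHom.id _) (Cfsg.upperTriangularGL 2 F) where
  tr v := by
    obtain ⟨g, hg⟩ := exists_SL_vec v
    exact ⟨g, hg⟩
  mem g := mem_ut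
  card := by
    rw [← Nat.card_congr (bGE F), SL2.card_GL2', Nat.card_prod, Nat.card_prod, Nat.card_units, Nat.card_eq_fintype_card]
    ring

end Fin

end Cfsg.Agent.Lib.Tw
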