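import Mathlib
import Cfsg.Agent.Lib.Tor3
import Cfsg.Agent.Lib.Tw7

/-! Classes of the Borel subgroup of `SL_2(q)`; products of classes. -/

set_option linter.all false
set_option maxHeartbeats 400000

namespace Cfsg.Agent.Lib.Tor

open Matrix Module Cfsg Cfsg.Agent.Lib.Tw
open scoped MatrixGroups

variable {F : Type*} [Field F] [Fintype F] [DecidableEq F]

theorem lin_count (u v : F) : (Finset.univ.filter (fun p : F × F => p.2 * u = p.1 * v)).card =
    if u = 0 ∧ v = 0 then Fintype.card F ^ 2 else Fintype.card F := by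
  split_ifs with h
  · rw [h.1, h.2, Finset.filter_true_of_mem (fun p _ => by rw [mul_zero, mul_zero]), Finset.card_univ, Fintype.card_prod, pow_two]
  · by_cases hu : u = 0
    · have hv : v ≠ 0 := fun hv => h ⟨hu, hv⟩
      rw [← Finset.card_univ (α := F)]
      refine Finset.card_bij (fun p _ => p.2) (fun _ _ => Finset.mem_univ _) ?_ ?_
      · rintro ⟨a, b⟩ ha ⟨c, d⟩ hc hbd
        rw [Finset.mem_filter, hu, mul_zero] at ha hc
        have h1 := (mul_eq_zero.mp ha.2.symm).resolve_right hv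
        have h2 := (mul_eq_zero.mp hc.2.symm).resolve_right hv
        exact Prod.ext (h1.trans h2.symm) hbd
      · intro b _
        refine ⟨(0, b), ?_, rfl⟩
        rw [Finset.mem_filter, hu]
        exact ⟨Finset.mem_univ _, by simp⟩
    · rw [← Finset.card_univ (α := F)]
      refine Finset.card_bij (fun p _ => p.1) (fun _ _ => Finset.mem_univ _) ?_ ?_
      · rintro ⟨a, b⟩ ha ⟨c, d⟩ hc hbd
        rw [Finset.mem_filter] at ha hc
        have hbd' : a = c := hbd
        have h1 := ha.2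
        have h2 := hc.2
        simp only at h1 h2
        rw [hbd', ← h2] at h1
        exact Prod.ext hbd' (mul_right_cancel₀ hu h1)
      · intro a _
        refine ⟨(a, a * v / u), ?_, rfl⟩
        rw [Finset.mem_filter]
        refine ⟨Finset.mem_univ _, ?_⟩
        simp only
        field_simp

omit [Fintype F] [DecidableEq F] in
theorem bMk_comm (a c : Fˣ) (b d : F) : SL2.bMk a b * SL2.bMk c d = SL2.bMk c d * SL2.bMk a b ↔
    d * ((a : F) - ((a⁻¹ : Fˣ) : F)) = b * ((c : F) - ((c⁻¹ : Fˣ) : F)) := by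
  have e : ∀ (a c : Fˣ) (b d : F), ((SL2.bMk a b * SL2.bMk c d : SL(2, F)) : Matrix (Fin 2) (Fin 2) F) =
      !![(a : F) * c, a * d + b * ((c⁻¹ : Fˣ) : F); 0, ((a⁻¹ : Fˣ) : F) * ((c⁻¹ : Fˣ) : F)] := by
    intro a c b d
    rw [Matrix.SpecialLinearGroup.coe_mul, SL2.bMk_coe, SL2.bMk_coe, Matrix.mul_fin_two]
    ext i j
    fin_cases i <;> fin_cases j <;> simp
  constructor
  · intro h
    have h1 : ((SL2.bMk a b * SL2.bMk c d : SL(2, F)) : Matrix (Fin 2) (Fin 2) F) = ((SL2.bMk c d * SL2.bMk a b : SL(2, F)) : Matrix (Fin 2) (Fin 2) F) := by rw [h]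
    rw [e, e] at h1
    have h2 := congrFun (congrFun h1 0) 1
    simp only [Matrix.of_apply, Matrix.cons_val', Matrix.cons_val_zero, Matrix.cons_val_one, Matrix.empty_val'] at h2
    linear_combination h2
  · intro h
    apply Subtype.ext
    show ((SL2.bMk a b * SL2.bMk c d : SL(2, F)) : Matrix (Fin 2) (Fin 2) F) = ((SL2.bMk c d * SL2.bMk a b : SL(2, F)) : Matrix (Fin 2) (Fin 2) F)
    rw [e, e, mul_comm (a : F) c, mul_comm ((a⁻¹ : Fˣ) : F)]
    have : (a : F) * d + b * ((c⁻¹ : Fˣ) : F) = c * b + d * ((a⁻¹ : Fˣ) : F) := by linear_combination h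
    rw [this]

theorem classes_B (h2 : (2 : F) ≠ 0) : Nat.card (ConjClasses (SL2.B F)) = Fintype.card F + 3 := by
  classical
  haveI : Fintype (SL2.B F) := Fintype.ofFinite _
  have hq : 1 < Fintype.card F := Fintype.one_lt_card
  have hcount := card_comm_eq_card_conjClasses_mul_card (SL2.B F)
  have hB : Nat.card (SL2.B F) = (Fintype.card F - 1) * Fintype.card F := by
    rw [SL2.card_B, Nat.card_units, Nat.card_eq_fintype_card]
  have h3 : Nat.card {p : SL2.B F × SL2.B F // Commute p.1 p.2} = ∑ a : Fˣ, ∑ c : Fˣ, (Finset.univ.filter (fun p : F × F =>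
      p.2 * ((a : F) - ((a⁻¹ : Fˣ) : F)) = p.1 * ((c : F) - ((c⁻¹ : Fˣ) : F)))).card := by
    rw [Nat.card_eq_fintype_card, Fintype.card_subtype, Finset.card_filter, Fintype.sum_prod_type, ← Equiv.sum_comp (SL2.bEquiv F), Fintype.sum_prod_type]
    refine Finset.sum_congr rfl fun a _ => ?_
    have : ∀ b : F, ∑ y : SL2.B F, (if Commute (SL2.bEquiv F (a, b)) y then 1 else 0) = ∑ c : Fˣ, ∑ d : F,
        (if d * ((a : F) - ((a⁻¹ : Fˣ) : F)) = b * ((c : F) - ((c⁻¹ : Fˣ) : F)) then 1 else 0) := by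
      intro b
      rw [← Equiv.sum_comp (SL2.bEquiv F), Fintype.sum_prod_type]
      refine Finset.sum_congr rfl fun c _ => Finset.sum_congr rfl fun d _ => ?_
      have e : Commute (SL2.bEquiv F (a, b)) (SL2.bEquiv F (c, d)) ↔ d * ((a : F) - ((a⁻¹ : Fˣ) : F)) = b * ((c : F) - ((c⁻¹ : Fˣ) : F)) := by
        rw [← bMk_comm]
        exact ⟨fun h => congrArg Subtype.val h, fun h => Subtype.ext h⟩
      by_cases hc : d * ((a : F) - ((a⁻¹ : Fˣ) : F)) = b * ((c : F) - ((c⁻¹ : Fˣ) : F))
      · rw [if_pos hc, if_pos (e.mpr hc)]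
      · rw [if_neg hc, if_neg (fun h => hc (e.mp h))]
    rw [Finset.sum_congr rfl (fun b _ => this b), Finset.sum_comm]
    refine Finset.sum_congr rfl fun c _ => ?_
    rw [Finset.card_filter, Fintype.sum_prod_type]
  have h4 : ∀ a : Fˣ, (a : F) - ((a⁻¹ : Fˣ) : F) = 0 ↔ a ∈ ({1, -1} : Finset Fˣ) := by
    intro a
    rw [Finset.mem_insert, Finset.mem_singleton, sub_eq_zero]
    constructor
    · intro h
      have h5 : (a : F) * a = 1 := by nth_rewrite 2 [h]; exact a.mul_inv
      rcases mul_self_eq_one_iff.mp h5 with h6 | h6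
      · exact Or.inl (Units.ext h6)
      · exact Or.inr (Units.ext (by rw [h6, Units.val_neg, Units.val_one]))
    · rintro (rfl | rfl)
      · rw [inv_one]
      · rw [inv_neg, inv_one]
  have h5 : ∑ a : Fˣ, ∑ c : Fˣ, (Finset.univ.filter (fun p : F × F =>
      p.2 * ((a : F) - ((a⁻¹ : Fˣ) : F)) = p.1 * ((c : F) - ((c⁻¹ : Fˣ) : F)))).card =
      ∑ a : Fˣ, ∑ c : Fˣ, (Fintype.card F + (if a ∈ ({1, -1} : Finset Fˣ) then 1 else 0) * ((if c ∈ ({1, -1} : Finset Fˣ) then 1 else 0) * (Fintype.card F ^ 2 - Fintype.card F))) := by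
    refine Finset.sum_congr rfl fun a _ => Finset.sum_congr rfl fun c _ => ?_
    rw [lin_count]
    by_cases ha : a ∈ ({1, -1} : Finset Fˣ)
    · by_cases hc : c ∈ ({1, -1} : Finset Fˣ)
      · rw [if_pos ⟨(h4 a).mpr ha, (h4 c).mpr hc⟩, if_pos ha, if_pos hc, one_mul, one_mul]
        have : Fintype.card F ≤ Fintype.card F ^ 2 := by nlinarith
        omega
      · rw [if_neg (fun h => hc ((h4 c).mp h.2)), if_neg hc, zero_mul, mul_zero, add_zero]
    · rw [if_neg (fun h => ha ((h4 a).mp h.1)), if_neg ha, zero_mul, add_zero]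
  have h6 : ∑ a : Fˣ, (if a ∈ ({1, -1} : Finset Fˣ) then 1 else 0) = 2 := by
    rw [← Finset.card_filter, Finset.filter_mem_eq_inter, Finset.univ_inter, Finset.card_pair]
    intro h
    have h7 : (1 : F) = -1 := by
      have := congrArg Units.val h
      rwa [Units.val_neg, Units.val_one] at this
    apply h2
    linear_combination h7
  rw [h3, h5] at hcount
  simp only [Finset.sum_add_distrib, ← Finset.mul_sum, ← Finset.sum_mul, h6, Finset.sum_const, Finset.card_univ, smul_eq_mul, Fintype.card_units] at hcount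
  rw [hB] at hcount
  obtain ⟨k, hk⟩ : ∃ k, Fintype.card F = k + 1 := ⟨Fintype.card F - 1, by omega⟩
  rw [hk] at hcount ⊢
  have hk0 : 0 < k := by omega
  have e : (k + 1) ^ 2 - (k + 1) = k * (k + 1) := by
    have : (k + 1) ^ 2 = k * (k + 1) + (k + 1) := by ring
    omega
  rw [e, Nat.add_sub_cancel] at hcount
  have h8 : (k * (k + 1)) * Nat.card (ConjClasses (SL2.B F)) = (k * (k + 1)) * (k + 1 + 3) := by nlinarith
  exact Nat.eq_of_mul_eq_mul_left (by positivity) h8

end Cfsg.Agent.Lib.Tor
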