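import Mathlib
import Cfsg.Agent.Lib.Tor4

/-! `PSL_2`: basic facts. -/

set_option linter.all false
set_option maxHeartbeats 400000

namespace Cfsg.Agent.Lib.Tor

open Matrix Module Cfsg Cfsg.Agent.Lib.Tw
open scoped MatrixGroups

variable {F : Type*} [Field F]

theorem mem_center {g : SL(2, F)} : g ∈ Subgroup.center SL(2, F) ↔ g = 1 ∨ g = -1 := by
  rw [Matrix.SpecialLinearGroup.mem_center_iff]
  constructor
  · rintro ⟨r, hr, h⟩
    rw [Fintype.card_fin, pow_two, mul_self_eq_one_iff] at hr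
    rcases hr with rfl | rfl
    · left
      apply Subtype.ext
      rw [← h, map_one]; rfl
    · right
      apply Subtype.ext
      rw [← h, map_neg, map_one]; rfl
  · rintro (rfl | rfl)
    · exact ⟨1, by rw [one_pow], by rw [map_one]; rfl⟩
    · exact ⟨-1, by rw [Fintype.card_fin]; ring, by rw [map_neg, map_one]; rfl⟩

/-- the projection -/
def mk (F : Type*) [Field F] : SL(2, F) →* Matrix.ProjectiveSpecialLinearGroup (Fin 2) F := QuotientGroup.mk' _

theorem mk_surj : Function.Surjective (mk F) := QuotientGroup.mk'_surjective _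

theorem mk_eq_iff {g h : SL(2, F)} : mk F g = mk F h ↔ h = g ∨ h = -g := by
  have : mk F g = mk F h ↔ g⁻¹ * h ∈ Subgroup.center SL(2, F) := QuotientGroup.eq
  rw [this, mem_center, inv_mul_eq_one, inv_mul_eq_iff_eq_mul, mul_neg, mul_one]
  constructor
  · rintro (h | h)
    · exact Or.inl h.symm
    · exact Or.inr h
  · rintro (h | h)
    · exact Or.inl h.symm
    · exact Or.inr h

theorem mk_eq_one {g : SL(2, F)} : mk F g = 1 ↔ g = 1 ∨ g = -1 := by
  rw [← map_one (mk F), eq_comm, mk_eq_iff]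

theorem mk_neg (g : SL(2, F)) : mk F (-g) = mk F g := mk_eq_iff.mpr (Or.inr (neg_neg g).symm)

theorem ns_of_mk {g : SL(2, F)} (h : mk F g ≠ 1) : NS (g : Matrix (Fin 2) (Fin 2) F) :=
  ns_of_ne (fun h1 => h (mk_eq_one.mpr (Or.inl h1))) (fun h1 => h (mk_eq_one.mpr (Or.inr h1)))

theorem trace_neg (g : SL(2, F)) : ((-g : SL(2, F)) : Matrix (Fin 2) (Fin 2) F).trace = -(g : Matrix (Fin 2) (Fin 2) F).trace := by
  rw [Matrix.SpecialLinearGroup.coe_neg, Matrix.trace_neg]

theorem trace_of_conj_mk {g h : SL(2, F)} (hc : IsConj (mk F g) (mk F h)) :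
    (g : Matrix (Fin 2) (Fin 2) F).trace = (h : Matrix (Fin 2) (Fin 2) F).trace ∨ (g : Matrix (Fin 2) (Fin 2) F).trace = -(h : Matrix (Fin 2) (Fin 2) F).trace := by
  obtain ⟨c, hc⟩ := isConj_iff.mp hc
  obtain ⟨x, rfl⟩ := mk_surj c
  rw [← map_inv, ← map_mul, ← map_mul, mk_eq_iff] at hc
  rcases hc with h1 | h1
  · left
    rw [h1, trace_conj]
  · right
    rw [h1, trace_neg, trace_conj, neg_neg]

/-- a nonscalar matrix is conjugate to one with nonzero lower left entry -/
theorem exists_lower {A : SL(2, F)} (hA : NS (A : Matrix (Fin 2) (Fin 2) F)) : ∃ n : SL(2, F), ((n * A * n⁻¹ : SL(2, F)) : Matrix (Fin 2) (Fin 2) F) 1 0 ≠ 0 := by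
  by_cases h1 : (A : Matrix (Fin 2) (Fin 2) F) 1 0 = 0
  · by_cases h2 : (A : Matrix (Fin 2) (Fin 2) F) 0 1 = 0
    · -- diagonal
      have h3 : (A : Matrix (Fin 2) (Fin 2) F) 0 0 ≠ (A : Matrix (Fin 2) (Fin 2) F) 1 1 := fun h => hA ⟨h2, h1, h⟩
      let n : SL(2, F) := ⟨!![1, 0; 1, 1], by simp [Matrix.det_fin_two_of]⟩
      have hn : (n : Matrix (Fin 2) (Fin 2) F) = !![1, 0; 1, 1] := rfl
      refine ⟨n, ?_⟩
      have e : ((n * A * n⁻¹ : SL(2, F)) : Matrix (Fin 2) (Fin 2) F) 1 0 = (A : Matrix (Fin 2) (Fin 2) F) 0 0 - (A : Matrix (Fin 2) (Fin 2) F) 1 1 := by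
        rw [Matrix.SpecialLinearGroup.coe_mul, Matrix.SpecialLinearGroup.coe_mul, Matrix.SpecialLinearGroup.coe_inv, Matrix.adjugate_fin_two, hn]
        simp only [Matrix.mul_apply, Fin.sum_univ_two, Matrix.of_apply, Matrix.cons_val', Matrix.cons_val_zero, Matrix.cons_val_one, Matrix.empty_val', h1, h2]
        ring
      rw [e]
      exact sub_ne_zero.mpr h3
    · let n : SL(2, F) := ⟨!![0, 1; -1, 0], by simp [Matrix.det_fin_two_of]⟩
      have hn : (n : Matrix (Fin 2) (Fin 2) F) = !![0, 1; -1, 0] := rfl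
      refine ⟨n, ?_⟩
      have e : ((n * A * n⁻¹ : SL(2, F)) : Matrix (Fin 2) (Fin 2) F) 1 0 = -(A : Matrix (Fin 2) (Fin 2) F) 0 1 := by
        rw [Matrix.SpecialLinearGroup.coe_mul, Matrix.SpecialLinearGroup.coe_mul, Matrix.SpecialLinearGroup.coe_inv, Matrix.adjugate_fin_two, hn]
        simp only [Matrix.mul_apply, Fin.sum_univ_two, Matrix.of_apply, Matrix.cons_val', Matrix.cons_val_zero, Matrix.cons_val_one, Matrix.empty_val', h1]
        ring
      rw [e]
      exact neg_ne_zero.mpr h2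
  · exact ⟨1, by rw [one_mul, inv_one, mul_one]; exact h1⟩

/-- traces of products with conjugates by unipotent elements -/
theorem trace_prod (A B : SL(2, F)) (z : F) : ((A * (SL2.t z * B * (SL2.t z)⁻¹) : SL(2, F)) : Matrix (Fin 2) (Fin 2) F).trace =
    -((A : Matrix (Fin 2) (Fin 2) F) 1 0 * (B : Matrix (Fin 2) (Fin 2) F) 1 0) * z ^ 2 +
    ((A : Matrix (Fin 2) (Fin 2) F) 0 0 * (B : Matrix (Fin 2) (Fin 2) F) 1 0 + (A : Matrix (Fin 2) (Fin 2) F) 1 0 * ((B : Matrix (Fin 2) (Fin 2) F) 1 1 - (B : Matrix (Fin 2) (Fin 2) F) 0 0) -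
      (A : Matrix (Fin 2) (Fin 2) F) 1 1 * (B : Matrix (Fin 2) (Fin 2) F) 1 0) * z + ((A : Matrix (Fin 2) (Fin 2) F) * B).trace := by
  rw [Matrix.SpecialLinearGroup.coe_mul, Matrix.SpecialLinearGroup.coe_mul, Matrix.SpecialLinearGroup.coe_mul, Matrix.SpecialLinearGroup.coe_inv, Matrix.adjugate_fin_two,
    SL2.t_coe, Matrix.trace_fin_two, Matrix.trace_fin_two]
  simp only [Matrix.mul_apply, Fin.sum_univ_two, Matrix.of_apply, Matrix.cons_val', Matrix.cons_val_zero, Matrix.cons_val_one, Matrix.empty_val']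
  ring

theorem quad_count [Fintype F] [DecidableEq F] {a b c τ : F} (ha : a ≠ 0) (h : ∀ z : F, a * z ^ 2 + b * z + c = τ ∨ a * z ^ 2 + b * z + c = -τ) : Fintype.card F ≤ 4 := by
  by_contra hcon
  push Not at hcon
  let P : Polynomial F := (Polynomial.C a * Polynomial.X ^ 2 + Polynomial.C b * Polynomial.X + Polynomial.C c - Polynomial.C τ) *
    (Polynomial.C a * Polynomial.X ^ 2 + Polynomial.C b * Polynomial.X + Polynomial.C c + Polynomial.C τ)
  have hd : ∀ s : F, (Polynomial.C a * Polynomial.X ^ 2 + Polynomial.C b * Polynomial.X + Polynomial.C c + Polynomial.C s).natDegree = 2 := by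
    intro s
    rw [add_assoc, ← Polynomial.C_add]
    exact Polynomial.natDegree_quadratic ha
  have h0 : ∀ s : F, (Polynomial.C a * Polynomial.X ^ 2 + Polynomial.C b * Polynomial.X + Polynomial.C c + Polynomial.C s) ≠ 0 := by
    intro s hs
    have := hd s
    rw [hs, Polynomial.natDegree_zero] at this
    omega
  have hP : P = (Polynomial.C a * Polynomial.X ^ 2 + Polynomial.C b * Polynomial.X + Polynomial.C c + Polynomial.C (-τ)) *
    (Polynomial.C a * Polynomial.X ^ 2 + Polynomial.C b * Polynomial.X + Polynomial.C c + Polynomial.C τ) := by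
    show _ = _
    rw [Polynomial.C_neg, ← sub_eq_add_neg]
  have hdeg : P.natDegree = 4 := by
    rw [hP, Polynomial.natDegree_mul (h0 _) (h0 _), hd, hd]
  have hP0 : P = 0 := by
    apply Polynomial.eq_zero_of_natDegree_lt_card_of_eval_eq_zero' P Finset.univ
    · intro z _
      simp only [P, Polynomial.eval_mul, Polynomial.eval_add, Polynomial.eval_sub, Polynomial.eval_C, Polynomial.eval_X, Polynomial.eval_pow]
      rcases h z with h1 | h1
      · rw [h1]; ring
      · rw [h1]; ring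
    · rw [hdeg, Finset.card_univ]; exact hcon
  rw [hP0, Polynomial.natDegree_zero] at hdeg
  omega

theorem quad_count' [Fintype F] [DecidableEq F] {a b c τ : F} (ha : a ≠ 0) (h : ∀ z : F, a * z ^ 2 + b * z + c = τ) : Fintype.card F ≤ 2 := by
  by_contra hcon
  push Not at hcon
  have hd : (Polynomial.C a * Polynomial.X ^ 2 + Polynomial.C b * Polynomial.X + Polynomial.C (c - τ)).natDegree = 2 := Polynomial.natDegree_quadratic ha
  have hP0 : (Polynomial.C a * Polynomial.X ^ 2 + Polynomial.C b * Polynomial.X + Polynomial.C (c - τ)) = 0 := by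
    apply Polynomial.eq_zero_of_natDegree_lt_card_of_eval_eq_zero' _ Finset.univ
    · intro z _
      simp only [Polynomial.eval_mul, Polynomial.eval_add, Polynomial.eval_sub, Polynomial.eval_C, Polynomial.eval_X, Polynomial.eval_pow]
      linear_combination h z
    · rw [hd, Finset.card_univ]; exact hcon
  rw [hP0, Polynomial.natDegree_zero] at hd
  omega

end Cfsg.Agent.Lib.Tor
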