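import Mathlib
import Cfsg.Agent.Lib.Tor5

/-! Sylow subgroups of `SL_2(q)` and tori. -/

set_option linter.all false
set_option maxHeartbeats 400000

namespace Cfsg.Agent.Lib.Tor

open Matrix Module Cfsg Cfsg.Agent.Lib.Tw
open scoped MatrixGroups

variable {F : Type*} [Field F] [Fintype F]

theorem reg_of_order {p : ℕ} [Fact p.Prime] [CharP F p] {x : SL(2, F)} {l : ℕ} (hl : l.Prime) (hl2 : l ≠ 2) (hlp : l ≠ p) (hx : orderOf x = l) : Reg x := by
  intro h
  have h1 : ((x : Matrix (Fin 2) (Fin 2) F).trace - (1 + 1)) * ((x : Matrix (Fin 2) (Fin 2) F).trace + (1 + 1)) = 0 := by linear_combination h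
  have hp : p.Prime := Fact.out
  rcases mul_eq_zero.mp h1 with h2 | h2
  · have h3 : x ^ p = 1 := by
      apply Subtype.ext
      rw [Matrix.SpecialLinearGroup.coe_pow, pow_p_of_trace (sub_eq_zero.mp h2) x.det_coe]
      rfl
    have h4 := orderOf_dvd_of_pow_eq_one h3
    rw [hx] at h4
    exact hlp ((Nat.prime_dvd_prime_iff_eq hl hp).mp h4)
  · have h3 : (-x) ^ p = 1 := by
      apply Subtype.ext
      rw [Matrix.SpecialLinearGroup.coe_pow, pow_p_of_trace (by rw [trace_neg]; linear_combination -h2) (-x).det_coe]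
      rfl
    have h4 : x ^ (p * 2) = 1 := by
      have e : x ^ (p * 2) = ((-x) ^ p) ^ 2 := by
        rw [← pow_mul, Even.neg_pow (by exact even_two_mul p |> (mul_comm 2 p ▸ ·))]
      rw [e, h3, one_pow]
    have h5 := orderOf_dvd_of_pow_eq_one h4
    rw [hx] at h5
    rcases (Nat.Prime.dvd_mul hl).mp h5 with h6 | h6
    · exact hlp ((Nat.prime_dvd_prime_iff_eq hl hp).mp h6)
    · exact hl2 ((Nat.prime_dvd_prime_iff_eq hl Nat.prime_two).mp h6)

/-- a central element of prime order in a Sylow subgroup -/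
theorem exists_central {G : Type*} [Group G] [Finite G] {l : ℕ} [Fact l.Prime] (P : Sylow l G) (h : l ∣ Nat.card G) :
    ∃ x ∈ (P : Subgroup G), orderOf x = l ∧ (P : Subgroup G) ≤ Subgroup.centralizer ({x} : Set G) := by
  have hne : Nontrivial P := by
    rw [← Finite.one_lt_card_iff_nontrivial]
    have h1 := P.card_eq_multiplicity
    rw [h1]
    apply Nat.one_lt_pow
    · rw [← Nat.pos_iff_ne_zero]
      exact Nat.Prime.factorization_pos_of_dvd Fact.out Nat.card_pos.ne' h
    · exact (Fact.out : l.Prime).one_lt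
  have hc : Nontrivial (Subgroup.center P) := P.isPGroup'.center_nontrivial
  have hpc : IsPGroup l (Subgroup.center P) := P.isPGroup'.to_subgroup _
  obtain ⟨k, hk⟩ := (IsPGroup.iff_card.mp hpc)
  have hk0 : k ≠ 0 := by
    rintro rfl
    rw [pow_zero] at hk
    have := Finite.one_lt_card (α := Subgroup.center P)
    omega
  obtain ⟨z, hz⟩ := exists_prime_orderOf_dvd_card' (G := Subgroup.center P) l (by rw [hk]; exact dvd_pow_self l hk0)
  refine ⟨(z.1 : G), z.1.2, ?_, ?_⟩
  · exact (Subgroup.orderOf_coe z.1).trans ((Subgroup.orderOf_coe z).trans hz)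
  · intro g hg
    rw [Subgroup.mem_centralizer_singleton_iff]
    have := Subgroup.mem_center_iff.mp z.2 ⟨g, hg⟩
    exact congrArg Subtype.val this

omit [Fintype F] in
theorem centralizer_eq {x : SL(2, F)} (hx : Reg x) {P : Subgroup SL(2, F)} (hxP : x ∈ P) (hP : P ≤ Ct x) :
    Subgroup.centralizer (P : Set SL(2, F)) = Ct x := by
  ext g
  constructor
  · intro hg
    have := Subgroup.mem_centralizer_iff.mp hg _ hxP
    exact Subgroup.mem_centralizer_singleton_iff.mpr this.symm
  · intro hg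
    rw [Subgroup.mem_centralizer_iff]
    intro k hk
    exact Ct_comm hx.ns (hP hk) hg

omit [Fintype F] in
theorem normalizer_eq {x : SL(2, F)} (hx : Reg x) {P : Subgroup SL(2, F)} (hxP : x ∈ P) (hP : P ≤ Ct x) :
    Subgroup.normalizer (P : Set SL(2, F)) = Subgroup.normalizer (Ct x : Set SL(2, F)) := by
  ext g
  constructor
  · intro hg
    rw [Subgroup.mem_normalizer_iff] at hg
    have h1 : g * x * g⁻¹ ∈ P := (hg x).mp hxP
    rw [mem_norm_iff hx]
    exact eq_or_inv hx (hP h1) (trace_conj x g)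
  · intro hg
    rw [mem_norm_iff hx] at hg
    have key : ∀ g : SL(2, F), (g * x * g⁻¹ = x ∨ g * x * g⁻¹ = x⁻¹) → ∀ b ∈ P, g * b * g⁻¹ ∈ P := by
      rintro g (h | h) b hb
      · have h3 : g ∈ Ct x := Subgroup.mem_centralizer_singleton_iff.mpr (mul_inv_eq_iff_eq_mul.mp h)
        have h4 := Ct_comm hx.ns h3 (hP hb)
        rw [h4, mul_inv_cancel_right]; exact hb
      · rw [inverts_all hx h (hP hb)]; exact P.inv_mem hb
    have hg' : g⁻¹ * x * g⁻¹⁻¹ = x ∨ g⁻¹ * x * g⁻¹⁻¹ = x⁻¹ := by
      rcases hg with h | h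
      · left
        nth_rewrite 1 [← h]; group
      · right
        have : x = g * x⁻¹ * g⁻¹ := by
          rw [← inv_inv x]
          nth_rewrite 1 [← h]
          group
        nth_rewrite 1 [this]; group
    rw [Subgroup.mem_normalizer_iff]
    intro b
    constructor
    · exact fun hb => key g hg b hb
    · intro hb
      have := key g⁻¹ hg' _ hb
      have e : g⁻¹ * (g * b * g⁻¹) * g⁻¹⁻¹ = b := by group
      rwa [e] at this

theorem card_Ct {x : SL(2, F)} (hx : Reg x) : Nat.card (Ct x) = Fintype.card F - 1 ∨ Nat.card (Ct x) = Fintype.card F + 1 := by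
  rcases hx.cases with ⟨a, b, hab, ht, hd⟩ | h
  · exact Or.inl (card_centSL_split hab ht hd)
  · exact Or.inr (card_centSL_ne h)

theorem sylow_main {l : ℕ} [Fact l.Prime] (hl2 : l ≠ 2) (hl : l ∣ Fintype.card F - 1 ∨ l ∣ Fintype.card F + 1) (P : Sylow l SL(2, F)) :
    ∃ x : SL(2, F), Reg x ∧ Subgroup.centralizer ((P : Subgroup SL(2, F)) : Set SL(2, F)) = Ct x ∧
      Subgroup.normalizer ((P : Subgroup SL(2, F)) : Set SL(2, F)) = Subgroup.normalizer (Ct x : Set SL(2, F)) ∧ l ∣ Nat.card (Ct x) := by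
  have hq : 1 < Fintype.card F := Fintype.one_lt_card
  obtain ⟨p, hp⟩ := CharP.exists F
  haveI := hp
  haveI : Fact p.Prime := ⟨(CharP.char_is_prime F p)⟩
  have hpq : p ∣ Fintype.card F := by
    obtain ⟨n, _, hn⟩ := FiniteField.card F p
    rw [hn]; exact dvd_pow_self p n.ne_zero
  have hl1 : l.Prime := Fact.out
  have hlp : l ≠ p := by
    rintro rfl
    rcases hl with h | h
    · have h1 := (Nat.dvd_sub hpq h)
      rw [Nat.sub_sub_self hq.le] at h1
      exact hl1.one_lt.ne' (Nat.dvd_one.mp h1)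
    · have h1 := (Nat.dvd_sub h hpq)
      rw [Nat.add_sub_cancel_left] at h1
      exact hl1.one_lt.ne' (Nat.dvd_one.mp h1)
  have hG : l ∣ Nat.card SL(2, F) := by
    rw [SL2.card_SL2]
    rcases hl with h | h
    · exact Dvd.dvd.mul_right (Dvd.dvd.mul_left h _) _
    · exact Dvd.dvd.mul_left h _
  obtain ⟨x, hxP, hxo, hxc⟩ := exists_central P hG
  have hreg := reg_of_order hl1 hl2 hlp hxo
  refine ⟨x, hreg, centralizer_eq hreg hxP hxc, normalizer_eq hreg hxP hxc, ?_⟩
  rw [← hxo]
  exact (Subgroup.orderOf_dvd_natCard _ (self_mem x))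

end Cfsg.Agent.Lib.Tor
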