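import Mathlib
import Cfsg.Agent.Lib.Tor6

/-! Products of two conjugates in `PSL_2(q)`. -/

set_option linter.all false
set_option maxHeartbeats 400000

namespace Cfsg.Agent.Lib.Tor

open Matrix Module Cfsg Cfsg.Agent.Lib.Tw
open scoped MatrixGroups

variable {F : Type*} [Field F]

theorem exists_factor {g : SL(2, F)} (hg : NS (g : Matrix (Fin 2) (Fin 2) F)) {t τ X Z : F}
    (h : X ^ 2 + (g : Matrix (Fin 2) (Fin 2) F).trace * X * Z + Z ^ 2 - t * X - τ * Z + 1 = 0) :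
    ∃ A : SL(2, F), (A : Matrix (Fin 2) (Fin 2) F).trace = t ∧ ((A⁻¹ * g : SL(2, F)) : Matrix (Fin 2) (Fin 2) F).trace = τ := by
  set s := (g : Matrix (Fin 2) (Fin 2) F).trace with hs
  obtain ⟨P, hP⟩ := exists_sim (ns_cmp s 1) hg (trace_cmp s 1) ((det_cmp s 1).trans g.det_coe.symm)
  have hPu : (P : Matrix (Fin 2) (Fin 2) F) * ((P⁻¹ : GL (Fin 2) F) : Matrix (Fin 2) (Fin 2) F) = 1 := P.mul_inv
  let A0 : Matrix (Fin 2) (Fin 2) F := !![X, Z + s * X - τ; Z, t - X]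
  have hdet0 : A0.det = 1 := by
    rw [Matrix.det_fin_two_of]; linear_combination -h
  let M : Matrix (Fin 2) (Fin 2) F := ((P⁻¹ : GL (Fin 2) F) : Matrix (Fin 2) (Fin 2) F) * A0 * (P : Matrix (Fin 2) (Fin 2) F)
  have hMdet : M.det = 1 := by
    show (_ * _ * _ : Matrix (Fin 2) (Fin 2) F).det = 1
    rw [Matrix.det_mul, Matrix.det_mul, hdet0, mul_one, mul_comm, ← Matrix.det_mul, hPu, Matrix.det_one]
  have hMtr : M.trace = t := by
    show (_ * _ * _ : Matrix (Fin 2) (Fin 2) F).trace = t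
    rw [Matrix.trace_mul_comm, ← mul_assoc, hPu, one_mul, Matrix.trace_fin_two_of]; ring
  let A : SL(2, F) := ⟨M, hMdet⟩
  have hA : (A : Matrix (Fin 2) (Fin 2) F) = M := rfl
  have hAtr : (A : Matrix (Fin 2) (Fin 2) F).trace = t := by rw [hA, hMtr]
  refine ⟨A, hAtr, ?_⟩
  have h1 : (M * (g : Matrix (Fin 2) (Fin 2) F)).trace = t * s - τ := by
    show (_ * _ * _ * (g : Matrix (Fin 2) (Fin 2) F)).trace = _
    rw [mul_assoc, ← hP, ← mul_assoc, Matrix.trace_mul_comm, ← mul_assoc, ← mul_assoc, hPu, one_mul, Tw.cmp, Matrix.mul_fin_two, Matrix.trace_fin_two_of]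
    ring
  rw [Matrix.SpecialLinearGroup.coe_mul, inv_form, hAtr, hA, sub_mul, smul_mul_assoc, one_mul, Matrix.trace_sub, Matrix.trace_smul, h1, ← hs, smul_eq_mul]
  ring

variable [Fintype F]

/-- sufficient condition -/
theorem prod_of_sol {x g : SL(2, F)} (hx : Reg x) (hg : NS (g : Matrix (Fin 2) (Fin 2) F)) {τ X Z : F}
    (hτ : τ = (x : Matrix (Fin 2) (Fin 2) F).trace ∨ τ = -(x : Matrix (Fin 2) (Fin 2) F).trace)
    (h : X ^ 2 + (g : Matrix (Fin 2) (Fin 2) F).trace * X * Z + Z ^ 2 - (x : Matrix (Fin 2) (Fin 2) F).trace * X - τ * Z + 1 = 0) :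
    ∃ u v : Matrix.ProjectiveSpecialLinearGroup (Fin 2) F, mk F g = (u * mk F x * u⁻¹) * (v * mk F x * v⁻¹) := by
  obtain ⟨A, h1, h2⟩ := exists_factor hg h
  have hrA : Reg A := by unfold Reg; rw [h1]; exact hx
  obtain ⟨n, hn⟩ := reg_conj hx hrA.ns h1.symm
  have hrB : Reg (A⁻¹ * g) := by
    unfold Reg
    rw [h2]
    rcases hτ with rfl | rfl
    · exact hx
    · rw [neg_sq]; exact hx
  have hB : ∃ m : SL(2, F), mk F (A⁻¹ * g) = mk F (m * x * m⁻¹) := by
    rcases hτ with rfl | rfl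
    · obtain ⟨m, hm⟩ := reg_conj hx hrB.ns h2.symm
      exact ⟨m, by rw [hm]⟩
    · have h3 : Reg (-(A⁻¹ * g)) := by
        unfold Reg; rw [trace_neg, neg_sq]; exact hrB
      obtain ⟨m, hm⟩ := reg_conj hx h3.ns (by rw [trace_neg, h2, neg_neg])
      exact ⟨m, by rw [hm, mk_neg]⟩
  obtain ⟨m, hm⟩ := hB
  refine ⟨mk F n, mk F m, ?_⟩
  rw [← map_inv, ← map_inv, ← map_mul, ← map_mul, ← map_mul (mk F) m x, ← map_mul (mk F) (m * x) m⁻¹, hn, ← hm, ← map_mul, mul_inv_cancel_left]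

theorem prod_sq {x g : SL(2, F)} (hx0 : (x : Matrix (Fin 2) (Fin 2) F).trace ≠ 0) (hx : Reg x) (hg : NS (g : Matrix (Fin 2) (Fin 2) F))
    (h : (g : Matrix (Fin 2) (Fin 2) F).trace = (x : Matrix (Fin 2) (Fin 2) F).trace ^ 2 - 2) :
    ∃ u v : Matrix.ProjectiveSpecialLinearGroup (Fin 2) F, mk F g = (u * mk F x * u⁻¹) * (v * mk F x * v⁻¹) := by
  have hx2 : ((x * x : SL(2, F)) : Matrix (Fin 2) (Fin 2) F).trace = (x : Matrix (Fin 2) (Fin 2) F).trace ^ 2 - 2 := by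
    have hd := x.det_coe
    rw [Matrix.det_fin_two] at hd
    rw [Matrix.SpecialLinearGroup.coe_mul, Matrix.trace_fin_two, Matrix.trace_fin_two, Matrix.mul_apply, Matrix.mul_apply, Fin.sum_univ_two, Fin.sum_univ_two]
    linear_combination -2 * hd
  have hr : Reg (x * x) := by
    unfold Reg
    rw [hx2]
    intro h4
    have h5 : (x : Matrix (Fin 2) (Fin 2) F).trace ^ 2 * ((x : Matrix (Fin 2) (Fin 2) F).trace ^ 2 - 4) = 0 := by linear_combination h4
    rcases mul_eq_zero.mp h5 with h6 | h6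
    · exact hx0 (pow_eq_zero_iff two_ne_zero |>.mp h6)
    · exact hx (sub_eq_zero.mp h6)
  obtain ⟨n, hn⟩ := reg_conj hr hg (hx2.trans h.symm)
  refine ⟨mk F n, mk F n, ?_⟩
  rw [← hn, ← map_inv, ← map_mul, ← map_mul, ← map_mul]
  congr 1
  group

theorem prod_gen {x g : SL(2, F)} (hx0 : (x : Matrix (Fin 2) (Fin 2) F).trace ≠ 0) (hx : Reg x) (hg : Reg g) :
    ∃ u v : Matrix.ProjectiveSpecialLinearGroup (Fin 2) F, mk F g = (u * mk F x * u⁻¹) * (v * mk F x * v⁻¹) := by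
  by_cases h : (g : Matrix (Fin 2) (Fin 2) F).trace = (x : Matrix (Fin 2) (Fin 2) F).trace ^ 2 - 2
  · exact prod_sq hx0 hx hg.ns h
  · set t := (x : Matrix (Fin 2) (Fin 2) F).trace with ht
    set s := (g : Matrix (Fin 2) (Fin 2) F).trace with hs
    have h2s : 2 + s ≠ 0 := by
      intro h2
      apply hg
      rw [← hs]
      linear_combination (s - 2) * h2
    obtain ⟨⟨u, v⟩, huv⟩ := hg.un ((t ^ 2 - 2 - s) / (2 + s)) (div_ne_zero (fun h3 => h (by linear_combination -h3)) h2s)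
    unfold bf at huv
    simp only at huv
    rw [← hs] at huv
    refine prod_of_sol hx hg.ns (τ := t) (X := t / (2 + s) + u) (Z := t / (2 + s) + v) (Or.inl ht) ?_
    rw [← ht, ← hs]
    have e : (t / (2 + s) + u) ^ 2 + s * (t / (2 + s) + u) * (t / (2 + s) + v) + (t / (2 + s) + v) ^ 2 - t * (t / (2 + s) + u) - t * (t / (2 + s) + v) + 1 =
        (u ^ 2 + s * u * v + v ^ 2) + 1 - t ^ 2 / (2 + s) := by
      field_simp
      ring
    rw [e]
    have : u ^ 2 + s * u * v + v ^ 2 = (t ^ 2 - 2 - s) / (2 + s) := by rw [← huv]; ring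
    rw [this]
    field_simp
    ring

theorem prod_par (h2 : (2 : F) ≠ 0) {x g : SL(2, F)} (hx0 : (x : Matrix (Fin 2) (Fin 2) F).trace ≠ 0) (hx : Reg x) (hg : NS (g : Matrix (Fin 2) (Fin 2) F))
    (hgt : (g : Matrix (Fin 2) (Fin 2) F).trace ^ 2 = 4) :
    ∃ u v : Matrix.ProjectiveSpecialLinearGroup (Fin 2) F, mk F g = (u * mk F x * u⁻¹) * (v * mk F x * v⁻¹) := by
  have h3 : ((g : Matrix (Fin 2) (Fin 2) F).trace - 2) * ((g : Matrix (Fin 2) (Fin 2) F).trace + 2) = 0 := by linear_combination hgt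
  rcases mul_eq_zero.mp h3 with h4 | h4
  · have h5 : (g : Matrix (Fin 2) (Fin 2) F).trace = 2 := sub_eq_zero.mp h4
    refine prod_of_sol hx hg (τ := -(x : Matrix (Fin 2) (Fin 2) F).trace) (X := 1 / (2 * (x : Matrix (Fin 2) (Fin 2) F).trace))
      (Z := -1 / (2 * (x : Matrix (Fin 2) (Fin 2) F).trace)) (Or.inr rfl) ?_
    rw [h5]
    field_simp
    ring
  · have h5 : (g : Matrix (Fin 2) (Fin 2) F).trace = -2 := eq_neg_of_add_eq_zero_left h4
    refine prod_of_sol hx hg (τ := (x : Matrix (Fin 2) (Fin 2) F).trace) (X := 1 / (2 * (x : Matrix (Fin 2) (Fin 2) F).trace))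
      (Z := 1 / (2 * (x : Matrix (Fin 2) (Fin 2) F).trace)) (Or.inl rfl) ?_
    rw [h5]
    field_simp
    ring

theorem prod_par_two (h2 : (2 : F) = 0) {x g : SL(2, F)} {a b : F} (hab : a ≠ b) (ht : (x : Matrix (Fin 2) (Fin 2) F).trace = a + b) (hd : a * b = 1)
    (hg : NS (g : Matrix (Fin 2) (Fin 2) F)) (hgt : (g : Matrix (Fin 2) (Fin 2) F).trace = 0) :
    ∃ u v : Matrix.ProjectiveSpecialLinearGroup (Fin 2) F, mk F g = (u * mk F x * u⁻¹) * (v * mk F x * v⁻¹) := by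
  refine prod_of_sol (reg_of_split hab ht hd) hg (τ := (x : Matrix (Fin 2) (Fin 2) F).trace) (X := a) (Z := 0) (Or.inl rfl) ?_
  rw [hgt, ht]
  linear_combination -hd

/-- facts about elements of small order -/
theorem mk_sq_of_trace {g : SL(2, F)} (h : (g : Matrix (Fin 2) (Fin 2) F).trace = 0) : mk F g ^ 2 = 1 := by
  have h3 := inv_form g
  rw [h, zero_smul, zero_sub] at h3
  have h4 : g⁻¹ = -g := Subtype.ext h3
  rw [pow_two, ← map_mul, mk_eq_one]
  right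
  have : g * g⁻¹ = 1 := mul_inv_cancel g
  rw [h4, mul_neg] at this
  rw [← neg_neg (g * g), this]

theorem mk_pow_p {p : ℕ} [Fact p.Prime] [CharP F p] {g : SL(2, F)} (h : ¬ Reg g) : mk F g ^ p = 1 := by
  unfold Reg at h
  push Not at h
  have h1 : ((g : Matrix (Fin 2) (Fin 2) F).trace - (1 + 1)) * ((g : Matrix (Fin 2) (Fin 2) F).trace + (1 + 1)) = 0 := by linear_combination h
  rcases mul_eq_zero.mp h1 with h2 | h2
  · rw [← map_pow, mk_eq_one]
    left
    apply Subtype.ext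
    rw [Matrix.SpecialLinearGroup.coe_pow, pow_p_of_trace (sub_eq_zero.mp h2) g.det_coe]
    rfl
  · rw [← mk_neg, ← map_pow, mk_eq_one]
    left
    apply Subtype.ext
    rw [Matrix.SpecialLinearGroup.coe_pow, pow_p_of_trace (by rw [trace_neg]; linear_combination -h2) (-g).det_coe]
    rfl

end Cfsg.Agent.Lib.Tor
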