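import Mathlib
import Cfsg.Agent.Lib.Tor7

/-! Class sizes and element orders of `PSL_2(q)`. -/

set_option linter.all false
set_option maxHeartbeats 400000

namespace Cfsg.Agent.Lib.Tor

open Matrix Module Cfsg Cfsg.Agent.Lib.Tw
open scoped MatrixGroups

variable {F : Type*} [Field F]

theorem reg_of_ne' {A : SL(2, F)} (hA : NE (A : Matrix (Fin 2) (Fin 2) F)) : Reg A := by
  intro h
  have h3 : ((A : Matrix (Fin 2) (Fin 2) F).trace - 2) * ((A : Matrix (Fin 2) (Fin 2) F).trace + 2) = 0 := by linear_combination h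
  have h1 := ne_iff.mp hA
  rw [A.det_coe] at h1
  rcases mul_eq_zero.mp h3 with h4 | h4
  · apply h1 1; linear_combination -h4
  · apply h1 (-1); linear_combination h4

theorem reg_of_mem {A h : SL(2, F)} (hA : Reg A) (hh : h ∈ Ct A) (hn : NS (h : Matrix (Fin 2) (Fin 2) F)) : Reg h := by
  obtain ⟨x, y, hxy⟩ := (mem_Ct hA.ns).mp hh
  have hd := det_form (A : Matrix (Fin 2) (Fin 2) F) x y
  rw [← hxy, h.det_coe, A.det_coe] at hd
  unfold bf at hd
  simp only at hd
  intro h4
  rw [hxy, trace_form] at h4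
  have hy : y ^ 2 * ((A : Matrix (Fin 2) (Fin 2) F).trace ^ 2 - 4) = 0 := by linear_combination h4 + 4 * hd
  rcases mul_eq_zero.mp hy with h5 | h5
  · have hy0 : y = 0 := pow_eq_zero_iff two_ne_zero |>.mp h5
    rw [hy0, zero_smul, add_zero] at hxy
    exact (ns_iff.mp hn x) hxy
  · exact hA (sub_eq_zero.mp h5)

/-- preimage of a centralizer -/
def Ch (G : SL(2, F)) : Subgroup SL(2, F) := (Subgroup.centralizer ({mk F G} : Set (Matrix.ProjectiveSpecialLinearGroup (Fin 2) F))).comap (mk F)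

theorem mem_Ch {G n : SL(2, F)} : n ∈ Ch G ↔ n * G * n⁻¹ = G ∨ n * G * n⁻¹ = -G := by
  unfold Ch
  rw [Subgroup.mem_comap, Subgroup.mem_centralizer_singleton_iff, ← mul_inv_eq_iff_eq_mul, ← map_inv, ← map_mul, ← map_mul, eq_comm, mk_eq_iff]

theorem index_Ch (G : SL(2, F)) : (Subgroup.centralizer ({mk F G} : Set (Matrix.ProjectiveSpecialLinearGroup (Fin 2) F))).index = (Ch G).index :=
  (Subgroup.index_comap_of_surjective _ mk_surj).symm

theorem Ch_eq_Ct {G : SL(2, F)} (h : (G : Matrix (Fin 2) (Fin 2) F).trace ≠ 0 ∨ (2 : F) = 0) : Ch G = Ct G := by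
  ext n
  rw [mem_Ch, Subgroup.mem_centralizer_singleton_iff, ← mul_inv_eq_iff_eq_mul]
  constructor
  · rintro (h1 | h1)
    · exact h1
    · have h2 := trace_conj G n
      rw [h1, trace_neg] at h2
      have h3 : (2 : F) * (G : Matrix (Fin 2) (Fin 2) F).trace = 0 := by linear_combination -h2
      have h4 : (2 : F) = 0 := by
        rcases mul_eq_zero.mp h3 with h5 | h5
        · exact h5
        · rcases h with h | h
          · exact absurd h5 h
          · exact h
      rw [h1]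
      apply Subtype.ext
      rw [Matrix.SpecialLinearGroup.coe_neg]
      ext i j
      rw [Matrix.neg_apply]
      linear_combination -(G : Matrix (Fin 2) (Fin 2) F) i j * h4
  · exact fun h1 => Or.inl h1

theorem Ch_eq_norm {G : SL(2, F)} (h2 : (2 : F) ≠ 0) (h : (G : Matrix (Fin 2) (Fin 2) F).trace = 0) :
    Reg G ∧ Ch G = Subgroup.normalizer (Ct G : Set SL(2, F)) := by
  have hr : Reg G := by
    intro h3
    rw [h] at h3
    apply h2
    have : (2 : F) * 2 = 0 := by linear_combination -h3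
    exact mul_self_eq_zero.mp this
  refine ⟨hr, ?_⟩
  have h3 := inv_form G
  rw [h, zero_smul, zero_sub] at h3
  have h4 : G⁻¹ = -G := Subtype.ext h3
  ext n
  rw [mem_Ch, mem_norm_iff hr, h4]

theorem Ch_top {G : SL(2, F)} (h : G = 1 ∨ G = -1) : Ch G = ⊤ := by
  rw [eq_top_iff]
  intro n _
  rw [mem_Ch]
  left
  rcases h with rfl | rfl
  · group
  · rw [mul_neg, mul_one, neg_mul, mul_inv_cancel]

section fin
variable [Fintype F]

theorem index_of_card {H : Subgroup SL(2, F)} {a b : ℕ} (hH : Nat.card H = a) (hab : a * b = Fintype.card F * (Fintype.card F - 1) * (Fintype.card F + 1)) (ha : 0 < a) :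
    H.index = b := by
  have h := H.card_mul_index
  rw [hH, SL2.card_SL2, ← hab] at h
  exact Nat.eq_of_mul_eq_mul_left ha h

theorem exists_split (h4 : 4 ≤ Fintype.card F) : ∃ A : SL(2, F), Reg A ∧ Nat.card (Ct A) = Fintype.card F - 1 := by
  classical
  obtain ⟨a, ha⟩ : ∃ a : Fˣ, (a : F) ≠ ((a⁻¹ : Fˣ) : F) := by
    by_contra hcon
    push Not at hcon
    have h1 : ∀ a : F, a ∈ (({0, 1, -1} : Finset F)) := by
      intro a
      by_cases h0 : a = 0
      · rw [h0]; simp
      · have h2 := hcon (Units.mk0 a h0)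
        have h3 : a * a = 1 := by
          have h4 := (Units.mk0 a h0).mul_inv
          rw [← h2] at h4
          exact h4
        rcases mul_self_eq_one_iff.mp h3 with h4 | h4 <;> rw [h4] <;> simp
    have h2 : Fintype.card F ≤ 3 := by
      rw [← Finset.card_univ]
      exact (Finset.card_le_card (fun a _ => h1 a)).trans Finset.card_le_three
    omega
  refine ⟨SL2.bMk a 0, ?_, ?_⟩
  · exact reg_of_split ha (by rw [SL2.bMk_coe, Matrix.trace_fin_two_of]) a.mul_inv
  · exact card_centSL_split ha (by rw [SL2.bMk_coe, Matrix.trace_fin_two_of]) a.mul_inv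

theorem exists_nonsplit : ∃ A : SL(2, F), Reg A ∧ Nat.card (Ct A) = Fintype.card F + 1 := by
  obtain ⟨t, ht⟩ := exists_ne_trace F
  exact ⟨cmpS t, reg_of_ne' (ne_cmpS ht), card_centSL_ne (ne_cmpS ht)⟩

/-- an element with nonzero trace in a large torus -/
theorem exists_trace_ne {A : SL(2, F)} (hA : Reg A) (h5 : 5 ≤ Nat.card (Ct A)) : ∃ B : SL(2, F), Reg B ∧ Nat.card (Ct B) = Nat.card (Ct A) ∧ (B : Matrix (Fin 2) (Fin 2) F).trace ≠ 0 := by
  haveI := Ct_cyclic hA
  obtain ⟨g, hg⟩ := IsCyclic.exists_ofOrder_eq_natCard (α := Ct A)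
  have hg' : orderOf (g : SL(2, F)) = Nat.card (Ct A) := by rw [Subgroup.orderOf_coe, hg]
  have hns : NS ((g : SL(2, F)) : Matrix (Fin 2) (Fin 2) F) := by
    apply ns_of_ne
    · intro h; rw [h, orderOf_one] at hg'; omega
    · intro h
      have : ((-1 : SL(2, F))) ^ 2 = 1 := by rw [neg_one_sq]
      rw [← h] at this
      have := Nat.le_of_dvd (by norm_num) (orderOf_dvd_of_pow_eq_one this)
      omega
  refine ⟨g, reg_of_mem hA g.2 hns, by rw [Ct_eq hA.ns g.2 hns], ?_⟩
  intro h
  have h3 := inv_form (g : SL(2, F))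
  rw [h, zero_smul, zero_sub] at h3
  have h4 : (g : SL(2, F))⁻¹ = -g := Subtype.ext h3
  have h6 : (g : SL(2, F)) ^ 4 = 1 := by
    have h7 : (g : SL(2, F)) * (g : SL(2, F))⁻¹ = 1 := mul_inv_cancel _
    rw [h4, mul_neg] at h7
    have h8 : (g : SL(2, F)) * g = -1 := by rw [← neg_neg ((g : SL(2, F)) * g), h7]
    rw [show 4 = 2 + 2 from rfl, pow_add, pow_two, h8, neg_mul_neg, one_mul]
  have := Nat.le_of_dvd (by norm_num) (orderOf_dvd_of_pow_eq_one h6)
  omega

end fin

end Cfsg.Agent.Lib.Tor
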