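import Mathlib
import Cfsg.Agent.Lib.Tor8

/-! Element orders of `PSL_2(q)`. -/

set_option linter.all false
set_option maxHeartbeats 400000

namespace Cfsg.Agent.Lib.Tor

open Matrix Module Cfsg Cfsg.Agent.Lib.Tw
open scoped MatrixGroups

variable {F : Type*} [Field F] [Fintype F]

omit [Fintype F] in
theorem neg_one_mem_Ct (A : SL(2, F)) : (-1 : SL(2, F)) ∈ Ct A := by
  rw [Subgroup.mem_centralizer_singleton_iff, neg_mul, mul_neg, one_mul, mul_one]

/-- the projection of the torus -/
def fT (A : SL(2, F)) : Ct A →* Matrix.ProjectiveSpecialLinearGroup (Fin 2) F := (mk F).comp (Ct A).subtype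

theorem card_ker_odd (h2 : (2 : F) ≠ 0) (A : SL(2, F)) : Nat.card (fT A).ker = 2 := by
  refine Eq.trans ?_ (card_invol h2 A)
  refine Nat.card_congr (Equiv.subtypeEquivRight fun t => ?_)
  rw [MonoidHom.mem_ker]
  have h1 : fT A t = 1 ↔ (t : SL(2, F)) = 1 ∨ (t : SL(2, F)) = -1 := mk_eq_one
  rw [h1, ← sq_eq_one h2]
  exact ⟨fun h => Subtype.ext h, fun h => congrArg Subtype.val h⟩

theorem card_ker_even (h2 : (2 : F) = 0) (A : SL(2, F)) : Nat.card (fT A).ker = 1 := by
  rw [Subgroup.card_eq_one, eq_bot_iff]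
  intro t ht
  rw [MonoidHom.mem_ker] at ht
  have h1 : (t : SL(2, F)) = 1 ∨ (t : SL(2, F)) = -1 := mk_eq_one.mp ht
  have h3 : (-1 : SL(2, F)) = 1 := by
    apply Subtype.ext
    rw [Matrix.SpecialLinearGroup.coe_neg]
    ext i j
    rw [Matrix.neg_apply]
    linear_combination -((1 : SL(2, F)) : Matrix (Fin 2) (Fin 2) F) i j * h2
  rw [h3, or_self] at h1
  exact Subgroup.mem_bot.mpr (Subtype.ext h1)

theorem card_range (A : SL(2, F)) : Nat.card (fT A).ker * Nat.card (fT A).range = Nat.card (Ct A) := by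
  rw [← Nat.card_congr (QuotientGroup.quotientKerEquivRange (fT A)).toEquiv, mul_comm]
  exact (Subgroup.card_eq_card_quotient_mul_card_subgroup _).symm

theorem card_range_eq {A : SL(2, F)} {n d : ℕ} (hd : d = Nat.gcd 2 (Fintype.card F - 1)) (hn : Nat.card (Ct A) = n) : Nat.card (fT A).range = n / d := by
  have h1 := card_range A
  have hq : 1 < Fintype.card F := Fintype.one_lt_card
  by_cases h2 : (2 : F) = 0
  · rw [card_ker_even h2, one_mul] at h1
    have hd1 : d = 1 := by
      rw [hd]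
      obtain ⟨p, hp⟩ := CharP.exists F
      haveI := hp
      obtain ⟨m, hpr, hm⟩ := FiniteField.card F p
      have hp2 : p = 2 := by
        have h3 : ((2 : ℕ) : F) = 0 := by exact_mod_cast h2
        rw [CharP.cast_eq_zero_iff F p] at h3
        exact (Nat.prime_dvd_prime_iff_eq hpr Nat.prime_two).mp h3
      have he : Even (Fintype.card F) := by
        rw [hm, hp2]
        exact (Nat.even_pow.mpr ⟨even_two, m.ne_zero⟩)
      have ho : ¬ 2 ∣ Fintype.card F - 1 := by
        obtain ⟨k, hk⟩ := he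
        omega
      exact (Nat.Prime.coprime_iff_not_dvd Nat.prime_two).mpr ho
    rw [hd1, Nat.div_one, h1, hn]
  · rw [card_ker_odd h2] at h1
    have hd2 : d = 2 := by
      rw [hd]
      have ho : 2 ∣ Fintype.card F - 1 := by
        by_contra hcon
        have he : Even (Fintype.card F) := ⟨Fintype.card F / 2, by omega⟩
        obtain ⟨p, hp⟩ := CharP.exists F
        haveI := hp
        obtain ⟨m, hpr, hm⟩ := FiniteField.card F p
        have h5 : (2 : ℕ) ∣ p := Nat.Prime.dvd_of_dvd_pow (n := m) Nat.prime_two (by rw [← hm]; exact he.two_dvd)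
        have h6 := (Nat.prime_dvd_prime_iff_eq Nat.prime_two hpr).mp h5
        subst h6
        exact h2 (by exact_mod_cast CharP.cast_eq_zero F 2)
      exact Nat.gcd_eq_left ho
    rw [hd2, ← hn]
    omega

theorem order_dvd {A : SL(2, F)} {n : ℕ} (hn : Nat.card (Ct A) = n) : orderOf (mk F A) ∣ n / Nat.gcd 2 (Fintype.card F - 1) := by
  rw [← card_range_eq rfl hn]
  have h1 : mk F A ∈ (fT A).range := ⟨⟨A, self_mem A⟩, rfl⟩
  exact Subgroup.orderOf_dvd_natCard _ h1

theorem exists_order {A : SL(2, F)} (hA : Reg A) {n m : ℕ} (hn : Nat.card (Ct A) = n) (hm : m ∣ n / Nat.gcd 2 (Fintype.card F - 1)) :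
    ∃ g : Matrix.ProjectiveSpecialLinearGroup (Fin 2) F, orderOf g = m := by
  haveI := Ct_cyclic hA
  haveI : IsCyclic (fT A).range := isCyclic_of_surjective (fT A).rangeRestrict (fT A).rangeRestrict_surjective
  obtain ⟨g, hg⟩ := IsCyclic.exists_ofOrder_eq_natCard (α := (fT A).range)
  rw [card_range_eq rfl hn] at hg
  have hpos : 0 < n / Nat.gcd 2 (Fintype.card F - 1) := by
    rw [← card_range_eq rfl hn]; exact Nat.card_pos
  obtain ⟨k, hk⟩ := hm
  have hk0 : k ≠ 0 := by rintro rfl; rw [mul_zero] at hk; omega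
  refine ⟨((g ^ k : (fT A).range) : Matrix.ProjectiveSpecialLinearGroup (Fin 2) F), ?_⟩
  rw [Subgroup.orderOf_coe, orderOf_pow_of_dvd hk0 (by rw [hg, hk]; exact Dvd.intro_left m rfl), hg, hk, Nat.mul_div_cancel _ (Nat.pos_of_ne_zero hk0)]

theorem spectrum (p : ℕ) [Fact p.Prime] [CharP F p] (h4 : 4 ≤ Fintype.card F) :
    Set.range (orderOf : Matrix.ProjectiveSpecialLinearGroup (Fin 2) F → ℕ) =
      {m : ℕ | m ∣ p ∨ m ∣ (Fintype.card F - 1) / Nat.gcd 2 (Fintype.card F - 1) ∨ m ∣ (Fintype.card F + 1) / Nat.gcd 2 (Fintype.card F - 1)} := by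
  ext m
  rw [Set.mem_range, Set.mem_setOf_eq]
  constructor
  · rintro ⟨g, rfl⟩
    obtain ⟨G, rfl⟩ := mk_surj g
    by_cases hr : Reg G
    · rcases card_Ct hr with h | h
      · exact Or.inr (Or.inl (order_dvd h))
      · exact Or.inr (Or.inr (order_dvd h))
    · exact Or.inl (orderOf_dvd_of_pow_eq_one (mk_pow_p hr))
  · rintro (h | h | h)
    · rcases (Nat.dvd_prime Fact.out).mp h with rfl | rfl
      · exact ⟨1, orderOf_one⟩
      · refine ⟨mk F (SL2.t 1), orderOf_eq_prime (mk_pow_p ?_) ?_⟩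
        · unfold Reg
          push Not
          rw [SL2.t_coe, Matrix.trace_fin_two_of]; norm_num
        · rw [Ne, mk_eq_one]
          rintro (h1 | h1)
          · have := congrArg (fun g : SL(2, F) => (g : Matrix (Fin 2) (Fin 2) F) 0 1) h1
            simp at this
          · have := congrArg (fun g : SL(2, F) => (g : Matrix (Fin 2) (Fin 2) F) 0 1) h1
            simp at this
    · obtain ⟨A, hA, hc⟩ := exists_split h4
      exact exists_order hA hc h
    · obtain ⟨A, hA, hc⟩ := exists_nonsplit (F := F)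
      exact exists_order hA hc h

end Cfsg.Agent.Lib.Tor
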