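import Mathlib
import Cfsg.Agent.Lib.Tor9

/-! Sylow `2`-subgroups of `SL_2(q)`. -/

set_option linter.all false
set_option maxHeartbeats 400000

namespace Cfsg.Agent.Lib.Tor

open Matrix Module Cfsg Cfsg.Agent.Lib.Tw
open scoped MatrixGroups Pointwise

/-- order of Sylow subgroups -/
theorem card_sylow_of {G : Type*} [Group G] [Finite G] {e m : ℕ} (hG : Nat.card G = 2 ^ e * m) (hm : ¬ 2 ∣ m) (H : Sylow 2 G) : Nat.card H = 2 ^ e := by
  apply Nat.dvd_antisymm
  · obtain ⟨e', he⟩ := IsPGroup.iff_card.mp H.isPGroup'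
    have h1 : Nat.card H ∣ 2 ^ e * m := by
      rw [← hG]; exact Subgroup.card_subgroup_dvd_card (H : Subgroup G)
    have he' : Nat.card H = 2 ^ e' := he
    rw [he'] at h1 ⊢
    have hcop : Nat.Coprime (2 ^ e') m := Nat.Coprime.pow_left _ ((Nat.Prime.coprime_iff_not_dvd Nat.prime_two).mpr hm)
    exact hcop.dvd_of_dvd_mul_right h1
  · apply H.pow_dvd_card_of_pow_dvd_card
    rw [hG]
    exact Dvd.intro _ rfl

/-- three cosets -/
theorem tri_card {G : Type*} [Group G] [Finite G] {T N : Subgroup G} {g : G} (hg : g ∉ T) (hg2 : g * g ∉ T) (hmem : ∀ x, x ∈ N ↔ x ∈ T ∨ g⁻¹ * x ∈ T ∨ g * x ∈ T) :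
    Nat.card N = 3 * Nat.card T := by
  have e : T ⊕ (T ⊕ T) ≃ N := Equiv.ofBijective
    (Sum.elim (fun t => ⟨t.1, (hmem _).mpr (Or.inl t.2)⟩) (Sum.elim (fun t => ⟨g * t.1, (hmem _).mpr (Or.inr (Or.inl (by rw [inv_mul_cancel_left]; exact t.2)))⟩)
      (fun t => ⟨g⁻¹ * t.1, (hmem _).mpr (Or.inr (Or.inr (by rw [mul_inv_cancel_left]; exact t.2)))⟩))) (by
    constructor
    · apply Function.Injective.sumElim
      · intro a b h
        exact Subtype.ext (congrArg (fun x : N => x.1) h)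
      · apply Function.Injective.sumElim
        · intro a b h
          exact Subtype.ext (mul_left_cancel (congrArg (fun x : N => x.1) h))
        · intro a b h
          exact Subtype.ext (mul_left_cancel (congrArg (fun x : N => x.1) h))
        · intro a b h
          have h1 : g * a.1 = g⁻¹ * b.1 := congrArg (fun x : N => x.1) h
          apply hg2
          have : g * g = b.1 * a.1⁻¹ := by
            rw [eq_mul_inv_iff_mul_eq, mul_assoc, h1, mul_inv_cancel_left]
          rw [this]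
          exact T.mul_mem b.2 (T.inv_mem a.2)
      · rintro a (b | b) h
        · have h1 : a.1 = g * b.1 := congrArg (fun x : N => x.1) h
          apply hg
          have : g = a.1 * b.1⁻¹ := by rw [h1, mul_inv_cancel_right]
          rw [this]
          exact T.mul_mem a.2 (T.inv_mem b.2)
        · have h1 : a.1 = g⁻¹ * b.1 := congrArg (fun x : N => x.1) h
          apply hg
          have : g = b.1 * a.1⁻¹ := by rw [h1]; group
          rw [this]
          exact T.mul_mem b.2 (T.inv_mem a.2)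
    · rintro ⟨x, hx⟩
      rcases (hmem x).mp hx with h | h | h
      · exact ⟨Sum.inl ⟨x, h⟩, rfl⟩
      · exact ⟨Sum.inr (Sum.inl ⟨_, h⟩), Subtype.ext (mul_inv_cancel_left g x)⟩
      · exact ⟨Sum.inr (Sum.inr ⟨_, h⟩), Subtype.ext (inv_mul_cancel_left g x)⟩)
  rw [← Nat.card_congr e, Nat.card_sum, Nat.card_sum]
  ring

variable {F : Type*} [Field F] [Fintype F]

/-- the torus containing elements of trace zero -/
theorem card_Ct_zero (h2 : (2 : F) ≠ 0) {G : SL(2, F)} (hG : (G : Matrix (Fin 2) (Fin 2) F).trace = 0) :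
    (Fintype.card F % 4 = 1 → Nat.card (Ct G) = Fintype.card F - 1) ∧ (Fintype.card F % 4 = 3 → Nat.card (Ct G) = Fintype.card F + 1) := by
  constructor
  · intro hmod
    have hsq : IsSquare (-1 : F) := FiniteField.isSquare_neg_one_iff.mpr (by omega)
    obtain ⟨i, hi⟩ := hsq
    have hi0 : i ≠ -i := by
      intro h
      have h3 : (2 : F) * i = 0 := by linear_combination h
      rcases mul_eq_zero.mp h3 with h4 | h4
      · exact h2 h4
      · rw [h4, mul_zero] at hi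
        exact neg_ne_zero.mpr one_ne_zero hi
    exact card_centSL_split hi0 (by rw [hG]; ring) (by linear_combination hi)
  · intro hmod
    have hsq : ¬ IsSquare (-1 : F) := by
      rw [FiniteField.isSquare_neg_one_iff]
      omega
    refine card_centSL_ne (ne_iff.mpr (fun c hc => hsq ⟨c, ?_⟩))
    rw [hG, G.det_coe] at hc
    linear_combination -hc

/-- every Sylow 2-subgroup lies in the normalizer of a torus -/
theorem syl2_main (hodd : Odd (Fintype.card F)) (S : Sylow 2 SL(2, F)) : ∃ (A : SL(2, F)) (a r : ℕ), Reg A ∧ 2 ≤ a ∧ ¬ 2 ∣ r ∧ Nat.card (Ct A) = 2 ^ a * r ∧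
    Nat.card S = 2 ^ (a + 1) ∧ (S : Subgroup SL(2, F)) ≤ Subgroup.normalizer (Ct A : Set SL(2, F)) ∧
    ((Fintype.card F % 8 = 1 ∨ Fintype.card F % 8 = 7) → 3 ≤ a) ∧ ((Fintype.card F % 8 = 3 ∨ Fintype.card F % 8 = 5) → a = 2) := by
  have h2 := two_ne_zero_of_odd hodd
  have hq : 1 < Fintype.card F := Fintype.one_lt_card
  set A : SL(2, F) := cmpS 0 with hA
  have hA0 : (A : Matrix (Fin 2) (Fin 2) F).trace = 0 := trace_cmp 0 1
  have hr : Reg A := (Ch_eq_norm h2 hA0).1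
  -- the order of the torus
  obtain ⟨m, m', hm, hm', hmm⟩ : ∃ m m' : ℕ, Nat.card (Ct A) = m ∧ (m' = m + 2 ∨ m = m' + 2) ∧
      m * m' * Fintype.card F = Fintype.card F * (Fintype.card F - 1) * (Fintype.card F + 1) := by
    have h4 : Fintype.card F % 4 = 1 ∨ Fintype.card F % 4 = 3 := by
      obtain ⟨k, hk⟩ := hodd; omega
    rcases h4 with h4 | h4
    · exact ⟨_, Fintype.card F + 1, (card_Ct_zero h2 hA0).1 h4, Or.inl (by omega), by ring⟩
    · exact ⟨_, Fintype.card F - 1, (card_Ct_zero h2 hA0).2 h4, Or.inr (by omega), by ring⟩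
  have hm4 : 4 ∣ m := by
    have h4 : Fintype.card F % 4 = 1 ∨ Fintype.card F % 4 = 3 := by
      obtain ⟨k, hk⟩ := hodd; omega
    rcases h4 with h4 | h4
    · have := (card_Ct_zero h2 hA0).1 h4; omega
    · have := (card_Ct_zero h2 hA0).2 h4; omega
  have hmcases : m = Fintype.card F - 1 ∨ m = Fintype.card F + 1 := by
    rcases card_Ct hr with h | h <;> omega
  have hmpos : m ≠ 0 := by rw [← hm]; exact Nat.card_pos.ne'
  obtain ⟨a, r, hr2, har⟩ := Nat.exists_eq_two_pow_mul_odd hmpos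
  have hr' : ¬ 2 ∣ r := by
    intro h; obtain ⟨k, hk⟩ := hr2; omega
  have ha2 : 2 ≤ a := by
    by_contra hcon
    have : a = 0 ∨ a = 1 := by omega
    obtain ⟨k, hk⟩ := hr2
    rcases this with rfl | rfl
    · rw [pow_zero, one_mul] at har; omega
    · rw [pow_one] at har; omega
  -- order of the group
  obtain ⟨s, hs⟩ : ∃ s, m' = 2 * s := by
    rcases hm' with h | h
    · exact ⟨m' / 2, by omega⟩
    · exact ⟨m' / 2, by omega⟩
  have hs2 : ¬ 2 ∣ s := by
    intro h; rcases hm' with h' | h' <;> omega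
  have hG : Nat.card SL(2, F) = 2 ^ (a + 1) * (r * s * Fintype.card F) := by
    rw [SL2.card_SL2, ← hmm, har, hs]; ring
  have hodd3 : ¬ 2 ∣ r * s * Fintype.card F := by
    intro h
    rcases (Nat.Prime.dvd_mul Nat.prime_two).mp h with h1 | h1
    · rcases (Nat.Prime.dvd_mul Nat.prime_two).mp h1 with h1 | h1
      · exact hr' h1
      · exact hs2 h1
    · obtain ⟨k, hk⟩ := hodd; omega
  have hS := card_sylow_of hG hodd3 S
  -- a Sylow subgroup of the normalizer
  obtain ⟨Q⟩ : Nonempty (Sylow 2 (Subgroup.normalizer (Ct A : Set SL(2, F)))) := inferInstance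
  have hN : Nat.card (Subgroup.normalizer (Ct A : Set SL(2, F))) = 2 ^ (a + 1) * r := by
    rw [card_norm hr, hm, har]; ring
  have hQ := card_sylow_of hN hr' Q
  have hQp : IsPGroup 2 ((Q : Subgroup _).map (Subgroup.normalizer (Ct A : Set SL(2, F))).subtype) := Q.isPGroup'.map _
  obtain ⟨Q', hQ'⟩ := hQp.exists_le_sylow
  have hQc : Nat.card ((Q : Subgroup _).map (Subgroup.normalizer (Ct A : Set SL(2, F))).subtype) = 2 ^ (a + 1) := by
    refine Eq.trans ?_ hQ
    exact (Nat.card_congr (Subgroup.equivMapOfInjective (Q : Subgroup (Subgroup.normalizer (Ct A : Set SL(2, F)))) (Subgroup.normalizer (Ct A : Set SL(2, F))).subtype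
      (Subgroup.subtype_injective _)).toEquiv).symm
  have hQ'c := card_sylow_of hG hodd3 Q'
  have hQeq : (Q : Subgroup _).map (Subgroup.normalizer (Ct A : Set SL(2, F))).subtype = Q' := by
    apply Subgroup.eq_of_le_of_card_ge hQ'
    rw [hQc]; exact hQ'c.le
  obtain ⟨g, hg⟩ := MulAction.exists_smul_eq SL(2, F) Q' S
  have hQN : ∀ y ∈ (Q' : Subgroup SL(2, F)), y * A * y⁻¹ = A ∨ y * A * y⁻¹ = A⁻¹ := by
    intro y hy
    rw [← hQeq] at hy
    obtain ⟨z, _, rfl⟩ := Subgroup.mem_map.mp hy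
    exact (mem_norm_iff hr).mp z.2
  have hrg : Reg (g * A * g⁻¹) := by unfold Reg; rw [trace_conj]; exact hr
  have hcardg : Nat.card (Ct (g * A * g⁻¹)) = 2 ^ a * r := by
    have e1 : ∀ b, b ∈ Ct A ↔ g * b * g⁻¹ ∈ Ct (g * A * g⁻¹) := fun b => (Ct_conj A g b).symm
    rw [← har, ← hm]
    refine Nat.card_congr ⟨fun b => ⟨g⁻¹ * b.1 * g, ?_⟩, fun b => ⟨g * b.1 * g⁻¹, (e1 _).mp b.2⟩, fun b => Subtype.ext (by simp [mul_assoc]), fun b => Subtype.ext (by simp [mul_assoc])⟩
    rw [e1]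
    have : g * (g⁻¹ * b.1 * g) * g⁻¹ = b.1 := by group
    rw [this]; exact b.2
  refine ⟨g * A * g⁻¹, a, r, hrg, ha2, hr', hcardg, hS, ?_, ?_, ?_⟩
  · rw [← hg]
    intro x hx
    have hx' : x ∈ MulAut.conj g • (Q' : Subgroup SL(2, F)) := hx
    rw [Subgroup.mem_pointwise_smul_iff_inv_smul_mem] at hx'
    have h5 : g⁻¹ * x * g ∈ (Q' : Subgroup SL(2, F)) := by
      have e : (MulAut.conj g)⁻¹ • x = g⁻¹ * x * g := by
        rw [MulAut.smul_def, ← map_inv, MulAut.conj_apply, inv_inv]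
      rwa [e] at hx'
    rw [mem_norm_iff hrg]
    rcases hQN _ h5 with h6 | h6
    · left
      calc x * (g * A * g⁻¹) * x⁻¹ = g * ((g⁻¹ * x * g) * A * (g⁻¹ * x * g)⁻¹) * g⁻¹ := by group
        _ = g * A * g⁻¹ := by rw [h6]
    · right
      calc x * (g * A * g⁻¹) * x⁻¹ = g * ((g⁻¹ * x * g) * A * (g⁻¹ * x * g)⁻¹) * g⁻¹ := by group
        _ = g * A⁻¹ * g⁻¹ := by rw [h6]
        _ = _ := by group
  · intro h8
    by_contra hcon
    have ha : a = 2 := by omega
    rw [ha] at har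
    obtain ⟨k, hk⟩ := hr2
    omega
  · intro h8
    by_contra hcon
    obtain ⟨b, rfl⟩ : ∃ b, a = b + 3 := ⟨a - 3, by omega⟩
    have : m = 8 * (2 ^ b * r) := by rw [har]; ring
    omega

section struct

variable {A : SL(2, F)} {a r : ℕ} {S : Subgroup SL(2, F)}

/-- the shape of the Sylow subgroup -/
theorem syl2_shape (hA : Reg A) (ha : 2 ≤ a) (hr : ¬ 2 ∣ r) (hc : Nat.card (Ct A) = 2 ^ a * r) (hS : Nat.card S = 2 ^ (a + 1))
    (hN : S ≤ Subgroup.normalizer (Ct A : Set SL(2, F))) :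
    ∃ n ∈ S, n * A * n⁻¹ = A⁻¹ ∧ (∀ s, s ∈ S ↔ s ∈ S ⊓ Ct A ∨ n⁻¹ * s ∈ S ⊓ Ct A) ∧ Nat.card (S ⊓ Ct A : Subgroup SL(2, F)) = 2 ^ a := by
  have hn : ∃ n ∈ S, n ∉ Ct A := by
    by_contra hcon
    push Not at hcon
    have h1 : S ≤ Ct A := hcon
    have h2 := Subgroup.card_dvd_of_le h1
    rw [hS, hc, pow_succ] at h2
    have h3 := Nat.dvd_of_mul_dvd_mul_left (by positivity : 0 < 2 ^ a) h2
    exact hr h3
  obtain ⟨n, hnS, hnA⟩ := hn
  have hn2 : n * A * n⁻¹ = A⁻¹ := by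
    rcases (mem_norm_iff hA).mp (hN hnS) with h | h
    · exact absurd (Subgroup.mem_centralizer_singleton_iff.mpr (mul_inv_eq_iff_eq_mul.mp h)) hnA
    · exact h
  have hmem : ∀ s, s ∈ S ↔ s ∈ S ⊓ Ct A ∨ n⁻¹ * s ∈ S ⊓ Ct A := by
    intro s
    constructor
    · intro hs
      rcases (mem_norm_iff' hA hn2 s).mp (hN hs) with h | h
      · exact Or.inl ⟨hs, h⟩
      · exact Or.inr ⟨S.mul_mem (S.inv_mem hnS) hs, h⟩
    · rintro (h | h)
      · exact h.1
      · have := S.mul_mem hnS h.1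
        rwa [mul_inv_cancel_left] at this
  refine ⟨n, hnS, hn2, hmem, ?_⟩
  have h1 := dic_card (T := S ⊓ Ct A) (N := S) (n := n) (fun h => hnA h.2) hmem
  rw [hS, pow_succ] at h1
  omega

/-- a generator of the cyclic part -/
theorem syl2_gen (hA : Reg A) (ha : 2 ≤ a) (hT : Nat.card (S ⊓ Ct A : Subgroup SL(2, F)) = 2 ^ a) :
    ∃ w ∈ S ⊓ Ct A, orderOf w = 2 ^ a ∧ Reg w ∧ Ct w = Ct A := by
  haveI := Ct_cyclic hA
  haveI : IsCyclic (S ⊓ Ct A : Subgroup SL(2, F)) :=
    isCyclic_of_injective (Subgroup.inclusion (inf_le_right : S ⊓ Ct A ≤ Ct A)) (Subgroup.inclusion_injective _)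
  obtain ⟨w, hw⟩ := IsCyclic.exists_ofOrder_eq_natCard (α := (S ⊓ Ct A : Subgroup SL(2, F)))
  have hw' : orderOf (w : SL(2, F)) = 2 ^ a := by rw [Subgroup.orderOf_coe, hw, hT]
  have h4 : 4 ≤ 2 ^ a := by
    calc 4 = 2 ^ 2 := by norm_num
      _ ≤ 2 ^ a := Nat.pow_le_pow_right (by norm_num) ha
  have hns : NS ((w : SL(2, F)) : Matrix (Fin 2) (Fin 2) F) := by
    apply ns_of_ne
    · intro h; rw [h, orderOf_one] at hw'; omega
    · intro h
      have h5 : ((-1 : SL(2, F))) ^ 2 = 1 := by rw [neg_one_sq]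
      rw [← h] at h5
      have := Nat.le_of_dvd (by norm_num) (orderOf_dvd_of_pow_eq_one h5)
      omega
  exact ⟨w, w.2, hw', reg_of_mem hA w.2.2 hns, Ct_eq hA.ns w.2.2 hns⟩

theorem syl2_cent (h2 : (2 : F) ≠ 0) (hA : Reg A) (ha : 2 ≤ a) (hr : ¬ 2 ∣ r) (hc : Nat.card (Ct A) = 2 ^ a * r) (hS : Nat.card S = 2 ^ (a + 1))
    (hN : S ≤ Subgroup.normalizer (Ct A : Set SL(2, F))) : Subgroup.centralizer (S : Set SL(2, F)) = Subgroup.center SL(2, F) := by
  obtain ⟨n, hnS, hn2, hmem, hT⟩ := syl2_shape hA ha hr hc hS hN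
  obtain ⟨w, hw, hwo, hwr, hwC⟩ := syl2_gen hA ha hT
  ext g
  constructor
  · intro hg
    have h1 := Subgroup.mem_centralizer_iff.mp hg w hw.1
    have h3 : g ∈ Ct A := by
      rw [← hwC]; exact Subgroup.mem_centralizer_singleton_iff.mpr h1.symm
    have h4 := inverts_all hA hn2 h3
    have h5 := Subgroup.mem_centralizer_iff.mp hg n hnS
    rw [h5, mul_inv_cancel_right] at h4
    have h6 : g * g = 1 := by
      nth_rewrite 2 [h4]; exact mul_inv_cancel g
    exact mem_center.mpr ((sq_eq_one h2).mp h6)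
  · intro hg
    rw [Subgroup.mem_centralizer_iff]
    intro s _
    exact (Subgroup.mem_center_iff.mp hg s)

/-- elements of the torus normalizing `S` -/
theorem syl2_torus (hA : Reg A) (ha : 2 ≤ a) (hr : ¬ 2 ∣ r) (hc : Nat.card (Ct A) = 2 ^ a * r) (hS : Nat.card S = 2 ^ (a + 1))
    (hN : S ≤ Subgroup.normalizer (Ct A : Set SL(2, F))) {g : SL(2, F)} (hg : g ∈ Subgroup.normalizer (S : Set SL(2, F)))
    (hg' : g ∈ Subgroup.normalizer (Ct A : Set SL(2, F))) : g ∈ S := by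
  obtain ⟨n, hnS, hn2, hmem, hT⟩ := syl2_shape hA ha hr hc hS hN
  have key : ∀ g, g ∈ Subgroup.normalizer (S : Set SL(2, F)) → g ∈ Ct A → g ∈ S := by
    intro g hg hgA
    have h1 : g * n * g⁻¹ ∈ S := (Subgroup.mem_normalizer_iff.mp hg n).mp hnS
    have h3 : n * g⁻¹ = g * n := by
      have := inverts_all hA hn2 ((Ct A).inv_mem hgA)
      rw [inv_inv] at this
      exact mul_inv_eq_iff_eq_mul.mp this
    have h4 : g * g ∈ S := by
      have e : g * g = (g * n * g⁻¹) * n⁻¹ := by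
        rw [mul_assoc g n, h3]; group
      rw [e]
      exact S.mul_mem h1 (S.inv_mem hnS)
    -- order argument
    have h5 : g ^ Nat.card (Ct A) = 1 := by
      have : (⟨g, hgA⟩ : Ct A) ^ Nat.card (Ct A) = 1 := pow_card_eq_one'
      exact congrArg Subtype.val this
    -- g ^ r is a 2-element
    have h6 : (g ^ r) ∈ S ⊓ Ct A := by
      haveI := Ct_cyclic hA
      have h7 : (g ^ r) ^ (2 ^ a) = 1 := by
        rw [← pow_mul, mul_comm, ← hc]; exact h5
      classical
      haveI : Fintype (Ct A) := Fintype.ofFinite _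
      let X : Finset (Ct A) := Finset.univ.filter (fun x => x ^ (2 ^ a) = 1)
      let Y : Finset (Ct A) := Finset.univ.filter (fun x => (x : SL(2, F)) ∈ S)
      have hXc : X.card ≤ 2 ^ a := IsCyclic.card_pow_eq_one_le (by positivity)
      have hYX : Y ⊆ X := by
        intro x hx
        rw [Finset.mem_filter] at hx ⊢
        refine ⟨Finset.mem_univ _, ?_⟩
        have h8 : (⟨(x : SL(2, F)), hx.2, x.2⟩ : (S ⊓ Ct A : Subgroup SL(2, F))) ^ Nat.card (S ⊓ Ct A : Subgroup SL(2, F)) = 1 := pow_card_eq_one'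
        rw [hT] at h8
        exact Subtype.ext (congrArg (fun z : (S ⊓ Ct A : Subgroup SL(2, F)) => (z : SL(2, F))) h8)
      have hYc : Y.card = 2 ^ a := by
        rw [← hT, ← Fintype.card_subtype, ← Nat.card_eq_fintype_card]
        exact Nat.card_congr ⟨fun x => ⟨x.1.1, x.2, x.1.2⟩, fun x => ⟨⟨x.1, x.2.2⟩, x.2.1⟩, fun x => rfl, fun x => rfl⟩
      have hXY : Y = X := Finset.eq_of_subset_of_card_le hYX (by rw [hYc]; exact hXc)
      have h9 : (⟨g ^ r, (Ct A).pow_mem hgA r⟩ : Ct A) ∈ Y := by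
        rw [hXY, Finset.mem_filter]
        exact ⟨Finset.mem_univ _, Subtype.ext h7⟩
      rw [Finset.mem_filter] at h9
      exact ⟨h9.2, (Ct A).pow_mem hgA r⟩
    obtain ⟨k, hk⟩ : ∃ k, r = 2 * k + 1 := ⟨r / 2, by omega⟩
    have h7 : g = (g ^ r) * ((g * g) ^ k)⁻¹ := by
      rw [hk, pow_succ, pow_mul, pow_two]
      have hcm : (g * g) ^ k * g = g * (g * g) ^ k := ((Commute.refl g).mul_left (Commute.refl g)).pow_left k
      rw [hcm, mul_inv_cancel_right]
    rw [h7]
    exact S.mul_mem h6.1 (S.inv_mem (S.pow_mem h4 k))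
  rcases (mem_norm_iff' hA hn2 g).mp hg' with h | h
  · exact key g hg h
  · have h1 : n⁻¹ * g ∈ Subgroup.normalizer (S : Set SL(2, F)) := mul_mem (inv_mem (Subgroup.le_normalizer hnS)) hg
    have := S.mul_mem hnS (key _ h1 h)
    rwa [mul_inv_cancel_left] at this

end struct

end Cfsg.Agent.Lib.Tor
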