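import Mathlib
import Cfsg.Agent.Lib.Tor12

/-! Normalizers of Sylow `2`-subgroups of `SL_2(q)`. -/

set_option linter.all false
set_option maxHeartbeats 400000

namespace Cfsg.Agent.Lib.Tor

open Matrix Module Cfsg Cfsg.Agent.Lib.Tw
open scoped MatrixGroups Pointwise

variable {F : Type*} [Field F] [Fintype F] {A : SL(2, F)} {a r : ℕ} {S : Subgroup SL(2, F)}

theorem syl2_norm_big (hA : Reg A) (ha : 3 ≤ a) (hr : ¬ 2 ∣ r) (hc : Nat.card (Ct A) = 2 ^ a * r) (hS : Nat.card S = 2 ^ (a + 1))
    (hN : S ≤ Subgroup.normalizer (Ct A : Set SL(2, F))) : Subgroup.normalizer (S : Set SL(2, F)) = S := by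
  apply le_antisymm _ Subgroup.le_normalizer
  intro g hg
  obtain ⟨n, hnS, hn2, hmem, hT⟩ := syl2_shape hA (by omega) hr hc hS hN
  obtain ⟨w, hw, hwo, hwr, hwC⟩ := syl2_gen hA (by omega) hT
  refine syl2_torus hA (by omega) hr hc hS hN hg ?_
  have h1 : g * w * g⁻¹ ∈ S := (Subgroup.mem_normalizer_iff.mp hg w).mp hw.1
  have h8 : 8 ≤ 2 ^ a := by
    calc 8 = 2 ^ 3 := by norm_num
      _ ≤ 2 ^ a := Nat.pow_le_pow_right (by norm_num) ha
  have h3 : g * w * g⁻¹ ∈ Ct A := by
    by_contra hcon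
    have h4 := sq_outside hA (hN h1) hcon
    have h5 : (g * w * g⁻¹) * (g * w * g⁻¹) = -1 := Subtype.ext h4
    have h6 : g * (w * w) * g⁻¹ = -1 := by rw [← h5]; group
    have h7 : w * w = -1 := by
      rw [mul_inv_eq_iff_eq_mul] at h6
      have : g * (w * w) = g * (-1) := by rw [h6, mul_neg, mul_one, neg_mul, one_mul]
      exact mul_left_cancel this
    have h9 : w ^ 4 = 1 := by
      rw [show 4 = 2 + 2 from rfl, pow_add, pow_two, h7, neg_mul_neg, one_mul]
    have := Nat.le_of_dvd (by norm_num) (orderOf_dvd_of_pow_eq_one h9)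
    omega
  rw [← hwC] at h3 ⊢
  exact (mem_norm_iff hwr).mpr (eq_or_inv hwr h3 (trace_conj w g))

section quat

variable {I J : Matrix (Fin 2) (Fin 2) F}

omit [Fintype F] in
theorem quat_rel (r1 : I * I = -1) (r2 : J * J = -1) (r3 : J * I = -(I * J)) :
    I * J * I = J ∧ J * (I * J) = I ∧ I * J * J = -I ∧ I * (I * J) = -J ∧ (I * J) * (I * J) = -1 := by
  have e1 : I * J * I = J := by rw [mul_assoc, r3, mul_neg, ← mul_assoc, r1, neg_mul, one_mul, neg_neg]
  refine ⟨e1, ?_, ?_, ?_, ?_⟩
  · rw [← mul_assoc, r3, neg_mul, mul_assoc, r2, mul_neg, mul_one, neg_neg]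
  · rw [mul_assoc, r2, mul_neg, mul_one]
  · rw [← mul_assoc, r1, neg_mul, one_mul]
  · rw [← mul_assoc, e1, r2]

omit [Fintype F] in
theorem quat_M (h2 : (2 : F) ≠ 0) (r1 : I * I = -1) (r2 : J * J = -1) (r3 : J * I = -(I * J)) (hI : I.trace = 0) (hJ : J.trace = 0) :
    ∃ M : Matrix (Fin 2) (Fin 2) F, M.det = 1 ∧ M * I = J * M ∧ M * J = (I * J) * M := by
  obtain ⟨r4, r5, r6, r7, r8⟩ := quat_rel r1 r2 r3
  have hIJ : (I * J).trace = 0 := by
    have h := Matrix.trace_mul_comm I J
    rw [r3, Matrix.trace_neg] at h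
    have h3 : (2 : F) * (I * J).trace = 0 := by linear_combination h
    exact (mul_eq_zero.mp h3).resolve_left h2
  let N : Matrix (Fin 2) (Fin 2) F := 1 + I + J + I * J
  have hN2 : N * N = (2 : F) • N - (4 : F) • 1 := by
    show (1 + I + J + I * J) * (1 + I + J + I * J) = (2 : F) • (1 + I + J + I * J) - (4 : F) • 1
    simp only [mul_add, add_mul, mul_one, one_mul]
    rw [r1, r2, r3, r4, r5, r6, r7, r8]
    module
  have hNt : N.trace = 2 := by
    show (1 + I + J + I * J).trace = 2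
    rw [Matrix.trace_add, Matrix.trace_add, Matrix.trace_add, hI, hJ, hIJ, Matrix.trace_one, Fintype.card_fin]
    push_cast; ring
  have hNI : N * I = J * N := by
    show (1 + I + J + I * J) * I = J * (1 + I + J + I * J)
    simp only [mul_add, add_mul, mul_one, one_mul]
    rw [r1, r2, r3, r4, r5]; abel
  have hNJ : N * J = (I * J) * N := by
    show (1 + I + J + I * J) * J = (I * J) * (1 + I + J + I * J)
    simp only [mul_add, add_mul, mul_one, one_mul]
    rw [r2, r4, r6, r8]; abel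
  have hNdet : N.det = 4 := by
    have h1 := Matrix.mul_adjugate N
    have h3 : N.adjugate = (2 : F) • (1 : Matrix (Fin 2) (Fin 2) F) - N := by
      rw [← hNt, Matrix.adjugate_fin_two, Matrix.trace_fin_two]
      ext i j
      fin_cases i <;> fin_cases j <;> simp
    rw [h3, mul_sub, mul_smul_comm, mul_one, hN2] at h1
    have h4 := congrFun (congrFun h1 0) 0
    simp only [Matrix.sub_apply, Matrix.smul_apply, Matrix.one_apply_eq, smul_eq_mul, mul_one] at h4
    linear_combination -h4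
  refine ⟨(1 / 2 : F) • N, ?_, ?_, ?_⟩
  · rw [Matrix.det_smul, Fintype.card_fin, hNdet]
    field_simp
    norm_num
  · rw [smul_mul_assoc, hNI, mul_smul_comm]
  · rw [smul_mul_assoc, hNJ, mul_smul_comm]

end quat

theorem syl2_norm_small (h2 : (2 : F) ≠ 0) (hA : Reg A) (ha : a = 2) (hr : ¬ 2 ∣ r) (hc : Nat.card (Ct A) = 2 ^ a * r) (hS : Nat.card S = 2 ^ (a + 1))
    (hN : S ≤ Subgroup.normalizer (Ct A : Set SL(2, F))) : Nat.card (Subgroup.normalizer (S : Set SL(2, F))) = 3 * Nat.card S := by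
  obtain ⟨n, hnS, hn2, hmem, hT⟩ := syl2_shape hA (by omega) hr hc hS hN
  obtain ⟨w, hw, hwo, hwr, hwC⟩ := syl2_gen hA (by omega) hT
  rw [ha] at hwo
  have hnA : n ∉ Ct A := inverter_notMem hA hn2
  have hw2 : w * w = -1 := by
    have h1 : (w * w) * (w * w) = 1 := by
      have := pow_orderOf_eq_one w
      rw [hwo, show 2 ^ 2 = 2 + 2 from rfl, pow_add, pow_two] at this
      exact this
    rcases (sq_eq_one h2).mp h1 with h3 | h3
    · exfalso
      have := orderOf_dvd_of_pow_eq_one (by rw [pow_two]; exact h3 : w ^ 2 = 1)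
      rw [hwo] at this
      have := Nat.le_of_dvd (by norm_num) this
      omega
    · exact h3
  have hwi : w⁻¹ = -w := by
    rw [inv_eq_iff_mul_eq_one, mul_neg, hw2, neg_neg]
  have hwt : (w : Matrix (Fin 2) (Fin 2) F).trace = 0 := by
    have h1 := trace_inv w
    rw [hwi, trace_neg] at h1
    have h3 : (2 : F) * (w : Matrix (Fin 2) (Fin 2) F).trace = 0 := by linear_combination -h1
    exact (mul_eq_zero.mp h3).resolve_left h2
  have hnw : n * w = -(w * n) := by
    have h1 := inverts_all hA hn2 hw.2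
    rw [hwi, mul_inv_eq_iff_eq_mul, neg_mul] at h1
    exact h1
  obtain ⟨hnt, hnn⟩ := sq_of_inverts hA hn2
  have hnn' : n * n = -1 := Subtype.ext hnn
  obtain ⟨M, hM, hMI, hMJ⟩ := quat_M h2 (I := (w : Matrix (Fin 2) (Fin 2) F)) (J := (n : Matrix (Fin 2) (Fin 2) F))
    (congrArg Subtype.val hw2) hnn (congrArg Subtype.val hnw) hwt hnt
  let g : SL(2, F) := ⟨M, hM⟩
  have hgw : g * w = n * g := Subtype.ext hMI
  have hgn : g * n = (w * n) * g := Subtype.ext hMJ
  have hgw' : g * w * g⁻¹ = n := mul_inv_eq_iff_eq_mul.mpr hgw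
  have hgn' : g * n * g⁻¹ = w * n := mul_inv_eq_iff_eq_mul.mpr hgn
  have hneg : (-1 : SL(2, F)) ∈ S := by rw [← hw2]; exact S.mul_mem hw.1 hw.1
  have hnegm : ∀ {x}, x ∈ S → -x ∈ S := by
    intro x hx
    have := S.mul_mem hneg hx
    rwa [neg_mul, one_mul] at this
  -- elements of the cyclic part
  have hTel : ∀ t ∈ S ⊓ Ct A, t = 1 ∨ t = -1 ∨ t = w ∨ t = -w := by
    intro t ht
    by_cases h1 : t = 1
    · exact Or.inl h1
    · by_cases h3 : t = -1
      · exact Or.inr (Or.inl h3)
      · have h4 : t ^ 4 = 1 := by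
          have h8 : (⟨t, ht⟩ : (S ⊓ Ct A : Subgroup SL(2, F))) ^ Nat.card (S ⊓ Ct A : Subgroup SL(2, F)) = 1 := pow_card_eq_one'
          rw [hT, ha] at h8
          exact congrArg Subtype.val h8
        rw [show 4 = 2 + 2 from rfl, pow_add, pow_two] at h4
        have h5 : t * t = -1 := by
          rcases (sq_eq_one h2).mp h4 with h5 | h5
          · rcases (sq_eq_one h2).mp h5 with h6 | h6
            · exact absurd h6 h1
            · exact absurd h6 h3
          · exact h5
        have h6 : t⁻¹ = -t := by rw [inv_eq_iff_mul_eq_one, mul_neg, h5, neg_neg]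
        have h7 : (t : Matrix (Fin 2) (Fin 2) F).trace = 0 := by
          have h1 := trace_inv t
          rw [h6, trace_neg] at h1
          have h3 : (2 : F) * (t : Matrix (Fin 2) (Fin 2) F).trace = 0 := by linear_combination -h1
          exact (mul_eq_zero.mp h3).resolve_left h2
        have h8 : t ∈ Ct w := by rw [hwC]; exact ht.2
        rcases eq_or_inv hwr h8 (h7.trans hwt.symm) with h9 | h9
        · exact Or.inr (Or.inr (Or.inl h9))
        · exact Or.inr (Or.inr (Or.inr (h9.trans hwi)))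
  have hwn : w * n ∈ S := S.mul_mem hw.1 hnS
  -- all elements
  have hSel : ∀ s ∈ S, s = 1 ∨ s = -1 ∨ s = w ∨ s = -w ∨ s = n ∨ s = -n ∨ s = w * n ∨ s = -(w * n) := by
    intro s hs
    rcases (hmem s).mp hs with h | h
    · rcases hTel s h with h | h | h | h <;> tauto
    · have e : s = n * (n⁻¹ * s) := by rw [mul_inv_cancel_left]
      rcases hTel _ h with h | h | h | h
      · rw [h, mul_one] at e; tauto
      · rw [h, mul_neg, mul_one] at e; tauto
      · rw [h, hnw] at e; tauto
      · rw [h, mul_neg, hnw, neg_neg] at e; tauto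
  have hgneg : ∀ x, g * (-x) * g⁻¹ = -(g * x * g⁻¹) := by
    intro x; rw [mul_neg, neg_mul]
  have hgwn : g * (w * n) * g⁻¹ = w := by
    have : g * (w * n) * g⁻¹ = (g * w * g⁻¹) * (g * n * g⁻¹) := by group
    rw [this, hgw', hgn', ← mul_assoc, hnw, neg_mul, mul_assoc, hnn', mul_neg, mul_one, neg_neg]
  have hgN : g ∈ Subgroup.normalizer (S : Set SL(2, F)) := by
    apply Subgroup.mem_normalizer_fintype
    intro s hs
    show g * s * g⁻¹ ∈ S
    rcases hSel s hs with rfl | rfl | rfl | rfl | rfl | rfl | rfl | rfl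
    · rw [mul_one, mul_inv_cancel]; exact S.one_mem
    · rw [hgneg, mul_one, mul_inv_cancel]; exact hneg
    · rw [hgw']; exact hnS
    · rw [hgneg, hgw']; exact hnegm hnS
    · rw [hgn']; exact hwn
    · rw [hgneg, hgn']; exact hnegm hwn
    · rw [hgwn]; exact hw.1
    · rw [hgneg, hgwn]; exact hnegm hw.1
  have hwN : ∀ x, x * w * x⁻¹ = w ∨ x * w * x⁻¹ = -w → x ∈ Subgroup.normalizer (S : Set SL(2, F)) → x ∈ S := by
    intro x hx hxN
    refine syl2_torus hA (by omega) hr hc hS hN hxN ?_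
    rw [← hwC, mem_norm_iff hwr, hwi]; exact hx
  have hnotC : ∀ {y}, y ∈ S → y * w * y⁻¹ ∈ Ct A := by
    intro y hy
    exact (Subgroup.mem_normalizer_iff.mp (hN hy) w).mp hw.2
  have hwnA : w * n ∉ Ct A := by
    intro h
    apply hnA
    have := (Ct A).mul_mem ((Ct A).inv_mem hw.2) h
    rwa [inv_mul_cancel_left] at this
  refine tri_card (g := g) (T := S) (N := Subgroup.normalizer (S : Set SL(2, F))) ?_ ?_ ?_
  · intro h
    have := hnotC h
    rw [hgw'] at this
    exact hnA this
  · intro h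
    have := hnotC h
    have e : g * g * w * (g * g)⁻¹ = g * (g * w * g⁻¹) * g⁻¹ := by group
    rw [e, hgw', hgn'] at this
    exact hwnA this
  · intro x
    constructor
    · intro hx
      have h1 : x * w * x⁻¹ ∈ S := (Subgroup.mem_normalizer_iff.mp hx w).mp hw.1
      have hx1 : x * w * x⁻¹ * (x * w * x⁻¹) = -1 := by
        have : x * w * x⁻¹ * (x * w * x⁻¹) = x * (w * w) * x⁻¹ := by group
        rw [this, hw2, mul_neg, mul_one, neg_mul, mul_inv_cancel]
      have hg' : g⁻¹ ∈ Subgroup.normalizer (S : Set SL(2, F)) := inv_mem hgN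
      have em1 : (1 : SL(2, F)) ≠ -1 := fun h => neg_one_ne h2 h.symm
      have c1 : (x * w * x⁻¹ = n ∨ x * w * x⁻¹ = -n) → g⁻¹ * x ∈ S := by
        intro h
        apply hwN _ _ (mul_mem hg' hx)
        have e : g⁻¹ * x * w * (g⁻¹ * x)⁻¹ = g⁻¹ * (x * w * x⁻¹) * g := by group
        rw [e]
        have en : g⁻¹ * n * g = w := by rw [← hgw']; group
        rcases h with h | h
        · left; rw [h, en]
        · right; rw [h, mul_neg, neg_mul, en]
      have c2 : (x * w * x⁻¹ = w * n ∨ x * w * x⁻¹ = -(w * n)) → g * x ∈ S := by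
        intro h
        apply hwN _ _ (mul_mem hgN hx)
        have e : g * x * w * (g * x)⁻¹ = g * (x * w * x⁻¹) * g⁻¹ := by group
        rw [e]
        rcases h with h | h
        · left; rw [h, hgwn]
        · right; rw [h, hgneg, hgwn]
      rcases hSel _ h1 with h | h | h | h | h | h | h | h
      · rw [h, one_mul] at hx1; exact absurd hx1 em1
      · rw [h, neg_mul_neg, one_mul] at hx1; exact absurd hx1 em1
      · exact Or.inl (hwN x (Or.inl h) hx)
      · exact Or.inl (hwN x (Or.inr h) hx)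
      · exact Or.inr (Or.inl (c1 (Or.inl h)))
      · exact Or.inr (Or.inl (c1 (Or.inr h)))
      · exact Or.inr (Or.inr (c2 (Or.inl h)))
      · exact Or.inr (Or.inr (c2 (Or.inr h)))
    · rintro (h | h | h)
      · exact Subgroup.le_normalizer h
      · have := mul_mem hgN (Subgroup.le_normalizer h : g⁻¹ * x ∈ Subgroup.normalizer (S : Set SL(2, F)))
        rwa [mul_inv_cancel_left] at this
      · have := mul_mem (inv_mem hgN) (Subgroup.le_normalizer h : g * x ∈ Subgroup.normalizer (S : Set SL(2, F)))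
        rwa [inv_mul_cancel_left] at this

end Cfsg.Agent.Lib.Tor
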