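import Mathlib
import Cfsg.Agent.Lib.Nilp

/-!
Yoshida's lemma: cocycles on `G`-sets of finite `p`-groups without quotient `C_p ≀ C_p`.
-/

set_option autoImplicit false
set_option linter.unusedSectionVars false
set_option linter.style.haveILetI false
set_option linter.unusedVariables false

namespace Cfsg.Agent.Lib.YoshA

open scoped Classical

universe u v

variable {p : ℕ} [hp : Fact p.Prime]

/-- a shift-invariant group of functions on a group of order `p` containing a function with non-zero sum is everything -/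
theorem full {C : Type u} [Group C] [Fintype C] (hC : Nat.card C = p) (U : AddSubgroup (C → ZMod p))
    (shift : ∀ f ∈ U, ∀ g : C, (fun c => f (g * c)) ∈ U) {f : C → ZMod p} (hf : f ∈ U) (hs : ∑ c, f c ≠ 0) (h : C → ZMod p) :
    h ∈ U := by
  haveI : IsCyclic C := isCyclic_of_prime_card hC
  letI : CommGroup C := IsCyclic.commGroup
  have hsm : ∀ (r : ZMod p) (f : C → ZMod p), f ∈ U → (fun c => r * f c) ∈ U := by
    intro r f hf
    have h1 : (fun c => r * f c) = r.val • f := by
      funext c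
      rw [Pi.smul_apply, nsmul_eq_mul, ZMod.natCast_val, ZMod.cast_id]
    rw [h1]; exact U.nsmul_mem hf _
  let I : Ideal (MonoidAlgebra (ZMod p) C) :=
    { carrier := {a | (fun c => a.coeff c) ∈ U}
      add_mem' := by
        intro a b ha hb
        exact U.add_mem ha hb
      zero_mem' := U.zero_mem
      smul_mem' := by
        intro b a ha
        show (fun c => (b * a).coeff c) ∈ U
        induction b using MonoidAlgebra.induction_linear with
        | zero => rw [zero_mul]; exact U.zero_mem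
        | add b b' h1 h2 => rw [add_mul]; exact U.add_mem h1 h2
        | single g r =>
          have h1 : (fun c => (MonoidAlgebra.single g r * a).coeff c) = fun c => r * a.coeff (g⁻¹ * c) := by
            funext c
            exact a.coeff_single_mul_eq_mul_coeff _ (fun m' _ => eq_inv_mul_iff_mul_eq.symm)
          rw [h1]
          exact hsm r (fun c => a.coeff (g⁻¹ * c)) (shift (fun c => a.coeff c) ha g⁻¹) }
  obtain ⟨a, ha⟩ : ∃ a : MonoidAlgebra (ZMod p) C, a = ∑ c, MonoidAlgebra.single c (f c) := ⟨_, rfl⟩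
  have hval : ∀ h : C → ZMod p, ∀ d, (∑ c, MonoidAlgebra.single c (h c) : MonoidAlgebra (ZMod p) C).coeff d = h d := by
    intro h d
    rw [MonoidAlgebra.coeff_sum, Finsupp.finsetSum_apply]
    rw [Finset.sum_eq_single d]
    · rw [MonoidAlgebra.coeff_single, Finsupp.single_eq_same]
    · intro c _ hc
      rw [MonoidAlgebra.coeff_single, Finsupp.single_eq_of_ne' hc]
    · intro hd; exact absurd (Finset.mem_univ d) hd
  have haI : a ∈ I := by
    show (fun c => a.coeff c) ∈ U
    have h1 : (fun c => a.coeff c) = f := funext fun d => by rw [ha]; exact hval f d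
    rw [h1]; exact hf
  haveI : CharP (MonoidAlgebra (ZMod p) C) p := charP_of_injective_algebraMap (algebraMap (ZMod p) (MonoidAlgebra (ZMod p) C)).injective p
  have hap : a ^ p = algebraMap (ZMod p) _ (∑ c, f c) := by
    rw [ha, sum_pow_char, map_sum]
    refine Finset.sum_congr rfl fun c _ => ?_
    have h5 : c ^ p = 1 := by rw [← hC]; exact pow_card_eq_one'
    rw [MonoidAlgebra.single_pow, ZMod.pow_card, h5]
    rfl
  have h1 : I = ⊤ := by
    refine Ideal.eq_top_of_isUnit_mem I (Ideal.pow_mem_of_mem I haI p hp.out.pos) ?_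
    rw [hap]
    exact (isUnit_iff_ne_zero.2 hs).map _
  have h2 : (∑ c, MonoidAlgebra.single c (h c) : MonoidAlgebra (ZMod p) C) ∈ I := by rw [h1]; trivial
  have h3 : (fun c => (∑ c, MonoidAlgebra.single c (h c) : MonoidAlgebra (ZMod p) C).coeff c) = h := funext fun d => hval h d
  rw [← h3]; exact h2

/-- the order of a Sylow `p`-subgroup of the symmetric group of degree `p²` -/
theorem card_sylow (W : Sylow p (Equiv.Perm (Fin (p ^ 2)))) : Nat.card W = p ^ (p + 1) := by
  rw [W.card_eq_multiplicity]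
  congr 1
  rw [Nat.card_eq_fintype_card, Fintype.card_perm, Fintype.card_fin]
  have h1 := sub_one_mul_padicValNat_factorial (p := p) (p ^ 2)
  have h2 : (Nat.digits p (p ^ 2)).sum = 1 := by
    have := Nat.digits_base_pow_mul (b := p) (k := 2) (m := 1) hp.out.one_lt (by norm_num)
    rw [mul_one] at this
    rw [this, Nat.digits_of_lt p 1 (by norm_num) hp.out.one_lt]
    simp
  rw [h2] at h1
  have h3 : p ^ 2 - 1 = (p - 1) * (p + 1) := by
    have := hp.out.one_lt
    zify [Nat.one_le_pow 2 p (by omega), this.le]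
    ring
  rw [h3] at h1
  have h4 : 0 < p - 1 := Nat.sub_pos_of_lt hp.out.one_lt
  have h5 := Nat.eq_of_mul_eq_mul_left h4 h1
  rw [Nat.factorization_def _ hp.out]; exact h5

/-- cocycles -/
structure Coc {G : Type u} {X : Type v} [Group G] [MulAction G X] (b : X → G → ZMod p) : Prop where
  mul : ∀ z x y, b z (x * y) = b (y • z) x + b z y

theorem Coc.one {G : Type u} {X : Type v} [Group G] [MulAction G X] {b : X → G → ZMod p} (hb : Coc b) (z : X) : b z 1 = 0 := by
  have := hb.mul z 1 1
  rw [one_smul, one_mul] at this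
  exact left_eq_add.1 this

/-- the quotient property -/
def Wr (p : ℕ) (G : Type u) [Group G] : Prop :=
  ∃ (W : Sylow p (Equiv.Perm (Fin (p ^ 2)))) (f : G →* ↥(W : Subgroup (Equiv.Perm (Fin (p ^ 2))))), Function.Surjective f

variable {G : Type u} [Group G] [Finite G]

/-- the wreath product quotient from a cocycle on `G ⧸ M` -/
theorem wreath (hG : IsPGroup p G) {M : Subgroup G} [M.Normal] (hM : M.index = p) {B : G ⧸ M → G → ZMod p} (hB : Coc B)
    {m₀ : G} (hm₀ : m₀ ∈ M) [Fintype (G ⧸ M)] (hs : ∑ β, B β m₀ ≠ 0) : Wr p G := by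
  have hC : Nat.card (G ⧸ M) = p := hM
  have hfix : ∀ m ∈ M, ∀ β : G ⧸ M, m • β = β := by
    intro m hm β
    obtain ⟨g, rfl⟩ := QuotientGroup.mk_surjective β
    show ((m * g : G) : G ⧸ M) = (g : G ⧸ M)
    refine (QuotientGroup.eq.2 ?_).symm
    rw [← mul_assoc]
    have := (inferInstance : M.Normal).conj_mem m hm g⁻¹
    rwa [inv_inv] at this
  let U : AddSubgroup (G ⧸ M → ZMod p) :=
    { carrier := {f | ∃ m ∈ M, ∀ β, B β m = f β}
      add_mem' := by
        rintro f f' ⟨m, hm, h1⟩ ⟨m', hm', h2⟩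
        refine ⟨m * m', M.mul_mem hm hm', fun β => ?_⟩
        rw [hB.mul, hfix m' hm', h1, h2]; rfl
      zero_mem' := ⟨1, M.one_mem, fun β => hB.one β⟩
      neg_mem' := by
        rintro f ⟨m, hm, h1⟩
        refine ⟨m⁻¹, M.inv_mem hm, fun β => ?_⟩
        have h2 := hB.mul β m m⁻¹
        rw [mul_inv_cancel, hB.one, hfix _ (M.inv_mem hm), h1] at h2
        show B β m⁻¹ = - f β
        linear_combination -h2 }
  have hU : ∀ h : G ⧸ M → ZMod p, h ∈ U := by
    refine fun h => full hC U ?_ (f := fun β => B β m₀) ⟨m₀, hm₀, fun β => rfl⟩ hs h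
    rintro f ⟨m, hm, h1⟩ γ
    obtain ⟨s, rfl⟩ := QuotientGroup.mk_surjective γ
    refine ⟨s⁻¹ * m * s, by simpa using (inferInstance : M.Normal).conj_mem m hm s⁻¹, fun β => ?_⟩
    have e1 : (s : G ⧸ M) * β = s • β := by
      obtain ⟨g, rfl⟩ := QuotientGroup.mk_surjective β
      rfl
    show B β (s⁻¹ * m * s) = f ((s : G ⧸ M) * β)
    rw [e1, hB.mul, hB.mul, hfix m hm, h1]
    have h2 := hB.mul β s⁻¹ s
    rw [inv_mul_cancel, hB.one] at h2
    linear_combination -h2
  -- the action
  letI : MulAction G ((G ⧸ M) × ZMod p) :=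
    { smul := fun x w => (x • w.1, B w.1 x + w.2)
      one_smul := fun w => by
        show ((1 : G) • w.1, B w.1 1 + w.2) = w
        rw [one_smul, hB.one, zero_add]
      mul_smul := fun x y w => by
        show ((x * y) • w.1, B w.1 (x * y) + w.2) = (x • y • w.1, B (y • w.1) x + (B w.1 y + w.2))
        rw [mul_smul, hB.mul, add_assoc] }
  have hsm : ∀ (x : G) (w : (G ⧸ M) × ZMod p), x • w = (x • w.1, B w.1 x + w.2) := fun _ _ => rfl
  have hcard : Nat.card ((G ⧸ M) × ZMod p) = p ^ 2 := by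
    rw [Nat.card_prod, hC, Nat.card_zmod, sq]
  obtain ⟨e⟩ : Nonempty ((G ⧸ M) × ZMod p ≃ Fin (p ^ 2)) := ⟨Finite.equivFinOfCardEq hcard⟩
  obtain ⟨ρ, hρ⟩ : ∃ ρ : G →* Equiv.Perm (Fin (p ^ 2)), ∀ x w, ρ x (e w) = e (x • w) := by
    refine ⟨(e.permCongrHom).toMonoidHom.comp (MulAction.toPermHom G _), fun x w => ?_⟩
    show e ((MulAction.toPermHom G _ x) (e.symm (e w))) = _
    rw [e.symm_apply_apply]; rfl
  have hR : IsPGroup p ρ.range := hG.of_surjective ρ.rangeRestrict ρ.rangeRestrict_surjective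
  obtain ⟨W, hW⟩ := hR.exists_le_sylow
  have hWc := card_sylow W
  -- the order of the image
  have h1 : p ^ p ≤ Nat.card (M.map ρ) := by
    have h2 : Nat.card (G ⧸ M → ZMod p) = p ^ p := by
      rw [Nat.card_fun, Nat.card_zmod, hC]
    rw [← h2]
    refine Nat.card_le_card_of_surjective (fun σ : M.map ρ => fun β => (e.symm (σ.1 (e (β, 0)))).2) fun h => ?_
    obtain ⟨m, hm, hmh⟩ := hU h
    refine ⟨⟨ρ m, m, hm, rfl⟩, funext fun β => ?_⟩
    show (e.symm (ρ m (e (β, 0)))).2 = h β
    rw [hρ, e.symm_apply_apply, hsm, ← hmh β]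
    exact add_zero _
  have h2 : M.map ρ < ρ.range := by
    refine lt_of_le_of_ne (Subgroup.map_le_range ρ M) fun heq => ?_
    obtain ⟨g, hg⟩ : ∃ g : G, g ∉ M := by
      by_contra hcon
      push Not at hcon
      have : M = ⊤ := (Subgroup.eq_top_iff' M).2 hcon
      rw [this, Subgroup.index_top] at hM
      exact hp.out.one_lt.ne hM
    have h3 : ρ g ∈ M.map ρ := by rw [heq]; exact ⟨g, rfl⟩
    obtain ⟨m, hm, hmg⟩ := h3
    have h4 : ρ m (e (1, 0)) = ρ g (e (1, 0)) := by rw [hmg]
    rw [hρ, hρ] at h4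
    have h5 := congrArg Prod.fst (e.injective h4)
    have h6 : m • (1 : G ⧸ M) = g • (1 : G ⧸ M) := h5
    rw [hfix m hm] at h6
    apply hg
    have h7 : ((1 : G) : G ⧸ M) = ((g * 1 : G) : G ⧸ M) := h6
    have h8 := QuotientGroup.eq.1 h7
    simpa using h8
  have h3 : p ^ (p + 1) ≤ Nat.card ρ.range := by
    obtain ⟨a, ha⟩ := IsPGroup.iff_card.1 hR
    have h4 : Nat.card (M.map ρ) < Nat.card ρ.range := by
      refine lt_of_le_of_ne (Nat.le_of_dvd Nat.card_pos (Subgroup.card_dvd_of_le h2.le)) fun h5 => ?_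
      exact h2.ne (Subgroup.eq_of_le_of_card_ge h2.le h5.ge)
    have h5 : p ^ p < p ^ a := by rw [← ha]; exact lt_of_le_of_lt h1 h4
    have h6 : p < a := (Nat.pow_lt_pow_iff_right hp.out.one_lt).1 h5
    rw [ha]; exact Nat.pow_le_pow_right hp.out.pos h6
  have h4 : ρ.range = (W : Subgroup _) := Subgroup.eq_of_le_of_card_ge hW (by rw [hWc]; exact h3)
  refine ⟨W, ρ.codRestrict (W : Subgroup _) (fun x => hW ⟨x, rfl⟩), fun w => ?_⟩
  have h5 : (w : Equiv.Perm (Fin (p ^ 2))) ∈ ρ.range := by rw [h4]; exact w.2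
  obtain ⟨x, hx⟩ := h5
  exact ⟨x, Subtype.ext hx⟩

end Cfsg.Agent.Lib.YoshA
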