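import Cfsg.Agent.Lib.YoshA

/-!
Yoshida's lemma: only fixed points contribute to the transfer.
-/

set_option autoImplicit false
set_option linter.unusedSectionVars false
set_option linter.style.haveILetI false
set_option linter.unusedVariables false

namespace Cfsg.Agent.Lib.YoshB

open Cfsg.Agent.Lib.YoshA
open scoped Classical

universe u v

variable {p : ℕ} [hp : Fact p.Prime] {G : Type u} [Group G] [Finite G] {X : Type v} [MulAction G X] [Fintype X]

theorem coc_pow {X : Type v} [MulAction G X] {b : X → G → ZMod p} (hb : Coc b) (z : X) (x : G) (n : ℕ) :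
    b z (x ^ n) = ∑ i ∈ Finset.range n, b (x ^ i • z) x := by
  induction n with
  | zero => rw [pow_zero, hb.one, Finset.sum_range_zero]
  | succ n ih => rw [pow_succ', hb.mul, ih, Finset.sum_range_succ, add_comm]

theorem orbit_sum (hG : IsPGroup p G) (hno : ¬ Wr p G) {b : X → G → ZMod p} (hb : Coc b) (x₀ : G)
    (hd : ∃ d : X → ZMod p, ∀ z, b z (x₀ ^ p) = d (x₀ ^ p • z) - d z) (z₀ : X) (hz₀ : z₀ ∉ MulAction.fixedPoints G X) :
    ∑ z ∈ Finset.univ.filter (fun z => z ∈ MulAction.orbit G z₀), b z x₀ = 0 := by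
  have hH : MulAction.stabilizer G z₀ ≠ ⊤ := by
    intro h
    apply hz₀
    intro g
    have : g ∈ MulAction.stabilizer G z₀ := by rw [h]; trivial
    exact this
  obtain ⟨M, hM, hHM⟩ := (eq_top_or_exists_le_coatom (MulAction.stabilizer G z₀)).resolve_left hH
  have hMi : M.index = p := Nilp.index_eq_prime_of_coatom hG hM
  haveI hnil : Group.IsNilpotent G := hG.isNilpotent
  haveI hMn : M.Normal := Nilp.coatom_normal_of_nilpotent hM
  letI : Fintype (G ⧸ M) := Fintype.ofFinite _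
  have hr : ∀ z : X, ∃ g : G, z ∈ MulAction.orbit G z₀ → g • z₀ = z := by
    intro z
    by_cases h : z ∈ MulAction.orbit G z₀
    · obtain ⟨g, hg⟩ := h
      exact ⟨g, fun _ => hg⟩
    · exact ⟨1, fun h' => absurd h' h⟩
  choose r hr using hr
  obtain ⟨π, hπd⟩ : ∃ π : X → G ⧸ M, π = fun z => (r z : G ⧸ M) := ⟨_, rfl⟩
  have horb : ∀ (x : G) (z : X), z ∈ MulAction.orbit G z₀ → x • z ∈ MulAction.orbit G z₀ := by
    rintro x _ ⟨g, rfl⟩
    exact ⟨x * g, mul_smul _ _ _⟩
  have hπ : ∀ (x : G) (z : X), z ∈ MulAction.orbit G z₀ → π (x • z) = x • π z := by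
    intro x z hz
    rw [hπd]
    show ((r (x • z) : G) : G ⧸ M) = ((x * r z : G) : G ⧸ M)
    refine QuotientGroup.eq.2 (hHM ?_)
    rw [MulAction.mem_stabilizer_iff, mul_smul, mul_smul, hr z hz, inv_smul_eq_iff, hr _ (horb x z hz)]
  obtain ⟨B, hBd⟩ : ∃ B : G ⧸ M → G → ZMod p, B = fun β x => ∑ z ∈ Finset.univ.filter (fun z => z ∈ MulAction.orbit G z₀ ∧ π z = β), b z x := ⟨_, rfl⟩
  have hbij : ∀ (y : G) (β : G ⧸ M) (f : X → ZMod p), ∑ z ∈ Finset.univ.filter (fun z => z ∈ MulAction.orbit G z₀ ∧ π z = β), f (y • z) =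
      ∑ z ∈ Finset.univ.filter (fun z => z ∈ MulAction.orbit G z₀ ∧ π z = y • β), f z := by
    intro y β f
    refine Finset.sum_nbij' (fun z => y • z) (fun z => y⁻¹ • z) ?_ ?_ ?_ ?_ ?_
    · intro z hz
      rw [Finset.mem_filter] at hz ⊢
      exact ⟨Finset.mem_univ _, horb y z hz.2.1, by rw [hπ y z hz.2.1, hz.2.2]⟩
    · intro z hz
      rw [Finset.mem_filter] at hz ⊢
      exact ⟨Finset.mem_univ _, horb _ z hz.2.1, by rw [hπ _ z hz.2.1, hz.2.2, inv_smul_smul]⟩
    · intro z _; exact inv_smul_smul _ _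
    · intro z _; exact smul_inv_smul _ _
    · intro z _; rfl
  have hB : Coc B := by
    refine ⟨fun β x y => ?_⟩
    rw [hBd]
    show ∑ z ∈ Finset.univ.filter (fun z => z ∈ MulAction.orbit G z₀ ∧ π z = β), b z (x * y) = _
    rw [Finset.sum_congr rfl (fun z _ => hb.mul z x y), Finset.sum_add_distrib]
    rw [hbij y β (fun z => b z x)]
  have hsum : ∑ z ∈ Finset.univ.filter (fun z => z ∈ MulAction.orbit G z₀), b z x₀ = ∑ β, B β x₀ := by
    rw [← Finset.sum_fiberwise _ π, hBd]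
    refine Finset.sum_congr rfl fun β _ => ?_
    rw [Finset.filter_filter]
  rw [hsum]
  by_cases hx : x₀ ∈ M
  · by_contra h
    exact hno (wreath hG hMi hB hx h)
  · -- the cyclic case
    have hC : Nat.card (G ⧸ M) = p := hMi
    have hox : orderOf (x₀ : G ⧸ M) = p := by
      apply orderOf_eq_prime
      · rw [← hC]; exact pow_card_eq_one'
      · intro h; exact hx ((QuotientGroup.eq_one_iff x₀).1 h)
    have hsm : ∀ i : ℕ, x₀ ^ i • (1 : G ⧸ M) = (x₀ : G ⧸ M) ^ i := by
      intro i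
      show ((x₀ ^ i * 1 : G) : G ⧸ M) = _
      rw [mul_one]; rfl
    have hinj : Set.InjOn (fun i : ℕ => x₀ ^ i • (1 : G ⧸ M)) (Finset.range p : Set ℕ) := by
      intro i hi j hj hij
      have hij : x₀ ^ i • (1 : G ⧸ M) = x₀ ^ j • (1 : G ⧸ M) := hij
      rw [hsm, hsm] at hij
      refine pow_injOn_Iio_orderOf ?_ ?_ hij
      · rw [hox]; exact Finset.mem_range.1 hi
      · rw [hox]; exact Finset.mem_range.1 hj
    have himg : (Finset.range p).image (fun i : ℕ => x₀ ^ i • (1 : G ⧸ M)) = Finset.univ := by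
      apply Finset.eq_univ_of_card
      rw [Finset.card_image_of_injOn hinj, Finset.card_range, Fintype.card_eq_nat_card, hC]
    have h1 : ∑ β, B β x₀ = B 1 (x₀ ^ p) := by
      rw [coc_pow hB, ← himg, Finset.sum_image hinj]
    rw [h1, hBd]
    obtain ⟨d, hd⟩ := hd
    show ∑ z ∈ Finset.univ.filter (fun z => z ∈ MulAction.orbit G z₀ ∧ π z = 1), b z (x₀ ^ p) = 0
    have h2 : (x₀ : G ⧸ M) ^ p = 1 := orderOf_dvd_iff_pow_eq_one.1 (dvd_of_eq hox)
    rw [Finset.sum_congr rfl (fun z _ => hd z), Finset.sum_sub_distrib, hbij (x₀ ^ p) 1 d, hsm, h2, sub_self]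

theorem fixed_sum (hG : IsPGroup p G) (hno : ¬ Wr p G) {b : X → G → ZMod p} (hb : Coc b) (x₀ : G)
    (hd : ∃ d : X → ZMod p, ∀ z, b z (x₀ ^ p) = d (x₀ ^ p • z) - d z) :
    ∑ z, b z x₀ = ∑ z ∈ Finset.univ.filter (fun z => z ∈ MulAction.fixedPoints G X), b z x₀ := by
  have key : ∀ (n : ℕ) (E : Finset X), E.card = n → (∀ (g : G), ∀ z ∈ E, g • z ∈ E) →
      ∑ z ∈ E, b z x₀ = ∑ z ∈ E.filter (fun z => z ∈ MulAction.fixedPoints G X), b z x₀ := by
    intro n
    induction n using Nat.strong_induction_on with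
    | _ n ih =>
      intro E hE hinv
      by_cases hall : ∀ z ∈ E, z ∈ MulAction.fixedPoints G X
      · rw [Finset.filter_true_of_mem hall]
      · push Not at hall
        obtain ⟨z₀, hz₀E, hz₀⟩ := hall
        obtain ⟨O, hO⟩ : ∃ O : Finset X, O = Finset.univ.filter (fun z => z ∈ MulAction.orbit G z₀) := ⟨_, rfl⟩
        have hmO : ∀ z, z ∈ O ↔ z ∈ MulAction.orbit G z₀ := by
          intro z; rw [hO, Finset.mem_filter]; exact ⟨fun h => h.2, fun h => ⟨Finset.mem_univ _, h⟩⟩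
        have hOE : O ⊆ E := by
          intro z hz
          obtain ⟨g, rfl⟩ := (hmO z).1 hz
          exact hinv g _ hz₀E
        have h0 : ∑ z ∈ O, b z x₀ = 0 := by rw [hO]; exact orbit_sum hG hno hb x₀ hd z₀ hz₀
        have hz₀O : z₀ ∈ O := (hmO z₀).2 (MulAction.mem_orbit_self _)
        have h1 := ih (E \ O).card (by
          rw [← hE]
          exact Finset.card_lt_card (Finset.sdiff_ssubset hOE ⟨z₀, hz₀O⟩)) (E \ O) rfl (by
            intro g z hz
            rw [Finset.mem_sdiff] at hz ⊢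
            refine ⟨hinv g z hz.1, fun h => hz.2 ?_⟩
            obtain ⟨k, hk⟩ := (hmO _).1 h
            refine (hmO _).2 ⟨g⁻¹ * k, ?_⟩
            show (g⁻¹ * k) • z₀ = z
            rw [mul_smul, inv_smul_eq_iff]; exact hk)
        rw [← Finset.sum_sdiff hOE, h0, add_zero, h1]
        refine Finset.sum_congr ?_ fun _ _ => rfl
        ext z
        rw [Finset.mem_filter, Finset.mem_filter, Finset.mem_sdiff]
        constructor
        · rintro ⟨⟨h2, h3⟩, h4⟩; exact ⟨h2, h4⟩
        · rintro ⟨h2, h4⟩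
          refine ⟨⟨h2, fun h3 => hz₀ ?_⟩, h4⟩
          obtain ⟨g, hg⟩ := (hmO _).1 h3
          have h5 : z₀ = z := by
            have h6 := h4 g⁻¹
            rw [← hg] at h6
            have h7 : g⁻¹ • g • z₀ = g • z₀ := h6
            rw [inv_smul_smul] at h7
            rw [h7]; exact hg
          rw [h5]; exact h4
  exact key _ Finset.univ rfl (fun _ _ _ => Finset.mem_univ _)

end Cfsg.Agent.Lib.YoshB
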