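import Cfsg.Agent.Lib.YoshB
import Cfsg.Agent.Lib.BisF

/-!
Yoshida's theorem for fusion systems.
-/

set_option autoImplicit false
set_option linter.unusedSectionVars false
set_option linter.style.haveILetI false
set_option linter.unusedVariables false

namespace Cfsg.Agent.Lib.YoshC

open Cfsg Cfsg.FusionSystem Cfsg.Agent.Lib.FusBase Cfsg.Agent.Lib.FusSat Cfsg.Agent.Lib.StrongEmb
open Cfsg.Agent.Lib.FusAlperin Cfsg.Agent.Lib.FusNormal Cfsg.Agent.Lib.FusNormalB Cfsg.Agent.Lib.SylRel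
open Cfsg.Agent.Lib.FusSub Cfsg.Agent.Lib.FusPuig Cfsg.Agent.Lib.FusNK Cfsg.Agent.Lib.FusNKB Cfsg.Agent.Lib.FusMor Cfsg.Agent.Lib.FusGroup
open Cfsg.Agent.Lib.FusHyp Cfsg.Agent.Lib.FusHypB Cfsg.Agent.Lib.LabA Cfsg.Agent.Lib.LabB Cfsg.Agent.Lib.LabC
open Cfsg.Agent.Lib.BisA Cfsg.Agent.Lib.BisB Cfsg.Agent.Lib.BisC Cfsg.Agent.Lib.BisD Cfsg.Agent.Lib.BisE Cfsg.Agent.Lib.BisF
open Cfsg.Agent.Lib.YoshA Cfsg.Agent.Lib.YoshB
open scoped Classical commutatorElement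

universe u v w

theorem exists_dual {p : ℕ} [hp : Fact p.Prime] {V : Type u} [AddCommGroup V] [Module (ZMod p) V] {v : V} (hv : v ≠ 0) :
    ∃ φ : V →+ ZMod p, φ v ≠ 0 := by
  by_contra hcon
  push Not at hcon
  exact hv ((Module.forall_dual_apply_eq_zero_iff (ZMod p) v).1 fun φ => hcon φ.toAddMonoidHom)

/-- linear functionals on elementary abelian quotients -/
theorem exists_l {p : ℕ} [hp : Fact p.Prime] {G : Type u} [Group G] {H : Subgroup G} (h1 : commutator G ≤ H) (h2 : ∀ x : G, x ^ p ∈ H)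
    {x : G} (hx : x ∉ H) : ∃ l : G →* Multiplicative (ZMod p), H ≤ l.ker ∧ l x ≠ 1 := by
  haveI hn : H.Normal := by
    refine ⟨fun n hn g => ?_⟩
    have h3 : ⁅g, n⁆ ∈ H := h1 (by rw [commutator_def]; exact Subgroup.commutator_mem_commutator trivial trivial)
    have h4 : g * n * g⁻¹ = ⁅g, n⁆ * n := by rw [commutatorElement_def]; group
    rw [h4]; exact H.mul_mem h3 hn
  have hcomm : ∀ a b : G ⧸ H, a * b = b * a := by
    intro a b
    obtain ⟨a, rfl⟩ := QuotientGroup.mk_surjective a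
    obtain ⟨b, rfl⟩ := QuotientGroup.mk_surjective b
    rw [← QuotientGroup.mk_mul, ← QuotientGroup.mk_mul]
    refine QuotientGroup.eq.2 ?_
    have h3 : ⁅b⁻¹, a⁻¹⁆ ∈ H := h1 (by rw [commutator_def]; exact Subgroup.commutator_mem_commutator trivial trivial)
    convert h3 using 1
    rw [commutatorElement_def]
    group
  letI : CommGroup (G ⧸ H) := { (inferInstance : Group (G ⧸ H)) with mul_comm := hcomm }
  letI : Module (ZMod p) (Additive (G ⧸ H)) := AddCommGroup.zmodModule (by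
    intro a
    obtain ⟨a, rfl⟩ := Additive.ofMul.surjective a
    obtain ⟨a, rfl⟩ := QuotientGroup.mk_surjective a
    have h3 : ((a : G ⧸ H)) ^ p = 1 := by
      rw [← QuotientGroup.mk_pow]; exact (QuotientGroup.eq_one_iff _).2 (h2 a)
    exact congrArg Additive.ofMul h3)
  have hv : Additive.ofMul (x : G ⧸ H) ≠ 0 := by
    intro h3
    exact hx ((QuotientGroup.eq_one_iff x).1 (Additive.ofMul.injective h3))
  obtain ⟨φ, hφ⟩ := exists_dual (p := p) hv
  refine ⟨MonoidHom.mk' (fun g => Multiplicative.ofAdd (φ (Additive.ofMul (g : G ⧸ H)))) (fun a b => ?_), fun g hg => ?_, fun h3 => hφ ?_⟩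
  · rw [QuotientGroup.mk_mul, ofMul_mul, map_add]; rfl
  · rw [MonoidHom.mem_ker]
    show Multiplicative.ofAdd (φ (Additive.ofMul (g : G ⧸ H))) = 1
    rw [(QuotientGroup.eq_one_iff g).2 hg, ofMul_one, map_zero]; rfl
  · exact Multiplicative.ofAdd.injective h3

variable {Ω : Type u} [Group Ω] {S : Subgroup Ω} {F : FusionSystem S} {p : ℕ} [Finite S] [hp : Fact p.Prime]
variable {P Q : Subgroup Ω} {f g h : Ω → Ω} {s t k : Ω} {hK : KS F p S}

/-- the left action -/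
def ll (hK : KS F p S) : S →* ↥(DD hK) := MonoidHom.mk' (fun x => ⟨((x : Ω), 1), x.2, S.one_mem, by
  show (x : Ω) * (1 : Ω)⁻¹ ∈ S
  rw [inv_one, mul_one]; exact x.2⟩) (by
    intro a b
    apply Subtype.ext
    exact Prod.ext rfl (by simp))

theorem ll_kk (x k : S) : ll hK x * kk hK k = kk hK k * ll hK x := by
  apply Subtype.ext
  refine Prod.ext ?_ ?_
  · show (x : Ω) * 1 = 1 * x
    rw [mul_one, one_mul]
  · show (1 : Ω) * k = k * 1
    rw [mul_one, one_mul]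

theorem dg_eq (x : S) : dg hK x = kk hK x * ll hK x := by
  apply Subtype.ext
  refine Prod.ext ?_ ?_
  · show (x : Ω) = 1 * x
    rw [one_mul]
  · show (x : Ω) = x * 1
    rw [mul_one]

variable {Y : Type u} [MulAction ↥(DD hK) Y] [Finite Y]

/-- the action on the `K`-orbits -/
instance zact : MulAction S (ZZ hK Y) where
  smul x := Quotient.map (fun y => ll hK x • y) (by
    rintro y _ ⟨k, rfl⟩
    exact ⟨k, by
      show ll hK x • kk hK k • y = kk hK k • ll hK x • y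
      rw [← mul_smul, ll_kk, mul_smul]⟩)
  one_smul := by
    intro z
    obtain ⟨y, rfl⟩ := Quotient.exists_rep z
    show Quotient.mk (zs hK Y) (ll hK 1 • y) = Quotient.mk (zs hK Y) y
    rw [map_one, one_smul]
  mul_smul := by
    intro x x' z
    obtain ⟨y, rfl⟩ := Quotient.exists_rep z
    show Quotient.mk (zs hK Y) (ll hK (x * x') • y) = Quotient.mk (zs hK Y) (ll hK x • ll hK x' • y)
    rw [map_mul, mul_smul]

theorem smul_mk (x : S) (y : Y) : x • (Quotient.mk (zs hK Y) y : ZZ hK Y) = Quotient.mk (zs hK Y) (ll hK x • y) := rfl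

/-- the cocycle -/
noncomputable def bz {hK : KS F p S} {Y : Type u} [MulAction ↥(DD hK) Y] (c : Y → Multiplicative (ZMod p)) (z : ZZ hK Y) (x : S) : ZMod p :=
  Multiplicative.toAdd (c (ll hK x • z.out) * (c z.out)⁻¹)

theorem bz_mk {l : S →* Multiplicative (ZMod p)} {c : Y → Multiplicative (ZMod p)} (hc : Eqv hK l c) (y : Y) (x : S) :
    bz c (Quotient.mk (zs hK Y) y) x = Multiplicative.toAdd (c (ll hK x • y) * (c y)⁻¹) := by
  obtain ⟨k, hk⟩ := out_spec (hK := hK) y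
  unfold bz
  rw [hk, ← mul_smul, ll_kk, mul_smul, hc, hc, mul_inv, mul_mul_mul_comm, mul_inv_cancel, one_mul]

theorem bz_coc {l : S →* Multiplicative (ZMod p)} {c : Y → Multiplicative (ZMod p)} (hc : Eqv hK l c) : Coc (bz (hK := hK) c) := by
  refine ⟨fun z x x' => ?_⟩
  obtain ⟨y, rfl⟩ := Quotient.exists_rep z
  rw [smul_mk, bz_mk hc, bz_mk hc, bz_mk hc, ← toAdd_mul, (ll hK).map_mul, mul_smul]
  congr 1
  group

/-- the transfer -/
theorem sum_bz {l : S →* Multiplicative (ZMod p)} (hl : LInv S l) {c : Y → Multiplicative (ZMod p)} (hc : Eqv hK l c) (x : S) :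
    Multiplicative.ofAdd (∑ z, bz (hK := hK) c z x) = ((l x)⁻¹) ^ Nat.card (ZZ hK Y) * Bm hl hc x := by
  rw [Bm_apply]
  unfold prodZ
  rw [← Fintype.card_eq_nat_card, ← Finset.card_univ, ← Finset.prod_const, ← Finset.prod_mul_distrib, ofAdd_sum]
  refine Finset.prod_congr rfl fun z _ => ?_
  show c (ll hK x • z.out) * (c z.out)⁻¹ = (l x)⁻¹ * (c (dg hK x • z.out) * (c z.out)⁻¹)
  rw [dg_eq, mul_smul, hc, ← mul_assoc, ← mul_assoc, inv_mul_cancel, one_mul]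

theorem sum_inv (hS : IsPGroup p S) (hF : F.IsSaturated p) (hY : Bis hK Y) {l : S →* Multiplicative (ZMod p)} (hl : LInv S l)
    {c : Y → Multiplicative (ZMod p)} (hc : Eqv hK l c) {x : S} (hx : (x : Ω) ∈ F.focalSubgroup) : ∑ z, bz (hK := hK) c z x = 0 := by
  let T : S →* Multiplicative (ZMod p) := MonoidHom.mk' (fun x => ((l x)⁻¹) ^ Nat.card (ZZ hK Y) * Bm hl hc x) (by
    intro a b
    rw [map_mul, map_mul, mul_inv, mul_pow]
    exact mul_mul_mul_comm _ _ _ _)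
  have hT : F.focalSubgroup ≤ T.ker.map S.subtype := by
    refine foc_le _ fun P f hf x hx => ?_
    have h1 : f x * x⁻¹ ∈ S := S.mul_mem (hf.mem hx) (S.inv_mem (hf.le hx))
    have h2 := Bm_rel hY hl hc (lab_top hS hF hf) hx h1
    refine ⟨(⟨x, hf.le hx⟩ : S)⁻¹ * ⟨f x, hf.mem hx⟩, ?_, rfl⟩
    rw [SetLike.mem_coe, MonoidHom.mem_ker, map_mul, map_inv, inv_mul_eq_one]
    show ((l ⟨x, hf.le hx⟩)⁻¹) ^ Nat.card (ZZ hK Y) * Bm hl hc ⟨x, hf.le hx⟩ = ((l ⟨f x, hf.mem hx⟩)⁻¹) ^ Nat.card (ZZ hK Y) * Bm hl hc ⟨f x, hf.mem hx⟩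
    rw [h2, ← mul_assoc, ← mul_pow]
    congr 2
    have h3 : (⟨f x * x⁻¹, h1⟩ : S) = ⟨f x, hf.mem hx⟩ * (⟨x, hf.le hx⟩ : S)⁻¹ := rfl
    rw [h3, map_mul, map_inv, inv_mul_cancel_left]
  obtain ⟨x', hx', hxx⟩ := hT hx
  have h1 : x' = x := Subtype.ext hxx
  rw [h1] at hx'
  have h2 : T x = 1 := hx'
  have h3 : T x = Multiplicative.ofAdd (∑ z, bz (hK := hK) c z x) := (sum_bz hl hc x).symm
  rw [h3] at h2
  exact Multiplicative.ofAdd.injective h2

/-- equivariant functions trivial on `x₀ ^ p` -/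
theorem exists_c' (hY : Bis hK Y) (l : S →* Multiplicative (ZMod p)) (y₀ : S)
    (h : ∀ (P : Subgroup Ω) (φ : Ω → Ω), Mor F P φ → ∀ u : S, (u : Ω) ∈ P → φ u ∈ Subgroup.zpowers (y₀ : Ω) → l u = 1) :
    ∃ c : Y → Multiplicative (ZMod p), Eqv hK l c ∧ ∀ y, c (ll hK y₀ • y) = c y := by
  let M : Subgroup ↥(DD hK) := (Subgroup.zpowers (y₀ : Ω)).comap ((MonoidHom.fst Ω Ω).comp (DD hK).subtype)
  let μ : M →* Multiplicative (ZMod p) := MonoidHom.mk' (fun m => l ⟨m.1.1.2, m.1.2.2.1⟩) (by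
    intro a b
    rw [← map_mul]
    rfl)
  obtain ⟨c, hc⟩ := exists_c (G := M) (X := Tw M.subtype Y) μ (by
    intro m y hm
    obtain ⟨P, φ, hφ⟩ := hY.stab y
    obtain ⟨h1, h2⟩ := (hφ.2 m.1).1 hm
    refine h P φ hφ.1.mor ⟨m.1.1.2, m.1.2.2.1⟩ h1 ?_
    rw [← h2]; exact m.2)
  refine ⟨c, fun k y => ?_, fun y => ?_⟩
  · have h0 : kk hK k ∈ M := (Subgroup.zpowers (y₀ : Ω)).one_mem
    have h1 := hc ⟨kk hK k, h0⟩ y
    exact h1
  · have h1 := hc ⟨ll hK y₀, Subgroup.mem_zpowers _⟩ y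
    have h2 : μ ⟨ll hK y₀, Subgroup.mem_zpowers _⟩ = 1 := map_one l
    rw [h2, one_mul] at h1
    exact h1

/-- fixed points -/
theorem bz_fixed (hY : Bis hK Y) {l : S →* Multiplicative (ZMod p)}
    (hl : ∀ (φ : Ω → Ω), Mor F S φ → ∀ (x : S) (hx : φ x ∈ S), l ⟨φ x, hx⟩ = l x)
    {c : Y → Multiplicative (ZMod p)} (hc : Eqv hK l c) {z : ZZ hK Y} (hz : z ∈ MulAction.fixedPoints S (ZZ hK Y)) (x : S) :
    bz c z x = Multiplicative.toAdd (l x)⁻¹ := by
  obtain ⟨y, rfl⟩ := Quotient.exists_rep z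
  obtain ⟨P, φ, hφ⟩ := hY.stab y
  have key : ∀ x : S, ∃ k : S, ll hK x • y = kk hK k • y ∧ (k : Ω)⁻¹ ∈ P ∧ (x : Ω) = φ (k : Ω)⁻¹ := by
    intro x
    have h1 : (Quotient.mk (zs hK Y) y : ZZ hK Y) = Quotient.mk (zs hK Y) (ll hK x • y) := (hz x).symm
    obtain ⟨k, hk⟩ := Quotient.exact h1
    have h2 : (kk hK k)⁻¹ * ll hK x ∈ MulAction.stabilizer ↥(DD hK) y := by
      rw [MulAction.mem_stabilizer_iff, mul_smul, inv_smul_eq_iff]; exact hk
    obtain ⟨h3, h4⟩ := (hφ.2 _).1 h2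
    have h5 : ((kk hK k)⁻¹ * ll hK x).1.2 = (k : Ω)⁻¹ := by
      show (k : Ω)⁻¹ * 1 = _
      rw [mul_one]
    have h6 : ((kk hK k)⁻¹ * ll hK x).1.1 = (x : Ω) := by
      show (1 : Ω)⁻¹ * x = _
      rw [inv_one, one_mul]
    rw [h5] at h3
    rw [h5, h6] at h4
    exact ⟨k, hk, h3, h4⟩
  have hPS : P = S := by
    refine Subgroup.eq_of_le_of_card_ge hφ.1.le ?_
    have hfP : Finite P := finite_of_le hφ.1.le
    rw [hφ.1.mor.iso.card_eq]
    have hfI : Finite (img P φ) := finite_of_le hφ.1.mor.img_le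
    refine Nat.card_le_card_of_injective (Subgroup.inclusion ?_) (Subgroup.inclusion_injective _)
    intro x hx
    obtain ⟨k, _, h1, h2⟩ := key ⟨x, hx⟩
    rw [hφ.1.mor.mem_img]
    exact ⟨_, h1, h2.symm⟩
  obtain ⟨k, h1, h2, h3⟩ := key x
  rw [bz_mk hc, h1, hc, mul_inv_cancel_right]
  congr 1
  have h4 := hl φ (hPS ▸ hφ.1.mor) k⁻¹ (by rw [Subgroup.coe_inv, ← h3]; exact x.2)
  have h5 : (⟨φ ((k⁻¹ : S) : Ω), by rw [Subgroup.coe_inv, ← h3]; exact x.2⟩ : S) = x := Subtype.ext h3.symm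
  rw [h5, map_inv] at h4
  rw [h4, inv_inv]

/-- **Yoshida's theorem** -/
theorem yoshida (hS : IsPGroup p S) (hF : F.IsSaturated p) {T : Subgroup Ω} (hT : T = S) {N : FusionSystem T} (hN : N.IsSaturated p)
    (hNF : ∀ P f, Mor N P f → Mor F P f) (hAut : ∀ φ, Mor F S φ → Mor N S φ) (hne : N.focalSubgroup ≠ F.focalSubgroup) : Wr p S := by
  subst hT
  by_contra hno
  have hle : N.focalSubgroup ≤ F.focalSubgroup := foc_le _ fun P f hf x hx => mem_foc (hNF P f hf) hx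
  have hΦ : ∃ x₁ : T, (x₁ : Ω) ∈ F.focalSubgroup ∧ (x₁ : Ω) ∉ N.focalSubgroup ⊔ (frattini ↥T).map T.subtype := by
    by_contra hcon
    push Not at hcon
    apply hne
    refine le_antisymm hle ?_
    rw [foc_eq hS hF, foc_eq hS hN]
    have hcomm : ⁅(T : Subgroup Ω), (T : Subgroup Ω)⁆ ≤ (frattini ↥T).map T.subtype := by
      have h4 : (commutator ↥T).map T.subtype = ⁅T, T⁆ := by
        rw [commutator_def, Subgroup.map_commutator, ← MonoidHom.range_eq_map, Subgroup.range_subtype]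
      rw [← h4]
      exact Subgroup.map_mono (Cfsg.Agent.Lib.Nilp.commutator_le_frattini hS)
    refine sup_le (le_sup_of_le_left ?_) le_sup_right
    refine hyp_le_of_frattini hS hF (H₀ := N.hyperfocalSubgroup p) (hyp_mono le_rfl hNF) (fun s hs x hx => hyp_conj hs hx) ?_
    intro x hx
    have h1 := hcon ⟨x, hyp_le hx⟩ (by rw [foc_eq hS hF]; exact Subgroup.mem_sup_left hx)
    have h2 : N.focalSubgroup ⊔ (frattini ↥T).map T.subtype ≤ N.hyperfocalSubgroup p ⊔ (frattini ↥T).map T.subtype := by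
      rw [foc_eq hS hN]
      exact sup_le (sup_le le_sup_left (hcomm.trans le_sup_right)) le_sup_right
    exact h2 h1
  obtain ⟨x₁, hx₁, hx₁'⟩ := hΦ
  obtain ⟨H, hH⟩ : ∃ H : Subgroup T, H = (N.focalSubgroup ⊔ (frattini ↥T).map T.subtype).subgroupOf T := ⟨_, rfl⟩
  have hfrH : frattini ↥T ≤ H := by
    intro x hx
    rw [hH, Subgroup.mem_subgroupOf]
    exact Subgroup.mem_sup_right ⟨x, hx, rfl⟩
  obtain ⟨l, hlH, hlx⟩ := exists_l (p := p) (H := H) (x := x₁) ((Cfsg.Agent.Lib.Nilp.commutator_le_frattini hS).trans hfrH)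
    (fun x => hfrH (Cfsg.Agent.Lib.Nilp.pow_mem_frattini hS x)) (by rw [hH, Subgroup.mem_subgroupOf]; exact hx₁')
  obtain ⟨x₀, ⟨hx₀F, hx₀l⟩, hmin⟩ := Set.exists_min_image {x : T | (x : Ω) ∈ F.focalSubgroup ∧ l x ≠ 1} orderOf (Set.toFinite _) ⟨x₁, hx₁, hlx⟩
  have hl : LInv T l := by
    intro s hs k h1
    have : (⟨s * k * s⁻¹, h1⟩ : T) = ⟨s, hs⟩ * k * ⟨s, hs⟩⁻¹ := rfl
    rw [this, map_mul, map_mul, map_inv, mul_comm (l _) (l k), mul_assoc, mul_inv_cancel, mul_one]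
  have hK : KS F p T := ks_top
  obtain ⟨Y, _, _, hY⟩ := exists_Bis hS hF hK
  have hpx : p ∣ orderOf x₀ := by
    obtain ⟨k, hk⟩ := (IsPGroup.iff_orderOf.1 hS) x₀
    rcases Nat.eq_zero_or_pos k with h0 | h0
    · exfalso
      rw [h0, pow_zero, orderOf_eq_one_iff] at hk
      exact hx₀l (by rw [hk, map_one])
    · rw [hk]; exact dvd_pow_self p h0.ne'
  have hlt : orderOf (x₀ ^ p) < orderOf x₀ := by
    rw [orderOf_pow_of_dvd hp.out.ne_zero hpx]
    exact Nat.div_lt_self (orderOf_pos x₀) hp.out.one_lt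
  obtain ⟨c, hc, hcp⟩ := exists_c' hY l (x₀ ^ p) (by
    intro P φ hφ u hu hmem
    by_contra hlu
    have h1 : φ u ∈ F.focalSubgroup := by
      have h2 : Subgroup.zpowers ((x₀ ^ p : T) : Ω) ≤ F.focalSubgroup := by
        rw [Subgroup.zpowers_le, Subgroup.coe_pow]; exact Subgroup.pow_mem _ hx₀F p
      exact h2 hmem
    have h2 : (u : Ω) ∈ F.focalSubgroup := by
      have h3 := mem_foc hφ hu
      have h4 : (u : Ω) = φ u * ((u : Ω)⁻¹ * φ u)⁻¹ := by group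
      rw [h4]; exact Subgroup.mul_mem _ h1 (Subgroup.inv_mem _ h3)
    have h3 : orderOf (φ u) = orderOf (u : Ω) := orderOf_eq_orderOf_iff.2 fun n => by
      rw [← hφ.pow hu]
      exact ⟨fun h => hφ.eq_one (P.pow_mem hu n) h, fun h => by rw [h, hφ.one]⟩
    have h4 : orderOf (φ u) ∣ orderOf (x₀ ^ p) := by
      have h5 := orderOf_dvd_of_mem_zpowers hmem
      rwa [Subgroup.orderOf_coe] at h5
    have h5 := hmin u ⟨h2, hlu⟩
    rw [h3, Subgroup.orderOf_coe] at h4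
    exact absurd (h5.trans (Nat.le_of_dvd (orderOf_pos _) h4)) (not_le.2 hlt))
  have h1 := fixed_sum (G := T) (X := ZZ hK Y) hS hno (bz_coc hc) x₀ ⟨fun _ => 0, fun z => by
    obtain ⟨y, rfl⟩ := Quotient.exists_rep z
    rw [sub_zero, bz_mk hc, hcp, mul_inv_cancel]; rfl⟩
  rw [sum_inv hS hF hY hl hc hx₀F] at h1
  have hl' : ∀ (φ : Ω → Ω), Mor F T φ → ∀ (x : T) (hx : φ x ∈ T), l ⟨φ x, hx⟩ = l x := by
    intro φ hφ x hx
    have h2 := mem_foc (hAut φ hφ) x.2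
    have h3 : (x⁻¹ * ⟨φ x, hx⟩ : T) ∈ H := by
      rw [hH, Subgroup.mem_subgroupOf]; exact Subgroup.mem_sup_left h2
    have h4 : l (x⁻¹ * ⟨φ x, hx⟩) = 1 := hlH h3
    rw [map_mul, map_inv, inv_mul_eq_one] at h4
    exact h4.symm
  rw [Finset.sum_congr rfl (fun z hz => bz_fixed hY hl' hc (Finset.mem_filter.1 hz).2 x₀), Finset.sum_const, nsmul_eq_mul] at h1
  rcases mul_eq_zero.1 h1.symm with h2 | h2
  · rw [CharP.cast_eq_zero_iff (ZMod p) p] at h2
    have h3 := hS.card_modEq_card_fixedPoints (ZZ hK Y)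
    have h4 : Nat.card (MulAction.fixedPoints T (ZZ hK Y)) = (Finset.univ.filter (fun z => z ∈ MulAction.fixedPoints T (ZZ hK Y))).card := by
      rw [Nat.card_eq_fintype_card, ← Set.toFinset_card]
      congr 1
      ext z
      simp
    rw [← h4] at h2
    exact hY.card_Z ((h3.dvd_iff dvd_rfl).2 h2)
  · have h3 : (l x₀)⁻¹ = 1 := Multiplicative.toAdd.injective h2
    exact hx₀l (inv_eq_one.1 h3)

end Cfsg.Agent.Lib.YoshC
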