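import Cfsg.Agent.Lib.YoshC

/-!
Thompson's transfer lemma for fusion systems.
-/

set_option autoImplicit false
set_option linter.unusedSectionVars false
set_option linter.style.haveILetI false
set_option linter.unusedVariables false

namespace Cfsg.Agent.Lib.YoshD

open Cfsg Cfsg.FusionSystem Cfsg.Agent.Lib.FusBase Cfsg.Agent.Lib.FusSat Cfsg.Agent.Lib.StrongEmb
open Cfsg.Agent.Lib.FusAlperin Cfsg.Agent.Lib.FusNormal Cfsg.Agent.Lib.FusNormalB Cfsg.Agent.Lib.SylRel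
open Cfsg.Agent.Lib.FusSub Cfsg.Agent.Lib.FusPuig Cfsg.Agent.Lib.FusNK Cfsg.Agent.Lib.FusNKB Cfsg.Agent.Lib.FusMor Cfsg.Agent.Lib.FusGroup
open Cfsg.Agent.Lib.FusHyp Cfsg.Agent.Lib.FusHypB Cfsg.Agent.Lib.LabA Cfsg.Agent.Lib.LabB Cfsg.Agent.Lib.LabC
open Cfsg.Agent.Lib.BisA Cfsg.Agent.Lib.BisB Cfsg.Agent.Lib.BisC Cfsg.Agent.Lib.BisD Cfsg.Agent.Lib.BisE Cfsg.Agent.Lib.BisF
open Cfsg.Agent.Lib.YoshA Cfsg.Agent.Lib.YoshB Cfsg.Agent.Lib.YoshC
open scoped Classical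

universe u v w

theorem dvd_orbits {G : Type u} [Group G] {X : Type v} [MulAction G X] [Finite G] [Finite X] (d : ℕ) :
    ∀ (n : ℕ) (C : Set X), C.ncard = n → Inv G C → (∀ x ∈ C, d ∣ (MulAction.stabilizer G x).index) → d ∣ C.ncard := by
  intro n
  induction n using Nat.strong_induction_on with
  | _ n ih =>
  intro C hn hC hst
  by_cases hex : ∃ x, x ∈ C
  · obtain ⟨x, hx⟩ := hex
    have hO := orbit_subset hC hx
    have hlt : (C \ MulAction.orbit G x).ncard < n := by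
      rw [← hn]
      refine Set.ncard_lt_ncard ⟨Set.sdiff_subset, fun h5 => ?_⟩ (Set.toFinite _)
      exact (h5 hx).2 (MulAction.mem_orbit_self x)
    have h1 := ih _ hlt (C \ MulAction.orbit G x) rfl (hC.diff (inv_orbit x)) fun z hz => hst z hz.1
    have h2 : (C \ MulAction.orbit G x).ncard + (MulAction.orbit G x).ncard = C.ncard :=
      Set.ncard_sdiff_add_ncard_of_subset hO (Set.toFinite _)
    rw [← h2]
    refine dvd_add h1 ?_
    rw [← MulAction.index_stabilizer]; exact hst x hx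
  · have : C = ∅ := by
      ext z; exact ⟨fun h => hex ⟨z, h⟩, fun h => h.elim⟩
    rw [this, Set.ncard_empty]; exact dvd_zero _

variable {Ω : Type u} [Group Ω] {S : Subgroup Ω} {F : FusionSystem S} {p : ℕ} [Finite S] [hp : Fact p.Prime]
variable {P Q T : Subgroup Ω} {f g h : Ω → Ω} {hK : KS F p S}
variable {Y : Type u} [MulAction ↥(DD hK) Y] [Finite Y]

/-- the points where `i` acts as `j` -/
def YY' (hK : KS F p S) (Y : Type u) [MulAction ↥(DD hK) Y] (i j : S) : Set Y := {y | ll hK i • y = kk hK j • y}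

theorem YY'_eq (i j : S) : YY' hK Y i j = Fix Y (Subgroup.zpowers ((kk hK j)⁻¹ * ll hK i)) := by
  ext y
  rw [mem_Fix, Subgroup.zpowers_le, MulAction.mem_stabilizer_iff, mul_smul, inv_smul_eq_iff]
  exact Iff.rfl

theorem w_coe (i j : S) : (((kk hK j)⁻¹ * ll hK i : ↥(DD hK)) : Ω × Ω) = ((i : Ω), (j : Ω)⁻¹) := by
  refine Prod.ext ?_ ?_
  · show (1 : Ω)⁻¹ * i = i
    rw [inv_one, one_mul]
  · show (j : Ω)⁻¹ * 1 = (j : Ω)⁻¹
    rw [mul_one]

theorem w_zpow (i j : S) (n : ℤ) : (((((kk hK j)⁻¹ * ll hK i) ^ n : ↥(DD hK)) : Ω × Ω)) = ((i : Ω) ^ n, ((j : Ω)⁻¹) ^ n) := by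
  rw [Subgroup.coe_zpow, w_coe]
  rfl

theorem YY'_card (hS : IsPGroup p S) (hF : F.IsSaturated p) (hY : Bis hK Y) (i j j' : S) (hf : Mor F (Subgroup.zpowers (j : Ω)) f)
    (hfj : f j = j') : (YY' hK Y i j).ncard = (YY' hK Y i j').ncard := by
  rw [YY'_eq, YY'_eq]
  apply hY.marks
  have hle : pr2 hK (Subgroup.zpowers ((kk hK j)⁻¹ * ll hK i)) ≤ Subgroup.zpowers (j : Ω) := by
    intro x hx
    obtain ⟨w, ⟨n, hn⟩, rfl⟩ := (mem_pr2 hK).1 hx
    have hn : ((kk hK j)⁻¹ * ll hK i) ^ n = w := hn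
    rw [← hn, w_zpow]
    exact Subgroup.zpow_mem _ (Subgroup.inv_mem _ (Subgroup.mem_zpowers _)) n
  have hfz : ∀ n : ℤ, f (((j : Ω)⁻¹) ^ n) = ((j' : Ω)⁻¹) ^ n := by
    intro n
    rw [hf.zpow (Subgroup.inv_mem _ (Subgroup.mem_zpowers _)), hf.inv (Subgroup.mem_zpowers _), hfj]
  refine ⟨fun x => x, f, 1, Lab.one (pr1_le hK _), lab_top hS hF (hf.restrict hle), fun z => ⟨?_, ?_⟩⟩
  · rintro ⟨n, hn⟩
    have hn : ((kk hK j')⁻¹ * ll hK i) ^ n = z := hn
    refine ⟨((kk hK j)⁻¹ * ll hK i) ^ n, ⟨n, rfl⟩, ?_, ?_⟩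
    · rw [← hn, w_zpow, w_zpow]
    · rw [← hn, w_zpow, w_zpow]; exact (hfz n).symm
  · rintro ⟨_, ⟨n, rfl⟩, h1, h2⟩
    have h1 : z.1.1 = (((kk hK j)⁻¹ * ll hK i) ^ n).1.1 := h1
    have h2 : z.1.2 = f (((kk hK j)⁻¹ * ll hK i) ^ n).1.2 := h2
    rw [w_zpow] at h1 h2
    rw [hfz] at h2
    refine ⟨n, Subtype.ext ?_⟩
    show (((((kk hK j')⁻¹ * ll hK i) ^ n : ↥(DD hK)) : Ω × Ω)) = z
    rw [w_zpow]
    exact Prod.ext h1.symm h2.symm

/-- the centralizer acts freely -/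
theorem dvd_YY' (hY : Bis hK Y) (i j : S) : Nat.card (Subgroup.centralizer ({j} : Set S)) ∣ (YY' hK Y i j).ncard := by
  refine dvd_orbits (G := Subgroup.centralizer ({j} : Set S)) (X := Tw ((kk hK).comp (Subgroup.centralizer ({j} : Set S)).subtype) Y) _ _
    (YY' hK Y i j) rfl ?_ ?_
  · intro g y hy
    obtain ⟨y', hy'⟩ : ∃ y' : Y, y' = y := ⟨_, rfl⟩
    have hy : ll hK i • y' = kk hK j • y' := by rw [hy']; exact hy
    have goal : ll hK i • kk hK (g : S) • y' = kk hK j • kk hK (g : S) • y' := by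
      have h1 : j * (g : S) = g * j := (Subgroup.mem_centralizer_iff.1 g.2 j rfl)
      rw [← mul_smul, ll_kk, mul_smul, hy, ← mul_smul, ← mul_smul, ← map_mul, ← map_mul, h1]
    rw [hy'] at goal
    exact goal
  · intro y _
    have h1 : MulAction.stabilizer (Subgroup.centralizer ({j} : Set S)) (show Tw ((kk hK).comp (Subgroup.centralizer ({j} : Set S)).subtype) Y from y) = ⊥ := by
      rw [eq_bot_iff]
      intro g hg
      have h2 : kk hK (g : S) • (show Y from y) = y := hg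
      rw [Subgroup.mem_bot]
      exact Subtype.ext (hY.free h2)
    rw [h1, Subgroup.index_bot]

/-- conjugates as a set of elements of `S` -/
def CJ (F : FusionSystem S) (i : S) : Set S := {j | ∃ f, Mor F (Subgroup.zpowers (i : Ω)) f ∧ f i = j}

theorem CJ_mor {i j : S} (hj : j ∈ CJ F i) : ∃ f, Mor F (Subgroup.zpowers (j : Ω)) f ∧ f j = i := by
  obtain ⟨f, hf, hfi⟩ := hj
  have h1 : img (Subgroup.zpowers (i : Ω)) f = Subgroup.zpowers (j : Ω) := by
    ext x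
    rw [hf.mem_img]
    constructor
    · rintro ⟨_, ⟨n, rfl⟩, rfl⟩
      show f ((i : Ω) ^ n) ∈ _
      rw [hf.zpow (Subgroup.mem_zpowers _), hfi]
      exact Subgroup.zpow_mem _ (Subgroup.mem_zpowers _) n
    · rintro ⟨n, rfl⟩
      refine ⟨(i : Ω) ^ n, Subgroup.zpow_mem _ (Subgroup.mem_zpowers _) n, ?_⟩
      rw [hf.zpow (Subgroup.mem_zpowers _), hfi]
  obtain ⟨g, hg, hgf, _⟩ := hf.iso.symm
  rw [h1] at hg
  refine ⟨g, hg.mor, ?_⟩
  rw [← hfi]
  exact hgf i (Subgroup.mem_zpowers _)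

theorem mem_CJ_of (hY : Bis hK Y) {i j : S} (hj2 : (j : Ω)⁻¹ = j) {y : Y} (hy : y ∈ YY' hK Y i j) : j ∈ CJ F i := by
  obtain ⟨P, φ, hφ⟩ := hY.stab y
  have h2 : (kk hK j)⁻¹ * ll hK i ∈ MulAction.stabilizer ↥(DD hK) y := by
    rw [MulAction.mem_stabilizer_iff, mul_smul, inv_smul_eq_iff]; exact hy
  obtain ⟨h3, h4⟩ := (hφ.2 _).1 h2
  rw [w_coe] at h3 h4
  have h3 : (j : Ω)⁻¹ ∈ P := h3
  have h4 : (i : Ω) = φ (j : Ω)⁻¹ := h4
  rw [hj2] at h3 h4
  have h5 : Mor F (Subgroup.zpowers (j : Ω)) φ := hφ.1.mor.restrict (by rw [Subgroup.zpowers_le]; exact h3)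
  exact CJ_mor (i := j) (j := i) ⟨φ, h5, h4.symm⟩

/-- freeness -/
theorem YY'_disj (hY : Bis hK Y) {i j j' : S} {y : Y} (hy : y ∈ YY' hK Y i j) (hy' : y ∈ YY' hK Y i j') : j = j' := by
  have hy : ll hK i • y = kk hK j • y := hy
  have hy' : ll hK i • y = kk hK j' • y := hy'
  have h1 : kk hK (j'⁻¹ * j) • y = y := by
    rw [map_mul, mul_smul, ← hy, hy', map_inv, inv_smul_smul]
  have h2 := hY.free h1
  rw [inv_mul_eq_one] at h2
  exact h2.symm

theorem YY'_kk {i j : S} (s : S) {y : Y} (hy : y ∈ YY' hK Y i j) : kk hK s • y ∈ YY' hK Y i (s * j * s⁻¹) := by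
  have hy : ll hK i • y = kk hK j • y := hy
  show ll hK i • kk hK s • y = kk hK (s * j * s⁻¹) • kk hK s • y
  rw [← mul_smul, ll_kk, mul_smul, hy, ← mul_smul, ← mul_smul, ← map_mul, ← map_mul]
  congr 2
  group

/-- the counting of points over `T` -/
theorem card_YT (hY : Bis hK Y) {i : S} {W : Set S} (hW : ∀ j ∈ W, j ∈ CJ F i) {N : ℕ} (hN : ∀ j ∈ CJ F i, (YY' hK Y i j).ncard = N) :
    {y : Y | ∃ j ∈ W, y ∈ YY' hK Y i j}.ncard = W.ncard * N := by
  haveI : Fintype W := Fintype.ofFinite _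
  have h1 : Nat.card (Σ j : W, {y : Y // y ∈ YY' hK Y i j}) = W.ncard * N := by
    rw [Nat.card_sigma, Finset.sum_congr rfl (fun j _ => by
      show Nat.card {y : Y // y ∈ YY' hK Y i (j : S)} = N
      exact hN j (hW j j.2)), Finset.sum_const, smul_eq_mul, Finset.card_univ, Fintype.card_eq_nat_card]
    rfl
  rw [← h1]
  symm
  refine Nat.card_congr (Equiv.ofBijective (fun w : (Σ j : W, {y : Y // y ∈ YY' hK Y i j}) =>
    (⟨w.2.1, w.1, w.1.2, w.2.2⟩ : {y : Y | ∃ j ∈ W, y ∈ YY' hK Y i j})) ⟨?_, ?_⟩)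
  · rintro ⟨⟨j, hj⟩, ⟨y, hy⟩⟩ ⟨⟨j', hj'⟩, ⟨y', hy'⟩⟩ he
    have he : y = y' := congrArg Subtype.val he
    subst he
    have h2 : j = j' := YY'_disj hY hy hy'
    subst h2
    rfl
  · rintro ⟨y, j, hj, hy⟩
    exact ⟨⟨⟨j, hj⟩, ⟨y, hy⟩⟩, rfl⟩

/-- the counting of orbits over `T` -/
theorem card_ZT (hY : Bis hK Y) {i : S} {W : Set S} (hW : ∀ (s : S), ∀ j ∈ W, s * j * s⁻¹ ∈ W) :
    {y : Y | ∃ j ∈ W, y ∈ YY' hK Y i j}.ncard = Nat.card S * {z : ZZ hK Y | ∃ j ∈ W, z.out ∈ YY' hK Y i j}.ncard := by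
  have h1 : Nat.card (S × {z : ZZ hK Y | ∃ j ∈ W, z.out ∈ YY' hK Y i j}) = Nat.card S * {z : ZZ hK Y | ∃ j ∈ W, z.out ∈ YY' hK Y i j}.ncard :=
    Nat.card_prod _ _
  rw [← h1]
  symm
  have hm : ∀ (s : S) (y : Y), (∃ j ∈ W, y ∈ YY' hK Y i j) → ∃ j ∈ W, kk hK s • y ∈ YY' hK Y i j := by
    rintro s y ⟨j, hj, hy⟩
    exact ⟨_, hW s j hj, YY'_kk s hy⟩
  refine Nat.card_congr (Equiv.ofBijective (fun w : S × {z : ZZ hK Y | ∃ j ∈ W, z.out ∈ YY' hK Y i j} =>
    (⟨kk hK w.1 • w.2.1.out, hm _ _ w.2.2⟩ : {y : Y | ∃ j ∈ W, y ∈ YY' hK Y i j})) ⟨?_, ?_⟩)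
  · rintro ⟨s, ⟨z, hz⟩⟩ ⟨s', ⟨z', hz'⟩⟩ he
    have he : kk hK s • z.out = kk hK s' • z'.out := congrArg Subtype.val he
    have hij : z = z' := by
      rw [← Quotient.out_eq z, ← Quotient.out_eq z']
      refine Quotient.sound ⟨s'⁻¹ * s, ?_⟩
      rw [map_mul, mul_smul, he, map_inv, inv_smul_smul]
    subst hij
    have h2 : kk hK (s'⁻¹ * s) • z.out = z.out := by rw [map_mul, mul_smul, he, map_inv, inv_smul_smul]
    have h3 := hY.free h2
    rw [inv_mul_eq_one] at h3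
    subst h3
    rfl
  · rintro ⟨y, hy⟩
    obtain ⟨k, hk⟩ := out_spec (hK := hK) y
    refine ⟨(k⁻¹, ⟨Quotient.mk (zs hK Y) y, ?_⟩), Subtype.ext ?_⟩
    · show ∃ j ∈ W, (Quotient.out (Quotient.mk (zs hK Y) y)) ∈ YY' hK Y i j
      rw [hk]; exact hm k y hy
    · show kk hK k⁻¹ • (Quotient.out (Quotient.mk (zs hK Y) y)) = y
      rw [hk, map_inv, inv_smul_smul]

/-- `2 [S : C_S(j₀)]` divides the size of an invariant set of elements with smaller centralizers -/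
theorem dvd_W (hS : IsPGroup p S) {W : Set S} (hW : ∀ (s : S), ∀ j ∈ W, s * j * s⁻¹ ∈ W) (j₀ : S)
    (hlt : ∀ j ∈ W, Nat.card (Subgroup.centralizer ({j} : Set S)) < Nat.card (Subgroup.centralizer ({j₀} : Set S))) :
    p * (Subgroup.centralizer ({j₀} : Set S)).index ∣ W.ncard := by
  refine dvd_orbits (G := S) (X := Tw (MulAut.conj : S →* MulAut S) S) _ _ W rfl (fun g x hx => hW g x hx) ?_
  have key : ∀ x' : S, x' ∈ W → p * (Subgroup.centralizer ({j₀} : Set S)).index ∣ (Subgroup.centralizer ({x'} : Set S)).index := by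
    intro x hx
    have h2 := hlt x hx
    have h3 := (Subgroup.centralizer ({x} : Set S)).index_mul_card
    have h4 := (Subgroup.centralizer ({j₀} : Set S)).index_mul_card
    obtain ⟨n, hn⟩ := IsPGroup.iff_card.1 hS
    have hd1 : (Subgroup.centralizer ({x} : Set S)).index ∣ p ^ n := by rw [← hn, ← h3]; exact dvd_mul_right _ _
    have hd2 : (Subgroup.centralizer ({j₀} : Set S)).index ∣ p ^ n := by rw [← hn, ← h4]; exact dvd_mul_right _ _
    obtain ⟨a, _, ha⟩ := (Nat.dvd_prime_pow hp.out).1 hd1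
    obtain ⟨b, _, hb⟩ := (Nat.dvd_prime_pow hp.out).1 hd2
    have h5 : (Subgroup.centralizer ({j₀} : Set S)).index < (Subgroup.centralizer ({x} : Set S)).index := by
      by_contra hcon
      push Not at hcon
      have h6 : Nat.card S < Nat.card S := by
        conv_lhs => rw [← h3]
        conv_rhs => rw [← h4]
        exact lt_of_le_of_lt (Nat.mul_le_mul_right _ hcon) (Nat.mul_lt_mul_of_pos_left h2 (Nat.pos_of_ne_zero Subgroup.index_ne_zero_of_finite))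
      exact lt_irrefl _ h6
    rw [ha, hb] at h5 ⊢
    have h6 : b < a := (Nat.pow_lt_pow_iff_right hp.out.one_lt).1 h5
    rw [← pow_succ']
    exact pow_dvd_pow p h6
  intro x hx
  obtain ⟨x', hx'⟩ : ∃ x' : S, x' = x := ⟨_, rfl⟩
  have h1 : MulAction.stabilizer S x = Subgroup.centralizer ({x'} : Set S) := by
    ext g
    rw [Subgroup.mem_centralizer_iff]
    constructor
    · intro h
      have h : g * x' * g⁻¹ = x' := by rw [hx']; exact h
      rintro _ rfl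
      rw [mul_inv_eq_iff_eq_mul] at h
      exact h.symm
    · intro h
      have h := h x' rfl
      have h2 : g * x' * g⁻¹ = x' := by rw [mul_inv_eq_iff_eq_mul]; exact h.symm
      rw [hx'] at h2
      exact h2
  rw [h1]
  exact key x' (by rw [hx']; exact hx)

/-- the centralizer of an involution is the normalizer of the group it generates -/
theorem card_cent (j : S) (hj : orderOf j = 2) : Nat.card (Subgroup.centralizer ({j} : Set S)) = Nat.card (normalizerIn S (Subgroup.zpowers (j : Ω))) := by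
  have hj2 : (j : Ω) ^ 2 = 1 := by rw [← Subgroup.coe_pow, ← hj, pow_orderOf_eq_one]; rfl
  have hj1 : (j : Ω) ≠ 1 := by
    intro h
    have : j = 1 := Subtype.ext h
    rw [this, orderOf_one] at hj
    exact absurd hj (by norm_num)
  have hz : ∀ x ∈ Subgroup.zpowers (j : Ω), x = 1 ∨ x = j := by
    rintro _ ⟨n, rfl⟩
    show (j : Ω) ^ n = 1 ∨ (j : Ω) ^ n = j
    rcases Int.even_or_odd n with ⟨k, hk⟩ | ⟨k, hk⟩
    · left; rw [hk, ← two_mul, zpow_mul, zpow_ofNat, hj2, one_zpow]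
    · right; rw [hk, zpow_add, zpow_mul, zpow_ofNat, hj2, one_zpow, one_mul, zpow_one]
  have e1 : Nat.card ((Subgroup.centralizer ({j} : Set S)).map S.subtype) = Nat.card (Subgroup.centralizer ({j} : Set S)) :=
    Subgroup.card_map_of_injective S.subtype_injective
  rw [← e1]
  congr 2
  ext x
  rw [mem_normalizerIn]
  constructor
  · rintro ⟨y, hy, rfl⟩
    refine ⟨y.2, Subgroup.mem_normalizer_iff.2 fun h => ?_⟩
    have h1 : j * y = y * j := Subgroup.mem_centralizer_iff.1 hy j rfl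
    have h2 : Commute (y : Ω) (j : Ω) := (congrArg Subtype.val h1).symm
    show h ∈ Subgroup.zpowers (j : Ω) ↔ (y : Ω) * h * (y : Ω)⁻¹ ∈ Subgroup.zpowers (j : Ω)
    have h3 : ∀ h ∈ Subgroup.zpowers (j : Ω), (y : Ω) * h = h * y := by
      rintro _ ⟨n, rfl⟩
      exact (h2.zpow_right n).eq
    constructor
    · intro hh; rw [h3 h hh, mul_inv_cancel_right]; exact hh
    · intro hh
      have h4 := h3 _ hh
      have h5 : h = (y : Ω) * h * (y : Ω)⁻¹ := by
        have h6 : (y : Ω) * ((y : Ω) * h * (y : Ω)⁻¹) = (y : Ω) * h := by rw [h4]; group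
        exact (mul_left_cancel h6).symm
      rw [h5]; exact hh
  · rintro ⟨hxS, hx⟩
    refine ⟨⟨x, hxS⟩, ?_, rfl⟩
    rw [SetLike.mem_coe, Subgroup.mem_centralizer_iff]
    intro a ha
    have ha : a = j := ha
    rw [ha]
    have h1 := (Subgroup.mem_normalizer_iff.1 hx (j : Ω)).1 (Subgroup.mem_zpowers _)
    rcases hz _ h1 with h2 | h2
    · exfalso
      apply hj1
      rw [mul_inv_eq_one] at h2
      have h3 : x * (j : Ω) = x * 1 := by rw [mul_one]; exact h2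
      exact mul_left_cancel h3
    · apply Subtype.ext
      show (j : Ω) * x = x * j
      rw [mul_inv_eq_iff_eq_mul] at h2
      exact h2.symm

/-- **Thompson transfer** -/
theorem thompson {S : Subgroup Ω} [Finite S] {F : FusionSystem S} (hS : IsPGroup 2 S) (hF : F.IsSaturated 2) {T : Subgroup Ω} (hTS : T ≤ S) (hT : T.relIndex S = 2) (i : S) (hi : orderOf i = 2)
    (h : ∀ j ∈ CJ F i, F.IsFullyNormalized (Subgroup.zpowers (j : Ω)) → (j : Ω) ∉ T) : (i : Ω) ∉ F.focalSubgroup := by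
  intro hfoc
  haveI : Fact (Nat.Prime 2) := ⟨Nat.prime_two⟩
  obtain ⟨H, hH⟩ : ∃ H : Subgroup S, H = T.subgroupOf S := ⟨_, rfl⟩
  have hHi : H.index = 2 := by rw [hH]; exact hT
  have hmul := fun a b : S => Subgroup.mul_mem_iff_of_index_two hHi (a := a) (b := b)
  have hcomm : commutator S ≤ H := by
    rw [commutator_def, Subgroup.commutator_le]
    intro a _ b _
    rw [commutatorElement_def, hmul, hmul, hmul, inv_mem_iff, inv_mem_iff]
    tauto
  have hsq : ∀ x : S, x ^ 2 ∈ H := fun x => Subgroup.sq_mem_of_index_two hHi x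
  obtain ⟨x₁, hx₁⟩ : ∃ x : S, x ∉ H := by
    by_contra hcon
    push Not at hcon
    have : H = ⊤ := (Subgroup.eq_top_iff' H).2 hcon
    rw [this, Subgroup.index_top] at hHi
    exact absurd hHi (by norm_num)
  obtain ⟨l, hlH, hlx⟩ := exists_l (p := 2) hcomm hsq hx₁
  have hlk : ∀ k : S, k ∉ H → Multiplicative.toAdd (l k) = 1 := by
    intro k hk
    have h1 : l k ≠ 1 := by
      intro h2
      apply hlx
      have h3 : x₁ * k ∈ H := by rw [hmul]; exact ⟨fun h => absurd h hx₁, fun h => absurd h hk⟩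
      have h4 : l (x₁ * k) = 1 := hlH h3
      rwa [map_mul, h2, mul_one] at h4
    have h2 : Multiplicative.toAdd (l k) ≠ 0 := fun h3 => h1 (Multiplicative.toAdd.injective h3)
    generalize Multiplicative.toAdd (l k) = a at h2
    fin_cases a
    · exact absurd rfl h2
    · rfl
  have hl : LInv S l := by
    intro s hs k h1
    have : (⟨s * k * s⁻¹, h1⟩ : S) = ⟨s, hs⟩ * k * ⟨s, hs⟩⁻¹ := rfl
    rw [this, map_mul, map_mul, map_inv, mul_comm (l _) (l k), mul_assoc, mul_inv_cancel, mul_one]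
  have hK : KS F 2 S := ks_top
  obtain ⟨Y, _, _, hY⟩ := exists_Bis hS hF hK
  obtain ⟨c, hc⟩ := exists_eqv hY l
  have hsum := sum_inv hS hF hY hl hc hfoc
  have hii : i * i = 1 := by rw [← sq, ← hi, pow_orderOf_eq_one]
  have hcj2 : ∀ j ∈ CJ F i, orderOf j = 2 := by
    rintro j ⟨f, hf, hfi⟩
    have h3 : orderOf (f i) = orderOf (i : Ω) := orderOf_eq_orderOf_iff.2 fun n => by
      rw [← hf.pow (Subgroup.mem_zpowers _)]
      exact ⟨fun h => hf.eq_one (Subgroup.pow_mem _ (Subgroup.mem_zpowers _) n) h, fun h => by rw [h, hf.one]⟩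
    rw [hfi, Subgroup.orderOf_coe, Subgroup.orderOf_coe, hi] at h3
    exact h3
  have hcinv : ∀ j : S, orderOf j = 2 → (j : Ω)⁻¹ = j := by
    intro j hj
    have h1 : j ^ 2 = 1 := by rw [← hj, pow_orderOf_eq_one]
    rw [inv_eq_iff_mul_eq_one, ← sq, ← Subgroup.coe_pow, h1]; rfl
  have hcc : ∀ (s : S), ∀ j ∈ CJ F i, s * j * s⁻¹ ∈ CJ F i := by
    rintro s j ⟨f, hf, hfi⟩
    refine ⟨fun x => (s : Ω) * f x * (s : Ω)⁻¹, hf.comp (mor_conj F le_rfl s.2) (fun x hx => hf.mem hx), ?_⟩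
    show (s : Ω) * f i * (s : Ω)⁻¹ = _
    rw [hfi]; rfl
  have hiS : Subgroup.zpowers (i : Ω) ≤ S := by rw [Subgroup.zpowers_le]; exact i.2
  obtain ⟨Q, hQ1, hQ2⟩ := exists_FN F hiS
  obtain ⟨f₀, hf₀⟩ := isConj_iff.1 hQ1
  obtain ⟨j₀, hj₀⟩ : ∃ j₀ : S, (j₀ : Ω) = f₀ i := ⟨⟨f₀ i, hf₀.mor.mem (Subgroup.mem_zpowers _)⟩, rfl⟩
  have hj₀C : j₀ ∈ CJ F i := ⟨f₀, hf₀.mor, hj₀.symm⟩
  have hQj : Q = Subgroup.zpowers (j₀ : Ω) := by
    ext x
    rw [hf₀.mem_right]
    constructor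
    · rintro ⟨_, ⟨n, rfl⟩, rfl⟩
      show f₀ ((i : Ω) ^ n) ∈ _
      rw [hf₀.mor.zpow (Subgroup.mem_zpowers _), hj₀]
      exact Subgroup.zpow_mem _ (Subgroup.mem_zpowers _) n
    · rintro ⟨n, rfl⟩
      refine ⟨(i : Ω) ^ n, Subgroup.zpow_mem _ (Subgroup.mem_zpowers _) n, ?_⟩
      rw [hf₀.mor.zpow (Subgroup.mem_zpowers _), ← hj₀]
  obtain ⟨W, hWd⟩ : ∃ W : Set S, W = {j | j ∈ CJ F i ∧ j ∈ H} := ⟨_, rfl⟩
  have hHn : H.Normal := Subgroup.normal_of_index_eq_two hHi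
  have hWc : ∀ (s : S), ∀ j ∈ W, s * j * s⁻¹ ∈ W := by
    intro s j hj
    rw [hWd] at hj ⊢
    exact ⟨hcc s j hj.1, hHn.conj_mem j hj.2 s⟩
  have hWC : ∀ j ∈ W, j ∈ CJ F i := fun j hj => by rw [hWd] at hj; exact hj.1
  have hlt : ∀ j ∈ W, Nat.card (Subgroup.centralizer ({j} : Set S)) < Nat.card (Subgroup.centralizer ({j₀} : Set S)) := by
    intro j hj
    have hjC := hWC j hj
    by_contra hcon
    push Not at hcon
    rw [hWd] at hj
    have hjH : (j : Ω) ∈ T := by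
      have := hj.2
      rwa [hH, Subgroup.mem_subgroupOf] at this
    refine h j hjC ⟨by rw [Subgroup.zpowers_le]; exact j.2, fun Q' hQ' => ?_⟩ hjH
    rw [card_cent j (hcj2 j hjC), card_cent j₀ (hcj2 j₀ hj₀C), ← hQj] at hcon
    refine le_trans (hQ2.2 Q' ?_) hcon
    refine isConj_trans ?_ hQ'
    refine isConj_trans (isConj_symm hQ1) ?_
    obtain ⟨f, hf, hfi⟩ := hjC
    rw [FusBase.isConj_iff]
    refine ⟨f, Iso.mk' hf ?_ ?_⟩
    · rintro _ ⟨n, rfl⟩
      show f ((i : Ω) ^ n) ∈ _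
      rw [hf.zpow (Subgroup.mem_zpowers _), hfi]
      exact Subgroup.zpow_mem _ (Subgroup.mem_zpowers _) n
    · rintro _ ⟨n, rfl⟩
      refine ⟨(i : Ω) ^ n, Subgroup.zpow_mem _ (Subgroup.mem_zpowers _) n, ?_⟩
      rw [hf.zpow (Subgroup.mem_zpowers _), hfi]
  have hN : ∀ j ∈ CJ F i, (YY' hK Y i j).ncard = (YY' hK Y i i).ncard := by
    intro j hj
    obtain ⟨f, hf, hfj⟩ := CJ_mor hj
    exact YY'_card hS hF hY i j i hf hfj
  have e1 := card_YT hY hWC hN
  have e2 := card_ZT hY (i := i) hWc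
  rw [e1] at e2
  obtain ⟨M, hM⟩ : ∃ M, M = {z : ZZ hK Y | ∃ j ∈ W, z.out ∈ YY' hK Y i j}.ncard := ⟨_, rfl⟩
  rw [← hM] at e2
  have hMe : 2 ∣ M := by
    obtain ⟨u, hu⟩ := dvd_YY' hY i j₀
    rw [hN j₀ hj₀C] at hu
    obtain ⟨t, ht⟩ := dvd_W hS hWc j₀ hlt
    have h4 := (Subgroup.centralizer ({j₀} : Set S)).index_mul_card
    refine ⟨t * u, Nat.eq_of_mul_eq_mul_left (Nat.card_pos (α := S)) ?_⟩
    rw [← e2, ht, hu, ← h4]
    ring
  have hb := bz_coc hc
  have key : ∑ z : ZZ hK Y, (bz c z i + (if z ∈ {z : ZZ hK Y | ∃ j ∈ W, z.out ∈ YY' hK Y i j} then 1 else 0) - 1) = 0 := by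
    have hfx : ∀ z : ZZ hK Y, i • z = z → bz c z i + (if z ∈ {z : ZZ hK Y | ∃ j ∈ W, z.out ∈ YY' hK Y i j} then 1 else 0) - 1 = 0 := by
      intro z hz
      have h1 : (Quotient.mk (zs hK Y) z.out : ZZ hK Y) = Quotient.mk (zs hK Y) (ll hK i • z.out) := by
        rw [← smul_mk, Quotient.out_eq, hz]
      obtain ⟨k, hk⟩ := Quotient.exact h1
      have hkk : k * k = 1 := by
        apply hY.free (y := z.out)
        rw [map_mul, mul_smul, ← hk, ← mul_smul, ← ll_kk, mul_smul, ← hk, ← mul_smul, ← map_mul, hii, map_one, one_smul]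
      have hkinv : (k : Ω)⁻¹ = k := by
        rw [inv_eq_iff_mul_eq_one]; exact congrArg Subtype.val hkk
      have hkY : z.out ∈ YY' hK Y i k := hk
      have hbz : bz c z i = Multiplicative.toAdd (l k) := by
        show Multiplicative.toAdd (c (ll hK i • z.out) * (c z.out)⁻¹) = _
        rw [hk, hc, mul_inv_cancel_right]
      by_cases hkH : k ∈ H
      · have h2 : z ∈ {z : ZZ hK Y | ∃ j ∈ W, z.out ∈ YY' hK Y i j} := ⟨k, by rw [hWd]; exact ⟨mem_CJ_of hY hkinv hkY, hkH⟩, hkY⟩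
        have h3 : l k = 1 := hlH hkH
        rw [if_pos h2, hbz, h3, toAdd_one, zero_add, sub_self]
      · have h2 : z ∉ {z : ZZ hK Y | ∃ j ∈ W, z.out ∈ YY' hK Y i j} := by
          rintro ⟨j, hj, hjY⟩
          have h3 := YY'_disj hY hkY hjY
          rw [← h3, hWd] at hj
          exact hkH hj.2
        rw [if_neg h2, hbz, hlk k hkH, add_zero, sub_self]
    have hnf : ∀ z : ZZ hK Y, z ∈ {z : ZZ hK Y | ∃ j ∈ W, z.out ∈ YY' hK Y i j} → i • z = z := by
      rintro z ⟨j, hj, hjY⟩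
      have hjY : ll hK i • z.out = kk hK j • z.out := hjY
      have h1 : i • (Quotient.mk (zs hK Y) z.out : ZZ hK Y) = Quotient.mk (zs hK Y) z.out := by
        rw [smul_mk, hjY]
        exact (Quotient.sound (s := zs hK Y) ⟨j, rfl⟩).symm
      rwa [Quotient.out_eq] at h1
    have hiz : ∀ z : ZZ hK Y, i • i • z = z := fun z => by rw [← mul_smul, hii, one_smul]
    refine Finset.sum_involution (fun z _ => i • z) (fun z _ => ?_) (fun z _ hz => ?_) (fun z _ => Finset.mem_univ _) (fun z _ => hiz z)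
    · by_cases hz : i • z = z
      · rw [hz, hfx z hz, add_zero]
      · have h1 : z ∉ {z : ZZ hK Y | ∃ j ∈ W, z.out ∈ YY' hK Y i j} := fun h1 => hz (hnf z h1)
        have h2 : i • z ∉ {z : ZZ hK Y | ∃ j ∈ W, z.out ∈ YY' hK Y i j} := fun h1 => hz (by
          have h3 := hnf _ h1
          rw [hiz] at h3
          exact h3.symm)
        rw [if_neg h1, if_neg h2]
        have h3 := hb.mul z i i
        rw [hii, hb.one] at h3
        have h4 : (2 : ZMod 2) = 0 := rfl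
        linear_combination -h3 - h4
    · intro h1
      exact hz (hfx z h1)
  rw [Finset.sum_sub_distrib, Finset.sum_add_distrib, hsum, zero_add, Finset.sum_boole, Finset.sum_const, nsmul_eq_mul, mul_one] at key
  have h5 : (Finset.univ.filter (fun z : ZZ hK Y => z ∈ {z : ZZ hK Y | ∃ j ∈ W, z.out ∈ YY' hK Y i j})).card = M := by
    rw [hM, Set.ncard_eq_toFinset_card']
    congr 1
    ext z
    simp
  rw [h5, (CharP.cast_eq_zero_iff (ZMod 2) 2 M).2 hMe, zero_sub, neg_eq_zero, CharP.cast_eq_zero_iff (ZMod 2) 2, Finset.card_univ,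
    Fintype.card_eq_nat_card] at key
  exact hY.card_Z key

end Cfsg.Agent.Lib.YoshD
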