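import Cfsg.Agent.Lib.ZStarE
import Cfsg.Agent.Lib.OmegaFix
import Cfsg.Agent.Lib.PGrpC
import Cfsg.Agent.Lib.Cyc
import Cfsg.Agent.Lib.IsoInv

/-!
Isolated `p`-elements and isolated involutions, helper3.
-/

set_option autoImplicit false
set_option linter.style.haveILetI false
set_option linter.unusedVariables false
set_option linter.unusedSectionVars false
set_option linter.unusedDecidableInType false
set_option linter.unusedFintypeInType false
set_option linter.unusedSimpArgs false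

namespace Cfsg.Agent.Lib.Isol
open Cfsg Cfsg.Agent.Lib.Cores Cfsg.Agent.Lib.PNilp Cfsg.Agent.Lib.Coprime Pointwise

universe u

variable {G : Type u} [Group G] [Finite G] {p : ℕ} [hp : Fact p.Prime]

theorem iso_conj {x : G} (h : IsIsolated x) (g : G) : IsIsolated (g * x * g⁻¹) := by
  intro k hk
  have h1 : Commute x ((g⁻¹ * k * g) * x * (g⁻¹ * k * g)⁻¹) := by
    have h2 := hk.map (MulAut.conj g⁻¹).toMonoidHom
    have e1 : (MulAut.conj g⁻¹).toMonoidHom (g * x * g⁻¹) = x := by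
      change g⁻¹ * (g * x * g⁻¹) * g⁻¹⁻¹ = x; group
    have e2 : (MulAut.conj g⁻¹).toMonoidHom (k * (g * x * g⁻¹) * k⁻¹) = (g⁻¹ * k * g) * x * (g⁻¹ * k * g)⁻¹ := by
      change g⁻¹ * (k * (g * x * g⁻¹) * k⁻¹) * g⁻¹⁻¹ = _; group
    rw [e1, e2] at h2; exact h2
  have h2 := h _ h1
  calc k * (g * x * g⁻¹) * k⁻¹ = g * ((g⁻¹ * k * g) * x * (g⁻¹ * k * g)⁻¹) * g⁻¹ := by group
    _ = g * x * g⁻¹ := by rw [h2]

theorem iso_sub {x : G} (h : IsIsolated x) {H : Subgroup G} (hx : x ∈ H) : IsIsolated (⟨x, hx⟩ : H) := by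
  intro g hg
  apply Subtype.ext
  exact h g (congrArg (Subtype.val) hg)

/-- an isolated `p`-element is central in every `p`-subgroup containing it -/
theorem iso_central {x : G} (h : IsIsolated x) {R : Subgroup G} (hR : IsPGroup p R) (hx : x ∈ R) {r : G}
    (hr : r ∈ R) : x * r = r * x := by
  set D : Subgroup G := R ⊓ Subgroup.centralizer ({x} : Set G) with hD
  have hDR : D = R := by
    by_contra hne
    have hlt : D < R := lt_of_le_of_ne inf_le_left hne
    have hnil : Group.IsNilpotent R := hR.isNilpotent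
    have h1 := lt_inf_normalizer hnil hlt
    obtain ⟨y, hy, hyD⟩ := SetLike.exists_of_lt h1
    apply hyD
    have hxD : x ∈ D := ⟨hx, Subgroup.mem_centralizer_singleton_iff.mpr rfl⟩
    have h2 : y * x * y⁻¹ ∈ D := (Subgroup.mem_normalizer_iff.mp hy.2 x).mp hxD
    have h3 : y * x * y⁻¹ = x := h y (by
      have := Subgroup.mem_centralizer_singleton_iff.mp h2.2
      exact this.symm)
    refine ⟨hy.1, Subgroup.mem_centralizer_singleton_iff.mpr ?_⟩
    calc y * x = (y * x * y⁻¹) * y := by group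
      _ = x * y := by rw [h3]
  have h1 : r ∈ D := by rw [hDR]; exact hr
  exact (Subgroup.mem_centralizer_singleton_iff.mp h1.2).symm

/-- fusion of an isolated `p`-element inside a subgroup is controlled by that subgroup -/
theorem iso_conj_in {x : G} (hx : ∃ k : ℕ, orderOf x = p ^ k) (h : IsIsolated x) {M : Subgroup G} (hxM : x ∈ M)
    {g : G} (hg : g * x * g⁻¹ ∈ M) : ∃ m ∈ M, m * x * m⁻¹ = g * x * g⁻¹ := by
  have hxp : IsPGroup p (Subgroup.zpowers (⟨x, hxM⟩ : M)) := by
    obtain ⟨k, hk⟩ := hx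
    apply IsPGroup.of_card (n := k)
    rw [Nat.card_zpowers, ← Subgroup.orderOf_coe]; exact hk
  have hyp : IsPGroup p (Subgroup.zpowers (⟨g * x * g⁻¹, hg⟩ : M)) := by
    obtain ⟨k, hk⟩ := hx
    apply IsPGroup.of_card (n := k)
    rw [Nat.card_zpowers, ← Subgroup.orderOf_coe]
    change orderOf (g * x * g⁻¹) = _
    rw [Cfsg.Agent.Lib.BlockHt.orderOf_conj]; exact hk
  obtain ⟨T, hT⟩ := hxp.exists_le_sylow
  obtain ⟨U, hU⟩ := hyp.exists_le_sylow
  obtain ⟨m, hm⟩ := MulAction.exists_smul_eq M U T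
  have h1 : m * (⟨g * x * g⁻¹, hg⟩ : M) * m⁻¹ ∈ (T : Subgroup M) := by
    rw [← hm]
    exact ⟨_, hU (Subgroup.mem_zpowers _), rfl⟩
  have h2 := iso_central (p := p) (iso_sub h hxM) T.isPGroup' (hT (Subgroup.mem_zpowers _)) h1
  have h3 : x * (m * (g * x * g⁻¹) * (m : G)⁻¹) = (m * (g * x * g⁻¹) * (m : G)⁻¹) * x := congrArg Subtype.val h2
  have h4 := h (m * g) (by
    have e : (m : G) * g * x * (m * g)⁻¹ = m * (g * x * g⁻¹) * (m : G)⁻¹ := by group
    rw [e]; exact h3)
  refine ⟨(m : G)⁻¹, M.inv_mem m.2, ?_⟩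
  calc (m : G)⁻¹ * x * (m : G)⁻¹⁻¹ = (m : G)⁻¹ * ((m : G) * g * x * (m * g)⁻¹) * (m : G)⁻¹⁻¹ := by rw [h4]
    _ = g * x * g⁻¹ := by group

/-- powers of an isolated `p`-element do not fuse inside a Sylow subgroup -/
theorem iso_pow {x : G} (hx : ∃ k : ℕ, orderOf x = p ^ k) (h : IsIsolated x) {P : Subgroup G} (hP : IsPGroup p P)
    (hxP : x ∈ P) {y : G} (hy : y ∈ Subgroup.zpowers x) {g : G} (hg : g * y * g⁻¹ ∈ P) : g * y * g⁻¹ = y := by
  obtain ⟨k, rfl⟩ := Subgroup.mem_zpowers_iff.mp hy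
  have h1 : x ∈ Subgroup.centralizer ({g * x ^ k * g⁻¹} : Set G) :=
    Subgroup.mem_centralizer_singleton_iff.mpr (iso_central h hP hxP hg)
  have h2 : g * x * g⁻¹ ∈ Subgroup.centralizer ({g * x ^ k * g⁻¹} : Set G) := by
    rw [Subgroup.mem_centralizer_singleton_iff]
    have h3 : x * x ^ k = x ^ k * x := (Commute.refl x).zpow_right k
    calc g * x * g⁻¹ * (g * x ^ k * g⁻¹) = g * (x * x ^ k) * g⁻¹ := by group
      _ = g * x ^ k * g⁻¹ * (g * x * g⁻¹) := by rw [h3]; group
  obtain ⟨m, hm, hmx⟩ := iso_conj_in hx h h1 h2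
  have h3 : m * x ^ k * m⁻¹ = g * x ^ k * g⁻¹ := by
    have := congrArg (fun t => t ^ k) hmx
    simpa [conj_zpow] using this
  have h4 := Subgroup.mem_centralizer_singleton_iff.mp hm
  rw [← h3] at h4
  have h5 : m * (m * x ^ k * m⁻¹) * m⁻¹ = m * x ^ k * m⁻¹ := by rw [h4]; group
  have h6 : m * x ^ k * m⁻¹ = x ^ k := by
    calc m * x ^ k * m⁻¹ = m⁻¹ * (m * (m * x ^ k * m⁻¹) * m⁻¹) * m := by group
      _ = m⁻¹ * (m * x ^ k * m⁻¹) * m := by rw [h5]
      _ = x ^ k := by group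
  rw [← h3, h6]

theorem iso_normalizer {x : G} (h : IsIsolated x) {R : Subgroup G} (hR : IsPGroup p R) (hx : x ∈ R) :
    Subgroup.normalizer (R : Set G) ≤ Subgroup.centralizer ({x} : Set G) := by
  intro g hg
  have h1 : g * x * g⁻¹ ∈ R := (Subgroup.mem_normalizer_iff.mp hg x).mp hx
  have h2 := h g (iso_central h hR hx h1)
  rw [Subgroup.mem_centralizer_singleton_iff]
  calc g * x = (g * x * g⁻¹) * g := by group
    _ = x * g := by rw [h2]

theorem iso_quot {x : G} (hx : ∃ k : ℕ, orderOf x = p ^ k) (h : IsIsolated x) (N : Subgroup G) [N.Normal] :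
    IsIsolated (QuotientGroup.mk x : G ⧸ N) := by
  intro g hg
  obtain ⟨g, rfl⟩ := QuotientGroup.mk'_surjective N g
  set M : Subgroup G := (Subgroup.centralizer ({(QuotientGroup.mk x : G ⧸ N)} : Set (G ⧸ N))).comap
    (QuotientGroup.mk' N) with hM
  have h1 : x ∈ M := by
    rw [hM, Subgroup.mem_comap, Subgroup.mem_centralizer_singleton_iff]; rfl
  have h2 : g * x * g⁻¹ ∈ M := by
    rw [hM, Subgroup.mem_comap, Subgroup.mem_centralizer_singleton_iff]
    exact hg.symm
  obtain ⟨m, hm, hmx⟩ := iso_conj_in hx h h1 h2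
  rw [hM, Subgroup.mem_comap, Subgroup.mem_centralizer_singleton_iff] at hm
  have h3 := congrArg (QuotientGroup.mk' N) hmx
  rw [map_mul, map_mul, map_inv, map_mul, map_mul, map_inv] at h3
  change QuotientGroup.mk' N g * QuotientGroup.mk' N x * (QuotientGroup.mk' N g)⁻¹ = QuotientGroup.mk' N x
  rw [← h3]
  have h4 : QuotientGroup.mk' N m * QuotientGroup.mk' N x = QuotientGroup.mk' N x * QuotientGroup.mk' N m := hm
  rw [h4]; group

/-- a non-trivial isolated `p`-element and cyclic Sylow `p`-subgroups give a normal `p`-complement -/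
theorem pNil_of_iso {x : G} (hx : ∃ k : ℕ, orderOf x = p ^ k) (h : IsIsolated x) (hx1 : x ≠ 1)
    (hc : ∀ P : Sylow p G, IsCyclic (P : Subgroup G)) : PNil p G := by
  obtain ⟨P, hP⟩ : ∃ P : Sylow p G, x ∈ (P : Subgroup G) := by
    have hxp : IsPGroup p (Subgroup.zpowers x) := by
      obtain ⟨k, hk⟩ := hx
      exact IsPGroup.of_card (n := k) (by rw [Nat.card_zpowers]; exact hk)
    obtain ⟨T, hT⟩ := hxp.exists_le_sylow
    exact ⟨T, hT (Subgroup.mem_zpowers _)⟩
  by_cases hp2 : p = 2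
  · subst hp2
    have hmin : (Nat.card G).minFac = 2 := by
      apply (Nat.minFac_eq_two_iff _).mpr
      obtain ⟨k, hk⟩ := hx
      have hk0 : k ≠ 0 := by
        rintro rfl
        exact hx1 (orderOf_eq_one_iff.mp (by simpa using hk))
      exact (dvd_pow_self 2 hk0).trans (hk ▸ orderOf_dvd_natCard x)
    have h1 := IsCyclic.isComplement' hmin (hc P)
    exact pNil_of_isComplement' (MonoidHom.normal_ker _) h1
  · apply pNil_of_frobCond
    intro Q hQ g hg hgo
    obtain ⟨T, hT⟩ := hQ.exists_le_sylow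
    obtain ⟨y, hy⟩ := MulAction.exists_smul_eq G P T
    have hxT : y * x * y⁻¹ ∈ (T : Subgroup G) := by rw [← hy]; exact ⟨x, hP, rfl⟩
    have hxo : ∃ k : ℕ, orderOf (y * x * y⁻¹) = p ^ k := by
      rw [Cfsg.Agent.Lib.BlockHt.orderOf_conj]; exact hx
    have hx1' : y * x * y⁻¹ ≠ 1 := by
      intro h1; apply hx1
      calc x = y⁻¹ * (y * x * y⁻¹) * y := by group
        _ = 1 := by rw [h1]; group
    have hT' := hc T
    have hgQ : Subgroup.zpowers g ≤ Subgroup.normalizer (Q : Set G) := by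
      rw [Subgroup.zpowers_le]; exact hg
    have h1 := Cfsg.Agent.Lib.OmegaFix.omega_fix (A := Subgroup.zpowers g) (K := Q) (p := p)
      (by rw [Nat.card_zpowers]; exact hgo) hQ hgQ (by
        intro w hw hwo a ha
        rcases hwo with hwo | hwo
        swap
        · exact absurd hwo.1 hp2
        -- `w` is a power of `y x y⁻¹`
        have hwT : w ∈ (T : Subgroup G) := hT hw
        have hwx : w ∈ Subgroup.zpowers (y * x * y⁻¹) := by
          have hdvd : p ∣ orderOf (y * x * y⁻¹) := by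
            obtain ⟨k, hk⟩ := hxo
            have hk0 : k ≠ 0 := by
              rintro rfl
              exact hx1' (orderOf_eq_one_iff.mp (by simpa using hk))
            rw [hk]; exact dvd_pow_self p hk0
          have h2 : Subgroup.zpowers (⟨w, hwT⟩ : T) ≤ Subgroup.zpowers (⟨y * x * y⁻¹, hxT⟩ : T) := by
            haveI : IsCyclic (T : Subgroup G) := hT'
            apply Cfsg.Agent.Lib.Cyc.le_of_card_dvd
            rw [Nat.card_zpowers, Nat.card_zpowers, ← Subgroup.orderOf_coe, ← Subgroup.orderOf_coe]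
            change orderOf w ∣ orderOf (y * x * y⁻¹)
            rw [hwo]; exact hdvd
          have h3 := h2 (Subgroup.mem_zpowers _)
          rw [Subgroup.mem_zpowers_iff] at h3 ⊢
          obtain ⟨k, hk⟩ := h3
          exact ⟨k, congrArg Subtype.val hk⟩
        have haQ : a * w * a⁻¹ ∈ Q := (Subgroup.mem_normalizer_iff.mp (hgQ ha) w).mp hw
        have h4 := iso_pow hxo (iso_conj h y) T.isPGroup' hxT hwx (g := a) (hT haQ)
        calc a * w = (a * w * a⁻¹) * a := by group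
          _ = w * a := by rw [h4])
    exact h1 (Subgroup.mem_zpowers g)

/-- an odd-order normal subgroup times a `p`-group: an involution central modulo `O(G)` normalizes a Sylow
`p`-subgroup -/
theorem exists_inv_sylow_aux (p : ℕ) [hp : Fact p.Prime] (hp2 : p ≠ 2) {z : G} (hz : z ^ 2 = 1)
    (hZ : ∀ g : G, z * g * z⁻¹ * g⁻¹ ∈ pPrimeCore 2 G) :
    ∃ P : Sylow p G, z ∈ Subgroup.normalizer ((P : Subgroup G) : Set G) := by
  have hKn : (pPrimeCore 2 G : Subgroup G).Normal := Cfsg.Agent.Lib.Cores.pPrimeCore_normal (G := G) 2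
  obtain ⟨P⟩ := (inferInstance : Nonempty (Sylow p G))
  set L : Subgroup G := pPrimeCore 2 G ⊔ (P : Subgroup G) with hL
  have hzL : z ∈ Subgroup.normalizer (L : Set G) := by
    have h1 : ∀ w : G, (∀ g : G, w * g * w⁻¹ * g⁻¹ ∈ pPrimeCore 2 G) → ∀ x ∈ L, w * x * w⁻¹ ∈ L := by
      intro w hw x hx
      have e : w * x * w⁻¹ = (w * x * w⁻¹ * x⁻¹) * x := by group
      rw [e]
      exact L.mul_mem ((le_sup_left : pPrimeCore 2 G ≤ L) (hw x)) hx
    rw [Subgroup.mem_normalizer_iff]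
    intro x
    constructor
    · exact h1 z hZ x
    · intro hx
      have hzi : z⁻¹ = z := inv_eq_of_mul_eq_one_left (by rw [← sq]; exact hz)
      have h2 := h1 z hZ _ hx
      have e : z * (z * x * z⁻¹) * z⁻¹ = x := by
        rw [hzi]
        calc z * (z * x * z) * z = (z ^ 2) * x * (z ^ 2) := by rw [sq]; group
          _ = x := by rw [hz]; group
      rwa [e] at h2
  have hLodd : Odd (Nat.card L) := by
    rcases Nat.even_or_odd (Nat.card L) with h1 | h1
    · exfalso
      have h2 : Nat.card L ∣ Nat.card (pPrimeCore 2 G : Subgroup G) * Nat.card (P : Subgroup G) := by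
        exact Cfsg.Agent.Lib.Cores.card_sup_dvd (by rw [Subgroup.normalizer_eq_top_iff.mpr hKn]; exact le_top)
      rcases (Nat.prime_two.dvd_mul).mp (h1.two_dvd.trans h2) with h3 | h3
      · exact pPrimeCore_not_dvd (G := G) 2 h3
      · obtain ⟨k, hk⟩ := P.isPGroup'.exists_card_eq
        rw [hk] at h3
        exact hp2 ((Nat.prime_dvd_prime_iff_eq Nat.prime_two hp.out).mp (Nat.prime_two.dvd_of_dvd_pow h3)).symm
    · exact h1
  have hA : Subgroup.zpowers z ≤ Subgroup.normalizer (L : Set G) := by rw [Subgroup.zpowers_le]; exact hzL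
  have hcop : (Nat.card (Subgroup.zpowers z)).Coprime (Nat.card L) := by
    have h1 : Nat.card (Subgroup.zpowers z) ∣ 2 := by
      rw [Nat.card_zpowers]; exact orderOf_dvd_of_pow_eq_one hz
    exact Nat.Coprime.coprime_dvd_left h1 (Nat.coprime_two_left.mpr hLodd)
  obtain ⟨Q, hQ⟩ := exists_invariant_sylow hA hcop (Or.inl inferInstance) p
  have hQp : IsPGroup p ((Q : Subgroup L).map L.subtype) := Q.isPGroup'.map _
  have hQi : ¬ p ∣ ((Q : Subgroup L).map L.subtype).index := by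
    rw [Subgroup.index_map_subtype]
    intro h1
    rcases hp.out.dvd_mul.mp h1 with h2 | h2
    · exact Q.not_dvd_index h2
    · exact P.not_dvd_index (h2.trans (Subgroup.index_dvd_of_le le_sup_right))
  refine ⟨hQp.toSylow hQi, ?_⟩
  exact hQ (Subgroup.mem_zpowers z)

theorem two_pow_of_iso {z : G} (hz : IsIsolatedInvolution z) : ∃ k : ℕ, orderOf z = 2 ^ k := ⟨1, by rw [hz.1]; rfl⟩

theorem zs_of_iso {z : G} (hz : IsIsolatedInvolution z) (g : G) : z * g * z⁻¹ * g⁻¹ ∈ pPrimeCore 2 G :=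
  Cfsg.Agent.Lib.ZStar.zstar (by rw [← hz.1]; exact pow_orderOf_eq_one z)
    (Cfsg.Agent.Lib.ZStar.oddCond_of_isolated (by rw [← hz.1]; exact pow_orderOf_eq_one z) hz.2) g

theorem exists_inv_sylow {z : G} (hz : IsIsolatedInvolution z) (p : ℕ) [hp : Fact p.Prime] :
    ∃ P : Sylow p G, z ∈ Subgroup.normalizer ((P : Subgroup G) : Set G) := by
  by_cases hp2 : p = 2
  · subst hp2
    have hzp : IsPGroup 2 (Subgroup.zpowers z) := by
      exact IsPGroup.of_card (n := 1) (by rw [Nat.card_zpowers, hz.1]; rfl)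
    obtain ⟨S, hS⟩ := hzp.exists_le_sylow
    exact ⟨S, Subgroup.le_normalizer (hS (Subgroup.mem_zpowers z))⟩
  · exact exists_inv_sylow_aux p hp2 (by rw [← hz.1]; exact pow_orderOf_eq_one z) (zs_of_iso hz)

/-- maximal `z`-invariant `p`-subgroups are Sylow -/
theorem sylow_of_max_inv {z : G} (hz : IsIsolatedInvolution z) {p : ℕ} [hp : Fact p.Prime] {Q : Subgroup G}
    (hQ : IsPGroup p Q) (hzQ : z ∈ Subgroup.normalizer (Q : Set G))
    (hmax : ∀ R : Subgroup G, IsPGroup p R → z ∈ Subgroup.normalizer (R : Set G) → Q ≤ R → R = Q) :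
    ∃ P : Sylow p G, (P : Subgroup G) = Q := by
  set H : Subgroup G := Subgroup.normalizer (Q : Set G) with hH
  have hzH : z ∈ H := hzQ
  obtain ⟨R, hR⟩ := exists_inv_sylow (Cfsg.Agent.Lib.IsoInv.sub_iso hz hzH) p
  have hQH : Q ≤ H := Subgroup.le_normalizer
  have hQn : (Q.subgroupOf H).Normal := Subgroup.normal_in_normalizer
  have hQR : Q.subgroupOf H ≤ R := IsPGroup.le_sylow_of_normal (N := Q.subgroupOf H) hQ.comap_subtype R
  have hRp : IsPGroup p ((R : Subgroup H).map H.subtype) := R.isPGroup'.map _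
  have hRz : z ∈ Subgroup.normalizer (((R : Subgroup H).map H.subtype : Subgroup G) : Set G) :=
    Subgroup.le_normalizer_map (f := H.subtype) (H := (R : Subgroup H)) (Subgroup.mem_map_of_mem H.subtype hR)
  have hRQ := hmax _ hRp hRz (by
    intro x hx
    exact ⟨⟨x, hQH hx⟩, hQR hx, rfl⟩)
  obtain ⟨P, hP⟩ := hQ.exists_le_sylow
  refine ⟨P, ?_⟩
  by_contra hne
  have hlt : Q < (P : Subgroup G) := lt_of_le_of_ne hP (fun h => hne h.symm)
  have h1 := lt_inf_normalizer P.isPGroup'.isNilpotent hlt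
  have h2 : IsPGroup p (((P : Subgroup G) ⊓ H).subgroupOf H) := (P.isPGroup'.to_le inf_le_left).comap_subtype
  obtain ⟨T, hT⟩ := h2.exists_le_sylow
  have h3 : Nat.card ((P : Subgroup G) ⊓ H : Subgroup G) ≤ Nat.card T := by
    have h4 : Nat.card (((P : Subgroup G) ⊓ H).subgroupOf H) = Nat.card ((P : Subgroup G) ⊓ H : Subgroup G) :=
      Nat.card_congr (Subgroup.subgroupOfEquivOfLe inf_le_right).toEquiv
    rw [← h4]
    exact Subgroup.card_le_of_le hT
  have h4 : Nat.card T = Nat.card R := by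
    obtain ⟨k, hk⟩ := MulAction.exists_smul_eq H T R
    rw [← hk]
    exact Nat.card_congr (T.equivSMul k).toEquiv
  have h5 : Nat.card ((R : Subgroup H).map H.subtype) = Nat.card R :=
    Nat.card_congr ((R : Subgroup H).equivMapOfInjective H.subtype H.subtype_injective).toEquiv.symm
  rw [hRQ] at h5
  have h6 : Nat.card Q < Nat.card ((P : Subgroup G) ⊓ H : Subgroup G) := by
    have h7 : Q ≤ (P : Subgroup G) ⊓ H := h1.le
    rcases (Subgroup.card_le_of_le h7).lt_or_eq with h8 | h8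
    · exact h8
    · exact absurd (Subgroup.eq_of_le_of_card_ge h7 h8.ge) h1.ne
  have h7 : Nat.card T = Nat.card Q := h4.trans h5.symm
  omega

/-- `z`-invariant Sylow `p`-subgroups are conjugate under `C(z)` -/
theorem inv_sylow_conj {z : G} (hz : IsIsolatedInvolution z) {p : ℕ} [hp : Fact p.Prime] (P Q : Sylow p G)
    (hP : z ∈ Subgroup.normalizer ((P : Subgroup G) : Set G)) (hQ : z ∈ Subgroup.normalizer ((Q : Subgroup G) : Set G)) :
    ∃ c ∈ Subgroup.centralizer ({z} : Set G), (P : Subgroup G).map (MulAut.conj c).toMonoidHom = Q := by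
  obtain ⟨g, hg⟩ := MulAction.exists_smul_eq G P Q
  have hgP : (P : Subgroup G).map (MulAut.conj g).toMonoidHom = Q := by rw [← hg]; rfl
  set H : Subgroup G := Subgroup.normalizer ((Q : Subgroup G) : Set G) with hH
  have hzgH : g * z * g⁻¹ ∈ H := by
    have h1 := Subgroup.le_normalizer_map (f := (MulAut.conj g).toMonoidHom) (H := (P : Subgroup G))
      (Subgroup.mem_map_of_mem _ hP)
    rw [hgP] at h1
    exact h1
  obtain ⟨n, hn, hnz⟩ := Cfsg.Agent.Lib.IsoInv.conj_in hz (H := H) hQ hzgH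
  refine ⟨n⁻¹ * g, ?_, ?_⟩
  · rw [Subgroup.mem_centralizer_singleton_iff]
    calc n⁻¹ * g * z = n⁻¹ * (g * z * g⁻¹) * n * (n⁻¹ * g) := by group
      _ = n⁻¹ * (n * z * n⁻¹) * n * (n⁻¹ * g) := by rw [hnz]
      _ = z * (n⁻¹ * g) := by group
  · have h1 : (MulAut.conj (n⁻¹ * g)).toMonoidHom = (MulAut.conj n⁻¹).toMonoidHom.comp (MulAut.conj g).toMonoidHom := by
      rw [map_mul]; rfl
    rw [h1, ← Subgroup.map_map, hgP]
    exact Subgroup.mem_normalizer_iff_map_conj_eq.mp (H.inv_mem hn)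

theorem not_dvd_relIndex_of_inv {z : G} (hz : IsIsolatedInvolution z) {p : ℕ} [hp : Fact p.Prime] (P : Sylow p G)
    (hP : z ∈ Subgroup.normalizer ((P : Subgroup G) : Set G)) :
    ¬ p ∣ ((P : Subgroup G) ⊓ Subgroup.centralizer ({z} : Set G)).relIndex (Subgroup.centralizer ({z} : Set G)) := by
  set C : Subgroup G := Subgroup.centralizer ({z} : Set G) with hC
  obtain ⟨T⟩ := (inferInstance : Nonempty (Sylow p C))
  have hTp : IsPGroup p ((T : Subgroup C).map C.subtype) := T.isPGroup'.map _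
  have hTz : z ∈ Subgroup.normalizer (((T : Subgroup C).map C.subtype : Subgroup G) : Set G) := by
    have hc : ∀ x ∈ (T : Subgroup C).map C.subtype, z * x * z⁻¹ = x := by
      rintro _ ⟨x, hx, rfl⟩
      have h1 : (x : G) * z = z * x := Subgroup.mem_centralizer_singleton_iff.mp x.2
      change z * (x : G) * z⁻¹ = x
      rw [← h1]; group
    rw [Subgroup.mem_normalizer_iff]
    intro x
    constructor
    · intro hx; rw [hc x hx]; exact hx
    · intro hx
      have h1 := hc _ hx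
      have h2 : z * x * z⁻¹ = x := by
        have h3 : z * (z * x * z⁻¹) = z * x := by
          calc z * (z * x * z⁻¹) = (z * (z * x * z⁻¹) * z⁻¹) * z := by group
            _ = z * x := by rw [h1]; group
        exact mul_left_cancel h3
      rwa [h2] at hx
  obtain ⟨M, hM⟩ := (Set.toFinite {V : Subgroup G | IsPGroup p V ∧ z ∈ Subgroup.normalizer (V : Set G) ∧
    (T : Subgroup C).map C.subtype ≤ V}).exists_maximal ⟨_, hTp, hTz, le_rfl⟩
  obtain ⟨hMp, hMz, hTM⟩ := hM.prop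
  obtain ⟨Q, hQ⟩ := sylow_of_max_inv hz hMp hMz (fun R hR hRz hMR =>
    le_antisymm (hM.le_of_ge ⟨hR, hRz, hTM.trans hMR⟩ hMR) hMR)
  obtain ⟨c, hc, hcQ⟩ := inv_sylow_conj hz P Q hP (by rw [hQ]; exact hMz)
  -- `T ≤ Q ∩ C = (P ∩ C)^c`
  have h1 : (T : Subgroup C).map C.subtype ≤ ((P : Subgroup G) ⊓ C).map (MulAut.conj c).toMonoidHom := by
    rw [Subgroup.map_inf _ _ _ (MulAut.conj c).injective]
    refine le_inf ?_ ?_
    · rw [hcQ, hQ]; exact hTM
    · have h2 : C.map (MulAut.conj c).toMonoidHom = C :=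
        Subgroup.mem_normalizer_iff_map_conj_eq.mp (Subgroup.le_normalizer hc)
      rw [h2]; exact Subgroup.map_subtype_le _
  have h2 : Nat.card (T : Subgroup C) ∣ Nat.card ((P : Subgroup G) ⊓ C : Subgroup G) := by
    have h3 := Subgroup.card_dvd_of_le h1
    rw [Nat.card_congr ((T : Subgroup C).equivMapOfInjective C.subtype C.subtype_injective).toEquiv]
    rwa [Nat.card_congr (((P : Subgroup G) ⊓ C).equivMapOfInjective (MulAut.conj c).toMonoidHom
      (MulAut.conj c).injective).toEquiv]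
  intro h3
  have h4 : ((P : Subgroup G) ⊓ C).relIndex C * Nat.card ((P : Subgroup G) ⊓ C : Subgroup G) = Nat.card C :=
    Cfsg.Agent.Lib.Basic.relIndex_mul_card inf_le_right
  have h5 : (T : Subgroup C).index * Nat.card (T : Subgroup C) = Nat.card C := Subgroup.index_mul_card _
  obtain ⟨k, hk⟩ := h2
  have h6 : ((P : Subgroup G) ⊓ C).relIndex C * k = (T : Subgroup C).index := by
    have h7 : (((P : Subgroup G) ⊓ C).relIndex C * k) * Nat.card (T : Subgroup C) =
        (T : Subgroup C).index * Nat.card (T : Subgroup C) := by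
      rw [h5, ← h4, hk]; ring
    exact Nat.eq_of_mul_eq_mul_right Nat.card_pos h7
  exact T.not_dvd_index (h6 ▸ h3.mul_right k)

theorem relIndex_eq_inverted {z : G} (hz : z * z = 1) {P : Subgroup G} (hodd : Odd (Nat.card P))
    (hP : z ∈ Subgroup.normalizer (P : Set G)) :
    (P ⊓ Subgroup.centralizer ({z} : Set G)).relIndex P = Nat.card {x : G // x ∈ P ∧ z * x * z⁻¹ = x⁻¹} := by
  have hzi : z⁻¹ = z := inv_eq_of_mul_eq_one_left hz
  have hzP : ∀ x ∈ P, z * x * z⁻¹ ∈ P := fun x hx => (Subgroup.mem_normalizer_iff.mp hP x).mp hx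
  rw [Subgroup.inf_relIndex_left]
  change Nat.card (P ⧸ (Subgroup.centralizer ({z} : Set G)).subgroupOf P) = _
  have hinv : ∀ x : G, z * (x * (z * x⁻¹ * z⁻¹)) * z⁻¹ = (x * (z * x⁻¹ * z⁻¹))⁻¹ := by
    intro x
    calc z * (x * (z * x⁻¹ * z⁻¹)) * z⁻¹ = z * x * z * x⁻¹ * (z⁻¹ * z⁻¹) := by group
      _ = z * x * z⁻¹ * x⁻¹ * 1 := by rw [hzi, hz]
      _ = _ := by group
  let f : P → {x : G // x ∈ P ∧ z * x * z⁻¹ = x⁻¹} := fun x =>
    ⟨x * (z * (x : G)⁻¹ * z⁻¹), P.mul_mem x.2 (hzP _ (P.inv_mem x.2)), hinv x⟩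
  have hf : ∀ x y : P, f x = f y ↔ x⁻¹ * y ∈ (Subgroup.centralizer ({z} : Set G)).subgroupOf P := by
    intro x y
    rw [Subgroup.mem_subgroupOf, Subgroup.mem_centralizer_singleton_iff]
    constructor
    · intro h
      have h1 : (x : G) * (z * (x : G)⁻¹ * z⁻¹) = y * (z * (y : G)⁻¹ * z⁻¹) := congrArg Subtype.val h
      change (x : G)⁻¹ * y * z = z * ((x : G)⁻¹ * y)
      calc (x : G)⁻¹ * y * z = (x : G)⁻¹ * (y * (z * (y : G)⁻¹ * z⁻¹)) * z * y := by group
        _ = (x : G)⁻¹ * ((x : G) * (z * (x : G)⁻¹ * z⁻¹)) * z * y := by rw [h1]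
        _ = z * ((x : G)⁻¹ * y) := by group
    · intro h
      change (x : G)⁻¹ * y * z = z * ((x : G)⁻¹ * y) at h
      apply Subtype.ext
      change (x : G) * (z * (x : G)⁻¹ * z⁻¹) = y * (z * (y : G)⁻¹ * z⁻¹)
      calc (x : G) * (z * (x : G)⁻¹ * z⁻¹) = x * (z * ((x : G)⁻¹ * y)) * (y : G)⁻¹ * z⁻¹ := by group
        _ = x * ((x : G)⁻¹ * y * z) * (y : G)⁻¹ * z⁻¹ := by rw [h]
        _ = _ := by group
  apply Nat.card_congr
  refine Equiv.ofBijective (fun q => Quotient.liftOn' q f ?_) ⟨?_, ?_⟩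
  · intro x y hxy
    rw [QuotientGroup.leftRel_apply] at hxy
    exact (hf x y).mpr hxy
  · intro a b
    induction a using QuotientGroup.induction_on with | _ x => ?_
    induction b using QuotientGroup.induction_on with | _ y => ?_
    intro h
    exact QuotientGroup.eq.mpr ((hf x y).mp h)
  · rintro ⟨y, hyP, hy⟩
    have hyo : Odd (orderOf y) := by
      have h1 : orderOf y ∣ Nat.card P := by
        have := orderOf_dvd_natCard (⟨y, hyP⟩ : P)
        rwa [← Subgroup.orderOf_coe] at this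
      exact Odd.of_dvd_nat hodd h1
    obtain ⟨k, hk⟩ := Cfsg.Agent.Lib.IsoInv.sqrt_odd hyo
    refine ⟨QuotientGroup.mk ⟨y ^ k, P.zpow_mem hyP k⟩, ?_⟩
    apply Subtype.ext
    change y ^ k * (z * (y ^ k)⁻¹ * z⁻¹) = y
    have h1 := Cfsg.Agent.Lib.IsoInv.inv_zpow_of hy k
    have h2 : z * (y ^ k)⁻¹ * z⁻¹ = y ^ k := by
      calc z * (y ^ k)⁻¹ * z⁻¹ = (z * y ^ k * z⁻¹)⁻¹ := by group
        _ = y ^ k := by rw [h1, inv_inv]
    rw [h2]; exact hk

/-- two commuting elements of order `p` in `p`-rank one -/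
theorem mem_zpowers_of_rank {c x : G} (hrk : PRankLE p 1 G) (hc : orderOf c = p) (hx : orderOf x = p)
    (hcx : c * x = x * c) : x ∈ Subgroup.zpowers c := by
  by_contra hxc
  set A : Subgroup G := Subgroup.zpowers c ⊔ Subgroup.zpowers x with hA
  have hnorm : Subgroup.zpowers x ≤ Subgroup.normalizer (Subgroup.zpowers c : Set G) := by
    rw [Subgroup.zpowers_le]
    have h1 : x ∈ Subgroup.centralizer (Subgroup.zpowers c : Set G) := by
      rw [Subgroup.mem_centralizer_iff]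
      intro y hy
      obtain ⟨k, rfl⟩ := Subgroup.mem_zpowers_iff.mp hy
      exact (Commute.zpow_left (show Commute c x from hcx) k)
    exact Subgroup.centralizer_le_normalizer _ h1
  have hmem : ∀ a ∈ A, ∃ i j : ℤ, a = c ^ i * x ^ j := by
    intro a ha
    obtain ⟨u, hu, v, hv, rfl⟩ := (Cfsg.Agent.Lib.Basic.mem_sup_iff_left hnorm).mp ha
    obtain ⟨i, rfl⟩ := Subgroup.mem_zpowers_iff.mp hu
    obtain ⟨j, rfl⟩ := Subgroup.mem_zpowers_iff.mp hv
    exact ⟨i, j, rfl⟩
  have hcomm : ∀ i j : ℤ, Commute (c ^ i) (x ^ j) := fun i j => (Commute.zpow_zpow (show Commute c x from hcx) i j)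
  have hAc : IsMulCommutative A := by
    refine ⟨⟨?_⟩⟩
    rintro ⟨a, ha⟩ ⟨b, hb⟩
    obtain ⟨i, j, rfl⟩ := hmem a ha
    obtain ⟨k, l, rfl⟩ := hmem b hb
    apply Subtype.ext
    change c ^ i * x ^ j * (c ^ k * x ^ l) = c ^ k * x ^ l * (c ^ i * x ^ j)
    have h1 : Commute (c ^ i * x ^ j) (c ^ k * x ^ l) :=
      Commute.mul_left (Commute.mul_right ((Commute.refl c).zpow_zpow i k) (hcomm i l))
        (Commute.mul_right (hcomm k j).symm ((Commute.refl x).zpow_zpow j l))
    exact h1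
  have hAp : ∀ a ∈ A, a ^ p = 1 := by
    intro a ha
    obtain ⟨i, j, rfl⟩ := hmem a ha
    rw [(hcomm i j).mul_pow, ← zpow_natCast, ← zpow_natCast, ← zpow_mul, ← zpow_mul, mul_comm i, mul_comm j,
      zpow_mul, zpow_mul, zpow_natCast, zpow_natCast, ← hc, pow_orderOf_eq_one, hc, ← hx, pow_orderOf_eq_one]
    simp
  have h1 := hrk A hAc hAp
  have h2 : Nat.card A = p ^ 2 := by
    rw [hA, Cfsg.Agent.Lib.Basic.card_sup_of_inf_eq_bot hnorm, Nat.card_zpowers, Nat.card_zpowers, hc, hx, sq]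
    rw [eq_bot_iff]
    intro y hy
    by_contra hy1
    have hy1' : y ≠ 1 := fun h => hy1 (Subgroup.mem_bot.mpr h)
    -- y generates both
    obtain ⟨hyc, hyx⟩ := Subgroup.mem_inf.mp hy
    apply hxc
    have h3 : Subgroup.zpowers y = Subgroup.zpowers x := by
      apply Subgroup.eq_of_le_of_card_ge ((Subgroup.zpowers_le).mpr hyx)
      rw [Nat.card_zpowers, Nat.card_zpowers, hx]
      have h4 : orderOf y ∣ p := by
        rw [← hx]
        exact orderOf_dvd_of_mem_zpowers hyx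
      rcases (Nat.dvd_prime hp.out).mp h4 with h5 | h5
      · exact absurd (orderOf_eq_one_iff.mp h5) hy1'
      · rw [h5]
    have h4 : x ∈ Subgroup.zpowers y := by rw [h3]; exact Subgroup.mem_zpowers x
    exact (Subgroup.zpowers_le.mpr hyc) h4
  rw [h2] at h1
  have h3 : p ^ 1 < p ^ 2 := Nat.pow_lt_pow_right hp.out.one_lt (by norm_num)
  omega

theorem PRankLE_sub {k : ℕ} (h : PRankLE p k G) (H : Subgroup G) : PRankLE p k H := by
  intro A hA hAp
  have h1 := h (A.map H.subtype) ⟨⟨by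
      rintro ⟨_, ⟨a, ha, rfl⟩⟩ ⟨_, ⟨b, hb, rfl⟩⟩
      have h2 := hA.is_comm.comm (⟨a, ha⟩ : A) ⟨b, hb⟩
      exact Subtype.ext (congrArg (fun t : A => ((t : H) : G)) h2)⟩⟩ (by
      rintro _ ⟨a, ha, rfl⟩
      have := hAp a ha
      exact congrArg Subtype.val this)
  rwa [← Nat.card_congr (A.equivMapOfInjective H.subtype H.subtype_injective).toEquiv] at h1

theorem sylow_cyclic_of_rank (hp2 : p ≠ 2) (hrk : PRankLE p 1 G) (P : Sylow p G) : IsCyclic (P : Subgroup G) := by
  have hrkP := PRankLE_sub hrk (P : Subgroup G)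
  apply Cfsg.Agent.Lib.PGrpC.isCyclic_of_unique hp2 P.isPGroup'
  intro x y hx hy
  haveI hnt : Nontrivial (P : Subgroup G) := by
    refine ⟨x, 1, ?_⟩
    rintro rfl
    rw [orderOf_one] at hx
    exact hp.out.one_lt.ne hx
  haveI : Nontrivial (Subgroup.center (P : Subgroup G)) := P.isPGroup'.center_nontrivial
  obtain ⟨c, hc⟩ := exists_prime_orderOf_dvd_card' (G := Subgroup.center (P : Subgroup G)) p (by
    obtain ⟨k, hk⟩ := (P.isPGroup'.to_subgroup (Subgroup.center (P : Subgroup G))).exists_card_eq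
    have hk0 : k ≠ 0 := by
      rintro rfl
      have := Finite.one_lt_card (α := Subgroup.center (P : Subgroup G))
      rw [hk] at this; simp at this
    rw [hk]; exact dvd_pow_self p hk0)
  have hcc := Subgroup.mem_center_iff.mp c.2
  have hc' : orderOf (c : (P : Subgroup G)) = p := by rw [Subgroup.orderOf_coe]; exact hc
  have h1 := mem_zpowers_of_rank hrkP hc' hx (hcc x).symm
  have h2 := mem_zpowers_of_rank hrkP hc' hy (hcc y).symm
  have h3 : Subgroup.zpowers y = Subgroup.zpowers (c : (P : Subgroup G)) := by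
    apply Subgroup.eq_of_le_of_card_ge (Subgroup.zpowers_le.mpr h2)
    rw [Nat.card_zpowers, Nat.card_zpowers, hc', hy]
  rw [h3]; exact h1

theorem inZStar_of_pNil (hP : PNil p G) {x : G} (hx : ∃ k : ℕ, orderOf x = p ^ k) (h : IsIsolated x) :
    InZStar p x := by
  have hKn : (pPrimeCore p G : Subgroup G).Normal := Cfsg.Agent.Lib.Cores.pPrimeCore_normal (G := G) p
  obtain ⟨k, hk⟩ := pNil_iff_core.mp hP
  have hq : IsPGroup p (G ⧸ pPrimeCore p G) := IsPGroup.of_card (n := k) (by rw [← hk]; rfl)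
  have h1 := iso_quot hx h (pPrimeCore p G)
  intro g
  have h2 := iso_central (p := p) h1 (R := ⊤) (hq.to_subgroup _) (Subgroup.mem_top _)
    (r := (QuotientGroup.mk g : G ⧸ pPrimeCore p G)) (Subgroup.mem_top _)
  rw [← QuotientGroup.eq_one_iff]
  change (QuotientGroup.mk g : G ⧸ pPrimeCore p G) * (QuotientGroup.mk x) * (QuotientGroup.mk g)⁻¹ * (QuotientGroup.mk x)⁻¹ = 1
  rw [← h2]; group

end Cfsg.Agent.Lib.Isol
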